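import Cfsg.Statements.S3215
import Cfsg.Agent.Lib.Helper17.Coprime
import Cfsg.Agent.Lib.Helper1.Fitting
import Cfsg.Agent.Lib.Helper1.Coprime
import Cfsg.Agent.Lib.Helper1.FpfCyclic
import Cfsg.Agent.Lib.Helper10.FrobComplement
import Cfsg.Agent.Lib.Helper13.Frobenius
import Cfsg.Agent.Lib.Helper4.Supersolvable
import Cfsg.Agent.Lib.Helper16.PReduced

set_option autoImplicit false
open Cfsg

namespace Cfsg.Agent.S3215

open Subgroup
open scoped commutatorElement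
open Cfsg.Agent.Lib.Helper1 (pCore_isPGroup le_pCore)

/-- An element of odd order and of `2`-power order is trivial. -/
theorem eq_one_of_odd_of_two_pow {G : Type*} [Group G] (g : G) (hodd : Odd (orderOf g)) {k : ℕ}
    (hk : g ^ (2 ^ k) = 1) : g = 1 := by
  have h1 : orderOf g ∣ 2 ^ k := orderOf_dvd_of_pow_eq_one hk
  have hc : Nat.Coprime (orderOf g) (2 ^ k) :=
    Nat.Coprime.pow_right k (Nat.coprime_two_left.mpr hodd).symm
  exact orderOf_eq_one_iff.mp (Nat.Coprime.eq_one_of_dvd hc h1)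

section Main

variable {H : Type*} [Group H] [Finite H]

/-- The centralizer of an involution contains no nontrivial element of odd order. -/
theorem stepA (hsol : Group.IsSolvable H) (hO : Cfsg.oddCore H = ⊥)
    (hI : ∀ t : H, orderOf t = 2 →
      Cfsg.HasNormalPComplement 2 ↥(Subgroup.centralizer ({t} : Set H)))
    (t f : H) (ht : orderOf t = 2) (hft : f * t = t * f) (hf : Odd (orderOf f)) : f = 1 := by
  haveI : Fact (Nat.Prime 2) := ⟨Nat.prime_two⟩
  haveI := hsol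
  obtain ⟨P, N, hNn, hNP⟩ := hI t ht
  have hfC : f ∈ Subgroup.centralizer ({t} : Set H) :=
    Subgroup.mem_centralizer_singleton_iff.mpr hft
  obtain ⟨k, hk⟩ := P.2.exists_card_eq
  have hidx : N.index = 2 ^ k := by rw [hNP.symm.index_eq_card]; exact hk
  have hfN : (⟨f, hfC⟩ : Subgroup.centralizer ({t} : Set H)) ∈ N := by
    haveI := hNn
    apply Cfsg.Agent.Lib.Helper13.mem_of_coprime_of_index_pow N hidx
    rw [Subgroup.orderOf_mk]
    exact (Nat.coprime_two_left.mpr hf).symm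
  have hNodd : Odd (Nat.card N) := by
    rw [← hNP.index_eq_card]
    have h2 : ¬ 2 ∣ (P : Subgroup (Subgroup.centralizer ({t} : Set H))).index := P.not_dvd_index
    exact Nat.odd_iff.mpr (Nat.two_dvd_ne_zero.mp h2)
  -- elements of `N` commute with `C_Y(t)`
  have hcomm : ∀ n : Subgroup.centralizer ({t} : Set H), n ∈ N → ∀ y ∈ Cfsg.pCore 2 H,
      y * t = t * y → (n : H) * y = y * (n : H) := by
    intro n hn y hy hyt
    have hyC : y ∈ Subgroup.centralizer ({t} : Set H) :=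
      Subgroup.mem_centralizer_singleton_iff.mpr hyt
    have h1 : ⁅(n : H), y⁆ ∈ Cfsg.pCore 2 H := by
      rw [commutatorElement_def]
      exact mul_mem ((Cfsg.pCore_normal 2 H).conj_mem y hy (n : H)) (inv_mem hy)
    obtain ⟨m, hm, hmeq⟩ : ∃ m : Subgroup.centralizer ({t} : Set H),
        m ∈ N ∧ (m : H) = ⁅(n : H), y⁆ := by
      refine ⟨n * (⟨y, hyC⟩ * n⁻¹ * ⟨y, hyC⟩⁻¹),
        N.mul_mem hn (hNn.conj_mem _ (N.inv_mem hn) _), ?_⟩
      simp [commutatorElement_def, mul_assoc]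
    have hodd : Odd (orderOf ⁅(n : H), y⁆) := by
      rw [← hmeq, Subgroup.orderOf_coe]
      have h3 : orderOf (⟨m, hm⟩ : N) ∣ Nat.card N := orderOf_dvd_natCard _
      rw [Subgroup.orderOf_mk] at h3
      exact Odd.of_dvd_nat hNodd h3
    obtain ⟨j, hj⟩ := (pCore_isPGroup (G := H) 2) ⟨_, h1⟩
    have hj' : ⁅(n : H), y⁆ ^ (2 ^ j) = 1 := congrArg Subtype.val hj
    have h4 := eq_one_of_odd_of_two_pow _ hodd hj'
    exact (commutatorElement_eq_one_iff_commute.mp h4).eq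
  -- Thompson's `A × B` lemma
  have hB : IsPGroup 2 (zpowers t) := by
    apply IsPGroup.of_card (n := 1)
    rw [Nat.card_zpowers, ht, pow_one]
  have hab : ∀ b ∈ zpowers t, f * b = b * f := by
    rintro b ⟨i, rfl⟩
    exact ((show Commute f t from hft).zpow_right i).eq
  have hYn : (Cfsg.pCore 2 H).Normal := Cfsg.pCore_normal 2 H
  have hfY : f ∈ normalizer ((Cfsg.pCore 2 H : Subgroup H) : Set H) := by
    rw [normalizer_eq_top]; exact mem_top f
  have hBY : zpowers t ≤ normalizer ((Cfsg.pCore 2 H : Subgroup H) : Set H) := by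
    rw [normalizer_eq_top]; exact le_top
  have hcent := Cfsg.Agent.Lib.Helper17.thompson_AxB (p := 2) hB
    (Nat.coprime_two_left.mpr hf).symm hab (Nat.card (Cfsg.pCore 2 H)) (Cfsg.pCore 2 H) rfl
    (pCore_isPGroup 2) hfY hBY (by
      intro x hx hxB
      exact hcomm ⟨f, hfC⟩ hfN x hx (hxB t (mem_zpowers t)).symm)
  have hfcent : f ∈ centralizer ((Cfsg.pCore 2 H : Subgroup H) : Set H) := by
    rw [mem_centralizer_iff]
    intro x hx
    exact (hcent x hx).symm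
  have hfY' : f ∈ Cfsg.pCore 2 H :=
    Cfsg.Agent.Lib.Helper1.centralizer_pCore_le 2 hO hfcent
  obtain ⟨j, hj⟩ := (pCore_isPGroup (G := H) 2) ⟨f, hfY'⟩
  exact eq_one_of_odd_of_two_pow f hf (congrArg Subtype.val hj)

/-- No nontrivial `2`-element commutes with a nontrivial element of odd order. -/
theorem stepA' (hsol : Group.IsSolvable H) (hO : Cfsg.oddCore H = ⊥)
    (hI : ∀ t : H, orderOf t = 2 →
      Cfsg.HasNormalPComplement 2 ↥(Subgroup.centralizer ({t} : Set H)))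
    (u f : H) (hu1 : u ≠ 1) (hu : ∃ k : ℕ, u ^ (2 ^ k) = 1) (huf : u * f = f * u)
    (hf : Odd (orderOf f)) : f = 1 := by
  obtain ⟨k, hk⟩ := hu
  obtain ⟨j, -, hj⟩ := (Nat.dvd_prime_pow Nat.prime_two).mp (orderOf_dvd_of_pow_eq_one hk)
  have hj0 : j ≠ 0 := by
    rintro rfl
    rw [pow_zero, orderOf_eq_one_iff] at hj
    exact hu1 hj
  have h2 : 2 ∣ orderOf u := by rw [hj]; exact dvd_pow_self 2 hj0
  have h0 : orderOf u ≠ 0 := by rw [hj]; positivity
  have ht : orderOf (u ^ (orderOf u / 2)) = 2 := orderOf_pow_orderOf_div h0 h2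
  refine stepA hsol hO hI (u ^ (orderOf u / 2)) f ht ?_ hf
  exact ((show Commute u f from huf).pow_left _).symm.eq

/-- A `2`-power dividing an odd number is `1`. -/
theorem eq_one_of_dvd_two_pow_of_dvd_odd {a k n : ℕ} (h1 : a ∣ 2 ^ k) (h2 : a ∣ n) (hn : Odd n) :
    a = 1 := by
  have hc : Nat.Coprime (2 ^ k) n := Nat.Coprime.pow_left k (Nat.coprime_two_left.mpr hn)
  exact Nat.eq_one_of_dvd_coprimes hc h1 h2

/-- A normal subgroup of odd order lies in every Hall `2'`-subgroup. -/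
theorem le_of_odd_normal {Q : Type*} [Group Q] [Finite Q] (Xb N : Subgroup Q) [N.Normal]
    (hX : Odd (Nat.card Xb)) (hidx : ∃ k : ℕ, Xb.index = 2 ^ k) (hN : Odd (Nat.card N)) :
    N ≤ Xb := by
  obtain ⟨k, hk⟩ := hidx
  have h1 : Nat.card ↥(Xb ⊔ N) ∣ Nat.card Xb * Nat.card N :=
    Cfsg.Agent.Lib.Helper1.card_sup_dvd_of_normal Xb N
  have hodd : Odd (Nat.card ↥(Xb ⊔ N)) := Odd.of_dvd_nat (hX.mul hN) h1
  have h2 : Xb.relIndex (Xb ⊔ N) ∣ 2 ^ k := hk ▸ Subgroup.relIndex_dvd_index_of_le le_sup_left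
  have h3 : Xb.relIndex (Xb ⊔ N) ∣ Nat.card ↥(Xb ⊔ N) := Subgroup.relIndex_dvd_card _ _
  have h4 : Xb.relIndex (Xb ⊔ N) = 1 := eq_one_of_dvd_two_pow_of_dvd_odd h2 h3 hodd
  exact le_sup_right.trans (Subgroup.relIndex_eq_one.mp h4)

/-- Elements of a subgroup of odd order have odd order. -/
theorem odd_orderOf_of_mem {Q : Type*} [Group Q] [Finite Q] {Xb : Subgroup Q}
    (hX : Odd (Nat.card Xb)) {g : Q} (hg : g ∈ Xb) : Odd (orderOf g) := by
  have h3 : orderOf (⟨g, hg⟩ : Xb) ∣ Nat.card Xb := orderOf_dvd_natCard _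
  rw [Subgroup.orderOf_mk] at h3
  exact Odd.of_dvd_nat hX h3

/-- Every `r`-subgroup of `X` is cyclic. -/
theorem isCyclic_of_le_X (hsol : Group.IsSolvable H) (hO : Cfsg.oddCore H = ⊥)
    (hI : ∀ t : H, orderOf t = 2 →
      Cfsg.HasNormalPComplement 2 ↥(Subgroup.centralizer ({t} : Set H)))
    (X : Subgroup H) (hXodd : Odd (Nat.card X)) (r : ℕ) [Fact r.Prime] (R : Subgroup H)
    (hRX : R ≤ X) (hR : IsPGroup r R) : IsCyclic R := by
  haveI : Fact (Nat.Prime 2) := ⟨Nat.prime_two⟩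
  haveI := hsol
  have htriv : (∀ g ∈ R, g = 1) → IsCyclic R := by
    intro h
    haveI : Subsingleton R := ⟨fun a b => Subtype.ext ((h a a.2).trans (h b b.2).symm)⟩
    exact isCyclic_of_subsingleton
  by_cases hY : Cfsg.pCore 2 H = ⊥
  · apply htriv
    intro g _
    have h1 : g ∈ centralizer ((Cfsg.pCore 2 H : Subgroup H) : Set H) := by
      rw [hY, mem_centralizer_iff]
      intro h hh
      rw [SetLike.mem_coe, mem_bot] at hh
      rw [hh, one_mul, mul_one]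
    have h2 := Cfsg.Agent.Lib.Helper1.centralizer_pCore_le 2 hO h1
    rwa [hY, mem_bot] at h2
  by_cases hr2 : r = 2
  · apply htriv
    intro g hg
    obtain ⟨k, hk⟩ := hR ⟨g, hg⟩
    have hk' : g ^ (r ^ k) = 1 := congrArg Subtype.val hk
    rw [hr2] at hk'
    exact eq_one_of_odd_of_two_pow g (odd_orderOf_of_mem hXodd (hRX hg)) hk'
  · have hrK : ¬ r ∣ Nat.card (Cfsg.pCore 2 H) := by
      obtain ⟨m, hm⟩ := (pCore_isPGroup (G := H) 2).exists_card_eq
      rw [hm]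
      intro h
      have := (Nat.prime_dvd_prime_iff_eq (Fact.out : r.Prime) Nat.prime_two).mp
        ((Fact.out : r.Prime).dvd_of_dvd_pow h)
      exact hr2 this
    have hSK : R ≤ normalizer ((Cfsg.pCore 2 H : Subgroup H) : Set H) := by
      rw [normalizer_eq_top]; exact le_top
    rcases Cfsg.Agent.Lib.Helper10.isCyclic_or_quaternion_of_fpf R (Cfsg.pCore 2 H) hR hY hSK hrK
      (by
        intro s hs hs1 k hk hsk
        by_contra hk1
        obtain ⟨j, hj⟩ := (pCore_isPGroup (G := H) 2) ⟨k, hk⟩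
        exact hs1 (stepA' hsol hO hI k s hk1 ⟨j, congrArg Subtype.val hj⟩ hsk.symm
          (odd_orderOf_of_mem hXodd (hRX hs)))) with h | ⟨h, -⟩
    · exact h
    · exact absurd h hr2

/-- Key fixed-point-freeness in the quotient: a nontrivial `2`-element of `H / O₂(H)` commutes
with no nontrivial element of the image of `X`. -/
theorem fpf_quotient (hsol : Group.IsSolvable H) (hO : Cfsg.oddCore H = ⊥)
    (hI : ∀ t : H, orderOf t = 2 →
      Cfsg.HasNormalPComplement 2 ↥(Subgroup.centralizer ({t} : Set H)))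
    (X : Subgroup H) (hXodd : Odd (Nat.card X))
    (Y : Subgroup H) [hYn : Y.Normal] (hYp : IsPGroup 2 Y)
    (sb : H ⧸ Y) (hsb1 : sb ≠ 1) (hsb : ∃ k : ℕ, sb ^ (2 ^ k) = 1)
    (f : H) (hfX : f ∈ X)
    (hcomm : (QuotientGroup.mk' Y f) * sb = sb * (QuotientGroup.mk' Y f)) :
    f = 1 := by
  haveI : Fact (Nat.Prime 2) := ⟨Nat.prime_two⟩
  obtain ⟨s₀, rfl⟩ := QuotientGroup.mk'_surjective Y sb
  obtain ⟨k₀, hk₀⟩ := hsb
  obtain ⟨R, hRdef⟩ : ∃ R : Subgroup H, R = (zpowers (QuotientGroup.mk' Y s₀)).comap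
    (QuotientGroup.mk' Y) := ⟨_, rfl⟩
  have hs₀R : s₀ ∈ R := by rw [hRdef, mem_comap]; exact mem_zpowers _
  have hYR : Y ≤ R := by
    intro y hy
    rw [hRdef, mem_comap]
    have : QuotientGroup.mk' Y y = 1 := (QuotientGroup.eq_one_iff y).mpr hy
    rw [this]; exact one_mem _
  have hRp : ∀ g ∈ R, ∃ k : ℕ, g ^ (2 ^ k) = 1 := by
    intro g hg
    rw [hRdef, mem_comap] at hg
    obtain ⟨i, hi⟩ := hg
    have h1 : (QuotientGroup.mk' Y g) ^ (2 ^ k₀) = 1 := by
      rw [← hi]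
      show ((QuotientGroup.mk' Y s₀) ^ i) ^ (2 ^ k₀) = 1
      rw [← zpow_natCast, ← zpow_mul, mul_comm, zpow_mul, zpow_natCast, hk₀, one_zpow]
    rw [← map_pow] at h1
    have h2 : g ^ (2 ^ k₀) ∈ Y := (QuotientGroup.eq_one_iff _).mp h1
    obtain ⟨j, hj⟩ := hYp ⟨_, h2⟩
    have hj' : (g ^ (2 ^ k₀)) ^ (2 ^ j) = 1 := congrArg Subtype.val hj
    exact ⟨k₀ + j, by rw [pow_add, pow_mul]; exact hj'⟩
  have hRP : IsPGroup 2 R := by
    rintro ⟨g, hg⟩
    obtain ⟨k, hk⟩ := hRp g hg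
    exact ⟨k, Subtype.ext (by rw [Subgroup.coe_pow]; exact hk)⟩
  have hfodd : Odd (orderOf f) := odd_orderOf_of_mem hXodd hfX
  -- `f` normalizes `R`
  have hcommz : ∀ q ∈ zpowers (QuotientGroup.mk' Y s₀),
      QuotientGroup.mk' Y f * q = q * QuotientGroup.mk' Y f := by
    rintro q ⟨i, rfl⟩
    exact ((show Commute (QuotientGroup.mk' Y f) (QuotientGroup.mk' Y s₀) from hcomm).zpow_right
      i).eq
  have hfR : zpowers f ≤ normalizer (R : Set H) := by
    rw [zpowers_le, mem_normalizer_iff]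
    intro g
    rw [hRdef, mem_comap, mem_comap, map_mul, map_mul, map_inv]
    constructor
    · intro hg
      rw [hcommz _ hg, mul_assoc, mul_inv_cancel, mul_one]; exact hg
    · intro hg
      have h1 := hcommz _ hg
      have h2 : QuotientGroup.mk' Y g = (QuotientGroup.mk' Y f)⁻¹ *
          (QuotientGroup.mk' Y f * QuotientGroup.mk' Y g * (QuotientGroup.mk' Y f)⁻¹) *
          QuotientGroup.mk' Y f := by group
      rw [h2, mul_assoc, ← h1, ← mul_assoc, inv_mul_cancel, one_mul]; exact hg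
  have hact : Cfsg.Agent.Lib.Helper1.CoprimeAct (zpowers f) R := by
    refine ⟨hfR, ?_, Or.inl ?_⟩
    · obtain ⟨m, hm⟩ := hRP.exists_card_eq
      rw [hm, Nat.card_zpowers]
      exact Nat.Coprime.pow_right m (Nat.coprime_two_left.mpr hfodd).symm
    · exact Group.isSolvable_of_comm (fun a b => by
        obtain ⟨a, i, rfl⟩ := a
        obtain ⟨b, j, rfl⟩ := b
        apply Subtype.ext
        show f ^ i * f ^ j = f ^ j * f ^ i
        rw [← zpow_add, ← zpow_add, add_comm])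
  have hYA : zpowers f ≤ normalizer (Y : Set H) := by
    rw [normalizer_eq_top]; exact le_top
  obtain ⟨u, huY, hv⟩ := hact.exists_mul_mem_centralizer hYR hYA s₀ hs₀R (by
    rintro a ⟨i, rfl⟩
    apply (QuotientGroup.eq_one_iff _).mp
    have h1 := ((show Commute (QuotientGroup.mk' Y f) (QuotientGroup.mk' Y s₀) from hcomm).zpow_left
      i).eq
    show QuotientGroup.mk' Y (s₀⁻¹ * (f ^ i * s₀ * (f ^ i)⁻¹)) = 1
    rw [map_mul, map_inv, map_mul, map_mul, map_inv, map_zpow, h1]; group)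
  obtain ⟨hvR, hvC⟩ := mem_inf.mp hv
  have hv1 : s₀ * u ≠ 1 := by
    intro h
    apply hsb1
    have hu1 : QuotientGroup.mk' Y u = 1 := (QuotientGroup.eq_one_iff u).mpr huY
    have : QuotientGroup.mk' Y (s₀ * u) = QuotientGroup.mk' Y s₀ := by
      rw [map_mul, hu1, mul_one]
    rw [← this, h, map_one]
  have hvf : (s₀ * u) * f = f * (s₀ * u) :=
    ((mem_centralizer_iff.mp hvC) f (mem_zpowers f)).symm
  exact stepA' hsol hO hI (s₀ * u) f hv1 (hRp _ hvR) hvf hfodd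

/-- The structure of `H / O₂(H)`: `X O₂(H)` is normal with cyclic `2`-group quotient. -/
theorem quotient_part (hsol : Group.IsSolvable H) (hO : Cfsg.oddCore H = ⊥)
    (hI : ∀ t : H, orderOf t = 2 →
      Cfsg.HasNormalPComplement 2 ↥(Subgroup.centralizer ({t} : Set H)))
    (X : Subgroup H) (hXodd : Odd (Nat.card X)) (hXidx : ∃ k : ℕ, X.index = 2 ^ k) :
    (X ⊔ Cfsg.pCore 2 H).Normal ∧
      ∀ hN : (X ⊔ Cfsg.pCore 2 H).Normal, IsCyclic (H ⧸ (X ⊔ Cfsg.pCore 2 H)) ∧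
        IsPGroup 2 (H ⧸ (X ⊔ Cfsg.pCore 2 H)) := by
  classical
  haveI : Fact (Nat.Prime 2) := ⟨Nat.prime_two⟩
  haveI := hsol
  haveI hYn : (Cfsg.pCore 2 H).Normal := Cfsg.pCore_normal 2 H
  have hYp : IsPGroup 2 (Cfsg.pCore 2 H) := pCore_isPGroup 2
  have hπs : Function.Surjective (QuotientGroup.mk' (Cfsg.pCore 2 H)) :=
    QuotientGroup.mk'_surjective _
  -- `O₂(H / O₂(H)) = 1`
  have hQ1 : Cfsg.pCore 2 (H ⧸ Cfsg.pCore 2 H) = ⊥ := by
    apply Cfsg.Agent.Lib.Helper16.pCore_quotient_eq_bot_of (Cfsg.pCore 2 H)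
    intro D hD hDp
    apply le_pCore hD
    rintro ⟨d, hd⟩
    obtain ⟨k, hk⟩ := hDp d hd
    obtain ⟨j, hj⟩ := hYp ⟨_, hk⟩
    have hj' : (d ^ 2 ^ k) ^ 2 ^ j = 1 := congrArg Subtype.val hj
    refine ⟨k + j, Subtype.ext ?_⟩
    rw [Subgroup.coe_pow, pow_add, pow_mul]; exact hj'
  -- the image of `X`
  obtain ⟨Xb, hXbdef⟩ : ∃ Xb : Subgroup (H ⧸ Cfsg.pCore 2 H),
      Xb = X.map (QuotientGroup.mk' (Cfsg.pCore 2 H)) := ⟨_, rfl⟩
  have hXbodd : Odd (Nat.card Xb) := by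
    rw [hXbdef]; exact Odd.of_dvd_nat hXodd (Subgroup.card_map_dvd _ _)
  have hXbidx : ∃ j : ℕ, Xb.index = 2 ^ j := by
    obtain ⟨k, hk⟩ := hXidx
    have h1 : Xb.index ∣ 2 ^ k := by
      rw [hXbdef, ← hk]; exact Subgroup.index_map_dvd X hπs
    obtain ⟨j, -, hj⟩ := (Nat.dvd_prime_pow Nat.prime_two).mp h1
    exact ⟨j, hj⟩
  have hXbmem : ∀ q ∈ Xb, ∃ x ∈ X, QuotientGroup.mk' (Cfsg.pCore 2 H) x = q := by
    intro q hq
    rw [hXbdef] at hq
    exact hq
  have hXY : ∀ g ∈ X, g ∈ Cfsg.pCore 2 H → g = 1 := by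
    intro g hgX hgY
    obtain ⟨j, hj⟩ := hYp ⟨g, hgY⟩
    exact eq_one_of_odd_of_two_pow g (odd_orderOf_of_mem hXodd hgX) (congrArg Subtype.val hj)
  -- the Fitting subgroup of the quotient
  obtain ⟨F, hFdef⟩ : ∃ F : Subgroup (H ⧸ Cfsg.pCore 2 H),
      F = Cfsg.fittingSubgroup (H ⧸ Cfsg.pCore 2 H) := ⟨_, rfl⟩
  haveI hFn : F.Normal := hFdef ▸ Cfsg.Agent.Lib.Helper1.fittingSubgroup_normal
  have hFX : F ≤ Xb := by
    rw [hFdef, Cfsg.Agent.Lib.Helper1.fittingSubgroup_eq_iSup_primes]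
    refine iSup_le fun r => ?_
    by_cases hr2 : (r : ℕ) = 2
    · rw [hr2, hQ1]; exact bot_le
    · haveI : Fact (r : ℕ).Prime := ⟨r.2⟩
      haveI : (Cfsg.pCore (r : ℕ) (H ⧸ Cfsg.pCore 2 H)).Normal := Cfsg.pCore_normal _ _
      apply le_of_odd_normal Xb _ hXbodd hXbidx
      obtain ⟨m, hm⟩ := (pCore_isPGroup (G := H ⧸ Cfsg.pCore 2 H) (r : ℕ)).exists_card_eq
      rw [hm]
      exact (r.2.odd_of_ne_two hr2).pow
  have hFnil : Group.IsNilpotent F :=
    hFdef ▸ Cfsg.Agent.Lib.Helper1.fittingSubgroup_isNilpotent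
  -- subgroups of prime power order of the image of `X` are cyclic
  have hcyc : ∀ (r : ℕ) [Fact r.Prime] (Rb : Subgroup (H ⧸ Cfsg.pCore 2 H)), Rb ≤ Xb →
      IsPGroup r Rb → IsCyclic Rb := by
    intro r _ Rb hRbX hRb
    obtain ⟨R, hRdef⟩ : ∃ R : Subgroup H,
        R = X ⊓ Rb.comap (QuotientGroup.mk' (Cfsg.pCore 2 H)) := ⟨_, rfl⟩
    have hRX : R ≤ X := hRdef ▸ inf_le_left
    have hRp : IsPGroup r R := by
      rintro ⟨g, hg⟩
      have hg' : g ∈ X ⊓ Rb.comap (QuotientGroup.mk' (Cfsg.pCore 2 H)) := hRdef ▸ hg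
      obtain ⟨k, hk⟩ := hRb ⟨_, hg'.2⟩
      have hk' : (QuotientGroup.mk' (Cfsg.pCore 2 H) g) ^ (r ^ k) = 1 := congrArg Subtype.val hk
      rw [← map_pow] at hk'
      have h1 : g ^ (r ^ k) ∈ Cfsg.pCore 2 H := (QuotientGroup.eq_one_iff _).mp hk'
      refine ⟨k, Subtype.ext ?_⟩
      rw [Subgroup.coe_pow]
      exact hXY _ (X.pow_mem hg'.1 _) h1
    haveI hRc : IsCyclic R := isCyclic_of_le_X hsol hO hI X hXodd r R hRX hRp
    let φ : R →* Rb := ((QuotientGroup.mk' (Cfsg.pCore 2 H)).comp R.subtype).codRestrict Rb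
      (fun g => by
        have hg' : (g : H) ∈ X ⊓ Rb.comap (QuotientGroup.mk' (Cfsg.pCore 2 H)) := hRdef ▸ g.2
        exact hg'.2)
    have hφ : Function.Surjective φ := by
      rintro ⟨q, hq⟩
      obtain ⟨x, hx, rfl⟩ := hXbmem q (hRbX hq)
      have hxR : x ∈ R := by rw [hRdef]; exact ⟨hx, hq⟩
      exact ⟨⟨x, hxR⟩, Subtype.ext rfl⟩
    exact isCyclic_of_surjective φ hφ
  -- `F` is cyclic
  haveI hFc : IsCyclic F := by
    apply Cfsg.Agent.Lib.Helper10.isCyclic_of_isNilpotent_of_sylow_cyclic hFnil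
    intro r _ S
    have h1 : IsCyclic ((S : Subgroup F).map F.subtype) :=
      hcyc r _ (by
        rintro _ ⟨g, -, rfl⟩
        exact hFX g.2) (S.2.map _)
    have e := Subgroup.equivMapOfInjective (S : Subgroup F) F.subtype F.subtype_injective
    exact isCyclic_of_surjective e.symm e.symm.surjective
  -- the commutator subgroup lies in the image of `X`
  have hQ' : commutator (H ⧸ Cfsg.pCore 2 H) ≤ Xb := by
    refine le_trans (Cfsg.Agent.Lib.Helper4.commutator_le_centralizer_of_cyclic_normal F) ?_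
    refine le_trans ?_ hFX
    rw [hFdef]
    exact Cfsg.Agent.Lib.Helper1.centralizer_fittingSubgroup_le
  have hcommem : ∀ a b : H ⧸ Cfsg.pCore 2 H, ⁅a, b⁆ ∈ Xb := fun a b =>
    hQ' (by rw [commutator_def]; exact commutator_mem_commutator (mem_top a) (mem_top b))
  have hXbn : Xb.Normal := ⟨fun x hx g => by
    have e : g * x * g⁻¹ = ⁅g, x⁆ * x := by rw [commutatorElement_def]; group
    rw [e]
    exact Xb.mul_mem (hcommem g x) hx⟩
  have hsupeq : X ⊔ Cfsg.pCore 2 H = Xb.comap (QuotientGroup.mk' (Cfsg.pCore 2 H)) := by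
    rw [hXbdef, Subgroup.comap_map_eq, QuotientGroup.ker_mk']
  have hnormal : (X ⊔ Cfsg.pCore 2 H).Normal := by
    rw [hsupeq]; exact hXbn.comap _
  refine ⟨hnormal, fun hN => ⟨?_, ?_⟩⟩
  · -- cyclic
    have hXle : X ≤ X ⊔ Cfsg.pCore 2 H := le_sup_left
    have hYle : Cfsg.pCore 2 H ≤ (X ⊔ Cfsg.pCore 2 H).comap (MonoidHom.id H) := by
      intro y hy
      exact mem_sup_right hy
    let ψ : (H ⧸ Cfsg.pCore 2 H) →* (H ⧸ (X ⊔ Cfsg.pCore 2 H)) :=
      QuotientGroup.map (Cfsg.pCore 2 H) (X ⊔ Cfsg.pCore 2 H) (MonoidHom.id H) hYle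
    have hψ : ∀ h : H, ψ (QuotientGroup.mk' (Cfsg.pCore 2 H) h) =
        QuotientGroup.mk' (X ⊔ Cfsg.pCore 2 H) h := fun h => rfl
    have hψX : ∀ q ∈ Xb, ψ q = 1 := by
      intro q hq
      obtain ⟨x, hx, rfl⟩ := hXbmem q hq
      rw [hψ]
      exact (QuotientGroup.eq_one_iff x).mpr (hXle hx)
    by_cases hF : F = ⊥
    · -- the quotient is trivial
      have htriv : ∀ q : H ⧸ Cfsg.pCore 2 H, q = 1 := by
        intro q
        have h1 : q ∈ centralizer ((Cfsg.fittingSubgroup (H ⧸ Cfsg.pCore 2 H) :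
            Subgroup (H ⧸ Cfsg.pCore 2 H)) : Set (H ⧸ Cfsg.pCore 2 H)) := by
          rw [← hFdef, hF, mem_centralizer_iff]
          intro h hh
          rw [SetLike.mem_coe, mem_bot] at hh
          rw [hh, one_mul, mul_one]
        have h2 := Cfsg.Agent.Lib.Helper1.centralizer_fittingSubgroup_le h1
        rwa [← hFdef, hF, mem_bot] at h2
      haveI : Subsingleton (H ⧸ (X ⊔ Cfsg.pCore 2 H)) := by
        refine ⟨fun a b => ?_⟩
        obtain ⟨a, rfl⟩ := QuotientGroup.mk'_surjective _ a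
        obtain ⟨b, rfl⟩ := QuotientGroup.mk'_surjective _ b
        rw [← hψ, ← hψ, htriv (QuotientGroup.mk' _ a), htriv (QuotientGroup.mk' _ b)]
      exact isCyclic_of_subsingleton
    · -- a Sylow `2`-subgroup of the quotient acts fixed-point-freely on `F`
      obtain ⟨T⟩ : Nonempty (Sylow 2 (H ⧸ Cfsg.pCore 2 H)) := inferInstance
      have hTX : ∀ q, q ∈ (T : Subgroup (H ⧸ Cfsg.pCore 2 H)) → q ∈ Xb → q = 1 := by
        intro q hqT hqX
        obtain ⟨j, hj⟩ := T.2 ⟨q, hqT⟩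
        exact eq_one_of_odd_of_two_pow q (odd_orderOf_of_mem hXbodd hqX)
          (congrArg Subtype.val hj)
      haveI hTc : IsMulCommutative (T : Subgroup (H ⧸ Cfsg.pCore 2 H)) :=
        IsMulCommutative.of_setLike_mul_comm fun a ha b hb => by
          have h1 : ⁅a, b⁆ = 1 := hTX _ (commutator_mem_commutator ha hb |> fun h => by
            have : ⁅(T : Subgroup (H ⧸ Cfsg.pCore 2 H)), (T : Subgroup (H ⧸ Cfsg.pCore 2 H))⁆
                ≤ (T : Subgroup (H ⧸ Cfsg.pCore 2 H)) := Subgroup.commutator_le_self _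
            exact this h) (hcommem a b)
          exact (commutatorElement_eq_one_iff_commute.mp h1).eq
      have hTN : (T : Subgroup (H ⧸ Cfsg.pCore 2 H)) ≤ normalizer (F : Set (H ⧸ Cfsg.pCore 2 H)) := by
        rw [normalizer_eq_top]; exact le_top
      have hfpf : ∀ a ∈ (T : Subgroup (H ⧸ Cfsg.pCore 2 H)), a ≠ 1 →
          F ⊓ centralizer {a} = ⊥ := by
        intro a ha ha1
        rw [eq_bot_iff]
        rintro q ⟨hqF, hqC⟩
        rw [mem_bot]
        obtain ⟨x, hx, rfl⟩ := hXbmem q (hFX hqF)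
        have hcomm : QuotientGroup.mk' (Cfsg.pCore 2 H) x * a =
            a * QuotientGroup.mk' (Cfsg.pCore 2 H) x :=
          Subgroup.mem_centralizer_singleton_iff.mp hqC
        obtain ⟨j, hj⟩ := T.2 ⟨a, ha⟩
        have hx1 := fpf_quotient hsol hO hI X hXodd (Cfsg.pCore 2 H) hYp a ha1
          ⟨j, congrArg Subtype.val hj⟩ x hx hcomm
        rw [hx1, map_one]
      haveI hTcyc : IsCyclic (T : Subgroup (H ⧸ Cfsg.pCore 2 H)) :=
        Cfsg.Agent.Lib.Helper1.isCyclic_of_fpf_of_comm _ F hF hTN hfpf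
      -- `T` maps onto `H / X O₂(H)`
      have hTsup : (T : Subgroup (H ⧸ Cfsg.pCore 2 H)) ⊔ Xb = ⊤ := by
        rw [← Subgroup.index_eq_one]
        obtain ⟨j, hj⟩ := hXbidx
        have h1 : ((T : Subgroup (H ⧸ Cfsg.pCore 2 H)) ⊔ Xb).index ∣ 2 ^ j :=
          hj ▸ Subgroup.index_dvd_of_le le_sup_right
        have h2 : ((T : Subgroup (H ⧸ Cfsg.pCore 2 H)) ⊔ Xb).index ∣
            (T : Subgroup (H ⧸ Cfsg.pCore 2 H)).index := Subgroup.index_dvd_of_le le_sup_left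
        have h3 : Odd (T : Subgroup (H ⧸ Cfsg.pCore 2 H)).index :=
          Nat.odd_iff.mpr (Nat.two_dvd_ne_zero.mp T.not_dvd_index)
        exact eq_one_of_dvd_two_pow_of_dvd_odd h1 h2 h3
      let θ : (T : Subgroup (H ⧸ Cfsg.pCore 2 H)) →* (H ⧸ (X ⊔ Cfsg.pCore 2 H)) :=
        ψ.comp (T : Subgroup (H ⧸ Cfsg.pCore 2 H)).subtype
      have hθ : Function.Surjective θ := by
        intro z
        obtain ⟨h, rfl⟩ := QuotientGroup.mk'_surjective _ z
        have hmem : QuotientGroup.mk' (Cfsg.pCore 2 H) h ∈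
            (T : Subgroup (H ⧸ Cfsg.pCore 2 H)) ⊔ Xb := by rw [hTsup]; exact mem_top _
        haveI := hXbn
        rw [← SetLike.mem_coe, Subgroup.mul_normal] at hmem
        obtain ⟨t, ht, x, hx, htx⟩ := hmem
        refine ⟨⟨t, ht⟩, ?_⟩
        show ψ t = _
        rw [← hψ, ← htx, map_mul, hψX x hx, mul_one]
      exact isCyclic_of_surjective θ hθ
  · -- a `2`-group
    obtain ⟨k, hk⟩ := hXidx
    have h1 : (X ⊔ Cfsg.pCore 2 H).index ∣ 2 ^ k := hk ▸ Subgroup.index_dvd_of_le le_sup_left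
    obtain ⟨j, -, hj⟩ := (Nat.dvd_prime_pow Nat.prime_two).mp h1
    apply IsPGroup.of_card (n := j)
    rw [← Subgroup.index_eq_card]; exact hj

end Main

theorem result {H : Type*} [Group H] [Finite H] (hsol : Group.IsSolvable H)
    (hO : Cfsg.oddCore H = ⊥)
    (hI : ∀ t : H, orderOf t = 2 → Cfsg.HasNormalPComplement 2 ↥(Subgroup.centralizer ({t} : Set H)))
    (X : Subgroup H) (hXodd : Odd (Nat.card X)) (hXidx : ∃ k : ℕ, X.index = 2 ^ k) :
    (∀ x ∈ X, x ≠ 1 → ∀ y ∈ Cfsg.pCore 2 H, y ≠ 1 → x * y ≠ y * x) ∧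
      (∀ (p : ℕ) [Fact p.Prime] (P : Sylow p ↥X), IsCyclic ↥(P : Subgroup ↥X)) ∧
      (X ⊔ Cfsg.pCore 2 H).Normal ∧
      ∀ hN : (X ⊔ Cfsg.pCore 2 H).Normal, IsCyclic (H ⧸ (X ⊔ Cfsg.pCore 2 H)) ∧ IsPGroup 2 (H ⧸ (X ⊔ Cfsg.pCore 2 H)) := by
  obtain ⟨h3, h4⟩ := quotient_part hsol hO hI X hXodd hXidx
  refine ⟨?_, ?_, h3, h4⟩
  · intro x hx hx1 y hy hy1 hxy
    obtain ⟨j, hj⟩ := (pCore_isPGroup (G := H) 2) ⟨y, hy⟩
    exact hx1 (stepA' hsol hO hI y x hy1 ⟨j, congrArg Subtype.val hj⟩ hxy.symm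
      (odd_orderOf_of_mem hXodd hx))
  · intro p _ P
    have h1 : IsCyclic ((P : Subgroup X).map X.subtype) :=
      isCyclic_of_le_X hsol hO hI X hXodd p _ (by
        rintro _ ⟨g, -, rfl⟩
        exact g.2) (P.2.map _)
    have e := Subgroup.equivMapOfInjective (P : Subgroup X) X.subtype X.subtype_injective
    exact isCyclic_of_surjective e.symm e.symm.surjective

end Cfsg.Agent.S3215
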