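import Cfsg.Statements.S3222
import Cfsg.Agent.Lib.Helper19.Z2S4I
import Cfsg.Agent.S3669

set_option autoImplicit false
open Cfsg

namespace Cfsg.Agent.S3222

/-- Let G be a finite group of even order such that (1) some involution t lying in the centre of a Sylow 2-subgroup of G has C_G(t) ≅ Z₂ × S₄, and (2) every Sylow 2-subgroup S of G satisfies C_G(S′) = S, where S′ is the derived subgroup of S. Then G = C_G(t) if G is solvable, and G ≅ S₆ otherwise. -/
theorem result {G : Type*} [Group G] [Finite G] (hev : Even (Nat.card G))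
    (t : G) (ht : orderOf t = 2) (T : Sylow 2 G) (htT : t ∈ (T : Subgroup G)) (htc : ∀ s ∈ (T : Subgroup G), s * t = t * s)
    (e : ↥(Subgroup.centralizer ({t} : Set G)) ≃* (Multiplicative (ZMod 2) × Equiv.Perm (Fin 4)))
    (h2 : ∀ S : Sylow 2 G, Subgroup.centralizer ((⁅(S : Subgroup G), (S : Subgroup G)⁆ : Subgroup G) : Set G) = (S : Subgroup G)) :
    (Group.IsSolvable G → Subgroup.centralizer ({t} : Set G) = ⊤) ∧
      (¬ Group.IsSolvable G → Nonempty (G ≃* Equiv.Perm (Fin 6))) := by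
  have ht1 : t ≠ 1 := by
    intro h
    rw [h, orderOf_one] at ht
    omega
  obtain ⟨F, hF, hFa⟩ := Cfsg.Agent.Lib.Helper19.Z2S4.exists_setup t ht1 T htc e (h2 T)
  obtain ⟨M, hMn, hM2, htM⟩ := hF.exists_index_two
  have c : Cfsg.Agent.Lib.Helper19.Z2S4.Idx F T M := ⟨hF, hMn, hM2, htM⟩
  rcases c.cases_M with ⟨⟨ε⟩⟩ | ⟨⟨ε⟩⟩ | ⟨hs, hcard, hinv⟩
  · -- `M ≅ S₄`: `G = C(t)` has order 48
    have h48 := c.case_S4 ε
    have hC : Subgroup.centralizer ({t} : Set G) = ⊤ := by
      rw [← hFa]
      apply Subgroup.eq_top_of_card_eq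
      rw [hF.card_centralizer_t, h48]
    refine ⟨fun _ => hC, fun hns => ?_⟩
    exfalso
    apply hns
    exact Cfsg.Agent.S3669.isSolvable_of_card_lt 48 G h48 (by norm_num)
  · exact (c.case_S5 ε).elim
  · have hns : ¬ Group.IsSolvable G := by
      intro hsol
      haveI := hsol
      haveI := hs
      have hMs : Group.IsSolvable ↥M := inferInstance
      have hcomm := (IsSimpleGroup.comm_iff_isSolvable (G := ↥M)).mpr hMs
      obtain ⟨a, ha, b, hb, hab⟩ := c.exists_not_comm
      apply hab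
      exact congrArg Subtype.val (hcomm ⟨a, ha⟩ ⟨b, hb⟩)
    rcases hcard with h168 | h360
    · exact (c.case_168 hs h168 hinv).elim
    · exact ⟨fun hsol => absurd hsol hns, fun _ => c.case_360 hs h360⟩

end Cfsg.Agent.S3222
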