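import Mathlib
import Cfsg.Statements.S3246
import Cfsg.Agent.Lib.Helper9.TwoCon4

set_option autoImplicit false
open Cfsg

namespace Cfsg.Agent.S3246

/-- Let G be a finite group whose Sylow 2-subgroup S has a self-centralizing normal subgroup of rank at least 3. Suppose that either every maximal 2-local subgroup of G is 2-constrained with no nontrivial normal subgroup of odd order, or the centralizer of every involution of G is 2-constrained with no nontrivial normal subgroup of odd order. Then S normalizes no nontrivial subgroup of G of odd order and every 2-local subgroup of G is 2-constrained. -/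
theorem result {G : Type*} [Group G] [Finite G]
    (S : Sylow 2 G) (A : Subgroup G) (hA : Cfsg.IsSCN (S : Subgroup G) A) (hA3 : ¬ Cfsg.PRankLE 2 2 ↥A)
    (h : (∀ M : Subgroup G, Cfsg.IsMaximalTwoLocal M → Cfsg.IsPConstrained 2 ↥M ∧ Cfsg.oddCore ↥M = ⊥) ∨
      (∀ t : G, orderOf t = 2 → Cfsg.IsPConstrained 2 ↥(Subgroup.centralizer ({t} : Set G)) ∧
        Cfsg.oddCore ↥(Subgroup.centralizer ({t} : Set G)) = ⊥)) :
    (∀ X : Subgroup G, Odd (Nat.card ↥X) → (S : Subgroup G) ≤ Subgroup.normalizer (X : Set G) → X = ⊥) ∧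
      (∀ T : Subgroup G, IsPGroup 2 ↥T → T ≠ ⊥ → Cfsg.IsPConstrained 2 ↥(Subgroup.normalizer (T : Set G))) := by
  have : Fact (Nat.Prime 2) := ⟨Nat.prime_two⟩
  have hinv : ∀ t : G, orderOf t = 2 →
      Cfsg.Agent.Lib.Helper9.TwoCon.Char2 (Subgroup.centralizer ({t} : Set G)) := by
    rcases h with h | h
    · intro t ht
      exact Cfsg.Agent.Lib.Helper9.TwoCon.char2_centralizer_of_maximal
        (fun M hM => Cfsg.Agent.Lib.Helper9.TwoCon.char2_of_isPConstrained (h M hM).1 (h M hM).2) ht
    · intro t ht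
      exact Cfsg.Agent.Lib.Helper9.TwoCon.char2_of_isPConstrained (h t ht).1 (h t ht).2
  obtain ⟨hAS, hSA, hAeq⟩ := hA
  constructor
  · intro X hXodd hSX
    have hAc : ∀ a ∈ A, ∀ b ∈ A, a * b = b * a := by
      intro a ha b hb
      have h1 : a ∈ (S : Subgroup G) ⊓ Subgroup.centralizer (A : Set G) := by rw [hAeq]; exact ha
      exact (Subgroup.mem_centralizer_iff.mp (Subgroup.mem_inf.mp h1).2 b hb).symm
    unfold Cfsg.PRankLE at hA3
    push Not at hA3
    obtain ⟨B', -, hB'2, hB'4⟩ := hA3
    refine Cfsg.Agent.Lib.Helper9.TwoCon.eq_bot_of_sylow_le_normalizer S A hAS hSA hAc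
      (B'.map A.subtype) (Subgroup.map_subtype_le B') ?_ ?_ hinv X hXodd hSX
    · rintro _ ⟨b, hb, rfl⟩
      have := hB'2 b hb
      simpa using congrArg Subtype.val this
    · rw [Subgroup.card_map_of_injective A.subtype_injective]
      simpa using hB'4
  · intro T hT hT1
    exact (Cfsg.Agent.Lib.Helper9.TwoCon.isPConstrained_of_char2
      (Cfsg.Agent.Lib.Helper9.TwoCon.char2_normalizer hinv hT hT1)).1

end Cfsg.Agent.S3246
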