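import Mathlib
import Cfsg.Statements.S3247
import Cfsg.Agent.S0631
import Cfsg.Agent.S1327
import Cfsg.Agent.Lib.Helper1.Cores
import Cfsg.Agent.Lib.Helper9.Layer2
import Cfsg.Agent.Lib.Helper9.Frattini
import Cfsg.Agent.Lib.Helper10.PComponent
import Cfsg.Agent.Lib.Helper10.Transport
import Cfsg.Agent.Lib.Helper17.ZStarMin

set_option autoImplicit false
open Cfsg

namespace Cfsg.Agent.S3247

open scoped commutatorElement

/-- `p`-constraint is invariant under isomorphism. -/
theorem isPConstrained_of_mulEquiv {X Y : Type*} [Group X] [Group Y] [Finite X] [Finite Y]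
    {p : ℕ} [Fact p.Prime] (e : X ≃* Y) (h : Cfsg.IsPConstrained p X) :
    Cfsg.IsPConstrained p Y := by
  rw [Cfsg.Agent.S1327.result p] at h ⊢
  rw [← Cfsg.Agent.Lib.Helper10.map_pLayer e p, h, Subgroup.map_bot]

/-- two subgroups of subgroups with the same image in the big group are isomorphic -/
noncomputable def equivOfMapEq {G : Type*} [Group G] {H K : Subgroup G} (A : Subgroup ↥H)
    (B : Subgroup ↥K) (h : A.map H.subtype = B.map K.subtype) : ↥A ≃* ↥B :=
  ((A.equivMapOfInjective H.subtype H.subtype_injective).trans (MulEquiv.subgroupCongr h)).trans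
    (B.equivMapOfInjective K.subtype K.subtype_injective).symm

/-- If `x ∈ O_p(X)` and `C_X(x)` is `p`-constrained then `X` is `p`-constrained. -/
theorem isPConstrained_of_centralizer {X : Type*} [Group X] [Finite X] {p : ℕ} [Fact p.Prime]
    (x : X) (hx : x ∈ pCore p X)
    (hC : Cfsg.IsPConstrained p ↥(Subgroup.centralizer ({x} : Set X))) :
    Cfsg.IsPConstrained p X := by
  rw [Cfsg.Agent.S1327.result p, Cfsg.Agent.Lib.Helper10.pLayer_eq_bot_iff]
  have hchar := (Cfsg.Agent.S0631.isPConstrained_iff p).mp hC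
  have hOn : (pPrimeCore p X).Normal := Cfsg.Agent.Lib.Helper1.pPrimeCore_normal p
  have hOcop : (Nat.card (pPrimeCore p X)).Coprime p := Cfsg.Agent.Lib.Helper1.pPrimeCore_coprime p
  have hPn : (pCore p X).Normal := Cfsg.Agent.Lib.Helper1.pCore_normal p
  have hPp : IsPGroup p ↥(pCore p X) := Cfsg.Agent.Lib.Helper1.pCore_isPGroup p
  set O := pPrimeCore p X with hO
  set π := QuotientGroup.mk' O with hπ
  have hπs : Function.Surjective π := QuotientGroup.mk'_surjective O
  have hker : π.ker = O := QuotientGroup.ker_mk' O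
  have hπ1 : ∀ g : X, π g = 1 ↔ g ∈ O := fun g => QuotientGroup.eq_one_iff g
  have hEbn : (layer (X ⧸ O)).Normal := Cfsg.Agent.Lib.Helper9.layer_normal
  have hEbperf : ⁅layer (X ⧸ O), layer (X ⧸ O)⁆ = layer (X ⧸ O) :=
    Cfsg.Agent.Lib.Helper9.layer_perfect
  have hlf : ⁅layer (X ⧸ O), fittingSubgroup (X ⧸ O)⁆ = ⊥ :=
    Cfsg.Agent.Lib.Helper9.commutator_layer_fitting
  set Eb := layer (X ⧸ O) with hEb
  set E := Eb.comap π with hE
  have hEn : E.Normal := hEbn.comap π
  have hmapE : E.map π = Eb := Subgroup.map_comap_eq_self_of_surjective hπs Eb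
  have hOE : O ≤ E := by
    intro o ho
    rw [hE, Subgroup.mem_comap, (hπ1 o).mpr ho]
    exact one_mem _
  -- `E` centralizes `O_p(X / O)` modulo `O`
  have hcoreb : ∀ q : X, π q ∈ pCore p (X ⧸ O) → ∀ e ∈ E, ⁅e, q⁆ ∈ O := by
    intro q hq e he
    have h1 : π q ∈ fittingSubgroup (X ⧸ O) :=
      Cfsg.Agent.Lib.Helper1.pCore_le_fittingSubgroup p hq
    have h2 : ⁅π e, π q⁆ ∈ ⁅Eb, fittingSubgroup (X ⧸ O)⁆ :=
      Subgroup.commutator_mem_commutator he h1
    rw [hlf, Subgroup.mem_bot] at h2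
    rw [← hπ1, map_commutatorElement]
    exact h2
  have hπx : π x ∈ pCore p (X ⧸ O) := by
    have h1 : ((pCore p X).map π).Normal := hPn.map π hπs
    exact Cfsg.Agent.Lib.Helper1.le_pCore h1 (hPp.map π) (Subgroup.mem_map_of_mem π hx)
  have hdisj : Disjoint (pCore p X) O := by
    apply Subgroup.disjoint_of_coprime_natCard
    obtain ⟨k, hk⟩ := IsPGroup.iff_card.mp hPp
    rw [hk]
    exact (Nat.Coprime.pow_right k hOcop).symm
  -- `E` centralizes `x`
  have hEC : E ≤ Subgroup.centralizer ({x} : Set X) := by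
    intro e he
    have h1 : ⁅e, x⁆ ∈ O := hcoreb x hπx e he
    have h2 : ⁅e, x⁆ ∈ pCore p X := by
      rw [commutatorElement_def]
      exact (pCore p X).mul_mem (hPn.conj_mem x hx e) ((pCore p X).inv_mem hx)
    have h3 : ⁅e, x⁆ = 1 := Subgroup.disjoint_def.mp hdisj h2 h1
    have h4 : e * x = x * e := commutatorElement_eq_one_iff_mul_comm.mp h3
    rw [Subgroup.mem_centralizer_iff]
    intro y hy
    rw [Set.mem_singleton_iff.mp hy]
    exact h4.symm
  have hOCn : (pPrimeCore p ↥(Subgroup.centralizer ({x} : Set X))).Normal :=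
    Cfsg.Agent.Lib.Helper1.pPrimeCore_normal p
  have hOCcop : (Nat.card (pPrimeCore p ↥(Subgroup.centralizer ({x} : Set X)))).Coprime p :=
    Cfsg.Agent.Lib.Helper1.pPrimeCore_coprime p
  set C := Subgroup.centralizer ({x} : Set X) with hCdef
  set OC := pPrimeCore p ↥C with hOC
  set β := QuotientGroup.mk' OC with hβ
  have hβs : Function.Surjective β := QuotientGroup.mk'_surjective OC
  have hkerβ : β.ker = OC := QuotientGroup.ker_mk' OC
  have hβ1 : ∀ g : ↥C, β g = 1 ↔ g ∈ OC := fun g => QuotientGroup.eq_one_iff g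
  have hPtn : (pCore p (↥C ⧸ OC)).Normal := Cfsg.Agent.Lib.Helper1.pCore_normal p
  have hPtp : IsPGroup p ↥(pCore p (↥C ⧸ OC)) := Cfsg.Agent.Lib.Helper1.pCore_isPGroup p
  set Pt := pCore p (↥C ⧸ OC) with hPt
  have hOC' : O.subgroupOf C ≤ OC := by
    apply Cfsg.Agent.Lib.Helper1.le_pPrimeCore (hOn.subgroupOf C)
    rw [Nat.card_congr (Subgroup.subgroupOfEquivOfLe (hOE.trans hEC)).toEquiv]
    exact hOcop
  set E' := E.subgroupOf C with hE'
  have hE'n : E'.Normal := hEn.subgroupOf C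
  have hE'map : E'.map C.subtype = E := by
    rw [hE', Subgroup.subgroupOf_map_subtype, inf_eq_left.mpr hEC]
  -- `E' ⊓ O_{p'}(C)` lies in `O`
  have hR : (E' ⊓ OC).map C.subtype ≤ O := by
    have := hE'n
    have := hOCn
    have := hEn
    apply Cfsg.Agent.Lib.Helper17.le_pPrimeCore_of_le_normal (N := E)
    · calc (E' ⊓ OC).map C.subtype ≤ E'.map C.subtype := Subgroup.map_mono inf_le_left
        _ = E := hE'map
    · exact hEC.trans (Cfsg.Agent.Lib.Helper9.le_normalizer_map_subtype_of_normal (E' ⊓ OC))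
    · rw [Subgroup.card_map_of_injective C.subtype_injective]
      exact Nat.Coprime.coprime_dvd_left (Subgroup.card_dvd_of_le inf_le_right) hOCcop
  -- elements of `E'` which are `p`-elements modulo `O_{p'}(C)` map into `O_p(X / O)`
  have hQ : ∀ q' : ↥C, q' ∈ E' → β q' ∈ Pt → π (q' : X) ∈ pCore p (X ⧸ O) := by
    have := hE'n
    have : (Pt.comap β).Normal := hPtn.comap β
    have hQE : (E' ⊓ Pt.comap β).map C.subtype ≤ E := by
      calc (E' ⊓ Pt.comap β).map C.subtype ≤ E'.map C.subtype := Subgroup.map_mono inf_le_left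
        _ = E := hE'map
    have hEQ : E ≤ Subgroup.normalizer (((E' ⊓ Pt.comap β).map C.subtype : Subgroup X) : Set X) :=
      hEC.trans (Cfsg.Agent.Lib.Helper9.le_normalizer_map_subtype_of_normal (E' ⊓ Pt.comap β))
    have hQb1 : ((E' ⊓ Pt.comap β).map C.subtype).map π ≤ Eb := by
      rw [← hmapE]; exact Subgroup.map_mono hQE
    have hQb2 : Eb ≤ Subgroup.normalizer
        ((((E' ⊓ Pt.comap β).map C.subtype).map π : Subgroup (X ⧸ O)) : Set (X ⧸ O)) := by
      rw [← hmapE]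
      exact (Subgroup.map_mono hEQ).trans
        (Subgroup.le_normalizer_map (H := (E' ⊓ Pt.comap β).map C.subtype) π)
    have hQb3 : IsPGroup p ↥(((E' ⊓ Pt.comap β).map C.subtype).map π) := by
      rintro ⟨g, hg⟩
      obtain ⟨q, hq, rfl⟩ := hg
      obtain ⟨q', hq', rfl⟩ := hq
      obtain ⟨hq'1, hq'2⟩ := Subgroup.mem_inf.mp hq'
      obtain ⟨k, hk⟩ := hPtp ⟨β q', hq'2⟩
      have hk' : (β q') ^ p ^ k = 1 := congrArg Subtype.val hk
      refine ⟨k, Subtype.ext ?_⟩
      have h1 : q' ^ p ^ k ∈ OC := by rw [← hβ1, map_pow]; exact hk'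
      have h2 : q' ^ p ^ k ∈ E' ⊓ OC := Subgroup.mem_inf.mpr ⟨E'.pow_mem hq'1 _, h1⟩
      have h3 : C.subtype (q' ^ p ^ k) ∈ O := hR (Subgroup.mem_map_of_mem _ h2)
      show (π (C.subtype q')) ^ p ^ k = 1
      rw [← map_pow, ← map_pow, hπ1]
      exact h3
    have := hEbn
    have hQcore := Cfsg.Agent.Lib.Helper17.le_pCore_of_le_normal hQb1 hQb2 hQb3
    intro q' hq'E hq'P
    apply hQcore
    exact Subgroup.mem_map_of_mem π
      (Subgroup.mem_map_of_mem C.subtype (Subgroup.mem_inf.mpr ⟨hq'E, hq'P⟩))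
  set Et := E'.map β with hEt
  have hEtn : Et.Normal := hE'n.map β hβs
  have hcent : ⁅Et ⊓ Pt, Et⁆ = ⊥ := by
    rw [eq_bot_iff, Subgroup.commutator_le]
    intro a ha b hb
    obtain ⟨ha1, ha2⟩ := Subgroup.mem_inf.mp ha
    obtain ⟨q', hq', rfl⟩ := ha1
    obtain ⟨e', he', rfl⟩ := hb
    rw [Subgroup.mem_bot, ← map_commutatorElement, hβ1]
    apply hOC'
    rw [Subgroup.mem_subgroupOf]
    have h1 := hcoreb (q' : X) (hQ q' hq' ha2) (e' : X) he'
    have h2 : ((⁅q', e'⁆ : ↥C) : X) = (⁅(e' : X), (q' : X)⁆)⁻¹ := by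
      rw [commutatorElement_inv]; rfl
    rw [h2]; exact O.inv_mem h1
  have h1 : ⁅⁅Et, Pt⁆, Et⁆ = ⊥ := by
    have := hEtn
    have := hPtn
    rw [eq_bot_iff, ← hcent]
    exact Subgroup.commutator_mono (Subgroup.commutator_le_inf Et Pt) le_rfl
  have h2 : ⁅⁅Pt, Et⁆, Et⁆ = ⊥ := by rw [Subgroup.commutator_comm Pt Et]; exact h1
  have h3 : ⁅⁅Et, Et⁆, Pt⁆ = ⊥ := Subgroup.commutator_commutator_eq_bot_of_rotate h1 h2
  -- perfectness
  have hperfE : E ≤ ⁅E, E⁆ ⊔ O := by
    have h1 : Eb = (⁅E, E⁆).map π := by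
      rw [Subgroup.map_commutator, hmapE, hEbperf]
    have h2 : E = ((⁅E, E⁆).map π).comap π := by rw [← h1]
    rw [Subgroup.comap_map_eq, hker] at h2
    exact h2.le
  have hperfE' : E' ≤ ⁅E', E'⁆ ⊔ O.subgroupOf C := by
    rw [← Subgroup.map_le_map_iff_of_injective C.subtype_injective, Subgroup.map_sup,
      Subgroup.map_commutator, hE'map, Subgroup.subgroupOf_map_subtype,
      inf_eq_left.mpr (hOE.trans hEC)]
    exact hperfE
  have hperfEt : Et ≤ ⁅Et, Et⁆ := by
    have hb : (O.subgroupOf C).map β = ⊥ := by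
      rw [Subgroup.map_eq_bot_iff, hkerβ]
      exact hOC'
    calc Et ≤ (⁅E', E'⁆ ⊔ O.subgroupOf C).map β := Subgroup.map_mono hperfE'
      _ = ⁅Et, Et⁆ ⊔ (O.subgroupOf C).map β := by rw [Subgroup.map_sup, Subgroup.map_commutator]
      _ = ⁅Et, Et⁆ := by rw [hb, sup_bot_eq]
  have hEtbot : Et = ⊥ := by
    have h4 : ⁅Et, Pt⁆ = ⊥ := by
      rw [eq_bot_iff, ← h3]
      exact Subgroup.commutator_mono hperfEt le_rfl
    have h5 : Et ≤ Pt := (Subgroup.commutator_eq_bot_iff_le_centralizer.mp h4).trans hchar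
    rw [eq_bot_iff]
    calc Et ≤ ⁅Et, Et⁆ := hperfEt
      _ ≤ ⁅Et, Pt⁆ := Subgroup.commutator_mono le_rfl h5
      _ = ⊥ := h4
  have hE'OC : E' ≤ OC := by
    rw [← hkerβ, ← Subgroup.map_eq_bot_iff]; exact hEtbot
  have hEcop : (Nat.card ↥E).Coprime p := by
    rw [← Nat.card_congr (Subgroup.subgroupOfEquivOfLe hEC).toEquiv]
    exact Nat.Coprime.coprime_dvd_left (Subgroup.card_dvd_of_le hE'OC) hOCcop
  have hEO : E ≤ O := Cfsg.Agent.Lib.Helper1.le_pPrimeCore hEn hEcop
  rw [eq_bot_iff, ← hmapE]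
  calc E.map π ≤ O.map π := Subgroup.map_mono hEO
    _ = ⊥ := by rw [Subgroup.map_eq_bot_iff, hker]

/-- Let G be a finite group and p a prime; here a p-local subgroup means the normalizer of a nontrivial p-subgroup, other than G itself. If every p-local subgroup of G that is maximal among p-local subgroups is p-constrained, or if the centralizer of every element of order p of G is p-constrained, then every p-local subgroup of G is p-constrained. -/
theorem result {G : Type*} [Group G] [Finite G] (p : ℕ) [hp : Fact p.Prime]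
    (h : (∀ M : Subgroup G, (∃ T : Subgroup G, IsPGroup p ↥T ∧ T ≠ ⊥ ∧ M = Subgroup.normalizer (T : Set G)) → M ≠ ⊤ →
        (∀ M' : Subgroup G, (∃ T' : Subgroup G, IsPGroup p ↥T' ∧ T' ≠ ⊥ ∧ M' = Subgroup.normalizer (T' : Set G)) → M' ≠ ⊤ → M ≤ M' → M = M') →
        Cfsg.IsPConstrained p ↥M) ∨
      (∀ x : G, orderOf x = p → Cfsg.IsPConstrained p ↥(Subgroup.centralizer ({x} : Set G))))
    (T : Subgroup G) (hT : IsPGroup p ↥T) (hT1 : T ≠ ⊥) (hTG : Subgroup.normalizer (T : Set G) ≠ ⊤) :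
    Cfsg.IsPConstrained p ↥(Subgroup.normalizer (T : Set G)) := by
  have hTN : T ≤ Subgroup.normalizer (T : Set G) := Subgroup.le_normalizer
  rcases h with hA | hB
  · -- maximal p-locals
    have hfin : ({M : Subgroup G | (∃ T' : Subgroup G, IsPGroup p ↥T' ∧ T' ≠ ⊥ ∧
        M = Subgroup.normalizer (T' : Set G)) ∧ M ≠ ⊤} : Set (Subgroup G)).Finite := Set.toFinite _
    have hNL : Subgroup.normalizer (T : Set G) ∈ ({M : Subgroup G | (∃ T' : Subgroup G,
        IsPGroup p ↥T' ∧ T' ≠ ⊥ ∧ M = Subgroup.normalizer (T' : Set G)) ∧ M ≠ ⊤} :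
        Set (Subgroup G)) := ⟨⟨T, hT, hT1, rfl⟩, hTG⟩
    obtain ⟨M, hNM, hMmax⟩ := hfin.exists_le_maximal hNL
    have hML := hMmax.prop
    have hMc : Cfsg.IsPConstrained p ↥M := hA M hML.1 hML.2
      (fun M' hM' hM'top hle => le_antisymm hle (hMmax.le_of_ge ⟨hM', hM'top⟩ hle))
    have hTM : T ≤ M := hTN.trans hNM
    have h1 := (Cfsg.Agent.S0631.result hMc (T.subgroupOf M) hT.comap_subtype).1
    have h2 : Cfsg.IsPConstrained p ↥((Subgroup.normalizer (T : Set G)).subgroupOf M) := by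
      rw [Subgroup.subgroupOf_normalizer_eq hTM]; exact h1
    exact isPConstrained_of_mulEquiv (Subgroup.subgroupOfEquivOfLe hNM) h2
  · -- centralizers of elements of order p
    have hTnt : Nontrivial ↥T := (Subgroup.nontrivial_iff_ne_bot T).mpr hT1
    have hZnt : Nontrivial ↥(Subgroup.center ↥T) := hT.center_nontrivial
    have hZp : IsPGroup p ↥(Subgroup.center ↥T) := hT.to_subgroup _
    obtain ⟨n, hn0, hn⟩ := hZp.nontrivial_iff_card.mp hZnt
    have hdvd : p ∣ Nat.card ↥(Subgroup.center ↥T) := by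
      rw [hn]; exact dvd_pow_self p hn0.ne'
    obtain ⟨z, hz⟩ := exists_prime_orderOf_dvd_card' p hdvd
    have hxo : orderOf (((z : ↥T) : G)) = p := by
      rw [Subgroup.orderOf_coe, Subgroup.orderOf_coe]; exact hz
    have hxT : ((z : ↥T) : G) ∈ T := (z : ↥T).2
    have hxc : ∀ t ∈ T, t * ((z : ↥T) : G) = ((z : ↥T) : G) * t := by
      intro t ht
      have := Subgroup.mem_center_iff.mp z.2 ⟨t, ht⟩
      exact congrArg Subtype.val this
    obtain ⟨x, hxdef⟩ : ∃ x : G, x = ((z : ↥T) : G) := ⟨_, rfl⟩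
    rw [← hxdef] at hxo hxT hxc
    have hTC : T ≤ Subgroup.centralizer ({x} : Set G) := by
      intro t ht
      rw [Subgroup.mem_centralizer_iff]
      intro y hy
      rw [Set.mem_singleton_iff.mp hy]
      exact (hxc t ht).symm
    have h1 := (Cfsg.Agent.S0631.result (hB x hxo)
      (T.subgroupOf (Subgroup.centralizer ({x} : Set G))) hT.comap_subtype).1
    have h2 : Cfsg.IsPConstrained p
        ↥((Subgroup.normalizer (T : Set G)).subgroupOf (Subgroup.centralizer ({x} : Set G))) := by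
      rw [Subgroup.subgroupOf_normalizer_eq hTC]; exact h1
    have hxN : x ∈ Subgroup.normalizer (T : Set G) := hTN hxT
    have hxcore : (⟨x, hxN⟩ : ↥(Subgroup.normalizer (T : Set G))) ∈
        pCore p ↥(Subgroup.normalizer (T : Set G)) := by
      have hn : (T.subgroupOf (Subgroup.normalizer (T : Set G))).Normal :=
        Subgroup.normal_in_normalizer
      exact Cfsg.Agent.Lib.Helper1.le_pCore hn hT.comap_subtype (Subgroup.mem_subgroupOf.mpr hxT)
    apply isPConstrained_of_centralizer (⟨x, hxN⟩ : ↥(Subgroup.normalizer (T : Set G))) hxcore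
    refine isPConstrained_of_mulEquiv (equivOfMapEq _ _ ?_) h2
    ext g
    constructor
    · rintro ⟨c, hc, rfl⟩
      refine ⟨⟨c.1, Subgroup.mem_subgroupOf.mp hc⟩, ?_, rfl⟩
      refine Subgroup.mem_centralizer_iff.mpr ?_
      intro y hy
      rw [Set.mem_singleton_iff.mp hy]
      apply Subtype.ext
      exact (Subgroup.mem_centralizer_iff.mp c.2) x rfl
    · rintro ⟨m, hm, rfl⟩
      have h3 : x * (m : G) = (m : G) * x :=
        congrArg Subtype.val (Subgroup.mem_centralizer_iff.mp hm ⟨x, hxN⟩ rfl)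
      refine ⟨⟨m.1, ?_⟩, ?_, rfl⟩
      · refine Subgroup.mem_centralizer_iff.mpr ?_
        intro y hy
        rw [Set.mem_singleton_iff.mp hy]
        exact h3
      · exact Subgroup.mem_subgroupOf.mpr m.2

end Cfsg.Agent.S3247
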