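import Cfsg.Statements.S3264
import Cfsg.Agent.Lib.Helper14.IA.L01Gen

set_option autoImplicit false
open Cfsg

namespace Cfsg.Agent.S3264

open Cfsg.Agent.Lib.Helper14.IA

section
variable {G : Type*} [Group G]

/-- the graph of the statement -/
abbrev Gr (t : G) : SimpleGraph {x : G // IsConj t x} :=
  SimpleGraph.fromRel fun x y : {x : G // IsConj t x} => Odd (orderOf (x.1 * y.1))

/-- conjugation on the class of `t` -/
def cj (t : G) (g : G) (x : {x : G // IsConj t x}) : {x : G // IsConj t x} :=
  ⟨g * x.1 * g⁻¹, x.2.trans (isConj_iff.mpr ⟨g, rfl⟩)⟩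

theorem cj_mul (t g h : G) (x : {x : G // IsConj t x}) : cj t (g * h) x = cj t g (cj t h x) := by
  apply Subtype.ext
  show g * h * x.1 * (g * h)⁻¹ = g * (h * x.1 * h⁻¹) * g⁻¹
  group

theorem cj_one (t : G) (x : {x : G // IsConj t x}) : cj t 1 x = x := by
  apply Subtype.ext
  show 1 * x.1 * 1⁻¹ = x.1
  group

theorem order_conj (g u : G) : orderOf (g * u * g⁻¹) = orderOf u := by
  have := orderOf_injective (MulAut.conj g).toMonoidHom (MulAut.conj g).injective u
  simpa [MulAut.conj_apply] using this

theorem adj_cj (t g : G) {u v : {x : G // IsConj t x}} (h : (Gr t).Adj u v) :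
    (Gr t).Adj (cj t g u) (cj t g v) := by
  rw [SimpleGraph.fromRel_adj] at h ⊢
  obtain ⟨hne, hor⟩ := h
  refine ⟨?_, ?_⟩
  · intro he
    apply hne
    apply Subtype.ext
    have h1 : g * u.1 * g⁻¹ = g * v.1 * g⁻¹ := congrArg Subtype.val he
    have h2 : g * u.1 = g * v.1 := mul_right_cancel h1
    exact mul_left_cancel h2
  · have e : ∀ a b : G, (g * a * g⁻¹) * (g * b * g⁻¹) = g * (a * b) * g⁻¹ := by
      intro a b; group
    rcases hor with h1 | h1
    · left
      show Odd (orderOf ((g * u.1 * g⁻¹) * (g * v.1 * g⁻¹)))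
      rw [e, order_conj]
      exact h1
    · right
      show Odd (orderOf ((g * v.1 * g⁻¹) * (g * u.1 * g⁻¹)))
      rw [e, order_conj]
      exact h1

/-- conjugation as a graph homomorphism -/
def cjHom (t g : G) : (Gr t) →g (Gr t) where
  toFun := cj t g
  map_rel' := fun h => adj_cj t g h

theorem reach_cj (t g : G) {u v : {x : G // IsConj t x}} (h : (Gr t).Reachable u v) :
    (Gr t).Reachable (cj t g u) (cj t g v) :=
  h.map (cjHom t g)

/-- the subgroup of elements moving `t` inside its component -/
def Hsub (t : G) : Subgroup G where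
  carrier := {g | (Gr t).Reachable ⟨t, IsConj.refl t⟩ (cj t g ⟨t, IsConj.refl t⟩)}
  one_mem' := by
    show (Gr t).Reachable _ (cj t 1 _)
    rw [cj_one]
  mul_mem' := by
    intro g h hg hh
    show (Gr t).Reachable _ (cj t (g * h) _)
    rw [cj_mul]
    exact hg.trans (reach_cj t g hh)
  inv_mem' := by
    intro g hg
    show (Gr t).Reachable _ (cj t g⁻¹ _)
    have h1 := reach_cj t g⁻¹ hg
    rw [← cj_mul, inv_mul_cancel, cj_one] at h1
    exact h1.symm

end

/-- Let G be a non-abelian finite simple group and X a conjugacy class of involutions of G. Form the graph on X in which two distinct involutions are joined when their product has odd order. Then this graph is connected. (By the Baer–Suzuki Theorem the graph has at least one edge; connectedness is the stronger statement.) -/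
theorem result {G : Type*} [Group G] [Finite G] [IsSimpleGroup G]
    (hG : ¬ IsMulCommutative G) (t : G) (ht : orderOf t = 2) :
    (SimpleGraph.fromRel fun x y : {x : G // IsConj t x} => Odd (orderOf (x.1 * y.1))).Connected := by
  have htt : t * t = 1 := by
    have := pow_orderOf_eq_one t
    rwa [ht, pow_two] at this
  have ht1 : t ≠ 1 := by
    intro h
    rw [h, orderOf_one] at ht
    omega
  have htinv : t⁻¹ = t := inv_eq_of_mul_eq_one_right htt
  have hncl : Subgroup.normalClosure ({t} : Set G) = ⊤ := by
    rcases (Subgroup.normalClosure_normal (s := ({t} : Set G))).eq_bot_or_eq_top with h | h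
    · exfalso
      have : t ∈ Subgroup.normalClosure ({t} : Set G) :=
        Subgroup.subset_normalClosure (Set.mem_singleton t)
      rw [h, Subgroup.mem_bot] at this
      exact ht1 this
    · exact h
  have hgen := gen t htt hncl
  set t0 : {x : G // IsConj t x} := ⟨t, IsConj.refl t⟩ with ht0
  have hH : Hsub t = ⊤ := by
    rw [eq_top_iff, ← hgen, Subgroup.closure_le]
    rintro y (hy | hy)
    · rw [Set.mem_singleton_iff] at hy
      subst hy
      show (Gr y).Reachable _ (cj y y _)
      have : cj y y ⟨y, IsConj.refl y⟩ = ⟨y, IsConj.refl y⟩ := by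
        apply Subtype.ext
        show y * y * y⁻¹ = y
        group
      rw [this]
    · obtain ⟨hodd, hinv⟩ := hy
      show (Gr t).Reachable t0 (cj t y t0)
      by_cases he : cj t y t0 = t0
      · rw [he]
      · apply SimpleGraph.Adj.reachable
        rw [SimpleGraph.fromRel_adj]
        refine ⟨fun h => he h.symm, Or.inl ?_⟩
        show Odd (orderOf (t * (y * t * y⁻¹)))
        have h1 : t * y * t = y⁻¹ := by
          rw [htinv] at hinv
          exact hinv
        have h2 : t * (y * t * y⁻¹) = (y⁻¹) ^ 2 := by
          calc t * (y * t * y⁻¹) = (t * y * t) * y⁻¹ := by group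
            _ = y⁻¹ * y⁻¹ := by rw [h1]
            _ = (y⁻¹) ^ 2 := (pow_two _).symm
        rw [h2]
        have hd : orderOf ((y⁻¹) ^ 2) ∣ orderOf y := by
          have := orderOf_pow_dvd (x := y⁻¹) 2
          rwa [orderOf_inv] at this
        exact Odd.of_dvd_nat hodd hd
  have hreach : ∀ x : {x : G // IsConj t x}, (Gr t).Reachable t0 x := by
    intro x
    obtain ⟨g, hg⟩ := isConj_iff.mp x.2
    have hgH : g ∈ Hsub t := by rw [hH]; exact Subgroup.mem_top g
    have : cj t g t0 = x := Subtype.ext hg
    rw [← this]
    exact hgH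
  haveI : Nonempty {x : G // IsConj t x} := ⟨t0⟩
  refine SimpleGraph.Connected.mk ?_
  intro x y
  exact (hreach x).symm.trans (hreach y)

end Cfsg.Agent.S3264
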