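-- Statement S3265: odd-product graph on a class of involutions of Sym(n), n ≥ 5.
import Mathlib
import Cfsg.Statements.S3265
import Cfsg.Agent.Lib.Helper12.OddProdF

set_option autoImplicit false
set_option linter.unusedVariables false
open Cfsg

namespace Cfsg.Agent.S3265

open Equiv Cfsg.Agent.Lib.Helper12.OddProd

/-- two involutions with a product of odd order are conjugate -/
theorem isConj_of_odd {G : Type*} [Group G] (x w : G) (hx : x * x = 1) (hw : w * w = 1)
    (h : Odd (orderOf (x * w))) : IsConj x w := by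
  obtain ⟨m, hm⟩ := h
  obtain ⟨g, hg⟩ : ∃ g, g = x * w := ⟨_, rfl⟩
  rw [← hg] at hm
  have hxi : x⁻¹ = x := inv_eq_of_mul_eq_one_left hx
  have hwi : w⁻¹ = w := inv_eq_of_mul_eq_one_left hw
  have hginv : g⁻¹ = w * x := by rw [hg, mul_inv_rev, hxi, hwi]
  have hconj : x * g * x⁻¹ = g⁻¹ := by
    rw [hginv, hxi, hg, ← mul_assoc, hx, one_mul]
  have hpow : ∀ k : ℕ, x * g ^ k * x⁻¹ = (g⁻¹) ^ k := by
    intro k; rw [← conj_pow, hconj]
  have h1 : g ^ (2 * m + 1) = 1 := by rw [← hm]; exact pow_orderOf_eq_one g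
  have h2 : (g ^ (2 * m))⁻¹ = g := by
    rw [pow_succ] at h1; exact inv_eq_of_mul_eq_one_right h1
  have h3 : g ^ m * x = x * (g⁻¹) ^ m := by
    have := hpow m
    rw [hxi] at this
    calc g ^ m * x = x * x * (g ^ m * x) := by rw [hx, one_mul]
      _ = x * (x * g ^ m * x) := by simp only [mul_assoc]
      _ = x * (g⁻¹) ^ m := by rw [this]
  refine isConj_iff.mpr ⟨g ^ m, ?_⟩
  calc g ^ m * x * (g ^ m)⁻¹ = x * (g⁻¹) ^ m * (g ^ m)⁻¹ := by rw [h3]
    _ = x * ((g⁻¹) ^ m * (g⁻¹) ^ m) := by rw [mul_assoc, ← inv_pow]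
    _ = x * (g⁻¹) ^ (2 * m) := by rw [← pow_add, two_mul]
    _ = x * g := by rw [inv_pow, h2]
    _ = w := by rw [hg, ← mul_assoc, hx, one_mul]

/-- a product of two disjoint transpositions has order 2 -/
theorem orderOf_swap_mul_swap {α : Type*} [DecidableEq α] {p1 p2 p3 p4 : α} (h12 : p1 ≠ p2)
    (h31 : p3 ≠ p1) (h32 : p3 ≠ p2) (h41 : p4 ≠ p1) (h42 : p4 ≠ p2) :
    orderOf (swap p1 p2 * swap p3 p4) = 2 := by
  have hc : Commute (swap p1 p2) (swap p3 p4) :=
    comm_swap_of_fix (swap p1 p2) (swap_apply_of_ne_of_ne h31 h32) (swap_apply_of_ne_of_ne h41 h42)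
  apply orderOf_eq_prime
  · rw [hc.mul_pow, pow_two, pow_two, swap_mul_self, swap_mul_self, one_mul]
  · intro h
    have := congrArg (fun σ : Perm α => σ p1) h
    simp only [Perm.mul_apply, Perm.one_apply] at this
    rw [swap_apply_of_ne_of_ne h31.symm h41.symm, swap_apply_left] at this
    exact h12 this.symm

/-- a conjugate of `t` different from `t` whose product with `t` has order 2 -/
theorem exists_nonadjacent (n : ℕ) (hn : 5 ≤ n) (t : Perm (Fin n)) (ht2 : t * t = 1)
    (ht1 : t ≠ 1) : ∃ y : Perm (Fin n), IsConj t y ∧ y ≠ t ∧ orderOf (t * y) = 2 := by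
  obtain ⟨a0, ha0⟩ : ∃ a0, t a0 ≠ a0 := by
    by_contra h
    push Not at h
    exact ht1 (Equiv.ext h)
  have hab : a0 ≠ t a0 := fun h => ha0 h.symm
  have htb : t (t a0) = a0 := apply_eq_of_sq t ht2 rfl
  have hne_of : ∀ y : Perm (Fin n), orderOf (t * y) = 2 → y ≠ t := by
    intro y hy h
    rw [h, ht2, orderOf_one] at hy
    omega
  by_cases hA : ∃ c0, c0 ≠ a0 ∧ c0 ≠ t a0 ∧ t c0 ≠ c0
  · obtain ⟨c0, hca, hcb, hc⟩ := hA
    have hda : t c0 ≠ a0 := by
      intro h
      have : t a0 = c0 := apply_eq_of_sq t ht2 h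
      exact hcb this.symm
    have hdb : t c0 ≠ t a0 := fun h => hca (t.injective h)
    have e : t * (swap (t a0) c0 * t * (swap (t a0) c0)⁻¹) = swap a0 (t c0) * swap (t a0) c0 := by
      calc t * (swap (t a0) c0 * t * (swap (t a0) c0)⁻¹)
          = (t * swap (t a0) c0) * t * swap (t a0) c0 := by
            rw [swap_inv]; simp only [mul_assoc]
        _ = (swap (t (t a0)) (t c0) * t) * t * swap (t a0) c0 := by
            rw [mul_swap_eq_swap_mul t (t a0) c0]
        _ = swap a0 (t c0) * swap (t a0) c0 := by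
            rw [htb, mul_assoc (swap a0 (t c0)) t t, ht2, mul_one]
    have hord : orderOf (t * (swap (t a0) c0 * t * (swap (t a0) c0)⁻¹)) = 2 := by
      rw [e]
      exact orderOf_swap_mul_swap (Ne.symm hda) (Ne.symm hab) (Ne.symm hdb) hca (Ne.symm hc)
    exact ⟨_, isConj_iff.mpr ⟨swap (t a0) c0, rfl⟩, hne_of _ hord, hord⟩
  · push Not at hA
    have ht : t = swap a0 (t a0) := by
      ext u
      by_cases hua : u = a0
      · rw [hua, swap_apply_left]
      · by_cases hub : u = t a0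
        · rw [hub, swap_apply_right, htb]
        · rw [swap_apply_of_ne_of_ne hua hub, hA u hua hub]
    have hcard : 1 < (Finset.univ \ ({a0, t a0} : Finset (Fin n))).card := by
      rw [Finset.card_univ_sdiff, Fintype.card_fin]
      have : ({a0, t a0} : Finset (Fin n)).card ≤ 2 := Finset.card_le_two
      omega
    obtain ⟨c0, hc0, d0, hd0, hcd⟩ := Finset.one_lt_card.mp hcard
    simp only [Finset.mem_sdiff, Finset.mem_univ, true_and, Finset.mem_insert,
      Finset.mem_singleton, not_or] at hc0 hd0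
    have hord : orderOf (t * swap c0 d0) = 2 := by
      rw [ht]
      exact orderOf_swap_mul_swap hab hc0.1 hc0.2 hd0.1 hd0.2
    refine ⟨swap c0 d0, ?_, hne_of _ hord, hord⟩
    rw [ht]
    exact Equiv.Perm.isConj_swap hab hcd

theorem result (n : ℕ) (hn : 5 ≤ n) (t : Equiv.Perm (Fin n)) (ht : orderOf t = 2) :
    (SimpleGraph.fromRel fun x y : {x : Equiv.Perm (Fin n) // IsConj t x} =>
        Odd (orderOf (x.1 * y.1))).Connected ∧
      (SimpleGraph.fromRel fun x y : {x : Equiv.Perm (Fin n) // IsConj t x} =>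
        Odd (orderOf (x.1 * y.1))).diam = 2 := by
  have ht2 : t * t = 1 := by rw [← pow_two, ← ht]; exact pow_orderOf_eq_one t
  have ht1 : t ≠ 1 := by
    intro h
    rw [h, orderOf_one] at ht
    omega
  obtain ⟨G, hG⟩ : ∃ G : SimpleGraph {x : Equiv.Perm (Fin n) // IsConj t x},
      G = SimpleGraph.fromRel fun x y => Odd (orderOf (x.1 * y.1)) := ⟨_, rfl⟩
  rw [← hG]
  have hadj : ∀ a b : {x : Equiv.Perm (Fin n) // IsConj t x}, G.Adj a b ↔
      a ≠ b ∧ (Odd (orderOf (a.1 * b.1)) ∨ Odd (orderOf (b.1 * a.1))) := by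
    intro a b
    rw [hG, SimpleGraph.fromRel_adj]
  have hinv : ∀ a : {x : Equiv.Perm (Fin n) // IsConj t x},
      a.1 * a.1 = 1 ∧ a.1.support.card = t.support.card := by
    intro a
    obtain ⟨c, hc⟩ := isConj_iff.mp a.2
    constructor
    · rw [← hc]
      calc c * t * c⁻¹ * (c * t * c⁻¹) = c * (t * t) * c⁻¹ := by group
        _ = 1 := by rw [ht2]; group
    · rw [← hc]
      exact Equiv.Perm.card_support_conj
  have key : ∀ a b : {x : Equiv.Perm (Fin n) // IsConj t x},
      ∃ w : {x : Equiv.Perm (Fin n) // IsConj t x},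
        Odd (orderOf (a.1 * w.1)) ∧ Odd (orderOf (w.1 * b.1)) := by
    intro a b
    obtain ⟨ha2, hac⟩ := hinv a
    obtain ⟨hb2, hbc⟩ := hinv b
    rcases main_sol (Finset.univ) a.1 b.1 ha2 hb2
      (fun u hu => absurd (Finset.mem_univ u) hu) (fun u hu => absurd (Finset.mem_univ u) hu)
      (hac.trans hbc.symm) with hsol | hexc
    · obtain ⟨w, hw, _, h1, h2⟩ := hsol
      exact ⟨⟨w, a.2.trans (isConj_of_odd a.1 w ha2 hw h1)⟩, h1, h2⟩
    · exfalso
      obtain ⟨p, q, r, s, _, _, _, _, _, _, hS, _⟩ := hexc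
      have := congrArg Finset.card hS
      rw [Finset.card_univ, Fintype.card_fin] at this
      have h4 : ({p, q, r, s} : Finset (Fin n)).card ≤ 4 := Finset.card_le_four
      omega
  have walk : ∀ a b : {x : Equiv.Perm (Fin n) // IsConj t x},
      ∃ p : G.Walk a b, p.length ≤ 2 := by
    intro a b
    obtain ⟨w, h1, h2⟩ := key a b
    by_cases hab : a = b
    · subst hab
      exact ⟨SimpleGraph.Walk.nil, by simp⟩
    by_cases hwa : w = a
    · subst hwa
      have e : G.Adj w b := (hadj w b).mpr ⟨hab, Or.inl h2⟩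
      exact ⟨SimpleGraph.Walk.cons e SimpleGraph.Walk.nil, by simp⟩
    by_cases hwb : w = b
    · subst hwb
      have e : G.Adj a w := (hadj a w).mpr ⟨hab, Or.inl h1⟩
      exact ⟨SimpleGraph.Walk.cons e SimpleGraph.Walk.nil, by simp⟩
    have e1 : G.Adj a w := (hadj a w).mpr ⟨fun h => hwa h.symm, Or.inl h1⟩
    have e2 : G.Adj w b := (hadj w b).mpr ⟨hwb, Or.inl h2⟩
    exact ⟨SimpleGraph.Walk.cons e1 (SimpleGraph.Walk.cons e2 SimpleGraph.Walk.nil), by simp⟩
  have hne : Nonempty {x : Equiv.Perm (Fin n) // IsConj t x} := ⟨⟨t, IsConj.refl t⟩⟩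
  have hconn : G.Connected := by
    refine ⟨fun a b => ?_⟩
    obtain ⟨p, _⟩ := walk a b
    exact ⟨p⟩
  refine ⟨hconn, ?_⟩
  have hed : G.ediam ≤ 2 := by
    apply SimpleGraph.ediam_le_of_edist_le
    intro u v
    obtain ⟨p, hp⟩ := walk u v
    exact le_trans p.edist_le (by exact_mod_cast hp)
  have hne_top : G.ediam ≠ ⊤ := by
    intro h
    rw [h] at hed
    exact absurd hed (by simp)
  apply le_antisymm
  · exact ENat.toNat_le_of_le_natCast (m := G.ediam) (n := 2) (by exact_mod_cast hed)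
  · obtain ⟨y, hy, hyt, hord⟩ := exists_nonadjacent n hn t ht2 ht1
    obtain ⟨a, ha⟩ : ∃ a : {x : Equiv.Perm (Fin n) // IsConj t x}, a.1 = t :=
      ⟨⟨t, IsConj.refl t⟩, rfl⟩
    obtain ⟨b, hb⟩ : ∃ b : {x : Equiv.Perm (Fin n) // IsConj t x}, b.1 = y := ⟨⟨y, hy⟩, rfl⟩
    have hab : a ≠ b := by
      intro h
      have e : a.1 = b.1 := congrArg Subtype.val h
      rw [ha, hb] at e
      exact hyt e.symm
    have hb2 : y * y = 1 := by rw [← hb]; exact (hinv b).1
    have hnadj : ¬ G.Adj a b := by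
      rw [hadj]
      rintro ⟨_, h | h⟩
      · rw [ha, hb, hord] at h
        exact (Nat.not_odd_iff_even.mpr even_two) h
      · have e : b.1 * a.1 = (t * y)⁻¹ := by
          rw [ha, hb, mul_inv_rev, inv_eq_of_mul_eq_one_left ht2, inv_eq_of_mul_eq_one_left hb2]
        rw [e, orderOf_inv, hord] at h
        exact (Nat.not_odd_iff_even.mpr even_two) h
    have hd : 2 ≤ G.dist a b := by
      have h0 : G.dist a b ≠ 0 := fun h => hab ((hconn.dist_eq_zero_iff).mp h)
      have h1 : G.dist a b ≠ 1 := fun h => hnadj (SimpleGraph.dist_eq_one_iff_adj.mp h)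
      omega
    exact le_trans hd (SimpleGraph.dist_le_diam hne_top)

end Cfsg.Agent.S3265
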