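import Mathlib
import Cfsg.Statements.S3266
import Cfsg.Agent.Lib.Helper13.PslInvF

set_option autoImplicit false
open Cfsg
open Cfsg.Agent.Lib.Helper13.PslInv

namespace Cfsg.Agent.S3266

theorem exists_third {F : Type*} [Field F] [Fintype F] (hF : 4 ≤ Fintype.card F)
    (x y : Matrix.ProjectiveSpecialLinearGroup (Fin 2) F) (hx : x * x = 1) (hx1 : x ≠ 1)
    (hy : y * y = 1) (hy1 : y ≠ 1) (hno : ¬ Odd (orderOf (x * y))) :
    ∃ z : Matrix.ProjectiveSpecialLinearGroup (Fin 2) F,
      z * z = 1 ∧ Odd (orderOf (x * z)) ∧ Odd (orderOf (z * y)) := by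
  by_cases hchar : ringChar F = 2
  · have : CharP F 2 := ringChar.of_eq hchar
    exact exists_third_of_char_two x y hx hx1 hy hy1 hno
  · exact exists_third_of_odd_char hF hchar x y hx hx1 hy hy1 hno

theorem exists_far {F : Type*} [Field F] [Fintype F] (hF : 4 ≤ Fintype.card F)
    (t : Matrix.ProjectiveSpecialLinearGroup (Fin 2) F) (ht : t * t = 1) (ht1 : t ≠ 1) :
    ∃ y : Matrix.ProjectiveSpecialLinearGroup (Fin 2) F,
      y * y = 1 ∧ y ≠ 1 ∧ orderOf (t * y) = 2 := by
  by_cases hchar : ringChar F = 2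
  · have : CharP F 2 := ringChar.of_eq hchar
    exact exists_far_of_char_two hF t ht ht1
  · exact exists_far_of_odd_char hchar t ht ht1

/-- Let F be a finite field with at least 4 elements and let X be a conjugacy class of involutions of PSL(2, F). The graph on X joining two distinct involutions whose product has odd order is connected and has diameter exactly 2. -/
theorem result {F : Type*} [Field F] [Fintype F] (hF : 4 ≤ Fintype.card F)
    (t : Matrix.ProjectiveSpecialLinearGroup (Fin 2) F) (ht : orderOf t = 2) :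
    (SimpleGraph.fromRel fun x y : {x : Matrix.ProjectiveSpecialLinearGroup (Fin 2) F // IsConj t x} =>
        Odd (orderOf (x.1 * y.1))).Connected ∧
      (SimpleGraph.fromRel fun x y : {x : Matrix.ProjectiveSpecialLinearGroup (Fin 2) F // IsConj t x} =>
        Odd (orderOf (x.1 * y.1))).diam = 2 := by
  classical
  set Γ := SimpleGraph.fromRel fun x y :
    {x : Matrix.ProjectiveSpecialLinearGroup (Fin 2) F // IsConj t x} =>
      Odd (orderOf (x.1 * y.1)) with hΓ
  have htt : t * t = 1 := by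
    have := pow_orderOf_eq_one t
    rw [ht, pow_two] at this
    exact this
  have ht1 : t ≠ 1 := by
    rintro rfl
    simp at ht
  have hvert : ∀ u : {x : Matrix.ProjectiveSpecialLinearGroup (Fin 2) F // IsConj t x},
      u.1 * u.1 = 1 ∧ u.1 ≠ 1 := by
    intro u
    obtain ⟨c, hc⟩ := isConj_iff.mp u.2
    constructor
    · rw [← hc]
      calc c * t * c⁻¹ * (c * t * c⁻¹) = c * (t * t) * c⁻¹ := by group
        _ = 1 := by rw [htt]; group
    · intro h
      apply ht1
      have e : t = c⁻¹ * (c * t * c⁻¹) * c := by group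
      rw [e, hc, h]; group
  have hstep : ∀ u v : {x : Matrix.ProjectiveSpecialLinearGroup (Fin 2) F // IsConj t x},
      u ≠ v → ¬ Γ.Adj u v → ∃ w, Γ.Adj u w ∧ Γ.Adj w v := by
    intro u v huv hnadj
    have hno : ¬ Odd (orderOf (u.1 * v.1)) :=
      fun h => hnadj ((SimpleGraph.fromRel_adj _ _ _).mpr ⟨huv, Or.inl h⟩)
    obtain ⟨z, hzz, hz1, hz2⟩ :=
      exists_third hF u.1 v.1 (hvert u).1 (hvert u).2 (hvert v).1 (hvert v).2 hno
    have hzconj : IsConj t z := u.2.trans (isConj_of_odd_orderOf_mul (hvert u).1 hzz hz1)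
    refine ⟨⟨z, hzconj⟩, ?_, ?_⟩
    · refine (SimpleGraph.fromRel_adj _ _ _).mpr ⟨?_, Or.inl hz1⟩
      intro h
      apply hno
      have hz : u.1 = z := congrArg Subtype.val h
      rw [hz]; exact hz2
    · refine (SimpleGraph.fromRel_adj _ _ _).mpr ⟨?_, Or.inl hz2⟩
      intro h
      apply hno
      have hz : z = v.1 := congrArg Subtype.val h
      rw [← hz]; exact hz1
  have hedist : ∀ u v, Γ.edist u v ≤ 2 := by
    intro u v
    by_cases huv : u = v
    · subst huv
      simp
    by_cases hadj : Γ.Adj u v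
    · rw [SimpleGraph.edist_eq_one_iff_adj.mpr hadj]
      exact one_le_two
    · obtain ⟨w, h1, h2⟩ := hstep u v huv hadj
      calc Γ.edist u v ≤ Γ.edist u w + Γ.edist w v := SimpleGraph.edist_triangle
        _ = 1 + 1 := by
          rw [SimpleGraph.edist_eq_one_iff_adj.mpr h1, SimpleGraph.edist_eq_one_iff_adj.mpr h2]
        _ = 2 := one_add_one_eq_two
  have hediam : Γ.ediam ≤ 2 := SimpleGraph.ediam_le_of_edist_le hedist
  have hne : Γ.ediam ≠ ⊤ := ne_top_of_le_ne_top (by simp) hediam
  have hnonempty : Nonempty {x : Matrix.ProjectiveSpecialLinearGroup (Fin 2) F // IsConj t x} :=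
    ⟨⟨t, IsConj.refl t⟩⟩
  have hconn : Γ.Connected := SimpleGraph.connected_of_ediam_ne_top hne
  refine ⟨hconn, le_antisymm ?_ ?_⟩
  · have e : Γ.diam = Γ.ediam.toNat := rfl
    rw [e]
    exact ENat.toNat_le_of_le_natCast (by exact_mod_cast hediam)
  · obtain ⟨y, hyy, hy1, hty⟩ := exists_far hF t htt ht1
    have hno : ¬ Odd (orderOf (t * y)) := by rw [hty]; decide
    obtain ⟨z, hzz, hz1, hz2⟩ := exists_third hF t y htt ht1 hyy hy1 hno
    have hyconj : IsConj t y :=
      (isConj_of_odd_orderOf_mul htt hzz hz1).trans (isConj_of_odd_orderOf_mul hzz hyy hz2)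
    have hTY : (⟨t, IsConj.refl t⟩ :
        {x : Matrix.ProjectiveSpecialLinearGroup (Fin 2) F // IsConj t x}) ≠ ⟨y, hyconj⟩ := by
      intro h
      have e : t = y := congrArg Subtype.val h
      rw [← e, htt] at hty
      simp at hty
    have hnadj : ¬ Γ.Adj ⟨t, IsConj.refl t⟩ ⟨y, hyconj⟩ := by
      intro hadj
      obtain ⟨-, h | h⟩ := (SimpleGraph.fromRel_adj _ _ _).mp hadj
      · exact hno h
      · have e : y * t = (t * y)⁻¹ := by
          rw [_root_.mul_inv_rev, inv_eq_of_mul_eq_one_left hyy, inv_eq_of_mul_eq_one_left htt]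
        change Odd (orderOf (y * t)) at h
        rw [e, orderOf_inv] at h
        exact hno h
    have hd := SimpleGraph.dist_le_diam hne (u := (⟨t, IsConj.refl t⟩ :
        {x : Matrix.ProjectiveSpecialLinearGroup (Fin 2) F // IsConj t x})) (v := ⟨y, hyconj⟩)
    have h0 : Γ.dist ⟨t, IsConj.refl t⟩ ⟨y, hyconj⟩ ≠ 0 := by
      intro h
      exact hTY (((hconn.preconnected _ _).dist_eq_zero_iff).mp h)
    have h1 : Γ.dist ⟨t, IsConj.refl t⟩ ⟨y, hyconj⟩ ≠ 1 := by
      intro h
      exact hnadj (SimpleGraph.dist_eq_one_iff_adj.mp h)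
    omega

end Cfsg.Agent.S3266
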