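import Cfsg.Statements.S3279
import Cfsg.Agent.S0215

set_option autoImplicit false
open Cfsg

namespace Cfsg.Agent.S3279

variable {G : Type*} [Group G]

/-- Four distinct elements of a type with at most three elements: contradiction. -/
theorem four_distinct_false {α : Type*} [Finite α] (h : Nat.card α ≤ 3) (a b c d : α)
    (hab : a ≠ b) (hac : a ≠ c) (had : a ≠ d) (hbc : b ≠ c) (hbd : b ≠ d) (hcd : c ≠ d) :
    False := by
  classical
  haveI := Fintype.ofFinite α
  rw [Nat.card_eq_fintype_card] at h
  have h1 : ({a, b, c, d} : Finset α).card ≤ Fintype.card α := Finset.card_le_univ _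
  have h4 : ({a, b, c, d} : Finset α).card = 4 := by
    rw [Finset.card_insert_of_notMem, Finset.card_insert_of_notMem,
      Finset.card_insert_of_notMem, Finset.card_singleton]
    all_goals simp [hab, hac, had, hbc, hbd, hcd]
  omega

theorem mul_self_of_orderOf_two {a : G} (ha : orderOf a = 2) : a * a = 1 := by
  rw [← sq, ← ha]; exact pow_orderOf_eq_one a

theorem inv_eq_self_of_orderOf_two {a : G} (ha : orderOf a = 2) : a⁻¹ = a := by
  rw [inv_eq_iff_mul_eq_one]; exact mul_self_of_orderOf_two ha

theorem ne_one_of_orderOf_two {a : G} (ha : orderOf a = 2) : a ≠ 1 := by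
  rintro rfl; simp at ha

theorem orderOf_two_of {a : G} (h1 : a ≠ 1) (h2 : a * a = 1) : orderOf a = 2 := by
  have : Fact (Nat.Prime 2) := ⟨Nat.prime_two⟩
  apply orderOf_eq_prime
  · rw [sq]; exact h2
  · exact h1

theorem orderOf_conj_two {a : G} (ha : orderOf a = 2) (g : G) : orderOf (g * a * g⁻¹) = 2 := by
  apply orderOf_two_of
  · intro h
    apply ne_one_of_orderOf_two ha
    calc a = g⁻¹ * (g * a * g⁻¹) * g := by group
      _ = 1 := by rw [h]; group
  · have h2 := mul_self_of_orderOf_two ha
    calc g * a * g⁻¹ * (g * a * g⁻¹) = g * (a * a) * g⁻¹ := by group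
      _ = 1 := by rw [h2]; group

theorem orderOf_conj_two' {a : G} (ha : orderOf a = 2) (g : G) : orderOf (g⁻¹ * a * g) = 2 := by
  have := orderOf_conj_two ha g⁻¹
  rwa [inv_inv] at this

/-- An involution `a` inverts the powers of `a * b` when `b` is an involution. -/
theorem inverts_pow {a b : G} (ha : orderOf a = 2) (hb : orderOf b = 2) (k : ℕ) :
    a * (a * b) ^ k = ((a * b) ^ k)⁻¹ * a := by
  have haa := mul_self_of_orderOf_two ha
  have h1 : a * (a * b) = (a * b)⁻¹ * a := by
    rw [mul_inv_rev, inv_eq_self_of_orderOf_two ha, inv_eq_self_of_orderOf_two hb,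
      ← mul_assoc, haa, one_mul, mul_assoc, haa, mul_one]
  induction k with
  | zero => simp
  | succ k ih =>
    calc a * (a * b) ^ (k + 1) = (a * (a * b) ^ k) * (a * b) := by rw [pow_succ, mul_assoc]
      _ = ((a * b) ^ k)⁻¹ * (a * (a * b)) := by rw [ih, mul_assoc]
      _ = ((a * b) ^ k)⁻¹ * ((a * b)⁻¹ * a) := by rw [h1]
      _ = ((a * b) * (a * b) ^ k)⁻¹ * a := by
          rw [mul_inv_rev (a * b) ((a * b) ^ k), mul_assoc]
      _ = ((a * b) ^ (k + 1))⁻¹ * a := by rw [pow_succ']

theorem isConj_of_odd_mul {a b : G} (ha : orderOf a = 2) (hb : orderOf b = 2)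
    (hodd : Odd (orderOf (a * b))) : IsConj a b := by
  obtain ⟨m, hm⟩ := hodd
  have hrn : (a * b) ^ (2 * m + 1) = 1 := by rw [← hm]; exact pow_orderOf_eq_one _
  have haa := mul_self_of_orderOf_two ha
  rw [isConj_iff]
  refine ⟨((a * b) ^ (m + 1))⁻¹, ?_⟩
  rw [inv_inv, mul_assoc, inverts_pow ha hb (m + 1), ← mul_assoc, ← mul_inv_rev, ← pow_add]
  have h2 : m + 1 + (m + 1) = (2 * m + 1) + 1 := by ring
  rw [h2, pow_succ, hrn, one_mul, mul_inv_rev, inv_eq_self_of_orderOf_two ha,
    inv_eq_self_of_orderOf_two hb, mul_assoc, haa, mul_one]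

/-- Two involutions whose product does not have odd order commute with a common involution. -/
theorem exists_commuting_inv [Finite G] {a b : G} (ha : orderOf a = 2) (hb : orderOf b = 2)
    (hev : ¬ Odd (orderOf (a * b))) :
    ∃ z : G, orderOf z = 2 ∧ Commute z a ∧ Commute z b := by
  rw [Nat.not_odd_iff_even] at hev
  obtain ⟨j, hj⟩ := hev
  have hpos : 0 < orderOf (a * b) := orderOf_pos _
  have hj0 : j ≠ 0 := by omega
  have hz1 : (a * b) ^ j ≠ 1 := pow_ne_one_of_lt_orderOf hj0 (by omega)
  have hzz : (a * b) ^ j * (a * b) ^ j = 1 := by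
    rw [← pow_add, ← hj]; exact pow_orderOf_eq_one _
  have hz2 : orderOf ((a * b) ^ j) = 2 := orderOf_two_of hz1 hzz
  have hza : Commute ((a * b) ^ j) a := by
    have := inverts_pow ha hb j
    rw [inv_eq_self_of_orderOf_two hz2] at this
    exact this.symm
  have hzr : Commute ((a * b) ^ j) (a * b) := (Commute.refl (a * b)).pow_left j
  have hab : a * (a * b) = b := by
    rw [← mul_assoc, mul_self_of_orderOf_two ha, one_mul]
  refine ⟨(a * b) ^ j, hz2, hza, ?_⟩
  have := hza.mul_right hzr
  rwa [hab] at this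

theorem eq_one_or_eq_of_mem_zpowers {x u : G} (hx : orderOf x = 2)
    (hu : u ∈ Subgroup.zpowers x) : u = 1 ∨ u = x := by
  obtain ⟨k, rfl⟩ := Subgroup.mem_zpowers_iff.mp hu
  rw [← zpow_mod_orderOf, hx]
  have h2 : ((2 : ℕ) : ℤ) = 2 := by norm_num
  rw [h2]
  rcases Int.emod_two_eq_zero_or_one k with h | h
  · left; rw [h]; simp
  · right; rw [h]; simp

theorem mem_smul_iff' (S : Sylow 2 G) (g x : G) :
    x ∈ ((g • S : Sylow 2 G) : Subgroup G) ↔ g⁻¹ * x * g ∈ (S : Subgroup G) := by
  rw [Sylow.coe_subgroup_smul, Subgroup.mem_pointwise_smul_iff_inv_smul_mem]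
  simp [MulAut.smul_def]

theorem exists_central_involution [Finite G] (P : Sylow 2 G) {x : G} (hxP : x ∈ P) (hx1 : x ≠ 1) :
    ∃ z : G, z ∈ P ∧ orderOf z = 2 ∧ ∀ s ∈ P, Commute z s := by
  have : Fact (Nat.Prime 2) := ⟨Nat.prime_two⟩
  haveI : Nontrivial (P : Subgroup G) :=
    ⟨⟨⟨x, hxP⟩, 1, fun h => hx1 (congrArg Subtype.val h)⟩⟩
  have hP : IsPGroup 2 (P : Subgroup G) := P.isPGroup'
  haveI := hP.center_nontrivial
  have hc : IsPGroup 2 (Subgroup.center (P : Subgroup G)) := hP.to_subgroup _
  have hdvd : 2 ∣ Nat.card (Subgroup.center (P : Subgroup G)) := by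
    rcases hc.card_eq_or_dvd with h | h
    · exfalso
      have := Finite.one_lt_card (α := Subgroup.center (P : Subgroup G))
      omega
    · exact h
  obtain ⟨z₀, hz₀⟩ := exists_prime_orderOf_dvd_card' 2 hdvd
  refine ⟨((z₀ : (P : Subgroup G)) : G), (z₀ : (P : Subgroup G)).2, ?_, ?_⟩
  · rw [Subgroup.orderOf_coe, Subgroup.orderOf_coe]; exact hz₀
  · intro s hs
    have := Subgroup.mem_center_iff.mp z₀.2 ⟨s, hs⟩
    have h := congrArg Subtype.val this
    simp only [Subgroup.coe_mul] at h
    exact h.symm

/-- A non-central involution of a finite simple group commutes with another conjugate of itself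
(Glauberman's Z*-theorem). -/
theorem exists_commuting_conj [Finite G] [IsSimpleGroup G] (x : G) (hx : orderOf x = 2)
    (hxc : x ∉ Subgroup.center G) (P : Sylow 2 G) (hxP : x ∈ P) :
    ∃ g : G, g * x * g⁻¹ ≠ x ∧ Commute (g * x * g⁻¹) x := by
  have : Fact (Nat.Prime 2) := ⟨Nat.prime_two⟩
  have hGodd : ¬ Odd (Nat.card G) := by
    intro hodd
    have h2 : 2 ∣ Nat.card G := hx ▸ orderOf_dvd_natCard x
    exact (Nat.not_even_iff_odd.mpr hodd) (even_iff_two_dvd.mpr h2)
  by_cases hPc : (P : Subgroup G) ≤ Subgroup.centralizer ({x} : Set G)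
  · by_contra hcon
    push_neg at hcon
    have hiso : ∀ g : G, g * x * g⁻¹ ∈ P → g * x * g⁻¹ = x := by
      intro g hg
      by_contra hne
      apply hcon g hne
      have := hPc hg
      rw [Subgroup.mem_centralizer_iff] at this
      exact (this x (Set.mem_singleton x)).symm
    obtain ⟨N, hN, hNodd, hNc⟩ := Cfsg.Agent.S0215.result P x hx hxP hiso
    rcases hN.eq_bot_or_eq_top with h | h
    · apply hxc
      rw [Subgroup.mem_center_iff]
      intro g
      have h1 := hNc g
      rw [h, Subgroup.mem_bot] at h1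
      calc g * x = (x * g * x⁻¹ * g⁻¹)⁻¹ * (x * g) := by group
        _ = x * g := by rw [h1]; group
    · apply hGodd
      rw [h] at hNodd
      rwa [Subgroup.card_top] at hNodd
  · set Q : Subgroup (P : Subgroup G) :=
      (Subgroup.centralizer ({x} : Set G)).subgroupOf (P : Subgroup G) with hQ
    have hQlt : Q < ⊤ := by
      rw [lt_top_iff_ne_top]
      intro h
      apply hPc
      intro s hs
      have : (⟨s, hs⟩ : (P : Subgroup G)) ∈ Q := by rw [h]; trivial
      exact Subgroup.mem_subgroupOf.mp this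
    haveI : Group.IsNilpotent (P : Subgroup G) := P.isPGroup'.isNilpotent
    have hnc := Group.normalizerCondition_of_isNilpotent (G := (P : Subgroup G)) Q hQlt
    obtain ⟨s, hsN, hsQ⟩ := SetLike.exists_of_lt hnc
    have hxQ : (⟨x, hxP⟩ : (P : Subgroup G)) ∈ Q := by
      rw [hQ, Subgroup.mem_subgroupOf, Subgroup.mem_centralizer_iff]
      intro h hh
      rw [Set.mem_singleton_iff] at hh
      rw [hh]
    have hconj : s * ⟨x, hxP⟩ * s⁻¹ ∈ Q := (Subgroup.mem_normalizer_iff.mp hsN _).mp hxQ
    rw [hQ, Subgroup.mem_subgroupOf, Subgroup.mem_centralizer_iff] at hconj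
    have hc1 := hconj x (Set.mem_singleton x)
    simp only [Subgroup.coe_mul, Subgroup.coe_inv] at hc1
    refine ⟨(s : G), ?_, hc1.symm⟩
    intro heq
    apply hsQ
    rw [hQ, Subgroup.mem_subgroupOf, Subgroup.mem_centralizer_iff]
    intro h hh
    rw [Set.mem_singleton_iff] at hh
    rw [hh]
    calc x * (s : G) = ((s : G) * x * (s : G)⁻¹)⁻¹ * x * x * (s : G) := by
          rw [heq, inv_eq_self_of_orderOf_two hx, mul_self_of_orderOf_two hx, one_mul]
      _ = (s : G) * x := by
          rw [heq, inv_eq_self_of_orderOf_two hx, mul_self_of_orderOf_two hx, one_mul]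
          calc x * (s : G) = ((s : G) * x * (s : G)⁻¹) * (s : G) := by rw [heq]
            _ = (s : G) * x := by group

theorem core [Finite G] [IsSimpleGroup G] (x : G) (hx : orderOf x = 2)
    (h3 : Nat.card {u : ↥(Subgroup.centralizer ({x} : Set G)) // orderOf u = 2} ≤ 3)
    (hxc : x ∉ Subgroup.center G) (P : Sylow 2 G) (hxP : x ∈ P)
    (g₀ y w : G) (hy : y = g₀ * x * g₀⁻¹) (hyne : y ≠ x) (hyc : Commute y x) (hw : w = x * y) :
    (∃ S : Sylow 2 G, (S : Subgroup G) ≤ Subgroup.centralizer ({x} : Set G)) ∧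
      ∀ u v : G, orderOf u = 2 → orderOf v = 2 → IsConj u v := by
  classical
  have : Fact (Nat.Prime 2) := ⟨Nat.prime_two⟩
  have hx1 : x ≠ 1 := ne_one_of_orderOf_two hx
  have hxx : x * x = 1 := mul_self_of_orderOf_two hx
  have hy2 : orderOf y = 2 := by rw [hy]; exact orderOf_conj_two hx g₀
  have hyy : y * y = 1 := mul_self_of_orderOf_two hy2
  have hxy : x * y = y * x := hyc.eq.symm
  have hconjxy : IsConj x y := isConj_iff.mpr ⟨g₀, hy.symm⟩
  have hw1 : w ≠ 1 := by
    intro h
    apply hyne
    rw [hw] at h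
    have : y = x⁻¹ := eq_inv_of_mul_eq_one_right h
    rw [this, inv_eq_self_of_orderOf_two hx]
  have hww : w * w = 1 := by
    rw [hw]
    calc x * y * (x * y) = x * (y * x) * y := by group
      _ = x * (x * y) * y := by rw [← hxy]
      _ = (x * x) * (y * y) := by group
      _ = 1 := by rw [hxx, hyy, one_mul]
  have hw2 : orderOf w = 2 := orderOf_two_of hw1 hww
  have hwx : w ≠ x := by
    intro h
    apply ne_one_of_orderOf_two hy2
    rw [hw] at h
    exact mul_left_cancel (a := x) (by rw [mul_one]; exact h)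
  have hwy : w ≠ y := by
    intro h
    apply hx1
    rw [hw] at h
    exact mul_right_cancel (b := y) (by rw [one_mul]; exact h)
  have hcwx : Commute w x := by
    show w * x = x * w
    rw [hw, mul_assoc, ← hxy]
  have hcwy : Commute w y := by
    show w * y = y * w
    rw [hw, ← mul_assoc, ← hxy]
  -- the involutions commuting with x
  have memC : ∀ a : G, Commute a x → a ∈ Subgroup.centralizer ({x} : Set G) := by
    intro a ha
    rw [Subgroup.mem_centralizer_iff]
    intro h hh
    rw [Set.mem_singleton_iff] at hh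
    rw [hh]; exact ha.eq.symm
  have htriple : ∀ z : G, orderOf z = 2 → Commute z x → z = x ∨ z = y ∨ z = w := by
    intro z hz hzx
    by_contra hcon
    push_neg at hcon
    obtain ⟨h1, h2, h4⟩ := hcon
    let mk : ∀ a : G, Commute a x → orderOf a = 2 →
        {u : ↥(Subgroup.centralizer ({x} : Set G)) // orderOf u = 2} :=
      fun a ha ho => ⟨⟨a, memC a ha⟩, by rw [← Subgroup.orderOf_coe]; exact ho⟩
    have inj : ∀ u v : {u : ↥(Subgroup.centralizer ({x} : Set G)) // orderOf u = 2},
        ((u : ↥(Subgroup.centralizer ({x} : Set G))) : G) ≠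
          ((v : ↥(Subgroup.centralizer ({x} : Set G))) : G) → u ≠ v := by
      intro u v hne h
      apply hne
      rw [h]
    exact four_distinct_false h3 (mk x (Commute.refl x) hx) (mk y hyc hy2) (mk w hcwx hw2)
      (mk z hzx hz) (inj _ _ hyne.symm) (inj _ _ hwx.symm)
      (inj _ _ h1.symm) (inj _ _ hwy.symm) (inj _ _ h2.symm)
      (inj _ _ h4.symm)
  have htriple' : ∀ (g z : G), orderOf z = 2 → Commute z (g * x * g⁻¹) →
      z = g * x * g⁻¹ ∨ z = g * y * g⁻¹ ∨ z = g * w * g⁻¹ := by
    intro g z hz hzc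
    have h1 : orderOf (g⁻¹ * z * g) = 2 := orderOf_conj_two' hz g
    have h2 : Commute (g⁻¹ * z * g) x := by
      have e := hzc.eq
      show g⁻¹ * z * g * x = x * (g⁻¹ * z * g)
      calc g⁻¹ * z * g * x = g⁻¹ * (z * (g * x * g⁻¹)) * g := by group
        _ = g⁻¹ * ((g * x * g⁻¹) * z) * g := by rw [e]
        _ = x * (g⁻¹ * z * g) := by group
    rcases htriple _ h1 h2 with h | h | h
    · left; rw [← h]; group
    · right; left; rw [← h]; group
    · right; right; rw [← h]; group
  have htripleY : ∀ z : G, orderOf z = 2 → Commute z y → z = y ∨ z = x ∨ z = w := by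
    intro z hz hzy
    rw [hy] at hzy
    have hxy' : Commute x (g₀ * x * g₀⁻¹) := by rw [← hy]; exact hyc.symm
    have hwy' : Commute w (g₀ * x * g₀⁻¹) := by rw [← hy]; exact hcwy
    have hX := htriple' g₀ x hx hxy'
    have hW := htriple' g₀ w hw2 hwy'
    have hZ := htriple' g₀ z hz hzy
    rw [← hy] at hX hW hZ
    rcases hZ with hZ | hZ | hZ
    · left; exact hZ
    · rcases hX with hX | hX | hX
      · exact absurd hX hyne.symm
      · right; left; rw [hZ, ← hX]
      · rcases hW with hW | hW | hW
        · exact absurd hW hwy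
        · right; right; rw [hZ, ← hW]
        · exact absurd (hX.trans hW.symm) hwx.symm
    · rcases hX with hX | hX | hX
      · exact absurd hX hyne.symm
      · rcases hW with hW | hW | hW
        · exact absurd hW hwy
        · exact absurd (hX.trans hW.symm) hwx.symm
        · right; right; rw [hZ, ← hW]
      · right; left; rw [hZ, ← hX]
  by_cases hwc : IsConj x w
  · -- Case A: all three involutions of C(x) are conjugate
    obtain ⟨z, hzP, hz2, hzc⟩ := exists_central_involution P hxP hx1
    have hzx : Commute z x := hzc x hxP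
    have hallx : ∀ a : G, a = x ∨ a = y ∨ a = w → IsConj x a := by
      intro a ha
      rcases ha with ha | ha | ha
      · rw [ha]
      · rw [ha]; exact hconjxy
      · rw [ha]; exact hwc
    have hzconj : IsConj x z := hallx z (htriple z hz2 hzx)
    obtain ⟨c, hc⟩ := isConj_iff.mp hzconj
    constructor
    · refine ⟨c⁻¹ • P, ?_⟩
      intro s hs
      rw [mem_smul_iff', inv_inv] at hs
      have hcomm := hzc _ hs
      rw [Subgroup.mem_centralizer_iff]
      intro h hh
      rw [Set.mem_singleton_iff] at hh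
      rw [hh]
      have e := hcomm.eq
      rw [← hc] at e
      calc x * s = c⁻¹ * ((c * x * c⁻¹) * (c * s * c⁻¹)) * c := by group
        _ = c⁻¹ * ((c * s * c⁻¹) * (c * x * c⁻¹)) * c := by rw [e]
        _ = s * x := by group
    · have hall : ∀ u : G, orderOf u = 2 → IsConj x u := by
        intro u hu
        have hpu : IsPGroup 2 (Subgroup.zpowers u) := by
          apply IsPGroup.of_card (n := 1)
          rw [Nat.card_zpowers, hu, pow_one]
        obtain ⟨Q, huQ'⟩ := hpu.exists_le_sylow
        have huQ : u ∈ (Q : Subgroup G) := huQ' (Subgroup.mem_zpowers u)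
        obtain ⟨d, hd⟩ := MulAction.exists_smul_eq G P Q
        rw [← hd, mem_smul_iff'] at huQ
        have hu' : orderOf (d⁻¹ * u * d) = 2 := orderOf_conj_two' hu d
        have hcomm : Commute (d⁻¹ * u * d) z := (hzc _ huQ).symm
        rw [← hc] at hcomm
        have hdu : IsConj (d⁻¹ * u * d) u := isConj_iff.mpr ⟨d, by group⟩
        rcases htriple' c _ hu' hcomm with h | h | h
        · rw [h] at hdu
          exact ((isConj_iff.mpr ⟨c, rfl⟩ : IsConj x (c * x * c⁻¹))).trans hdu
        · rw [h] at hdu
          exact (hconjxy.trans (isConj_iff.mpr ⟨c, rfl⟩ : IsConj y (c * y * c⁻¹))).trans hdu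
        · rw [h] at hdu
          exact (hwc.trans (isConj_iff.mpr ⟨c, rfl⟩ : IsConj w (c * w * c⁻¹))).trans hdu
      intro u v hu hv
      exact (hall u hu).symm.trans (hall v hv)
  · -- Case B: impossible
    exfalso
    have hcomm_w : ∀ h : G, Commute w (h * w * h⁻¹) := by
      intro h
      have hw'2 : orderOf (h * w * h⁻¹) = 2 := orderOf_conj_two hw2 h
      have hww' : IsConj w (h * w * h⁻¹) := isConj_iff.mpr ⟨h, rfl⟩
      have hw'x : ¬ IsConj x (h * w * h⁻¹) := fun hc' => hwc (hc'.trans hww'.symm)
      have hw'y : ¬ IsConj y (h * w * h⁻¹) := fun hc' => hw'x (hconjxy.trans hc')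
      by_cases hcx : Commute (h * w * h⁻¹) x
      · rcases htriple _ hw'2 hcx with e | e | e
        · exact absurd (by rw [e]) hw'x
        · exact absurd (by rw [e]) hw'y
        · rw [e]
      · have hnodd : ¬ Odd (orderOf (x * (h * w * h⁻¹))) := fun ho =>
          hw'x (isConj_of_odd_mul hx hw'2 ho)
        obtain ⟨z, hz2, hzx, hzw'⟩ := exists_commuting_inv hx hw'2 hnodd
        rcases htriple z hz2 hzx with e | e | e
        · exfalso; apply hcx; rw [e] at hzw'; exact hzw'.symm
        · rw [e] at hzw'
          rcases htripleY _ hw'2 hzw'.symm with e' | e' | e'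
          · exact absurd (by rw [e']) hw'y
          · exact absurd (by rw [e']) hw'x
          · rw [e']
        · rw [e] at hzw'; exact hzw'
    -- hence w is central
    have hle : Subgroup.normalClosure ({w} : Set G) ≤ Subgroup.centralizer ({w} : Set G) := by
      rw [Subgroup.normalClosure, Subgroup.closure_le]
      intro a ha
      rw [Group.mem_conjugatesOfSet_iff] at ha
      obtain ⟨b, hb, hba⟩ := ha
      rw [Set.mem_singleton_iff] at hb
      rw [hb] at hba
      obtain ⟨c, hc⟩ := isConj_iff.mp hba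
      rw [SetLike.mem_coe, Subgroup.mem_centralizer_iff]
      intro k hk
      rw [Set.mem_singleton_iff] at hk
      rw [hk, ← hc]
      exact (hcomm_w c).eq
    have htop : Subgroup.normalClosure ({w} : Set G) = ⊤ := by
      rcases (Subgroup.normalClosure_normal (s := ({w} : Set G))).eq_bot_or_eq_top with h | h
      · exfalso
        apply hw1
        have : w ∈ Subgroup.normalClosure ({w} : Set G) :=
          Subgroup.subset_normalClosure (Set.mem_singleton w)
        rw [h, Subgroup.mem_bot] at this
        exact this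
      · exact h
    have hwcen : w ∈ Subgroup.center G := by
      rw [Subgroup.mem_center_iff]
      intro g
      have hg : g ∈ Subgroup.centralizer ({w} : Set G) := hle (by rw [htop]; trivial)
      rw [Subgroup.mem_centralizer_iff] at hg
      exact (hg w (Set.mem_singleton w)).symm
    have hcen : Subgroup.center G = ⊤ := by
      rcases (inferInstance : (Subgroup.center G).Normal).eq_bot_or_eq_top with h | h
      · exfalso
        apply hw1
        rw [h, Subgroup.mem_bot] at hwcen
        exact hwcen
      · exact h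
    apply hxc
    rw [hcen]; trivial

/-- Let G be a finite simple group and x an involution of G whose centralizer contains at most three involutions. Then C_G(x) contains a Sylow 2-subgroup of G, and all involutions of G are conjugate. -/
theorem result {G : Type*} [Group G] [Finite G] [IsSimpleGroup G] (x : G) (hx : orderOf x = 2)
    (h3 : Nat.card {u : ↥(Subgroup.centralizer ({x} : Set G)) // orderOf u = 2} ≤ 3) :
    (∃ S : Sylow 2 G, (S : Subgroup G) ≤ Subgroup.centralizer ({x} : Set G)) ∧
      ∀ u v : G, orderOf u = 2 → orderOf v = 2 → IsConj u v := by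
  have : Fact (Nat.Prime 2) := ⟨Nat.prime_two⟩
  have hx1 : x ≠ 1 := ne_one_of_orderOf_two hx
  by_cases hxc : x ∈ Subgroup.center G
  · have hle : Subgroup.zpowers x ≤ Subgroup.center G := (Subgroup.zpowers_le).mpr hxc
    have hn : (Subgroup.zpowers x).Normal := ⟨fun n hn g => by
      have hc := Subgroup.mem_center_iff.mp (hle hn) g
      have : g * n * g⁻¹ = n := by rw [hc, mul_assoc, mul_inv_cancel, mul_one]
      rw [this]; exact hn⟩
    have htop : Subgroup.zpowers x = ⊤ := by
      rcases hn.eq_bot_or_eq_top with h | h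
      · exfalso
        apply hx1
        have := Subgroup.mem_zpowers x
        rw [h, Subgroup.mem_bot] at this
        exact this
      · exact h
    have hall : ∀ u : G, orderOf u = 2 → u = x := by
      intro u hu
      have hmem : u ∈ Subgroup.zpowers x := by rw [htop]; trivial
      rcases eq_one_or_eq_of_mem_zpowers hx hmem with h | h
      · exact absurd h (ne_one_of_orderOf_two hu)
      · exact h
    constructor
    · obtain ⟨S, _⟩ := (IsPGroup.of_bot : IsPGroup 2 (⊥ : Subgroup G)).exists_le_sylow
      refine ⟨S, fun s _ => ?_⟩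
      rw [Subgroup.mem_centralizer_iff]
      intro h hh
      rw [Set.mem_singleton_iff] at hh
      rw [hh]
      exact (Subgroup.mem_center_iff.mp hxc s).symm
    · intro u v hu hv
      rw [hall u hu, hall v hv]
  · have hpx : IsPGroup 2 (Subgroup.zpowers x) := by
      apply IsPGroup.of_card (n := 1)
      rw [Nat.card_zpowers, hx, pow_one]
    obtain ⟨P, hxP'⟩ := hpx.exists_le_sylow
    have hxP : x ∈ P := hxP' (Subgroup.mem_zpowers x)
    obtain ⟨g₀, hyne, hyc⟩ := exists_commuting_conj x hx hxc P hxP
    exact core x hx h3 hxc P hxP g₀ (g₀ * x * g₀⁻¹) (x * (g₀ * x * g₀⁻¹)) rfl hyne hyc rfl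

end Cfsg.Agent.S3279
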