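import Mathlib
import Cfsg.Statements.S3294
import Cfsg.Agent.Lib.Helper1.Fitting
import Cfsg.Agent.Lib.Helper1.Hall
import Cfsg.Agent.S3303

set_option autoImplicit false
open Cfsg

namespace Cfsg.Agent.S3294

open Cfsg.Agent.Lib.Helper1 QuaternionGroup

/-- A normal cyclic `2`-subgroup is centralized by a `2`-power of every element. -/
theorem exists_pow_mem_centralizer {X : Type*} [Group X] [Finite X] (C : Subgroup X) [C.Normal]
    (hcyc : IsCyclic C) (hC : IsPGroup 2 C) (x : X) :
    ∃ a : ℕ, x ^ 2 ^ a ∈ Subgroup.centralizer (C : Set X) := by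
  have hA : IsPGroup 2 (MulAut C) := Cfsg.Agent.S3303.isPGroup_mulAut_of_cyclic hC
  obtain ⟨a, ha⟩ := hA (MulAut.conjNormal x)
  rw [← map_pow] at ha
  refine ⟨a, ?_⟩
  rw [Subgroup.mem_centralizer_iff]
  intro n hn
  have h1 := congrArg (fun φ : MulAut C => ((φ ⟨n, hn⟩ : C) : X)) ha
  simp only [MulAut.conjNormal_apply, MulAut.one_apply] at h1
  have h2 : x ^ 2 ^ a * n = n * x ^ 2 ^ a := mul_inv_eq_iff_eq_mul.1 h1
  exact h2.symm

/-- If `C ≤ Q` are normal, `C` has "index at most two" in `Q` and `x` centralizes `C`, then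
`x ^ |C|` centralizes `Q`. -/
theorem pow_card_mem_centralizer {X : Type*} [Group X] [Finite X] (Q C : Subgroup X)
    [Q.Normal] [C.Normal]
    (h2 : ∀ y z : X, y ∈ Q → z ∈ Q → y ∉ C → z ∉ C → y⁻¹ * z ∈ C)
    (x : X) (hx : x ∈ Subgroup.centralizer (C : Set X)) :
    x ^ Nat.card C ∈ Subgroup.centralizer (Q : Set X) := by
  rw [Subgroup.mem_centralizer_iff]
  intro y hy
  by_cases hyC : y ∈ C
  · have : x ^ Nat.card C ∈ Subgroup.centralizer (C : Set X) := Subgroup.pow_mem _ hx _
    exact (Subgroup.mem_centralizer_iff.1 this) y hyC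
  · have hxy : x * y * x⁻¹ ∈ Q := ‹Q.Normal›.conj_mem y hy x
    have hxyC : x * y * x⁻¹ ∉ C := by
      intro h
      apply hyC
      have := ‹C.Normal›.conj_mem _ h x⁻¹
      simpa [mul_assoc] using this
    have hc : y⁻¹ * (x * y * x⁻¹) ∈ C := h2 y _ hy hxy hyC hxyC
    set c := y⁻¹ * (x * y * x⁻¹) with hcdef
    have hxc : ∀ j : ℕ, x * c ^ j = c ^ j * x := by
      intro j
      have := (Subgroup.mem_centralizer_iff.1 hx) (c ^ j) (Subgroup.pow_mem _ hc j)
      exact this.symm
    have key : ∀ j : ℕ, x ^ j * y = y * c ^ j * x ^ j := by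
      intro j
      induction j with
      | zero => simp
      | succ j ih =>
        have e1 : x * y = y * c * x := by
          rw [hcdef]; group
        calc x ^ (j + 1) * y = x * (x ^ j * y) := by rw [pow_succ']; group
          _ = x * (y * c ^ j * x ^ j) := by rw [ih]
          _ = (x * y) * c ^ j * x ^ j := by group
          _ = y * c * (x * c ^ j) * x ^ j := by rw [e1]; group
          _ = y * c * (c ^ j * x) * x ^ j := by rw [hxc j]
          _ = y * c ^ (j + 1) * x ^ (j + 1) := by rw [pow_succ' c j, pow_succ' x j]; group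
    have hc1 : c ^ Nat.card C = 1 := by
      have h := pow_card_eq_one' (G := C) (x := ⟨c, hc⟩)
      have h' := congrArg Subtype.val h
      simpa only [SubmonoidClass.coe_pow, OneMemClass.coe_one] using h'
    have := key (Nat.card C)
    rw [hc1, mul_one] at this
    exact this.symm

/-- The main lemma: a finite solvable group with trivial odd core whose `2`-core lies in the
image of a generalized quaternion group of order at least `32` is a `2`-group. -/
theorem isPGroup_of_quaternion {X : Type*} [Group X] [Finite X] [Group.IsSolvable X]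
    (hbot : pPrimeCore 2 X = ⊥) (n : ℕ) (hn : 3 ≤ n)
    (f : QuaternionGroup (2 ^ n) →* X) (hf : Function.Injective f)
    (hle : pCore 2 X ≤ f.range) : IsPGroup 2 X := by
  have : Fact (Nat.Prime 2) := ⟨Nat.prime_two⟩
  have hcent := centralizer_pCore_le (G := X) 2 hbot
  have hQp : IsPGroup 2 (pCore 2 X) := pCore_isPGroup 2
  have hQn : (pCore 2 X).Normal := inferInstance
  set Q := pCore 2 X with hQdef
  by_cases hcase : Q ≤ Subgroup.zpowers (f (a 1))
  · -- cyclic core
    have hcyc : IsCyclic Q := Subgroup.isCyclic_of_le hcase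
    exact Cfsg.Agent.S3303.isPGroup_of_cyclic_core hcyc hcent
  · -- the core contains some `xa i`
    obtain ⟨q, hqQ, hqA⟩ := SetLike.not_le_iff_exists.1 hcase
    -- elements of the range
    have hrange : ∀ y ∈ Q, (∃ i, y = f (a i)) ∨ (∃ i, y = f (xa i)) := by
      intro y hy
      obtain ⟨w, rfl⟩ := hle hy
      cases w with
      | a i => exact Or.inl ⟨i, rfl⟩
      | xa i => exact Or.inr ⟨i, rfl⟩
    have hfa : ∀ i : ZMod (2 * 2 ^ n), f (a i) ∈ Subgroup.zpowers (f (a 1)) := by
      intro i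
      have : (a i : QuaternionGroup (2 ^ n)) = a 1 ^ (i.val) := by
        rw [a_one_pow]
        have : NeZero (2 * 2 ^ n) := ⟨by positivity⟩
        rw [ZMod.natCast_zmod_val]
      rw [this, map_pow]
      exact Subgroup.pow_mem _ (Subgroup.mem_zpowers _) _
    obtain ⟨i, rfl⟩ : ∃ i, q = f (xa i) := by
      rcases hrange q hqQ with ⟨i, rfl⟩ | h
      · exact absurd (hfa i) hqA
      · exact h
    -- `a 2 ∈ Q`
    have ha2 : f (a 2) ∈ Q := by
      have h1 : f (a 1) * f (xa i) * (f (a 1))⁻¹ ∈ Q := hQn.conj_mem _ hqQ _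
      have h2 : (f (xa i))⁻¹ * (f (a 1) * f (xa i) * (f (a 1))⁻¹) ∈ Q :=
        Subgroup.mul_mem _ (Subgroup.inv_mem _ hqQ) h1
      have h3 : (f (xa i))⁻¹ * (f (a 1) * f (xa i) * (f (a 1))⁻¹) = (f (a 2))⁻¹ := by
        rw [← map_inv, ← map_inv, ← map_inv, ← map_mul, ← map_mul, ← map_mul]
        congr 1
        have e1 : (a 1 : QuaternionGroup (2 ^ n))⁻¹ = a (-1) := rfl
        have e2 : (xa i : QuaternionGroup (2 ^ n))⁻¹ = xa (((2 ^ n : ℕ) : ZMod (2 * 2 ^ n)) + i) := rfl
        have e3 : (a 2 : QuaternionGroup (2 ^ n))⁻¹ = a (-2) := rfl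
        rw [e1, e2, e3, a_mul_xa, xa_mul_a, xa_mul_xa]
        congr 1
        ring
      rw [h3] at h2
      simpa using Subgroup.inv_mem _ h2
    set C := Q ⊓ Subgroup.zpowers (f (a 1)) with hCdef
    have ha2C : f (a 2) ∈ C := ⟨ha2, hfa 2⟩
    have hCcyc : IsCyclic C := Subgroup.isCyclic_of_le (inf_le_right : C ≤ _)
    have hCp : IsPGroup 2 C := hQp.to_le (inf_le_left : C ≤ Q)
    -- 8 ≠ 0
    have h8 : f (a 2) ^ 4 ≠ 1 := by
      rw [← map_pow]
      intro h
      have h' := hf (h.trans (map_one f).symm)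
      have e : (a 2 : QuaternionGroup (2 ^ n)) ^ 4 = a 8 := by
        simp only [pow_succ, pow_zero, one_mul, a_mul_a]
        congr 1; norm_num
      rw [e, one_def] at h'
      have h'' : (8 : ZMod (2 * 2 ^ n)) = 0 := by
        injection h'
      have : ((8 : ℕ) : ZMod (2 * 2 ^ n)) = 0 := by exact_mod_cast h''
      rw [ZMod.natCast_eq_zero_iff] at this
      have hge : 2 * 2 ^ 3 ≤ 2 * 2 ^ n := by
        apply Nat.mul_le_mul_left
        exact Nat.pow_le_pow_right (by norm_num) hn
      have := Nat.le_of_dvd (by norm_num) this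
      omega
    -- `C` is normal
    have hCn : C.Normal := by
      constructor
      intro c hc x
      obtain ⟨g, hg⟩ := hCcyc.exists_generator
      have hgQ : (g : X) ∈ Q := g.2.1
      have hxg : x * g * x⁻¹ ∈ Q := hQn.conj_mem _ hgQ x
      have hxgA : x * g * x⁻¹ ∈ Subgroup.zpowers (f (a 1)) := by
        rcases hrange _ hxg with ⟨j, hj⟩ | ⟨j, hj⟩
        · rw [hj]; exact hfa j
        · exfalso
          have h4 : (x * g * x⁻¹) ^ 4 = 1 := by
            rw [hj, ← map_pow, xa_pow_four, map_one]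
          have hg4 : (g : X) ^ 4 = 1 := by
            have : (x * g * x⁻¹) ^ 4 = x * (g : X) ^ 4 * x⁻¹ := by
              rw [conj_pow]
            rw [this] at h4
            have : (g : X) ^ 4 = x⁻¹ * (x * (g : X) ^ 4 * x⁻¹) * x := by group
            rw [this, h4]; group
          apply h8
          obtain ⟨k, hk⟩ := hg ⟨f (a 2), ha2C⟩
          have hk' : (g : X) ^ k = f (a 2) := by
            have := congrArg Subtype.val hk
            simpa using this
          rw [← hk', ← zpow_natCast, ← zpow_mul, mul_comm, zpow_mul, zpow_natCast, hg4, one_zpow]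
      obtain ⟨k, hk⟩ := hg ⟨c, hc⟩
      have hk' : (g : X) ^ k = c := by
        have := congrArg Subtype.val hk
        simpa using this
      have : x * c * x⁻¹ = (x * g * x⁻¹) ^ k := by
        rw [← hk']
        rw [conj_zpow]
      rw [this]
      exact Subgroup.zpow_mem _ (show x * g * x⁻¹ ∈ C from ⟨hxg, hxgA⟩) _
    -- index two
    have h2 : ∀ y z : X, y ∈ Q → z ∈ Q → y ∉ C → z ∉ C → y⁻¹ * z ∈ C := by
      intro y z hy hz hyC hzC
      refine ⟨Subgroup.mul_mem _ (Subgroup.inv_mem _ hy) hz, ?_⟩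
      obtain ⟨j, rfl⟩ : ∃ j, y = f (xa j) := by
        rcases hrange y hy with ⟨j, rfl⟩ | h
        · exact absurd (show f (a j) ∈ C from ⟨hy, hfa j⟩) hyC
        · exact h
      obtain ⟨k, rfl⟩ : ∃ k, z = f (xa k) := by
        rcases hrange z hz with ⟨j, rfl⟩ | h
        · exact absurd (show f (a j) ∈ C from ⟨hz, hfa j⟩) hzC
        · exact h
      rw [← map_inv, ← map_mul]
      have e2 : (xa j : QuaternionGroup (2 ^ n))⁻¹ = xa (((2 ^ n : ℕ) : ZMod (2 * 2 ^ n)) + j) := rfl
      rw [e2, xa_mul_xa]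
      exact hfa _
    -- now every element is a 2-element
    intro x
    obtain ⟨a₁, ha₁⟩ := exists_pow_mem_centralizer C hCcyc hCp x
    have h3 := pow_card_mem_centralizer Q C h2 _ ha₁
    obtain ⟨t, ht⟩ := (IsPGroup.iff_card).1 hCp
    have h4 : (x ^ 2 ^ a₁) ^ Nat.card C ∈ Q := hcent h3
    obtain ⟨b, hb⟩ := hQp ⟨_, h4⟩
    have hb' : ((x ^ 2 ^ a₁) ^ Nat.card C) ^ 2 ^ b = 1 := by
      have := congrArg Subtype.val hb
      simpa using this
    refine ⟨a₁ + t + b, ?_⟩
    rw [pow_add, pow_add, pow_mul, pow_mul, ← ht]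
    exact hb'

/-- A finite solvable group whose Sylow 2-subgroups are generalized quaternion of order at least 32 has a normal 2-complement. -/
theorem result {G : Type*} [Group G] [Finite G] (hsol : Group.IsSolvable G) (T : Sylow 2 G) (n : ℕ) (hn : 3 ≤ n) (hT : Nonempty ((T : Subgroup G) ≃* QuaternionGroup (2 ^ n))) : Cfsg.HasNormalPComplement 2 G := by
  have : Fact (Nat.Prime 2) := ⟨Nat.prime_two⟩
  obtain ⟨e⟩ := hT
  set N := Cfsg.oddCore G with hNdef
  have hNn : N.Normal := inferInstance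
  have hcop : (Nat.card N).Coprime 2 := pPrimeCore_coprime 2
  -- disjointness
  have hdisj : ∀ g : G, g ∈ N → g ∈ (T : Subgroup G) → g = 1 := by
    intro g hgN hgT
    have h1 : orderOf g ∣ Nat.card N := by
      have := orderOf_dvd_natCard (⟨g, hgN⟩ : N)
      rwa [Subgroup.orderOf_mk] at this
    obtain ⟨k, hk⟩ := (IsPGroup.iff_orderOf.1 T.2) ⟨g, hgT⟩
    rw [Subgroup.orderOf_mk] at hk
    have h2 : (orderOf g).Coprime 2 := Nat.Coprime.coprime_dvd_left h1 hcop
    rw [hk] at h2
    have : orderOf g = 1 := by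
      rw [hk]
      rcases Nat.eq_zero_or_pos k with h0 | h0
      · rw [h0, pow_zero]
      · exfalso
        have := (Nat.coprime_pow_left_iff h0 2 2).1 h2
        norm_num at this
    exact orderOf_eq_one_iff.1 this
  let f : QuaternionGroup (2 ^ n) →* G ⧸ N :=
    (QuotientGroup.mk' N).comp ((T : Subgroup G).subtype.comp e.symm.toMonoidHom)
  have hf : Function.Injective f := by
    rw [injective_iff_map_eq_one]
    intro w hw
    have h1 : ((e.symm w : (T : Subgroup G)) : G) ∈ N := by
      have : (QuotientGroup.mk' N) ((e.symm w : (T : Subgroup G)) : G) = 1 := hw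
      exact (QuotientGroup.eq_one_iff _).1 this
    have h2 := hdisj _ h1 (e.symm w).2
    have h3 : e.symm w = 1 := Subtype.ext h2
    have := congrArg e h3
    simpa using this
  have hrange : f.range = (T : Subgroup G).map (QuotientGroup.mk' N) := by
    ext y
    constructor
    · rintro ⟨w, rfl⟩
      exact ⟨_, (e.symm w).2, rfl⟩
    · rintro ⟨g, hg, rfl⟩
      refine ⟨e ⟨g, hg⟩, ?_⟩
      simp [f]
  let S : Sylow 2 (G ⧸ N) := T.mapSurjective (QuotientGroup.mk'_surjective N)
  have hS : (S : Subgroup (G ⧸ N)) = (T : Subgroup G).map (QuotientGroup.mk' N) := rfl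
  have hbot : pPrimeCore 2 (G ⧸ N) = ⊥ := Cfsg.Agent.S3303.pPrimeCore_quot_eq_bot 2
  have hle : pCore 2 (G ⧸ N) ≤ f.range := by
    rw [hrange, ← hS]
    exact pCore_le_sylow S
  have hp : IsPGroup 2 (G ⧸ N) := isPGroup_of_quaternion hbot n hn f hf hle
  have hStop : (S : Subgroup (G ⧸ N)) = ⊤ := (S.3 (hp.to_subgroup ⊤) le_top).symm
  have hcardT : Nat.card (T : Subgroup G) = Nat.card (G ⧸ N) := by
    have h1 : Nat.card (T : Subgroup G) = Nat.card (QuaternionGroup (2 ^ n)) :=
      Nat.card_congr e.toEquiv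
    have h2 : Nat.card (QuaternionGroup (2 ^ n)) = Nat.card f.range :=
      Nat.card_congr (MonoidHom.ofInjective hf).toEquiv
    rw [h1, h2, hrange, ← hS, hStop, Subgroup.card_top]
  refine ⟨T, N, hNn, ?_⟩
  apply Subgroup.isComplement'_of_coprime
  · rw [hcardT, mul_comm]
    exact (Subgroup.card_eq_card_quotient_mul_card_subgroup N).symm
  · obtain ⟨k, hk⟩ := (IsPGroup.iff_card).1 T.2
    rw [hk]
    exact Nat.Coprime.pow_right _ hcop

end Cfsg.Agent.S3294
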