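import Mathlib
import Cfsg.Statements.S3299
import Cfsg.Agent.Lib.Helper22.TransferFix
import Cfsg.Agent.Lib.Helper22.ExtraFacts
import Cfsg.Agent.Lib.Helper1.Cores

set_option autoImplicit false
open Cfsg

namespace Cfsg.Agent.S3299

open Subgroup Cfsg.Agent.Lib.Helper22.TransferFix Cfsg.Agent.Lib.Helper22.ExtraFacts

/-- the transfer into `ℤˣ` is trivial when `G = O²(G)` -/
theorem transfer_trivial {G : Type*} [Group G] [Finite G] (hres : Cfsg.pResidual 2 G = ⊤)
    (V : G →* ℤˣ) (g : G) : V g = 1 := by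
  have hker : V.ker = ⊤ := by
    rw [eq_top_iff, ← hres]
    unfold Cfsg.pResidual
    rw [closure_le]
    intro g hg
    rw [SetLike.mem_coe, MonoidHom.mem_ker]
    have h1 : (V g) ^ 2 = 1 := by
      rcases Int.units_eq_one_or (V g) with h | h <;> rw [h] <;> decide
    have h2 : (V g) ^ orderOf g = 1 := by rw [← map_pow, pow_orderOf_eq_one, map_one]
    have h3 : orderOf (V g) ∣ Nat.gcd (orderOf g) 2 :=
      Nat.dvd_gcd (orderOf_dvd_of_pow_eq_one h2) (orderOf_dvd_of_pow_eq_one h1)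
    have hg' : Nat.gcd (orderOf g) 2 = 1 := hg
    rw [hg'] at h3
    exact orderOf_eq_one_iff.mp (Nat.dvd_one.mp h3)
  have : g ∈ V.ker := hker ▸ mem_top g
  exact this

/-- the group-theoretic core of the statement -/
theorem core {G : Type*} [Group G] [Finite G] (hres : Cfsg.pResidual 2 G = ⊤) (z : G)
    (hz : orderOf z = 2) (E K : Subgroup G) (F : EF E z) (hEp : IsPGroup 2 E)
    (hnorm : ∀ h : G, h * z = z * h → ∀ e ∈ E, h * e * h⁻¹ ∈ E)
    (hcent : ∀ c : G, (∀ e ∈ E, e * c = c * e) → c ∈ E)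
    (hKH : K ≤ centralizer ({z} : Set G)) (hKi : K.relIndex (centralizer ({z} : Set G)) = 2) :
    E ≤ K := by
  classical
  have : Fact (Nat.Prime 2) := ⟨Nat.prime_two⟩
  set H : Subgroup G := centralizer ({z} : Set G) with hHdef
  have hmemH : ∀ g : G, g ∈ H ↔ g * z = z * g := fun g => mem_centralizer_singleton_iff
  have hEH : E ≤ H := fun e he => (hmemH e).mpr (F.zc e he)
  have hmul : ∀ a ∈ H, ∀ b ∈ H, (a * b ∈ K ↔ (a ∈ K ↔ b ∈ K)) :=
    fun a ha b hb => mul_mem_iff_of_relIndex_two hKi ha hb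
  by_contra hEK
  obtain ⟨x, hxE, hxK⟩ := SetLike.not_le_iff_exists.mp hEK
  -- `z ∈ K`
  have hzK : z ∈ K := by
    obtain ⟨d, hd, d', hd', -, -, hdd⟩ := F.big 1 E.one_mem
    have hanti : d * d' = z * (d' * d) := by
      rcases F.comm d hd d' hd' with h | h
      · exact absurd h hdd
      · exact h
    have e1 : z = d * d' * d⁻¹ * d'⁻¹ := by rw [hanti]; group
    rw [e1]
    exact comm_mem_of_relIndex_two hKi (hEH hd) (hEH hd')
  -- an involution of `E` outside `K`
  obtain ⟨u, huE, huK, hu2⟩ := F.invol_outside hEH hKi hmul hzK hxE hxK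
  have huz : u ≠ z := fun h => huK (h ▸ hzK)
  have hu1 : u ≠ 1 := fun h => huK (h ▸ K.one_mem)
  have huzK : u * z ∉ K := by
    rw [hmul u (hEH huE) z (hEH F.zE)]
    tauto
  obtain ⟨e, heE, heu⟩ : ∃ e ∈ E, e * u = z * (u * e) := by
    by_contra hno
    push Not at hno
    have hall : ∀ e ∈ E, e * u = u * e := by
      intro e he
      rcases F.comm e he u huE with h | h
      · exact h
      · exact absurd h (hno e he)
    rcases F.cen u huE hall with h | h
    · exact hu1 h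
    · exact huz h
  have huinv : u⁻¹ = u := inv_eq_of_mul_eq_one_left hu2
  -- odd index
  have hodd : ¬ 2 ∣ H.index := by
    obtain ⟨S, hES⟩ := hEp.exists_le_sylow
    have hSnt : Nontrivial ↥(S : Subgroup G) := by
      refine ⟨⟨⟨z, hES F.zE⟩, 1, ?_⟩⟩
      intro h
      exact F.z1 (congrArg Subtype.val h)
    have hcnt := S.isPGroup'.center_nontrivial
    obtain ⟨⟨c, hcZ⟩, hc1⟩ := exists_ne (1 : ↥(center ↥(S : Subgroup G)))
    have hcc : ∀ s ∈ (S : Subgroup G), s * (c : G) = (c : G) * s := by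
      intro s hs
      have := (mem_center_iff.mp hcZ) ⟨s, hs⟩
      exact congrArg Subtype.val this
    have hcE : (c : G) ∈ E := hcent _ (fun e he => hcc e (hES he))
    have hcz : (c : G) = z := by
      rcases F.cen _ hcE (fun e he => hcc e (hES he)) with h | h
      · exfalso
        apply hc1
        apply Subtype.ext
        apply Subtype.ext
        exact h
      · exact h
    have hSH : (S : Subgroup G) ≤ H := by
      intro s hs
      rw [hmemH, ← hcz]
      exact hcc s hs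
    intro h2
    exact S.not_dvd_index (dvd_trans h2 (index_dvd_of_le hSH))
  -- the subgroup `F₁`
  have hzu : z * u = u * z := (F.zc u huE).symm
  let p : Subgroup G → Prop := fun F' => IsPGroup 2 F' ∧ F' ≤ H ⊓ centralizer ({u} : Set G)
  have hpB : p (E ⊓ centralizer ({u} : Set G)) :=
    ⟨hEp.to_le inf_le_left, le_inf (inf_le_left.trans hEH) inf_le_right⟩
  obtain ⟨F₁, hBF, hmax⟩ := Finite.exists_le_maximal (p := p) hpB
  have hF₁p : IsPGroup 2 F₁ := hmax.prop.1
  have hF₁H : F₁ ≤ H := hmax.prop.2.trans inf_le_left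
  have hF₁u : ∀ f ∈ F₁, f * u = u * f := fun f hf =>
    mem_centralizer_singleton_iff.mp ((hmax.prop.2 hf).2)
  have hBmem : ∀ b ∈ E, b * u = u * b → b ∈ F₁ := fun b hb hbu =>
    hBF ⟨hb, mem_centralizer_singleton_iff.mpr hbu⟩
  have hzF₁ : z ∈ F₁ := hBmem z F.zE hzu
  have huF₁ : u ∈ F₁ := hBmem u huE rfl
  -- the centre of `F₁`
  have hP2 : ∀ c ∈ F₁, (∀ f ∈ F₁, f * c = c * f) → c = 1 ∨ c = u ∨ c = z ∨ c = u * z := by
    intro c _ hcc
    apply F.cent_B hcent hnorm huE hu2 heE heu (h := c)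
    · exact (hcc z hzF₁).symm
    · intro b hb hbu
      exact (hcc b (hBmem b hb hbu)).symm
  -- a non-commuting pair in `C_E(u)`
  obtain ⟨a, haE, b, hbE, hau, hbu, hab⟩ := F.big u huE
  have habz : a * b * a⁻¹ * b⁻¹ = z := by
    rcases F.comm a haE b hbE with h | h
    · exact absurd h hab
    · rw [h]; group
  have haF : a ∈ F₁ := hBmem a haE hau
  have hbF : b ∈ F₁ := hBmem b hbE hbu
  -- elements normalising `F₁` centralise `z`
  have hkey : ∀ r : G, (∀ f, f ∈ F₁ ↔ r * f * r⁻¹ ∈ F₁) → r * z * r⁻¹ = z := by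
    intro r hr
    have hz'F : r * z * r⁻¹ ∈ F₁ := (hr z).mp hzF₁
    have hz'c : ∀ f ∈ F₁, f * (r * z * r⁻¹) = (r * z * r⁻¹) * f := by
      intro f hf
      have hf0 : r⁻¹ * f * r ∈ F₁ := by
        apply (hr _).mpr
        have : r * (r⁻¹ * f * r) * r⁻¹ = f := by group
        rw [this]; exact hf
      have hf0z := (hmemH _).mp (hF₁H hf0)
      calc f * (r * z * r⁻¹) = r * ((r⁻¹ * f * r) * z) * r⁻¹ := by group
        _ = r * (z * (r⁻¹ * f * r)) * r⁻¹ := by rw [hf0z]
        _ = (r * z * r⁻¹) * f := by group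
    have hz'K : r * z * r⁻¹ ∈ K := by
      have e1 : r * z * r⁻¹ = (r * a * r⁻¹) * (r * b * r⁻¹) * (r * a * r⁻¹)⁻¹ * (r * b * r⁻¹)⁻¹ := by
        rw [← habz]; group
      rw [e1]
      exact comm_mem_of_relIndex_two hKi (hF₁H ((hr a).mp haF)) (hF₁H ((hr b).mp hbF))
    rcases hP2 _ hz'F hz'c with h | h | h | h
    · exfalso
      apply F.z1
      calc z = r⁻¹ * (r * z * r⁻¹) * r := by group
        _ = 1 := by rw [h]; group
    · exact absurd (h ▸ hz'K) huK
    · exact h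
    · exact absurd (h ▸ hz'K) huzK
  -- `F₁` is a Sylow 2-subgroup of `C_G(u)`
  have hP1 : ∀ F₂ : Subgroup G, IsPGroup 2 F₂ → F₁ ≤ F₂ → F₂ ≤ centralizer ({u} : Set G) →
      F₂ ≤ F₁ := by
    intro F₂ hF₂ h12 hF₂u
    by_contra hne
    have hlt : F₁.subgroupOf F₂ < ⊤ :=
      lt_top_iff_ne_top.mpr (fun h => hne (subgroupOf_eq_top.mp h))
    have hnil : Group.IsNilpotent ↥F₂ := hF₂.isNilpotent
    have hlt2 := Group.normalizerCondition_of_isNilpotent (G := ↥F₂) _ hlt
    obtain ⟨r, hrN, hrA⟩ := SetLike.exists_of_lt hlt2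
    rw [mem_normalizer_iff] at hrN
    have hr : ∀ f, f ∈ F₁ ↔ (r : G) * f * (r : G)⁻¹ ∈ F₁ := by
      intro f
      constructor
      · intro hf
        have := (hrN ⟨f, h12 hf⟩).mp (mem_subgroupOf.mpr hf)
        simpa [mem_subgroupOf] using this
      · intro hf
        have hfF₂ : f ∈ F₂ := by
          have h1 : (r : G)⁻¹ * ((r : G) * f * (r : G)⁻¹) * (r : G) ∈ F₂ :=
            F₂.mul_mem (F₂.mul_mem (F₂.inv_mem r.2) (h12 hf)) r.2
          have e1 : (r : G)⁻¹ * ((r : G) * f * (r : G)⁻¹) * (r : G) = f := by group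
          rwa [e1] at h1
        have := (hrN ⟨f, hfF₂⟩).mpr (by simpa [mem_subgroupOf] using hf)
        simpa [mem_subgroupOf] using this
    have hrz := hkey r hr
    have hrH : (r : G) ∈ H := by
      rw [hmemH]
      calc (r : G) * z = ((r : G) * z * (r : G)⁻¹) * (r : G) := by group
        _ = z * (r : G) := by rw [hrz]
    have hru : (r : G) ∈ centralizer ({u} : Set G) := hF₂u r.2
    have hp' : p (F₁ ⊔ zpowers (r : G)) :=
      ⟨hF₂.to_le (sup_le h12 (zpowers_le.mpr r.2)),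
        sup_le hmax.prop.2 (zpowers_le.mpr ⟨hrH, hru⟩)⟩
    have hle := hmax.le_of_ge hp' le_sup_left
    exact hrA (mem_subgroupOf.mpr (hle (le_sup_right (a := F₁) (mem_zpowers (r : G)))))
  -- `u` is not conjugate to `z`
  have hP3 : ∀ g₁ : G, g₁ * z * g₁⁻¹ ≠ u := by
    intro g₁ hg
    set E₁ : Subgroup G := E.map (MulAut.conj g₁).toMonoidHom with hE₁
    have hmemE₁ : ∀ y : G, y ∈ E₁ ↔ ∃ e ∈ E, g₁ * e * g₁⁻¹ = y := by
      intro y
      rw [hE₁, mem_map]
      simp [MulAut.conj_apply]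
    have hE₁u : E₁ ≤ centralizer ({u} : Set G) := by
      intro y hy
      obtain ⟨e, he, rfl⟩ := (hmemE₁ y).mp hy
      rw [mem_centralizer_singleton_iff, ← hg]
      have := F.zc e he
      calc g₁ * e * g₁⁻¹ * (g₁ * z * g₁⁻¹) = g₁ * (e * z) * g₁⁻¹ := by group
        _ = g₁ * (z * e) * g₁⁻¹ := by rw [this]
        _ = g₁ * z * g₁⁻¹ * (g₁ * e * g₁⁻¹) := by group
    have hE₁p : IsPGroup 2 E₁ := hEp.map _
    have conjE : ∀ f : G, f * u = u * f → ∀ y ∈ E₁, f * y * f⁻¹ ∈ E₁ := by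
      intro f hfu y hy
      obtain ⟨e, he, rfl⟩ := (hmemE₁ y).mp hy
      have hfz : (g₁⁻¹ * f * g₁) * z = z * (g₁⁻¹ * f * g₁) := by
        calc g₁⁻¹ * f * g₁ * z = g₁⁻¹ * (f * (g₁ * z * g₁⁻¹)) * g₁ := by group
          _ = g₁⁻¹ * ((g₁ * z * g₁⁻¹) * f) * g₁ := by rw [hg, hfu]
          _ = z * (g₁⁻¹ * f * g₁) := by group
      have h1 := hnorm _ hfz e he
      rw [hmemE₁]
      refine ⟨_, h1, ?_⟩
      group
    have hnormal : F₁ ≤ normalizer (E₁ : Set G) := by
      intro f hf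
      rw [mem_normalizer_iff]
      intro y
      constructor
      · exact conjE f (hF₁u f hf) y
      · intro hy
        have hf' : f⁻¹ * u = u * f⁻¹ := hF₁u f⁻¹ (F₁.inv_mem hf)
        have := conjE f⁻¹ hf' _ hy
        have e1 : f⁻¹ * (f * y * f⁻¹) * f⁻¹⁻¹ = y := by group
        rwa [e1] at this
    have hsup : IsPGroup 2 (F₁ ⊔ E₁ : Subgroup G) := hF₁p.to_sup_of_normal_right' hE₁p hnormal
    have hE₁F : E₁ ≤ F₁ :=
      le_sup_right.trans (hP1 _ hsup le_sup_left (sup_le (hmax.prop.2.trans inf_le_right) hE₁u))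
    -- `g₁⁻¹ z g₁` centralises `E`
    have hw : ∀ e ∈ E, e * (g₁⁻¹ * z * g₁) = (g₁⁻¹ * z * g₁) * e := by
      intro e he
      have h1 : g₁ * e * g₁⁻¹ ∈ F₁ := hE₁F ((hmemE₁ _).mpr ⟨e, he, rfl⟩)
      have h2 := (hmemH _).mp (hF₁H h1)
      calc e * (g₁⁻¹ * z * g₁) = g₁⁻¹ * ((g₁ * e * g₁⁻¹) * z) * g₁ := by group
        _ = g₁⁻¹ * (z * (g₁ * e * g₁⁻¹)) * g₁ := by rw [h2]
        _ = (g₁⁻¹ * z * g₁) * e := by group
    rcases F.cen _ (hcent _ hw) hw with h | h
    · apply F.z1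
      calc z = g₁ * (g₁⁻¹ * z * g₁) * g₁⁻¹ := by group
        _ = 1 := by rw [h]; group
    · apply huz
      calc u = g₁ * z * g₁⁻¹ := hg.symm
        _ = g₁ * (g₁⁻¹ * z * g₁) * g₁⁻¹ := by rw [h]
        _ = z := by group
  -- the extremal conjugate
  obtain ⟨g, hgK, hgR⟩ := exists_conj_fixed H K hKH hKi hodd u hu2
    (transfer_trivial hres _ u) F₁ hF₁p hF₁u
  have hz''F : ∀ f ∈ F₁, f * (g * z * g⁻¹) = (g * z * g⁻¹) * f := by
    intro f hf
    have h1 := (hmemH _).mp (hgR f hf)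
    calc f * (g * z * g⁻¹) = g * ((g⁻¹ * f * g) * z) * g⁻¹ := by group
      _ = g * (z * (g⁻¹ * f * g)) * g⁻¹ := by rw [h1]
      _ = (g * z * g⁻¹) * f := by group
  have hz''mem : g * z * g⁻¹ ∈ F₁ := by
    have hzp : IsPGroup 2 (zpowers (g * z * g⁻¹)) := by
      apply IsPGroup.of_card (n := 1)
      rw [Nat.card_zpowers, pow_one]
      have : g * z * g⁻¹ = MulAut.conj g z := by simp [MulAut.conj_apply]
      rw [this, MulEquiv.orderOf_eq, hz]
    have hnz : zpowers (g * z * g⁻¹) ≤ normalizer (F₁ : Set G) := by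
      rw [zpowers_le, mem_normalizer_iff]
      intro f
      constructor
      · intro hf
        have := hz''F f hf
        have e1 : g * z * g⁻¹ * f * (g * z * g⁻¹)⁻¹ = f := by
          rw [← this]; group
        rw [e1]; exact hf
      · intro hf
        have h1 := hz''F _ hf
        have e1 : f = g * z * g⁻¹ * f * (g * z * g⁻¹)⁻¹ := by
          calc f = (g * z * g⁻¹)⁻¹ * ((g * z * g⁻¹ * f * (g * z * g⁻¹)⁻¹) * (g * z * g⁻¹)) := by
                group
            _ = (g * z * g⁻¹)⁻¹ * ((g * z * g⁻¹) * (g * z * g⁻¹ * f * (g * z * g⁻¹)⁻¹)) := by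
                rw [h1]
            _ = g * z * g⁻¹ * f * (g * z * g⁻¹)⁻¹ := by group
        rw [e1]; exact hf
    have hsup : IsPGroup 2 (zpowers (g * z * g⁻¹) ⊔ F₁ : Subgroup G) :=
      hzp.to_sup_of_normal_right' hF₁p hnz
    have hsu : zpowers (g * z * g⁻¹) ⊔ F₁ ≤ centralizer ({u} : Set G) := by
      apply sup_le
      · rw [zpowers_le, mem_centralizer_singleton_iff]
        exact (hz''F u huF₁).symm
      · exact hmax.prop.2.trans inf_le_right
    exact (le_sup_left.trans (hP1 _ hsup le_sup_right hsu)) (mem_zpowers _)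
  rcases hP2 _ hz''mem hz''F with h | h | h | h
  · apply F.z1
    calc z = g⁻¹ * (g * z * g⁻¹) * g := by group
      _ = 1 := by rw [h]; group
  · exact hP3 g h
  · have hgH : g ∈ H := by
      rw [hmemH]
      calc g * z = (g * z * g⁻¹) * g := by group
        _ = z * g := by rw [h]
    exact huK ((conj_mem_of_relIndex_two hKi hgH (hEH huE)).mp hgK)
  · apply hP3 (e⁻¹ * g)
    have e1 : e⁻¹ * g * z * (e⁻¹ * g)⁻¹ = e⁻¹ * (g * z * g⁻¹) * e := by group
    rw [e1, h]
    have h2 := F.inv_anti heE huE heu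
    have hze := F.zc e heE
    calc e⁻¹ * (u * z) * e = (e⁻¹ * u) * z * e := by group
      _ = z * (u * e⁻¹) * z * e := by rw [h2]
      _ = z * u * e⁻¹ * (z * e) := by group
      _ = z * u * e⁻¹ * (e * z) := by rw [hze]
      _ = (z * u) * z := by group
      _ = (u * z) * z := by rw [hzu]
      _ = u := by rw [mul_assoc, F.z2, mul_one]

/-- Let G be a finite group with no nontrivial 2-group quotient (O^2(G) = G), z an involution of G with H = C_G(z), and suppose E = O_2(H) is extraspecial with C_G(E) ≤ E and of order 2^(2n+1) with n ≥ 2. Then E is contained in every normal subgroup of H of index 2. -/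
theorem result {G : Type*} [Group G] [Finite G] (hres : Cfsg.pResidual 2 G = ⊤) (z : G) (hz : orderOf z = 2)
    (E : Subgroup G) (hE : E = (Cfsg.pCore 2 ↥(Subgroup.centralizer ({z} : Set G))).map (Subgroup.centralizer ({z} : Set G)).subtype)
    (hext : Cfsg.IsExtraspecial 2 ↥E) (hcent : Subgroup.centralizer (E : Set G) ≤ E) (n : ℕ) (hn : 2 ≤ n) (hcard : Nat.card ↥E = 2 ^ (2 * n + 1))
    (K : Subgroup G) (hKH : K ≤ Subgroup.centralizer ({z} : Set G))
    (hKn : ∀ h ∈ Subgroup.centralizer ({z} : Set G), K.map (MulAut.conj h).toMonoidHom = K)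
    (hKi : K.relIndex (Subgroup.centralizer ({z} : Set G)) = 2) : E ≤ K := by
  classical
  have : Fact (Nat.Prime 2) := ⟨Nat.prime_two⟩
  set H : Subgroup G := centralizer ({z} : Set G) with hHdef
  have hmemH : ∀ g : G, g ∈ H ↔ g * z = z * g := fun g => mem_centralizer_singleton_iff
  have hz1 : z ≠ 1 := by
    intro h; rw [h, orderOf_one] at hz; norm_num at hz
  have hzH : z ∈ H := (hmemH z).mpr rfl
  have hEp : IsPGroup 2 E := by
    rw [hE]
    exact (Cfsg.Agent.Lib.Helper1.pCore_isPGroup (G := ↥H) 2).map _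
  have hEH : E ≤ H := by
    rw [hE]
    rintro _ ⟨y, -, rfl⟩
    exact y.2
  have hmemE : ∀ y : G, y ∈ E ↔ ∃ hy : y ∈ H, (⟨y, hy⟩ : ↥H) ∈ Cfsg.pCore 2 ↥H := by
    intro y
    rw [hE, mem_map]
    constructor
    · rintro ⟨w, hw, rfl⟩
      exact ⟨w.2, hw⟩
    · rintro ⟨hy, hw⟩
      exact ⟨⟨y, hy⟩, hw, rfl⟩
  have hnorm : ∀ h : G, h * z = z * h → ∀ e ∈ E, h * e * h⁻¹ ∈ E := by
    intro h hh e he
    obtain ⟨heH, hec⟩ := (hmemE e).mp he
    have hhH : h ∈ H := (hmemH h).mpr hh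
    have hN := Cfsg.Agent.Lib.Helper1.pCore_normal (G := ↥H) 2
    have := hN.conj_mem _ hec ⟨h, hhH⟩
    rw [hmemE]
    exact ⟨H.mul_mem (H.mul_mem hhH heH) (H.inv_mem hhH), this⟩
  have hzE : z ∈ E := by
    rw [hmemE]
    refine ⟨hzH, ?_⟩
    have hN : (zpowers (⟨z, hzH⟩ : ↥H)).Normal := by
      constructor
      intro w hw g
      obtain ⟨k, rfl⟩ := mem_zpowers_iff.mp hw
      have hc : g * (⟨z, hzH⟩ : ↥H) = ⟨z, hzH⟩ * g := by
        apply Subtype.ext
        exact (hmemH _).mp g.2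
      have hc' : Commute g (⟨z, hzH⟩ : ↥H) := hc
      have : g * (⟨z, hzH⟩ : ↥H) ^ k * g⁻¹ = (⟨z, hzH⟩ : ↥H) ^ k := by
        rw [(hc'.zpow_right k).eq, mul_inv_cancel_right]
      rw [this]
      exact hw
    have hp : IsPGroup 2 (zpowers (⟨z, hzH⟩ : ↥H)) := by
      apply IsPGroup.of_card (n := 1)
      rw [Nat.card_zpowers, pow_one]
      have : orderOf (⟨z, hzH⟩ : ↥H) = orderOf z := by
        rw [← Subgroup.orderOf_coe]
      rw [this, hz]
    exact Cfsg.Agent.Lib.Helper1.le_pCore hN hp (mem_zpowers _)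
  have hcard32 : 32 ≤ Nat.card E := by
    rw [hcard]
    calc 32 = 2 ^ 5 := by norm_num
      _ ≤ 2 ^ (2 * n + 1) := Nat.pow_le_pow_right (by norm_num) (by omega)
  have F : EF E z := ef_of E z hext hzE (fun e he => (hmemH e).mp (hEH he)) hz1 hcard32
  have hcent' : ∀ c : G, (∀ e ∈ E, e * c = c * e) → c ∈ E := by
    intro c hc
    apply hcent
    rw [mem_centralizer_iff]
    intro e he
    exact hc e he
  exact core hres z hz E K F hEp hnorm hcent' hKH hKi

end Cfsg.Agent.S3299
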