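-- Statement S3304: solvable groups whose distinct Sylow 2-subgroups intersect in rank at most one,
-- modulo the odd core.
import Cfsg.Statements.S3304
import Cfsg.Agent.S3303
import Cfsg.Agent.Lib.Helper10.UniqueOrderP
import Cfsg.Agent.Lib.Helper21.QuatAut
import Cfsg.Agent.Lib.Helper21.Q8Core

set_option autoImplicit false
set_option linter.style.haveILetI false
open Cfsg

namespace Cfsg.Agent.S3304

open Cfsg.Agent.Lib.Helper1 Cfsg.Agent.Lib.Helper10 Cfsg.Agent.Lib.Helper16
  Cfsg.Agent.Lib.Helper21.QuatAut Cfsg.Agent.Lib.Helper21.Q8Core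

/-- `H` contains no Klein four-group. -/
def NoV4 {X : Type*} [Group X] (H : Subgroup X) : Prop :=
  ∀ a ∈ H, ∀ b ∈ H, a * a = 1 → b * b = 1 → a * b = b * a → a ≠ 1 → b ≠ 1 → a = b

theorem NoV4.mono {X : Type*} [Group X] {H K : Subgroup X} (hK : NoV4 K) (h : H ≤ K) :
    NoV4 H :=
  fun a ha b hb => hK a (h ha) b (h hb)

theorem eq_of_pRankLE {H : Type*} [Group H] [Finite H] (h : Cfsg.PRankLE 2 1 H) (a b : H)
    (ha2 : a * a = 1) (hb2 : b * b = 1) (hab : a * b = b * a) (ha1 : a ≠ 1) (hb1 : b ≠ 1) :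
    a = b := by
  by_contra hne
  have hcomm : IsMulCommutative (Subgroup.closure ({a, b} : Set H)) := by
    apply Subgroup.isMulCommutative_closure
    rintro x (rfl | rfl) y (rfl | rfl)
    · rfl
    · exact hab
    · exact hab.symm
    · rfl
  have hexp : ∀ x ∈ Subgroup.closure ({a, b} : Set H), x ^ 2 = 1 := by
    intro x hx
    induction hx using Subgroup.closure_induction with
    | mem x hx =>
      rcases hx with rfl | rfl
      · rw [pow_two]
        exact ha2
      · rw [pow_two]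
        exact hb2
    | one => exact one_pow 2
    | mul x y hx hy hx2 hy2 =>
      have hc : Commute x y := setLike_mul_comm hx hy
      rw [hc.mul_pow, hx2, hy2, one_mul]
    | inv x hx hx2 => rw [inv_pow, hx2, inv_one]
  have hcard := h _ hcomm hexp
  have hamem : a ∈ Subgroup.closure ({a, b} : Set H) := Subgroup.subset_closure (by simp)
  have hbmem : b ∈ Subgroup.closure ({a, b} : Set H) := Subgroup.subset_closure (by simp)
  have h3 : ({1, ⟨a, hamem⟩, ⟨b, hbmem⟩} :
      Set ↥(Subgroup.closure ({a, b} : Set H))).ncard = 3 := by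
    rw [Set.ncard_eq_three]
    refine ⟨1, ⟨a, hamem⟩, ⟨b, hbmem⟩, ?_, ?_, ?_, rfl⟩
    · intro h1
      exact ha1 (congrArg Subtype.val h1).symm
    · intro h1
      exact hb1 (congrArg Subtype.val h1).symm
    · intro h1
      exact hne (congrArg Subtype.val h1)
  have h4 := Set.ncard_le_card ({1, ⟨a, hamem⟩, ⟨b, hbmem⟩} :
      Set ↥(Subgroup.closure ({a, b} : Set H)))
  rw [h3] at h4
  have h5 : (2 : ℕ) ^ 1 = 2 := by norm_num
  rw [h5] at hcard
  omega

theorem noV4_of_pRankLE {X : Type*} [Group X] [Finite X] (H : Subgroup X)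
    (h : Cfsg.PRankLE 2 1 ↥H) : NoV4 H := by
  intro a ha b hb ha2 hb2 hab ha1 hb1
  have h1 := eq_of_pRankLE h ⟨a, ha⟩ ⟨b, hb⟩ (Subtype.ext ha2) (Subtype.ext hb2)
    (Subtype.ext hab) (fun h0 => ha1 (congrArg Subtype.val h0))
    (fun h0 => hb1 (congrArg Subtype.val h0))
  exact congrArg Subtype.val h1

/-- Lifting the intersection of two distinct Sylow `2`-subgroups of a quotient. -/
theorem exists_lift_subgroup {G : Type*} [Group G] [Finite G] (H : Subgroup G) [H.Normal]
    (S T : Sylow 2 (G ⧸ H)) (hST : S ≠ T) :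
    ∃ (E : Subgroup G) (QS QT : Sylow 2 G), IsPGroup 2 E ∧
      E.map (QuotientGroup.mk' H) = (S : Subgroup (G ⧸ H)) ⊓ (T : Subgroup (G ⧸ H)) ∧
      E ≤ QS ∧ E ≤ QT ∧ QS ≠ QT := by
  let f : G →* G ⧸ H := QuotientGroup.mk' H
  have hf : Function.Surjective f := QuotientGroup.mk'_surjective H
  set I : Subgroup (G ⧸ H) := (S : Subgroup (G ⧸ H)) ⊓ (T : Subgroup (G ⧸ H)) with hI
  let D : Subgroup G := I.comap f
  let f' : D →* I := f.subgroupComap I
  have hf' : Function.Surjective f' := MonoidHom.subgroupComap_surjective_of_surjective f I hf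
  obtain ⟨D₀⟩ := (Sylow.nonempty : Nonempty (Sylow 2 D))
  have hIp : IsPGroup 2 I := S.2.to_le inf_le_left
  have htop : (⊤ : Subgroup I) = (D₀ : Subgroup D).map f' := by
    have h1 := (D₀.mapSurjective hf').3 (hIp.to_subgroup ⊤) le_top
    rw [h1]
    rfl
  let E : Subgroup G := (D₀ : Subgroup D).map D.subtype
  have hEp : IsPGroup 2 E := D₀.2.map D.subtype
  have hED : E ≤ D := Subgroup.map_subtype_le _
  have hEmap : E.map f = I := by
    apply le_antisymm
    · rw [Subgroup.map_le_iff_le_comap]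
      exact hED
    · intro x hx
      have h2 : (⟨x, hx⟩ : I) ∈ (⊤ : Subgroup I) := Subgroup.mem_top _
      rw [htop] at h2
      obtain ⟨d, hd, hdx⟩ := h2
      refine ⟨(d : G), ⟨d, hd, rfl⟩, ?_⟩
      exact congrArg Subtype.val hdx
  have hES : E ≤ (S : Subgroup (G ⧸ H)).comap f :=
    hED.trans (Subgroup.comap_mono inf_le_left)
  have hET : E ≤ (T : Subgroup (G ⧸ H)).comap f :=
    hED.trans (Subgroup.comap_mono inf_le_right)
  obtain ⟨QS, hEQS, hQS⟩ := Cfsg.Agent.S3305.exists_sylow_map_eq hf S E hEp hES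
  obtain ⟨QT, hEQT, hQT⟩ := Cfsg.Agent.S3305.exists_sylow_map_eq hf T E hEp hET
  have hne : QS ≠ QT := by
    intro h
    apply hST
    apply Sylow.ext
    rw [← hQS, ← hQT, h]
  exact ⟨E, QS, QT, hEp, hEmap, hEQS, hEQT, hne⟩

/-- The hypothesis passes to the quotient by a normal subgroup of odd order. -/
theorem noV4_quotient {G : Type*} [Group G] [Finite G]
    (hI : ∀ S T : Sylow 2 G, S ≠ T →
      Cfsg.PRankLE 2 1 ↥((S : Subgroup G) ⊓ (T : Subgroup G)))
    (H : Subgroup G) [H.Normal] (hH : (Nat.card H).Coprime 2) :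
    ∀ S T : Sylow 2 (G ⧸ H), S ≠ T →
      NoV4 ((S : Subgroup (G ⧸ H)) ⊓ (T : Subgroup (G ⧸ H))) := by
  intro S T hST
  obtain ⟨E, QS, QT, hEp, hEmap, hEQS, hEQT, hne⟩ := exists_lift_subgroup H S T hST
  have hnov : NoV4 ((QS : Subgroup G) ⊓ (QT : Subgroup G)) :=
    noV4_of_pRankLE _ (hI QS QT hne)
  have hker : ∀ x ∈ E, QuotientGroup.mk' H x = 1 → x = 1 := by
    intro x hxE hfx
    have hxH : x ∈ H := (QuotientGroup.eq_one_iff x).1 hfx
    obtain ⟨k, hk⟩ := hEp ⟨x, hxE⟩
    have hk' : x ^ 2 ^ k = 1 := by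
      have h0 := congrArg Subtype.val hk
      simpa using h0
    have h1 : orderOf x ∣ 2 ^ k := orderOf_dvd_of_pow_eq_one hk'
    have h2 : orderOf x ∣ Nat.card H := by
      have h0 := orderOf_dvd_natCard (⟨x, hxH⟩ : H)
      rwa [Subgroup.orderOf_mk] at h0
    have h3 : orderOf x ∣ Nat.gcd (Nat.card H) (2 ^ k) := Nat.dvd_gcd h2 h1
    rw [Nat.Coprime.gcd_eq_one (hH.pow_right k)] at h3
    exact orderOf_eq_one_iff.1 (Nat.dvd_one.1 h3)
  intro a ha b hb ha2 hb2 hab ha1 hb1
  rw [← hEmap] at ha hb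
  obtain ⟨a', ha'E, rfl⟩ := ha
  obtain ⟨b', hb'E, rfl⟩ := hb
  have ha'2 : a' * a' = 1 := hker _ (E.mul_mem ha'E ha'E) (by rw [map_mul]; exact ha2)
  have hb'2 : b' * b' = 1 := hker _ (E.mul_mem hb'E hb'E) (by rw [map_mul]; exact hb2)
  have hab' : a' * b' = b' * a' := by
    have h0 : a' * b' * (b' * a')⁻¹ = 1 :=
      hker _ (E.mul_mem (E.mul_mem ha'E hb'E) (E.inv_mem (E.mul_mem hb'E ha'E)))
        (by rw [map_mul, map_inv, map_mul, map_mul, hab]; exact mul_inv_cancel _)
    exact mul_inv_eq_one.1 h0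
  have h0 := hnov a' (le_inf hEQS hEQT ha'E) b' (le_inf hEQS hEQT hb'E) ha'2 hb'2 hab'
    (fun h => ha1 (by rw [h, map_one])) (fun h => hb1 (by rw [h, map_one]))
  rw [h0]

/-- A `2`-group without Klein four-subgroups has at most one involution. -/
theorem uniqueOrderP_of_noV4 {X : Type*} [Group X] [Finite X] (P : Subgroup X)
    (hP : IsPGroup 2 P) (h : NoV4 P) : UniqueOrderP 2 ↥P := by
  intro x y hx hx1 hy
  haveI : Nontrivial ↥P := ⟨⟨x, 1, hx1⟩⟩
  haveI : Nontrivial (Subgroup.center ↥P) := hP.center_nontrivial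
  have hcp : IsPGroup 2 (Subgroup.center ↥P) := hP.to_subgroup _
  obtain ⟨n, hn0, hn⟩ := hcp.nontrivial_iff_card.1 inferInstance
  have h2 : 2 ∣ Nat.card (Subgroup.center ↥P) := by
    rw [hn]
    exact dvd_pow_self 2 hn0.ne'
  obtain ⟨z, hz⟩ := exists_prime_orderOf_dvd_card' 2 h2
  have hz2 : z ^ 2 = 1 := by
    rw [← hz]
    exact pow_orderOf_eq_one z
  have hz1 : z ≠ 1 := by
    intro h0
    rw [h0, orderOf_one] at hz
    omega
  have hz2' : (((z : ↥P) : X)) * ((z : ↥P) : X) = 1 := by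
    have h0 := congrArg (fun w : Subgroup.center ↥P => (((w : ↥P)) : X)) hz2
    simpa [pow_two] using h0
  have hz1' : (((z : ↥P)) : X) ≠ 1 := by
    intro h0
    apply hz1
    apply Subtype.ext
    apply Subtype.ext
    exact h0
  have key : ∀ w : ↥P, w ^ 2 = 1 → w ≠ 1 → (w : X) = (((z : ↥P)) : X) := by
    intro w hw hw1
    have hw' : (w : X) * (w : X) = 1 := by
      have h0 := congrArg Subtype.val hw
      simpa [pow_two] using h0
    have hcomm : (w : X) * (((z : ↥P)) : X) = (((z : ↥P)) : X) * (w : X) := by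
      have h0 := Subgroup.mem_center_iff.1 z.2 w
      exact congrArg Subtype.val h0
    exact h _ w.2 _ (z : ↥P).2 hw' hz2' hcomm
      (fun h0 => hw1 (Subtype.ext h0)) hz1'
  by_cases hy1 : y = 1
  · rw [hy1]
    exact Subgroup.one_mem _
  · have hxy : y = x := Subtype.ext ((key y hy hy1).trans (key x hx hx1).symm)
    rw [hxy]
    exact Subgroup.mem_zpowers x

/-- The main case analysis in a group whose `2`-core contains its centralizer. -/
theorem main_X {X : Type*} [Group X] [Finite X]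
    (hcent : Subgroup.centralizer (pCore 2 X : Set X) ≤ pCore 2 X)
    (hI : ∀ S T : Sylow 2 X, S ≠ T → NoV4 ((S : Subgroup X) ⊓ (T : Subgroup X))) :
    (∃ P : Sylow 2 X, (P : Subgroup X).Normal) ∨ Nonempty (X ≃* GL (Fin 2) (ZMod 3)) ∨
    (Nat.card X = 48 ∧ Nat.card ↥(Subgroup.center X) = 2 ∧
      Nonempty (X ⧸ Subgroup.center X ≃* Equiv.Perm (Fin 4)) ∧
      ∀ P : Sylow 2 X, Nonempty (↥(P : Subgroup X) ≃* QuaternionGroup 4)) := by
  by_cases hsub : Subsingleton (Sylow 2 X)
  · left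
    obtain ⟨P⟩ := (Sylow.nonempty : Nonempty (Sylow 2 X))
    exact ⟨P, Sylow.normal_of_subsingleton P⟩
  · rw [not_subsingleton_iff_nontrivial] at hsub
    obtain ⟨S, T, hST⟩ := hsub
    have hle : pCore 2 X ≤ (S : Subgroup X) ⊓ (T : Subgroup X) :=
      le_inf (pCore_le_sylow S) (pCore_le_sylow T)
    have hRp : IsPGroup 2 (pCore 2 X) := pCore_isPGroup 2
    have hnov : NoV4 (pCore 2 X) := (hI S T hST).mono hle
    have hu := uniqueOrderP_of_noV4 _ hRp hnov
    have hnot2 : ¬ IsPGroup 2 X := by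
      intro hp
      apply hST
      have hS : (S : Subgroup X) = ⊤ := (S.3 (hp.to_subgroup ⊤) le_top).symm
      have hT : (T : Subgroup X) = ⊤ := (T.3 (hp.to_subgroup ⊤) le_top).symm
      exact Sylow.ext (hS.trans hT.symm)
    rcases isCyclic_or_quaternion_of_uniqueOrderP hRp hu with hc | ⟨_, n, ⟨f⟩⟩
    · exact absurd (Cfsg.Agent.S3303.isPGroup_of_cyclic_core hc hcent) hnot2
    · rcases n with _ | _ | n
      · exfalso
        apply hnot2
        haveI : IsCyclic (QuaternionGroup (2 ^ 0)) := QuaternionGroup.quaternionGroup_one_isCyclic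
        have hc : IsCyclic (pCore 2 X) := isCyclic_of_surjective f.symm f.symm.surjective
        exact Cfsg.Agent.S3303.isPGroup_of_cyclic_core hc hcent
      · exact q8_core_cases (pCore 2 X) f hcent
      · exfalso
        apply hnot2
        have hA : IsPGroup 2 (MulAut (QuaternionGroup (2 ^ (n + 1 + 1)))) :=
          isPGroup_mulAut_quaternion _ (by omega)
        have hA' : IsPGroup 2 (MulAut (pCore 2 X)) := hA.of_equiv (MulAut.congr f).symm
        exact isPGroup_of_normal_aut (pCore 2 X) hRp hA' hcent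

/-- Let G be a finite solvable group in which the intersection of any two distinct Sylow 2-subgroups has 2-rank at most 1 (contains no Klein four-group). Write Q = G/O(G), O(G) the largest normal subgroup of odd order. Then Q has a normal Sylow 2-subgroup; or Q is isomorphic to GL(2,3); or Q has order 48, centre of order 2 with central quotient isomorphic to the symmetric group of degree 4, and generalized quaternion Sylow 2-subgroups of order 16 (the binary octahedral group). The last two are the two representation groups of the symmetric group of degree 4. -/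
theorem result {G : Type*} [Group G] [Finite G] (hs : Group.IsSolvable G)
    (hI : ∀ S T : Sylow 2 G, S ≠ T → Cfsg.PRankLE 2 1 ↥((S : Subgroup G) ⊓ (T : Subgroup G))) :
    (∃ P : Sylow 2 (G ⧸ Cfsg.oddCore G), (P : Subgroup (G ⧸ Cfsg.oddCore G)).Normal) ∨
    Nonempty ((G ⧸ Cfsg.oddCore G) ≃* GL (Fin 2) (ZMod 3)) ∨
    (Nat.card (G ⧸ Cfsg.oddCore G) = 48 ∧ Nat.card ↥(Subgroup.center (G ⧸ Cfsg.oddCore G)) = 2 ∧
      Nonempty ((G ⧸ Cfsg.oddCore G) ⧸ Subgroup.center (G ⧸ Cfsg.oddCore G) ≃* Equiv.Perm (Fin 4)) ∧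
      ∀ P : Sylow 2 (G ⧸ Cfsg.oddCore G), Nonempty (↥(P : Subgroup (G ⧸ Cfsg.oddCore G)) ≃* QuaternionGroup 4)) := by
  have hbot : pPrimeCore 2 (G ⧸ Cfsg.oddCore G) = ⊥ :=
    Cfsg.Agent.S3303.pPrimeCore_quot_eq_bot 2
  have hcent := centralizer_pCore_le (G := G ⧸ Cfsg.oddCore G) 2 hbot
  have hI' := noV4_quotient hI (Cfsg.oddCore G) (pPrimeCore_coprime 2)
  exact main_X hcent hI'

end Cfsg.Agent.S3304
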