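import Mathlib
import Cfsg.Statements.S3315
import Cfsg.Agent.Lib.Helper3.SU3Syl3
import Cfsg.Agent.Lib.Helper3.SU3Aut7

set_option autoImplicit false
open Cfsg

namespace Cfsg.Agent.S3315

open Cfsg.Agent.Lib.Helper3.SU3

/-- Let S be a Sylow 2-subgroup of SU₃(2ⁿ), n ≥ 2 (realised over the field with 4ⁿ elements). If a finite 2-group R contains a subgroup S' of index 2 isomorphic to S, then the centre of S' is contained in the centre of R. -/
theorem result {R : Type*} [Group R] [Finite R]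
    (hR : IsPGroup 2 R) (n : ℕ) (hn : 2 ≤ n) {F : Type*} [Field F] [Fintype F] (hF : Fintype.card F = 4 ^ n)
    (P : Sylow 2 ↥(Cfsg.SU 3 F (2 ^ n))) (S' : Subgroup R) (hS : Nonempty (↥S' ≃* ↥(P : Subgroup ↥(Cfsg.SU 3 F (2 ^ n)))))
    (hidx : S'.index = 2) :
    (Subgroup.center ↥S').map S'.subtype ≤ Subgroup.center R := by
  classical
  have hq : QData F (2 ^ n) n := ⟨rfl, by
    rw [hF]
    have : (4 : ℕ) = 2 ^ 2 := by norm_num
    rw [this, ← pow_mul, ← pow_mul, mul_comm]⟩
  haveI : Fact (QData F (2 ^ n) n) := ⟨hq⟩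
  obtain ⟨e1⟩ := hS
  obtain ⟨e2⟩ := sylow_SU_equiv (n := n) P
  let ψ : S' ≃* UP F (2 ^ n) n := e1.trans e2
  haveI hnorm : S'.Normal := Subgroup.normal_of_index_eq_two hidx
  rintro _ ⟨z, hz, rfl⟩
  rw [Subgroup.mem_center_iff]
  intro r
  by_cases hr : r ∈ S'
  · have := Subgroup.mem_center_iff.1 hz ⟨r, hr⟩
    exact congrArg Subtype.val this
  · let α : MulAut S' := MulAut.conjNormal r
    let φ : MulAut (UP F (2 ^ n) n) := (ψ.symm.trans α).trans ψ
    have hφ : ∀ x, φ x = ψ (α (ψ.symm x)) := fun x => rfl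
    have hsq : ∀ a : F, UP.amapHom (φ * φ) a = a := by
      intro a
      rw [UP.amapHom_apply]
      have hr2 : r * r ∈ S' := Subgroup.mul_self_mem_of_index_two hidx r
      set s0 : S' := ⟨r * r, hr2⟩ with hs0
      have hαα : ∀ s : S', α (α s) = s0 * s * s0⁻¹ := by
        intro s
        apply Subtype.ext
        show r * (r * s.1 * r⁻¹) * r⁻¹ = (r * r) * s.1 * (r * r)⁻¹
        group
      have h1 : (φ * φ) (UP.lift a) = ψ s0 * UP.lift a * (ψ s0)⁻¹ := by
        rw [MulAut.mul_apply, hφ, hφ, MulEquiv.symm_apply_apply, hαα, map_mul, map_mul, map_inv,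
          MulEquiv.apply_symm_apply]
      rw [h1, UP.mul_a, UP.mul_a, UP.inv_a, UP.lift_a]
      linear_combination ((ψ s0).a) * hq.two_eq_zero
    have hzc : (ψ z).a = 0 := by
      rw [← UP.mem_center_iff]
      exact (mem_center_equiv ψ z).1 hz
    have hfix := UP.aut_fix_center φ hsq hzc
    rw [hφ, MulEquiv.symm_apply_apply] at hfix
    have h2 : α z = z := ψ.injective hfix
    have h3 : r * z.1 * r⁻¹ = z.1 := by
      have := congrArg Subtype.val h2
      rwa [MulAut.conjNormal_apply] at this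
    show r * z.1 = z.1 * r
    calc r * z.1 = (r * z.1 * r⁻¹) * r := by group
      _ = z.1 * r := by rw [h3]

end Cfsg.Agent.S3315
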