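-- Statement S3349
import Cfsg.Statements.S3349
-- import your own Cfsg.Agent.* helpers here

set_option autoImplicit false
open Cfsg
open scoped commutatorElement

namespace Cfsg.Agent.S3349

/-- Let Q be a finite extraspecial p-group and α an automorphism of Q fixing every element of some maximal abelian subgroup of Q. Then the order of α is a power of p. -/
theorem result {Q : Type*} [Group Q] [Finite Q]
    (p : ℕ) [Fact p.Prime] (hQ : Cfsg.IsExtraspecial p Q) (α : MulAut Q)
    (A : Subgroup Q) (hA : IsMulCommutative A) (hmax : ∀ B : Subgroup Q, A ≤ B → IsMulCommutative B → B = A)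
    (hfix : ∀ a ∈ A, α a = a) :
    ∃ k : ℕ, orderOf α = p ^ k := by
  classical
  obtain ⟨⟨hp, hfrat, hcomm⟩, hZ⟩ := hQ
  have hAc : ∀ a ∈ A, ∀ b ∈ A, a * b = b * a := by
    intro a ha b hb
    have := hA.is_comm.comm ⟨a, ha⟩ ⟨b, hb⟩
    exact congrArg Subtype.val this
  -- the centralizer of A is A
  have hCA : ∀ c : Q, (∀ a ∈ A, c * a = a * c) → c ∈ A := by
    intro c hc
    set B := Subgroup.closure ((A : Set Q) ∪ {c}) with hB
    have hAB : A ≤ B := by
      intro a ha
      exact Subgroup.subset_closure (Or.inl ha)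
    have hBc : ∀ u ∈ B, ∀ v ∈ B, Commute u v := by
      intro u hu v hv
      induction hu, hv using Subgroup.closure_induction₂ with
      | mem s t hs ht =>
        rcases hs with hs | hs <;> rcases ht with ht | ht
        · exact hAc s hs t ht
        · rw [Set.mem_singleton_iff] at ht; subst ht; exact (hc s hs).symm
        · rw [Set.mem_singleton_iff] at hs; subst hs; exact hc t ht
        · rw [Set.mem_singleton_iff] at hs ht; subst hs; subst ht; exact Commute.refl _
      | one_left s hs => exact Commute.one_left s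
      | one_right s hs => exact Commute.one_right s
      | mul_left s t r hs ht hr h₁ h₂ => exact Commute.mul_left h₁ h₂
      | mul_right s t r hs ht hr h₁ h₂ => exact Commute.mul_right h₁ h₂
      | inv_left s t hs ht h => exact Commute.inv_left h
      | inv_right s t hs ht h => exact Commute.inv_right h
    have hBI : IsMulCommutative B := by
      refine ⟨⟨?_⟩⟩
      rintro ⟨u, hu⟩ ⟨v, hv⟩
      exact Subtype.ext (hBc u hu v hv).eq
    have := hmax B hAB hBI
    rw [← this]
    exact Subgroup.subset_closure (Or.inr rfl)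
  -- the center is in A
  have hZA : Subgroup.center Q ≤ A := by
    intro z hz
    apply hCA
    intro a _
    exact (Subgroup.mem_center_iff.mp hz a).symm
  -- x⁻¹ * α x ∈ A
  have hc : ∀ x : Q, x⁻¹ * α x ∈ A := by
    intro x
    apply hCA
    intro a ha
    have hmem : ⁅x, a⁆ ∈ A := by
      apply hZA
      rw [← hcomm]
      exact Subgroup.commutator_mem_commutator (Subgroup.mem_top x) (Subgroup.mem_top a)
    have h1 := hfix _ hmem
    rw [commutatorElement_def, map_mul, map_mul, map_mul, map_inv, map_inv, hfix a ha] at h1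
    -- h1 : α x * a * (α x)⁻¹ * a⁻¹ = x * a * x⁻¹ * a⁻¹
    have h2 : α x * a * (α x)⁻¹ = x * a * x⁻¹ := mul_right_cancel h1
    calc x⁻¹ * α x * a = x⁻¹ * (α x * a * (α x)⁻¹) * α x := by group
      _ = x⁻¹ * (x * a * x⁻¹) * α x := by rw [h2]
      _ = a * (x⁻¹ * α x) := by group
  -- powers of α
  have hpow : ∀ (k : ℕ) (x : Q), (α ^ k) x = x * (x⁻¹ * α x) ^ k := by
    intro k
    induction k with
    | zero => intro x; simp
    | succ k ih =>
      intro x
      rw [pow_succ', MulAut.mul_apply, ih x, map_mul, map_pow, hfix _ (hc x), pow_succ' (x⁻¹ * α x),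
        ← mul_assoc, ← mul_assoc, mul_inv_cancel, one_mul]
  obtain ⟨n, hn⟩ := IsPGroup.iff_card.mp hp
  have hα : α ^ (p ^ n) = 1 := by
    ext x
    rw [hpow, ← hn, pow_card_eq_one', mul_one, MulAut.one_apply]
  have hdvd : orderOf α ∣ p ^ n := orderOf_dvd_of_pow_eq_one hα
  obtain ⟨k, _, hk⟩ := (Nat.dvd_prime_pow (Fact.out : p.Prime)).mp hdvd
  exact ⟨k, hk⟩

end Cfsg.Agent.S3349
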