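import Mathlib
import Cfsg.Statements.S3356
import Cfsg.Agent.S4088

set_option autoImplicit false
open Cfsg

namespace Cfsg.Agent.S3356

open MulAction
open scoped Pointwise

section lemmas

variable {G Ω : Type*} [Group G] [Finite G] [MulAction G Ω] [Finite Ω]

omit [Finite G] [MulAction G Ω] [Finite Ω] in
theorem card_mul_relIndex' {X Y : Subgroup G} (h : X ≤ Y) :
    Nat.card X * X.relIndex Y = Nat.card Y := by
  have := Subgroup.relIndex_mul_relIndex ⊥ X Y bot_le h
  rwa [Subgroup.relIndex_bot_left, Subgroup.relIndex_bot_left] at this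

/-- if all point stabilizers of `S` on an `S`-invariant set `B` have index `c`, then `c ∣ |B|` -/
theorem orbitLemma (S : Subgroup G) (B : Set Ω) (hSB : ∀ h ∈ S, ∀ y ∈ B, h • y ∈ B) (c : ℕ)
    (hc : ∀ y ∈ B, (stabilizer G y).relIndex S = c) : c ∣ Nat.card B := by
  classical
  let p : SubMulAction ↥S Ω :=
    { carrier := B, smul_mem' := fun h y hy => hSB h.1 h.2 y hy }
  have hstab : ∀ y : p, stabilizer ↥S y = (stabilizer G (y : Ω)).subgroupOf S := by
    intro y
    rw [SubMulAction.stabilizer_of_subMul]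
    ext h
    rw [mem_stabilizer_iff, Subgroup.mem_subgroupOf, mem_stabilizer_iff]
    rfl
  have e := MulAction.selfEquivSigmaOrbitsQuotientStabilizer ↥S p
  haveI : Fintype (Quotient (orbitRel ↥S p)) := Fintype.ofFinite _
  have h1 : Nat.card p =
      ∑ ω : Quotient (orbitRel ↥S p), Nat.card (↥S ⧸ stabilizer ↥S ω.out) := by
    rw [Nat.card_congr e, Nat.card_sigma]
  have h2 : ∀ ω : Quotient (orbitRel ↥S p), Nat.card (↥S ⧸ stabilizer ↥S ω.out) = c := by
    intro ω
    rw [← Subgroup.index_eq_card, hstab]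
    exact hc _ ω.out.2
  rw [Finset.sum_congr rfl (fun ω _ => h2 ω), Finset.sum_const, smul_eq_mul] at h1
  have h3 : Nat.card B = Nat.card p := rfl
  rw [h3, h1]
  exact Dvd.intro_left _ rfl

theorem blockLemma (a : Ω) (m : ℕ) (hm0 : 0 < m)
    (hm : ∀ b : Ω, b ≠ a → Nat.card ↥(stabilizer G a ⊓ stabilizer G b) = m)
    (B : Set Ω) (haB : a ∉ B) (hBne : B.Nonempty) (S : Subgroup G) (hSH : S ≤ stabilizer G a)
    (hSB : ∀ h ∈ S, ∀ y ∈ B, h • y ∈ B)
    (hKS : ∀ y ∈ B, stabilizer G a ⊓ stabilizer G y ≤ S) :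
    ∃ c : ℕ, Nat.card S = m * c ∧ c ∣ Nat.card B := by
  obtain ⟨y0, hy0⟩ := hBne
  have hidx : ∀ y ∈ B, m * (stabilizer G y).relIndex S = Nat.card S := by
    intro y hy
    have e1 : stabilizer G y ⊓ S = stabilizer G a ⊓ stabilizer G y := by
      apply le_antisymm
      · exact le_inf (inf_le_right.trans hSH) inf_le_left
      · exact le_inf inf_le_right (hKS y hy)
    have e2 := card_mul_relIndex' (inf_le_right : stabilizer G y ⊓ S ≤ S)
    rw [Subgroup.inf_relIndex_right, e1, hm y (fun h => haB (h ▸ hy))] at e2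
    exact e2
  refine ⟨(stabilizer G y0).relIndex S, (hidx y0 hy0).symm, ?_⟩
  apply orbitLemma S B hSB
  intro y hy
  have := (hidx y hy).trans (hidx y0 hy0).symm
  exact Nat.eq_of_mul_eq_mul_left hm0 this

theorem blockX (a : Ω) (m : ℕ) (hm0 : 0 < m)
    (hm : ∀ b : Ω, b ≠ a → Nat.card ↥(stabilizer G a ⊓ stabilizer G b) = m)
    (B : Set Ω) (haB : a ∉ B)
    (hblock : ∀ h ∈ stabilizer G a, ∀ y ∈ B, h • y ∈ B → ∀ b ∈ B, h • b ∈ B)
    (hcop : (Nat.card B).Coprime (Nat.card (stabilizer G a) / m)) :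
    ∀ h ∈ stabilizer G a, ∀ y ∈ B, h • y ∈ B → h • y = y := by
  intro h hh y hy hhy
  have hBfin : B.Finite := Set.toFinite B
  have hSB : ∀ g ∈ stabilizer G a ⊓ stabilizer G B, ∀ z ∈ B, g • z ∈ B :=
    fun g hg z hz => (mem_stabilizer_set' hBfin).1 hg.2 hz
  have hKS : ∀ z ∈ B, stabilizer G a ⊓ stabilizer G z ≤ stabilizer G a ⊓ stabilizer G B := by
    intro z hz g hg
    refine ⟨hg.1, (mem_stabilizer_set' hBfin).2 ?_⟩
    intro b hb
    exact hblock g hg.1 z hz (by rw [mem_stabilizer_iff.1 hg.2]; exact hz) b hb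
  obtain ⟨c, hc1, hc2⟩ := blockLemma a m hm0 hm B haB ⟨y, hy⟩
    (stabilizer G a ⊓ stabilizer G B) inf_le_left hSB hKS
  have hc3 : c ∣ Nat.card (stabilizer G a) / m := by
    have : m * c ∣ Nat.card (stabilizer G a) := by
      rw [← hc1]; exact Subgroup.card_dvd_of_le inf_le_left
    exact Nat.dvd_div_of_mul_dvd this
  have hc : c = 1 :=
    Nat.Coprime.eq_one_of_dvd (Nat.Coprime.coprime_dvd_left hc2 hcop) hc3
  have hSeq : stabilizer G a ⊓ stabilizer G y = stabilizer G a ⊓ stabilizer G B := by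
    apply Subgroup.eq_of_le_of_card_ge (hKS y hy)
    rw [hc1, hc, mul_one, hm y (fun e => haB (e ▸ hy))]
  have hhS : h ∈ stabilizer G a ⊓ stabilizer G B :=
    ⟨hh, (mem_stabilizer_set' hBfin).2 (fun b hb => hblock h hh y hy hhy b hb)⟩
  rw [← hSeq] at hhS
  exact mem_stabilizer_iff.1 hhS.2

/-- orbit-stabilizer for the two point stabilizer -/
theorem twoPt (a b : Ω) :
    Nat.card ↥(stabilizer G a ⊓ stabilizer G b) * Nat.card ↥(orbit ↥(stabilizer G a) b) =
      Nat.card ↥(stabilizer G a) := by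
  have e1 := card_mul_relIndex' (inf_le_left : stabilizer G a ⊓ stabilizer G b ≤ stabilizer G a)
  rw [Subgroup.inf_relIndex_left] at e1
  have e2 : (stabilizer G b).relIndex (stabilizer G a) =
      Nat.card ↥(orbit ↥(stabilizer G a) b) := by
    rw [Nat.card_coe_set_eq, ← MulAction.index_stabilizer]
    have : stabilizer ↥(stabilizer G a) b = (stabilizer G b).subgroupOf (stabilizer G a) := by
      ext h
      rw [mem_stabilizer_iff, Subgroup.mem_subgroupOf, mem_stabilizer_iff]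
      rfl
    rw [this]
    rfl
  rw [e2] at e1
  exact e1

end lemmas

/-- A finite 3/2-transitive permutation group with a regular normal subgroup N that is not a Frobenius group has N elementary abelian and contained in every non-trivial normal subgroup. -/
theorem result {G Ω : Type*} [Group G] [Finite G]
    [MulAction G Ω] [FaithfulSMul G Ω] [Finite Ω] (htrans : MulAction.IsPretransitive G Ω)
    (hne : ∀ a : Ω, MulAction.stabilizer G a ≠ ⊥)
    (hhalf : ∀ a b c : Ω, b ≠ a → c ≠ a →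
      Nat.card (MulAction.orbit (MulAction.stabilizer G a) b) = Nat.card (MulAction.orbit (MulAction.stabilizer G a) c))
    (N : Subgroup G) [hN : N.Normal] (hNt : MulAction.IsPretransitive N Ω) (hNr : ∀ a : Ω, MulAction.stabilizer N a = ⊥)
    (hnotF : ∃ a b : Ω, a ≠ b ∧ MulAction.stabilizer G a ⊓ MulAction.stabilizer G b ≠ ⊥) :
    (∃ p : ℕ, p.Prime ∧ IsMulCommutative N ∧ ∀ x ∈ N, x ^ p = 1) ∧
    (∀ M : Subgroup G, M.Normal → M ≠ ⊥ → N ≤ M) := by
  classical
  obtain ⟨a, b0, hab0, hK0⟩ := hnotF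
  have hm1 : 1 < Nat.card ↥(stabilizer G a ⊓ stabilizer G b0) :=
    (Subgroup.one_lt_card_iff_ne_bot _).2 hK0
  obtain ⟨m, hmdef⟩ : ∃ m, m = Nat.card ↥(stabilizer G a ⊓ stabilizer G b0) := ⟨_, rfl⟩
  rw [← hmdef] at hm1
  have hm0 : 0 < m := by omega
  have hm : ∀ b : Ω, b ≠ a → Nat.card ↥(stabilizer G a ⊓ stabilizer G b) = m := by
    intro b hb
    have h1 := hhalf a b b0 hb (Ne.symm hab0)
    have h2 := twoPt (G := G) a b
    have h3 := twoPt (G := G) a b0
    rw [h1, ← h3, ← hmdef] at h2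
    have hpos : 0 < Nat.card ↥(orbit ↥(stabilizer G a) b0) :=
      Nat.card_pos_iff.2 ⟨⟨⟨b0, mem_orbit_self b0⟩⟩, inferInstance⟩
    exact Nat.eq_of_mul_eq_mul_right hpos h2
  -- the regular normal subgroup
  have hinj : ∀ n1 ∈ N, ∀ n2 ∈ N, n1 • a = n2 • a → n1 = n2 := by
    intro n1 h1 n2 h2 he
    have h3 : (⟨n2⁻¹ * n1, N.mul_mem (N.inv_mem h2) h1⟩ : N) ∈ stabilizer ↥N a := by
      rw [mem_stabilizer_iff]
      show (n2⁻¹ * n1) • a = a
      rw [mul_smul, he, inv_smul_smul]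
    rw [hNr a, Subgroup.mem_bot] at h3
    have h4 : n2⁻¹ * n1 = 1 := congrArg Subtype.val h3
    exact (inv_mul_eq_one.1 h4).symm
  have hsurj : ∀ y : Ω, ∃ n ∈ N, n • a = y := by
    intro y
    obtain ⟨n, hn⟩ := MulAction.exists_smul_eq ↥N a y
    exact ⟨n.1, n.2, hn⟩
  have hT1 : ∀ h ∈ stabilizer G a, ∀ n : G, h • (n • a) = (h * n * h⁻¹) • a := by
    intro h hh n
    have : h⁻¹ • a = a := by
      rw [inv_smul_eq_iff]; exact (mem_stabilizer_iff.1 hh).symm
    rw [mul_smul, mul_smul, this]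
  have hT2 : ∀ h ∈ stabilizer G a, ∀ n ∈ N, (h • (n • a) = n • a ↔ h * n * h⁻¹ = n) := by
    intro h hh n hn
    rw [hT1 h hh n]
    constructor
    · intro he; exact hinj _ (hN.conj_mem n hn h) _ hn he
    · intro he; rw [he]
  have hne_a : ∀ n ∈ N, n ≠ 1 → n • a ≠ a := by
    intro n hn h1 he
    exact h1 (hinj n hn 1 N.one_mem (by rw [one_smul]; exact he))
  have hcardΩ : Nat.card Ω = Nat.card N := by
    symm
    apply Nat.card_congr
    exact Equiv.ofBijective (fun n : N => (n : G) • a)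
      ⟨fun n1 n2 he => Subtype.ext (hinj _ n1.2 _ n2.2 he), fun y => by
        obtain ⟨n, hn, he⟩ := hsurj y
        exact ⟨⟨n, hn⟩, he⟩⟩
  -- coprimality of the orbit size
  have hscop : (Nat.card Ω).Coprime (Nat.card (stabilizer G a) / m) := by
    obtain ⟨c, hc1, hc2⟩ := blockLemma a m hm0 hm ({a}ᶜ) (by simp)
      ⟨b0, by simpa using (Ne.symm hab0)⟩ (stabilizer G a) le_rfl
      (by
        intro h hh y hy
        simp only [Set.mem_compl_iff, Set.mem_singleton_iff] at hy ⊢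
        intro he
        apply hy
        have h2 : h • a = a := hh
        rw [← h2] at he
        exact smul_left_cancel h he)
      (fun y _ => inf_le_left)
    have hsc : Nat.card (stabilizer G a) / m = c := by
      rw [hc1, Nat.mul_div_cancel_left _ hm0]
    rw [hsc]
    have hcardB : Nat.card ↥({a}ᶜ : Set Ω) = Nat.card Ω - 1 := by
      rw [Nat.card_coe_set_eq, Set.ncard_compl, Set.ncard_singleton]
    rw [hcardB] at hc2
    haveI : Nonempty Ω := ⟨a⟩
    have hpos : 0 < Nat.card Ω := Nat.card_pos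
    obtain ⟨t, ht⟩ := hc2
    have h5 : Nat.card Ω = c * t + 1 := by omega
    rw [h5]
    simp
  -- if all two point stabilizers coincide, contradiction
  have hallK : ∀ K : Subgroup G,
      (∀ n ∈ N, n ≠ 1 → stabilizer G a ⊓ stabilizer G (n • a) = K) → False := by
    intro K hK
    obtain ⟨n0, hn0, hn0b⟩ := hsurj b0
    have hn01 : n0 ≠ 1 := by
      intro h1
      rw [h1, one_smul] at hn0b
      exact hab0 hn0b
    have hKbot : K = ⊥ := by
      rw [Subgroup.eq_bot_iff_forall]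
      intro g hg
      apply FaithfulSMul.eq_of_smul_eq_smul (α := Ω)
      intro y
      rw [one_smul]
      obtain ⟨n, hn, rfl⟩ := hsurj y
      by_cases h1 : n = 1
      · subst h1
        rw [one_smul]
        have := hK n0 hn0 hn01
        rw [← this] at hg
        exact mem_stabilizer_iff.1 hg.1
      · have := hK n hn h1
        rw [← this] at hg
        exact mem_stabilizer_iff.1 hg.2
    have h2 := hm (n0 • a) (hne_a n0 hn0 hn01)
    rw [hK n0 hn0 hn01, hKbot, Subgroup.card_bot] at h2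
    omega
  have hKle : ∀ n1 ∈ N, ∀ n2 ∈ N, n1 ≠ 1 → n2 ≠ 1 →
      (∀ g ∈ stabilizer G a, g * n1 * g⁻¹ = n1 → g * n2 * g⁻¹ = n2) →
      stabilizer G a ⊓ stabilizer G (n1 • a) = stabilizer G a ⊓ stabilizer G (n2 • a) := by
    intro n1 h1 n2 h2 hn1 hn2 himp
    apply Subgroup.eq_of_le_of_card_ge
    · intro g hg
      exact ⟨hg.1, mem_stabilizer_iff.2 ((hT2 g hg.1 n2 h2).2
        (himp g hg.1 ((hT2 g hg.1 n1 h1).1 (mem_stabilizer_iff.1 hg.2))))⟩
    · rw [hm _ (hne_a n1 h1 hn1), hm _ (hne_a n2 h2 hn2)]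
  -- invariant subgroups
  have hinv : ∀ Z : Subgroup G, Z ≤ N → (∀ h ∈ stabilizer G a, ∀ z ∈ Z, h * z * h⁻¹ ∈ Z) →
      Z = ⊥ ∨ Z = N := by
    intro Z hZN hZinv
    by_contra hcon
    push_neg at hcon
    obtain ⟨hZbot, hZN'⟩ := hcon
    obtain ⟨⟨z0, hz0⟩, hz01'⟩ := Subgroup.ne_bot_iff_exists_ne_one.1 hZbot
    have hz01 : z0 ≠ 1 := fun h => hz01' (Subtype.ext h)
    obtain ⟨x0, hx0N, hx0Z⟩ : ∃ x ∈ N, x ∉ Z := by
      by_contra h
      push_neg at h
      exact hZN' (le_antisymm hZN h)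
    have key : ∀ x ∈ N, x ∉ Z → ∀ h ∈ stabilizer G a, h * x * h⁻¹ = x →
        ∀ z ∈ Z, h * z * h⁻¹ = z := by
      intro x hxN hxZ h hh hhx z hz
      have haB : a ∉ Set.range (fun z : Z => (x * (z : G)) • a) := by
        rintro ⟨z, hz⟩
        have h1 : x * (z : G) = 1 :=
          hinj _ (N.mul_mem hxN (hZN z.2)) _ N.one_mem (by rw [one_smul]; exact hz)
        apply hxZ
        have h2 : x = (z : G)⁻¹ := eq_inv_of_mul_eq_one_left h1
        rw [h2]; exact Z.inv_mem z.2
      have hblock : ∀ g ∈ stabilizer G a, ∀ y ∈ Set.range (fun z : Z => (x * (z : G)) • a),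
          g • y ∈ Set.range (fun z : Z => (x * (z : G)) • a) →
          ∀ b ∈ Set.range (fun z : Z => (x * (z : G)) • a),
            g • b ∈ Set.range (fun z : Z => (x * (z : G)) • a) := by
        rintro g hg _ ⟨z1, rfl⟩ ⟨z2, hz2⟩ _ ⟨z3, rfl⟩
        have e1 : g * (x * (z1 : G)) * g⁻¹ = x * (z2 : G) := by
          apply hinj _ (hN.conj_mem _ (N.mul_mem hxN (hZN z1.2)) g) _
            (N.mul_mem hxN (hZN z2.2))
          rw [← hT1 g hg]; exact hz2.symm
        refine ⟨⟨(z2 : G) * (g * ((z1 : G)⁻¹ * z3) * g⁻¹),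
          Z.mul_mem z2.2 (hZinv g hg _ (Z.mul_mem (Z.inv_mem z1.2) z3.2))⟩, ?_⟩
        show (x * ((z2 : G) * (g * ((z1 : G)⁻¹ * z3) * g⁻¹))) • a = g • (x * (z3 : G)) • a
        rw [hT1 g hg, ← mul_assoc, ← e1]
        congr 1
        group
      have hcardB : Nat.card ↥(Set.range (fun z : Z => (x * (z : G)) • a)) ∣ Nat.card Ω := by
        have hfi : Function.Injective (fun z : Z => (x * (z : G)) • a) := by
          intro z1 z2 he
          have := hinj _ (N.mul_mem hxN (hZN z1.2)) _ (N.mul_mem hxN (hZN z2.2)) he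
          exact Subtype.ext (mul_left_cancel this)
        rw [Nat.card_range_of_injective hfi, hcardΩ]
        exact Subgroup.card_dvd_of_le hZN
      have hX := blockX a m hm0 hm _ haB hblock (Nat.Coprime.coprime_dvd_left hcardB hscop)
      have hxB : x • a ∈ Set.range (fun z : Z => (x * (z : G)) • a) :=
        ⟨1, by simp⟩
      have hfix : h • (x • a) = x • a := (hT2 h hh x hxN).2 hhx
      have hzB : (x * z) • a ∈ Set.range (fun z : Z => (x * (z : G)) • a) := ⟨⟨z, hz⟩, rfl⟩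
      have h1 : h • ((x * z) • a) ∈ Set.range (fun z : Z => (x * (z : G)) • a) :=
        hblock h hh _ hxB (by rw [hfix]; exact hxB) _ hzB
      have h2 := hX h hh _ hzB h1
      have h3 : h * (x * z) * h⁻¹ = x * z := (hT2 h hh _ (N.mul_mem hxN (hZN hz))).1 h2
      have h4 : h * (x * z) * h⁻¹ = (h * x * h⁻¹) * (h * z * h⁻¹) := by group
      rw [h4, hhx] at h3
      exact mul_left_cancel h3
    have hx01 : x0 ≠ 1 := fun h => hx0Z (h ▸ Z.one_mem)
    apply hallK (stabilizer G a ⊓ stabilizer G (z0 • a))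
    intro n hn hn1
    by_cases hnZ : n ∈ Z
    · -- compare with x0
      have e1 := hKle x0 hx0N z0 (hZN hz0) hx01 hz01
        (fun g hg hgx => key x0 hx0N hx0Z g hg hgx z0 hz0)
      have e2 := hKle x0 hx0N n hn hx01 hn1
        (fun g hg hgx => key x0 hx0N hx0Z g hg hgx n hnZ)
      rw [← e2, e1]
    · exact hKle n hn z0 (hZN hz0) hn1 hz01
        (fun g hg hgx => key n hn hnZ g hg hgx z0 hz0)
  -- conjugacy classes
  have hclass : ∀ x ∈ N, x ≠ 1 → ∀ h ∈ stabilizer G a, h * x * h⁻¹ = x →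
      ∀ n ∈ N, h * (n * x * n⁻¹) * h⁻¹ = n * x * n⁻¹ := by
    intro x hxN hx1 h hh hhx n hn
    have haB : a ∉ Set.range (fun n : N => ((n : G) * x * (n : G)⁻¹) • a) := by
      rintro ⟨n, hn⟩
      have h1 : (n : G) * x * (n : G)⁻¹ = 1 :=
        hinj _ (hN.conj_mem x hxN n) _ N.one_mem (by rw [one_smul]; exact hn)
      exact hx1 (conj_eq_one_iff.1 h1)
    have hblock : ∀ g ∈ stabilizer G a,
        ∀ y ∈ Set.range (fun n : N => ((n : G) * x * (n : G)⁻¹) • a),
        g • y ∈ Set.range (fun n : N => ((n : G) * x * (n : G)⁻¹) • a) →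
        ∀ b ∈ Set.range (fun n : N => ((n : G) * x * (n : G)⁻¹) • a),
          g • b ∈ Set.range (fun n : N => ((n : G) * x * (n : G)⁻¹) • a) := by
      rintro g hg _ ⟨n1, rfl⟩ ⟨n2, hn2⟩ _ ⟨n3, rfl⟩
      have e1 : g * ((n1 : G) * x * (n1 : G)⁻¹) * g⁻¹ = (n2 : G) * x * (n2 : G)⁻¹ := by
        apply hinj _ (hN.conj_mem _ (hN.conj_mem x hxN n1) g) _ (hN.conj_mem x hxN n2)
        rw [← hT1 g hg]; exact hn2.symm
      refine ⟨⟨g * ((n3 : G) * (n1 : G)⁻¹) * g⁻¹ * (n2 : G),
        N.mul_mem (hN.conj_mem _ (N.mul_mem n3.2 (N.inv_mem n1.2)) g) n2.2⟩, ?_⟩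
      show ((g * ((n3 : G) * (n1 : G)⁻¹) * g⁻¹ * (n2 : G)) * x *
        (g * ((n3 : G) * (n1 : G)⁻¹) * g⁻¹ * (n2 : G))⁻¹) • a =
          g • ((n3 : G) * x * (n3 : G)⁻¹) • a
      rw [hT1 g hg]
      congr 1
      have e2 : (g * ((n3 : G) * (n1 : G)⁻¹) * g⁻¹ * (n2 : G)) * x *
          (g * ((n3 : G) * (n1 : G)⁻¹) * g⁻¹ * (n2 : G))⁻¹ =
          (g * ((n3 : G) * (n1 : G)⁻¹) * g⁻¹) * ((n2 : G) * x * (n2 : G)⁻¹) *
            (g * ((n3 : G) * (n1 : G)⁻¹) * g⁻¹)⁻¹ := by group
      rw [e2, ← e1]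
      group
    have hcardB : Nat.card ↥(Set.range (fun n : N => ((n : G) * x * (n : G)⁻¹) • a)) ∣
        Nat.card Ω := by
      have c1 := Cfsg.Agent.S4088.card_preimage_eq
        (fun n : N => ((n : G) * x * (n : G)⁻¹) • a)
        ((Subgroup.centralizer {x}).subgroupOf N)
        (by
          intro n1 n2
          rw [Subgroup.mem_subgroupOf, Subgroup.mem_centralizer_singleton_iff]
          constructor
          · intro he
            have h1 := hinj _ (hN.conj_mem x hxN n1) _ (hN.conj_mem x hxN n2) he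
            show ((n1 : G)⁻¹ * (n2 : G)) * x = x * ((n1 : G)⁻¹ * (n2 : G))
            have h2 : x = (n1 : G)⁻¹ * ((n2 : G) * x * (n2 : G)⁻¹) * (n1 : G) := by
              rw [← h1]; group
            calc ((n1 : G)⁻¹ * (n2 : G)) * x
                = ((n1 : G)⁻¹ * ((n2 : G) * x * (n2 : G)⁻¹) * (n1 : G)) *
                    ((n1 : G)⁻¹ * (n2 : G)) := by group
              _ = x * ((n1 : G)⁻¹ * (n2 : G)) := by rw [← h2]
          · intro he
            have he' : ((n1 : G)⁻¹ * (n2 : G)) * x = x * ((n1 : G)⁻¹ * (n2 : G)) := he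
            show ((n1 : G) * x * (n1 : G)⁻¹) • a = ((n2 : G) * x * (n2 : G)⁻¹) • a
            congr 1
            calc (n1 : G) * x * (n1 : G)⁻¹
                = (n1 : G) * (x * ((n1 : G)⁻¹ * (n2 : G))) * (n2 : G)⁻¹ := by group
              _ = (n1 : G) * (((n1 : G)⁻¹ * (n2 : G)) * x) * (n2 : G)⁻¹ := by rw [he']
              _ = (n2 : G) * x * (n2 : G)⁻¹ := by group)
        (fun y => y ∈ Set.range (fun n : N => ((n : G) * x * (n : G)⁻¹) • a))
        (fun y hy => hy)
      have c2 : Nat.card {n : N // (fun n : N => ((n : G) * x * (n : G)⁻¹) • a) n ∈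
          Set.range (fun n : N => ((n : G) * x * (n : G)⁻¹) • a)} = Nat.card N :=
        Nat.card_congr (Equiv.subtypeUnivEquiv (fun n => Set.mem_range_self n))
      rw [c2] at c1
      rw [hcardΩ, c1]
      exact Dvd.intro _ rfl
    have hX := blockX a m hm0 hm _ haB hblock (Nat.Coprime.coprime_dvd_left hcardB hscop)
    have hxB : x • a ∈ Set.range (fun n : N => ((n : G) * x * (n : G)⁻¹) • a) :=
      ⟨1, by simp⟩
    have hfix : h • (x • a) = x • a := (hT2 h hh x hxN).2 hhx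
    have hnB : (n * x * n⁻¹) • a ∈ Set.range (fun n : N => ((n : G) * x * (n : G)⁻¹) • a) :=
      ⟨⟨n, hn⟩, rfl⟩
    have h1 : h • ((n * x * n⁻¹) • a) ∈
        Set.range (fun n : N => ((n : G) * x * (n : G)⁻¹) • a) :=
      hblock h hh _ hxB (by rw [hfix]; exact hxB) _ hnB
    have h2 := hX h hh _ hnB h1
    exact (hT2 h hh _ (hN.conj_mem x hxN n)).1 h2
  -- non-commuting elements have the same stabilizer
  have hnoncomm : ∀ x ∈ N, ∀ y ∈ N, x * y ≠ y * x →
      stabilizer G a ⊓ stabilizer G (x • a) = stabilizer G a ⊓ stabilizer G (y • a) := by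
    intro x hx y hy hxy
    have hx1 : x ≠ 1 := by
      intro h; apply hxy; rw [h, one_mul, mul_one]
    have hy1 : y ≠ 1 := by
      intro h; apply hxy; rw [h, one_mul, mul_one]
    have hwN : x * (y * x * y⁻¹)⁻¹ ∈ N := N.mul_mem hx (N.inv_mem (hN.conj_mem x hx y))
    have hw1 : x * (y * x * y⁻¹)⁻¹ ≠ 1 := by
      intro h
      apply hxy
      have h2 : x = y * x * y⁻¹ := mul_inv_eq_one.1 h
      calc x * y = (y * x * y⁻¹) * y := by rw [← h2]
        _ = y * x := by group
    have e1 := hKle x hx _ hwN hx1 hw1 (by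
      intro g hg hgx
      have h1 := hclass x hx hx1 g hg hgx y hy
      have h2 : g * (x * (y * x * y⁻¹)⁻¹) * g⁻¹ =
          (g * x * g⁻¹) * (g * (y * x * y⁻¹) * g⁻¹)⁻¹ := by group
      rw [h2, h1, hgx])
    have e2 := hKle y hy _ hwN hy1 hw1 (by
      intro g hg hgy
      have h1 := hclass y hy hy1 g hg hgy x hx
      have h2 : g * (x * (y * x * y⁻¹)⁻¹) * g⁻¹ =
          (g * (x * y * x⁻¹) * g⁻¹) * (g * y * g⁻¹)⁻¹ := by group
      rw [h2, h1, hgy]
      group)
    rw [e1, e2]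
  -- N is abelian
  have hcomm : ∀ x ∈ N, ∀ y ∈ N, x * y = y * x := by
    by_contra hcon
    push_neg at hcon
    obtain ⟨x0, hx0, y0, hy0, hxy0⟩ := hcon
    have hx01 : x0 ≠ 1 := by
      intro h; apply hxy0; rw [h, one_mul, mul_one]
    apply hallK (stabilizer G a ⊓ stabilizer G (x0 • a))
    intro n hn hn1
    by_cases c1 : n * x0 = x0 * n
    · by_cases c2 : n * y0 = y0 * n
      · have hn' : (n * x0) * y0 ≠ y0 * (n * x0) := by
          intro he
          apply hxy0
          have h3 : n * (x0 * y0) = n * (y0 * x0) := by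
            calc n * (x0 * y0) = (n * x0) * y0 := by group
              _ = y0 * (n * x0) := he
              _ = (y0 * n) * x0 := by group
              _ = (n * y0) * x0 := by rw [c2]
              _ = n * (y0 * x0) := by group
          exact mul_left_cancel h3
        have e1 := hnoncomm _ (N.mul_mem hn hx0) _ hy0 hn'
        have e2 := hnoncomm _ hx0 _ hy0 hxy0
        symm
        apply hKle x0 hx0 n hn hx01 hn1
        intro g hg hgx
        have hg' : g ∈ stabilizer G a ⊓ stabilizer G ((n * x0) • a) := by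
          rw [e1, ← e2]
          exact ⟨hg, mem_stabilizer_iff.2 ((hT2 g hg x0 hx0).2 hgx)⟩
        have h3 := (hT2 g hg _ (N.mul_mem hn hx0)).1 (mem_stabilizer_iff.1 hg'.2)
        have h4 : g * n * g⁻¹ = (g * (n * x0) * g⁻¹) * (g * x0 * g⁻¹)⁻¹ := by group
        rw [h4, h3, hgx]
        group
      · rw [hnoncomm n hn y0 hy0 c2, hnoncomm x0 hx0 y0 hy0 hxy0]
    · exact hnoncomm n hn x0 hx0 c1
  haveI hNcomm : IsMulCommutative N :=
    ⟨⟨fun x y => Subtype.ext (hcomm x.1 x.2 y.1 y.2)⟩⟩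
  refine ⟨?_, ?_⟩
  · -- elementary abelian
    have hcardN : Nat.card N ≠ 1 := by
      intro h1
      rw [← hcardΩ] at h1
      have := (Nat.card_eq_one_iff_unique.1 h1).1
      exact hab0 (Subsingleton.elim a b0)
    obtain ⟨p, hp, hpdvd⟩ := Nat.exists_prime_and_dvd hcardN
    haveI : Fact p.Prime := ⟨hp⟩
    obtain ⟨x1, hx1⟩ := exists_prime_orderOf_dvd_card' (G := N) p hpdvd
    refine ⟨p, hp, hNcomm, ?_⟩
    let Z : Subgroup G :=
      { carrier := {x | x ∈ N ∧ x ^ p = 1}
        one_mem' := ⟨N.one_mem, one_pow p⟩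
        mul_mem' := by
          rintro x y ⟨hx, hx'⟩ ⟨hy, hy'⟩
          refine ⟨N.mul_mem hx hy, ?_⟩
          have hc : Commute x y := hcomm x hx y hy
          rw [hc.mul_pow, hx', hy', one_mul]
        inv_mem' := by
          rintro x ⟨hx, hx'⟩
          exact ⟨N.inv_mem hx, by rw [inv_pow, hx', inv_one]⟩ }
    have hZN : Z ≤ N := fun x hx => hx.1
    have hZinv : ∀ h ∈ stabilizer G a, ∀ z ∈ Z, h * z * h⁻¹ ∈ Z := by
      rintro h _ z ⟨hz, hz'⟩
      exact ⟨hN.conj_mem z hz h, by rw [conj_pow, hz', mul_one, mul_inv_cancel]⟩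
    rcases hinv Z hZN hZinv with hZ | hZ
    · exfalso
      have hx1Z : (x1 : G) ∈ Z := by
        refine ⟨x1.2, ?_⟩
        have : x1 ^ p = 1 := by rw [← hx1]; exact pow_orderOf_eq_one x1
        have h2 := congrArg Subtype.val this
        simpa using h2
      rw [hZ, Subgroup.mem_bot] at hx1Z
      have : x1 = 1 := Subtype.ext hx1Z
      rw [this, orderOf_one] at hx1
      exact hp.one_lt.ne hx1
    · intro x hx
      have : x ∈ Z := by rw [hZ]; exact hx
      exact this.2
  · -- N lies in every nontrivial normal subgroup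
    intro M hMn hMbot
    have hMN : M ⊓ N ≤ N := inf_le_right
    have hMNinv : ∀ h ∈ stabilizer G a, ∀ z ∈ M ⊓ N, h * z * h⁻¹ ∈ M ⊓ N := by
      rintro h _ z ⟨hz1, hz2⟩
      exact ⟨hMn.conj_mem z hz1 h, hN.conj_mem z hz2 h⟩
    rcases hinv (M ⊓ N) hMN hMNinv with hZ | hZ
    · exfalso
      apply hMbot
      rw [Subgroup.eq_bot_iff_forall]
      intro g hg
      -- g commutes with N
      have hgc : ∀ n ∈ N, g * n = n * g := by
        intro n hn
        have h1 : g * n * g⁻¹ * n⁻¹ ∈ M ⊓ N := by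
          refine ⟨?_, ?_⟩
          · have : g * n * g⁻¹ * n⁻¹ = g * (n * g⁻¹ * n⁻¹) := by group
            rw [this]
            exact M.mul_mem hg (hMn.conj_mem _ (M.inv_mem hg) n)
          · exact N.mul_mem (hN.conj_mem n hn g) (N.inv_mem hn)
        rw [hZ, Subgroup.mem_bot] at h1
        have h2 : g * n * g⁻¹ = n := by
          have := mul_inv_eq_one.1 h1
          exact this
        calc g * n = (g * n * g⁻¹) * g := by group
          _ = n * g := by rw [h2]
      obtain ⟨n, hn, hna⟩ := hsurj (g • a)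
      -- h = n⁻¹ g fixes every point
      have hh1 : n⁻¹ * g = 1 := by
        apply FaithfulSMul.eq_of_smul_eq_smul (α := Ω)
        intro y
        rw [one_smul]
        obtain ⟨k, hk, rfl⟩ := hsurj y
        have h3 : (n⁻¹ * g) * k = k * (n⁻¹ * g) := by
          calc (n⁻¹ * g) * k = n⁻¹ * (g * k) := by group
            _ = n⁻¹ * (k * g) := by rw [hgc k hk]
            _ = (n⁻¹ * k) * g := by group
            _ = (k * n⁻¹) * g := by rw [hcomm _ (N.inv_mem hn) _ hk]
            _ = k * (n⁻¹ * g) := by group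
        rw [← mul_smul, h3, mul_smul, mul_smul, ← hna, inv_smul_smul]
      have hgn : g = n := by
        have := inv_mul_eq_one.1 hh1
        exact this.symm
      have hgMN : g ∈ M ⊓ N := ⟨hg, hgn ▸ hn⟩
      rw [hZ, Subgroup.mem_bot] at hgMN
      exact hgMN
    · rw [← hZ]
      exact inf_le_left

end Cfsg.Agent.S3356
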