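import Mathlib
import Cfsg.Statements.S3361
import Cfsg.Agent.Lib.Helper12.NF5

set_option autoImplicit false
open Cfsg

namespace Cfsg.Agent.S3361

open Cfsg.Agent.Lib.Helper12.NF

/-- Let q be a prime and V a non-trivial finite vector space over the field with q elements, and let G be a finite solvable group acting faithfully and linearly on V and regularly on the non-zero vectors (transitively, with only the identity fixing a non-zero vector). Then either V can be identified with the additive group of a finite field F so that every element of G acts as x ↦ a·σ(x) (a ∈ F, σ a field automorphism), or V has 5^2, 7^2, 11^2 or 23^2 elements. Moreover, if q ≠ 2 then G has a normal subgroup of index 2, except that when V has 25 elements G may be isomorphic to SL(2,3) and when V has 121 elements G may be isomorphic to SL(2,3) × C₅. -/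
theorem result
    (q : ℕ) [Fact q.Prime] {V : Type*} [AddCommGroup V] [Module (ZMod q) V] [Finite V] [Nontrivial V]
    {G : Type*} [Group G] [Finite G] (hsol : Group.IsSolvable G)
    (ρ : G →* (V ≃ₗ[ZMod q] V)) (hρ : Function.Injective ρ)
    (htrans : ∀ v w : V, v ≠ 0 → w ≠ 0 → ∃ g : G, ρ g v = w)
    (hreg : ∀ v : V, v ≠ 0 → ∀ g : G, ρ g v = v → g = 1) :
    ((∃ (F : Type) (_ : Field F) (_ : Fintype F) (e : V ≃+ F),
        ∀ g : G, ∃ (a : F) (σ : F ≃+* F), ∀ v : V, e (ρ g v) = a * σ (e v)) ∨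
      Nat.card V ∈ ({25, 49, 121, 529} : Set ℕ)) ∧
    (q ≠ 2 → (∃ N : Subgroup G, N.Normal ∧ N.index = 2) ∨
      (Nat.card V = 25 ∧ Nonempty (G ≃* Matrix.SpecialLinearGroup (Fin 2) (ZMod 3))) ∨
      (Nat.card V = 121 ∧ Nonempty (G ≃* Matrix.SpecialLinearGroup (Fin 2) (ZMod 3) × Multiplicative (ZMod 5)))) := by
  obtain ⟨H, hH⟩ : ∃ H : Subgroup (V ≃ₗ[ZMod q] V), H = ρ.range := ⟨_, rfl⟩
  have hmem : ∀ g : G, ρ g ∈ H := fun g => by rw [hH]; exact ⟨g, rfl⟩
  obtain ⟨ψ, hψ⟩ : ∃ ψ : G ≃* H, ∀ g : G, ((ψ g : H) : V ≃ₗ[ZMod q] V) = ρ g := by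
    subst hH
    exact ⟨MonoidHom.ofInjective hρ, fun g => rfl⟩
  have hregH : ∀ v w : V, v ≠ 0 → w ≠ 0 → ∃! h : H, (h : V ≃ₗ[ZMod q] V) v = w := by
    intro v w hv hw
    obtain ⟨g, hg⟩ := htrans v w hv hw
    refine ⟨ψ g, by show ((ψ g : H) : V ≃ₗ[ZMod q] V) v = w; rw [hψ]; exact hg, ?_⟩
    intro h' hh'
    obtain ⟨g', rfl⟩ := ψ.surjective h'
    have hh' : ((ψ g' : H) : V ≃ₗ[ZMod q] V) v = w := hh'
    rw [hψ] at hh'
    have h1 : ρ (g⁻¹ * g') v = v := by
      rw [map_mul, map_inv, LinearEquiv.mul_apply, hh', ← hg]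
      exact (ρ g).symm_apply_apply v
    have h2 := hreg v hv _ h1
    have : g' = g := by
      rw [inv_mul_eq_one] at h2
      exact h2.symm
    rw [this]
  have hsolvH : Group.IsSolvable H :=
    Group.isSolvable_of_surjective (f := ψ.toMonoidHom) ψ.surjective
  obtain ⟨h1, h2⟩ := main_linear H hregH hsolvH
  refine ⟨?_, ?_⟩
  · rcases h1 with ⟨F, i1, i2, e, he⟩ | h
    · left
      refine ⟨F, i1, i2, e, ?_⟩
      intro g
      obtain ⟨a, σ, h3⟩ := he (ψ g)
      refine ⟨a, σ, ?_⟩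
      intro v
      rw [← hψ]
      exact h3 v
    · exact Or.inr h
  · intro hq2
    rcases h2 hq2 with h | ⟨hc, ⟨e⟩⟩ | ⟨hc, ⟨e⟩⟩
    · exact Or.inl (exists_index_two_of_surjective ψ.toMonoidHom ψ.surjective h)
    · exact Or.inr (Or.inl ⟨hc, ⟨ψ.trans e⟩⟩)
    · exact Or.inr (Or.inr ⟨hc, ⟨ψ.trans e⟩⟩)

end Cfsg.Agent.S3361
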