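import Cfsg.Statements.S3371
import Cfsg.Agent.Lib.Helper17.HalfTrA
import Cfsg.Agent.Lib.Helper17.HalfTrB
import Cfsg.Agent.Lib.Helper17.HalfTrC
import Cfsg.Agent.Lib.Helper17.HalfTrD
import Cfsg.Agent.Lib.Helper17.HalfTrE
import Cfsg.Agent.S0519
import Cfsg.Agent.Lib.Helper10.UniqueOrderP

set_option autoImplicit false
open Cfsg

namespace Cfsg.Agent.S3371

open Cfsg.Agent.Lib.Helper17.HalfTr

/-- Let q be a prime, V a non-trivial finite vector space over the field with q elements, and G a finite p-group (p prime) acting faithfully and linearly on V such that all G-orbits on the non-zero vectors have the same size. Then one of the following holds: G is cyclic or generalized quaternion and acts semiregularly on the non-zero vectors; or V has q² elements with q = 2^m − 1 and G is dihedral of order 2^(m+1) or semidihedral of order 2^(m+2); or V has q² elements with q = 2^m + 1 and, in suitable coordinates V = F_q², G is exactly the group of maps (x, y) ↦ (a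 x, ± a⁻¹ y) and (x, y) ↦ (± a⁻¹ y, a x) with a ≠ 0; or V has 81 elements (q = 3) and G is a 2-group. -/
theorem result (q : ℕ) [Fact q.Prime] {V : Type*} [AddCommGroup V] [Module (ZMod q) V] [Finite V] [Nontrivial V]
    {G : Type*} [Group G] [Finite G] (p : ℕ) [Fact p.Prime] (hG : IsPGroup p G)
    (ρ : G →* (V ≃ₗ[ZMod q] V)) (hρ : Function.Injective ρ)
    (hhalf : ∀ v w : V, v ≠ 0 → w ≠ 0 → Nat.card {u : V | ∃ g : G, ρ g v = u} = Nat.card {u : V | ∃ g : G, ρ g w = u}) :
    ((IsCyclic G ∨ ∃ n : ℕ, Nonempty (G ≃* QuaternionGroup n)) ∧ ∀ v : V, v ≠ 0 → ∀ g : G, ρ g v = v → g = 1) ∨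
    (Nat.card V = q ^ 2 ∧ ∃ m : ℕ, q = 2 ^ m - 1 ∧
      (Nonempty (G ≃* DihedralGroup (2 ^ m)) ∨ (Cfsg.IsQuasiDihedral G ∧ Nat.card G = 2 ^ (m + 2)))) ∨
    (Nat.card V = q ^ 2 ∧ (∃ m : ℕ, q = 2 ^ m + 1) ∧
      ∃ e : V ≃ₗ[ZMod q] (Fin 2 → ZMod q), ∀ f : (Fin 2 → ZMod q) ≃ₗ[ZMod q] (Fin 2 → ZMod q),
        (∃ g : G, f = e.symm.trans ((ρ g).trans e)) ↔
        ∃ a s : ZMod q, a ≠ 0 ∧ (s = 1 ∨ s = -1) ∧
          ((∀ v, f v = ![a * v 0, s * a⁻¹ * v 1]) ∨ (∀ v, f v = ![s * a⁻¹ * v 1, a * v 0]))) ∨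
    (Nat.card V = 81 ∧ q = 3 ∧ p = 2) := by
  classical
  have hs : ∀ v w : V, v ≠ 0 → w ≠ 0 → Nat.card (stab ρ v) = Nat.card (stab ρ w) :=
    fun v w hv hw => card_stab_eq ρ hhalf hv hw
  by_cases hpq : p = q
  · left
    have hfix := fix_all_of_eq ρ hG hpq hs
    have h1 : ∀ g : G, g = 1 := fun g => eq_one_of_fix_all ρ hρ g (hfix g)
    haveI : Subsingleton G := ⟨fun a b => by rw [h1 a, h1 b]⟩
    exact ⟨Or.inl inferInstance, fun v _ g _ => h1 g⟩
  by_cases hsr : ∀ v : V, v ≠ 0 → ∀ g : G, ρ g v = v → g = 1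
  · left
    refine ⟨?_, hsr⟩
    have hfp : ∀ g : G, g ≠ 1 → FPF ρ g := by
      intro g hg v hv
      by_contra hv0
      exact hg (hsr v hv0 g hv)
    have hu := uniqueOrderP_of_semireg ρ hG hpq hfp
    rcases Cfsg.Agent.Lib.Helper10.isCyclic_or_quaternion_of_uniqueOrderP hG hu with
      h | ⟨_, n, hn⟩
    · exact Or.inl h
    · exact Or.inr ⟨2 ^ n, hn⟩
  right
  have hfpf : ∀ c ∈ Subgroup.center G, c ^ p = 1 → c ≠ 1 → FPF ρ c := by
    intro c hc hcp hc1
    by_contra hnf
    exact hsr (semireg_of_central_fixed ρ hpq hρ hs hc hcp hc1 hnf)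
  push Not at hsr
  obtain ⟨v0, hv0, g1, hg1v, hg11⟩ := hsr
  haveI : Nontrivial G := ⟨⟨g1, 1, hg11⟩⟩
  obtain ⟨z, hzc, hzp, hz1, hzo⟩ := exists_central_order_p hG
  have hzf : FPF ρ z := hfpf z hzc hzp hz1
  by_cases hA : ∃ A : Subgroup G, A.Normal ∧ IsMulCommutative A ∧ ¬ IsCyclic A
  · obtain ⟨A, hAn, hAc, hAnc⟩ := hA
    haveI := hAn
    have hAe : ∀ a ∈ A, ∀ b ∈ A, a * b = b * a := by
      intro a ha b hb
      have h1 := congrArg Subtype.val (hAc.is_comm.comm ⟨a, ha⟩ ⟨b, hb⟩)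
      exact h1
    obtain ⟨x, _, hxp, hxz, hconj⟩ := exists_x hG hzc hzo A hAe hAnc
    obtain ⟨x', hx'p, hconj', ⟨u, hu0, hu⟩, g0, k0, hg0, hk0⟩ :=
      exists_setup ρ hpq hfpf hzc hzo hxp hxz hconj
    by_cases hp2 : p = 2
    · subst hp2
      right
      have hES : ES ρ x' z :=
        { hq2 := hpq
          hρ := hρ
          hs := hs
          hneg := neg_of_fpf_invol ρ (by rw [← pow_two]; exact hzp) hzf
          hzc := hzc
          hz1 := hz1
          hxx := by rw [← pow_two]; exact hx'p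
          hdi := by
            intro g
            obtain ⟨k, hk⟩ := hconj' g
            rcases pow_of_sq_one hzp k with h1 | h1
            · left; rw [hk, h1, mul_one]
            · right; rw [hk, h1] }
      have hg0' : g0 * x' * g0⁻¹ = x' * z := by
        rcases pow_of_sq_one hzp k0 with h1 | h1
        · exact absurd h1 hk0
        · rw [hg0, h1]
      rcases even_case hG hES hu0 hu hg0' with hC | ⟨h81, hq3⟩
      · exact Or.inl hC
      · exact Or.inr ⟨h81, hq3, rfl⟩
    · exact (odd_contra ρ hp2 hpq hs hfpf hzc hzp hconj' hu0 hu hg0 hk0).elim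
  · have hn : ∀ A : Subgroup G, A.Normal → IsMulCommutative A → IsCyclic A := by
      intro A h1 h2
      by_contra h3
      exact hA ⟨A, h1, h2, h3⟩
    obtain ⟨t, htp, ht1, htv⟩ := exists_order_p_fixing ρ hG hg11 hg1v
    have hto : orderOf t = p := orderOf_eq_prime htp ht1
    have hm : ∃ B : Subgroup G, IsMulCommutative B ∧ ¬ IsCyclic B := by
      refine ⟨Subgroup.closure {z, t}, Subgroup.isMulCommutative_closure ?_, ?_⟩
      · intro a ha b hb
        have hcz : ∀ g : G, g * z = z * g := Subgroup.mem_center_iff.mp hzc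
        simp only [Set.mem_insert_iff, Set.mem_singleton_iff] at ha hb
        rcases ha with ha | ha <;> rcases hb with hb | hb <;> rw [ha, hb]
        · exact (hcz t).symm
        · exact hcz t
      · intro hcyc
        have hzB : z ∈ Subgroup.closure {z, t} := Subgroup.subset_closure (by simp)
        have htB : t ∈ Subgroup.closure {z, t} := Subgroup.subset_closure (by simp)
        have h1 := Cfsg.Agent.Lib.Helper10.mem_zpowers_of_orderOf_dvd' _ hcyc hzB htB
          (dvd_of_eq (hzo.trans hto.symm))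
        rw [← mem_powers_iff_mem_zpowers] at h1
        obtain ⟨k, hk⟩ := (Submonoid.mem_powers_iff _ _).mp h1
        have h2 : ρ z v0 = v0 := by rw [← hk]; exact rpow_of_fixed ρ htv k
        exact hv0 (hzf v0 h2)
    obtain ⟨hp2, hcases⟩ := Cfsg.Agent.S0519.result p hG hn hm
    subst hp2
    left
    have hnsr : ∃ (v : V) (g : G), v ≠ 0 ∧ g ≠ 1 ∧ ρ g v = v := ⟨v0, g1, hv0, hg11, hg1v⟩
    rcases hcases with ⟨n, ⟨e⟩⟩ | ⟨n, hn8, ⟨e⟩⟩ | hQD
    · exfalso
      have htz : t = z := quaternion_unique_invol e (by rw [← pow_two]; exact htp) ht1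
        (by rw [← pow_two]; exact hzp) hz1
      rw [htz] at htv
      exact hv0 (hzf v0 htv)
    · obtain ⟨k, hk⟩ := IsPGroup.iff_card.mp hG
      have hcard : Nat.card G = 2 * n := by
        rw [Nat.card_congr e.toEquiv, DihedralGroup.nat_card]
      obtain ⟨m, rfl⟩ := two_pow_of_dihedral hn8 (by rw [← hcard, hk])
      have hQ := dihedral_QS m e
      obtain ⟨hV, hq⟩ := hQ.final ρ hpq hG hs hnsr hfpf 1 (m + 3) (one_mul _)
        (fun k => ⟨fun _ => one_dvd k, fun _ => hQ.z_pow_even k⟩)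
      exact ⟨hV, m + 3, hq, Or.inl ⟨e⟩⟩
    · have hQD' := hQD
      obtain ⟨n, hn3, hcard, x, y, hx, hy, hyx⟩ := hQD
      obtain ⟨m, rfl⟩ : ∃ m, n = m + 3 := ⟨n - 3, by omega⟩
      have e1 : m + 3 - 1 = m + 2 := by omega
      rw [e1] at hyx
      have hQ : QS x y m (2 ^ (m + 2) - 1) 1 :=
        { hx := hx
          hcard := hcard
          hy := by rw [← pow_two, ← hy]; exact pow_orderOf_eq_one y
          hyx := hyx
          hr := by rw [Nat.sub_add_cancel Nat.one_le_two_pow, mul_one] }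
      obtain ⟨hV, hq⟩ := hQ.final ρ hpq hG hs hnsr hfpf 2 (m + 2) (by ring)
        (fun k => by
          rw [one_mul]
          constructor
          · intro hk
            have ho : orderOf (x ^ 2 ^ (m + 2)) = 2 :=
              orderOf_eq_prime (by rw [pow_two]; exact hQ.z_sq) hQ.z_ne
            rw [← ho]; exact orderOf_dvd_of_pow_eq_one hk
          · rintro ⟨c, rfl⟩; exact hQ.z_pow_even c)
      exact ⟨hV, m + 2, hq, Or.inr ⟨hQD', hcard.trans (by ring)⟩⟩

end Cfsg.Agent.S3371
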