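import Cfsg.Statements.S3374
import Cfsg.Agent.H5.Mat2
import Cfsg.Agent.Lib.Helper22.Frobenius

set_option autoImplicit false
open Cfsg

namespace Cfsg.Agent.S3374

open Cfsg.H5.Mat2 Matrix

abbrev SL25 := Matrix.SpecialLinearGroup (Fin 2) (ZMod 5)
abbrev V11 := Fin 2 → ZMod 11

/-- the graph of an embedding of `SL(2,5)` into `SL(2,11)`, with a word in the two generators for each element -/
def tab3 : List (M4 × M4 × List Bool) := [((1, 0, 0, 1), (1, 0, 0, 1), []), ((0, 4, 1, 0), (0, 10, 1, 0), [false]), ((1, 1, 0, 1), (10, 3, 2, 4), [true]), ((4, 0, 0, 4), (10, 0, 0, 10), [false, false]), ((0, 4, 1, 1), (9, 7, 10, 3), [true, false]), ((1, 4, 1, 0), (3, 1, 4, 9), [false, true]), ((1, 2, 0, 1), (7, 9, 6, 0), [true, true]), ((0, 1, 4, 0), (0, 1, 10, 0), [false, false, false]), ((4, 4, 0, 4), (1, 8, 9, 7), [true, false, false]), ((4, 0, 1, 4), (7, 2, 3, 1), [false, true, false]), ((0, 4, 1, 2), (5, 0, 7, 9), [true, true, false]), ((1, 0, 1, 1), (10, 2, 3, 4), [true, false, true]), ((2, 4, 1, 0), (9, 4, 0, 5), [false, true,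 true]), ((1, 3, 0, 1), (0, 2, 5, 7), [true, true, true]), ((0, 1, 4, 4), (2, 4, 1, 8), [true, false, false, false]), ((4, 1, 4, 0), (8, 10, 7, 2), [false, true, false, false]), ((4, 3, 0, 4), (4, 2, 5, 0), [true, true, false, false]), ((4, 4, 1, 0), (8, 7, 10, 2), [true, false, true, false]), ((4, 0, 2, 4), (0, 6, 9, 4), [false, true, true, false]), ((0, 4, 1, 3), (6, 4, 0, 2), [true, true, true, false]), ((0, 4, 1, 4), (2, 1, 4, 8), [false, true, false, true]), ((1, 1, 1, 2), (5, 5, 5, 3), [true, true, false, true]), ((2, 1, 1, 1), (10, 10, 10, 9), [true, false, true, true]), ((3, 4, 1, 0), (2, 0, 7, 6), [false, true, true, true]), ((1, 4, 0, 1), (4, 8, 9, 10), [true, true, true, true]), ((1, 0, 4, 1), (4, 9, 8, 10), [false, true, false, false, false]), ((0, 1, 4, 3), (6, 0, 4, 2), [true, true, false, false, false]), ((4, 0, 4, 4), (1, 9, 8, 7), [true, false, true, false, false]), ((3, 1, 4, 0), (2, 7, 0, 6), [false, true, true, false, false]), ((4, 2, 0, 4), (0, 9, 6, 4), [true, true, true, false, false]), ((4, 1,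 0, 4), (7, 3, 2, 1), [false, true, false, true, false]), ((4, 3, 1, 1), (6, 8, 5, 5), [true, true, false, true, false]), ((4, 4, 2, 1), (1, 2, 10, 10), [true, false, true, true, false]), ((4, 0, 3, 4), (4, 5, 2, 0), [false, true, true, true, false]), ((1, 4, 2, 4), (5, 6, 3, 6), [false, true, true, false, true]), ((1, 2, 1, 3), (5, 2, 1, 5), [true, true, true, false, true]), ((1, 3, 1, 4), (10, 1, 9, 1), [false, true, false, true, true]), ((2, 3, 1, 2), (10, 4, 8, 0), [true, true, false, true, true]), ((3, 2, 1, 1), (9, 6, 5, 1), [true, false, true, true, true]), ((1, 1, 4, 0), (3, 4, 1, 9), [true, false, true, false, false, false]), ((1, 0, 3, 1), (0, 5, 2, 7), [false, true, true, false, false, false]), ((0, 1, 4, 2), (5, 7, 0, 9), [true, true, true, false, false, false]), ((0, 1, 4, 1), (9, 10, 7, 3), [false, true, false, true, false, false]), ((4, 4, 4, 3), (6, 6, 6, 8), [true, true, false, true, false, false]), ((3, 4, 4, 4), (1, 1, 1, 2), [true, false, true, true, false, false]), ((2, 1, 4, 0), (9, 0, 4, 5), [false,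 true, true, true, false, false]), ((3, 1, 1, 4), (8, 5, 5, 6), [false, true, true, false, true, false]), ((4, 2, 1, 2), (10, 6, 5, 2), [true, true, true, false, true, false]), ((4, 1, 1, 3), (2, 10, 10, 1), [false, true, false, true, true, false]), ((4, 3, 2, 3), (3, 0, 10, 4), [true, true, false, true, true, false]), ((4, 4, 3, 2), (6, 10, 9, 6), [true, false, true, true, true, false]), ((1, 0, 2, 1), (7, 6, 9, 0), [true, false, true, true, false, true]), ((2, 4, 3, 4), (2, 6, 5, 10), [false, true, true, true, false, true]), ((3, 3, 2, 4), (4, 1, 0, 3), [false, true, true, false, true, true]), ((2, 0, 1, 3), (9, 2, 3, 2), [true, true, true, false, true, true]), ((2, 2, 1, 4), (6, 2, 1, 6), [false, true, false, true, true, true]), ((3, 0, 1, 2), (3, 7, 8, 8), [true, true, false, true, true, true]), ((1, 2, 4, 4), (5, 3, 6, 6), [true, true, false, true, false, false, false]), ((1, 1, 3, 4), (10, 9, 1, 1), [true, false, true, true, false, false, false]), ((4, 1, 3, 1), (6, 5, 8, 5), [false, true, true, false, true, false,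 false]), ((4, 3, 4, 2), (6, 9, 10, 6), [true, true, true, false, true, false, false]), ((4, 2, 4, 1), (1, 10, 2, 10), [false, true, false, true, true, false, false]), ((3, 2, 4, 3), (1, 7, 3, 0), [true, true, false, true, true, false, false]), ((2, 3, 4, 4), (2, 5, 6, 10), [true, false, true, true, true, false, false]), ((2, 1, 2, 4), (6, 1, 2, 6), [false, true, true, true, false, true, false]), ((3, 1, 3, 3), (0, 8, 4, 1), [false, true, true, false, true, true, false]), ((4, 2, 2, 0), (8, 9, 9, 2), [true, true, true, false, true, true, false]), ((4, 1, 2, 2), (10, 5, 6, 2), [false, true, false, true, true, true, false]), ((4, 3, 3, 0), (3, 3, 3, 7), [true, true, false, true, true, true, false]), ((1, 1, 2, 3), (5, 1, 2, 5), [true, true, false, true, true, false, true]), ((2, 1, 3, 2), (10, 8, 4, 0), [true, false, true, true, true, false, true]), ((3, 1, 2, 1), (9, 5, 6, 1), [true, false, true, true, false, true, true]), ((0, 3, 3, 4), (2, 2, 2, 8), [false, true, true, true, false, true, true]), ((0, 2, 2, 4), (7, 8,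 8, 3), [false, true, true, false, true, true, true]), ((3, 3, 1, 3), (0, 4, 8, 1), [true, true, true, false, true, true, true]), ((2, 4, 4, 1), (3, 6, 6, 5), [false, true, true, false, true, false, false, false]), ((1, 3, 4, 3), (1, 5, 6, 9), [true, true, true, false, true, false, false, false]), ((1, 4, 4, 2), (9, 1, 1, 10), [false, true, false, true, true, false, false, false]), ((1, 2, 3, 2), (8, 0, 1, 7), [true, true, false, true, true, false, false, false]), ((2, 2, 3, 1), (7, 10, 0, 8), [false, true, true, false, true, true, false, false]), ((3, 0, 4, 2), (2, 9, 8, 9), [true, true, true, false, true, true, false, false]), ((3, 3, 4, 1), (5, 9, 10, 5), [false, true, false, true, true, true, false, false]), ((2, 0, 4, 3), (8, 4, 3, 3), [true, true, false, true, true, true, false, false]), ((2, 3, 2, 1), (7, 0, 10, 8), [true, false, true, true, true, false, true, false]), ((3, 4, 3, 1), (5, 10, 9, 5), [true, false, true, true, false, true, true, false]), ((2, 1, 0, 3), (9, 3, 2, 2), [false, true, true, true, false,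 true, true, false]), ((3, 1, 0, 2), (3, 8, 7, 8), [false, true, true, false, true, true, true, false]), ((4, 2, 3, 3), (3, 10, 0, 4), [true, true, true, false, true, true, true, false]), ((1, 4, 3, 3), (1, 6, 5, 9), [false, true, true, false, true, true, false, true]), ((1, 2, 2, 0), (8, 8, 8, 4), [true, true, true, false, true, true, false, true]), ((1, 3, 2, 2), (8, 1, 0, 7), [false, true, false, true, true, true, false, true]), ((2, 3, 3, 0), (6, 7, 7, 1), [true, true, false, true, true, true, false, true]), ((3, 4, 2, 3), (1, 3, 7, 0), [true, true, false, true, true, false, true, true]), ((0, 3, 3, 2), (2, 3, 3, 5), [true, false, true, true, true, false, true, true]), ((0, 2, 2, 1), (9, 9, 9, 3), [true, false, true, true, false, true, true, true]), ((3, 2, 3, 4), (4, 0, 1, 3), [false, true, true, true, false, true, true, true]), ((2, 4, 2, 2), (0, 3, 7, 10), [false, true, true, false, true, true, false, false, false]), ((1, 3, 3, 0), (3, 2, 2, 9), [true, true, true, false, true, true, false, false, false]), ((0,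 3, 3, 1), (4, 3, 3, 8), [false, true, true, false, true, true, true, false, false]), ((2, 2, 4, 2), (0, 7, 3, 10), [true, true, true, false, true, true, true, false, false]), ((2, 0, 2, 3), (4, 10, 6, 7), [true, true, false, true, true, true, false, true, false]), ((2, 3, 0, 3), (8, 6, 2, 3), [true, false, true, true, true, false, true, true, false]), ((3, 4, 0, 2), (2, 8, 9, 9), [true, false, true, true, false, true, true, true, false]), ((2, 4, 0, 3), (8, 3, 4, 3), [false, true, true, true, false, true, true, false, true]), ((3, 3, 0, 2), (7, 5, 1, 4), [false, true, true, false, true, true, true, false, true]), ((2, 0, 3, 3), (8, 2, 6, 3), [true, true, true, false, true, true, true, false, true]), ((3, 2, 2, 0), (5, 4, 4, 10), [true, true, true, false, true, true, false, true, true]), ((3, 0, 2, 2), (3, 9, 5, 8), [false, true, false, true, true, true, false, true, true]), ((0, 3, 3, 0), (4, 7, 7, 7), [true, true, false, true, true, true, false, true, true]), ((0, 2, 2, 3), (9, 8, 8, 6), [true, true, false, true, true,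 false, true, true, true]), ((3, 0, 3, 2), (7, 1, 5, 4), [true, false, true, true, true, false, true, true, true]), ((0, 3, 3, 3), (10, 7, 7, 5), [false, true, true, false, true, true, true, false, true, false]), ((2, 2, 2, 0), (5, 8, 8, 2), [true, true, true, false, true, true, true, false, true, false]), ((3, 3, 3, 0), (6, 3, 3, 9), [false, true, false, true, true, true, false, true, true, false]), ((2, 0, 0, 3), (4, 4, 4, 7), [true, true, false, true, true, true, false, true, true, false]), ((3, 2, 0, 2), (3, 5, 9, 8), [true, true, false, true, true, false, true, true, true, false]), ((2, 2, 0, 3), (4, 6, 10, 7), [false, true, true, true, false, true, true, false, true, true]), ((3, 0, 0, 2), (7, 7, 7, 4), [false, true, true, false, true, true, true, false, true, true]), ((0, 2, 2, 0), (7, 4, 4, 4), [true, true, true, false, true, true, false, true, true, true]), ((0, 2, 2, 2), (1, 4, 4, 6), [false, true, false, true, true, true, false, true, true, true])]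

def keys : List M4 := tab3.map (fun p => p.1)

def key (x : M4) : ℕ := ((x.1 * 5 + x.2.1) * 5 + x.2.2.1) * 5 + x.2.2.2

def tabN : List (ℕ × M4) := [(126, (1, 0, 0, 1)), (105, (0, 10, 1, 0)), (151, (10, 3, 2, 4)), (504, (10, 0, 0, 10)), (106, (9, 7, 10, 3)), (230, (3, 1, 4, 9)), (176, (7, 9, 6, 0)), (45, (0, 1, 10, 0)), (604, (1, 8, 9, 7)), (509, (7, 2, 3, 1)), (107, (5, 0, 7, 9)), (131, (10, 2, 3, 4)), (355, (9, 4, 0, 5)), (201, (0, 2, 5, 7)), (49, (2, 4, 1, 8)), (545, (8, 10, 7, 2)), (579, (4, 2, 5, 0)), (605, (8, 7, 10, 2)), (514, (0, 6, 9, 4)), (108, (6, 4, 0, 2)), (109, (2, 1, 4, 8)), (157, (5, 5, 5, 3)), (281, (10, 10, 10, 9)), (480, (2, 0, 7, 6)), (226, (4, 8, 9, 10)), (146, (4, 9, 8, 10)), (48, (6, 0, 4, 2)), (524, (1, 9, 8, 7)), (420, (2, 7, 0, 6)), (554, (0, 9, 6, 4)), (529, (7, 3, 2, 1)), (581, (6, 8, 5, 5)), (611, (1, 2, 10, 10)), (519, (4, 5, 2, 0)), (239, (5, 6, 3, 6)), (183, (5, 2, 1, 5)), (209, (10, 1, 9, 1)), (332, (10, 4, 8, 0)), (431, (9, 6, 5, 1)), (170, (3, 4, 1, 9)), (141, (0, 5, 2, 7)), (47,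 (5, 7, 0, 9)), (46, (9, 10, 7, 3)), (623, (6, 6, 6, 8)), (499, (1, 1, 1, 2)), (295, (9, 0, 4, 5)), (409, (8, 5, 5, 6)), (557, (10, 6, 5, 2)), (533, (2, 10, 10, 1)), (588, (3, 0, 10, 4)), (617, (6, 10, 9, 6)), (136, (7, 6, 9, 0)), (369, (2, 6, 5, 10)), (464, (4, 1, 0, 3)), (258, (9, 2, 3, 2)), (309, (6, 2, 1, 6)), (382, (3, 7, 8, 8)), (199, (5, 3, 6, 6)), (169, (10, 9, 1, 1)), (541, (6, 5, 8, 5)), (597, (6, 9, 10, 6)), (571, (1, 10, 2, 10)), (448, (1, 7, 3, 0)), (349, (2, 5, 6, 10)), (289, (6, 1, 2, 6)), (418, (0, 8, 4, 1)), (560, (8, 9, 9, 2)), (537, (10, 5, 6, 2)), (590, (3, 3, 3, 7)), (163, (5, 1, 2, 5)), (292, (10, 8, 4, 0)), (411, (9, 5, 6, 1)), (94, (2, 2, 2, 8)), (64, (7, 8, 8, 3)), (458, (0, 4, 8, 1)), (371, (3, 6, 6, 5)), (223, (1, 5, 6, 9)), (247, (9, 1, 1, 10)), (192, (8, 0, 1, 7)), (316, (7, 10, 0, 8)), (397, (2, 9, 8, 9)), (471, (5, 9, 10, 5)), (273, (8, 4, 3, 3)), (336, (7, 0, 10, 8)), (491, (5, 10, 9, 5)), (278, (9, 3, 2, 2)), (402, (3, 8, 7, 8)), (568, (3, 10, 0, 4)), (243, (1, 6, 5, 9)), (185, (8, 8,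 8, 4)), (212, (8, 1, 0, 7)), (340, (6, 7, 7, 1)), (488, (1, 3, 7, 0)), (92, (2, 3, 3, 5)), (61, (9, 9, 9, 3)), (444, (4, 0, 1, 3)), (362, (0, 3, 7, 10)), (215, (3, 2, 2, 9)), (91, (4, 3, 3, 8)), (322, (0, 7, 3, 10)), (263, (4, 10, 6, 7)), (328, (8, 6, 2, 3)), (477, (2, 8, 9, 9)), (353, (8, 3, 4, 3)), (452, (7, 5, 1, 4)), (268, (8, 2, 6, 3)), (435, (5, 4, 4, 10)), (387, (3, 9, 5, 8)), (90, (4, 7, 7, 7)), (63, (9, 8, 8, 6)), (392, (7, 1, 5, 4)), (93, (10, 7, 7, 5)), (310, (5, 8, 8, 2)), (465, (6, 3, 3, 9)), (253, (4, 4, 4, 7)), (427, (3, 5, 9, 8)), (303, (4, 6, 10, 7)), (377, (7, 7, 7, 4)), (60, (7, 4, 4, 4)), (62, (1, 4, 4, 6))]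

def lookN : List (ℕ × M4) → ℕ → M4
  | [], _ => one4
  | (k, v) :: t, n => bif Nat.beq k n then v else lookN t n

def look (x : M4) : M4 := lookN tabN (key x)

def gS : M4 := (0, 4, 1, 0)
def gT : M4 := (1, 1, 0, 1)
def gS' : M4 := (0, 10, 1, 0)
def gT' : M4 := (10, 3, 2, 4)

/-- evaluate a word; the head of the list is the last factor -/
def evalW : List Bool → M4
  | [] => one4
  | b :: w => mul4 5 (evalW w) (bif b then gT else gS)

set_option maxRecDepth 1000000 in
theorem word_check : (tab3.all fun p => evalW p.2.2 == p.1) = true := by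
  decide +kernel

set_option maxRecDepth 1000000 in
theorem look_check : (tab3.all fun p => look p.1 == p.2.1) = true := by
  decide +kernel

set_option maxRecDepth 1000000 in
theorem gen_check : (tab3.all fun p => look (mul4 5 p.1 gS) == mul4 11 p.2.1 gS' &&
    look (mul4 5 p.1 gT) == mul4 11 p.2.1 gT') = true := by
  decide +kernel

set_option maxRecDepth 1000000 in
theorem mem_check : ((List.range 5).all fun a => (List.range 5).all fun b =>
    (List.range 5).all fun c => (List.range 5).all fun d =>
      (!(Nat.beq ((a * d) % 5) ((b * c + 1) % 5))) || keys.contains (a, b, c, d)) = true := by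
  decide +kernel

set_option maxRecDepth 1000000 in
theorem fix_check : (tab3.all fun p => fixFree 11 p.2.1) = true := by
  decide +kernel

set_option maxRecDepth 1000000 in
theorem inj_check : (tab3.all fun p => p.2.1 != one4 || p.1 == one4) = true := by
  decide +kernel

set_option maxRecDepth 1000000 in
theorem red_check : (tab3.all fun p => red 11 p.2.1) = true := by
  decide +kernel

theorem look_one : look one4 = one4 := by decide +kernel
theorem look_gS : look gS = gS' := by decide +kernel
theorem look_gT : look gT = gT' := by decide +kernel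

/-! ### group level -/

def enc (M : SL25) : M4 := ((M.1 0 0).val, (M.1 0 1).val, (M.1 1 0).val, (M.1 1 1).val)

theorem toMat_enc (M : SL25) : toMat 5 (enc M) = M.1 := by
  ext i j
  fin_cases i <;> fin_cases j <;> simp [toMat, enc]

theorem val_aux (a b c d : ZMod 5) : (a * b + c * d).val = (a.val * b.val + c.val * d.val) % 5 := by
  rw [ZMod.val_add, ZMod.val_mul, ZMod.val_mul, ← Nat.add_mod]

theorem enc_mul (M N : SL25) : enc (M * N) = mul4 5 (enc M) (enc N) := by
  simp only [enc, mul4, Matrix.SpecialLinearGroup.coe_mul, Matrix.mul_apply, Fin.sum_univ_two,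
    val_aux]

theorem enc_inj {M N : SL25} (h : enc M = enc N) : M = N := by
  apply Subtype.ext
  rw [← toMat_enc M, ← toMat_enc N, h]

theorem enc_mem (M : SL25) : enc M ∈ keys := by
  have hdet : M.1 0 0 * M.1 1 1 = M.1 0 1 * M.1 1 0 + 1 := by
    have := M.2
    rw [Matrix.det_fin_two] at this
    linear_combination this
  have h1 : ((M.1 0 0).val * (M.1 1 1).val) % 5 = ((M.1 0 1).val * (M.1 1 0).val + 1) % 5 := by
    rw [← ZMod.natCast_eq_natCast_iff']
    push_cast
    simp only [ZMod.natCast_zmod_val]
    exact hdet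
  have hlt : ∀ x : ZMod 5, x.val ∈ List.range 5 := fun x => List.mem_range.mpr (ZMod.val_lt x)
  have h2 := List.all_eq_true.mp mem_check _ (hlt (M.1 0 0))
  have h3 := List.all_eq_true.mp h2 _ (hlt (M.1 0 1))
  have h4 := List.all_eq_true.mp h3 _ (hlt (M.1 1 0))
  have h5 := List.all_eq_true.mp h4 _ (hlt (M.1 1 1))
  simp only [Bool.or_eq_true, Bool.not_eq_true', List.contains_iff_mem] at h5
  rcases h5 with h5 | h5
  · exfalso
    have h6 : Nat.beq (((M.1 0 0).val * (M.1 1 1).val) % 5) (((M.1 0 1).val * (M.1 1 0).val + 1) % 5) = true := by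
      rw [h1]; exact Nat.beq_refl _
    rw [h6] at h5
    exact Bool.noConfusion h5
  · exact h5

def f (M : SL25) : Matrix (Fin 2) (Fin 2) (ZMod 11) := toMat 11 (look (enc M))

def S5 : SL25 := ⟨!![0, -1; 1, 0], by simp [Matrix.det_fin_two]⟩
def T5 : SL25 := ⟨!![1, 1; 0, 1], by simp [Matrix.det_fin_two]⟩

theorem enc_S5 : enc S5 = gS := by decide
theorem enc_T5 : enc T5 = gT := by decide
theorem enc_one : enc 1 = one4 := by decide

theorem exists_tab (M : SL25) : ∃ p ∈ tab3, p.1 = enc M := by
  have := enc_mem M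
  simpa [keys, List.mem_map] using this

theorem f_one : f 1 = 1 := by
  unfold f
  rw [enc_one, look_one, toMat_one4]

theorem f_mul_S (X : SL25) : f (X * S5) = f X * f S5 := by
  obtain ⟨p, hp, hpx⟩ := exists_tab X
  have h1 := List.all_eq_true.mp gen_check p hp
  simp only [Bool.and_eq_true, beq_iff_eq] at h1
  have h2 := List.all_eq_true.mp look_check p hp
  simp only [beq_iff_eq] at h2
  unfold f
  rw [enc_mul, enc_S5, ← hpx, h1.1, ← h2, toMat_mul4, look_gS]

theorem f_mul_T (X : SL25) : f (X * T5) = f X * f T5 := by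
  obtain ⟨p, hp, hpx⟩ := exists_tab X
  have h1 := List.all_eq_true.mp gen_check p hp
  simp only [Bool.and_eq_true, beq_iff_eq] at h1
  have h2 := List.all_eq_true.mp look_check p hp
  simp only [beq_iff_eq] at h2
  unfold f
  rw [enc_mul, enc_T5, ← hpx, h1.2, ← h2, toMat_mul4, look_gT]

/-- right multiplicativity -/
def Q (M : SL25) : Prop := ∀ X : SL25, f (X * M) = f X * f M

theorem Q_one : Q 1 := by
  intro X
  rw [mul_one, f_one, mul_one]

theorem Q_mul_gen {M g : SL25} (hM : Q M) (hg : ∀ X : SL25, f (X * g) = f X * f g) : Q (M * g) := by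
  intro X
  rw [← mul_assoc, hg, hM, hg M, mul_assoc]

theorem Q_word : ∀ w : List Bool, ∃ M : SL25, toMat 5 (evalW w) = M.1 ∧ Q M
  | [] => ⟨1, by rw [evalW, toMat_one4]; rfl, Q_one⟩
  | b :: w => by
    obtain ⟨M, hM, hQ⟩ := Q_word w
    cases b
    · refine ⟨M * S5, ?_, Q_mul_gen hQ f_mul_S⟩
      rw [evalW, toMat_mul4, hM, cond_false, ← enc_S5, toMat_enc]; rfl
    · refine ⟨M * T5, ?_, Q_mul_gen hQ f_mul_T⟩
      rw [evalW, toMat_mul4, hM, cond_true, ← enc_T5, toMat_enc]; rfl

theorem Q_all (N : SL25) : Q N := by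
  obtain ⟨p, hp, hpx⟩ := exists_tab N
  have h1 := List.all_eq_true.mp word_check p hp
  simp only [beq_iff_eq] at h1
  obtain ⟨M, hM, hQ⟩ := Q_word p.2.2
  rw [h1, hpx, toMat_enc] at hM
  have : N = M := Subtype.ext hM
  rw [this]; exact hQ

/-- the embedding, as a monoid homomorphism into matrices -/
def F₀ : SL25 →* Matrix (Fin 2) (Fin 2) (ZMod 11) where
  toFun := f
  map_one' := f_one
  map_mul' M N := Q_all N M

/-- the embedding into `GL(2,11)` -/
def F : SL25 →* GL (Fin 2) (ZMod 11) := F₀.toHomUnits

theorem F_coe (M : SL25) : ((F M : GL (Fin 2) (ZMod 11)) : Matrix (Fin 2) (Fin 2) (ZMod 11)) = f M := rfl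

theorem eq_one_of_fix (M : SL25) (v : V11) (hv : v ≠ 0) (h : (f M).mulVec v = v) : M = 1 := by
  haveI : Fact (Nat.Prime 11) := ⟨by norm_num⟩
  obtain ⟨p, hp, hpx⟩ := exists_tab M
  have h2 := List.all_eq_true.mp look_check p hp
  simp only [beq_iff_eq] at h2
  have h3 := List.all_eq_true.mp fix_check p hp
  have h4 := List.all_eq_true.mp inj_check p hp
  simp only [Bool.or_eq_true, bne_iff_ne, ne_eq, beq_iff_eq] at h4
  have hF : ((F M : GL (Fin 2) (ZMod 11)) : Matrix (Fin 2) (Fin 2) (ZMod 11)) = toMat 11 p.2.1 := by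
    rw [F_coe, f, ← hpx, h2]
  have h5 : F M = 1 := eq_one_of_mulVec_eq hF h3 hv (by rw [F_coe]; exact h)
  have h6 : toMat 11 p.2.1 = 1 := by rw [← hF, h5]; rfl
  rcases h4 with h4 | h4
  · exfalso
    apply h4
    have hred : red 11 p.2.1 = true := List.all_eq_true.mp red_check p hp
    exact toMat_injOn 11 hred (by decide) (by rw [h6, toMat_one4])
  · apply enc_inj
    rw [← hpx, h4, enc_one]

/-! ### the Frobenius group -/

/-- the action on vectors -/
def actFun (g : SL25) : Multiplicative V11 ≃* Multiplicative V11 :=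
  AddEquiv.toMultiplicative
    { toFun := fun v => (f g).mulVec v
      invFun := fun v => (f g⁻¹).mulVec v
      left_inv := fun v => by
        show (F₀ g⁻¹).mulVec ((F₀ g).mulVec v) = v
        rw [Matrix.mulVec_mulVec, ← map_mul, inv_mul_cancel, map_one, Matrix.one_mulVec]
      right_inv := fun v => by
        show (F₀ g).mulVec ((F₀ g⁻¹).mulVec v) = v
        rw [Matrix.mulVec_mulVec, ← map_mul, mul_inv_cancel, map_one, Matrix.one_mulVec]
      map_add' := fun v w => Matrix.mulVec_add _ v w }

theorem actFun_apply (g : SL25) (v : Multiplicative V11) :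
    actFun g v = Multiplicative.ofAdd ((f g).mulVec v.toAdd) := rfl

def act : SL25 →* MulAut (Multiplicative V11) where
  toFun := actFun
  map_one' := by
    apply MulEquiv.ext
    intro v
    rw [actFun_apply, f_one, Matrix.one_mulVec]; rfl
  map_mul' g h := by
    apply MulEquiv.ext
    intro v
    rw [MulAut.mul_apply, actFun_apply, actFun_apply, actFun_apply]
    show Multiplicative.ofAdd ((F₀ (g * h)).mulVec v.toAdd) = _
    rw [map_mul, ← Matrix.mulVec_mulVec]; rfl

abbrev L := Multiplicative V11 ⋊[act] SL25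

theorem frob : Cfsg.IsFrobeniusComplement ((SemidirectProduct.inr : SL25 →* L).range) := by
  haveI : Finite L := Finite.of_equiv _ SemidirectProduct.equivProd.symm
  refine (Cfsg.Agent.Lib.Helper22.frobenius_of_fpf (SemidirectProduct.rightHom : L →* SL25).ker
    ((SemidirectProduct.inr : SL25 →* L).range) ?_ ?_ ?_ ?_ ?_).1
  · rw [Subgroup.eq_bot_iff_forall]
    rintro x ⟨hx1, g, rfl⟩
    have : g = 1 := by
      have := MonoidHom.mem_ker.mp hx1
      rwa [SemidirectProduct.rightHom_inr] at this
    rw [this, map_one]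
  · rw [eq_top_iff]
    intro x _
    rw [← SemidirectProduct.inl_left_mul_inr_right x]
    apply Subgroup.mul_mem_sup
    · rw [MonoidHom.mem_ker, SemidirectProduct.rightHom_inl]
    · exact ⟨_, rfl⟩
  · intro h
    have hv : (SemidirectProduct.inl (Multiplicative.ofAdd (fun _ => (1 : ZMod 11) : V11)) : L) ∈
        (SemidirectProduct.rightHom : L →* SL25).ker := by
      rw [MonoidHom.mem_ker, SemidirectProduct.rightHom_inl]
    rw [h, Subgroup.mem_bot] at hv
    have h2 := congrArg SemidirectProduct.left hv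
    rw [SemidirectProduct.left_inl, SemidirectProduct.one_left] at h2
    have h3 := congrFun (congrArg Multiplicative.toAdd h2) 0
    have h4 : (1 : ZMod 11) = 0 := h3
    exact absurd h4 (by decide)
  · intro h
    have hv : (SemidirectProduct.inr S5 : L) ∈ (SemidirectProduct.inr : SL25 →* L).range := ⟨_, rfl⟩
    rw [h, Subgroup.mem_bot] at hv
    have h2 : S5 = 1 := SemidirectProduct.inr_injective (by rw [hv, map_one])
    have h3 := congrArg enc h2
    rw [enc_S5, enc_one] at h3
    exact absurd h3 (by decide)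
  · rintro _ ⟨g, rfl⟩ hg1 n hn hcomm
    have hg : g ≠ 1 := by
      intro h
      apply hg1
      rw [h, map_one]
    have hn' : n = SemidirectProduct.inl n.left := by
      have h1 := SemidirectProduct.inl_left_mul_inr_right n
      have h2 : n.right = 1 := MonoidHom.mem_ker.mp hn
      rw [h2, map_one, mul_one] at h1
      exact h1.symm
    have h1 : act g n.left = n.left := by
      have h2 := congrArg SemidirectProduct.left hcomm
      rw [SemidirectProduct.mul_left, SemidirectProduct.mul_left, SemidirectProduct.left_inr,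
        SemidirectProduct.right_inr, one_mul] at h2
      have h3 : n.right = 1 := MonoidHom.mem_ker.mp hn
      rw [h3, map_one, mul_one] at h2
      exact h2
    by_contra hn1
    have hv : n.left.toAdd ≠ 0 := by
      intro h0
      apply hn1
      rw [hn']
      have : n.left = 1 := by
        apply Multiplicative.toAdd.injective
        rw [h0]; rfl
      rw [this, map_one]
    apply hg
    apply eq_one_of_fix g n.left.toAdd hv
    have := congrArg Multiplicative.toAdd h1
    exact this

/-- SL(2,5) occurs as a Frobenius complement: there is a finite group L with a subgroup H isomorphic to SL(2,5) which is a non-trivial proper subgroup meeting each conjugate gHg⁻¹ with g outside H trivially. -/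
theorem result :
    ∃ (L : Type) (_ : Group L) (_ : Finite L) (H : Subgroup L),
      Cfsg.IsFrobeniusComplement H ∧ Nonempty (H ≃* Matrix.SpecialLinearGroup (Fin 2) (ZMod 5)) := by
  refine ⟨L, inferInstance, Finite.of_equiv _ SemidirectProduct.equivProd.symm,
    (SemidirectProduct.inr : SL25 →* L).range, frob, ⟨?_⟩⟩
  exact (MonoidHom.ofInjective SemidirectProduct.inr_injective).symm

end Cfsg.Agent.S3374
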