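import Mathlib
import Cfsg.Statements.S3375

set_option autoImplicit false
open Cfsg

namespace Cfsg.Agent.S3375

variable {H : Type*} [Group H]

theorem invol (γ : MulAut H) (hγ : orderOf γ = 2) (h : H) : γ (γ h) = h := by
  have h2 : γ ^ 2 = 1 := by rw [← hγ]; exact pow_orderOf_eq_one γ
  have : (γ ^ 2) h = h := by rw [h2]; rfl
  simpa [pow_two] using this

theorem comm_of_inverted (γ : MulAut H) (A : Subgroup H) (hA : ∀ a ∈ A, γ a = a⁻¹) :
    ∀ a ∈ A, ∀ b ∈ A, a * b = b * a := by
  intro a ha b hb
  have h1 : γ (a * b) = (a * b)⁻¹ := hA _ (A.mul_mem ha hb)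
  rw [map_mul, hA a ha, hA b hb, mul_inv_rev] at h1
  have := congrArg (·⁻¹) h1
  simp only [mul_inv_rev, inv_inv] at this
  exact this.symm

/-- The subgroup of fixed points of an automorphism. -/
def fixedSub (γ : MulAut H) : Subgroup H where
  carrier := {h | γ h = h}
  mul_mem' := by
    intro a b ha hb
    simp only [Set.mem_ofPred_eq] at *
    rw [map_mul, ha, hb]
  one_mem' := map_one γ
  inv_mem' := by
    intro a ha
    simp only [Set.mem_ofPred_eq] at *
    rw [map_inv, ha]

theorem mem_fixedSub (γ : MulAut H) (h : H) : h ∈ fixedSub γ ↔ γ h = h := Iff.rfl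

theorem inverted_of_invariant [Finite H] (γ : MulAut H) (hγ : orderOf γ = 2)
    (hfix : Nat.card (fixedSub γ) = 2) (M : Subgroup H) (hM : M.index = 2)
    (hinv : ∀ h ∈ M, γ h ∈ M) : ∀ a ∈ M, γ a = a⁻¹ := by
  classical
  have hmem : ∀ h, γ h * h⁻¹ ∈ M := by
    intro h
    rw [Subgroup.mul_mem_iff_of_index_two hM, inv_mem_iff]
    exact ⟨fun h1 => by simpa [invol γ hγ] using hinv _ h1, fun h1 => hinv _ h1⟩
  let g : H ⧸ fixedSub γ → M := fun q => Quotient.liftOn' q (fun h => ⟨γ h * h⁻¹, hmem h⟩) (by
    intro a b hab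
    rw [QuotientGroup.leftRel_apply, mem_fixedSub, map_mul, map_inv] at hab
    apply Subtype.ext
    show γ a * a⁻¹ = γ b * b⁻¹
    have : γ b = γ a * (a⁻¹ * b) := by rw [← hab]; group
    rw [this]; group)
  have hg : ∀ h : H, g (QuotientGroup.mk h) = ⟨γ h * h⁻¹, hmem h⟩ := fun h => rfl
  have hginj : Function.Injective g := by
    intro q₁ q₂
    induction q₁ using QuotientGroup.induction_on with
    | H a =>
      induction q₂ using QuotientGroup.induction_on with
      | H b =>
        intro hab
        rw [hg, hg] at hab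
        have hab' : γ a * a⁻¹ = γ b * b⁻¹ := congrArg Subtype.val hab
        rw [QuotientGroup.eq, mem_fixedSub, map_mul, map_inv]
        have : γ b = γ a * a⁻¹ * b := by rw [hab']; group
        rw [this]; group
  have hcard : Nat.card M ≤ Nat.card (H ⧸ fixedSub γ) := by
    have h1 := (fixedSub γ).card_mul_index
    have h2 := M.card_mul_index
    rw [hfix] at h1
    rw [hM] at h2
    have h3 : (fixedSub γ).index = Nat.card M := by omega
    rw [← h3]; rfl
  have hbij := hginj.bijective_of_nat_card_le hcard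
  intro a ha
  obtain ⟨q, hq⟩ := hbij.2 ⟨a, ha⟩
  induction q using QuotientGroup.induction_on with
  | H h =>
    rw [hg] at hq
    have hq' : γ h * h⁻¹ = a := congrArg Subtype.val hq
    rw [← hq', map_mul, map_inv, invol γ hγ]
    group

theorem exists_invariant (γ : MulAut H) (hγ : orderOf γ = 2) (M : Subgroup H)
    (hM : M.index = 2) : ∃ M' : Subgroup H, M'.index = 2 ∧ ∀ h ∈ M', γ h ∈ M' := by
  classical
  by_cases hinv : ∀ h ∈ M, γ h ∈ M
  · exact ⟨M, hM, hinv⟩
  · push Not at hinv
    obtain ⟨a, haM, haM₂⟩ := hinv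
    let M₂ : Subgroup H := M.comap γ.toMonoidHom
    have hmem₂ : ∀ h, h ∈ M₂ ↔ γ h ∈ M := fun h => Iff.rfl
    have hM₂ : M₂.index = 2 := by
      rw [Subgroup.index_comap_of_surjective _ γ.surjective]; exact hM
    let M' : Subgroup H :=
      { carrier := {h | h ∈ M ↔ h ∈ M₂}
        mul_mem' := by
          intro x y hx hy
          simp only [Set.mem_ofPred_eq] at *
          rw [Subgroup.mul_mem_iff_of_index_two hM, Subgroup.mul_mem_iff_of_index_two hM₂, hx, hy]
        one_mem' := by
          simp only [Set.mem_ofPred_eq]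
          exact ⟨fun _ => M₂.one_mem, fun _ => M.one_mem⟩
        inv_mem' := by
          intro x hx
          simp only [Set.mem_ofPred_eq] at *
          rw [inv_mem_iff, inv_mem_iff, hx] }
    have hmem' : ∀ h, h ∈ M' ↔ (h ∈ M ↔ h ∈ M₂) := fun h => Iff.rfl
    refine ⟨M', ?_, ?_⟩
    · rw [Subgroup.index_eq_two_iff]
      refine ⟨a, fun b => ?_⟩
      rw [hmem', hmem', Subgroup.mul_mem_iff_of_index_two hM,
        Subgroup.mul_mem_iff_of_index_two hM₂]
      have ha2 : a ∉ M₂ := haM₂
      by_cases h1 : b ∈ M <;> by_cases h2 : b ∈ M₂ <;> simp [Xor, h1, h2, haM, ha2]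
    · intro h hh
      rw [hmem'] at hh ⊢
      rw [hmem₂ (γ h), invol γ hγ, ← hmem₂ h]
      exact hh.symm

/-- Let γ be an automorphism of order 2 of a finite group H. (i) If γ fixes only the identity, then H is abelian and γ inverts every element. (ii) If γ has exactly two fixed points and H has a subgroup of index 2, then H has a γ-invariant abelian subgroup of index 2 on which γ acts by inversion. -/
theorem result {H : Type*} [Group H] [Finite H] (γ : MulAut H) (hγ : orderOf γ = 2) :
    ((∀ h : H, γ h = h → h = 1) → (∀ a b : H, a * b = b * a) ∧ ∀ h : H, γ h = h⁻¹) ∧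
    ((Nat.card {h : H // γ h = h} = 2 ∧ ∃ M : Subgroup H, M.index = 2) →
      ∃ A : Subgroup H, A.index = 2 ∧ IsMulCommutative A ∧ (∀ a ∈ A, γ a ∈ A) ∧ ∀ a ∈ A, γ a = a⁻¹) := by
  constructor
  · intro hfpf
    have hinvert : ∀ h : H, γ h = h⁻¹ := by
      have hinj : Function.Injective (fun h : H => γ h * h⁻¹) := by
        intro a b hab
        simp only at hab
        have h1 : γ (a⁻¹ * b) = a⁻¹ * b := by
          rw [map_mul, map_inv]
          have : γ b = γ a * a⁻¹ * b := by rw [hab]; group
          rw [this]; group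
        have h2 := hfpf _ h1
        exact (inv_mul_eq_one.1 h2)
      have hsurj := Finite.injective_iff_surjective.1 hinj
      intro a
      obtain ⟨h, hh⟩ := hsurj a
      simp only at hh
      rw [← hh, map_mul, map_inv, invol γ hγ]
      group
    refine ⟨fun a b => ?_, hinvert⟩
    exact comm_of_inverted γ ⊤ (fun a _ => hinvert a) a (Subgroup.mem_top a) b (Subgroup.mem_top b)
  · rintro ⟨hc, M, hM⟩
    obtain ⟨M', hM', hinv⟩ := exists_invariant γ hγ M hM
    have hfix : Nat.card (fixedSub γ) = 2 := hc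
    have hI := inverted_of_invariant γ hγ hfix M' hM' hinv
    refine ⟨M', hM', ⟨⟨fun a b => Subtype.ext ?_⟩⟩, hinv, hI⟩
    exact comm_of_inverted γ M' hI a a.2 b b.2

end Cfsg.Agent.S3375
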