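-- Statement S3376: a group of order 162 with the given 3-local data is C_{S9}((123)(456)(789)).
import Cfsg.Statements.S3376
import Cfsg.Agent.Lib.Helper19.NilCover

set_option autoImplicit false
open Cfsg
open scoped Pointwise

namespace Cfsg.Agent.S3376

/-- A nontrivial normal subgroup of a finite `p`-group contains a nontrivial central element. -/
theorem exists_central_of_normal {p : ℕ} [Fact p.Prime] {S : Type*} [Group S] [Finite S]
    (hS : IsPGroup p S) (N : Subgroup S) [N.Normal] (hne : N ≠ ⊥) :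
    ∃ x ∈ N, x ≠ 1 ∧ ∀ s : S, s * x = x * s := by
  classical
  letI : MulAction S N := MulAction.compHom N (MulAut.conjNormal (H := N))
  have hsm : ∀ (s : S) (n : N), ((s • n : N) : S) = s * n * s⁻¹ := fun s n => rfl
  have hmod := hS.card_modEq_card_fixedPoints N
  have hpN : p ∣ Nat.card N := by
    obtain ⟨k, hk⟩ := (hS.to_subgroup N).exists_card_eq
    have hk0 : k ≠ 0 := by
      rintro rfl
      rw [pow_zero] at hk
      exact hne (Subgroup.card_eq_one.mp hk)
    rw [hk]; exact dvd_pow_self p hk0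
  have hpF : p ∣ Nat.card (MulAction.fixedPoints S N) :=
    (Nat.modEq_zero_iff_dvd).mp (hmod.symm.trans ((Nat.modEq_zero_iff_dvd).mpr hpN))
  by_contra hcon
  push Not at hcon
  have one_fixed : (1 : N) ∈ MulAction.fixedPoints S N := by
    intro s
    apply Subtype.ext
    rw [hsm]
    simp
  have hall : ∀ x : MulAction.fixedPoints S N, (x : N) = 1 := by
    intro x
    apply Subtype.ext
    by_contra hx1
    obtain ⟨s, hs⟩ := hcon ((x : N) : S) (x : N).2 hx1
    apply hs
    have h2 := congrArg Subtype.val (x.2 s)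
    rw [hsm] at h2
    calc s * ((x : N) : S) = s * ((x : N) : S) * s⁻¹ * s := by group
      _ = ((x : N) : S) * s := by rw [h2]
  have hcard : Nat.card (MulAction.fixedPoints S N) = 1 := by
    rw [Nat.card_eq_one_iff_unique]
    exact ⟨⟨fun a b => Subtype.ext ((hall a).trans (hall b).symm)⟩, ⟨⟨1, one_fixed⟩⟩⟩
  rw [hcard] at hpF
  exact (Fact.out : p.Prime).one_lt.ne' (Nat.dvd_one.mp hpF)

theorem zpowers_two {G : Type*} [Group G] {t : G} (ht : t * t = 1) {τ : G}
    (hτ : τ ∈ Subgroup.zpowers t) : τ = 1 ∨ τ = t := by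
  obtain ⟨n, rfl⟩ := Subgroup.mem_zpowers_iff.mp hτ
  have h2 : t ^ (2 : ℤ) = 1 := by rw [zpow_two]; exact ht
  obtain ⟨k, hk | hk⟩ := Int.even_or_odd' n
  · left; rw [hk, zpow_mul, h2, one_zpow]
  · right; rw [hk, zpow_add, zpow_mul, h2, one_zpow, one_mul, zpow_one]

theorem zpowers_three {G : Type*} [Group G] {y : G} (hy : y ^ 3 = 1) {τ : G}
    (hτ : τ ∈ Subgroup.zpowers y) : τ = 1 ∨ τ = y ∨ τ = y⁻¹ := by
  obtain ⟨n, rfl⟩ := Subgroup.mem_zpowers_iff.mp hτ
  have h3 : y ^ (3 : ℤ) = 1 := by
    have : y ^ ((3 : ℕ) : ℤ) = 1 := by rw [zpow_natCast]; exact hy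
    simpa using this
  have hn : n = 3 * (n / 3) + n % 3 := (Int.mul_ediv_add_emod n 3).symm
  have h0 := Int.emod_nonneg n (by norm_num : (3 : ℤ) ≠ 0)
  have h1 := Int.emod_lt_of_pos n (by norm_num : (0 : ℤ) < 3)
  have hyn : y ^ n = y ^ (n % 3) := by
    conv_lhs => rw [hn]
    rw [zpow_add, zpow_mul, h3, one_zpow, one_mul]
  have hyyy : y * y * y = 1 := by
    rw [← pow_two, ← pow_succ]; exact hy
  obtain h | h | h : n % 3 = 0 ∨ n % 3 = 1 ∨ n % 3 = 2 := by omega
  · left; rw [hyn, h, zpow_zero]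
  · right; left; rw [hyn, h, zpow_one]
  · right; right; rw [hyn, h, zpow_two]; exact eq_inv_of_mul_eq_one_left hyyy

theorem cycleType_eq (σ : Equiv.Perm (Fin 9)) (h3 : σ ^ 3 = 1) (hfix : ∀ x, σ x ≠ x) :
    σ.cycleType = Multiset.replicate 3 3 := by
  have hne : σ ≠ 1 := by
    intro h; exact hfix 0 (by rw [h]; rfl)
  have ho : orderOf σ = 3 := orderOf_eq_prime h3 hne
  obtain ⟨n, hn⟩ := Equiv.Perm.cycleType_prime_order (σ := σ) (by rw [ho]; exact Nat.prime_three)
  rw [ho] at hn
  have hs := σ.sum_cycleType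
  have hsupp : σ.support = Finset.univ :=
    Finset.eq_univ_iff_forall.mpr (fun x => Equiv.Perm.mem_support.mpr (hfix x))
  rw [hn, Multiset.sum_replicate, hsupp, Finset.card_univ, Fintype.card_fin, smul_eq_mul] at hs
  have : n = 2 := by omega
  rw [hn, this]

/-- Final step: from a core-free subgroup of order 18 and a central element of order 3. -/
theorem final_step {G : Type*} [Group G] [Finite G] (hG : Nat.card G = 162) (H : Subgroup G)
    (hHcard : Nat.card H = 18) (z : G) (hz3 : z ^ 3 = 1)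
    (hzc : ∀ g : G, g * z = z * g) (hcore : H.normalCore = ⊥) (hzH : z ∉ H)
    (σ : Equiv.Perm (Fin 9)) (hσ3 : σ ^ 3 = 1) (hσfix : ∀ x, σ x ≠ x) :
    Nonempty (G ≃* Subgroup.centralizer ({σ} : Set (Equiv.Perm (Fin 9)))) := by
  classical
  have hidx : Nat.card (G ⧸ H) = 9 := by
    have h1 := H.card_mul_index
    rw [hG, hHcard, Subgroup.index_eq_card] at h1
    omega
  let e : (G ⧸ H) ≃ Fin 9 := (Finite.equivFin (G ⧸ H)).trans (finCongr hidx)
  let f₀ : G →* Equiv.Perm (G ⧸ H) := MulAction.toPermHom G (G ⧸ H)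
  have hf₀ : Function.Injective f₀ := by
    rw [← MonoidHom.ker_eq_bot_iff]
    have hk : H.normalCore = f₀.ker := Subgroup.normalCore_eq_ker H
    rw [← hk]; exact hcore
  let f₁ : G →* Equiv.Perm (Fin 9) := (e.permCongrHom.toMonoidHom).comp f₀
  have hf₁ : Function.Injective f₁ := by
    intro a b hab
    apply hf₀
    exact e.permCongrHom.injective hab
  have hf₁app : ∀ g x, f₁ g x = e (g • e.symm x) := fun g x => rfl
  have hζ3 : (f₁ z) ^ 3 = 1 := by rw [← map_pow, hz3, map_one]
  have hζfix : ∀ x, f₁ z x ≠ x := by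
    intro x hx
    rw [hf₁app] at hx
    have h2 : z • e.symm x = e.symm x := by
      have := congrArg e.symm hx
      simpa using this
    obtain ⟨g, hg⟩ := QuotientGroup.mk_surjective (e.symm x)
    rw [← hg, MulAction.Quotient.smul_mk, QuotientGroup.eq] at h2
    simp only [smul_eq_mul] at h2
    have h3 : (z * g)⁻¹ * g = z⁻¹ := by
      rw [← hzc g]; group
    rw [h3] at h2
    exact hzH (H.inv_mem_iff.mp h2)
  have hct : (f₁ z).cycleType = σ.cycleType := by
    rw [cycleType_eq (f₁ z) hζ3 hζfix, cycleType_eq σ hσ3 hσfix]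
  obtain ⟨c, hc⟩ := isConj_iff.mp (Equiv.Perm.isConj_iff_cycleType_eq.mpr hct)
  let f : G →* Equiv.Perm (Fin 9) := (MulAut.conj c).toMonoidHom.comp f₁
  have hfapp : ∀ g, f g = c * f₁ g * c⁻¹ := fun g => rfl
  have hfinj : Function.Injective f := by
    intro a b hab
    apply hf₁
    exact (MulAut.conj c).injective hab
  have hfz : f z = σ := by rw [hfapp]; exact hc
  have hfmem : ∀ g, f g ∈ Subgroup.centralizer ({σ} : Set (Equiv.Perm (Fin 9))) := by
    intro g
    rw [Subgroup.mem_centralizer_iff]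
    intro y hy
    rw [Set.mem_singleton_iff] at hy
    rw [hy, ← hfz, ← map_mul, ← map_mul, hzc g]
  let F : G →* Subgroup.centralizer ({σ} : Set (Equiv.Perm (Fin 9))) := f.codRestrict _ hfmem
  have hFinj : Function.Injective F := by
    intro a b hab
    apply hfinj
    exact congrArg Subtype.val hab
  have hcardC : Nat.card (Subgroup.centralizer ({σ} : Set (Equiv.Perm (Fin 9)))) = 162 := by
    rw [Equiv.Perm.nat_card_centralizer, cycleType_eq σ hσ3 hσfix]
    decide
  have hbij : Function.Bijective F :=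
    (Nat.bijective_iff_injective_and_card F).mpr ⟨hFinj, by rw [hG, hcardC]⟩
  exact ⟨MulEquiv.ofBijective F hbij⟩

/-- Let G be a group of order 162 = 3⁴·2 with Sylow 3-subgroup S and Sylow 2-subgroup T, having an elementary abelian normal subgroup J of order 27, such that Z = Z(S) has order 3, Z centralizes T, and C_S(T) ≠ S. Then G is isomorphic to the centralizer in Sym(9) of a product of three disjoint 3-cycles. -/
theorem result {G : Type*} [Group G] [Finite G] (hG : Nat.card G = 162)
    (S : Sylow 3 G) (T : Sylow 2 G) (J : Subgroup G) [hJn : J.Normal] (hJcomm : IsMulCommutative J)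
    (hJexp : ∀ a ∈ J, a ^ 3 = 1) (hJcard : Nat.card J = 27)
    (Z : Subgroup G) (hZ : Z = (S : Subgroup G) ⊓ Subgroup.centralizer ((S : Subgroup G) : Set G)) (hZcard : Nat.card Z = 3)
    (hZT : Z ≤ Subgroup.centralizer ((T : Subgroup G) : Set G))
    (hST : (S : Subgroup G) ⊓ Subgroup.centralizer ((T : Subgroup G) : Set G) ≠ S) :
    Nonempty (G ≃* Subgroup.centralizer ({Equiv.swap (0 : Fin 9) 1 * Equiv.swap 1 2 * Equiv.swap 3 4 * Equiv.swap 4 5 * Equiv.swap 6 7 * Equiv.swap 7 8} : Set (Equiv.Perm (Fin 9)))) := by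
  classical
  -- commutativity inside J
  have hJc : ∀ a ∈ J, ∀ b ∈ J, a * b = b * a := fun a ha b hb =>
    congrArg Subtype.val (hJcomm.is_comm.comm (⟨a, ha⟩ : J) ⟨b, hb⟩)
  -- Step 1: orders of the Sylow subgroups
  have hS81 : Nat.card (S : Subgroup G) = 81 := by
    obtain ⟨k, hk⟩ := S.isPGroup'.exists_card_eq
    have hidx := (S : Subgroup G).card_mul_index
    have hnd := S.not_dvd_index
    rw [hG, hk] at hidx
    rw [hk]
    have hk5 : k < 5 := by
      by_contra hcon
      push Not at hcon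
      have h1 : 3 ^ 5 ≤ 3 ^ k := Nat.pow_le_pow_right (by norm_num) hcon
      have h2 : 3 ^ k ≤ 162 := Nat.le_of_dvd (by norm_num) ⟨_, hidx.symm⟩
      exact absurd (le_trans h1 h2) (by norm_num)
    interval_cases k <;>
      first
        | (exfalso; apply hnd; norm_num at hidx <;> omega)
        | (exfalso; norm_num at hidx <;> omega)
        | norm_num
  have hT2 : Nat.card (T : Subgroup G) = 2 := by
    obtain ⟨k, hk⟩ := T.isPGroup'.exists_card_eq
    have hidx := (T : Subgroup G).card_mul_index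
    have hnd := T.not_dvd_index
    rw [hG, hk] at hidx
    rw [hk]
    have hk8 : k < 8 := by
      by_contra hcon
      push Not at hcon
      have h1 : 2 ^ 8 ≤ 2 ^ k := Nat.pow_le_pow_right (by norm_num) hcon
      have h2 : 2 ^ k ≤ 162 := Nat.le_of_dvd (by norm_num) ⟨_, hidx.symm⟩
      exact absurd (le_trans h1 h2) (by norm_num)
    interval_cases k <;>
      first
        | (exfalso; apply hnd; norm_num at hidx <;> omega)
        | (exfalso; norm_num at hidx <;> omega)
        | norm_num
  -- Step 2: S and T generate G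
  have hgen : ∀ K : Subgroup G, (S : Subgroup G) ≤ K → (T : Subgroup G) ≤ K → K = ⊤ := by
    intro K h1 h2
    apply Subgroup.eq_top_of_card_eq
    rw [hG]
    have d1 : 81 ∣ Nat.card K := hS81 ▸ Subgroup.card_dvd_of_le h1
    have d2 : 2 ∣ Nat.card K := hT2 ▸ Subgroup.card_dvd_of_le h2
    have d3 : Nat.card K ∣ 162 := hG ▸ Subgroup.card_subgroup_dvd_card K
    have d4 : 81 * 2 ∣ Nat.card K :=
      Nat.Coprime.mul_dvd_of_dvd_of_dvd (by norm_num : Nat.Coprime 81 2) d1 d2
    exact Nat.dvd_antisymm d3 d4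
  -- Step 3: Z is central in G
  have hZc : ∀ z ∈ Z, ∀ g : G, g * z = z * g := by
    intro z hz g
    have hz' : z ∈ (S : Subgroup G) ⊓ Subgroup.centralizer ((S : Subgroup G) : Set G) := hZ ▸ hz
    have hz2 := (Subgroup.mem_inf.mp hz').2
    have h1 : (S : Subgroup G) ≤ Subgroup.centralizer ({z} : Set G) := by
      intro s hs
      rw [Subgroup.mem_centralizer_iff]
      intro y hy
      rw [Set.mem_singleton_iff] at hy
      rw [hy]
      exact ((Subgroup.mem_centralizer_iff.mp hz2) s hs).symm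
    have h2 : (T : Subgroup G) ≤ Subgroup.centralizer ({z} : Set G) := by
      intro s hs
      rw [Subgroup.mem_centralizer_iff]
      intro y hy
      rw [Set.mem_singleton_iff] at hy
      rw [hy]
      exact ((Subgroup.mem_centralizer_iff.mp (hZT hz)) s hs).symm
    have h3 := hgen _ h1 h2
    have hg : g ∈ Subgroup.centralizer ({z} : Set G) := h3 ▸ Subgroup.mem_top g
    exact ((Subgroup.mem_centralizer_iff.mp hg) z (Set.mem_singleton z)).symm
  -- Step 4: J ≤ S
  have hJS : J ≤ (S : Subgroup G) := by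
    have hJp : IsPGroup 3 J := IsPGroup.of_card (n := 3) (by rw [hJcard]; norm_num)
    obtain ⟨Q, hQ⟩ := hJp.exists_le_sylow
    obtain ⟨g, hg⟩ := MulAction.exists_smul_eq G Q S
    intro x hx
    rw [← hg, Cfsg.Agent.Lib.Helper19.NilCover.mem_smul_sylow_iff]
    exact ⟨g⁻¹ * x * g, hQ (by simpa using hJn.conj_mem x hx g⁻¹), by group⟩
  -- Step 5: Z ≤ J
  have hZS : Z ≤ (S : Subgroup G) := by rw [hZ]; exact inf_le_left
  have hZJ : Z ≤ J := by
    by_contra hcon
    have h1 : J ⊔ Z ≤ (S : Subgroup G) := sup_le hJS hZS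
    have h2 : Nat.card (J ⊔ Z : Subgroup G) ∣ 81 := hS81 ▸ Subgroup.card_dvd_of_le h1
    have h3 : 27 ∣ Nat.card (J ⊔ Z : Subgroup G) :=
      hJcard ▸ Subgroup.card_dvd_of_le (le_sup_left : J ≤ J ⊔ Z)
    have h4 : Nat.card (J ⊔ Z : Subgroup G) ≠ 27 := by
      intro h
      have : J = J ⊔ Z := Subgroup.eq_of_le_of_card_ge le_sup_left (by rw [h, hJcard])
      exact hcon (this ▸ le_sup_right)
    have h5 : Nat.card (J ⊔ Z : Subgroup G) = 81 := by
      obtain ⟨c, hc⟩ := h3
      have hc3 : c ∣ 3 := by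
        have : 27 * c ∣ 27 * 3 := by rw [← hc]; exact h2
        exact Nat.dvd_of_mul_dvd_mul_left (by norm_num) this
      rcases (Nat.dvd_prime Nat.prime_three).mp hc3 with h | h
      · exact absurd (by rw [hc, h]) h4
      · rw [hc, h]
    have h6 : J ⊔ Z = (S : Subgroup G) := Subgroup.eq_of_le_of_card_ge h1 (by rw [h5, hS81])
    have h7 : (S : Subgroup G) ≤ Subgroup.centralizer (J : Set G) := by
      rw [← h6]
      apply sup_le
      · intro a ha
        rw [Subgroup.mem_centralizer_iff]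
        intro b hb
        exact hJc b hb a ha
      · intro a ha
        rw [Subgroup.mem_centralizer_iff]
        intro b _
        exact hZc a ha b
    have h8 : (S : Subgroup G) ≤ Subgroup.centralizer ((S : Subgroup G) : Set G) := by
      conv_lhs => rw [← h6]
      apply sup_le
      · intro a ha
        rw [Subgroup.mem_centralizer_iff]
        intro b hb
        exact ((Subgroup.mem_centralizer_iff.mp (h7 hb)) a ha).symm
      · intro a ha
        rw [Subgroup.mem_centralizer_iff]
        intro b _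
        exact hZc a ha b
    have h9 : Z = (S : Subgroup G) := by rw [hZ]; exact inf_eq_left.mpr h8
    rw [h9, hS81] at hZcard
    norm_num at hZcard
  -- Step 6: the involution t
  obtain ⟨t, htT, ht1⟩ : ∃ t ∈ (T : Subgroup G), t ≠ 1 := by
    by_contra hcon
    push Not at hcon
    have : (T : Subgroup G) = ⊥ := (Subgroup.eq_bot_iff_forall _).mpr hcon
    rw [this, Subgroup.card_bot] at hT2
    norm_num at hT2
  have htt : t * t = 1 := by
    have h : (⟨t, htT⟩ : (T : Subgroup G)) ^ Nat.card (T : Subgroup G) = 1 := pow_card_eq_one'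
    rw [hT2] at h
    have h' := congrArg Subtype.val h
    simpa [pow_two] using h'
  have hot : orderOf t = 2 := orderOf_eq_prime (by rw [pow_two]; exact htt) ht1
  have hTz : Subgroup.zpowers t = (T : Subgroup G) :=
    Subgroup.eq_of_le_of_card_ge (Subgroup.zpowers_le.mpr htT) (by rw [hT2, Nat.card_zpowers, hot])
  have hns : ∃ s ∈ (S : Subgroup G), t * s ≠ s * t := by
    by_contra hcon
    push Not at hcon
    apply hST
    apply inf_eq_left.mpr
    intro s hs
    rw [Subgroup.mem_centralizer_iff]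
    intro τ hτ
    rw [← hTz] at hτ
    rcases zpowers_two htt (show τ ∈ Subgroup.zpowers t from hτ) with h | h
    · rw [h]; simp
    · rw [h]; exact hcon s hs
  -- Step 7: a t-invariant complement W to Z in J
  let φ : G →* G := (MulAut.conj t).toMonoidHom
  have hφ : ∀ x, φ x = t * x * t⁻¹ := fun x => rfl
  obtain ⟨W, -, hWmax⟩ := Finite.exists_le_maximal
    (p := fun W : Subgroup G => W ≤ J ∧ W ⊓ Z = ⊥ ∧ W.map φ ≤ W) (a := ⊥)
    ⟨bot_le, bot_inf_eq _, (Subgroup.map_bot φ).le⟩
  obtain ⟨hWJ, hWZ, hWφ⟩ := hWmax.prop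
  have hsupJ : J ≤ W ⊔ Z := by
    by_contra hcon
    obtain ⟨x, hxJ, hxn⟩ := SetLike.not_le_iff_exists.mp hcon
    obtain ⟨x', hx'⟩ : ∃ x', x' = t * x * t⁻¹ := ⟨_, rfl⟩
    have htx : t * x * t⁻¹ = x' := hx'.symm
    have hx'J : x' ∈ J := by rw [hx']; exact hJn.conj_mem x hxJ t
    have htx' : t * x' * t⁻¹ = x := by
      rw [hx']
      calc t * (t * x * t⁻¹) * t⁻¹ = (t * t) * x * (t * t)⁻¹ := by group
        _ = x := by rw [htt]; simp
    have hkey : ∃ y ∈ J, y ∉ W ⊔ Z ∧ t * y * t⁻¹ ∈ Subgroup.zpowers y := by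
      by_cases hp : x * x' ∈ W ⊔ Z
      · refine ⟨x * x'⁻¹, J.mul_mem hxJ (J.inv_mem hx'J), ?_, ?_⟩
        · intro hm
          apply hxn
          have h1 : x * x' * (x * x'⁻¹) = x * x := by
            have hc := hJc x hxJ x' hx'J
            calc x * x' * (x * x'⁻¹) = x * (x' * x) * x'⁻¹ := by group
              _ = x * (x * x') * x'⁻¹ := by rw [hc]
              _ = x * x := by group
          have h2 : x * x ∈ W ⊔ Z := h1 ▸ (W ⊔ Z).mul_mem hp hm
          have hx3 : x * x * x = 1 := by
            have h6 := hJexp x hxJ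
            rwa [pow_succ, pow_two] at h6
          have h3 : (x * x) * (x * x) = x := by
            calc (x * x) * (x * x) = (x * x * x) * x := by simp only [mul_assoc]
              _ = x := by rw [hx3, one_mul]
          have h4 : (x * x) * (x * x) ∈ W ⊔ Z := (W ⊔ Z).mul_mem h2 h2
          rwa [h3] at h4
        · have : t * (x * x'⁻¹) * t⁻¹ = (x * x'⁻¹)⁻¹ := by
            calc t * (x * x'⁻¹) * t⁻¹ = (t * x * t⁻¹) * (t * x' * t⁻¹)⁻¹ := by group
              _ = x' * x⁻¹ := by rw [htx, htx']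
              _ = (x * x'⁻¹)⁻¹ := by group
          rw [this]; exact (Subgroup.zpowers _).inv_mem (Subgroup.mem_zpowers _)
      · refine ⟨x * x', J.mul_mem hxJ hx'J, hp, ?_⟩
        have : t * (x * x') * t⁻¹ = x * x' := by
          calc t * (x * x') * t⁻¹ = (t * x * t⁻¹) * (t * x' * t⁻¹) := by group
            _ = x' * x := by rw [htx, htx']
            _ = x * x' := (hJc x hxJ x' hx'J).symm
        rw [this]; exact Subgroup.mem_zpowers _
    obtain ⟨y, hyJ, hyn, hyφ⟩ := hkey
    have hy3 : y ^ 3 = 1 := hJexp y hyJ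
    have hzyJ : Subgroup.zpowers y ≤ J := Subgroup.zpowers_le.mpr hyJ
    have hycW : y ∈ Subgroup.centralizer (W : Set G) := by
      rw [Subgroup.mem_centralizer_iff]
      intro h hh
      exact hJc h (hWJ hh) y hyJ
    have hnorm : Subgroup.zpowers y ≤ Subgroup.normalizer (W : Set G) :=
      Subgroup.zpowers_le.mpr (Subgroup.centralizer_le_normalizer _ hycW)
    have hcoe := Subgroup.coe_mul_of_left_le_normalizer_right (Subgroup.zpowers y) W hnorm
    have hP' : (fun W : Subgroup G => W ≤ J ∧ W ⊓ Z = ⊥ ∧ W.map φ ≤ W) (W ⊔ Subgroup.zpowers y) := by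
      refine ⟨sup_le hWJ hzyJ, ?_, ?_⟩
      · rw [eq_bot_iff]
        intro v hv
        obtain ⟨hvW', hvZ⟩ := Subgroup.mem_inf.mp hv
        have hv2 : v ∈ ((Subgroup.zpowers y ⊔ W : Subgroup G) : Set G) := by
          rw [sup_comm]; exact hvW'
        rw [hcoe] at hv2
        obtain ⟨τ, hτ, w, hw, hvw⟩ := Set.mem_mul.mp hv2
        rw [Subgroup.mem_bot]
        rcases zpowers_three hy3 (show τ ∈ Subgroup.zpowers y from hτ) with h | h | h
        · rw [h, one_mul] at hvw
          rw [← hvw] at hvZ ⊢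
          have : w ∈ W ⊓ Z := Subgroup.mem_inf.mpr ⟨hw, hvZ⟩
          rw [hWZ] at this
          exact Subgroup.mem_bot.mp this
        · exfalso
          apply hyn
          rw [h] at hvw
          have h5 : (y * w) * w⁻¹ ∈ W ⊔ Z :=
            (W ⊔ Z).mul_mem (Subgroup.mem_sup_right (hvw ▸ hvZ))
              ((W ⊔ Z).inv_mem (Subgroup.mem_sup_left hw))
          rwa [mul_inv_cancel_right] at h5
        · exfalso
          apply hyn
          rw [h] at hvw
          have h5 : (y⁻¹ * w) * w⁻¹ ∈ W ⊔ Z :=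
            (W ⊔ Z).mul_mem (Subgroup.mem_sup_right (hvw ▸ hvZ))
              ((W ⊔ Z).inv_mem (Subgroup.mem_sup_left hw))
          rw [mul_inv_cancel_right] at h5
          exact (W ⊔ Z).inv_mem_iff.mp h5
      · rw [Subgroup.map_sup]
        apply sup_le
        · exact hWφ.trans le_sup_left
        · rw [MonoidHom.map_zpowers]
          exact (Subgroup.zpowers_le.mpr (by rw [hφ]; exact hyφ)).trans le_sup_right
    have hle := hWmax.le_of_ge hP' le_sup_left
    exact hyn (Subgroup.mem_sup_left (hle (Subgroup.mem_sup_right (Subgroup.mem_zpowers y))))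
  -- Step 8: |W| = 9
  have hWcard : Nat.card W = 9 := by
    have hZnorm : Z ≤ Subgroup.normalizer (W : Set G) := by
      intro z hz
      apply Subgroup.centralizer_le_normalizer
      rw [Subgroup.mem_centralizer_iff]
      intro h _
      exact hZc z hz h
    have hcoe := Subgroup.coe_mul_of_left_le_normalizer_right Z W hZnorm
    have hJeq : Z ⊔ W = J := le_antisymm (sup_le hZJ hWJ) (by rw [sup_comm]; exact hsupJ)
    have h1 : Nat.card (Z ⊔ W : Subgroup G) ≤ Nat.card Z * Nat.card W := by
      have e1 : Nat.card (Z ⊔ W : Subgroup G) = Nat.card ((Z ⊔ W : Subgroup G) : Set G) := rfl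
      rw [e1, hcoe]; exact Set.natCard_mul_le
    rw [hJeq, hJcard, hZcard] at h1
    have h2 : Nat.card W ∣ 27 := hJcard ▸ Subgroup.card_dvd_of_le hWJ
    have h3 : Nat.card W ≠ 27 := by
      intro h
      have hWJe : W = J := Subgroup.eq_of_le_of_card_ge hWJ (by rw [h, hJcard])
      have hZb : Z = ⊥ := by
        rw [← hWZ, hWJe]; exact (inf_eq_right.mpr hZJ).symm
      rw [hZb, Subgroup.card_bot] at hZcard
      norm_num at hZcard
    obtain ⟨m, hm, hmm⟩ := (Nat.dvd_prime_pow Nat.prime_three).mp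
      (show Nat.card W ∣ 3 ^ 3 by norm_num; exact h2)
    rw [hmm] at h1 h3 ⊢
    interval_cases m <;>
      first
        | (exfalso; norm_num at h1; done)
        | (exfalso; norm_num at h3; done)
        | norm_num
  -- Step 9: H = ⟨t⟩ W
  have htW : ∀ w ∈ W, t * w * t⁻¹ ∈ W := by
    intro w hw
    have := hWφ (Subgroup.mem_map_of_mem φ hw)
    rwa [hφ] at this
  have htnorm : Subgroup.zpowers t ≤ Subgroup.normalizer (W : Set G) := by
    rw [Subgroup.zpowers_le, Subgroup.mem_normalizer_iff]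
    intro h
    constructor
    · intro hh; exact htW h hh
    · intro hh
      have h5 := htW _ hh
      have e : t * (t * h * t⁻¹) * t⁻¹ = h := by
        calc t * (t * h * t⁻¹) * t⁻¹ = (t * t) * h * (t * t)⁻¹ := by group
          _ = h := by rw [htt]; simp
      rwa [e] at h5
  have hHcoe := Subgroup.coe_mul_of_left_le_normalizer_right (Subgroup.zpowers t) W htnorm
  have hHmem : ∀ h ∈ Subgroup.zpowers t ⊔ W, ∃ τ ∈ Subgroup.zpowers t, ∃ w ∈ W, τ * w = h := by
    intro h hh
    have h5 : h ∈ ((Subgroup.zpowers t ⊔ W : Subgroup G) : Set G) := hh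
    rw [hHcoe] at h5
    exact Set.mem_mul.mp h5
  have hHcard : Nat.card (Subgroup.zpowers t ⊔ W : Subgroup G) = 18 := by
    have hle : Nat.card (Subgroup.zpowers t ⊔ W : Subgroup G) ≤ 18 := by
      have e1 : Nat.card (Subgroup.zpowers t ⊔ W : Subgroup G)
          = Nat.card ((Subgroup.zpowers t ⊔ W : Subgroup G) : Set G) := rfl
      rw [e1, hHcoe]
      calc Nat.card ((Subgroup.zpowers t : Set G) * (W : Set G))
          ≤ Nat.card (Subgroup.zpowers t) * Nat.card W := Set.natCard_mul_le
        _ = 18 := by rw [Nat.card_zpowers, hot, hWcard]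
    have d1 : 2 ∣ Nat.card (Subgroup.zpowers t ⊔ W : Subgroup G) := by
      have := Subgroup.card_dvd_of_le (le_sup_left : Subgroup.zpowers t ≤ Subgroup.zpowers t ⊔ W)
      rwa [Nat.card_zpowers, hot] at this
    have d2 : 9 ∣ Nat.card (Subgroup.zpowers t ⊔ W : Subgroup G) := by
      have := Subgroup.card_dvd_of_le (le_sup_right : W ≤ Subgroup.zpowers t ⊔ W)
      rwa [hWcard] at this
    have d3 : 2 * 9 ∣ Nat.card (Subgroup.zpowers t ⊔ W : Subgroup G) :=
      Nat.Coprime.mul_dvd_of_dvd_of_dvd (by norm_num : Nat.Coprime 2 9) d1 d2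
    have hpos : 0 < Nat.card (Subgroup.zpowers t ⊔ W : Subgroup G) := Nat.card_pos
    obtain ⟨c, hc⟩ := d3
    rw [hc] at hle hpos ⊢
    have : c = 1 := by omega
    rw [this]
  -- Step 10: H ∩ Z = 1
  have hHZ : ∀ x ∈ Subgroup.zpowers t ⊔ W, x ∈ Z → x = 1 := by
    intro x hx hxZ
    obtain ⟨τ, hτ, w, hw, hxw⟩ := hHmem x hx
    rcases zpowers_two htt hτ with h | h
    · rw [h, one_mul] at hxw
      rw [← hxw] at hxZ ⊢
      have : w ∈ W ⊓ Z := Subgroup.mem_inf.mpr ⟨hw, hxZ⟩
      rw [hWZ] at this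
      exact Subgroup.mem_bot.mp this
    · exfalso
      rw [h] at hxw
      have htJ : t ∈ J := by
        have h5 : (t * w) * w⁻¹ ∈ J := J.mul_mem (hZJ (hxw ▸ hxZ)) (J.inv_mem (hWJ hw))
        rwa [mul_inv_cancel_right] at h5
      have h3 := hJexp t htJ
      apply ht1
      rw [pow_succ, pow_two, htt, one_mul] at h3
      exact h3
  -- Step 11: H is core-free
  have hWS : W ≤ (S : Subgroup G) := hWJ.trans hJS
  have hcore : ∀ K : Subgroup G, K.Normal → K ≤ Subgroup.zpowers t ⊔ W → K = ⊥ := by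
    intro K hKn hKH
    haveI := hKn
    by_contra hKne
    by_cases hKS : ∃ x ∈ K, x ∈ (S : Subgroup G) ∧ x ≠ 1
    · obtain ⟨x, hxK, hxS, hx1⟩ := hKS
      have hne : K.subgroupOf (S : Subgroup G) ≠ ⊥ := by
        intro h
        have h5 : (⟨x, hxS⟩ : (S : Subgroup G)) ∈ K.subgroupOf (S : Subgroup G) :=
          Subgroup.mem_subgroupOf.mpr hxK
        rw [h, Subgroup.mem_bot] at h5
        exact hx1 (congrArg Subtype.val h5)
      obtain ⟨y, hyN, hy1, hyc⟩ :=
        exists_central_of_normal S.isPGroup' (K.subgroupOf (S : Subgroup G)) hne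
      have hyK : (y : G) ∈ K := Subgroup.mem_subgroupOf.mp hyN
      have hyZ : (y : G) ∈ Z := by
        rw [hZ]
        refine Subgroup.mem_inf.mpr ⟨y.2, ?_⟩
        rw [Subgroup.mem_centralizer_iff]
        intro s hs
        exact congrArg Subtype.val (hyc ⟨s, hs⟩)
      exact hy1 (Subtype.ext (hHZ _ (hKH hyK) hyZ))
    · push Not at hKS
      obtain ⟨k, hkK, hk1⟩ : ∃ k ∈ K, k ≠ 1 := by
        by_contra h
        push Not at h
        exact hKne ((Subgroup.eq_bot_iff_forall K).mpr h)
      have hform : ∀ x ∈ K, x ≠ 1 → ∃ w ∈ W, x = t * w := by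
        intro x hx hx1
        obtain ⟨τ, hτ, w, hw, hxw⟩ := hHmem x (hKH hx)
        rcases zpowers_two htt hτ with h | h
        · exfalso
          rw [h, one_mul] at hxw
          rw [← hxw] at hx hx1
          exact hx1 (hKS w hx (hWS hw))
        · exact ⟨w, hw, by rw [← hxw, h]⟩
      obtain ⟨w, hw, hkw⟩ := hform k hkK hk1
      have hcentral : ∀ g : G, g * k * g⁻¹ = k := by
        intro g
        have hgk : g * k * g⁻¹ ∈ K := hKn.conj_mem k hkK g
        have hgk1 : g * k * g⁻¹ ≠ 1 := by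
          intro h
          apply hk1
          calc k = g⁻¹ * (g * k * g⁻¹) * g := by group
            _ = 1 := by rw [h]; group
        obtain ⟨w', hw', hgkw⟩ := hform _ hgk hgk1
        have h1 : k⁻¹ * (g * k * g⁻¹) = w⁻¹ * w' := by
          rw [hgkw, hkw]; group
        have h2 : w⁻¹ * w' = 1 := by
          apply hKS
          · rw [← h1]; exact K.mul_mem (K.inv_mem hkK) hgk
          · exact hWS (W.mul_mem (W.inv_mem hw) hw')
        rw [h2] at h1
        exact (inv_mul_eq_one.mp h1).symm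
      have hw2 : t * w * t⁻¹ ∈ W := htW w hw
      have hkk : k * k = (t * w * t⁻¹) * w := by
        rw [hkw]
        calc t * w * (t * w) = (t * w * t⁻¹) * (t * t) * w := by group
          _ = (t * w * t⁻¹) * w := by rw [htt, mul_one]
      have hkk1 : k * k = 1 := by
        apply hKS
        · exact K.mul_mem hkK hkK
        · rw [hkk]; exact hWS (W.mul_mem hw2 hw)
      have hkw' : k * w = w * k := by
        have h5 := hcentral w
        calc k * w = (w * k * w⁻¹) * w := by rw [h5]
          _ = w * k := by group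
      have htw : t * w = w * t := by
        rw [hkw] at hkw'
        exact mul_right_cancel (hkw'.trans (mul_assoc _ _ _).symm)
      have hww : w * w = 1 := by
        have h5 : t * w * t⁻¹ = w := by rw [htw]; group
        rw [h5] at hkk
        rw [← hkk]; exact hkk1
      have hw1 : w = 1 := by
        have h3 := hJexp w (hWJ hw)
        rw [pow_succ, pow_two, hww, one_mul] at h3
        exact h3
      obtain ⟨s, hs, hts⟩ := hns
      apply hts
      have hkt : k = t := by rw [hkw, hw1, mul_one]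
      have h5 := hcentral s
      rw [hkt] at h5
      calc t * s = (s * t * s⁻¹) * s := by rw [h5]
        _ = s * t := by group
  -- Step 12: conclude
  obtain ⟨z, hzZ, hz1⟩ : ∃ z ∈ Z, z ≠ 1 := by
    by_contra hcon
    push Not at hcon
    have : Z = ⊥ := (Subgroup.eq_bot_iff_forall _).mpr hcon
    rw [this, Subgroup.card_bot] at hZcard
    norm_num at hZcard
  have hzH : z ∉ Subgroup.zpowers t ⊔ W := fun h => hz1 (hHZ z h hzZ)
  have hcoreH : (Subgroup.zpowers t ⊔ W).normalCore = ⊥ :=
    hcore _ (Subgroup.normalCore_normal _) (Subgroup.normalCore_le _)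
  exact final_step hG _ hHcard z (hJexp z (hZJ hzZ)) (hZc z hzZ) hcoreH hzH _
    (by decide +kernel) (by decide +kernel)

end Cfsg.Agent.S3376
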