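import Mathlib
import Cfsg.Statements.S3379

set_option autoImplicit false
open Cfsg

namespace Cfsg.Agent.S3379

/-- Iterated conjugation: if `x⁻¹ y x = y ^ r` then `x⁻ʲ y xʲ = y ^ (r ^ j)`. -/
theorem conj_pow_formula {G : Type*} [Group G] (x y : G) (r : ℕ) (h : x⁻¹ * y * x = y ^ r) (j : ℕ) :
    (x ^ j)⁻¹ * y * x ^ j = y ^ (r ^ j) := by
  induction j with
  | zero => simp
  | succ j ih =>
    have h1 : (x ^ (j + 1))⁻¹ * y * x ^ (j + 1) = x⁻¹ * ((x ^ j)⁻¹ * y * x ^ j) * x := by
      rw [pow_succ]; group
    rw [h1, ih]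
    have h2 : x⁻¹ * y ^ (r ^ j) * x = (x⁻¹ * y * x) ^ (r ^ j) := by
      have := conj_pow (a := x⁻¹) (b := y) (i := r ^ j)
      simpa using this.symm
    rw [h2, h, ← pow_mul, pow_succ']

/-- A finite group with all Sylow subgroups cyclic is metacyclic: G = ⟨x, y⟩ with o(x) = n, o(y) = m coprime, x⁻¹yx = y^r, (r − 1, m) = 1 and r^n ≡ 1 mod m. -/
theorem result {G : Type*} [Group G] [Finite G]
    (hZ : ∀ (p : ℕ) [Fact p.Prime] (P : Sylow p G), IsCyclic (P : Subgroup G)) :
    ∃ (x y : G) (n m r : ℕ), Subgroup.closure {x, y} = ⊤ ∧ orderOf x = n ∧ orderOf y = m ∧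
      x⁻¹ * y * x = y ^ r ∧ Nat.Coprime (r - 1) m ∧ Nat.Coprime n m ∧ 1 ≤ r ∧ r ^ n % m = 1 % m := by
  have hG : IsZGroup G := ⟨fun p hp P => by
    have : Fact p.Prime := ⟨hp⟩
    exact hZ p P⟩
  have hcop := IsZGroup.coprime_commutator_index G
  have hcycN : IsCyclic (commutator G) := IsZGroup.isCyclic_commutator G
  obtain ⟨H, hH⟩ := Subgroup.exists_right_complement'_of_coprime hcop
  have h1 : Abelianization G ≃* H := hH.symm.QuotientMulEquiv
  have hcycH : IsCyclic H := isCyclic_of_surjective _ h1.surjective
  obtain ⟨⟨y, hyN⟩, hy⟩ := hcycN.exists_generator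
  obtain ⟨⟨x, hxH⟩, hx⟩ := hcycH.exists_generator
  -- orders
  have hoy : orderOf y = Nat.card (commutator G) := by
    have := orderOf_eq_card_of_forall_mem_zpowers hy
    rwa [Subgroup.orderOf_mk] at this
  have hox : orderOf x = Nat.card H := by
    have := orderOf_eq_card_of_forall_mem_zpowers hx
    rwa [Subgroup.orderOf_mk] at this
  have hidx : (commutator G).index = Nat.card H := hH.symm.index_eq_card
  -- the commutator subgroup is `zpowers y`
  have hNeq : commutator G = Subgroup.zpowers y := by
    apply le_antisymm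
    · intro g hg
      obtain ⟨k, hk⟩ := Subgroup.mem_zpowers_iff.1 (hy ⟨g, hg⟩)
      have := congrArg Subtype.val hk
      simp only [SubgroupClass.coe_zpow] at this
      exact Subgroup.mem_zpowers_iff.2 ⟨k, this⟩
    · rw [Subgroup.zpowers_le]; exact hyN
  have hHeq : H = Subgroup.zpowers x := by
    apply le_antisymm
    · intro g hg
      obtain ⟨k, hk⟩ := Subgroup.mem_zpowers_iff.1 (hx ⟨g, hg⟩)
      have := congrArg Subtype.val hk
      simp only [SubgroupClass.coe_zpow] at this
      exact Subgroup.mem_zpowers_iff.2 ⟨k, this⟩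
    · rw [Subgroup.zpowers_le]; exact hxH
  have hNn : (commutator G).Normal := inferInstance
  -- conjugates of `y` are powers of `y`
  have hconj : ∀ g : G, ∃ s : ℕ, g * y * g⁻¹ = y ^ s := by
    intro g
    have : g * y * g⁻¹ ∈ Subgroup.zpowers y := by
      rw [← hNeq]; exact hNn.conj_mem y hyN g
    have hfin : IsOfFinOrder y := isOfFinOrder_of_finite y
    rw [← mem_powers_iff_mem_zpowers] at this
    obtain ⟨s, hs⟩ := Submonoid.mem_powers_iff _ _ |>.1 this
    exact ⟨s, hs.symm⟩
  have hmpos : 0 < orderOf y := orderOf_pos y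
  obtain ⟨k, hk⟩ := hconj x⁻¹
  rw [inv_inv] at hk
  set m := orderOf y with hm
  set n := orderOf x with hn
  set r := k + m with hr
  have hyr : x⁻¹ * y * x = y ^ r := by
    rw [hk, hr, pow_add, hm, pow_orderOf_eq_one, mul_one]
  have hr1 : 1 ≤ r := by omega
  -- closure
  have hclos : Subgroup.closure {x, y} = ⊤ := by
    rw [eq_top_iff, ← hH.sup_eq_top]
    apply sup_le
    · rw [hNeq, Subgroup.zpowers_le]
      exact Subgroup.subset_closure (by simp)
    · rw [hHeq, Subgroup.zpowers_le]
      exact Subgroup.subset_closure (by simp)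
  -- r ^ n ≡ 1
  have hrn : r ^ n % m = 1 % m := by
    have h2 := conj_pow_formula x y r hyr n
    rw [hn, pow_orderOf_eq_one] at h2
    simp only [inv_one, one_mul, mul_one] at h2
    have h3 : y ^ (r ^ orderOf x) = y ^ 1 := by rw [← h2, pow_one]
    have := pow_eq_pow_iff_modEq.1 h3
    exact this
  -- coprimality of r - 1 and m
  have hcop' : Nat.Coprime (r - 1) m := by
    set K := Subgroup.zpowers (y ^ (r - 1)) with hK
    have hKn : K.Normal := by
      constructor
      intro c hc g
      obtain ⟨j, rfl⟩ := Subgroup.mem_zpowers_iff.1 hc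
      obtain ⟨s, hs⟩ := hconj g
      have e1 : g * (y ^ (r - 1)) ^ j * g⁻¹ = (g * y * g⁻¹) ^ (((r - 1 : ℕ) : ℤ) * j) := by
        rw [conj_zpow, zpow_mul, zpow_natCast]
      have e2 : (y ^ s) ^ (((r - 1 : ℕ) : ℤ) * j) = (y ^ (r - 1)) ^ ((s : ℤ) * j) := by
        rw [← zpow_natCast y s, ← zpow_mul, ← zpow_natCast y (r - 1), ← zpow_mul]
        congr 1; ring
      rw [e1, hs, e2]
      exact Subgroup.zpow_mem _ (Subgroup.mem_zpowers _) _
    -- commutator ≤ K
    have hxy : (x : G ⧸ K) * (y : G ⧸ K) = (y : G ⧸ K) * (x : G ⧸ K) := by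
      have h3 : y⁻¹ * (x⁻¹ * y * x) ∈ K := by
        rw [hyr]
        have : y⁻¹ * y ^ r = y ^ (r - 1) := by
          have : r = (r - 1) + 1 := by omega
          rw [this, pow_succ']
          simp
        rw [this]
        exact Subgroup.mem_zpowers _
      have h4 : ((y⁻¹ * (x⁻¹ * y * x) : G) : G ⧸ K) = 1 := (QuotientGroup.eq_one_iff _).2 h3
      simp only [QuotientGroup.mk_mul, QuotientGroup.mk_inv] at h4
      have h5 : (x : G ⧸ K)⁻¹ * (y : G ⧸ K) * (x : G ⧸ K) = (y : G ⧸ K) := by
        have := congrArg (fun t => (y : G ⧸ K) * t) h4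
        simpa [mul_assoc] using this
      have := congrArg (fun t => (x : G ⧸ K) * t) h5
      have h6 : (y : G ⧸ K) * (x : G ⧸ K) = (x : G ⧸ K) * (y : G ⧸ K) := by
        simpa [mul_assoc] using this
      exact h6.symm
    have hcomm : ∀ a b : G ⧸ K, a * b = b * a := by
      have hgen : Subgroup.closure {(x : G ⧸ K), (y : G ⧸ K)} = ⊤ := by
        have := congrArg (Subgroup.map (QuotientGroup.mk' K)) hclos
        rw [MonoidHom.map_closure, ← MonoidHom.range_eq_map,
          MonoidHom.range_eq_top.2 (QuotientGroup.mk'_surjective K)] at this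
        simpa [Set.image_pair] using this
      have hcen : ∀ a : G ⧸ K, a ∈ Subgroup.center (G ⧸ K) := by
        have : (⊤ : Subgroup (G ⧸ K)) ≤ Subgroup.center (G ⧸ K) := by
          rw [← hgen, Subgroup.closure_le]
          intro a ha
          rcases ha with rfl | rfl
          · rw [SetLike.mem_coe, Subgroup.mem_center_iff]
            intro g
            have : g ∈ Subgroup.centralizer {(x : G ⧸ K)} := by
              have h6 : (⊤ : Subgroup (G ⧸ K)) ≤ Subgroup.centralizer {(x : G ⧸ K)} := by
                rw [← hgen, Subgroup.closure_le]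
                intro b hb
                rcases hb with rfl | rfl
                · simp [Subgroup.mem_centralizer_iff]
                · simp only [SetLike.mem_coe, Subgroup.mem_centralizer_iff, Set.mem_singleton_iff,
                    forall_eq]
                  exact hxy
              exact h6 (Subgroup.mem_top g)
            rw [Subgroup.mem_centralizer_iff] at this
            exact (this _ rfl).symm
          · rw [SetLike.mem_coe, Subgroup.mem_center_iff]
            intro g
            have : g ∈ Subgroup.centralizer {(y : G ⧸ K)} := by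
              have h6 : (⊤ : Subgroup (G ⧸ K)) ≤ Subgroup.centralizer {(y : G ⧸ K)} := by
                rw [← hgen, Subgroup.closure_le]
                intro b hb
                rcases hb with rfl | rfl
                · simp only [SetLike.mem_coe, Subgroup.mem_centralizer_iff, Set.mem_singleton_iff,
                    forall_eq]
                  exact hxy.symm
                · simp [Subgroup.mem_centralizer_iff]
              exact h6 (Subgroup.mem_top g)
            rw [Subgroup.mem_centralizer_iff] at this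
            exact (this _ rfl).symm
        intro a
        exact this (Subgroup.mem_top a)
      intro a b
      exact ((Subgroup.mem_center_iff.1 (hcen a)) b).symm
    have hle : commutator G ≤ K := by
      let _ : CommGroup (G ⧸ K) := { (inferInstance : Group (G ⧸ K)) with mul_comm := hcomm }
      have := Abelianization.commutator_subset_ker (QuotientGroup.mk' K)
      rwa [QuotientGroup.ker_mk'] at this
    have hyK : y ∈ K := hle hyN
    -- orders
    by_cases h0 : r - 1 = 0
    · have hy1 : y = 1 := by
        rw [hK, h0, pow_zero, Subgroup.zpowers_one_eq_bot, Subgroup.mem_bot] at hyK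
        exact hyK
      have hm1 : m = 1 := by rw [hm, hy1, orderOf_one]
      rw [hm1]; exact Nat.coprime_one_right _
    have hzle : Subgroup.zpowers y ≤ K := by
      rw [Subgroup.zpowers_le]; exact hyK
    have hcardle : Nat.card (Subgroup.zpowers y) ≤ Nat.card K :=
      Nat.le_of_dvd Nat.card_pos (Subgroup.card_dvd_of_le hzle)
    rw [Nat.card_zpowers, hK, Nat.card_zpowers, orderOf_pow' y h0] at hcardle
    rw [← hm] at hcardle
    have hg : Nat.gcd m (r - 1) = 1 := by
      have hgpos : 0 < Nat.gcd m (r - 1) := Nat.gcd_pos_of_pos_left _ hmpos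
      have hdvd : Nat.gcd m (r - 1) ∣ m := Nat.gcd_dvd_left _ _
      obtain ⟨t, ht⟩ := hdvd
      have htpos : 0 < t := by
        rcases Nat.eq_zero_or_pos t with h0 | h0
        · rw [h0, mul_zero] at ht; omega
        · exact h0
      have hdiv : m / Nat.gcd m (r - 1) = t := Nat.div_eq_of_eq_mul_right hgpos ht
      rw [hdiv] at hcardle
      by_contra hne
      have h2 : 2 ≤ Nat.gcd m (r - 1) := by omega
      have : 2 * t ≤ Nat.gcd m (r - 1) * t := Nat.mul_le_mul_right t h2
      omega
    rw [Nat.coprime_comm]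
    exact hg
  refine ⟨x, y, n, m, r, hclos, rfl, rfl, hyr, hcop', ?_, hr1, hrn⟩
  show Nat.Coprime n m
  rw [hox, hoy, ← hidx]
  exact hcop.symm

end Cfsg.Agent.S3379
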