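import Mathlib
import Cfsg.Statements.S3381

set_option autoImplicit false
open Cfsg

namespace Cfsg.Agent.S3381

section setup

variable {q : ℕ} [Fact q.Prime] {V : Type*} [AddCommGroup V] [Module (ZMod q) V]
  {G : Type*} [Group G] (ρ : G →* (V ≃ₗ[ZMod q] V))

theorem rho_mul (g h : G) (v : V) : ρ (g * h) v = ρ g (ρ h v) := by
  rw [map_mul]; rfl

theorem rho_one (v : V) : ρ 1 v = v := by
  rw [map_one]; rfl

theorem rho_inv_of_fixed {g : G} {v : V} (h : ρ g v = v) : ρ g⁻¹ v = v := by
  have h1 : ρ g⁻¹ (ρ g v) = v := by rw [← rho_mul, inv_mul_cancel, rho_one]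
  rwa [h] at h1

/-- The stabilizer of a vector. -/
def stab (v : V) : Subgroup G where
  carrier := {g | ρ g v = v}
  mul_mem' := by
    intro a b ha hb
    simp only [Set.mem_ofPred_eq] at *
    rw [rho_mul, hb, ha]
  one_mem' := rho_one ρ v
  inv_mem' := by
    intro a ha
    simp only [Set.mem_ofPred_eq] at *
    exact rho_inv_of_fixed ρ ha

theorem mem_stab {g : G} {v : V} : g ∈ stab ρ v ↔ ρ g v = v := Iff.rfl

theorem rho_invol {t : G} (ht : orderOf t = 2) (v : V) : ρ t (ρ t v) = v := by
  rw [← rho_mul, ← pow_two, ← ht, pow_orderOf_eq_one, rho_one]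

theorem rho_central {z : G} (hz : z ∈ Subgroup.center G) (g : G) (v : V) :
    ρ z (ρ g v) = ρ g (ρ z v) := by
  rw [← rho_mul, ← rho_mul, (Subgroup.mem_center_iff.1 hz g)]

variable (hstab : ∀ v : V, v ≠ 0 → Nat.card {g : G // ρ g v = v} = 2)

include hstab

theorem card_stab {v : V} (hv : v ≠ 0) : Nat.card (stab ρ v) = 2 := hstab v hv

/-- Two non-identity elements fixing a common non-zero vector coincide. -/
theorem eq_of_fix {v : V} (hv : v ≠ 0) {s t : G} (hs : ρ s v = v) (ht : ρ t v = v)
    (hs1 : s ≠ 1) (ht1 : t ≠ 1) : s = t := by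
  have h2 := card_stab ρ hstab hv
  obtain ⟨y, -, hy⟩ := (Nat.card_eq_two_iff' (1 : stab ρ v)).1 h2
  have h3 := hy ⟨s, hs⟩ (fun h => hs1 (congrArg Subtype.val h))
  have h4 := hy ⟨t, ht⟩ (fun h => ht1 (congrArg Subtype.val h))
  exact congrArg Subtype.val (h3.trans h4.symm)

/-- There is a non-identity element fixing a given non-zero vector, and it has order 2. -/
theorem exists_fix {v : V} (hv : v ≠ 0) : ∃ t : G, ρ t v = v ∧ orderOf t = 2 := by
  have h2 := card_stab ρ hstab hv
  obtain ⟨y, hy1, -⟩ := (Nat.card_eq_two_iff' (1 : stab ρ v)).1 h2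
  refine ⟨y, y.2, ?_⟩
  have : Fact (Nat.Prime 2) := ⟨Nat.prime_two⟩
  have hpow : y ^ 2 = 1 := by
    have := pow_card_eq_one' (G := stab ρ v) (x := y)
    rwa [h2] at this
  have hpow' : (y : G) ^ 2 = 1 := by
    have := congrArg Subtype.val hpow
    simpa using this
  exact orderOf_eq_prime hpow' (fun h => hy1 (Subtype.ext h))

variable (hρ : Function.Injective ρ)

include hρ

/-- A central involution acts as `-1`. -/
theorem central_neg {z : G} (hz : orderOf z = 2) (hzc : z ∈ Subgroup.center G) (v : V) :
    ρ z v = -v := by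
  have hz1 : z ≠ 1 := by
    intro h; rw [h, orderOf_one] at hz; omega
  -- key: if `z` does not fix `w`, then `w + z w = 0`
  have key : ∀ w : V, ρ z w = w ∨ w + ρ z w = 0 := by
    intro w
    by_cases hw : ρ z w = w
    · left; exact hw
    · right
      by_contra hu
      have hw0 : w ≠ 0 := by
        rintro rfl
        exact hw (map_zero _)
      obtain ⟨t, htw, ht2⟩ := exists_fix ρ hstab hw0
      have ht1 : t ≠ 1 := by
        intro h; rw [h, orderOf_one] at ht2; omega
      have hzu : ρ z (w + ρ z w) = w + ρ z w := by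
        rw [map_add, rho_invol ρ hz, add_comm]
      have htu : ρ t (w + ρ z w) = w + ρ z w := by
        rw [map_add, ← rho_central ρ hzc, htw]
      have := eq_of_fix ρ hstab hu htu hzu ht1 hz1
      rw [this] at htw
      exact hw htw
  -- no non-zero fixed vectors
  have nofix : ∀ u : V, ρ z u = u → u = 0 := by
    intro u hu
    by_contra hu0
    have hall : ∀ w : V, ρ z w = w := by
      intro w
      rcases key w with h | h
      · exact h
      · have hzw : ρ z w = -w := (neg_eq_of_add_eq_zero_right h).symm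
        rcases key (u + w) with h' | h'
        · rw [map_add, hu, hzw] at h'
          have : -w = w := add_left_cancel h'
          rw [hzw, this]
        · rw [map_add, hu, hzw] at h'
          have huu : u + u = 0 := by
            have : u + w + (u + -w) = u + u := by abel
            rw [← this]; exact h'
          have h2 : (2 : ZMod q) • u = 0 := by rw [two_smul]; exact huu
          rcases smul_eq_zero.1 h2 with h3 | h3
          · have : w + w = 0 := by rw [← two_smul (ZMod q), h3, zero_smul]
            rw [hzw]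
            exact neg_eq_of_add_eq_zero_left this
          · exact absurd h3 hu0
    have : ρ z = ρ 1 := by
      ext w
      rw [hall w, rho_one]
    exact hz1 (hρ this)
  have hfix : ρ z (v + ρ z v) = v + ρ z v := by
    rw [map_add, rho_invol ρ hz, add_comm]
  have := nofix _ hfix
  exact (neg_eq_of_add_eq_zero_right this).symm

/-- There is no `2`-torsion. -/
theorem no_two_torsion {z : G} (hz : orderOf z = 2) (hzc : z ∈ Subgroup.center G) {v : V}
    (hv : v + v = 0) : v = 0 := by
  by_contra hv0
  have h1 : ρ z v = -v := central_neg ρ hstab hρ hz hzc v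
  have h2 : -v = v := neg_eq_of_add_eq_zero_left hv
  have hz1 : z ≠ 1 := by
    intro h; rw [h, orderOf_one] at hz; omega
  -- z fixes v; then every w is fixed... use the stabilizer: z ∈ stab v
  obtain ⟨t, htv, ht2⟩ := exists_fix ρ hstab hv0
  have ht1 : t ≠ 1 := by
    intro h; rw [h, orderOf_one] at ht2; omega
  have hzv : ρ z v = v := h1.trans h2
  -- z acts as -1 and fixes v; consider any w: z (v + w)...
  -- derive contradiction: all vectors w satisfy w + w = 0?  Use: ρ z = -1 and ρ z v = v
  -- implies (2 : ZMod q) = 0, hence ρ z w = -w = w for all w, so ρ z = ρ 1.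
  have h2' : (2 : ZMod q) • v = 0 := by rw [two_smul]; exact hv
  rcases smul_eq_zero.1 h2' with h3 | h3
  · have : ρ z = ρ 1 := by
      ext w
      rw [central_neg ρ hstab hρ hz hzc w, rho_one]
      have : w + w = 0 := by rw [← two_smul (ZMod q), h3, zero_smul]
      exact neg_eq_of_add_eq_zero_left this
    exact hz1 (hρ this)
  · exact hv0 h3

/-- The number of vectors fixed by `t`. -/
noncomputable def fixCard (t : G) : ℕ := Nat.card {v : V // ρ t v = v}

omit hstab hρ in
theorem fixCard_pos [Finite V] (t : G) : 0 < fixCard ρ t := by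
  have : Nonempty {v : V // ρ t v = v} := ⟨⟨0, map_zero _⟩⟩
  exact Nat.card_pos

theorem two_ne_zero' [Nontrivial V] {z : G} (hz : orderOf z = 2)
    (hzc : z ∈ Subgroup.center G) : (2 : ZMod q) ≠ 0 := by
  intro h
  obtain ⟨v, hv⟩ := exists_ne (0 : V)
  apply hv
  apply no_two_torsion ρ hstab hρ hz hzc
  rw [← two_smul (ZMod q), h, zero_smul]

theorem rho_mul_z {z : G} (hz : orderOf z = 2) (hzc : z ∈ Subgroup.center G) (t : G) (v : V) :
    ρ (t * z) v = -ρ t v := by
  rw [rho_mul, central_neg ρ hstab hρ hz hzc, map_neg]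

theorem fixCard_mul [Finite V] [Nontrivial V] {z : G} (hz : orderOf z = 2)
    (hzc : z ∈ Subgroup.center G) {t : G} (ht : orderOf t = 2) :
    fixCard ρ t * fixCard ρ (t * z) = Nat.card V := by
  unfold fixCard
  rw [← Nat.card_prod]
  have h2 := two_ne_zero' ρ hstab hρ hz hzc
  let e : {v : V // ρ t v = v} × {v : V // ρ (t * z) v = v} → V := fun p => p.1.1 + p.2.1
  have hinj : Function.Injective e := by
    rintro ⟨⟨a, ha⟩, ⟨b, hb⟩⟩ ⟨⟨a', ha'⟩, ⟨b', hb'⟩⟩ h
    simp only [e] at h
    rw [rho_mul_z ρ hstab hρ hz hzc] at hb hb'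
    have hx : a - a' = b' - b := by
      rw [sub_eq_sub_iff_add_eq_add, h, add_comm]
    have h1 : ρ t (a - a') = a - a' := by rw [map_sub, ha, ha']
    have h3 : ρ t (b' - b) = -(b' - b) := by
      rw [map_sub, neg_sub]
      have hb1 : ρ t b = -b := by rw [← hb, neg_neg]; exact hb.symm ▸ rfl
      have hb1' : ρ t b' = -b' := by rw [← hb', neg_neg]; exact hb'.symm ▸ rfl
      rw [hb1, hb1']; abel
    rw [← hx, h1] at h3
    have h4 : (a - a') + (a - a') = 0 := by
      nth_rewrite 1 [h3]
      exact neg_add_cancel _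
    have h5 := no_two_torsion ρ hstab hρ hz hzc h4
    have h6 : a = a' := sub_eq_zero.1 h5
    have h7 : b' = b := by
      have : b' - b = 0 := by rw [← hx, h5]
      exact sub_eq_zero.1 this
    subst h6
    subst h7
    rfl
  have hsurj : Function.Surjective e := by
    intro v
    refine ⟨⟨⟨(2 : ZMod q)⁻¹ • (v + ρ t v), ?_⟩, ⟨(2 : ZMod q)⁻¹ • (v - ρ t v), ?_⟩⟩, ?_⟩
    · rw [map_smul, map_add, rho_invol ρ ht, add_comm]
    · rw [rho_mul_z ρ hstab hρ hz hzc, map_smul, map_sub, rho_invol ρ ht, ← smul_neg, neg_sub]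
    · simp only [e]
      rw [← smul_add]
      have : v + ρ t v + (v - ρ t v) = (2 : ZMod q) • v := by rw [two_smul]; abel
      rw [this, smul_smul, inv_mul_cancel₀ h2, one_smul]
  exact Nat.card_congr (Equiv.ofBijective e ⟨hinj, hsurj⟩)

omit hρ in
theorem fixCard_mul_le [Finite V] {s t : G} (hs : s ≠ 1) (ht : t ≠ 1) (hst : s ≠ t) :
    fixCard ρ s * fixCard ρ t ≤ Nat.card V := by
  unfold fixCard
  rw [← Nat.card_prod]
  let e : {v : V // ρ s v = v} × {v : V // ρ t v = v} → V := fun p => p.1.1 + p.2.1
  have hinj : Function.Injective e := by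
    rintro ⟨⟨a, ha⟩, ⟨b, hb⟩⟩ ⟨⟨a', ha'⟩, ⟨b', hb'⟩⟩ h
    simp only [e] at h
    have hx : a - a' = b' - b := by
      rw [sub_eq_sub_iff_add_eq_add, h, add_comm]
    have h1 : ρ s (a - a') = a - a' := by rw [map_sub, ha, ha']
    have h3 : ρ t (a - a') = a - a' := by rw [hx, map_sub, hb, hb']
    have h5 : a - a' = 0 := by
      by_contra hne
      exact hst (eq_of_fix ρ hstab hne h1 h3 hs ht)
    have h6 : a = a' := sub_eq_zero.1 h5
    have h7 : b' = b := by
      have : b' - b = 0 := by rw [← hx, h5]
      exact sub_eq_zero.1 this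
    subst h6
    subst h7
    rfl
  exact Nat.card_le_card_of_injective e hinj

theorem two_le_fixCard [Finite V] {z : G} (hz : orderOf z = 2)
    (hzc : z ∈ Subgroup.center G) {t : G} (ht : orderOf t = 2) (htz : t ≠ z) :
    2 ≤ fixCard ρ t := by
  have hne : ρ t ≠ ρ z := fun h => htz (hρ h)
  obtain ⟨v, hv⟩ : ∃ v, ρ t v ≠ ρ z v := by
    by_contra hcon
    push Not at hcon
    exact hne (LinearEquiv.ext hcon)
  rw [central_neg ρ hstab hρ hz hzc] at hv
  have hu : v + ρ t v ≠ 0 := fun h => hv (neg_eq_of_add_eq_zero_right h).symm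
  have hfix : ρ t (v + ρ t v) = v + ρ t v := by rw [map_add, rho_invol ρ ht, add_comm]
  have : Nontrivial {v : V // ρ t v = v} :=
    ⟨⟨⟨0, map_zero _⟩, ⟨v + ρ t v, hfix⟩, fun h => hu (congrArg Subtype.val h).symm⟩⟩
  exact Finite.one_lt_card

/-- An involution is non-central iff it differs from `z`. -/
theorem not_central_iff {z : G} (hz : orderOf z = 2) (hzc : z ∈ Subgroup.center G) {t : G}
    (ht : orderOf t = 2) : t ∉ Subgroup.center G ↔ t ≠ z := by
  constructor
  · rintro h rfl
    exact h hzc
  · intro h htc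
    apply h
    apply hρ
    ext v
    rw [central_neg ρ hstab hρ ht htc, central_neg ρ hstab hρ hz hzc]

end setup

theorem arith_aux {x y N : ℕ} (hx : 2 ≤ x) (hy : 2 ≤ y) (hN : x * y = N)
    (h : (x - 1) + (y - 1) = N - 1) : False := by
  obtain ⟨x', rfl⟩ := Nat.exists_eq_add_of_le hx
  obtain ⟨y', rfl⟩ := Nat.exists_eq_add_of_le hy
  have : (2 + x') * (2 + y') = 4 + 2 * x' + 2 * y' + x' * y' := by ring
  rw [this] at hN
  omega

theorem card_aux {c A N : ℕ} (hA : 2 ≤ A) (hAA : A * A = N) (h : c * (A - 1) = N - 1) :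
    c = A + 1 := by
  obtain ⟨A', rfl⟩ := Nat.exists_eq_add_of_le hA
  have h1 : (2 + A') * (2 + A') - 1 = (2 + A' + 1) * (2 + A' - 1) := by
    have h2 : (2 + A') * (2 + A') = (2 + A' + 1) * (1 + A') + 1 := by ring
    rw [h2]
    have h3 : 2 + A' - 1 = 1 + A' := by omega
    rw [h3]
    omega
  rw [← hAA, h1] at h
  have hpos : 0 < 2 + A' - 1 := by omega
  exact Nat.eq_of_mul_eq_mul_right hpos h

/-- Let G be a finite group acting faithfully and linearly on a non-trivial finite vector space V over the field with q elements (q prime) so that every non-zero vector has a stabilizer of order 2, and suppose G has a central involution. Then V has q^(2r) elements for some r and G contains exactly q^r + 1 non-central involutions. -/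
theorem result
    (q : ℕ) [Fact q.Prime] {V : Type*} [AddCommGroup V] [Module (ZMod q) V] [Finite V] [Nontrivial V]
    {G : Type*} [Group G] [Finite G] (ρ : G →* (V ≃ₗ[ZMod q] V)) (hρ : Function.Injective ρ)
    (hstab : ∀ v : V, v ≠ 0 → Nat.card {g : G // ρ g v = v} = 2)
    (z : G) (hz : orderOf z = 2) (hzc : z ∈ Subgroup.center G) :
    ∃ r : ℕ, Nat.card V = q ^ (2 * r) ∧
      Nat.card {g : G // orderOf g = 2 ∧ g ∉ Subgroup.center G} = q ^ r + 1 := by
  classical
  have instG : Fintype G := Fintype.ofFinite G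
  have instV : Fintype V := Fintype.ofFinite V
  set N := Nat.card V with hN
  set a : G → ℕ := fixCard ρ with ha
  set I : Finset G := Finset.univ.filter (fun t => orderOf t = 2 ∧ t ∉ Subgroup.center G) with hI
  have hcardI : Nat.card {g : G // orderOf g = 2 ∧ g ∉ Subgroup.center G} = I.card := by
    rw [Nat.card_eq_fintype_card, Fintype.card_subtype]
  have hz1 : z ≠ 1 := by
    intro h; rw [h, orderOf_one] at hz; omega
  have ne_one : ∀ t : G, orderOf t = 2 → t ≠ 1 := by
    intro t ht h; rw [h, orderOf_one] at ht; omega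
  have memI : ∀ t, t ∈ I ↔ orderOf t = 2 ∧ t ≠ z := by
    intro t
    rw [hI, Finset.mem_filter]
    constructor
    · rintro ⟨-, h1, h2⟩
      exact ⟨h1, (not_central_iff ρ hstab hρ hz hzc h1).1 h2⟩
    · rintro ⟨h1, h2⟩
      exact ⟨Finset.mem_univ _, h1, (not_central_iff ρ hstab hρ hz hzc h1).2 h2⟩
  have hzz : z * z = 1 := by rw [← pow_two, ← hz, pow_orderOf_eq_one]
  have F1 : ∀ t ∈ I, t * z ∈ I ∧ t * z ≠ t := by
    intro t ht
    obtain ⟨ht2, htz⟩ := (memI t).1 ht
    have htt : t * t = 1 := by rw [← pow_two, ← ht2, pow_orderOf_eq_one]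
    have hcomm : z * t = t * z := (Subgroup.mem_center_iff.1 hzc t).symm
    refine ⟨(memI _).2 ⟨?_, ?_⟩, ?_⟩
    · have : Fact (Nat.Prime 2) := ⟨Nat.prime_two⟩
      apply orderOf_eq_prime
      · rw [pow_two]
        calc t * z * (t * z) = t * (z * t) * z := by group
          _ = t * (t * z) * z := by rw [hcomm]
          _ = (t * t) * (z * z) := by group
          _ = 1 := by rw [htt, hzz, one_mul]
      · intro h
        apply htz
        calc t = t * (z * z) := by rw [hzz, mul_one]
          _ = (t * z) * z := by group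
          _ = z := by rw [h, one_mul]
    · intro h
      apply ne_one t ht2
      calc t = (t * z) * z := by rw [mul_assoc, hzz, mul_one]
        _ = z * z := by rw [h]
        _ = 1 := hzz
    · intro h
      apply hz1
      calc z = t⁻¹ * (t * z) := by group
        _ = t⁻¹ * t := by rw [h]
        _ = 1 := inv_mul_cancel t
  have F1' : ∀ t : G, t * z * z = t := by
    intro t; rw [mul_assoc, hzz, mul_one]
  have F2 : ∀ t ∈ I, a t * a (t * z) = N := by
    intro t ht
    exact fixCard_mul ρ hstab hρ hz hzc ((memI t).1 ht).1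
  have F3 : ∀ s ∈ I, ∀ t ∈ I, s ≠ t → a s * a t ≤ N := by
    intro s hs t ht hst
    exact fixCard_mul_le ρ hstab (ne_one s ((memI s).1 hs).1) (ne_one t ((memI t).1 ht).1) hst
  have F5 : ∀ t ∈ I, 2 ≤ a t := by
    intro t ht
    exact two_le_fixCard ρ hstab hρ hz hzc ((memI t).1 ht).1 ((memI t).1 ht).2
  -- the partition of the non-zero vectors
  let S : G → Finset V := fun t => Finset.univ.filter (fun v : V => v ≠ 0 ∧ ρ t v = v)
  have hS : ∀ t, (S t).card = a t - 1 := by
    intro t
    have h1 : a t = (Finset.univ.filter (fun v : V => ρ t v = v)).card := by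
      rw [ha]
      unfold fixCard
      rw [Nat.card_eq_fintype_card, Fintype.card_subtype]
    have h2 : S t = (Finset.univ.filter (fun v : V => ρ t v = v)).erase 0 := by
      ext v
      simp only [S, Finset.mem_filter, Finset.mem_univ, true_and, Finset.mem_erase]
    rw [h2, Finset.card_erase_of_mem, h1]
    simp
  have hcover : Finset.univ.filter (fun v : V => v ≠ 0) = I.biUnion S := by
    ext v
    simp only [Finset.mem_filter, Finset.mem_univ, true_and, Finset.mem_biUnion, S]
    constructor
    · intro hv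
      obtain ⟨t, htv, ht2⟩ := exists_fix ρ hstab hv
      refine ⟨t, (memI t).2 ⟨ht2, ?_⟩, hv, htv⟩
      rintro rfl
      rw [central_neg ρ hstab hρ hz hzc] at htv
      apply hv
      apply no_two_torsion ρ hstab hρ hz hzc
      nth_rewrite 1 [← htv]
      exact neg_add_cancel v
    · rintro ⟨t, -, hv, -⟩
      exact hv
  have hdisj : (I : Set G).PairwiseDisjoint S := by
    intro s hs t ht hst
    rw [Function.onFun, Finset.disjoint_left]
    intro v hvs hvt
    simp only [S, Finset.mem_filter, Finset.mem_univ, true_and] at hvs hvt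
    exact hst (eq_of_fix ρ hstab hvs.1 hvs.2 hvt.2
      (ne_one s ((memI s).1 hs).1) (ne_one t ((memI t).1 ht).1))
  have F4 : ∑ t ∈ I, (a t - 1) = N - 1 := by
    have h1 : (Finset.univ.filter (fun v : V => v ≠ 0)).card = N - 1 := by
      rw [Finset.filter_ne' Finset.univ (0 : V), Finset.card_erase_of_mem (Finset.mem_univ _),
        Finset.card_univ, hN, Nat.card_eq_fintype_card]
    rw [← h1, hcover, Finset.card_biUnion hdisj]
    exact Finset.sum_congr rfl (fun t _ => (hS t).symm)
  have F6 : I.Nonempty := by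
    obtain ⟨v, hv⟩ := exists_ne (0 : V)
    have : v ∈ I.biUnion S := by
      rw [← hcover]; simp [hv]
    obtain ⟨t, ht, -⟩ := Finset.mem_biUnion.1 this
    exact ⟨t, ht⟩
  have apos : ∀ t, 0 < a t := fun t => fixCard_pos ρ t
  -- every fixed space has `√N` elements
  have sq : ∀ t ∈ I, a t * a t = N := by
    intro t ht
    obtain ⟨htz, htzne⟩ := F1 t ht
    by_cases hex : ∃ s ∈ I, s ≠ t ∧ s ≠ t * z
    · obtain ⟨s, hs, hst, hstz⟩ := hex
      obtain ⟨hsz, hszne⟩ := F1 s hs
      have hszt : s * z ≠ t := by
        intro h; apply hstz; rw [← h, F1']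
      have hsztz : s * z ≠ t * z := by
        intro h; apply hst
        calc s = s * z * z := (F1' s).symm
          _ = t * z * z := by rw [h]
          _ = t := F1' t
      -- inequalities
      have i1 : a s ≤ a (t * z) := by
        have := F3 s hs t ht hst
        rw [← F2 t ht, mul_comm (a s)] at this
        exact Nat.le_of_mul_le_mul_left this (apos t)
      have i2 : a s ≤ a t := by
        have := F3 s hs (t * z) htz hstz
        rw [← F2 t ht] at this
        exact Nat.le_of_mul_le_mul_right this (apos (t * z))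
      have i3 : a t ≤ a s := by
        have := F3 t ht (s * z) hsz (Ne.symm hszt)
        rw [← F2 s hs] at this
        exact Nat.le_of_mul_le_mul_right this (apos (s * z))
      have i4 : a (t * z) ≤ a s := by
        have := F3 (t * z) htz (s * z) hsz (Ne.symm hsztz)
        rw [← F2 s hs] at this
        exact Nat.le_of_mul_le_mul_right this (apos (s * z))
      have e1 : a t = a s := le_antisymm i3 i2
      have e2 : a (t * z) = a s := le_antisymm i4 i1
      have := F2 t ht
      rw [e2, ← e1] at this
      exact this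
    · exfalso
      push Not at hex
      have hIeq : I = {t, t * z} := by
        ext s
        simp only [Finset.mem_insert, Finset.mem_singleton]
        constructor
        · intro hs
          by_cases h : s = t
          · left; exact h
          · right; exact hex s hs h
        · rintro (rfl | rfl)
          · exact ht
          · exact htz
      have hsum := F4
      rw [hIeq, Finset.sum_pair (Ne.symm htzne)] at hsum
      exact arith_aux (F5 t ht) (F5 _ htz) (F2 t ht) hsum
  obtain ⟨t₀, ht₀⟩ := F6
  set A := a t₀ with hA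
  have hAA : A * A = N := sq t₀ ht₀
  have hall : ∀ t ∈ I, a t = A := by
    intro t ht
    have := sq t ht
    rw [← hAA] at this
    exact Nat.mul_self_inj.1 this
  have hA2 : 2 ≤ A := F5 t₀ ht₀
  have hsum : I.card * (A - 1) = N - 1 := by
    rw [← F4, Finset.sum_congr rfl (fun t ht => by rw [hall t ht]), Finset.sum_const,
      smul_eq_mul]
  have hIcard : I.card = A + 1 := card_aux hA2 hAA hsum
  -- `N` is a power of `q`
  have hNq : N = q ^ Module.finrank (ZMod q) V := by
    rw [hN, Module.natCard_eq_pow_finrank (K := ZMod q), Nat.card_zmod]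
  have hAdvd : A ∣ q ^ Module.finrank (ZMod q) V := by
    rw [← hNq, ← hAA]; exact dvd_mul_right A A
  obtain ⟨r, -, hr⟩ := (Nat.dvd_prime_pow (Fact.out : q.Prime)).1 hAdvd
  refine ⟨r, ?_, ?_⟩
  · rw [← hAA, hr, two_mul, pow_add]
  · rw [hcardI, hIcard, hr]

end Cfsg.Agent.S3381
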