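import Cfsg.Statements.S3382
import Mathlib

set_option autoImplicit false
open Cfsg

namespace Cfsg.Agent.S3382

section Basic
variable {q : ℕ} [Fact q.Prime]

/-- the ambient group -/
abbrev GLV (q : ℕ) := (Fin 2 → ZMod q) ≃ₗ[ZMod q] (Fin 2 → ZMod q)

/-- diagonal type -/
def IsD (f : GLV q) (a s : ZMod q) : Prop := ∀ v, f v = ![a * v 0, s * a⁻¹ * v 1]

/-- anti-diagonal type -/
def IsW (f : GLV q) (a s : ZMod q) : Prop := ∀ v, f v = ![s * a⁻¹ * v 1, a * v 0]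

theorem isD_one : IsD (1 : GLV q) 1 1 := by
  intro v
  ext i
  fin_cases i <;> simp

theorem IsD.mul_D {f g : GLV q} {a s a' s' : ZMod q} (hf : IsD f a s) (hg : IsD g a' s') :
    IsD (f * g) (a * a') (s * s') := by
  intro v
  rw [LinearEquiv.mul_apply, hg v, hf]
  ext i
  fin_cases i
  · simp [mul_assoc]
  · simp; ring

theorem IsW.mul_D {f g : GLV q} {a s a' s' : ZMod q} (hf : IsW f a s) (hg : IsD g a' s') :
    IsW (f * g) (a * a') (s * s') := by
  intro v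
  rw [LinearEquiv.mul_apply, hg v, hf]
  ext i
  fin_cases i
  · simp; ring
  · simp [mul_assoc]

theorem IsD.mul_W {f g : GLV q} {a s a' s' : ZMod q} (hf : IsD f a s) (hg : IsW g a' s')
    (hs : s * s = 1) :
    IsW (f * g) (s * a⁻¹ * a') (s * s') := by
  have hs0 : s ≠ 0 := by rintro rfl; simp at hs
  have hsi : s⁻¹ = s := by
    rw [inv_eq_iff_eq_inv, eq_comm, inv_eq_of_mul_eq_one_left hs]
  intro v
  rw [LinearEquiv.mul_apply, hg v, hf]
  ext i
  fin_cases i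
  · simp [hsi]
    linear_combination (-(a * s' * a'⁻¹ * v 1)) * hs
  · simp; ring

theorem IsW.mul_W {f g : GLV q} {a s a' s' : ZMod q} (hf : IsW f a s) (hg : IsW g a' s')
    (hs : s * s = 1) :
    IsD (f * g) (s * a⁻¹ * a') (s * s') := by
  have hs0 : s ≠ 0 := by rintro rfl; simp at hs
  have hsi : s⁻¹ = s := by
    rw [inv_eq_iff_eq_inv, eq_comm, inv_eq_of_mul_eq_one_left hs]
  intro v
  rw [LinearEquiv.mul_apply, hg v, hf]
  ext i
  fin_cases i
  · simp; ring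
  · simp [hsi]
    linear_combination (-(a * s' * a'⁻¹ * v 1)) * hs

theorem IsD.inv {f : GLV q} {a s : ZMod q} (hf : IsD f a s) (hs : s * s = 1) (ha : a ≠ 0) :
    IsD f⁻¹ a⁻¹ s := by
  intro v
  have h1 : f (![a⁻¹ * v 0, s * a⁻¹⁻¹ * v 1]) = v := by
    rw [hf]
    ext i
    fin_cases i
    · simp [ha]
    · simp [ha]
      have haa : a * a⁻¹ = 1 := mul_inv_cancel₀ ha
      linear_combination (a * a⁻¹ * v 1) * hs + (v 1) * haa
  have h2 : f⁻¹ v = f.symm v := rfl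
  rw [h2, LinearEquiv.symm_apply_eq, h1]

theorem IsW.inv {f : GLV q} {a s : ZMod q} (hf : IsW f a s) (hs : s * s = 1) (ha : a ≠ 0) :
    IsW f⁻¹ (s * a) s := by
  have hs0 : s ≠ 0 := by rintro rfl; simp at hs
  have hsi : s⁻¹ = s := by
    rw [inv_eq_iff_eq_inv, eq_comm, inv_eq_of_mul_eq_one_left hs]
  intro v
  have h1 : f (![s * (s * a)⁻¹ * v 1, s * a * v 0]) = v := by
    rw [hf]
    ext i
    fin_cases i
    · simp [ha]
      have haa : a * a⁻¹ = 1 := mul_inv_cancel₀ ha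
      linear_combination (a * a⁻¹ * v 0) * hs + (v 0) * haa
    · simp
      rw [hsi]
      have haa : a * a⁻¹ = 1 := mul_inv_cancel₀ ha
      linear_combination (a * a⁻¹ * v 1) * hs + (v 1) * haa
  have h2 : f⁻¹ v = f.symm v := rfl
  rw [h2, LinearEquiv.symm_apply_eq, h1]

theorem IsD.coord_unique {f : GLV q} {a s a' s' : ZMod q} (hf : IsD f a s) (hf' : IsD f a' s')
    (ha : a ≠ 0) : a = a' ∧ s = s' := by
  have h0 := hf ![1, 0]
  rw [hf' ![1, 0]] at h0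
  have h1 := hf ![0, 1]
  rw [hf' ![0, 1]] at h1
  have e0 := congrFun h0 0
  have e1 := congrFun h1 1
  simp at e0 e1
  subst e0
  refine ⟨rfl, ?_⟩
  have hi : a'⁻¹ ≠ 0 := inv_ne_zero ha
  exact (mul_right_cancel₀ hi e1).symm

theorem IsW.coord_unique {f : GLV q} {a s a' s' : ZMod q} (hf : IsW f a s) (hf' : IsW f a' s')
    (ha : a ≠ 0) : a = a' ∧ s = s' := by
  have h0 := hf ![1, 0]
  rw [hf' ![1, 0]] at h0
  have h1 := hf ![0, 1]
  rw [hf' ![0, 1]] at h1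
  have e0 := congrFun h0 1
  have e1 := congrFun h1 0
  simp at e0 e1
  subst e0
  refine ⟨rfl, ?_⟩
  have hi : a'⁻¹ ≠ 0 := inv_ne_zero ha
  exact (mul_right_cancel₀ hi e1).symm

theorem not_D_and_W {f : GLV q} {a s a' s' : ZMod q} (hf : IsD f a s) (hf' : IsW f a' s')
    (ha : a ≠ 0) : False := by
  have h0 := hf ![1, 0]
  rw [hf' ![1, 0]] at h0
  have e0 := congrFun h0 0
  simp at e0
  exact ha e0.symm

theorem IsD.ext {f g : GLV q} {a s : ZMod q} (hf : IsD f a s) (hg : IsD g a s) : f = g := by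
  ext v : 1
  rw [hf, hg]

theorem IsW.ext {f g : GLV q} {a s : ZMod q} (hf : IsW f a s) (hg : IsW g a s) : f = g := by
  ext v : 1
  rw [hf, hg]

theorem IsD.pow {f : GLV q} {a s : ZMod q} (hf : IsD f a s) (n : ℕ) : IsD (f ^ n) (a ^ n) (s ^ n) := by
  induction n with
  | zero => simpa using isD_one
  | succ n ih =>
    rw [pow_succ, pow_succ, pow_succ]
    exact ih.mul_D hf

end Basic

section Step

/-- one step up a characteristic chain -/
theorem step {T : Type*} [Group T] (M N : T → Prop)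
    (hcharN : ∀ (θ : MulAut T) x, N x → N (θ x)) (hcharM : ∀ (θ : MulAut T) x, M x → M (θ x))
    (hsub : ∀ x y, N x → N y → N (x⁻¹ * y))
    (hgood : ∀ x y, M x → M y → ¬ N x → ¬ N y → N (x⁻¹ * y))
    (K : ℕ) (hK : ∀ x : T, x ^ K = 1)
    (θ : MulAut T) (hθ : ∀ x, N x → θ x = x) : ∀ x, M x → (θ ^ K) x = x := by
  intro x hx
  have hn : N (x⁻¹ * θ x) := by
    by_cases hNx : N x
    · exact hsub _ _ hNx (hcharN θ x hNx)
    · apply hgood _ _ hx (hcharM θ x hx) hNx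
      intro h
      apply hNx
      have := hcharN θ⁻¹ _ h
      rwa [MulAut.inv_apply_self] at this
  have hfix := hθ _ hn
  have hpow : ∀ k : ℕ, (θ ^ k) x = x * (x⁻¹ * θ x) ^ k := by
    intro k
    induction k with
    | zero => simp
    | succ k ih =>
      rw [pow_succ', MulAut.mul_apply, ih, map_mul, map_pow, hfix, pow_succ', ← mul_assoc,
        mul_inv_cancel_left]
  rw [hpow K, hK, mul_one]

end Step

section Field
variable {q m : ℕ} [Fact q.Prime]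

theorem pow_two_pow_eq_one (hq : q = 2 ^ m + 1) {a : ZMod q} (ha : a ≠ 0) : a ^ (2 ^ m) = 1 := by
  have := ZMod.pow_card_sub_one_eq_one ha
  have h : q - 1 = 2 ^ m := by rw [hq, Nat.add_sub_cancel]
  rwa [h] at this

theorem half_eq (hq : q = 2 ^ m + 1) (hm : 1 ≤ m) : q / 2 = 2 ^ (m - 1) := by
  obtain ⟨k, rfl⟩ : ∃ k, m = k + 1 := ⟨m - 1, by omega⟩
  rw [hq, Nat.add_sub_cancel, pow_succ]
  omega

theorem isSquare_iff (hq : q = 2 ^ m + 1) (hm : 1 ≤ m) {a : ZMod q} (ha : a ≠ 0) :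
    IsSquare a ↔ a ^ (2 ^ (m - 1)) = 1 := by
  rw [ZMod.euler_criterion q ha, half_eq hq hm]

theorem pow_half_cases (hq : q = 2 ^ m + 1) (hm : 1 ≤ m) {a : ZMod q} (ha : a ≠ 0) :
    a ^ (2 ^ (m - 1)) = 1 ∨ a ^ (2 ^ (m - 1)) = -1 := by
  have := ZMod.pow_div_two_eq_neg_one_or_one q ha
  rw [half_eq hq hm] at this
  exact this

theorem one_ne_neg_one (hq : q = 2 ^ m + 1) (hm : 1 ≤ m) : (1 : ZMod q) ≠ -1 := by
  haveI : Fact (2 < q) := ⟨by
    rw [hq]
    have : 2 ≤ 2 ^ m := by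
      calc 2 = 2 ^ 1 := rfl
        _ ≤ 2 ^ m := Nat.pow_le_pow_right (by norm_num) hm
    omega⟩
  exact (ZMod.neg_one_ne_one (n := q)).symm

theorem exists_pow_four_ne_one (hq : q = 2 ^ m + 1) (hm : 3 ≤ m) :
    ∃ c : ZMod q, c ≠ 0 ∧ c ^ 4 ≠ 1 := by
  obtain ⟨g, hg⟩ := IsCyclic.exists_generator (α := (ZMod q)ˣ)
  have hord : orderOf g = q - 1 := by
    rw [orderOf_eq_card_of_forall_mem_zpowers hg, Nat.card_eq_fintype_card, ZMod.card_units]
  refine ⟨g, g.ne_zero, ?_⟩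
  intro h
  have h1 : g ^ 4 = 1 := by
    apply Units.ext
    rw [Units.val_pow_eq_pow_val, h]; rfl
  have h2 := orderOf_dvd_of_pow_eq_one h1
  rw [hord, hq, Nat.add_sub_cancel] at h2
  have h3 : 8 ≤ 2 ^ m := by
    calc 8 = 2 ^ 3 := rfl
      _ ≤ 2 ^ m := Nat.pow_le_pow_right (by norm_num) hm
  have := Nat.le_of_dvd (by norm_num) h2
  omega

end Field

section InT
variable {q : ℕ} [Fact q.Prime] (T : Subgroup (GLV q))

/-- diagonal type elements of `T` -/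
def DT (x : T) : Prop := ∃ a s : ZMod q, a ≠ 0 ∧ (s = 1 ∨ s = -1) ∧ IsD x.1 a s

/-- anti-diagonal type elements of `T` -/
def WT (x : T) : Prop := ∃ a s : ZMod q, a ≠ 0 ∧ (s = 1 ∨ s = -1) ∧ IsW x.1 a s

theorem sq_one_of {s : ZMod q} (hs : s = 1 ∨ s = -1) : s * s = 1 := by
  rcases hs with rfl | rfl <;> ring

/-- explicit diagonal elements -/
noncomputable def dMk (a s : (ZMod q)ˣ) : GLV q :=
  LinearEquiv.piCongrRight (fun i : Fin 2 => LinearEquiv.smulOfUnit (![a, s * a⁻¹] i))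

theorem isD_dMk (a s : (ZMod q)ˣ) : IsD (dMk a s) (a : ZMod q) (s : ZMod q) := by
  intro v
  have h : ∀ i, (dMk a s) v i = (![a, s * a⁻¹] i) • v i := fun i => rfl
  ext i
  rw [h]
  fin_cases i
  · show (a : (ZMod q)ˣ) • v 0 = (a : ZMod q) * v 0
    rfl
  · show (s * a⁻¹ : (ZMod q)ˣ) • v 1 = (s : ZMod q) * (a : ZMod q)⁻¹ * v 1
    rw [Units.smul_def, Units.val_mul, Units.val_inv_eq_inv_val]
    rfl

variable {T}
variable (hT : ∀ f, f ∈ T ↔ ∃ a s : ZMod q, a ≠ 0 ∧ (s = 1 ∨ s = -1) ∧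
      ((∀ v, f v = ![a * v 0, s * a⁻¹ * v 1]) ∨ (∀ v, f v = ![s * a⁻¹ * v 1, a * v 0])))

include hT in
theorem DT_or_WT (x : T) : DT T x ∨ WT T x := by
  obtain ⟨a, s, ha, hs, h | h⟩ := (hT x.1).mp x.2
  · left; exact ⟨a, s, ha, hs, h⟩
  · right; exact ⟨a, s, ha, hs, h⟩

theorem not_DT_and_WT {x : T} (h1 : DT T x) (h2 : WT T x) : False := by
  obtain ⟨a, s, ha, -, h⟩ := h1
  obtain ⟨a', s', -, -, h'⟩ := h2
  exact not_D_and_W h h' ha

include hT in
theorem dMk_mem (a s : (ZMod q)ˣ) (hs : (s : ZMod q) = 1 ∨ (s : ZMod q) = -1) : dMk a s ∈ T := by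
  rw [hT]
  exact ⟨a, s, a.ne_zero, hs, Or.inl (isD_dMk a s)⟩

theorem DT.mul {x y : T} (hx : DT T x) (hy : DT T y) : DT T (x * y) := by
  obtain ⟨a, s, ha, hs, h⟩ := hx
  obtain ⟨a', s', ha', hs', h'⟩ := hy
  refine ⟨a * a', s * s', mul_ne_zero ha ha', ?_, h.mul_D h'⟩
  rcases hs with rfl | rfl <;> rcases hs' with rfl | rfl <;> simp

theorem DT.inv {x : T} (hx : DT T x) : DT T x⁻¹ := by
  obtain ⟨a, s, ha, hs, h⟩ := hx
  exact ⟨a⁻¹, s, inv_ne_zero ha, hs, h.inv (sq_one_of hs) ha⟩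

theorem DT.comm {x y : T} (hx : DT T x) (hy : DT T y) : x * y = y * x := by
  obtain ⟨a, s, ha, hs, h⟩ := hx
  obtain ⟨a', s', ha', hs', h'⟩ := hy
  apply Subtype.ext
  have h1 := h.mul_D h'
  have h2 := h'.mul_D h
  rw [mul_comm a' a, mul_comm s' s] at h2
  exact h1.ext h2

theorem DT.pow {x : T} (hx : DT T x) (n : ℕ) : DT T (x ^ n) := by
  induction n with
  | zero => rw [pow_zero]; exact ⟨1, 1, one_ne_zero, Or.inl rfl, isD_one⟩
  | succ n ih => rw [pow_succ]; exact ih.mul hx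

end InT

section Chain
variable {q m : ℕ} [Fact q.Prime] (hq : q = 2 ^ m + 1) (hm : 3 ≤ m) {T : Subgroup (GLV q)}
variable (hT : ∀ f, f ∈ T ↔ ∃ a s : ZMod q, a ≠ 0 ∧ (s = 1 ∨ s = -1) ∧
      ((∀ v, f v = ![a * v 0, s * a⁻¹ * v 1]) ∨ (∀ v, f v = ![s * a⁻¹ * v 1, a * v 0])))

/-- the subgroup `Ω_{m-1}(D)` -/
def P2 (m : ℕ) (T : Subgroup (GLV q)) (x : T) : Prop :=
  ∃ a s : ZMod q, a ≠ 0 ∧ (s = 1 ∨ s = -1) ∧ IsD x.1 a s ∧ a ^ (2 ^ (m - 1)) = 1

/-- the subgroup of `2^j`-th powers of `D` -/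
def Qj (T : Subgroup (GLV q)) (j : ℕ) (x : T) : Prop :=
  ∃ c : ZMod q, c ≠ 0 ∧ IsD x.1 (c ^ (2 ^ j)) 1

theorem sign_pow_even {s : ZMod q} (hs : s = 1 ∨ s = -1) {n : ℕ} (hn : Even n) : s ^ n = 1 := by
  rcases hs with rfl | rfl
  · exact one_pow n
  · exact hn.neg_one_pow

theorem even_two_pow {j : ℕ} (hj : 1 ≤ j) : Even (2 ^ j) := by
  obtain ⟨k, rfl⟩ : ∃ k, j = k + 1 := ⟨j - 1, by omega⟩
  rw [pow_succ]
  exact even_two.mul_left _

include hq hm hT in
theorem exponent_bound (x : T) : x ^ (2 ^ (m + 1)) = 1 := by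
  rcases DT_or_WT hT x with ⟨a, s, ha, hs, h⟩ | ⟨a, s, ha, hs, h⟩
  · have h1 := h.pow (2 ^ m)
    rw [pow_two_pow_eq_one hq ha, sign_pow_even hs (even_two_pow (by omega))] at h1
    have h2 : x ^ (2 ^ m) = 1 := Subtype.ext (h1.ext isD_one)
    rw [pow_succ, pow_mul, h2, one_pow]
  · have h1 := h.mul_W h (sq_one_of hs)
    have h2 := h1.mul_D h1
    have e1 : s * a⁻¹ * a = s := by rw [mul_assoc, inv_mul_cancel₀ ha, mul_one]
    rw [e1, sq_one_of hs, mul_one] at h2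
    have h3 : x ^ 4 = 1 := by
      apply Subtype.ext
      have : ((x ^ 4 : T) : GLV q) = x.1 * x.1 * (x.1 * x.1) := by
        simp [pow_succ, mul_assoc]
      rw [this]
      exact h2.ext isD_one
    have : 2 ^ (m + 1) = 4 * 2 ^ (m - 1) := by
      obtain ⟨k, rfl⟩ : ∃ k, m = k + 1 := ⟨m - 1, by omega⟩
      rw [Nat.add_sub_cancel, pow_succ, pow_succ]; ring
    rw [this, pow_mul, h3, one_pow]

include hq hm hT in
theorem DT_iff (x : T) : DT T x ↔ ∀ y : T, x * (y * y) = (y * y) * x := by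
  constructor
  · intro hx y
    apply DT.comm hx
    rcases DT_or_WT hT y with hy | ⟨a, s, ha, hs, h⟩
    · exact hy.mul hy
    · have h1 := h.mul_W h (sq_one_of hs)
      refine ⟨s * a⁻¹ * a, s * s, ?_, Or.inl (sq_one_of hs), h1⟩
      rw [mul_assoc, inv_mul_cancel₀ ha, mul_one]
      rcases hs with rfl | rfl <;> simp
  · intro hx
    rcases DT_or_WT hT x with h | ⟨a, s, ha, hs, h⟩
    · exact h
    · exfalso
      obtain ⟨c, hc, hc4⟩ := exists_pow_four_ne_one hq hm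
      let y : T := ⟨dMk (Units.mk0 c hc) 1, dMk_mem hT _ _ (Or.inl rfl)⟩
      have hy : IsD y.1 c 1 := by
        have := isD_dMk (Units.mk0 c hc) (1 : (ZMod q)ˣ)
        simpa using this
      have hyy : IsD (y * y).1 (c * c) (1 * 1) := hy.mul_D hy
      have h1 : IsW (x * (y * y)).1 (a * (c * c)) (s * (1 * 1)) := h.mul_D hyy
      have h2 : IsW ((y * y) * x).1 ((1 * 1) * (c * c)⁻¹ * a) ((1 * 1) * s) :=
        hyy.mul_W h (by ring)
      rw [hx y] at h1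
      have h3 := (h1.coord_unique h2 (mul_ne_zero ha (mul_ne_zero hc hc))).1
      apply hc4
      have hcc : c * c ≠ 0 := mul_ne_zero hc hc
      have h4 : (c * c) * (c * c) = 1 := by
        have h5 : a * ((c * c) * (c * c)) = a * 1 := by
          calc a * ((c * c) * (c * c)) = (a * (c * c)) * (c * c) := by ring
            _ = ((1 * 1) * (c * c)⁻¹ * a) * (c * c) := by rw [h3]
            _ = a * ((c * c)⁻¹ * (c * c)) := by ring
            _ = a * 1 := by rw [inv_mul_cancel₀ hcc]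
        exact mul_left_cancel₀ ha h5
      calc c ^ 4 = (c * c) * (c * c) := by ring
        _ = 1 := h4

include hm in
theorem P2_iff (x : T) : P2 m T x ↔ DT T x ∧ x ^ (2 ^ (m - 1)) = 1 := by
  constructor
  · rintro ⟨a, s, ha, hs, h, hk⟩
    refine ⟨⟨a, s, ha, hs, h⟩, ?_⟩
    have h1 := h.pow (2 ^ (m - 1))
    rw [hk, sign_pow_even hs (even_two_pow (by omega))] at h1
    exact Subtype.ext (h1.ext isD_one)
  · rintro ⟨⟨a, s, ha, hs, h⟩, hx⟩
    refine ⟨a, s, ha, hs, h, ?_⟩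
    have h1 := h.pow (2 ^ (m - 1))
    have h2 : ((x ^ (2 ^ (m - 1)) : T) : GLV q) = 1 := by rw [hx]; rfl
    rw [Subgroup.coe_pow] at h2
    rw [h2] at h1
    exact (h1.coord_unique isD_one (pow_ne_zero _ ha)).1

include hT in
theorem Qj_iff {j : ℕ} (hj : 1 ≤ j) (x : T) : Qj T j x ↔ ∃ y : T, DT T y ∧ x = y ^ (2 ^ j) := by
  constructor
  · rintro ⟨c, hc, h⟩
    let y : T := ⟨dMk (Units.mk0 c hc) 1, dMk_mem hT _ _ (Or.inl rfl)⟩
    have hy : IsD y.1 c 1 := by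
      have := isD_dMk (Units.mk0 c hc) (1 : (ZMod q)ˣ)
      simpa using this
    refine ⟨y, ⟨c, 1, hc, Or.inl rfl, hy⟩, ?_⟩
    apply Subtype.ext
    have h1 := hy.pow (2 ^ j)
    rw [one_pow] at h1
    rw [Subgroup.coe_pow]
    exact h.ext h1
  · rintro ⟨y, ⟨a, s, ha, hs, h⟩, rfl⟩
    refine ⟨a, ha, ?_⟩
    have h1 := h.pow (2 ^ j)
    rw [sign_pow_even hs (even_two_pow hj)] at h1
    rw [Subgroup.coe_pow]
    exact h1

include hq hm hT in
theorem char_DT (θ : MulAut T) (x : T) (hx : DT T x) : DT T (θ x) := by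
  rw [DT_iff hq hm hT] at hx ⊢
  intro y
  have h1 := hx (θ⁻¹ y)
  have h2 := congrArg θ h1
  simp only [map_mul, MulAut.apply_inv_self] at h2
  exact h2

include hq hm hT in
theorem char_P2 (θ : MulAut T) (x : T) (hx : P2 m T x) : P2 m T (θ x) := by
  rw [P2_iff hm] at hx ⊢
  refine ⟨char_DT hq hm hT θ x hx.1, ?_⟩
  rw [← map_pow, hx.2, map_one]

include hq hm hT in
theorem char_Qj {j : ℕ} (hj : 1 ≤ j) (θ : MulAut T) (x : T) (hx : Qj T j x) : Qj T j (θ x) := by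
  rw [Qj_iff hT hj] at hx ⊢
  obtain ⟨y, hy, rfl⟩ := hx
  exact ⟨θ y, char_DT hq hm hT θ y hy, map_pow θ y _⟩

theorem IsD.inv_mul {f g : GLV q} {a s a' s' : ZMod q} (hf : IsD f a s) (hg : IsD g a' s')
    (hs : s = 1 ∨ s = -1) (ha : a ≠ 0) : IsD (f⁻¹ * g) (a⁻¹ * a') (s * s') :=
  (hf.inv (sq_one_of hs) ha).mul_D hg

theorem sub_DT (x y : T) (hx : DT T x) (hy : DT T y) : DT T (x⁻¹ * y) := hx.inv.mul hy

include hT in
theorem good_top (x y : T) (hx : ¬ DT T x) (hy : ¬ DT T y) : DT T (x⁻¹ * y) := by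
  rcases DT_or_WT hT x with h | ⟨a, s, ha, hs, h⟩
  · exact (hx h).elim
  rcases DT_or_WT hT y with h' | ⟨a', s', ha', hs', h'⟩
  · exact (hy h').elim
  have h1 := h.inv (sq_one_of hs) ha
  have h2 := h1.mul_W h' (sq_one_of hs)
  have hs0 : s ≠ 0 := by rcases hs with rfl | rfl <;> simp
  refine ⟨_, _, ?_, ?_, h2⟩
  · exact mul_ne_zero (mul_ne_zero hs0 (inv_ne_zero (mul_ne_zero hs0 ha))) ha'
  · rcases hs with rfl | rfl <;> rcases hs' with rfl | rfl <;> simp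

theorem sub_P2 (x y : T) (hx : P2 m T x) (hy : P2 m T y) : P2 m T (x⁻¹ * y) := by
  obtain ⟨a, s, ha, hs, h, hk⟩ := hx
  obtain ⟨a', s', ha', hs', h', hk'⟩ := hy
  refine ⟨a⁻¹ * a', s * s', mul_ne_zero (inv_ne_zero ha) ha', ?_, h.inv_mul h' hs ha, ?_⟩
  · rcases hs with rfl | rfl <;> rcases hs' with rfl | rfl <;> simp
  · rw [mul_pow, inv_pow, hk, hk', inv_one, one_mul]

include hq hm in
theorem good_P1_P2 (x y : T) (hx : DT T x) (hy : DT T y) (hx2 : ¬ P2 m T x) (hy2 : ¬ P2 m T y) :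
    P2 m T (x⁻¹ * y) := by
  obtain ⟨a, s, ha, hs, h⟩ := hx
  obtain ⟨a', s', ha', hs', h'⟩ := hy
  have hk : a ^ (2 ^ (m - 1)) = -1 := by
    rcases pow_half_cases hq (by omega) ha with h1 | h1
    · exact (hx2 ⟨a, s, ha, hs, h, h1⟩).elim
    · exact h1
  have hk' : a' ^ (2 ^ (m - 1)) = -1 := by
    rcases pow_half_cases hq (by omega) ha' with h1 | h1
    · exact (hy2 ⟨a', s', ha', hs', h', h1⟩).elim
    · exact h1
  refine ⟨a⁻¹ * a', s * s', mul_ne_zero (inv_ne_zero ha) ha', ?_, h.inv_mul h' hs ha, ?_⟩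
  · rcases hs with rfl | rfl <;> rcases hs' with rfl | rfl <;> simp
  · rw [mul_pow, inv_pow, hk, hk']
    simp

theorem sub_Qj (j : ℕ) (x y : T) (hx : Qj T j x) (hy : Qj T j y) : Qj T j (x⁻¹ * y) := by
  obtain ⟨c, hc, h⟩ := hx
  obtain ⟨c', hc', h'⟩ := hy
  refine ⟨c⁻¹ * c', mul_ne_zero (inv_ne_zero hc) hc', ?_⟩
  have := h.inv_mul h' (Or.inl rfl) (pow_ne_zero _ hc)
  rwa [mul_one, ← inv_pow, ← mul_pow] at this

include hq hm in
theorem good_P2_Q1 (x y : T) (hx : P2 m T x) (hy : P2 m T y) (hx2 : ¬ Qj T 1 x) (hy2 : ¬ Qj T 1 y) :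
    Qj T 1 (x⁻¹ * y) := by
  obtain ⟨a, s, ha, hs, h, hk⟩ := hx
  obtain ⟨a', s', ha', hs', h', hk'⟩ := hy
  obtain ⟨c, rfl⟩ := (isSquare_iff hq (by omega) ha).mpr hk
  obtain ⟨c', rfl⟩ := (isSquare_iff hq (by omega) ha').mpr hk'
  have hc : c ≠ 0 := fun h0 => ha (by rw [h0, mul_zero])
  have hc' : c' ≠ 0 := fun h0 => ha' (by rw [h0, mul_zero])
  have hs1 : s = -1 := by
    rcases hs with rfl | rfl
    · exfalso
      apply hx2
      refine ⟨c, hc, ?_⟩
      rwa [pow_one, pow_two]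
    · rfl
  have hs1' : s' = -1 := by
    rcases hs' with rfl | rfl
    · exfalso
      apply hy2
      refine ⟨c', hc', ?_⟩
      rwa [pow_one, pow_two]
    · rfl
  subst hs1 hs1'
  refine ⟨c⁻¹ * c', mul_ne_zero (inv_ne_zero hc) hc', ?_⟩
  have := h.inv_mul h' hs ha
  have e1 : (c * c)⁻¹ * (c' * c') = (c⁻¹ * c') ^ (2 ^ 1) := by
    rw [pow_one, pow_two, mul_inv]; ring
  have e2 : (-1 : ZMod q) * -1 = 1 := by ring
  rwa [e1, e2] at this

include hq hm in
theorem good_Qj (j : ℕ) (x y : T) (hx : Qj T j x) (hy : Qj T j y)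
    (hx2 : ¬ Qj T (j + 1) x) (hy2 : ¬ Qj T (j + 1) y) : Qj T (j + 1) (x⁻¹ * y) := by
  obtain ⟨c, hc, h⟩ := hx
  obtain ⟨c', hc', h'⟩ := hy
  have hnsq : ∀ e : ZMod q, e ≠ 0 → (∃ z : T, IsD z.1 (e ^ (2 ^ j)) 1 ∧ ¬ Qj T (j + 1) z) →
      e ^ (2 ^ (m - 1)) = -1 := by
    rintro e he ⟨z, hz, hz2⟩
    rcases pow_half_cases hq (by omega) he with h1 | h1
    · exfalso
      obtain ⟨w, rfl⟩ := (isSquare_iff hq (by omega) he).mpr h1
      apply hz2
      have hw : w ≠ 0 := fun h0 => he (by rw [h0, mul_zero])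
      refine ⟨w, hw, ?_⟩
      have : (w * w) ^ (2 ^ j) = w ^ (2 ^ (j + 1)) := by
        rw [← pow_two, ← pow_mul, pow_succ, mul_comm]
      rwa [← this]
    · exact h1
  have hk := hnsq c hc ⟨x, h, hx2⟩
  have hk' := hnsq c' hc' ⟨y, h', hy2⟩
  have hu : (c⁻¹ * c') ^ (2 ^ (m - 1)) = 1 := by
    rw [mul_pow, inv_pow, hk, hk']
    simp
  have hu0 : c⁻¹ * c' ≠ 0 := mul_ne_zero (inv_ne_zero hc) hc'
  obtain ⟨w, hw⟩ := (isSquare_iff hq (by omega) hu0).mpr hu
  have hw0 : w ≠ 0 := fun h0 => hu0 (by rw [hw, h0, mul_zero])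
  refine ⟨w, hw0, ?_⟩
  have := h.inv_mul h' (Or.inl rfl) (pow_ne_zero _ hc)
  have e1 : (c ^ (2 ^ j))⁻¹ * c' ^ (2 ^ j) = w ^ (2 ^ (j + 1)) := by
    rw [← inv_pow, ← mul_pow, hw, ← pow_two, ← pow_mul, pow_succ, mul_comm]
  rwa [e1, mul_one] at this

include hq hm hT in
theorem main_large (ψ : MulAut T) : ψ ^ (2 ^ ((m + 1) * (m + 2))) = 1 := by
  have hK := exponent_bound hq hm hT
  have hA : ∀ i, i ≤ m - 1 → ∀ x, Qj T (m - i) x → (ψ ^ ((2 ^ (m + 1)) ^ i)) x = x := by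
    intro i
    induction i with
    | zero =>
      intro _ x hx
      obtain ⟨c, hc, h⟩ := hx
      rw [Nat.sub_zero, pow_two_pow_eq_one hq hc] at h
      have : x = 1 := Subtype.ext (h.ext isD_one)
      rw [this, map_one]
    | succ i ih =>
      intro hi x hx
      have ih' := ih (by omega)
      rw [pow_succ, pow_mul]
      have e : m - i = (m - (i + 1)) + 1 := by omega
      refine step (Qj T (m - (i + 1))) (Qj T (m - i)) ?_ ?_ ?_ ?_ (2 ^ (m + 1)) hK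
        (ψ ^ ((2 ^ (m + 1)) ^ i)) ih' x hx
      · exact fun θ x hx => char_Qj hq hm hT (by omega) θ x hx
      · exact fun θ x hx => char_Qj hq hm hT (by omega) θ x hx
      · exact sub_Qj _
      · rw [e]; exact good_Qj hq hm (m - (i + 1))
  have hQ1 : ∀ x, Qj T 1 x → (ψ ^ ((2 ^ (m + 1)) ^ (m - 1))) x = x := by
    have := hA (m - 1) le_rfl
    rwa [show m - (m - 1) = 1 by omega] at this
  have hP2 : ∀ x, P2 m T x → (ψ ^ ((2 ^ (m + 1)) ^ m)) x = x := by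
    have e : (2 ^ (m + 1)) ^ m = (2 ^ (m + 1)) ^ (m - 1) * 2 ^ (m + 1) := by
      rw [← pow_succ]; congr 1; omega
    rw [e, pow_mul]
    exact step (P2 m T) (Qj T 1) (fun θ x hx => char_Qj hq hm hT le_rfl θ x hx)
      (char_P2 hq hm hT) (sub_Qj 1) (good_P2_Q1 hq hm) _ hK _ hQ1
  have hP1 : ∀ x, DT T x → (ψ ^ ((2 ^ (m + 1)) ^ (m + 1))) x = x := by
    rw [pow_succ, pow_mul]
    exact step (DT T) (P2 m T) (char_P2 hq hm hT) (char_DT hq hm hT) sub_P2 (good_P1_P2 hq hm)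
      _ hK _ hP2
  have hall : ∀ x, (ψ ^ ((2 ^ (m + 1)) ^ (m + 2))) x = x := by
    rw [pow_succ, pow_mul]
    intro x
    exact step (fun _ => True) (DT T) (char_DT hq hm hT) (fun _ _ _ => trivial) sub_DT
      (fun x y _ _ hx hy => good_top hT x y hx hy) _ hK _ hP1 x trivial
  ext x : 1
  rw [pow_mul]
  exact hall x

end Chain

section Three
variable {T : Subgroup (GLV 3)}
variable (hT : ∀ f, f ∈ T ↔ ∃ a s : ZMod 3, a ≠ 0 ∧ (s = 1 ∨ s = -1) ∧
      ((∀ v, f v = ![a * v 0, s * a⁻¹ * v 1]) ∨ (∀ v, f v = ![s * a⁻¹ * v 1, a * v 0])))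

theorem three_cases (a : ZMod 3) (ha : a ≠ 0) : a = 1 ∨ a = -1 := by
  revert a; decide

/-- the coordinate swap -/
noncomputable def swapL : GLV 3 := LinearEquiv.funCongrLeft (ZMod 3) (ZMod 3) (Equiv.swap 0 1)

theorem swapL_apply (v : Fin 2 → ZMod 3) : swapL v = ![v 1, v 0] := by
  ext i
  fin_cases i
  · show v (Equiv.swap 0 1 0) = v 1
    rw [Equiv.swap_apply_left]
  · show v (Equiv.swap 0 1 1) = v 0
    rw [Equiv.swap_apply_right]

theorem isW_swapL_mul {f : GLV 3} {a s : ZMod 3} (hf : IsD f a s) : IsW (swapL * f) a s := by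
  intro v
  rw [LinearEquiv.mul_apply, swapL_apply, hf]
  ext i
  fin_cases i <;> simp

/-- the centre -/
def Z3 (T : Subgroup (GLV 3)) (x : T) : Prop := ∃ e : ZMod 3, (e = 1 ∨ e = -1) ∧ IsD x.1 e 1

/-- the cyclic subgroup of order four -/
def R3 (T : Subgroup (GLV 3)) (x : T) : Prop := Z3 T x ∨ ∃ a : ZMod 3, a ≠ 0 ∧ IsW x.1 a (-1)

theorem ne_zero_of_pm {e : ZMod 3} (he : e = 1 ∨ e = -1) : e ≠ 0 := by
  rcases he with rfl | rfl <;> decide

include hT in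
theorem Z3_iff (x : T) : Z3 T x ↔ ∃ y : T, x = y * y := by
  constructor
  · rintro ⟨e, he, h⟩
    rcases he with rfl | rfl
    · exact ⟨1, Subtype.ext (by rw [mul_one]; exact h.ext isD_one)⟩
    · -- x = w * w with w = swapL * d(1,-1)
      have hd : IsD (dMk (1 : (ZMod 3)ˣ) (-1)) (1 : ZMod 3) (-1) := by
        have := isD_dMk (1 : (ZMod 3)ˣ) (-1)
        simpa using this
      have hw : IsW (swapL * dMk (1 : (ZMod 3)ˣ) (-1)) (1 : ZMod 3) (-1) := isW_swapL_mul hd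
      have hmem : swapL * dMk (1 : (ZMod 3)ˣ) (-1) ∈ T := by
        rw [hT]
        exact ⟨1, -1, one_ne_zero, Or.inr rfl, Or.inr hw⟩
      refine ⟨⟨_, hmem⟩, Subtype.ext ?_⟩
      have h2 := hw.mul_W hw (by decide)
      have e1 : (-1 : ZMod 3) * 1⁻¹ * 1 = -1 := by simp
      have e2 : (-1 : ZMod 3) * -1 = 1 := by decide
      rw [e1, e2] at h2
      exact h.ext h2
  · rintro ⟨y, rfl⟩
    rcases DT_or_WT hT y with ⟨a, s, ha, hs, h⟩ | ⟨a, s, ha, hs, h⟩
    · refine ⟨1, Or.inl rfl, ?_⟩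
      have h1 := h.mul_D h
      have e1 : a * a = 1 := by rcases three_cases a ha with rfl | rfl <;> decide
      rw [e1, sq_one_of hs] at h1
      exact h1
    · refine ⟨s, hs, ?_⟩
      have h1 := h.mul_W h (sq_one_of hs)
      have e1 : s * a⁻¹ * a = s := by rw [mul_assoc, inv_mul_cancel₀ ha, mul_one]
      rw [e1, sq_one_of hs] at h1
      exact h1

include hT in
theorem R3_iff (x : T) : R3 T x ↔ Z3 T x ∨ x * x ≠ 1 := by
  constructor
  · rintro (h | ⟨a, ha, h⟩)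
    · exact Or.inl h
    · right
      intro hx
      have h1 := h.mul_W h (by decide)
      have e1 : (-1 : ZMod 3) * a⁻¹ * a = -1 := by rw [mul_assoc, inv_mul_cancel₀ ha, mul_one]
      have e2 : (-1 : ZMod 3) * -1 = 1 := by decide
      rw [e1, e2] at h1
      have h2 : ((x * x : T) : GLV 3) = 1 := by rw [hx]; rfl
      rw [Subgroup.coe_mul] at h2
      rw [h2] at h1
      have := (h1.coord_unique isD_one (by decide)).1
      revert this; decide
  · rintro (h | hx)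
    · exact Or.inl h
    · rcases DT_or_WT hT x with ⟨a, s, ha, hs, h⟩ | ⟨a, s, ha, hs, h⟩
      · exfalso
        apply hx
        have h1 := h.mul_D h
        have e1 : a * a = 1 := by rcases three_cases a ha with rfl | rfl <;> decide
        rw [e1, sq_one_of hs] at h1
        exact Subtype.ext (h1.ext isD_one)
      · right
        rcases hs with rfl | rfl
        · exfalso
          apply hx
          have h1 := h.mul_W h (by decide)
          have e1 : (1 : ZMod 3) * a⁻¹ * a = 1 := by rw [mul_assoc, inv_mul_cancel₀ ha, mul_one]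
          rw [e1, mul_one] at h1
          exact Subtype.ext (h1.ext isD_one)
        · exact ⟨a, ha, h⟩

theorem pm_of_ne_zero {a : ZMod 3} (ha : a ≠ 0) : a = 1 ∨ a = -1 := three_cases a ha

include hT in
theorem char_Z3 (θ : MulAut T) (x : T) (hx : Z3 T x) : Z3 T (θ x) := by
  rw [Z3_iff hT] at hx ⊢
  obtain ⟨y, rfl⟩ := hx
  exact ⟨θ y, map_mul θ y y⟩

include hT in
theorem char_R3 (θ : MulAut T) (x : T) (hx : R3 T x) : R3 T (θ x) := by
  rw [R3_iff hT] at hx ⊢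
  rcases hx with h | h
  · exact Or.inl (char_Z3 hT θ x h)
  · right
    intro h1
    apply h
    rw [← map_mul] at h1
    exact θ.injective (by rw [h1, map_one])

theorem sub_Z3 (x y : T) (hx : Z3 T x) (hy : Z3 T y) : Z3 T (x⁻¹ * y) := by
  obtain ⟨e, he, h⟩ := hx
  obtain ⟨e', he', h'⟩ := hy
  refine ⟨e⁻¹ * e', ?_, ?_⟩
  · exact pm_of_ne_zero (mul_ne_zero (inv_ne_zero (ne_zero_of_pm he)) (ne_zero_of_pm he'))
  · have := h.inv_mul h' (Or.inl rfl) (ne_zero_of_pm he)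
    rwa [mul_one] at this

theorem sub_R3 (x y : T) (hx : R3 T x) (hy : R3 T y) : R3 T (x⁻¹ * y) := by
  have e2 : (-1 : ZMod 3) * -1 = 1 := by decide
  have e3 : (1 : ZMod 3) * -1 = -1 := by ring
  have e4 : (-1 : ZMod 3) * 1 = -1 := by ring
  rcases hx with hx | ⟨a, ha, h⟩
  · rcases hy with hy | ⟨a', ha', h'⟩
    · exact Or.inl (sub_Z3 x y hx hy)
    · right
      obtain ⟨e, he, h⟩ := hx
      have he0 := ne_zero_of_pm he
      have h1 := h.inv (by ring) he0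
      have h2 := h1.mul_W h' (by ring)
      rw [e3] at h2
      exact ⟨_, by simp [he0, ha'], h2⟩
  · have h1 := h.inv (by ring) ha
    rcases hy with ⟨e', he', h'⟩ | ⟨a', ha', h'⟩
    · right
      have he0 := ne_zero_of_pm he'
      have h2 := h1.mul_D h'
      rw [e4] at h2
      exact ⟨_, by simp [he0, ha], h2⟩
    · left
      have h2 := h1.mul_W h' (by ring)
      rw [e2] at h2
      exact ⟨_, pm_of_ne_zero (by simp [ha, ha']), h2⟩

theorem good_R3_Z3 (x y : T) (hx : R3 T x) (hy : R3 T y) (hx2 : ¬ Z3 T x) (hy2 : ¬ Z3 T y) :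
    Z3 T (x⁻¹ * y) := by
  have e2 : (-1 : ZMod 3) * -1 = 1 := by decide
  rcases hx with hx | ⟨a, ha, h⟩
  · exact (hx2 hx).elim
  rcases hy with hy | ⟨a', ha', h'⟩
  · exact (hy2 hy).elim
  have h1 := h.inv (by ring) ha
  have h2 := h1.mul_W h' (by ring)
  rw [e2] at h2
  exact ⟨_, pm_of_ne_zero (by simp [ha, ha']), h2⟩

include hT in
theorem good_top_R3 (x y : T) (hx2 : ¬ R3 T x) (hy2 : ¬ R3 T y) : R3 T (x⁻¹ * y) := by
  -- elements outside `R3` are `d(a,-1)` or `w(a,1)`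
  have key : ∀ z : T, ¬ R3 T z →
      (∃ a : ZMod 3, a ≠ 0 ∧ IsD z.1 a (-1)) ∨ (∃ a : ZMod 3, a ≠ 0 ∧ IsW z.1 a 1) := by
    intro z hz
    rcases DT_or_WT hT z with ⟨a, s, ha, hs, h⟩ | ⟨a, s, ha, hs, h⟩
    · left
      rcases hs with rfl | rfl
      · exact (hz (Or.inl ⟨a, pm_of_ne_zero ha, h⟩)).elim
      · exact ⟨a, ha, h⟩
    · right
      rcases hs with rfl | rfl
      · exact ⟨a, ha, h⟩
      · exact (hz (Or.inr ⟨a, ha, h⟩)).elim
  have e2 : (-1 : ZMod 3) * -1 = 1 := by decide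
  have e3 : (1 : ZMod 3) * -1 = -1 := by ring
  have e4 : (-1 : ZMod 3) * 1 = -1 := by ring
  have e5 : (1 : ZMod 3) * 1 = 1 := by ring
  rcases key x hx2 with ⟨a, ha, h⟩ | ⟨a, ha, h⟩
  · have h1 := h.inv (by ring) ha
    rcases key y hy2 with ⟨a', ha', h'⟩ | ⟨a', ha', h'⟩
    · left
      have h2 := h1.mul_D h'
      rw [e2] at h2
      exact ⟨_, pm_of_ne_zero (by simp [ha, ha']), h2⟩
    · right
      have h2 := h1.mul_W h' (by ring)
      rw [e4] at h2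
      exact ⟨_, by simp [ha, ha'], h2⟩
  · have h1 := h.inv (by ring) ha
    rcases key y hy2 with ⟨a', ha', h'⟩ | ⟨a', ha', h'⟩
    · right
      have h2 := h1.mul_D h'
      rw [e3] at h2
      exact ⟨_, by simp [ha, ha'], h2⟩
    · left
      have h2 := h1.mul_W h' (by ring)
      rw [e5] at h2
      exact ⟨_, pm_of_ne_zero (by simp [ha, ha']), h2⟩

include hT in
theorem exponent_three (x : T) : x ^ 4 = 1 := by
  have h4 : ((x ^ 4 : T) : GLV 3) = x.1 * x.1 * (x.1 * x.1) := by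
    simp [pow_succ, mul_assoc]
  apply Subtype.ext
  rw [h4]
  rcases DT_or_WT hT x with ⟨a, s, ha, hs, h⟩ | ⟨a, s, ha, hs, h⟩
  · have h1 := h.mul_D h
    have e1 : a * a = 1 := by rcases three_cases a ha with rfl | rfl <;> decide
    rw [e1, sq_one_of hs] at h1
    have h2 := h1.mul_D h1
    rw [mul_one] at h2
    exact h2.ext isD_one
  · have h1 := h.mul_W h (sq_one_of hs)
    have h2 := h1.mul_D h1
    have e1 : s * a⁻¹ * a = s := by rw [mul_assoc, inv_mul_cancel₀ ha, mul_one]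
    rw [e1, sq_one_of hs, mul_one] at h2
    exact h2.ext isD_one

include hT in
theorem main_three (ψ : MulAut T) : ψ ^ (2 ^ 6) = 1 := by
  obtain ⟨K, hK4, hK⟩ : ∃ K : ℕ, K = 4 ∧ ∀ x : T, x ^ K = 1 := ⟨4, rfl, exponent_three hT⟩
  have h0 : ∀ x : T, x = 1 → ψ x = x := by
    rintro x rfl
    rw [map_one]
  have h1 : ∀ x, Z3 T x → (ψ ^ K) x = x := by
    refine step (Z3 T) (fun x => x = 1) ?_ (char_Z3 hT) ?_ ?_ K hK ψ h0
    · rintro θ x rfl
      exact map_one θ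
    · rintro x y rfl rfl
      simp
    · rintro x y ⟨e, he, h⟩ ⟨e', he', h'⟩ hx hy
      have hx1 : e = -1 := by
        rcases he with rfl | rfl
        · exact (hx (Subtype.ext (h.ext isD_one))).elim
        · rfl
      have hy1 : e' = -1 := by
        rcases he' with rfl | rfl
        · exact (hy (Subtype.ext (h'.ext isD_one))).elim
        · rfl
      subst hx1 hy1
      have : x = y := Subtype.ext (h.ext h')
      rw [this, inv_mul_cancel]
  have h2 : ∀ x, R3 T x → ((ψ ^ K) ^ K) x = x :=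
    step (R3 T) (Z3 T) (char_Z3 hT) (char_R3 hT) sub_Z3 good_R3_Z3 K hK _ h1
  have h3 : ∀ x : T, (((ψ ^ K) ^ K) ^ K) x = x := by
    intro x
    have hgood : ∀ x y : T, True → True → ¬ R3 T x → ¬ R3 T y → R3 T (x⁻¹ * y) :=
      fun x y _ _ hx hy => good_top_R3 hT x y hx hy
    exact step (fun _ => True) (R3 T) (char_R3 hT) (fun _ _ _ => trivial) sub_R3
      hgood K hK ((ψ ^ K) ^ K) h2 x trivial
  ext x : 1
  have := h3 x
  rw [← pow_mul, ← pow_mul, hK4] at this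
  exact this

end Three

section Two
variable {T : Subgroup (GLV 2)}
variable (hT : ∀ f, f ∈ T ↔ ∃ a s : ZMod 2, a ≠ 0 ∧ (s = 1 ∨ s = -1) ∧
      ((∀ v, f v = ![a * v 0, s * a⁻¹ * v 1]) ∨ (∀ v, f v = ![s * a⁻¹ * v 1, a * v 0])))

theorem two_cases (a : ZMod 2) (ha : a ≠ 0) : a = 1 := by
  revert a; decide

theorem two_sign (s : ZMod 2) (hs : s = 1 ∨ s = -1) : s = 1 := by
  revert s; decide

include hT in
theorem main_two (ψ : MulAut T) : ψ ^ (2 ^ 0) = 1 := by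
  have key : ∀ x : T, x ≠ 1 → IsW x.1 1 1 := by
    intro x hx
    rcases DT_or_WT hT x with ⟨a, s, ha, hs, h⟩ | ⟨a, s, ha, hs, h⟩
    · exfalso
      apply hx
      rw [two_cases a ha, two_sign s hs] at h
      exact Subtype.ext (h.ext isD_one)
    · rw [two_cases a ha, two_sign s hs] at h
      exact h
  rw [pow_zero, pow_one]
  ext x : 1
  by_cases hx : x = 1
  · rw [hx, map_one]; rfl
  · have h1 : ψ x ≠ 1 := by
      intro h
      apply hx
      exact ψ.injective (by rw [h, map_one])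
    exact Subtype.ext ((key _ h1).ext (key _ hx))

end Two

/-- Let q = 2^m + 1 be a prime other than 5. Then the automorphism group of the group of linear maps of F_q² of the forms (x, y) ↦ (a x, ± a⁻¹ y) and (x, y) ↦ (± a⁻¹ y, a x) with a ≠ 0 is itself a 2-group. -/
theorem result (q m : ℕ) [Fact q.Prime] (hq : q = 2 ^ m + 1) (hq5 : q ≠ 5)
    (T : Subgroup ((Fin 2 → ZMod q) ≃ₗ[ZMod q] (Fin 2 → ZMod q)))
    (hT : ∀ f, f ∈ T ↔ ∃ a s : ZMod q, a ≠ 0 ∧ (s = 1 ∨ s = -1) ∧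
      ((∀ v, f v = ![a * v 0, s * a⁻¹ * v 1]) ∨ (∀ v, f v = ![s * a⁻¹ * v 1, a * v 0]))) :
    IsPGroup 2 (MulAut T) := by
  intro ψ
  have hcases : m = 0 ∨ m = 1 ∨ m = 2 ∨ 3 ≤ m := by omega
  rcases hcases with rfl | rfl | rfl | hm
  · have hq2 : q = 2 := by rw [hq]; norm_num
    subst hq2
    exact ⟨0, main_two hT ψ⟩
  · have hq3 : q = 3 := by rw [hq]; norm_num
    subst hq3
    exact ⟨6, main_three hT ψ⟩
  · exfalso
    apply hq5
    rw [hq]; norm_num
  · exact ⟨(m + 1) * (m + 2), main_large hq hm hT ψ⟩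

end Cfsg.Agent.S3382
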