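-- Statement S3383
import Cfsg.Statements.S3383
-- import your own Cfsg.Agent.* helpers here

set_option autoImplicit false
open Cfsg
open scoped Pointwise

namespace Cfsg.Agent.S3383

theorem mem_conj_smul {L : Type*} [Group L] (H : Subgroup L) (g x : L) :
    x ∈ MulAut.conj g • H ↔ g⁻¹ * x * g ∈ H := by
  rw [Subgroup.mem_pointwise_smul_iff_inv_smul_mem, ← map_inv, MulAut.smul_def, MulAut.conj_apply, inv_inv]

/-- Let H be a Frobenius complement in a finite group L and K the Frobenius kernel (as a subgroup). Then K is characteristic in L, and every normal subgroup of L either contains K or is contained in K. -/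
theorem result {L : Type*} [Group L] [Finite L]
    (H : Subgroup L) (hH : Cfsg.IsFrobeniusComplement H)
    (K : Subgroup L) (hK : (K : Set L) = Cfsg.frobeniusKernel H) :
    K.Characteristic ∧ ∀ N : Subgroup L, N.Normal → K ≤ N ∨ N ≤ K := by
  classical
  obtain ⟨hH1, hH2, hTI⟩ := hH
  have hmemK : ∀ x : L, x ∈ K ↔ (x = 1 ∨ ∀ g : L, g⁻¹ * x * g ∉ H) := by
    intro x
    have : x ∈ K ↔ x ∈ (K : Set L) := Iff.rfl
    rw [this, hK]
    unfold Cfsg.frobeniusKernel
    simp only [Set.mem_ofPred_eq, mem_conj_smul]
  -- K is normal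
  have hKn : K.Normal := by
    constructor
    intro x hx c
    rw [hmemK] at hx ⊢
    rcases hx with hx | hx
    · left; rw [hx]; group
    · right
      intro g hg
      apply hx (c⁻¹ * g)
      have : (c⁻¹ * g)⁻¹ * x * (c⁻¹ * g) = g⁻¹ * (c * x * c⁻¹) * g := by group
      rw [this]; exact hg
  -- key lemma
  have key : ∀ N : Subgroup L, N.Normal → K ≤ N ∨ N ≤ K := by
    intro N hN
    by_cases hNK : N ≤ K
    · exact Or.inr hNK
    · left
      rw [SetLike.not_le_iff_exists] at hNK
      obtain ⟨n, hnN, hnK⟩ := hNK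
      rw [hmemK] at hnK
      push Not at hnK
      obtain ⟨hn1, g, hg⟩ := hnK
      set h := g⁻¹ * n * g with hh
      have hhN : h ∈ N := by
        have := hN.conj_mem n hnN g⁻¹
        rw [inv_inv] at this
        exact this
      have hh1 : h ≠ 1 := by
        intro h1
        apply hn1
        have : n = g * h * g⁻¹ := by rw [hh]; group
        rw [this, h1]; group
      -- the self map of K
      have hfK : ∀ k : K, (k : L)⁻¹ * (h⁻¹ * k * h) ∈ K := by
        intro k
        apply K.mul_mem (K.inv_mem k.2)
        have := hKn.conj_mem k k.2 h⁻¹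
        rw [inv_inv] at this
        exact this
      let f : K → K := fun k => ⟨(k : L)⁻¹ * (h⁻¹ * k * h), hfK k⟩
      have hfN : ∀ k : K, ((f k : K) : L) ∈ N := by
        intro k
        show (k : L)⁻¹ * (h⁻¹ * k * h) ∈ N
        have e : (k : L)⁻¹ * (h⁻¹ * k * h) = ((k : L)⁻¹ * h⁻¹ * ((k : L)⁻¹)⁻¹) * h := by group
        rw [e]
        exact N.mul_mem (hN.conj_mem _ (N.inv_mem hhN) _) hhN
      have hinj : Function.Injective f := by
        intro k₁ k₂ h12
        have h12' : (k₁ : L)⁻¹ * (h⁻¹ * k₁ * h) = (k₂ : L)⁻¹ * (h⁻¹ * k₂ * h) := congrArg Subtype.val h12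
        set c := (k₂ : L) * (k₁ : L)⁻¹ with hc
        have hcK : c ∈ K := K.mul_mem k₂.2 (K.inv_mem k₁.2)
        have hch : c⁻¹ * h * c = h := by
          have e1 : (k₁ : L)⁻¹ * h⁻¹ * k₁ = (k₂ : L)⁻¹ * h⁻¹ * k₂ := by
            have := congrArg (fun z => z * h⁻¹) h12'
            simpa [mul_assoc] using this
          have e2 : c⁻¹ * h⁻¹ * c = h⁻¹ := by
            calc c⁻¹ * h⁻¹ * c = k₁ * ((k₂ : L)⁻¹ * h⁻¹ * k₂) * (k₁ : L)⁻¹ := by rw [hc]; group
              _ = k₁ * ((k₁ : L)⁻¹ * h⁻¹ * k₁) * (k₁ : L)⁻¹ := by rw [e1]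
              _ = h⁻¹ := by group
          have e3 : (c⁻¹ * h⁻¹ * c)⁻¹ = c⁻¹ * h * c := by group
          rw [← e3, e2, inv_inv]
        have hc1 : c = 1 := by
          by_contra hc1
          rw [hmemK] at hcK
          rcases hcK with hcK | hcK
          · exact hc1 hcK
          · have hcH : c ∉ H := by
              have := hcK 1
              simpa using this
            have hbot := hTI c hcH
            have hmem : h ∈ H ⊓ MulAut.conj c • H := by
              refine Subgroup.mem_inf.mpr ⟨hg, ?_⟩
              rw [mem_conj_smul, hch]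
              exact hg
            rw [hbot, Subgroup.mem_bot] at hmem
            exact hh1 hmem
        apply Subtype.ext
        have : (k₂ : L) = c * k₁ := by rw [hc]; group
        rw [this, hc1, one_mul]
      have hsurj : Function.Surjective f := Finite.surjective_of_injective hinj
      intro k hk
      obtain ⟨k', hk'⟩ := hsurj ⟨k, hk⟩
      have := hfN k'
      rw [hk'] at this
      exact this
  refine ⟨?_, key⟩
  rw [Subgroup.characteristic_iff_map_eq]
  intro φ
  have hMn : (K.map φ.toMonoidHom).Normal := hKn.map _ φ.surjective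
  have hcard : Nat.card (K.map φ.toMonoidHom) = Nat.card K :=
    Subgroup.card_map_of_injective φ.injective
  rcases key _ hMn with h | h
  · exact (Subgroup.eq_of_le_of_card_ge h hcard.le).symm
  · exact Subgroup.eq_of_le_of_card_ge h hcard.ge

end Cfsg.Agent.S3383
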