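import Mathlib
import Cfsg.Statements.S3389
import Cfsg.Agent.Lib.Helper19.Derangement

set_option autoImplicit false
open Cfsg

namespace Cfsg.Agent.S3389

open MulAction Cfsg.Agent.Lib.Helper19

section

variable {G : Type*} [Group G] {Ω : Type*} [MulAction G Ω]

/-- A central element fixing one point of a transitive faithful action is trivial. -/
theorem central_eq_one [FaithfulSMul G Ω] [IsPretransitive G Ω] (z : G)
    (hz : z ∈ Subgroup.center G) (ω : Ω) (h : z • ω = ω) : z = 1 := by
  apply eq_of_smul_eq_smul (α := Ω)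
  intro ω'
  obtain ⟨g, rfl⟩ := exists_smul_eq G ω ω'
  rw [one_smul, ← mul_smul, ← (Subgroup.mem_center_iff.1 hz g), mul_smul, h]

/-- If `x` has at most two fixed points and fixes `α ≠ β`, then these are its only fixed points. -/
theorem fixed_eq_of_two [Finite Ω] (x : G) (hx : Nat.card (fixedBy Ω x) ≤ 2) (α β : Ω) (hαβ : α ≠ β)
    (hα : x • α = α) (hβ : x • β = β) (ω : Ω) (hω : x • ω = ω) : ω = α ∨ ω = β := by
  by_contra hcon
  push Not at hcon
  have hsub : ({α, β, ω} : Set Ω) ⊆ fixedBy Ω x := by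
    intro y hy
    rcases hy with rfl | rfl | rfl
    · exact hα
    · exact hβ
    · exact hω
  have h3 : ({α, β, ω} : Set Ω).ncard = 3 :=
    Set.ncard_eq_three.2 ⟨α, β, ω, hαβ, fun h => hcon.1 h.symm, fun h => hcon.2 h.symm, rfl⟩
  have hle := Set.ncard_le_ncard hsub (Set.toFinite _)
  rw [Nat.card_coe_set_eq] at hx
  omega

/-- An element of odd order permuting `{α, β}` fixes both. -/
theorem fixes_of_odd (y : G) (hy : Odd (orderOf y)) (α β : Ω) (hαβ : α ≠ β)
    (h1 : y • α = α ∨ y • α = β) (h2 : y • β = α ∨ y • β = β) : y • α = α ∧ y • β = β := by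
  rcases h1 with h1 | h1
  · refine ⟨h1, ?_⟩
    rcases h2 with h2 | h2
    · exfalso
      apply hαβ
      have : y • α = y • β := by rw [h1, h2]
      exact MulAction.injective y this
    · exact h2
  · exfalso
    have h2' : y • β = α := by
      rcases h2 with h2 | h2
      · exact h2
      · exfalso
        apply hαβ
        have : y • α = y • β := by rw [h1, h2]
        exact MulAction.injective y this
    obtain ⟨j, hj⟩ := hy
    have key : ∀ i : ℕ, y ^ (2 * i + 1) • α = β := by
      intro i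
      induction i with
      | zero => simpa using h1
      | succ i ih =>
        have : y ^ (2 * (i + 1) + 1) = y * y * y ^ (2 * i + 1) := by
          rw [show 2 * (i + 1) + 1 = 1 + 1 + (2 * i + 1) by ring, pow_add, pow_add, pow_one]
        rw [this, mul_smul, mul_smul, ih, h2', h1]
    have := key j
    rw [← hj, pow_orderOf_eq_one, one_smul] at this
    exact hαβ this

end

/-- Part 2: fixity two forces even order. -/
theorem even_of_two {G : Type*} [Group G] [Finite G] {Ω : Type*} [Fintype Ω] [MulAction G Ω]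
    [FaithfulSMul G Ω] (htr : IsPretransitive G Ω)
    (hfix : ∀ g : G, g ≠ 1 → Nat.card (fixedBy Ω g) ≤ 2)
    (hex : ∃ g : G, g ≠ 1 ∧ Nat.card (fixedBy Ω g) = 2) : 2 ∣ Nat.card G := by
  by_contra h2
  have hodd : ∀ y : G, Odd (orderOf y) := by
    intro y
    rw [← Nat.not_even_iff_odd, even_iff_two_dvd]
    intro h
    exact h2 (h.trans (orderOf_dvd_natCard y))
  obtain ⟨g, hg1, hg2⟩ := hex
  obtain ⟨⟨α, hα⟩, ⟨β, hβ⟩, hne, -⟩ := Nat.card_eq_two_iff.1 hg2
  have hαβ : α ≠ β := fun h => hne (Subtype.ext h)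
  have hα' : g • α = α := hα
  have hβ' : g • β = β := hβ
  -- an element of prime order
  have hog : orderOf g ≠ 1 := fun h => hg1 (orderOf_eq_one_iff.1 h)
  obtain ⟨p, hp, hpd⟩ := Nat.exists_prime_and_dvd hog
  haveI : Fact p.Prime := ⟨hp⟩
  set x₀ := g ^ (orderOf g / p) with hx₀
  have hox₀ : orderOf x₀ = p := orderOf_pow_orderOf_div (orderOf_pos g).ne' hpd
  have hx₀1 : x₀ ≠ 1 := by
    intro h
    rw [h, orderOf_one] at hox₀
    exact hp.one_lt.ne hox₀
  have hx₀α : x₀ • α = α := by
    have : x₀ ∈ stabilizer G α := Subgroup.pow_mem _ hα' _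
    exact this
  have hx₀β : x₀ • β = β := by
    have : x₀ ∈ stabilizer G β := Subgroup.pow_mem _ hβ' _
    exact this
  have hpg : IsPGroup p (Subgroup.zpowers x₀) := by
    apply IsPGroup.of_card (n := 1)
    rw [Nat.card_zpowers, hox₀, pow_one]
  obtain ⟨P, hP⟩ := hpg.exists_le_sylow
  have hx₀P : x₀ ∈ (P : Subgroup G) := hP (Subgroup.mem_zpowers x₀)
  -- a central element
  haveI : Nontrivial (P : Subgroup G) := ⟨⟨⟨x₀, hx₀P⟩, 1, fun h => hx₀1 (congrArg Subtype.val h)⟩⟩
  haveI := P.2.center_nontrivial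
  obtain ⟨⟨z', hz'⟩, hz'1⟩ := exists_ne (1 : Subgroup.center (P : Subgroup G))
  have hz1 : (z' : G) ≠ 1 := by
    intro h
    apply hz'1
    apply Subtype.ext
    apply Subtype.ext
    exact h
  have hzc : ∀ y ∈ (P : Subgroup G), y * (z' : G) = (z' : G) * y := by
    intro y hy
    have := (Subgroup.mem_center_iff.1 hz') ⟨y, hy⟩
    exact congrArg Subtype.val this
  -- `z` fixes `α, β`
  have hzfix : (z' : G) • α = α ∧ (z' : G) • β = β := by
    apply fixes_of_odd _ (hodd _) α β hαβ
    · apply fixed_eq_of_two x₀ (hfix x₀ hx₀1) α β hαβ hx₀α hx₀β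
      rw [← mul_smul, hzc x₀ hx₀P, mul_smul, hx₀α]
    · apply fixed_eq_of_two x₀ (hfix x₀ hx₀1) α β hαβ hx₀α hx₀β
      rw [← mul_smul, hzc x₀ hx₀P, mul_smul, hx₀β]
  -- every element of `P` fixes `α, β`
  have hPfix : ∀ y ∈ (P : Subgroup G), y • α = α ∧ y • β = β := by
    intro y hy
    apply fixes_of_odd _ (hodd _) α β hαβ
    · apply fixed_eq_of_two (z' : G) (hfix _ hz1) α β hαβ hzfix.1 hzfix.2
      rw [← mul_smul, ← hzc y hy, mul_smul, hzfix.1]
    · apply fixed_eq_of_two (z' : G) (hfix _ hz1) α β hαβ hzfix.1 hzfix.2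
      rw [← mul_smul, ← hzc y hy, mul_smul, hzfix.2]
  obtain ⟨g₀, hg₀⟩ := exists_smul_eq G α β
  have hPβ : (P : Subgroup G) ≤ stabilizer G β := fun y hy => (hPfix y hy).2
  have hP'β : ((g₀ • P : Sylow p G) : Subgroup G) ≤ stabilizer G β := by
    intro y hy
    rw [Sylow.coe_subgroup_smul, Subgroup.mem_pointwise_smul_iff_inv_smul_mem] at hy
    have h1 : g₀⁻¹ * y * g₀ ∈ (P : Subgroup G) := by
      simpa [MulAut.smul_def, MulAut.conj_apply] using hy
    have h2 := (hPfix _ h1).1
    rw [mem_stabilizer_iff, ← hg₀]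
    have : y • g₀ • α = g₀ • ((g₀⁻¹ * y * g₀) • α) := by
      simp [mul_smul]
    rw [this, h2]
  obtain ⟨h, hh⟩ := exists_smul_eq (stabilizer G β) ((g₀ • P).subtype hP'β) (P.subtype hPβ)
  rw [Sylow.smul_subtype] at hh
  have hh' := Sylow.subtype_injective hh
  have hn : ((h : G) * g₀) • P = P := by
    rw [mul_smul]
    exact hh'
  rw [Sylow.smul_eq_iff_mem_normalizer] at hn
  set n := (h : G) * g₀ with hndef
  have hnα : n • α = β := by
    rw [hndef, mul_smul, hg₀]
    exact h.2
  have hnβ : n • β = α ∨ n • β = β := by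
    apply fixed_eq_of_two x₀ (hfix x₀ hx₀1) α β hαβ hx₀α hx₀β
    have h1 : n⁻¹ * x₀ * n ∈ (P : Subgroup G) := by
      have := (Subgroup.mem_normalizer_iff.1 hn) (n⁻¹ * x₀ * n)
      rw [this]
      have : n * (n⁻¹ * x₀ * n) * n⁻¹ = x₀ := by group
      rw [this]
      exact hx₀P
    have h2 := (hPfix _ h1).2
    have : x₀ • n • β = n • ((n⁻¹ * x₀ * n) • β) := by
      simp [mul_smul]
    rw [this, h2]
  have := fixes_of_odd n (hodd n) α β hαβ (Or.inr hnα) hnβ
  exact hαβ (this.1.symm.trans hnα)

/-- For a faithful transitive action of fixity k: #Z(G) divides k; k = 2 forces #G even; for a prime p > k dividing #G a point stabilizer is a p′-group or contains a Sylow p-subgroup. -/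
theorem result {G : Type*} [Group G] [Finite G] {Ω : Type*} [Fintype Ω] [MulAction G Ω] [FaithfulSMul G Ω]
    (htr : MulAction.IsPretransitive G Ω) (k : ℕ) (hk : 1 ≤ k)
    (hfix : ∀ g : G, g ≠ 1 → Nat.card (MulAction.fixedBy Ω g) ≤ k) (hex : ∃ g : G, g ≠ 1 ∧ Nat.card (MulAction.fixedBy Ω g) = k) :
    Nat.card (Subgroup.center G) ∣ k ∧ (k = 2 → 2 ∣ Nat.card G) ∧
      ∀ (p : ℕ), p.Prime → k < p → p ∣ Nat.card G → ∀ α : Ω,
        ¬ p ∣ Nat.card (MulAction.stabilizer G α) ∨ ¬ p ∣ (MulAction.stabilizer G α).index := by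
  refine ⟨?_, ?_, ?_⟩
  · -- part 1
    classical
    obtain ⟨g, hg1, hgk⟩ := hex
    let S : SubMulAction (Subgroup.center G) Ω :=
      { carrier := fixedBy Ω g
        smul_mem' := by
          intro z ω hω
          rw [mem_fixedBy] at hω ⊢
          rw [Subgroup.smul_def, ← mul_smul, (Subgroup.mem_center_iff.1 z.2 g), mul_smul, hω] }
    haveI : Fintype (Subgroup.center G) := Fintype.ofFinite _
    have hB := burnside_natCard (Subgroup.center G) S
    have hsum : ∑ z : Subgroup.center G, Nat.card (fixedBy S z) = k := by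
      rw [Finset.sum_eq_single (1 : Subgroup.center G)]
      · rw [← hgk]
        have : fixedBy S (1 : Subgroup.center G) = Set.univ := by
          ext s; simp
        rw [this, Nat.card_congr (Equiv.Set.univ _)]
        rfl
      · intro z _ hz
        have : IsEmpty (fixedBy S z) := by
          constructor
          rintro ⟨s, hs⟩
          apply hz
          have h1 : (z : G) • (s : Ω) = s := by
            have h0 := congrArg Subtype.val hs
            simp only [SubMulAction.val_smul] at h0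
            exact h0
          have := central_eq_one (z : G) z.2 (s : Ω) h1
          exact Subtype.ext this
        rw [Nat.card_of_isEmpty]
      · intro h; exact absurd (Finset.mem_univ _) h
    rw [hsum] at hB
    exact ⟨_, hB.trans (mul_comm _ _)⟩
  · intro hk2
    subst hk2
    exact even_of_two htr hfix hex
  · intro p hp hkp _ α
    by_contra hcon
    push Not at hcon
    obtain ⟨h1, h2⟩ := hcon
    haveI : Fact p.Prime := ⟨hp⟩
    obtain ⟨x, hx⟩ := exists_prime_orderOf_dvd_card' p h1
    have hox : orderOf (x : G) = p := by rw [Subgroup.orderOf_coe, hx]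
    have hx1 : (x : G) ≠ 1 := by
      intro h
      rw [h, orderOf_one] at hox
      exact hp.one_lt.ne hox
    have hpg : IsPGroup p (Subgroup.zpowers (x : G)) := by
      apply IsPGroup.of_card (n := 1)
      rw [Nat.card_zpowers, hox, pow_one]
    have hmod := hpg.card_modEq_card_fixedPoints Ω
    have hΩ : Nat.card Ω = (stabilizer G α).index := (index_stabilizer_of_transitive G α).symm
    have hle : Subgroup.zpowers (x : G) ≤ stabilizer G α := by
      rw [Subgroup.zpowers_le]; exact x.2
    have hαmem : α ∈ fixedPoints (Subgroup.zpowers (x : G)) Ω := by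
      intro y
      exact hle y.2
    have hsub : fixedPoints (Subgroup.zpowers (x : G)) Ω ⊆ fixedBy Ω (x : G) := by
      intro ω hω
      exact hω ⟨(x : G), Subgroup.mem_zpowers _⟩
    have hdvd : p ∣ Nat.card (fixedPoints (Subgroup.zpowers (x : G)) Ω) := by
      have : Nat.card Ω % p = 0 := by
        rw [hΩ]; exact Nat.mod_eq_zero_of_dvd h2
      have h3 := hmod
      unfold Nat.ModEq at h3
      rw [this] at h3
      exact Nat.dvd_of_mod_eq_zero h3.symm
    have hpos : 0 < Nat.card (fixedPoints (Subgroup.zpowers (x : G)) Ω) := by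
      haveI : Nonempty (fixedPoints (Subgroup.zpowers (x : G)) Ω) := ⟨⟨α, hαmem⟩⟩
      exact Nat.card_pos
    have hge : p ≤ Nat.card (fixedPoints (Subgroup.zpowers (x : G)) Ω) := Nat.le_of_dvd hpos hdvd
    have hle2 : Nat.card (fixedPoints (Subgroup.zpowers (x : G)) Ω) ≤ Nat.card (fixedBy Ω (x : G)) := by
      rw [Nat.card_coe_set_eq, Nat.card_coe_set_eq]
      exact Set.ncard_le_ncard hsub (Set.toFinite _)
    have := hfix (x : G) hx1
    omega

end Cfsg.Agent.S3389
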