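import Cfsg.Statements.S3390
import Cfsg.Agent.Lib.Helper17.Fix2Frob

set_option autoImplicit false
open Cfsg

namespace Cfsg.Agent.S3390

/-- Let G be a finite group acting faithfully and transitively on a finite set Ω with fixity 2 (every non-identity element fixes at most two points, and some fixes exactly two). Let α ∈ Ω and S a Sylow 2-subgroup of G. Then one of the following holds: the stabilizer S_α of α in S is trivial; S is dihedral or semidihedral and either |S_α| = 2 or |S : S_α| = 2; |S| ≥ 4, S has exactly one orbit of size 2 on Ω, every other S-orbit is regular, and G has a normal subgroup of index 2 or of index |S| which is a Frobenius group; or S ≤ G_α. -/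
theorem result {G : Type*} [Group G] [Finite G] {Ω : Type*} [Fintype Ω] [MulAction G Ω] [FaithfulSMul G Ω] (htr : MulAction.IsPretransitive G Ω)
    (hfix : ∀ g : G, g ≠ 1 → Nat.card (MulAction.fixedBy Ω g) ≤ 2) (hex : ∃ g : G, g ≠ 1 ∧ Nat.card (MulAction.fixedBy Ω g) = 2) (α : Ω) (S : Sylow 2 G) :
    (S : Subgroup G) ⊓ MulAction.stabilizer G α = ⊥ ∨
    (((∃ n : ℕ, Nonempty (↥(S : Subgroup G) ≃* DihedralGroup n)) ∨ Cfsg.IsQuasiDihedral ↥(S : Subgroup G)) ∧
       (Nat.card ↥((S : Subgroup G) ⊓ MulAction.stabilizer G α) = 2 ∨ ((S : Subgroup G) ⊓ MulAction.stabilizer G α).relIndex (S : Subgroup G) = 2)) ∨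
    (4 ≤ Nat.card (S : Subgroup G) ∧
       (∃ ω : Ω, Nat.card (MulAction.orbit ↥(S : Subgroup G) ω) = 2 ∧
          ∀ ω' : Ω, ω' ∉ MulAction.orbit ↥(S : Subgroup G) ω → Nat.card (MulAction.orbit ↥(S : Subgroup G) ω') = Nat.card (S : Subgroup G)) ∧
       ∃ N : Subgroup G, N.Normal ∧ (N.index = 2 ∨ N.index = Nat.card (S : Subgroup G)) ∧ (∃ H : Subgroup ↥N, Cfsg.IsFrobeniusComplement H)) ∨
    (S : Subgroup G) ≤ MulAction.stabilizer G α := by
  classical
  haveI : Fact (Nat.Prime 2) := ⟨Nat.prime_two⟩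
  have hfix3 : Cfsg.Agent.Lib.Helper17.Fix2.Fix3 G Ω := Cfsg.Agent.Lib.Helper17.Fix2.three_fix hfix
  have hSp : IsPGroup 2 (S : Subgroup G) := S.isPGroup'
  by_cases hT1 : (S : Subgroup G) ⊓ MulAction.stabilizer G α = ⊥
  · exact Or.inl hT1
  by_cases hT2 : (S : Subgroup G) ≤ MulAction.stabilizer G α
  · exact Or.inr (Or.inr (Or.inr hT2))
  by_cases hM : (S : Subgroup G) ≤
      Subgroup.normalizer (((S : Subgroup G) ⊓ MulAction.stabilizer G α : Subgroup G) : Set G)
  · -- Case I: `|S : T| = 2`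
    obtain ⟨y, hyS, hyα, hyy, ha, hb, hd, hyN⟩ :=
      Cfsg.Agent.Lib.Helper17.Fix2.point_struct hfix3 (S : Subgroup G) hSp α hT1 hT2
    have hrel0 := Cfsg.Agent.Lib.Helper17.Fix2.relIndex_two (S : Subgroup G) α y hyS hyα hyN hd
    have hMS : (S : Subgroup G) ⊓
        Subgroup.normalizer (((S : Subgroup G) ⊓ MulAction.stabilizer G α : Subgroup G) : Set G) =
        (S : Subgroup G) := inf_eq_left.mpr hM
    rw [hMS] at hrel0
    have hαβ : α ≠ y • α := hyα.symm
    have hS2 : ∀ s ∈ (S : Subgroup G), (s • α = α ∧ s • (y • α) = y • α) ∨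
        (s • α = y • α ∧ s • (y • α) = α) := by
      intro s hsS
      rcases hd s hsS (hM hsS) with h | h
      · exact Or.inl ⟨h, ha s hsS h⟩
      · right
        refine ⟨h, ?_⟩
        have h1 : (y⁻¹ * s) • α = α := by rw [mul_smul, h, inv_smul_smul]
        have h2 := ha _ ((S : Subgroup G).mul_mem ((S : Subgroup G).inv_mem hyS) hsS) h1
        rw [mul_smul, inv_smul_eq_iff, hyy] at h2
        exact h2
    obtain ⟨t, htT, ht1⟩ : ∃ t ∈ (S : Subgroup G) ⊓ MulAction.stabilizer G α, t ≠ 1 := by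
      by_contra hno
      push Not at hno
      exact hT1 (eq_bot_iff.mpr fun x hx => Subgroup.mem_bot.mpr (hno x hx))
    have htS := (Subgroup.mem_inf.mp htT).1
    have htα : t • α = α := MulAction.mem_stabilizer_iff.mp (Subgroup.mem_inf.mp htT).2
    have ht : ∃ t ∈ (S : Subgroup G), t ≠ 1 ∧ t • α = α := ⟨t, htS, ht1, htα⟩
    by_cases hsemi : ∃ ω : Ω, ω ≠ α ∧ ω ≠ y • α ∧ ∃ s ∈ (S : Subgroup G), s ≠ 1 ∧ s • ω = ω
    · obtain ⟨ω, hωα, hωβ, s, hsS, hs1, hsω⟩ := hsemi
      right; left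
      exact ⟨Cfsg.Agent.Lib.Helper17.Fix2.case_Ib hfix3 (S : Subgroup G) hSp α (y • α) hαβ hS2 ht
        ω hωα hωβ s hsS hs1 hsω, Or.inr hrel0⟩
    · push Not at hsemi
      right; right; left
      refine Cfsg.Agent.Lib.Helper17.Fix2.case_Ia htr hfix3 S α (y • α) hαβ ht hS2
        ⟨y, hyS, rfl⟩ hrel0 ?_
      intro s hsS q hqα hqβ hsq
      by_contra hs1
      exact hsemi q hqα hqβ s hsS hs1 hsq
  · -- Case II: `N_S(T) < S`
    obtain ⟨hc, hD⟩ :=
      Cfsg.Agent.Lib.Helper17.Fix2.case_two hfix3 (S : Subgroup G) hSp α hT1 hT2 hM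
    exact Or.inr (Or.inl ⟨hD, Or.inl hc⟩)

end Cfsg.Agent.S3390
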