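import Cfsg.Statements.S3401
import Cfsg.Agent.S0721
import Cfsg.Agent.Lib.Lead.PrimDerC
import Cfsg.Agent.Lib.Lead.TwoTransB
import Cfsg.Agent.Lib.Lead.TwoTransC
import Cfsg.Agent.Lib.Helper21.AffineDer

set_option autoImplicit false
set_option linter.style.haveILetI false
open Cfsg

namespace Cfsg.Agent.S3401

open MulAction
open Cfsg.Agent.Lib.Lead.PrimDerA Cfsg.Agent.Lib.Lead.PrimDerB Cfsg.Agent.Lib.Lead.PrimDerC
open Cfsg.Agent.Lib.Lead.TwoTransB Cfsg.Agent.Lib.Lead.TwoTransC

/-- Let G be a doubly transitive permutation group on a finite set Ω with |Ω| ≡ 2 mod 4 and |Ω| > 2. Then G has a unique minimal normal subgroup M (a nontrivial normal subgroup contained in every nontrivial normal subgroup); M is simple and doubly transitive on Ω, and its centralizer in G is trivial (so G embeds in Aut(M)). -/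
theorem result {G : Type*} [Group G] [Finite G] {Ω : Type*} [Fintype Ω] [MulAction G Ω] [FaithfulSMul G Ω]
    (h2 : MulAction.IsMultiplyPretransitive G Ω 2) (hn : Fintype.card Ω % 4 = 2) (hn2 : 2 < Fintype.card Ω) :
    ∃ M : Subgroup G, M.Normal ∧ M ≠ ⊥ ∧ (∀ N : Subgroup G, N.Normal → N ≠ ⊥ → M ≤ N) ∧
      IsSimpleGroup ↥M ∧ MulAction.IsMultiplyPretransitive ↥M Ω 2 ∧ Subgroup.centralizer (M : Set G) = ⊥ := by
  classical
  have hprim : IsPreprimitive G Ω := isPreprimitive_of_is_two_pretransitive h2
  have hΩ : 2 ≤ Nat.card Ω := by rw [Nat.card_eq_fintype_card]; omega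
  haveI : Nontrivial G := nontrivial_group hprim hΩ
  obtain ⟨N, hNn, hN, hmin⟩ := Cfsg.Agent.S0721.exists_minNormal (G := G)
  haveI := hNn
  have htrN : IsPretransitive N Ω := normal_pretransitive hprim N hN
  haveI : Nontrivial Ω := Finite.one_lt_card_iff_nontrivial.mp (by omega)
  obtain ⟨a⟩ := (inferInstance : Nonempty Ω)
  by_cases hab : IsMulCommutative N
  · exfalso
    obtain ⟨⟨r, hr, hel⟩, -, hreg⟩ := abelian_minimal_normal hprim N hN hmin hab
    have hcard : Nat.card N = Fintype.card Ω :=
      Cfsg.Agent.Lib.Helper21.AffineDer.card_N_eq N htrN hreg a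
    haveI : Fact r.Prime := ⟨hr⟩
    have hpg : IsPGroup r N := by
      intro g
      refine ⟨1, ?_⟩
      apply Subtype.ext
      rw [pow_one]
      have := hel.2 (g : G) g.2
      simpa using this
    obtain ⟨k, hk⟩ := IsPGroup.iff_card.mp hpg
    rw [hcard] at hk
    have h2dvd : 2 ∣ r ^ k := by
      rw [← hk]
      omega
    have hr2 : r = 2 := by
      have := Nat.Prime.dvd_of_dvd_pow Nat.prime_two h2dvd
      exact ((Nat.prime_dvd_prime_iff_eq Nat.prime_two hr).mp this).symm
    subst hr2
    have hk1 : k < 2 := by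
      by_contra hcon
      push Not at hcon
      have h4 : 4 ∣ 2 ^ k := by
        have : (2 : ℕ) ^ 2 ∣ 2 ^ k := pow_dvd_pow 2 hcon
        simpa using this
      rw [← hk] at h4
      omega
    interval_cases k
    · omega
    · omega
  · obtain ⟨T, _, m, hTs, hm, ⟨e⟩⟩ := Cfsg.Agent.S0721.result N hN hmin
    haveI := hTs
    have hT : ¬ IsMulCommutative T := by
      intro hc
      apply hab
      refine ⟨⟨fun x y => ?_⟩⟩
      apply e.injective
      rw [map_mul, map_mul]
      ext i
      exact hc.is_comm.comm _ _
    by_cases hm2 : 2 ≤ m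
    · exact (two_trans_prod_false h2 N hT hm2 e).elim
    · obtain rfl : m = 1 := by omega
      let e' : N ≃* T := e.trans (MulEquiv.funUnique (Fin 1) T)
      haveI : Nontrivial N := (Subgroup.nontrivial_iff_ne_bot N).mpr hN
      have hsimple : IsSimpleGroup N :=
        IsSimpleGroup.isSimpleGroup_of_surjective e'.symm.toMonoidHom e'.symm.surjective
      have hC : Subgroup.centralizer (N : Set G) = ⊥ := by
        by_contra hC
        haveI : Finite T := Finite.of_equiv N e'.toEquiv
        have hcardT : Nat.card T ≠ 1 := by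
          have := Finite.one_lt_card (α := T)
          omega
        obtain ⟨p, hp, hpdvd⟩ := Nat.exists_prime_and_dvd hcardT
        obtain ⟨q, hq, hqp, hqdvd⟩ := exists_prime_ne_dvd hT p hp
        haveI : Fact p.Prime := ⟨hp⟩
        haveI : Fact q.Prime := ⟨hq⟩
        obtain ⟨tp, htp⟩ := exists_prime_orderOf_dvd_card' (G := T) p hpdvd
        obtain ⟨tq, htq⟩ := exists_prime_orderOf_dvd_card' (G := T) q hqdvd
        have ho1 : orderOf ((e'.symm tp : N) : G) = p := by
          rw [Subgroup.orderOf_coe, MulEquiv.orderOf_eq]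
          exact htp
        have ho2 : orderOf ((e'.symm tq : N) : G) = q := by
          rw [Subgroup.orderOf_coe, MulEquiv.orderOf_eq]
          exact htq
        refine two_trans_commuting_false h2 N (Subgroup.centralizer (N : Set G)) hN hC ?_
          ((e'.symm tp : N) : G) ((e'.symm tq : N) : G) (e'.symm tp).2 (e'.symm tq).2 ?_ ?_ ?_
        · intro n hn x hx
          exact Subgroup.mem_centralizer_iff.mp hx n hn
        · intro h
          rw [h, orderOf_one] at ho1
          exact hp.one_lt.ne ho1
        · intro h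
          rw [h, orderOf_one] at ho2
          exact hq.one_lt.ne ho2
        · rw [ho1, ho2]
          exact hqp.symm
      refine ⟨N, hNn, hN, ?_, hsimple, normal_two_trans h2 hn N htrN, hC⟩
      intro L hLn hL
      haveI := hLn
      rcases hmin (L ⊓ N) inferInstance inf_le_right with h | h
      · exfalso
        apply hL
        rw [eq_bot_iff, ← hC]
        intro l hl
        rw [Subgroup.mem_centralizer_iff]
        intro n hn
        have hdis : Disjoint L N := disjoint_iff.mpr h
        exact (Subgroup.commute_of_normal_of_disjoint L N hLn hNn hdis l n hl hn).symm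
      · rw [← h]
        exact inf_le_left

end Cfsg.Agent.S3401
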