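import Cfsg.Statements.S3412
import Cfsg.Agent.Lib.Helper28.CG.Main
-- import your own Cfsg.Agent.* helpers here

set_option autoImplicit false
open Cfsg

namespace Cfsg.Agent.S3412

/-- Let H be a finite group whose commuting graph (vertices the non-identity elements, two joined when they commute) is isomorphic to that of PSL_3(3): there is a bijection between the non-identity elements of H and of PSL_3(3) under which two elements commute exactly when their images do. Then H ≅ PSL_3(3). -/
theorem result {H : Type*} [Group H] [Finite H]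
    (f : {h : H // h ≠ 1} ≃ {g : Matrix.ProjectiveSpecialLinearGroup (Fin 3) (ZMod 3) // g ≠ 1})
    (hf : ∀ x y : {h : H // h ≠ 1}, (x : H) * y = y * x ↔ ((f x) : Matrix.ProjectiveSpecialLinearGroup (Fin 3) (ZMod 3)) * (f y) = (f y) * (f x)) :
    Nonempty (H ≃* Matrix.ProjectiveSpecialLinearGroup (Fin 3) (ZMod 3)) := by
  have e : Matrix.ProjectiveSpecialLinearGroup (Fin 3) (ZMod 3) ≃*
      Cfsg.Agent.Lib.Helper28.CG.S33 :=
    Cfsg.Agent.Lib.Helper28.pslEquiv3 (F := ZMod 3) (ZMod.card 3)
  have he : ∀ g : Matrix.ProjectiveSpecialLinearGroup (Fin 3) (ZMod 3), g ≠ 1 ↔ e g ≠ 1 := by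
    intro g
    rw [not_iff_not]
    exact (MulEquiv.map_eq_one_iff e).symm
  obtain ⟨φ⟩ := Cfsg.Agent.Lib.Helper28.CG.nonempty_mulEquiv_S33
    (f.trans (Equiv.subtypeEquiv e.toEquiv he)) (by
      intro x y
      unfold Cfsg.Agent.Lib.Helper28.CG.comm
      simp only [Equiv.trans_apply, Equiv.subtypeEquiv_apply]
      rw [hf x y]
      change e (f x).1 * e (f y).1 = e (f y).1 * e (f x).1 ↔ _
      rw [← map_mul, ← map_mul]
      exact e.injective.eq_iff)
  exact ⟨φ.trans e.symm⟩

end Cfsg.Agent.S3412
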