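-- Statement S3419: a finite group with the order and the spectrum of `A_n` (n ≥ 5) is not solvable.
import Cfsg.Statements.S3419
import Cfsg.Agent.Lib.Helper1.SZ
import Cfsg.Agent.Lib.Helper21.TwoPrimes
import Cfsg.Agent.Lib.Helper21.AltSpec
import Cfsg.Agent.Lib.Helper21.SpecTools

set_option autoImplicit false
open Cfsg

namespace Cfsg.Agent.S3419

open Subgroup Cfsg.Agent.Lib.Helper21 Cfsg.Agent.Lib.Helper21.SpecTools

universe u

theorem dvd_sub_one_iff {q m : ℕ} (hm : 1 ≤ m) : q ∣ m - 1 ↔ m ≡ 1 [MOD q] :=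
  ⟨fun h => ((Nat.modEq_iff_dvd' hm).2 h).symm, fun h => (Nat.modEq_iff_dvd' hm).1 h.symm⟩

/-- In a solvable group with `q ∥ |G|`, `r^a ∥ |G|` and no element of order `q * r`, the `r`-part
splits as `r^b ∣ q - 1` and `q ∣ r^c - 1`. -/
theorem solv_aux : ∀ (k : ℕ) (G : Type u) [Group G] [Finite G], Nat.card G = k →
    Group.IsSolvable G →
    ∀ (q r a : ℕ), q.Prime → r.Prime → q ≠ r → q ∣ Nat.card G → ¬ q ^ 2 ∣ Nat.card G →
      r ^ a ∣ Nat.card G → ¬ r ^ (a + 1) ∣ Nat.card G → (∀ g : G, orderOf g ≠ q * r) →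
      ∃ b c, b + c = a ∧ r ^ b ∣ q - 1 ∧ q ∣ r ^ c - 1 := by
  intro k
  induction k using Nat.strong_induction_on with
  | _ k ih =>
  intro G _ _ hk hsolv q r a hq hr hqr hqG hq2 hra hra1 hno
  have : Fact q.Prime := ⟨hq⟩
  have : Fact r.Prime := ⟨hr⟩
  have hG1 : 1 < Nat.card G := by
    have h1 := Nat.le_of_dvd Nat.card_pos hqG
    have h2 := hq.two_le
    omega
  have : Nontrivial G := Finite.one_lt_card_iff_nontrivial.1 hG1
  have := hsolv
  obtain ⟨t, ht, M, hMn, -, hMne, -, hMexp⟩ :=
    Cfsg.Agent.Lib.Helper1.exists_normal_elementary_abelian_le (G := G)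
      (Nat.card (⊤ : Subgroup G)) ⊤ rfl top_ne_bot inferInstance
  have := hMn
  have : Fact t.Prime := ⟨ht⟩
  have hMp : IsPGroup t M := fun x => ⟨1, by
    have h1 := hMexp x x.2
    rw [pow_one]
    exact Subtype.ext (by simpa using h1)⟩
  obtain ⟨j, hj⟩ := IsPGroup.iff_card.1 hMp
  have hj1 : j ≠ 0 := by
    rintro rfl
    rw [pow_zero] at hj
    exact hMne (Subgroup.eq_bot_of_card_le M hj.le)
  have hMdvd : t ^ j ∣ Nat.card G := hj ▸ Subgroup.card_subgroup_dvd_card M
  have hcardeq := Subgroup.card_eq_card_quotient_mul_card_subgroup M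
  rw [hj] at hcardeq
  have hmlt : Nat.card (G ⧸ M) < k := by
    rw [← hk, hcardeq]
    have h1 : 0 < Nat.card (G ⧸ M) := Nat.card_pos
    have h2 : 2 ≤ t ^ j :=
      calc 2 ≤ t := ht.two_le
        _ = t ^ 1 := (pow_one t).symm
        _ ≤ t ^ j := Nat.pow_le_pow_right ht.pos (by omega)
    nlinarith
  have hnoQ : ∀ x : G ⧸ M, orderOf x ≠ q * r := by
    intro x hx
    obtain ⟨g, hg⟩ := exists_orderOf_eq_of_quotient M x
    exact hno g (hg.trans hx)
  have hsolvQ : Group.IsSolvable (G ⧸ M) := inferInstance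
  by_cases htq : q = t
  · subst htq
    -- `M` has order `q`
    have hjlt : j < 2 := by
      by_contra hcon
      exact hq2 ((pow_dvd_pow q (by omega : 2 ≤ j)).trans hMdvd)
    have hj' : j = 1 := by omega
    subst hj'
    rw [pow_one] at hj
    have : IsCyclic M := isCyclic_of_prime_card hj
    have hAut : Nat.card (MulAut M) = q - 1 := by
      rw [IsCyclic.card_mulAut, hj, Nat.totient_prime hq]
    let φ : G →* MulAut M := MulAut.conjNormal
    have hnd : ¬ r ∣ Nat.card φ.ker := by
      intro hd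
      obtain ⟨x', hx'⟩ := exists_prime_orderOf_dvd_card' r hd
      obtain ⟨m, hm⟩ := exists_prime_orderOf_dvd_card' q (hj ▸ dvd_refl q : q ∣ Nat.card M)
      have hx'o : orderOf (x' : G) = r := by rw [Subgroup.orderOf_coe]; exact hx'
      have hmo : orderOf (m : G) = q := by rw [Subgroup.orderOf_coe]; exact hm
      have h1 : (MulAut.conjNormal (x' : G) : MulAut M) m = m := by
        have h0 : (MulAut.conjNormal (x' : G) : MulAut M) = 1 := MonoidHom.mem_ker.1 x'.2
        rw [h0]; rfl
      have h2 : (x' : G) * m * (x' : G)⁻¹ = m := by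
        have h3 := congrArg Subtype.val h1
        rwa [MulAut.conjNormal_apply] at h3
      have hc : (x' : G) * m = m * x' := mul_inv_eq_iff_eq_mul.1 h2
      exact hno ((m : G) * x') (orderOf_mul_of_commute_primes hq hr hqr hmo hx'o hc.symm)
    have hidx : φ.ker.index ∣ q - 1 := by
      rw [Subgroup.index_ker, ← hAut]
      exact Subgroup.card_subgroup_dvd_card φ.range
    have hra' : r ^ a ∣ Nat.card φ.ker * φ.ker.index := by
      rw [Subgroup.card_mul_index]; exact hra
    have hcop : Nat.Coprime (r ^ a) (Nat.card φ.ker) :=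
      Nat.Coprime.pow_left a ((Nat.Prime.coprime_iff_not_dvd hr).2 hnd)
    exact ⟨a, 0, by omega, (hcop.dvd_of_dvd_mul_left hra').trans hidx, by simp⟩
  by_cases htr : r = t
  · subst htr
    have hja : j ≤ a := by
      by_contra hcon
      exact hra1 ((pow_dvd_pow r (by omega : a + 1 ≤ j)).trans hMdvd)
    -- `q ∣ r ^ j - 1` by a fixed point count
    have hqj : r ^ j ≡ 1 [MOD q] := by
      obtain ⟨y, hyo⟩ := exists_prime_orderOf_dvd_card' q hqG
      let Z : Subgroup G := zpowers y
      have hZ : IsPGroup q Z := IsPGroup.of_card (n := 1) (by rw [Nat.card_zpowers, hyo, pow_one])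
      letI : MulAction Z M :=
        MulAction.compHom M ((MulAut.conjNormal (H := M)).comp Z.subtype)
      have hmod := hZ.card_modEq_card_fixedPoints M
      have hone : (1 : M) ∈ MulAction.fixedPoints Z M := by
        intro z
        change (MulAut.conjNormal (z : G) : MulAut M) 1 = 1
        exact map_one _
      have hfix : ∀ m : M, m ∈ MulAction.fixedPoints Z M → m = 1 := by
        intro m hm
        by_contra hm1
        have h1 : (⟨y, mem_zpowers y⟩ : Z) • m = m := hm _
        change (MulAut.conjNormal y : MulAut M) m = m at h1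
        have h2 : y * (m : G) * y⁻¹ = m := by
          have h3 := congrArg Subtype.val h1
          rwa [MulAut.conjNormal_apply] at h3
        have hmo : orderOf (m : G) = r := by
          refine orderOf_eq_prime (hMexp m m.2) ?_
          intro h; exact hm1 (Subtype.ext h)
        have hc : y * (m : G) = m * y := mul_inv_eq_iff_eq_mul.1 h2
        exact hno (y * m) (orderOf_mul_of_commute_primes hq hr hqr hyo hmo hc)
      have hset : MulAction.fixedPoints Z M = {1} :=
        Set.eq_singleton_iff_unique_mem.2 ⟨hone, hfix⟩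
      have hcard1 : Nat.card (MulAction.fixedPoints Z M) = 1 := by
        rw [hset, Nat.card_coe_set_eq, Set.ncard_singleton]
      rw [hj, hcard1] at hmod
      exact hmod
    have hcop_q : Nat.Coprime q (r ^ j) :=
      Nat.Coprime.pow_right j ((Nat.coprime_primes hq hr).2 hqr)
    have hrpos : 0 < r ^ j := pow_pos hr.pos j
    obtain ⟨b, c', hbc, h1, h2⟩ := ih (Nat.card (G ⧸ M)) hmlt (G ⧸ M) rfl hsolvQ q r (a - j)
      hq hr hqr
      (by rw [hcardeq] at hqG; exact hcop_q.dvd_of_dvd_mul_right hqG)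
      (by intro h; apply hq2; rw [hcardeq]; exact Dvd.dvd.mul_right h _)
      (by
        have h3 : r ^ (a - j) * r ^ j ∣ Nat.card (G ⧸ M) * r ^ j := by
          rw [← pow_add, Nat.sub_add_cancel hja, ← hcardeq]; exact hra
        exact Nat.dvd_of_mul_dvd_mul_right hrpos h3)
      (by
        intro h
        apply hra1
        have h3 : r ^ (a - j + 1) * r ^ j ∣ Nat.card (G ⧸ M) * r ^ j :=
          Nat.mul_dvd_mul h (dvd_refl _)
        rw [← pow_add, ← hcardeq] at h3
        have h4 : a - j + 1 + j = a + 1 := by omega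
        rwa [h4] at h3)
      hnoQ
    refine ⟨b, c' + j, by omega, h1, ?_⟩
    have hpos1 : 1 ≤ r ^ c' := Nat.one_le_pow _ _ hr.pos
    have hpos2 : 1 ≤ r ^ (c' + j) := Nat.one_le_pow _ _ hr.pos
    rw [dvd_sub_one_iff hpos2, pow_add]
    have h3 := (dvd_sub_one_iff hpos1).1 h2
    simpa using Nat.ModEq.mul h3 hqj
  · -- `t` is a third prime
    have hcop_q : Nat.Coprime q (t ^ j) :=
      Nat.Coprime.pow_right j ((Nat.coprime_primes hq ht).2 htq)
    have hcop_r : Nat.Coprime r (t ^ j) :=
      Nat.Coprime.pow_right j ((Nat.coprime_primes hr ht).2 htr)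
    refine ih (Nat.card (G ⧸ M)) hmlt (G ⧸ M) rfl hsolvQ q r a hq hr hqr ?_ ?_ ?_ ?_ hnoQ
    · rw [hcardeq] at hqG
      exact hcop_q.dvd_of_dvd_mul_right hqG
    · intro h; apply hq2; rw [hcardeq]; exact Dvd.dvd.mul_right h _
    · rw [hcardeq] at hra
      exact (Nat.Coprime.pow_left a hcop_r).dvd_of_dvd_mul_right hra
    · intro h; apply hra1; rw [hcardeq]; exact Dvd.dvd.mul_right h _

/-- Let n ≥ 5 and let G be a finite group with the same order and the same set of element orders as the alternating group of degree n. Then G is not solvable. -/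
theorem result {G : Type*} [Group G] [Finite G] (n : ℕ) (hn : 5 ≤ n)
    (hcard : Nat.card G = Nat.card ↥(alternatingGroup (Fin n)))
    (hspec : Set.range (orderOf : G → ℕ) = Set.range (orderOf : ↥(alternatingGroup (Fin n)) → ℕ)) :
    ¬ Group.IsSolvable G := by
  intro hsolv
  have hno : ∀ p q : ℕ, p.Prime → q.Prime → p ≠ q → n < p + q → ∀ g : G, orderOf g ≠ p * q := by
    intro p q hp hq hpq hsum g hg
    have hmem : p * q ∈ Set.range (orderOf : G → ℕ) := ⟨g, hg⟩
    rw [hspec] at hmem
    obtain ⟨a, ha⟩ := hmem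
    exact AltSpec.no_order_pq hp hq hpq hsum a ha
  have fin : ∀ q r a : ℕ, q.Prime → r.Prime → q ≠ r → q ∣ Nat.card G → ¬ q ^ 2 ∣ Nat.card G →
      r ^ a ∣ Nat.card G → ¬ r ^ (a + 1) ∣ Nat.card G → n < q + r →
      (∀ b c, b + c = a → r ^ b ∣ q - 1 → q ∣ r ^ c - 1 → False) → False := by
    intro q r a hq hr hqr h1 h2 h3 h4 h5 h6
    obtain ⟨b, c, hbc, hb, hc⟩ :=
      solv_aux (Nat.card G) G rfl hsolv q r a hq hr hqr h1 h2 h3 h4 (hno q r hq hr hqr h5)
    exact h6 b c hbc hb hc
  have two : ∀ p q : ℕ, p.Prime → q.Prime → p < q → q ≤ n → n < 2 * p → False := by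
    intro p q hp hq hpq hqn hnp
    have hp3 : 3 ≤ p := by omega
    have hq3 : 3 ≤ q := by omega
    apply fin q p 1 hq hp (by omega)
    · rw [hcard]; exact AltSpec.prime_dvd_card_alt hq hq3 hqn
    · rw [hcard]; exact AltSpec.prime_sq_not_dvd_card_alt hq hq3 hqn (by omega)
    · rw [hcard, pow_one]; exact AltSpec.prime_dvd_card_alt hp hp3 (by omega)
    · rw [hcard]; exact AltSpec.prime_sq_not_dvd_card_alt hp hp3 (by omega) hnp
    · omega
    · intro b c hbc hb hc
      rcases (by omega : (b = 0 ∧ c = 1) ∨ (b = 1 ∧ c = 0)) with ⟨rfl, rfl⟩ | ⟨rfl, rfl⟩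
      · rw [pow_one] at hc
        have h7 := Nat.le_of_dvd (by omega) hc
        omega
      · rw [pow_one] at hb
        obtain ⟨d, hd⟩ := hb
        have hd1 : d = 1 := by
          have hdpos : 0 < d := by
            rcases Nat.eq_zero_or_pos d with h | h
            · subst h; omega
            · exact h
          by_contra hne
          have h5 : 2 ≤ d := by omega
          have h6 : p * 2 ≤ p * d := Nat.mul_le_mul_left p h5
          omega
        subst hd1
        have h5 := hp.eq_two_or_odd
        have h6 := hq.eq_two_or_odd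
        omega
  rcases Nat.lt_or_ge n 11 with hlt | hge
  · interval_cases n
    · exact two 3 5 (by norm_num) (by norm_num) (by norm_num) (by norm_num) (by norm_num)
    · have h2c := AltSpec.two_mul_card_alt 6 (by norm_num)
      have hf : Nat.factorial 6 = 720 := by norm_num [Nat.factorial]
      have hcG : Nat.card G = 360 := by omega
      apply fin 5 3 2 (by norm_num) (by norm_num) (by norm_num)
      · rw [hcG]; norm_num
      · rw [hcG]; norm_num
      · rw [hcG]; norm_num
      · rw [hcG]; norm_num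
      · norm_num
      · intro b c hbc hb hc'
        rcases (by omega : (b = 0 ∧ c = 2) ∨ (b = 1 ∧ c = 1) ∨ (b = 2 ∧ c = 0)) with
          ⟨rfl, rfl⟩ | ⟨rfl, rfl⟩ | ⟨rfl, rfl⟩
        · norm_num at hc'
        · norm_num at hb
        · norm_num at hb
    · exact two 5 7 (by norm_num) (by norm_num) (by norm_num) (by norm_num) (by norm_num)
    · exact two 5 7 (by norm_num) (by norm_num) (by norm_num) (by norm_num) (by norm_num)
    · exact two 5 7 (by norm_num) (by norm_num) (by norm_num) (by norm_num) (by norm_num)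
    · have h2c := AltSpec.two_mul_card_alt 10 (by norm_num)
      have hf : Nat.factorial 10 = 3628800 := by norm_num [Nat.factorial]
      have hcG : Nat.card G = 1814400 := by omega
      apply fin 7 5 2 (by norm_num) (by norm_num) (by norm_num)
      · rw [hcG]; norm_num
      · rw [hcG]; norm_num
      · rw [hcG]; norm_num
      · rw [hcG]; norm_num
      · norm_num
      · intro b c hbc hb hc'
        rcases (by omega : (b = 0 ∧ c = 2) ∨ (b = 1 ∧ c = 1) ∨ (b = 2 ∧ c = 0)) with
          ⟨rfl, rfl⟩ | ⟨rfl, rfl⟩ | ⟨rfl, rfl⟩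
        · norm_num at hc'
        · norm_num at hb
        · norm_num at hb
  · obtain ⟨p, q, hp, hq, hpq, hqn, hnp⟩ := TwoPrimes.exists_two_primes n hge
    exact two p q hp hq hpq hqn hnp

end Cfsg.Agent.S3419
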