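-- Statement S3420: a group with the order and spectrum of `A_n` (n ≥ 11) has a nonabelian simple
-- section divisible by all primes in (n/2, n].
import Cfsg.Statements.S3420
import Cfsg.Agent.Lib.Helper21.TwoPrimes
import Cfsg.Agent.Lib.Helper21.AltSpec
import Cfsg.Agent.Lib.Helper21.SpecTools

set_option autoImplicit false
open Cfsg

namespace Cfsg.Agent.S3420

open Subgroup Cfsg.Agent.Lib.Helper21 Cfsg.Agent.Lib.Helper21.SpecTools

universe u

theorem exists_simple_section_aux : ∀ (k : ℕ) (G : Type u) [Group G] [Finite G], Nat.card G = k →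
    ∀ (π : Set ℕ), (∃ p ∈ π, ∃ q ∈ π, p ≠ q) →
    (∀ p ∈ π, p.Prime ∧ p ∣ Nat.card G ∧ ¬ p ^ 2 ∣ Nat.card G) →
    (∀ p ∈ π, ∀ q ∈ π, p ≠ q → ¬ q ∣ p - 1 ∧ ∀ g : G, orderOf g ≠ p * q) →
    ∃ (N H : Subgroup G) (_ : N.Normal), H.Normal ∧ N < H ∧
      IsSimpleGroup (↥H ⧸ N.subgroupOf H) ∧ ¬ IsMulCommutative (↥H ⧸ N.subgroupOf H) ∧
      ∀ p ∈ π, p ∣ Nat.card (↥H ⧸ N.subgroupOf H) := by
  intro k
  induction k using Nat.strong_induction_on with
  | _ k ih =>
  intro G _ _ hk π hπ2 hπ hπc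
  obtain ⟨p₀, hp₀, q₀, hq₀, hpq₀⟩ := hπ2
  have hG1 : 1 < Nat.card G := by
    obtain ⟨hpp, hpd, -⟩ := hπ p₀ hp₀
    have h1 := Nat.le_of_dvd Nat.card_pos hpd
    have h2 := hpp.two_le
    omega
  have : Nontrivial G := Finite.one_lt_card_iff_nontrivial.1 hG1
  obtain ⟨M, hMn, hMne, hMmin⟩ := exists_min_normal (G := G)
  have := hMn
  by_cases hcase : ∃ p ∈ π, p ∣ Nat.card M
  · obtain ⟨p, hpπ, hpM⟩ := hcase
    obtain ⟨hpp, hpG, hp2⟩ := hπ p hpπ
    have hall : ∀ q ∈ π, q ∣ Nat.card M := by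
      intro q hqπ
      by_cases hqp : q = p
      · rw [hqp]; exact hpM
      · obtain ⟨hqq, hqG, -⟩ := hπ q hqπ
        obtain ⟨h1, h2⟩ := hπc p hpπ q hqπ (Ne.symm hqp)
        exact dvd_card_of_dvd_card M hpp hqq (Ne.symm hqp) hpM hp2 hqG h1 h2
    have hp2M : ¬ p ^ 2 ∣ Nat.card M := fun h =>
      hp2 (h.trans (Subgroup.card_subgroup_dvd_card M))
    have hsimple : IsSimpleGroup M :=
      isSimpleGroup_of_minimal_normal M hMne hMmin hpp hpM hp2M
    have hncomm : ¬ IsMulCommutative M := by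
      intro hc
      have hp0M := hall p₀ hp₀
      have hq0M := hall q₀ hq₀
      obtain ⟨hp0p, -, -⟩ := hπ p₀ hp₀
      obtain ⟨hq0p, -, -⟩ := hπ q₀ hq₀
      have : Fact p₀.Prime := ⟨hp0p⟩
      obtain ⟨x, hx⟩ := exists_prime_orderOf_dvd_card' p₀ hp0M
      have hZn : (zpowers x).Normal := ⟨fun n hn g => by
        rw [mul_comm' g n, mul_inv_cancel_right]; exact hn⟩
      have := hsimple
      rcases hZn.eq_bot_or_eq_top with h | h
      · have hx1 : x = 1 := by rw [← Subgroup.zpowers_eq_bot]; exact h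
        rw [hx1, orderOf_one] at hx
        exact hp0p.one_lt.ne' hx.symm
      · have hcM : Nat.card M = p₀ := by
          rw [← hx, ← Nat.card_zpowers, h, Subgroup.card_top]
        rw [hcM] at hq0M
        exact hpq₀ ((Nat.prime_dvd_prime_iff_eq hq0p hp0p).1 hq0M).symm
    have e : (↥M ⧸ (⊥ : Subgroup G).subgroupOf M) ≃* ↥M :=
      (QuotientGroup.quotientMulEquivOfEq (Subgroup.bot_subgroupOf M)).trans
        QuotientGroup.quotientBot
    obtain ⟨h1, h2⟩ := transfer_section e hsimple hncomm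
    refine ⟨⊥, M, inferInstance, hMn, bot_lt_iff_ne_bot.2 hMne, h1, h2, ?_⟩
    intro q hq
    rw [Nat.card_congr e.toEquiv]
    exact hall q hq
  · push Not at hcase
    have hMcard : 1 < Nat.card M := by
      have : Nontrivial M := (Subgroup.nontrivial_iff_ne_bot M).2 hMne
      exact Finite.one_lt_card
    have hcardeq := Subgroup.card_eq_card_quotient_mul_card_subgroup M
    have hlt : Nat.card (G ⧸ M) < k := by
      rw [← hk, hcardeq]
      have : 0 < Nat.card (G ⧸ M) := Nat.card_pos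
      nlinarith
    obtain ⟨N', H', hN'n, hH'n, hlt', hs', hc', hd'⟩ :=
      ih (Nat.card (G ⧸ M)) hlt (G ⧸ M) rfl π ⟨p₀, hp₀, q₀, hq₀, hpq₀⟩
      (by
        intro p hp
        obtain ⟨hpp, hpG, hp2⟩ := hπ p hp
        refine ⟨hpp, ?_, ?_⟩
        · rw [hcardeq] at hpG
          rcases (Nat.Prime.dvd_mul hpp).1 hpG with h | h
          · exact h
          · exact absurd h (hcase p hp)
        · intro h
          apply hp2
          rw [hcardeq]
          exact Dvd.dvd.mul_right h _)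
      (by
        intro p hp q hq hpq
        obtain ⟨h1, h2⟩ := hπc p hp q hq hpq
        refine ⟨h1, ?_⟩
        intro x hx
        obtain ⟨g, hg⟩ := exists_orderOf_eq_of_quotient M x
        exact h2 g (hg.trans hx))
    have := hN'n
    have := hH'n
    obtain ⟨e⟩ := sectionEquiv M N' H'
    obtain ⟨h1, h2⟩ := transfer_section e hs' hc'
    refine ⟨N'.comap (QuotientGroup.mk' M), H'.comap (QuotientGroup.mk' M), inferInstance,
      inferInstance,
      (Subgroup.comap_lt_comap_of_surjective (QuotientGroup.mk'_surjective M)).2 hlt', h1, h2, ?_⟩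
    intro q hq
    rw [Nat.card_congr e.toEquiv]
    exact hd' q hq

/-- Let n ≥ 11 and let G be a finite group with the same order and the same set of element orders as the alternating group of degree n. Then G has normal subgroups N < H such that H/N is a non-abelian simple group whose order is divisible by every prime p with n/2 < p ≤ n. -/
theorem result {G : Type*} [Group G] [Finite G] (n : ℕ) (hn : 11 ≤ n)
    (hcard : Nat.card G = Nat.card ↥(alternatingGroup (Fin n)))
    (hspec : Set.range (orderOf : G → ℕ) = Set.range (orderOf : ↥(alternatingGroup (Fin n)) → ℕ)) :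
    ∃ (N H : Subgroup G) (_ : N.Normal), H.Normal ∧ N < H ∧
      IsSimpleGroup (↥H ⧸ N.subgroupOf H) ∧ ¬ IsMulCommutative (↥H ⧸ N.subgroupOf H) ∧
      ∀ p : ℕ, p.Prime → n < 2 * p → p ≤ n → p ∣ Nat.card (↥H ⧸ N.subgroupOf H) := by
  obtain ⟨p₁, q₁, hp₁, hq₁, hlt₁, hq₁n, hnp₁⟩ := TwoPrimes.exists_two_primes n hn
  have hno : ∀ p q : ℕ, p.Prime → q.Prime → p ≠ q → n < p + q → ∀ g : G, orderOf g ≠ p * q := by
    intro p q hp hq hpq hsum g hg
    have hmem : p * q ∈ Set.range (orderOf : G → ℕ) := ⟨g, hg⟩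
    rw [hspec] at hmem
    obtain ⟨a, ha⟩ := hmem
    exact AltSpec.no_order_pq hp hq hpq hsum a ha
  obtain ⟨N, H, hN, hH, hlt, hs, hc, hd⟩ :=
    exists_simple_section_aux (Nat.card G) G rfl {p | p.Prime ∧ n < 2 * p ∧ p ≤ n}
    ⟨p₁, ⟨hp₁, hnp₁, by omega⟩, q₁, ⟨hq₁, by omega, hq₁n⟩, by omega⟩
    (by
      rintro p ⟨hp, h1, h2⟩
      have h3 : 3 ≤ p := by omega
      rw [hcard]
      exact ⟨hp, AltSpec.prime_dvd_card_alt hp h3 h2,
        AltSpec.prime_sq_not_dvd_card_alt hp h3 h2 h1⟩)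
    (by
      rintro p ⟨hp, h1, h2⟩ q ⟨hq, h3, h4⟩ hpq
      refine ⟨?_, hno p q hp hq hpq (by omega)⟩
      intro hdvd
      obtain ⟨c, hc⟩ := hdvd
      have hc1 : c = 1 := by
        have hcpos : 0 < c := by
          rcases Nat.eq_zero_or_pos c with h | h
          · subst h; omega
          · exact h
        by_contra hne
        have h5 : 2 ≤ c := by omega
        have h6 : q * 2 ≤ q * c := Nat.mul_le_mul_left q h5
        omega
      subst hc1
      have h5 := hp.eq_two_or_odd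
      have h6 := hq.eq_two_or_odd
      omega)
  exact ⟨N, H, hN, hH, hlt, hs, hc, fun p hp h1 h2 => hd p ⟨hp, h1, h2⟩⟩

end Cfsg.Agent.S3420
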