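-- Statement S3430.
import Cfsg.Statements.S3430
import Cfsg.Agent.Lib.Helper29.CycloCST

set_option autoImplicit false
open Cfsg

namespace Cfsg.Agent.S3430

open Cfsg.Agent.S2904 Cfsg.Agent.Helper29.CycloCST Cfsg.Agent.Helper29.CycloEval

theorem case_two (q : ℕ) (hq : 2 ≤ q) (h1 : ¬ ∃ s t : ℕ, t ≤ 1 ∧ q + 1 = 2 ^ s * 3 ^ t) :
    ∃ p : ℕ, p.Prime ∧ p ∣ q ^ 2 - 1 ∧ (∀ i : ℕ, 1 ≤ i → i < 2 → ¬ p ∣ q ^ i - 1) ∧
      (2 + 1 < p ∨ p ^ 2 ∣ q ^ 2 - 1) := by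
  have hfac : q ^ 2 - 1 = (q - 1) * (q + 1) := by
    obtain ⟨b, rfl⟩ : ∃ b, q = b + 1 := ⟨q - 1, by omega⟩
    have : (b + 1) ^ 2 = (b + 1 - 1) * (b + 1 + 1) + 1 := by
      simp only [Nat.add_sub_cancel]; ring
    omega
  have hnd : ∀ p : ℕ, p.Prime → p ≠ 2 → p ∣ q + 1 → ¬ p ∣ q - 1 := by
    intro p hp hp2 hd hd'
    have h3 : p ∣ (q + 1) - (q - 1) := Nat.dvd_sub hd hd'
    have h4 : (q + 1) - (q - 1) = 2 := by omega
    rw [h4] at h3
    exact hp2 ((Nat.prime_dvd_prime_iff_eq hp Nat.prime_two).1 h3)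
  obtain ⟨k, m, hmodd, hqm⟩ := Nat.exists_eq_two_pow_mul_odd (n := q + 1) (by omega)
  have hmdvd : m ∣ q + 1 := ⟨2 ^ k, by rw [hqm]; ring⟩
  by_cases hbig : ∃ p : ℕ, p.Prime ∧ p ∣ m ∧ 3 < p
  · obtain ⟨p, hp, hpm, hp3⟩ := hbig
    have hpq : p ∣ q + 1 := hpm.trans hmdvd
    refine ⟨p, hp, ?_, ?_, Or.inl (by omega)⟩
    · rw [hfac]; exact dvd_mul_of_dvd_right hpq _
    · intro i hi1 hi2
      have : i = 1 := by omega
      subst this
      rw [pow_one]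
      exact hnd p hp (by omega) hpq
  · push Not at hbig
    have huniq : ∀ {d : ℕ}, d.Prime → d ∣ m → d = 3 := by
      intro d hd hdm
      have hle := hbig d hd hdm
      have h2 := hd.two_le
      have hne2 : d ≠ 2 := by
        rintro rfl
        have : Even m := (even_iff_two_dvd).2 hdm
        exact (Nat.not_odd_iff_even.2 this) hmodd
      omega
    have hm0 : m ≠ 0 := by
      rintro rfl
      simp at hmodd
    have hmpow := Nat.eq_prime_pow_of_unique_prime_dvd hm0 huniq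
    obtain ⟨t, ht⟩ : ∃ t, t = m.primeFactorsList.length := ⟨_, rfl⟩
    rw [← ht] at hmpow
    rcases Nat.lt_or_ge t 2 with hlt | hge
    · exfalso
      exact h1 ⟨k, t, by omega, by rw [hqm, hmpow]⟩
    · have h9 : 3 ^ 2 ∣ q + 1 := by
        have : 3 ^ 2 ∣ m := by rw [hmpow]; exact pow_dvd_pow 3 hge
        exact this.trans hmdvd
      have h3 : 3 ∣ q + 1 := (dvd_pow_self 3 (by norm_num : 2 ≠ 0)).trans h9
      refine ⟨3, Nat.prime_three, ?_, ?_, Or.inr ?_⟩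
      · rw [hfac]; exact dvd_mul_of_dvd_right h3 _
      · intro i hi1 hi2
        have : i = 1 := by omega
        subst this
        rw [pow_one]
        exact hnd 3 Nat.prime_three (by norm_num) h3
      · rw [hfac]; exact dvd_mul_of_dvd_right h9 _

theorem case_ge3 (q n : ℕ) (hq : 2 ≤ q) (hn : 3 ≤ n)
    (h2 : ¬ (q = 2 ∧ (n = 4 ∨ n = 6 ∨ n = 10 ∨ n = 12 ∨ n = 18)))
    (h3 : ¬ (q = 3 ∧ (n = 4 ∨ n = 6))) (h4 : ¬ (q = 5 ∧ n = 6)) :
    ∃ p : ℕ, p.Prime ∧ p ∣ q ^ n - 1 ∧ (∀ i : ℕ, 1 ≤ i → i < n → ¬ p ∣ q ^ i - 1) ∧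
      (n + 1 < p ∨ p ^ 2 ∣ q ^ n - 1) := by
  by_contra hcon
  have key : ∀ p : ℕ, p.Prime → orderOf ((q : ℕ) : ZMod p) = n →
      p = n + 1 ∧ ¬ p ^ 2 ∣ q ^ n - 1 := by
    intro p hp hord
    obtain ⟨hd, hnd, hdvd⟩ := primitive_facts q n p (by omega) (by omega) hp hord
    have hle : n + 1 ≤ p := by
      have h2le := hp.two_le
      have := Nat.le_of_dvd (by omega) hdvd
      omega
    by_contra hne
    apply hcon
    refine ⟨p, hp, hd, fun i hi hin => hnd i (by omega) hin, ?_⟩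
    by_contra hno
    push Not at hno
    exact hne ⟨by omega, hno.2⟩
  have hΦpos := Phi_pos n q (by omega)
  obtain ⟨N0, hN0⟩ : ∃ N0 : ℕ, (N0 : ℤ) = Phi n q :=
    ⟨(Phi n q).natAbs, Int.natAbs_of_nonneg hΦpos.le⟩
  have hqn : 1 ≤ q ^ n := Nat.one_le_pow _ _ (by omega)
  have hN0dvd : N0 ∣ q ^ n - 1 := by
    have h := Phi_dvd n q
    rw [← hN0] at h
    have hc : ((q ^ n - 1 : ℕ) : ℤ) = (q : ℤ) ^ n - 1 := by
      rw [Nat.cast_sub hqn]; push_cast; ring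
    rw [← hc] at h
    exact Int.natCast_dvd_natCast.1 h
  have hgt := Phi_gt_pow n q (by omega) hq
  have hN0gt : 1 < N0 := by
    have hq' : (1 : ℤ) ≤ (q : ℤ) - 1 := by
      have : (2 : ℤ) ≤ q := by exact_mod_cast hq
      linarith
    have h1 : (1 : ℤ) ≤ ((q : ℤ) - 1) ^ n.totient := one_le_pow₀ hq'
    have : (1 : ℤ) < (N0 : ℤ) := by rw [hN0]; linarith
    exact_mod_cast this
  have prim_part : ∀ M0 : ℕ, 0 < M0 → M0 ∣ N0 →
      (∀ l : ℕ, l.Prime → l ∣ M0 → orderOf ((q : ℕ) : ZMod l) = n) →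
      M0 = 1 ∨ M0 = n + 1 := by
    intro M0 hM0 hMN hprim
    have huniq : ∀ {d : ℕ}, d.Prime → d ∣ M0 → d = n + 1 :=
      fun hd hdM => (key _ hd (hprim _ hd hdM)).1
    have hpow := Nat.eq_prime_pow_of_unique_prime_dvd hM0.ne' huniq
    obtain ⟨t, ht⟩ : ∃ t, t = M0.primeFactorsList.length := ⟨_, rfl⟩
    rw [← ht] at hpow
    rcases Nat.lt_or_ge t 2 with hlt | hge
    · interval_cases t
      · left; simpa using hpow
      · right; simpa using hpow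
    · exfalso
      have hM1 : M0 ≠ 1 := by
        intro h
        have h1 : 1 < (n + 1) ^ t := Nat.one_lt_pow (by omega) (by omega)
        omega
      have hp := Nat.minFac_prime hM1
      have hpd := Nat.minFac_dvd M0
      obtain ⟨hpe, hnsq⟩ := key _ hp (hprim _ hp hpd)
      apply hnsq
      rw [hpe]
      have : (n + 1) ^ 2 ∣ M0 := by
        have h1 : (n + 1) ^ 2 ∣ (n + 1) ^ t := pow_dvd_pow _ hge
        rw [← hpow] at h1
        exact h1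
      exact this.trans (hMN.trans hN0dvd)
  rcases prim_or_struct q n (by omega) hn with
    hA | ⟨r, e, s, hr, hrN, hrsq, hnes, her, hepos, hedvd, hB⟩
  · have h := prim_part N0 (by omega) dvd_rfl
      (fun l hl hlN => hA l hl (by rw [← hN0]; exact_mod_cast hlN))
    rcases h with h | h
    · omega
    · have hΦ : Phi n q = (n : ℤ) + 1 := by rw [← hN0, h]; push_cast; ring
      have hmem := M_II q n hq hn (by rw [hΦ]; linarith)
      rw [hΦ] at hmem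
      simp only [List.mem_cons, Prod.mk.injEq, List.not_mem_nil, or_false] at hmem
      rcases hmem with ⟨rfl, rfl, hv⟩ | ⟨rfl, rfl, hv⟩ | ⟨rfl, rfl, hv⟩ | ⟨rfl, rfl, hv⟩ |
        ⟨rfl, rfl, hv⟩ | ⟨rfl, rfl, hv⟩ | ⟨rfl, rfl, hv⟩ | ⟨rfl, rfl, hv⟩ <;>
      first
      | (norm_num at hv; done)
      | exact h2 ⟨rfl, by decide⟩
      | exact h3 ⟨rfl, by decide⟩
      | exact h4 ⟨rfl, rfl⟩
  · obtain ⟨M, hM⟩ := hrN
    have hr0 : (0 : ℤ) < r := by exact_mod_cast hr.pos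
    have hMpos : 0 < M := by
      by_contra hle
      push Not at hle
      have : (r : ℤ) * M ≤ 0 := mul_nonpos_of_nonneg_of_nonpos hr0.le hle
      linarith
    obtain ⟨M0, hM0⟩ : ∃ M0 : ℕ, (M0 : ℤ) = M := ⟨M.natAbs, Int.natAbs_of_nonneg hMpos.le⟩
    have hN0M : N0 = r * M0 := by
      have : (N0 : ℤ) = ((r * M0 : ℕ) : ℤ) := by rw [hN0, hM]; push_cast; rw [hM0]
      exact_mod_cast this
    have hM0pos : 0 < M0 := by
      have : (0 : ℤ) < (M0 : ℤ) := by rw [hM0]; exact hMpos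
      exact_mod_cast this
    have hrM0 : ¬ r ∣ M0 := by
      rintro ⟨c, hc⟩
      apply hrsq
      rw [hM, ← hM0, hc]; push_cast; exact ⟨c, by ring⟩
    have hprimM : ∀ l : ℕ, l.Prime → l ∣ M0 → orderOf ((q : ℕ) : ZMod l) = n := by
      intro l hl hlM
      have hlr : l ≠ r := by rintro rfl; exact hrM0 hlM
      have hlN : (l : ℤ) ∣ Phi n q := by
        rw [← hN0]
        exact_mod_cast (hlM.trans ⟨r, by rw [hN0M]; ring⟩)
      exact hB l hl hlN hlr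
    have h := prim_part M0 hM0pos ⟨r, by rw [hN0M]; ring⟩ hprimM
    have hrn : r ∣ n := by rw [hnes, pow_succ]; exact ⟨e * r ^ s, by ring⟩
    have hrle : r ≤ n := Nat.le_of_dvd (by omega) hrn
    have hΦ : Phi n q = ((r * M0 : ℕ) : ℤ) := by rw [← hN0, hN0M]
    have hle : Phi n q ≤ (r : ℤ) * (2 * (n : ℤ) + 1) := by
      rw [hΦ]
      push_cast
      apply mul_le_mul_of_nonneg_left _ hr0.le
      rcases h with h | h <;> (rw [h]; push_cast; linarith)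
    have hmem := M_I q n r e s hq hn hr hepos her hedvd hnes ⟨M, hM⟩ hle
    rw [hΦ] at hmem
    simp only [List.mem_cons, Prod.mk.injEq, List.not_mem_nil, or_false] at hmem
    rcases hmem with ⟨rfl, rfl, hv⟩ | ⟨rfl, rfl, hv⟩ | ⟨rfl, rfl, hv⟩ | ⟨rfl, rfl, hv⟩ |
      ⟨rfl, rfl, hv⟩ | ⟨rfl, rfl, hv⟩ <;>
    first
    | exact h2 ⟨rfl, by decide⟩
    | exact h3 ⟨rfl, by decide⟩
    | exact h4 ⟨rfl, rfl⟩
    | (norm_cast at hv
       rcases h with h | h <;> (rw [h] at hv; omega))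

/-- Let q, n ≥ 2 be integers. Unless (n = 2 and q + 1 = 2^s·3^t for some s ≥ 0 and t ≤ 1), or (q = 2 and n ∈ {4, 6, 10, 12, 18}), or (q = 3 and n ∈ {4, 6}), or (q, n) = (5, 6), there is a prime p dividing q^n − 1 but no q^i − 1 with 1 ≤ i < n (a primitive prime divisor), such that p > n + 1 or p² divides q^n − 1. -/
theorem result (q n : ℕ) (hq : 2 ≤ q) (hn : 2 ≤ n)
    (h1 : ¬ (n = 2 ∧ ∃ s t : ℕ, t ≤ 1 ∧ q + 1 = 2 ^ s * 3 ^ t))
    (h2 : ¬ (q = 2 ∧ (n = 4 ∨ n = 6 ∨ n = 10 ∨ n = 12 ∨ n = 18)))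
    (h3 : ¬ (q = 3 ∧ (n = 4 ∨ n = 6))) (h4 : ¬ (q = 5 ∧ n = 6)) :
    ∃ p : ℕ, p.Prime ∧ p ∣ q ^ n - 1 ∧ (∀ i : ℕ, 1 ≤ i → i < n → ¬ p ∣ q ^ i - 1) ∧ (n + 1 < p ∨ p ^ 2 ∣ q ^ n - 1) := by
  rcases Nat.lt_or_ge n 3 with h | h
  · have hn2 : n = 2 := by omega
    subst hn2
    exact case_two q hq (fun hex => h1 ⟨rfl, hex⟩)
  · exact case_ge3 q n hq h h2 h3 h4

end Cfsg.Agent.S3430
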