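import Mathlib
import Cfsg.Statements.S3437
import Cfsg.Agent.Lib.Helper17.AffineSpec
import Cfsg.Agent.Lib.Helper17.BinOct13

set_option autoImplicit false
open Cfsg

namespace Cfsg.Agent.S3437

open Matrix Polynomial
open Cfsg.Agent.Lib.Helper17.AffineSpec Cfsg.Agent.Lib.Helper17.BinOct13

/-- The common spectrum. -/
def SP : Set ℕ := {1, 2, 3, 4, 6, 8, 13}

theorem mem_SP_of_dvd (o : ℕ) (h : o ∣ 13 ∨ o ∣ 8 ∨ o ∣ 6) : o ∈ SP := by
  unfold SP
  rcases h with h | h | h
  · have hpos : 0 < o := Nat.pos_of_dvd_of_pos h (by norm_num)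
    have hle : o ≤ 13 := Nat.le_of_dvd (by norm_num) h
    interval_cases o <;> first | (simp; done) | (exfalso; omega)
  · have hpos : 0 < o := Nat.pos_of_dvd_of_pos h (by norm_num)
    have hle : o ≤ 8 := Nat.le_of_dvd (by norm_num) h
    interval_cases o <;> first | (simp; done) | (exfalso; omega)
  · have hpos : 0 < o := Nat.pos_of_dvd_of_pos h (by norm_num)
    have hle : o ≤ 6 := Nat.le_of_dvd (by norm_num) h
    interval_cases o <;> first | (simp; done) | (exfalso; omega)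

section field

variable {F : Type*} [Field F] [Fintype F]

theorem three_eq_zero (hF : Fintype.card F = 3) : (3 : F) = 0 := by
  have : Fact (Nat.Prime 3) := ⟨Nat.prime_three⟩
  have := charP_of_card_eq_prime hF
  exact_mod_cast CharP.cast_eq_zero F 3

theorem elts (hF : Fintype.card F = 3) (x : F) : x = 0 ∨ x = 1 ∨ x = -1 := by
  classical
  have h3 : (3 : F) = 0 := three_eq_zero hF
  have h01 : (0 : F) ≠ 1 := zero_ne_one
  have h1m : (1 : F) ≠ -1 := by
    intro h
    have : (1 : F) = 0 := by linear_combination h3 - h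
    exact one_ne_zero this
  have h0m : (0 : F) ≠ -1 := by
    intro h
    have : (1 : F) = 0 := by linear_combination h
    exact one_ne_zero this
  have hs : ({0, 1, -1} : Finset F).card = 3 :=
    Finset.card_eq_three.mpr ⟨0, 1, -1, h01, h0m, h1m, rfl⟩
  have hu : ({0, 1, -1} : Finset F) = Finset.univ :=
    Finset.eq_univ_of_card _ (by rw [hs, hF])
  have hx : x ∈ ({0, 1, -1} : Finset F) := by rw [hu]; exact Finset.mem_univ x
  simpa using hx

theorem charpoly_form (M : Matrix (Fin 3) (Fin 3) F) (hdet : M.det = 1) :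
    ∃ a b : F, M.charpoly = X ^ 3 + C a * X ^ 2 + C b * X + C (-1) := by
  have hm := M.charpoly_monic
  have hd : M.charpoly.natDegree = 3 := by
    rw [Matrix.charpoly_natDegree_eq_dim]; simp
  have h0 : M.charpoly.coeff 0 = -1 := by
    have h := Matrix.det_eq_sign_charpoly_coeff M
    rw [hdet, Fintype.card_fin] at h
    linear_combination h
  refine ⟨M.charpoly.coeff 2, M.charpoly.coeff 1, ?_⟩
  conv_lhs => rw [hm.as_sum, hd]
  simp only [Finset.sum_range_succ, Finset.sum_range_zero, h0, pow_zero, pow_one, mul_one,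
    zero_add]
  ring

theorem sl3_pow (hF : Fintype.card F = 3) (M : Matrix (Fin 3) (Fin 3) F) (hdet : M.det = 1) :
    M ^ 13 = 1 ∨ M ^ 8 = 1 ∨ M ^ 6 = 1 := by
  have h3F : (3 : F) = 0 := three_eq_zero hF
  have h3 : (3 : F[X]) = 0 := by
    have h : (C (3 : F) : F[X]) = 0 := by rw [h3F, map_zero]
    rwa [map_ofNat] at h
  obtain ⟨a, b, hP⟩ := charpoly_form M hdet
  have hae : aeval M (X ^ 3 + C a * X ^ 2 + C b * X + C (-1) : F[X]) = 0 := by
    rw [← hP]; exact Matrix.aeval_self_charpoly M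
  have fin : ∀ (N : ℕ) (Q : F[X]),
      (X ^ N - 1 : F[X]) = (X ^ 3 + C a * X ^ 2 + C b * X + C (-1)) * Q → M ^ N = 1 := by
    intro N Q h
    have h' := congrArg (aeval M) h
    rw [map_mul, hae, zero_mul, map_sub, map_pow, aeval_X, map_one] at h'
    exact sub_eq_zero.mp h'
  rcases elts hF a with rfl | rfl | rfl <;> rcases elts hF b with rfl | rfl | rfl
  · right; right
    refine fin 6 (1 + X ^ 3) ?_
    simp only [map_zero, map_one, map_neg]
    linear_combination (0 : F[X]) * h3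
  · right; left
    refine fin 8 (1 + X + X ^ 2 - X ^ 3 + X ^ 5) ?_
    simp only [map_zero, map_one, map_neg]
    linear_combination (-X ^ 3 : F[X]) * h3
  · left
    refine fin 13 (1 - X + X ^ 2 - X ^ 4 - X ^ 5 + X ^ 6 + X ^ 7 + X ^ 8 + X ^ 10) ?_
    simp only [map_zero, map_one, map_neg]
    linear_combination (-X ^ 5 + X ^ 7 + X ^ 8 : F[X]) * h3
  · left
    refine fin 13 (1 + X ^ 2 + X ^ 3 + X ^ 4 - X ^ 5 - X ^ 6 + X ^ 8 - X ^ 9 + X ^ 10) ?_
    simp only [map_zero, map_one, map_neg]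
    linear_combination (-X ^ 5 - X ^ 6 + X ^ 8 : F[X]) * h3
  · left
    refine fin 13 (1 + X - X ^ 2 + X ^ 3 + X ^ 4 + X ^ 5 - X ^ 7 - X ^ 9 + X ^ 10) ?_
    simp only [map_zero, map_one, map_neg]
    linear_combination (-X ^ 2 - X ^ 6 - X ^ 7 + X ^ 10 : F[X]) * h3
  · right; right
    refine fin 6 (1 - X - X ^ 2 + X ^ 3) ?_
    simp only [map_zero, map_one, map_neg]
    linear_combination (-X ^ 2 + X ^ 4 : F[X]) * h3
  · right; left
    refine fin 8 (1 - X ^ 2 + X ^ 3 + X ^ 4 + X ^ 5) ?_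
    simp only [map_zero, map_one, map_neg]
    linear_combination (X ^ 5 : F[X]) * h3
  · right; left
    refine fin 8 (1 + X + X ^ 4 + X ^ 5) ?_
    simp only [map_zero, map_one, map_neg]
    linear_combination (0 : F[X]) * h3
  · left
    refine fin 13 (1 - X - X ^ 3 + X ^ 5 + X ^ 6 + X ^ 7 - X ^ 8 + X ^ 9 + X ^ 10) ?_
    simp only [map_zero, map_one, map_neg]
    linear_combination (-X ^ 3 + X ^ 6 + X ^ 7 + X ^ 11 : F[X]) * h3

/-- 3×3 matrices over `ZMod 3`. -/
abbrev M3 := Matrix (Fin 3) (Fin 3) (ZMod 3)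

def m13 : M3 := !![0, 0, 1; 1, 0, 1; 0, 1, 0]
def m13_2 : M3 := !![0, 1, 0; 0, 1, 1; 1, 0, 1]
def m13_4 : M3 := !![0, 1, 1; 1, 1, 2; 1, 1, 1]
def m13_8 : M3 := !![2, 2, 0; 0, 1, 2; 2, 0, 1]
def m13_12 : M3 := !![2, 1, 0; 0, 0, 1; 1, 0, 0]
def m8 : M3 := !![0, 0, 1; 1, 0, 2; 0, 1, 0]
def m8_2 : M3 := !![0, 1, 0; 0, 2, 1; 1, 0, 2]
def m8_4 : M3 := !![0, 2, 1; 1, 1, 1; 2, 1, 1]
def m6 : M3 := !![0, 0, 1; 1, 0, 1; 0, 1, 2]
def m6_2 : M3 := !![0, 1, 2; 0, 1, 0; 1, 2, 2]
def m6_3 : M3 := !![1, 2, 2; 1, 0, 1; 2, 2, 1]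

theorem m13_a : m13 * m13 = m13_2 := by decide +kernel
theorem m13_b : m13_2 * m13_2 = m13_4 := by decide +kernel
theorem m13_c : m13_4 * m13_4 = m13_8 := by decide +kernel
theorem m13_d : m13_8 * m13_4 = m13_12 := by decide +kernel
theorem m13_e : m13_12 * m13 = 1 := by decide +kernel
theorem m13_ne : m13 ≠ 1 := by decide +kernel
theorem m13_det : m13.det = 1 := by rw [Matrix.det_fin_three]; decide +kernel
theorem m8_a : m8 * m8 = m8_2 := by decide +kernel
theorem m8_b : m8_2 * m8_2 = m8_4 := by decide +kernel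
theorem m8_c : m8_4 * m8_4 = 1 := by decide +kernel
theorem m8_4_ne : m8_4 ≠ 1 := by decide +kernel
theorem m8_det : m8.det = 1 := by rw [Matrix.det_fin_three]; decide +kernel
theorem m6_a : m6 * m6 = m6_2 := by decide +kernel
theorem m6_b : m6_2 * m6 = m6_3 := by decide +kernel
theorem m6_c : m6_3 * m6_3 = 1 := by decide +kernel
theorem m6_2_ne : m6_2 ≠ 1 := by decide +kernel
theorem m6_3_ne : m6_3 ≠ 1 := by decide +kernel
theorem m6_det : m6.det = 1 := by rw [Matrix.det_fin_three]; decide +kernel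

theorem m13_pow : m13 ^ 13 = 1 := by
  have h2 : m13 ^ 2 = m13_2 := by rw [pow_two, m13_a]
  have h4 : m13 ^ 4 = m13_4 := by
    have h : m13 ^ 4 = (m13 ^ 2) ^ 2 := by rw [← pow_mul]
    rw [h, h2, pow_two, m13_b]
  have h8 : m13 ^ 8 = m13_8 := by
    have h : m13 ^ 8 = (m13 ^ 4) ^ 2 := by rw [← pow_mul]
    rw [h, h4, pow_two, m13_c]
  have h12 : m13 ^ 12 = m13_12 := by
    have h : m13 ^ 12 = m13 ^ 8 * m13 ^ 4 := by rw [← pow_add]
    rw [h, h8, h4, m13_d]
  have h : m13 ^ 13 = m13 ^ 12 * m13 := by rw [← pow_succ]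
  rw [h, h12, m13_e]

theorem m8_pow2 : m8 ^ 2 = m8_2 := by rw [pow_two, m8_a]
theorem m8_pow4 : m8 ^ 4 = m8_4 := by
  have h : m8 ^ 4 = (m8 ^ 2) ^ 2 := by rw [← pow_mul]
  rw [h, m8_pow2, pow_two, m8_b]
theorem m8_pow8 : m8 ^ 8 = 1 := by
  have h : m8 ^ 8 = (m8 ^ 4) ^ 2 := by rw [← pow_mul]
  rw [h, m8_pow4, pow_two, m8_c]
theorem m6_pow2 : m6 ^ 2 = m6_2 := by rw [pow_two, m6_a]
theorem m6_pow3 : m6 ^ 3 = m6_3 := by rw [pow_succ, m6_pow2, m6_b]
theorem m6_pow6 : m6 ^ 6 = 1 := by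
  have h : m6 ^ 6 = (m6 ^ 3) ^ 2 := by rw [← pow_mul]
  rw [h, m6_pow3, pow_two, m6_c]

theorem orderOf_m13 : orderOf m13 = 13 := by
  have : Fact (Nat.Prime 13) := ⟨by norm_num⟩
  exact orderOf_eq_prime m13_pow m13_ne
theorem orderOf_m8 : orderOf m8 = 8 :=
  orderOf_eq_eight m8 m8_pow8 (by rw [m8_pow4]; exact m8_4_ne)
theorem orderOf_m6 : orderOf m6 = 6 :=
  orderOf_eq_six m6 m6_pow6 (by rw [m6_pow2]; exact m6_2_ne) (by rw [m6_pow3]; exact m6_3_ne)

theorem orderOf_SL_eq {R : Type*} [CommRing R] (g : Matrix.SpecialLinearGroup (Fin 3) R) :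
    orderOf g = orderOf (g : Matrix (Fin 3) (Fin 3) R) :=
  orderOf_eq_orderOf_iff.mpr fun n => by
    constructor
    · intro h
      have h1 := congrArg
        (fun z : Matrix.SpecialLinearGroup (Fin 3) R => (z : Matrix (Fin 3) (Fin 3) R)) h
      simpa using h1
    · intro h
      apply Subtype.ext
      simpa using h

def s13 : Matrix.SpecialLinearGroup (Fin 3) (ZMod 3) := ⟨m13, m13_det⟩
def s8 : Matrix.SpecialLinearGroup (Fin 3) (ZMod 3) := ⟨m8, m8_det⟩
def s6 : Matrix.SpecialLinearGroup (Fin 3) (ZMod 3) := ⟨m6, m6_det⟩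

theorem ord_s13 : orderOf s13 = 13 := by rw [orderOf_SL_eq]; exact orderOf_m13
theorem ord_s8 : orderOf s8 = 8 := by rw [orderOf_SL_eq]; exact orderOf_m8
theorem ord_s6 : orderOf s6 = 6 := by rw [orderOf_SL_eq]; exact orderOf_m6

theorem ord_pow {G : Type*} [Monoid G] (x : G) (a k b : ℕ) (hx : orderOf x = a) (hk : k ≠ 0)
    (hb : a / Nat.gcd a k = b) : orderOf (x ^ k) = b := by
  rw [orderOf_pow' x hk, hx, hb]

theorem map_inj {R S : Type*} [CommRing R] [CommRing S] (φ : R →+* S)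
    (hφ : Function.Injective φ) :
    Function.Injective (Matrix.SpecialLinearGroup.map (n := Fin 3) φ) := by
  intro x y h
  apply Subtype.ext
  ext i j
  have h1 := congrArg
    (fun z : Matrix.SpecialLinearGroup (Fin 3) S => (z : Matrix (Fin 3) (Fin 3) S) i j) h
  simp only [Matrix.SpecialLinearGroup.map_apply_coe, RingHom.mapMatrix_apply, Matrix.map_apply] at h1
  exact hφ h1

theorem exists_SL_order (hF : Fintype.card F = 3) (n : ℕ) (hn : n ∈ SP) :
    ∃ g : Matrix.SpecialLinearGroup (Fin 3) F, orderOf g = n := by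
  have : Fact (Nat.Prime 3) := ⟨Nat.prime_three⟩
  have := charP_of_card_eq_prime hF
  let φ : ZMod 3 →+* F := ZMod.castHom (dvd_refl 3) F
  have hφ : Function.Injective φ := φ.injective
  have hψ : Function.Injective (Matrix.SpecialLinearGroup.map (n := Fin 3) φ) := map_inj φ hφ
  have key : ∀ x : Matrix.SpecialLinearGroup (Fin 3) (ZMod 3),
      orderOf (Matrix.SpecialLinearGroup.map (n := Fin 3) φ x) = orderOf x :=
    fun x => orderOf_injective _ hψ x
  unfold SP at hn
  simp only [Set.mem_insert_iff, Set.mem_singleton_iff] at hn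
  rcases hn with rfl | rfl | rfl | rfl | rfl | rfl | rfl
  · exact ⟨1, orderOf_one⟩
  · exact ⟨Matrix.SpecialLinearGroup.map φ (s8 ^ 4), by
      rw [key]; exact ord_pow s8 8 4 2 ord_s8 (by norm_num) (by norm_num)⟩
  · exact ⟨Matrix.SpecialLinearGroup.map φ (s6 ^ 2), by
      rw [key]; exact ord_pow s6 6 2 3 ord_s6 (by norm_num) (by norm_num)⟩
  · exact ⟨Matrix.SpecialLinearGroup.map φ (s8 ^ 2), by
      rw [key]; exact ord_pow s8 8 2 4 ord_s8 (by norm_num) (by norm_num)⟩
  · exact ⟨Matrix.SpecialLinearGroup.map φ s6, by rw [key]; exact ord_s6⟩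
  · exact ⟨Matrix.SpecialLinearGroup.map φ s8, by rw [key]; exact ord_s8⟩
  · exact ⟨Matrix.SpecialLinearGroup.map φ s13, by rw [key]; exact ord_s13⟩

theorem center_SL_eq_bot (hF : Fintype.card F = 3) :
    Subgroup.center (Matrix.SpecialLinearGroup (Fin 3) F) = ⊥ := by
  rw [eq_bot_iff]
  intro A hA
  rw [Matrix.SpecialLinearGroup.mem_center_iff] at hA
  obtain ⟨r, hr, hrA⟩ := hA
  rw [Fintype.card_fin] at hr
  have hr1 : r = 1 := by
    have h := FiniteField.pow_card r
    rw [hF, hr] at h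
    exact h.symm
  subst hr1
  rw [Subgroup.mem_bot]
  apply Subtype.ext
  rw [← hrA]
  simp

theorem spec_SL (hF : Fintype.card F = 3) :
    Set.range (orderOf : Matrix.SpecialLinearGroup (Fin 3) F → ℕ) = SP := by
  apply Set.eq_of_subset_of_subset
  · rintro _ ⟨g, rfl⟩
    rw [orderOf_SL_eq]
    rcases sl3_pow hF (g : Matrix (Fin 3) (Fin 3) F) g.2 with h | h | h
    · exact mem_SP_of_dvd _ (Or.inl (orderOf_dvd_of_pow_eq_one h))
    · exact mem_SP_of_dvd _ (Or.inr (Or.inl (orderOf_dvd_of_pow_eq_one h)))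
    · exact mem_SP_of_dvd _ (Or.inr (Or.inr (orderOf_dvd_of_pow_eq_one h)))
  · intro n hn
    obtain ⟨g, hg⟩ := exists_SL_order hF n hn
    exact ⟨g, hg⟩

theorem spec_PSL (hF : Fintype.card F = 3) :
    Set.range (orderOf : Matrix.ProjectiveSpecialLinearGroup (Fin 3) F → ℕ) = SP := by
  rw [← spec_SL hF]
  have hc := center_SL_eq_bot hF
  have hinj : Function.Injective
      (QuotientGroup.mk' (Subgroup.center (Matrix.SpecialLinearGroup (Fin 3) F))) := by
    rw [← MonoidHom.ker_eq_bot_iff, QuotientGroup.ker_mk', hc]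
  ext n
  constructor
  · rintro ⟨x, rfl⟩
    obtain ⟨g, rfl⟩ := QuotientGroup.mk'_surjective _ x
    exact ⟨g, (orderOf_injective _ hinj g).symm⟩
  · rintro ⟨g, rfl⟩
    exact ⟨QuotientGroup.mk' _ g, orderOf_injective _ hinj g⟩

end field

/-- The solvable group: `13^16 : 2O`. -/
abbrev HH : Type := Aff M4 K

def kA : K := ⟨uA, uA_mem⟩
def kB : K := ⟨uB, uB_mem⟩

theorem ordA : orderOf (SemidirectProduct.inr kA : HH) = 8 := by
  rw [orderOf_inr]; exact orderOf_gA
theorem ordB : orderOf (SemidirectProduct.inr kB : HH) = 6 := by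
  rw [orderOf_inr]; exact orderOf_gB

theorem thirteen_zero : ((13 : ℕ) : M4) = 0 := CharP.cast_eq_zero M4 13

theorem one_ne_zero_M4 : (1 : M4) ≠ 0 := by decide +kernel

def x13 : HH := SemidirectProduct.inl (Multiplicative.ofAdd (1 : M4))

theorem ord13 : orderOf x13 = 13 := by
  have : Fact (Nat.Prime 13) := ⟨by norm_num⟩
  apply orderOf_eq_prime
  · exact pow_eq_one_of_right_eq_one x13 (by simp [x13]) 13 thirteen_zero
  · intro h
    have h1 := congrArg SemidirectProduct.left h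
    simp only [x13, SemidirectProduct.left_inl, SemidirectProduct.one_left] at h1
    have h2 : Multiplicative.toAdd (Multiplicative.ofAdd (1 : M4)) = 0 := toAdd_eq_zero.mpr h1
    rw [toAdd_ofAdd] at h2
    exact one_ne_zero_M4 h2

theorem spec_HH : Set.range (orderOf : HH → ℕ) = SP := by
  apply Set.eq_of_subset_of_subset
  · rintro _ ⟨h, rfl⟩
    by_cases hr : h.right = 1
    · have h13 : h ^ 13 = 1 := pow_eq_one_of_right_eq_one h hr 13 thirteen_zero
      exact mem_SP_of_dvd _ (Or.inl (orderOf_dvd_of_pow_eq_one h13))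
    · have hk1 : (h.right : M4ˣ) ≠ 1 := fun e => hr (Subtype.ext e)
      obtain ⟨w, hw⟩ := K_fpf h.right.2 hk1
      have ho : orderOf h = orderOf ((h.right : M4ˣ) : M4) := by
        rw [orderOf_eq_of_fpf h w hw, orderOf_units, Subgroup.orderOf_coe]
      rw [ho]
      rcases K_pow h.right.2 with h8 | h6
      · exact mem_SP_of_dvd _ (Or.inr (Or.inl (orderOf_dvd_of_pow_eq_one h8)))
      · exact mem_SP_of_dvd _ (Or.inr (Or.inr (orderOf_dvd_of_pow_eq_one h6)))
  · intro n hn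
    unfold SP at hn
    simp only [Set.mem_insert_iff, Set.mem_singleton_iff] at hn
    rcases hn with rfl | rfl | rfl | rfl | rfl | rfl | rfl
    · exact ⟨1, orderOf_one⟩
    · exact ⟨(SemidirectProduct.inr kA : HH) ^ 4,
        ord_pow _ 8 4 2 ordA (by norm_num) (by norm_num)⟩
    · exact ⟨(SemidirectProduct.inr kB : HH) ^ 2,
        ord_pow _ 6 2 3 ordB (by norm_num) (by norm_num)⟩
    · exact ⟨(SemidirectProduct.inr kA : HH) ^ 2,
        ord_pow _ 8 2 4 ordA (by norm_num) (by norm_num)⟩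
    · exact ⟨SemidirectProduct.inr kB, ordB⟩
    · exact ⟨SemidirectProduct.inr kA, ordA⟩
    · exact ⟨x13, ord13⟩

/-- There is a finite solvable group with exactly the same set of element orders as the simple group PSL(3,3). -/
theorem result {F : Type*} [Field F] [Fintype F] (hF : Fintype.card F = 3) :
    ∃ (H : Type) (_ : Group H) (_ : Fintype H), Group.IsSolvable H ∧
      Set.range (orderOf : H → ℕ) = Set.range (orderOf : Matrix.ProjectiveSpecialLinearGroup (Fin 3) F → ℕ) := by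
  have hfin : Finite HH := Cfsg.Agent.Lib.Helper17.AffineSpec.finite
  have hsol : Group.IsSolvable K := K_solvable
  refine ⟨HH, inferInstance, Fintype.ofFinite HH, Cfsg.Agent.Lib.Helper17.AffineSpec.isSolvable, ?_⟩
  rw [spec_HH, spec_PSL hF]

end Cfsg.Agent.S3437
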