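import Mathlib
import Cfsg.Statements.S3438
import Cfsg.Agent.Lib.Helper17.AffineSpec
import Cfsg.Agent.Lib.Helper17.C3C8mod7
import Cfsg.Agent.S3437

set_option autoImplicit false
open Cfsg

namespace Cfsg.Agent.S3438

open Matrix Polynomial
open Cfsg.Agent.Lib.Helper17.AffineSpec Cfsg.Agent.Lib.Helper17.C3C8mod7

/-- The common spectrum. -/
def SP : Set ℕ := {1, 2, 3, 4, 6, 7, 8, 12}

theorem mem_SP_of_dvd (o : ℕ) (h : o ∣ 7 ∨ o ∣ 8 ∨ o ∣ 12) : o ∈ SP := by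
  unfold SP
  rcases h with h | h | h
  · have hpos : 0 < o := Nat.pos_of_dvd_of_pos h (by norm_num)
    have hle : o ≤ 7 := Nat.le_of_dvd (by norm_num) h
    interval_cases o <;> first | (simp; done) | (exfalso; omega)
  · have hpos : 0 < o := Nat.pos_of_dvd_of_pos h (by norm_num)
    have hle : o ≤ 8 := Nat.le_of_dvd (by norm_num) h
    interval_cases o <;> first | (simp; done) | (exfalso; omega)
  · have hpos : 0 < o := Nat.pos_of_dvd_of_pos h (by norm_num)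
    have hle : o ≤ 12 := Nat.le_of_dvd (by norm_num) h
    interval_cases o <;> first | (simp; done) | (exfalso; omega)

/-- The model `𝔽₃[ω]/(ω² = -1)` of the field with 9 elements. -/
abbrev R9 := QuadraticAlgebra (ZMod 3) (-1) 0

instance instFactR9 : Fact (∀ r : ZMod 3, r ^ 2 ≠ (-1 : ZMod 3) + 0 * r) := ⟨by decide⟩

/-- 3×3 matrices over `R9`. -/
abbrev MR := Matrix (Fin 3) (Fin 3) R9

def e7 : MR := !![⟨0, 0⟩, ⟨2, 2⟩, ⟨2, 1⟩; ⟨0, 0⟩, ⟨1, 2⟩, ⟨1, 1⟩; ⟨0, 1⟩, ⟨0, 0⟩, ⟨0, 0⟩]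
def e7_2 : MR := !![⟨2, 2⟩, ⟨1, 0⟩, ⟨0, 1⟩; ⟨2, 1⟩, ⟨0, 1⟩, ⟨2, 0⟩; ⟨0, 0⟩, ⟨1, 2⟩, ⟨2, 2⟩]
def e7_4 : MR := !![⟨2, 0⟩, ⟨0, 1⟩, ⟨1, 1⟩; ⟨1, 2⟩, ⟨0, 2⟩, ⟨0, 2⟩; ⟨0, 2⟩, ⟨2, 1⟩, ⟨2, 0⟩]
def e7_6 : MR := !![⟨0, 0⟩, ⟨0, 0⟩, ⟨0, 2⟩; ⟨2, 1⟩, ⟨1, 1⟩, ⟨0, 0⟩; ⟨2, 2⟩, ⟨1, 2⟩, ⟨0, 0⟩]
def e8 : MR := !![⟨0, 0⟩, ⟨0, 0⟩, ⟨0, 1⟩; ⟨0, 0⟩, ⟨0, 1⟩, ⟨0, 0⟩; ⟨1, 0⟩, ⟨0, 0⟩, ⟨0, 0⟩]
def e8_2 : MR := !![⟨0, 1⟩, ⟨0, 0⟩, ⟨0, 0⟩; ⟨0, 0⟩, ⟨2, 0⟩, ⟨0, 0⟩; ⟨0, 0⟩, ⟨0, 0⟩, ⟨0, 1⟩]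
def e8_4 : MR := !![⟨2, 0⟩, ⟨0, 0⟩, ⟨0, 0⟩; ⟨0, 0⟩, ⟨1, 0⟩, ⟨0, 0⟩; ⟨0, 0⟩, ⟨0, 0⟩, ⟨2, 0⟩]
def e12 : MR := !![⟨2, 0⟩, ⟨0, 0⟩, ⟨0, 0⟩; ⟨0, 0⟩, ⟨2, 1⟩, ⟨1, 2⟩; ⟨0, 0⟩, ⟨1, 1⟩, ⟨1, 1⟩]
def e12_2 : MR := !![⟨1, 0⟩, ⟨0, 0⟩, ⟨0, 0⟩; ⟨0, 0⟩, ⟨2, 1⟩, ⟨2, 2⟩; ⟨0, 0⟩, ⟨1, 2⟩, ⟨2, 2⟩]
def e12_4 : MR := !![⟨1, 0⟩, ⟨0, 0⟩, ⟨0, 0⟩; ⟨0, 0⟩, ⟨1, 1⟩, ⟨2, 2⟩; ⟨0, 0⟩, ⟨1, 2⟩, ⟨1, 2⟩]
def e12_6 : MR := !![⟨1, 0⟩, ⟨0, 0⟩, ⟨0, 0⟩; ⟨0, 0⟩, ⟨2, 0⟩, ⟨0, 0⟩; ⟨0, 0⟩, ⟨0, 0⟩, ⟨2, 0⟩]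
def P0 : MR := !![⟨0, 0⟩, ⟨0, 0⟩, ⟨1, 0⟩; ⟨1, 0⟩, ⟨0, 0⟩, ⟨0, 0⟩; ⟨0, 0⟩, ⟨1, 0⟩, ⟨0, 0⟩]

set_option maxRecDepth 100000 in
theorem e7_a : e7 * e7 = e7_2 := by decide +kernel
set_option maxRecDepth 100000 in
theorem e7_b : e7_2 * e7_2 = e7_4 := by decide +kernel
set_option maxRecDepth 100000 in
theorem e7_c : e7_4 * e7_2 = e7_6 := by decide +kernel
set_option maxRecDepth 100000 in
theorem e7_d : e7_6 * e7 = 1 := by decide +kernel
set_option maxRecDepth 100000 in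
theorem e7_det : e7.det = 1 := by rw [Matrix.det_fin_three]; decide +kernel
set_option maxRecDepth 100000 in
theorem e7_U : e7ᵀ * e7.map (fun x => x ^ 3) = 1 := by decide +kernel
set_option maxRecDepth 100000 in
theorem e7_nc : e7 * P0 ≠ P0 * e7 := by decide +kernel
set_option maxRecDepth 100000 in
theorem e8_a : e8 * e8 = e8_2 := by decide +kernel
set_option maxRecDepth 100000 in
theorem e8_b : e8_2 * e8_2 = e8_4 := by decide +kernel
set_option maxRecDepth 100000 in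
theorem e8_c : e8_4 * e8_4 = 1 := by decide +kernel
set_option maxRecDepth 100000 in
theorem e8_det : e8.det = 1 := by rw [Matrix.det_fin_three]; decide +kernel
set_option maxRecDepth 100000 in
theorem e8_U : e8ᵀ * e8.map (fun x => x ^ 3) = 1 := by decide +kernel
set_option maxRecDepth 100000 in
theorem e8_nc : e8_4 * P0 ≠ P0 * e8_4 := by decide +kernel
set_option maxRecDepth 100000 in
theorem e12_a : e12 * e12 = e12_2 := by decide +kernel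
set_option maxRecDepth 100000 in
theorem e12_b : e12_2 * e12_2 = e12_4 := by decide +kernel
set_option maxRecDepth 100000 in
theorem e12_c : e12_4 * e12_2 = e12_6 := by decide +kernel
set_option maxRecDepth 100000 in
theorem e12_d : e12_6 * e12_6 = 1 := by decide +kernel
set_option maxRecDepth 100000 in
theorem e12_det : e12.det = 1 := by rw [Matrix.det_fin_three]; decide +kernel
set_option maxRecDepth 100000 in
theorem e12_U : e12ᵀ * e12.map (fun x => x ^ 3) = 1 := by decide +kernel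
set_option maxRecDepth 100000 in
theorem e12_nc4 : e12_4 * P0 ≠ P0 * e12_4 := by decide +kernel
set_option maxRecDepth 100000 in
theorem e12_nc6 : e12_6 * P0 ≠ P0 * e12_6 := by decide +kernel
set_option maxRecDepth 100000 in
theorem P0_det : P0.det = 1 := by rw [Matrix.det_fin_three]; decide +kernel
set_option maxRecDepth 100000 in
theorem P0_U : P0ᵀ * P0.map (fun x => x ^ 3) = 1 := by decide +kernel

theorem e7_pow7 : e7 ^ 7 = 1 := by
  have h2 : e7 ^ 2 = e7_2 := by rw [pow_two, e7_a]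
  have h4 : e7 ^ 4 = e7_4 := by
    have h : e7 ^ 4 = (e7 ^ 2) ^ 2 := by rw [← pow_mul]
    rw [h, h2, pow_two, e7_b]
  have h6 : e7 ^ 6 = e7_6 := by
    have h : e7 ^ 6 = e7 ^ 4 * e7 ^ 2 := by rw [← pow_add]
    rw [h, h4, h2, e7_c]
  have h : e7 ^ 7 = e7 ^ 6 * e7 := by rw [← pow_succ]
  rw [h, h6, e7_d]

theorem e8_pow4 : e8 ^ 4 = e8_4 := by
  have h2 : e8 ^ 2 = e8_2 := by rw [pow_two, e8_a]
  have h : e8 ^ 4 = (e8 ^ 2) ^ 2 := by rw [← pow_mul]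
  rw [h, h2, pow_two, e8_b]

theorem e8_pow8 : e8 ^ 8 = 1 := by
  have h : e8 ^ 8 = (e8 ^ 4) ^ 2 := by rw [← pow_mul]
  rw [h, e8_pow4, pow_two, e8_c]

theorem e12_pow2 : e12 ^ 2 = e12_2 := by rw [pow_two, e12_a]

theorem e12_pow4 : e12 ^ 4 = e12_4 := by
  have h : e12 ^ 4 = (e12 ^ 2) ^ 2 := by rw [← pow_mul]
  rw [h, e12_pow2, pow_two, e12_b]

theorem e12_pow6 : e12 ^ 6 = e12_6 := by
  have h : e12 ^ 6 = e12 ^ 4 * e12 ^ 2 := by rw [← pow_add]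
  rw [h, e12_pow4, e12_pow2, e12_c]

theorem e12_pow12 : e12 ^ 12 = 1 := by
  have h : e12 ^ 12 = (e12 ^ 6) ^ 2 := by rw [← pow_mul]
  rw [h, e12_pow6, pow_two, e12_d]

theorem enumR9 : ∀ s t : ZMod 3,
    (⟨s, t⟩ : R9) = 0 ∨ (⟨s, t⟩ : R9) = 1 ∨ (⟨s, t⟩ : R9) = -1 ∨ (⟨s, t⟩ : R9) = ⟨0, 1⟩ ∨
    (⟨s, t⟩ : R9) = -⟨0, 1⟩ ∨ (⟨s, t⟩ : R9) = 1 + ⟨0, 1⟩ ∨ (⟨s, t⟩ : R9) = 1 - ⟨0, 1⟩ ∨
    (⟨s, t⟩ : R9) = -1 + ⟨0, 1⟩ ∨ (⟨s, t⟩ : R9) = -1 - ⟨0, 1⟩ := by decide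

theorem omega_sq : (⟨0, 1⟩ : R9) * ⟨0, 1⟩ = -1 := by decide

section field

variable {F : Type*} [Field F] [Fintype F] [CharP F 3]

theorem herm_eq (u v : Fin 3 → F) : hermForm 3 F 3 u v = u ⬝ᵥ (frobenius F 3 ∘ v) := by
  simp [hermForm, dotProduct, frobenius_def]

theorem herm_mulVec (M : Matrix (Fin 3) (Fin 3) F) (u v : Fin 3 → F) :
    hermForm 3 F 3 (M *ᵥ u) (M *ᵥ v)
      = u ⬝ᵥ ((Mᵀ * M.map (frobenius F 3)) *ᵥ (frobenius F 3 ∘ v)) := by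
  have h2 : frobenius F 3 ∘ (M *ᵥ v) = M.map (frobenius F 3) *ᵥ (frobenius F 3 ∘ v) := by
    funext i; exact RingHom.map_mulVec (frobenius F 3) M v i
  rw [herm_eq, h2, ← Matrix.mulVec_mulVec, Matrix.dotProduct_mulVec u, Matrix.vecMul_transpose]

theorem mem_SU_iff (g : Matrix.SpecialLinearGroup (Fin 3) F) :
    g ∈ SU 3 F 3 ↔ (g.val)ᵀ * (g.val).map (frobenius F 3) = 1 := by
  have hto : slToMat 3 F g = g.val := rfl
  constructor
  · intro hg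
    have hg' : ∀ u v, hermForm 3 F 3 (g.val *ᵥ u) (g.val *ᵥ v) = hermForm 3 F 3 u v := by
      intro u v
      have := hg u v
      rwa [hto] at this
    ext i j
    have h := hg' (Pi.single i 1) (Pi.single j 1)
    rw [herm_mulVec, herm_eq] at h
    have hs : frobenius F 3 ∘ (Pi.single j (1 : F)) = Pi.single j 1 := by
      funext k
      by_cases hk : k = j
      · subst hk; simp
      · simp [hk]
    rw [hs, Matrix.mulVec_single_one, single_one_dotProduct, single_one_dotProduct] at h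
    have h2 : (g.valᵀ * g.val.map (frobenius F 3)) i j = (Pi.single j (1:F) : Fin 3 → F) i := by
      simpa [Matrix.col_apply] using h
    rw [h2, Matrix.one_apply, Pi.single_apply]
  · intro hU u v
    rw [hto, herm_mulVec, hU, Matrix.one_mulVec, herm_eq]

theorem su3_rel (M : Matrix (Fin 3) (Fin 3) F) (hdet : M.det = 1)
    (hU : Mᵀ * M.map (frobenius F 3) = 1) (a b : F)
    (hP : M.charpoly = X ^ 3 + C a * X ^ 2 + C b * X + C (-1)) : M = 1 ∨ b = -a ^ 3 := by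
  have hae : aeval M (X ^ 3 + C a * X ^ 2 + C b * X + C (-1) : F[X]) = 0 := by
    rw [← hP]; exact Matrix.aeval_self_charpoly M
  have E1 : M ^ 3 + a • M ^ 2 + b • M - 1 = 0 := by
    have h := hae
    simp only [map_add, map_mul, map_pow, aeval_X, aeval_C, Algebra.algebraMap_eq_smul_one,
      smul_mul_assoc, one_mul, map_neg, map_one] at h
    rw [← h]
    module
  have mk1 : Mᵀ * M.map (frobenius F 3) = 1 := hU
  have hsm : ∀ (c : F) (N : Matrix (Fin 3) (Fin 3) F),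
      (frobenius F 3).mapMatrix (c • N) = (c ^ 3) • (frobenius F 3).mapMatrix N := by
    intro c N; ext i j; simp [frobenius_def, mul_pow]
  have hΦ : (frobenius F 3).mapMatrix M = M.map (frobenius F 3) := rfl
  generalize hm : Mᵀ = m at mk1
  generalize hk : M.map (frobenius F 3) = k at mk1 hΦ
  have E1t : m ^ 3 + a • m ^ 2 + b • m - 1 = 0 := by
    have h := congrArg Matrix.transpose E1
    simp only [Matrix.transpose_add, Matrix.transpose_sub, Matrix.transpose_smul,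
      Matrix.transpose_pow, Matrix.transpose_one, Matrix.transpose_zero, hm] at h
    exact h
  have E2 : k ^ 3 + a ^ 3 • k ^ 2 + b ^ 3 • k - 1 = 0 := by
    have h := congrArg (frobenius F 3).mapMatrix E1
    simp only [map_add, map_sub, map_pow, map_one, map_zero, hsm, hΦ] at h
    exact h
  have p1 : m ^ 3 * k = m ^ 2 := by rw [pow_succ m 2, mul_assoc, mk1, mul_one]
  have p2 : m ^ 3 * k ^ 2 = m := by
    rw [pow_two k, ← mul_assoc, p1, pow_two, mul_assoc, mk1, mul_one]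
  have p3 : m ^ 3 * k ^ 3 = 1 := by rw [pow_succ k 2, ← mul_assoc, p2, mk1]
  have E3 : 1 + a ^ 3 • m + b ^ 3 • m ^ 2 - m ^ 3 = 0 := by
    have h := congrArg (fun N => m ^ 3 * N) E2
    simp only [mul_add, mul_sub, mul_smul_comm, p1, p2, p3, mul_one, mul_zero] at h
    exact h
  have E4 : (a + b ^ 3) • m ^ 2 + (b + a ^ 3) • m = 0 := by
    have h : (m ^ 3 + a • m ^ 2 + b • m - 1) + (1 + a ^ 3 • m + b ^ 3 • m ^ 2 - m ^ 3) = 0 := by
      rw [E1t, E3, add_zero]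
    rw [← h]; module
  have q1 : m ^ 2 * k = m := by rw [pow_two, mul_assoc, mk1, mul_one]
  have E5 : (a + b ^ 3) • m + (b + a ^ 3) • (1 : Matrix (Fin 3) (Fin 3) F) = 0 := by
    have h := congrArg (fun N => N * k) E4
    simp only [add_mul, smul_mul_assoc, q1, mk1, zero_mul] at h
    exact h
  by_cases hc : a + b ^ 3 = 0
  · right
    rw [hc, zero_smul, zero_add] at E5
    have h00 := congrFun (congrFun E5 0) 0
    simp at h00
    linear_combination h00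
  · left
    have h1 : (a + b ^ 3) • m = (-(b + a ^ 3)) • (1 : Matrix (Fin 3) (Fin 3) F) := by
      rw [neg_smul]; exact eq_neg_of_add_eq_zero_left E5
    have hm1 : m = ((a + b ^ 3)⁻¹ * (-(b + a ^ 3))) • (1 : Matrix (Fin 3) (Fin 3) F) := by
      calc m = (a + b ^ 3)⁻¹ • ((a + b ^ 3) • m) := by
            rw [smul_smul, inv_mul_cancel₀ hc, one_smul]
        _ = _ := by rw [h1, smul_smul]
    generalize (a + b ^ 3)⁻¹ * (-(b + a ^ 3)) = l at hm1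
    have hM : M = l • (1 : Matrix (Fin 3) (Fin 3) F) := by
      have h := congrArg Matrix.transpose hm1
      rw [← hm, Matrix.transpose_transpose, Matrix.transpose_smul, Matrix.transpose_one] at h
      exact h
    have hl3 : l ^ 3 = 1 := by
      have h := hdet
      rw [hM, Matrix.det_smul, Fintype.card_fin, Matrix.det_one, mul_one] at h
      exact h
    have hl : l = 1 := by
      have h : (l - 1) ^ 3 = 0 := by rw [sub_pow_char, hl3, one_pow, sub_self]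
      exact sub_eq_zero.mp (pow_eq_zero_iff (by norm_num) |>.mp h)
    rw [hM, hl, one_smul]

theorem su3_pow (i : F) (hi : i * i = -1)
    (hen : ∀ a : F, a = 0 ∨ a = 1 ∨ a = -1 ∨ a = i ∨ a = -i ∨ a = 1 + i ∨ a = 1 - i ∨
      a = -1 + i ∨ a = -1 - i)
    (M : Matrix (Fin 3) (Fin 3) F) (hdet : M.det = 1)
    (hU : Mᵀ * M.map (frobenius F 3) = 1) : M ^ 7 = 1 ∨ M ^ 8 = 1 ∨ M ^ 12 = 1 := by
  obtain ⟨a, b, hP⟩ := Cfsg.Agent.S3437.charpoly_form M hdet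
  rcases su3_rel M hdet hU a b hP with h1 | hb
  · left; rw [h1, one_pow]
  subst hb
  have h3F : (3 : F) = 0 := by exact_mod_cast CharP.cast_eq_zero F 3
  have h3 : (3 : F[X]) = 0 := by
    have h : (C (3 : F) : F[X]) = 0 := by rw [h3F, map_zero]
    rwa [map_ofNat] at h
  have hI : (C i : F[X]) ^ 2 + 1 = 0 := by
    rw [pow_two, ← C_mul, hi]; simp
  have hae : aeval M (X ^ 3 + C a * X ^ 2 + C (-a ^ 3) * X + C (-1) : F[X]) = 0 := by
    rw [← hP]; exact Matrix.aeval_self_charpoly M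
  have fin : ∀ (N : ℕ) (Q : F[X]),
      (X ^ N - 1 : F[X]) = (X ^ 3 + C a * X ^ 2 + C (-a ^ 3) * X + C (-1)) * Q → M ^ N = 1 := by
    intro N Q h
    have h' := congrArg (aeval M) h
    rw [map_mul, hae, zero_mul, map_sub, map_pow, aeval_X, map_one] at h'
    exact sub_eq_zero.mp h'
  rcases hen a with h | h | h | h | h | h | h | h | h
  · right; right
    refine fin 12 (1 + X ^ 3 + X ^ 6 + X ^ 9) ?_
    simp only [h, map_add, map_sub, map_neg, map_one, map_zero, map_pow]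
    linear_combination (0 : F[X]) * h3 + (0 : F[X]) * hI
  · right; right
    refine fin 12 (1 - X - X ^ 2 + X ^ 3 + X ^ 6 - X ^ 7 - X ^ 8 + X ^ 9) ?_
    simp only [h, map_add, map_sub, map_neg, map_one, map_zero, map_pow]
    linear_combination (-X ^ 2 + X ^ 4 - X ^ 8 + X ^ 10 : F[X]) * h3 + (0 : F[X]) * hI
  · right; left
    refine fin 8 (1 + X + X ^ 4 + X ^ 5) ?_
    simp only [h, map_add, map_sub, map_neg, map_one, map_zero, map_pow]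
    linear_combination (0 : F[X]) * h3 + (0 : F[X]) * hI
  · right; left
    refine fin 8 (1 + X * C i - X ^ 2 + X ^ 2 * C i - X ^ 3 - X ^ 3 * C i - X ^ 4 * C i + X ^ 5) ?_
    simp only [h, map_add, map_sub, map_neg, map_one, map_zero, map_pow]
    linear_combination (0 : F[X]) * h3 + (X * C i - X ^ 2 + X ^ 2 * C i ^ 2 - 2 * X ^ 3 - X ^ 3 * C i + X ^ 3 * C i ^ 2 - X ^ 4 * C i - X ^ 4 * C i ^ 2 + 2 * X ^ 5 - X ^ 5 * C i ^ 2 + X ^ 6 + X ^ 6 * C i : F[X]) * hI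
  · right; left
    refine fin 8 (1 - X * C i - X ^ 2 - X ^ 2 * C i - X ^ 3 + X ^ 3 * C i + X ^ 4 * C i + X ^ 5) ?_
    simp only [h, map_add, map_sub, map_neg, map_one, map_zero, map_pow]
    linear_combination (0 : F[X]) * h3 + (-X * C i - X ^ 2 + X ^ 2 * C i ^ 2 - 2 * X ^ 3 + X ^ 3 * C i + X ^ 3 * C i ^ 2 + X ^ 4 * C i - X ^ 4 * C i ^ 2 + 2 * X ^ 5 - X ^ 5 * C i ^ 2 + X ^ 6 - X ^ 6 * C i : F[X]) * hI
  · right; right
    refine fin 12 (1 - X + X * C i + X ^ 2 - X ^ 2 * C i - X ^ 3 - X ^ 3 * C i + X ^ 4 * C i - X ^ 5 * C i - X ^ 6 + X ^ 6 * C i + X ^ 7 + X ^ 7 * C i - X ^ 8 - X ^ 8 * C i + X ^ 9) ?_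
    simp only [h, map_add, map_sub, map_neg, map_one, map_zero, map_pow]
    linear_combination (-X + X * C i - 2 * X ^ 2 * C i + X ^ 3 * C i + X ^ 4 - X ^ 5 + X ^ 6 + X ^ 6 * C i - X ^ 7 * C i - X ^ 8 + 2 * X ^ 9 - X ^ 9 * C i - X ^ 10 + X ^ 10 * C i : F[X]) * h3 + (3 * X + X * C i - X ^ 2 + 2 * X ^ 2 * C i + X ^ 2 * C i ^ 2 - 2 * X ^ 3 * C i - X ^ 3 * C i ^ 2 - 4 * X ^ 4 - 4 * X ^ 4 * C i - X ^ 4 * C i ^ 2 + 3 * X ^ 5 + 3 * X ^ 5 * C i + X ^ 5 * C i ^ 2 - 3 * X ^ 6 - 3 * X ^ 6 * C i - X ^ 6 * C i ^ 2 + 2 * X ^ 7 * C i + X ^ 7 * C i ^ 2 + 4 * X ^ 8 + 4 * X ^ 8 * C i + X ^ 8 * C i ^ 2 - 6 * X ^ 9 - 4 * X ^ 9 * C i - X ^ 9 * C i ^ 2 + 4 * X ^ 10 + X ^ 10 * C i : F[X]) * hI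
  · right; right
    refine fin 12 (1 - X - X * C i + X ^ 2 + X ^ 2 * C i - X ^ 3 + X ^ 3 * C i - X ^ 4 * C i + X ^ 5 * C i - X ^ 6 - X ^ 6 * C i + X ^ 7 - X ^ 7 * C i - X ^ 8 + X ^ 8 * C i + X ^ 9) ?_
    simp only [h, map_add, map_sub, map_neg, map_one, map_zero, map_pow]
    linear_combination (-X - X * C i + 2 * X ^ 2 * C i - X ^ 3 * C i + X ^ 4 - X ^ 5 + X ^ 6 - X ^ 6 * C i + X ^ 7 * C i - X ^ 8 + 2 * X ^ 9 + X ^ 9 * C i - X ^ 10 - X ^ 10 * C i : F[X]) * h3 + (3 * X - X * C i - X ^ 2 - 2 * X ^ 2 * C i + X ^ 2 * C i ^ 2 + 2 * X ^ 3 * C i - X ^ 3 * C i ^ 2 - 4 * X ^ 4 + 4 * X ^ 4 * C i - X ^ 4 * C i ^ 2 + 3 * X ^ 5 - 3 * X ^ 5 * C i + X ^ 5 * C i ^ 2 - 3 * X ^ 6 + 3 * X ^ 6 * C i - X ^ 6 * C i ^ 2 - 2 * X ^ 7 * C i + X ^ 7 * C i ^ 2 + 4 * X ^ 8 - 4 * X ^ 8 * C i + X ^ 8 * C i ^ 2 - 6 * X ^ 9 + 4 * X ^ 9 * C i - X ^ 9 * C i ^ 2 + 4 * X ^ 10 - X ^ 10 * C i : F[X]) * hI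
  · left
    refine fin 7 (1 + X + X * C i - X ^ 2 + X ^ 3 - X ^ 3 * C i + X ^ 4) ?_
    simp only [h, map_add, map_sub, map_neg, map_one, map_zero, map_pow]
    linear_combination (X + X * C i + X ^ 2 * C i - X ^ 3 * C i + X ^ 4 + X ^ 5 : F[X]) * h3 + (-3 * X + X * C i - X ^ 2 - 2 * X ^ 2 * C i + X ^ 2 * C i ^ 2 + 2 * X ^ 3 - X ^ 3 * C i - 5 * X ^ 4 + 4 * X ^ 4 * C i - X ^ 4 * C i ^ 2 - 2 * X ^ 5 + X ^ 5 * C i : F[X]) * hI
  · left
    refine fin 7 (1 + X - X * C i - X ^ 2 + X ^ 3 + X ^ 3 * C i + X ^ 4) ?_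
    simp only [h, map_add, map_sub, map_neg, map_one, map_zero, map_pow]
    linear_combination (X - X * C i - X ^ 2 * C i + X ^ 3 * C i + X ^ 4 + X ^ 5 : F[X]) * h3 + (-3 * X - X * C i - X ^ 2 + 2 * X ^ 2 * C i + X ^ 2 * C i ^ 2 + 2 * X ^ 3 + X ^ 3 * C i - 5 * X ^ 4 - 4 * X ^ 4 * C i - X ^ 4 * C i ^ 2 - 2 * X ^ 5 - X ^ 5 * C i : F[X]) * hI

theorem exists_phi (hF : Fintype.card F = 9) : ∃ φ : R9 →+* F, Function.Bijective φ := by
  have hsq : IsSquare (-1 : F) := FiniteField.isSquare_neg_one_iff.mpr (by rw [hF]; decide)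
  obtain ⟨i, hi⟩ := hsq
  letI := ZMod.algebra F 3
  let ψ : R9 →ₐ[ZMod 3] F := QuadraticAlgebra.lift ⟨i, by rw [← hi]; simp⟩
  refine ⟨ψ.toRingHom, ?_⟩
  have hinj : Function.Injective ψ.toRingHom := RingHom.injective _
  classical
  letI : Fintype R9 := Fintype.ofEquiv _ (QuadraticAlgebra.equivProd (-1 : ZMod 3) 0).symm
  refine (Fintype.bijective_iff_injective_and_card _).mpr ⟨hinj, ?_⟩
  rw [hF, Fintype.card_congr (QuadraticAlgebra.equivProd (-1 : ZMod 3) 0), Fintype.card_prod,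
    ZMod.card]

theorem exists_i_enum (hF : Fintype.card F = 9) :
    ∃ (φ : R9 →+* F) (i : F), Function.Injective φ ∧ i * i = -1 ∧
      ∀ a : F, a = 0 ∨ a = 1 ∨ a = -1 ∨ a = i ∨ a = -i ∨ a = 1 + i ∨ a = 1 - i ∨
        a = -1 + i ∨ a = -1 - i := by
  obtain ⟨φ, hφ⟩ := exists_phi hF
  refine ⟨φ, φ ⟨0, 1⟩, hφ.1, ?_, ?_⟩
  · rw [← map_mul, omega_sq, map_neg, map_one]
  · intro a
    obtain ⟨⟨s, t⟩, rfl⟩ := hφ.2 a
    rcases enumR9 s t with h | h | h | h | h | h | h | h | h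
    · left; rw [h, map_zero]
    · right; left; rw [h, map_one]
    · right; right; left; rw [h, map_neg, map_one]
    · right; right; right; left; rw [h]
    · right; right; right; right; left; rw [h, map_neg]
    · right; right; right; right; right; left; rw [h, map_add, map_one]
    · right; right; right; right; right; right; left; rw [h, map_sub, map_one]
    · right; right; right; right; right; right; right; left; rw [h, map_add, map_neg, map_one]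
    · right; right; right; right; right; right; right; right
      rw [h, map_sub, map_neg, map_one]

/-- Transfer of a matrix over `R9` to `SL₃(F)`. -/
def toSL (φ : R9 →+* F) (g0 : MR) (hdet : g0.det = 1) : Matrix.SpecialLinearGroup (Fin 3) F :=
  ⟨φ.mapMatrix g0, by rw [← RingHom.map_det, hdet, map_one]⟩

theorem toSL_mem (φ : R9 →+* F) (g0 : MR) (hdet : g0.det = 1)
    (hU0 : g0ᵀ * g0.map (fun x => x ^ 3) = 1) : toSL φ g0 hdet ∈ SU 3 F 3 := by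
  rw [mem_SU_iff]
  show (φ.mapMatrix g0)ᵀ * (φ.mapMatrix g0).map (frobenius F 3) = 1
  have h1 : (φ.mapMatrix g0).map (frobenius F 3) = φ.mapMatrix (g0.map (fun x => x ^ 3)) := by
    ext i j; simp [frobenius_def]
  have h2 : (φ.mapMatrix g0)ᵀ = φ.mapMatrix g0ᵀ := by ext i j; simp
  rw [h1, h2, ← map_mul, hU0, map_one]

/-- Transfer of a unitary matrix over `R9` to `SU₃(F)`. -/
def toSU (φ : R9 →+* F) (g0 : MR) (hdet : g0.det = 1)
    (hU0 : g0ᵀ * g0.map (fun x => x ^ 3) = 1) : SU 3 F 3 :=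
  ⟨toSL φ g0 hdet, toSL_mem φ g0 hdet hU0⟩

/-- The underlying matrix of an element of `SU₃(F)`. -/
def mv : SU 3 F 3 →* Matrix (Fin 3) (Fin 3) F := (slToMat 3 F).comp (SU 3 F 3).subtype

theorem mv_apply (s : SU 3 F 3) : mv s = s.val.val := rfl

theorem mv_injective : Function.Injective (mv : SU 3 F 3 → Matrix (Fin 3) (Fin 3) F) := by
  intro s t h
  exact Subtype.ext (Subtype.ext h)

theorem mv_toSU (φ : R9 →+* F) (g0 : MR) (hdet : g0.det = 1)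
    (hU0 : g0ᵀ * g0.map (fun x => x ^ 3) = 1) : mv (toSU φ g0 hdet hU0) = φ.mapMatrix g0 := rfl

theorem mv_toSU_pow (φ : R9 →+* F) (g0 : MR) (hdet : g0.det = 1)
    (hU0 : g0ᵀ * g0.map (fun x => x ^ 3) = 1) (m : ℕ) :
    mv ((toSU φ g0 hdet hU0) ^ m) = φ.mapMatrix (g0 ^ m) := by
  rw [map_pow, map_pow, mv_toSU]

theorem mapMatrix_inj (φ : R9 →+* F) (hφ : Function.Injective φ) :
    Function.Injective (φ.mapMatrix : MR → Matrix (Fin 3) (Fin 3) F) := by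
  intro A B h
  apply Matrix.ext
  intro i j
  have h1 := congrFun (congrFun h i) j
  simp only [RingHom.mapMatrix_apply, Matrix.map_apply] at h1
  exact hφ h1

theorem toSU_pow_eq_one (φ : R9 →+* F) (g0 : MR) (hdet : g0.det = 1)
    (hU0 : g0ᵀ * g0.map (fun x => x ^ 3) = 1) (m : ℕ) (h : g0 ^ m = 1) :
    (toSU φ g0 hdet hU0) ^ m = 1 := by
  apply mv_injective
  rw [mv_toSU_pow, h, map_one, map_one]

/-- The projection onto `PSU₃(F)`. -/
abbrev prj : SU 3 F 3 →* PSU 3 F 3 := QuotientGroup.mk' (Subgroup.center (SU 3 F 3))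

theorem prj_pow_ne_one (φ : R9 →+* F) (hφ : Function.Injective φ) (g0 : MR) (hdet : g0.det = 1)
    (hU0 : g0ᵀ * g0.map (fun x => x ^ 3) = 1) (m : ℕ) (gm : MR) (hgm : g0 ^ m = gm)
    (hnc : gm * P0 ≠ P0 * gm) : (prj (toSU φ g0 hdet hU0)) ^ m ≠ 1 := by
  intro h
  rw [← map_pow, QuotientGroup.mk'_apply, QuotientGroup.eq_one_iff, Subgroup.mem_center_iff] at h
  have h1 := congrArg mv (h (toSU φ P0 P0_det P0_U))
  rw [map_mul, map_mul, mv_toSU_pow, mv_toSU, hgm, ← map_mul, ← map_mul] at h1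
  exact hnc (mapMatrix_inj φ hφ h1).symm

theorem prj_pow_eq_one (φ : R9 →+* F) (g0 : MR) (hdet : g0.det = 1)
    (hU0 : g0ᵀ * g0.map (fun x => x ^ 3) = 1) (m : ℕ) (h : g0 ^ m = 1) :
    (prj (toSU φ g0 hdet hU0)) ^ m = 1 := by
  rw [← map_pow, toSU_pow_eq_one φ g0 hdet hU0 m h, map_one]

theorem exists_PSU_order (hF : Fintype.card F = 9) (n : ℕ) (hn : n ∈ SP) :
    ∃ x : PSU 3 F 3, orderOf x = n := by
  obtain ⟨φ, i, hφ, -, -⟩ := exists_i_enum hF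
  have o7 : orderOf (prj (toSU φ e7 e7_det e7_U)) = 7 := by
    have : Fact (Nat.Prime 7) := ⟨by norm_num⟩
    apply orderOf_eq_prime (prj_pow_eq_one φ e7 e7_det e7_U 7 e7_pow7)
    have h := prj_pow_ne_one φ hφ e7 e7_det e7_U 1 e7 (pow_one _) e7_nc
    rwa [pow_one] at h
  have o8 : orderOf (prj (toSU φ e8 e8_det e8_U)) = 8 :=
    Cfsg.Agent.Lib.Helper17.BinOct13.orderOf_eq_eight _ (prj_pow_eq_one φ e8 e8_det e8_U 8 e8_pow8)
      (prj_pow_ne_one φ hφ e8 e8_det e8_U 4 e8_4 e8_pow4 e8_nc)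
  have o12 : orderOf (prj (toSU φ e12 e12_det e12_U)) = 12 :=
    orderOf_eq_twelve _ (prj_pow_eq_one φ e12 e12_det e12_U 12 e12_pow12)
      (prj_pow_ne_one φ hφ e12 e12_det e12_U 4 e12_4 e12_pow4 e12_nc4)
      (prj_pow_ne_one φ hφ e12 e12_det e12_U 6 e12_6 e12_pow6 e12_nc6)
  unfold SP at hn
  simp only [Set.mem_insert_iff, Set.mem_singleton_iff] at hn
  rcases hn with rfl | rfl | rfl | rfl | rfl | rfl | rfl | rfl
  · exact ⟨1, orderOf_one⟩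
  · exact ⟨_, Cfsg.Agent.S3437.ord_pow _ 8 4 2 o8 (by norm_num) (by norm_num)⟩
  · exact ⟨_, Cfsg.Agent.S3437.ord_pow _ 12 4 3 o12 (by norm_num) (by norm_num)⟩
  · exact ⟨_, Cfsg.Agent.S3437.ord_pow _ 8 2 4 o8 (by norm_num) (by norm_num)⟩
  · exact ⟨_, Cfsg.Agent.S3437.ord_pow _ 12 2 6 o12 (by norm_num) (by norm_num)⟩
  · exact ⟨_, o7⟩
  · exact ⟨_, o8⟩
  · exact ⟨_, o12⟩

theorem spec_PSU (hF : Fintype.card F = 9) :
    Set.range (orderOf : PSU 3 F 3 → ℕ) = SP := by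
  apply Set.eq_of_subset_of_subset
  · rintro _ ⟨x, rfl⟩
    obtain ⟨s, rfl⟩ := QuotientGroup.mk'_surjective (Subgroup.center (SU 3 F 3)) x
    obtain ⟨φ, i, -, hi, hen⟩ := exists_i_enum hF
    have hd : orderOf (prj s) ∣ orderOf (mv s) := by
      rw [orderOf_injective mv mv_injective s]
      exact orderOf_map_dvd _ s
    have hU := (mem_SU_iff s.val).mp s.2
    rcases su3_pow i hi hen (mv s) s.val.2 hU with h | h | h
    · exact mem_SP_of_dvd _ (Or.inl (hd.trans (orderOf_dvd_of_pow_eq_one h)))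
    · exact mem_SP_of_dvd _ (Or.inr (Or.inl (hd.trans (orderOf_dvd_of_pow_eq_one h))))
    · exact mem_SP_of_dvd _ (Or.inr (Or.inr (hd.trans (orderOf_dvd_of_pow_eq_one h))))
  · intro n hn
    obtain ⟨x, hx⟩ := exists_PSU_order hF n hn
    exact ⟨x, hx⟩

end field

/-- The solvable group: `7^16 : (C₃ ⋊ C₈)`. -/
abbrev HH : Type := Aff N4 K

def kA : K := ⟨uA, uA_mem⟩
def kB : K := ⟨uB, uB_mem⟩

theorem ordA : orderOf (SemidirectProduct.inr kA : HH) = 12 := by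
  rw [orderOf_inr]; exact orderOf_gA
theorem ordB : orderOf (SemidirectProduct.inr kB : HH) = 8 := by
  rw [orderOf_inr]; exact orderOf_gB

theorem seven_zero : ((7 : ℕ) : N4) = 0 := CharP.cast_eq_zero N4 7

theorem one_ne_zero_N4 : (1 : N4) ≠ 0 := by decide +kernel

def x7 : HH := SemidirectProduct.inl (Multiplicative.ofAdd (1 : N4))

theorem ord7 : orderOf x7 = 7 := by
  have : Fact (Nat.Prime 7) := ⟨by norm_num⟩
  apply orderOf_eq_prime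
  · exact pow_eq_one_of_right_eq_one x7 (by simp [x7]) 7 seven_zero
  · intro h
    have h1 := congrArg SemidirectProduct.left h
    simp only [x7, SemidirectProduct.left_inl, SemidirectProduct.one_left] at h1
    have h2 : Multiplicative.toAdd (Multiplicative.ofAdd (1 : N4)) = 0 := toAdd_eq_zero.mpr h1
    rw [toAdd_ofAdd] at h2
    exact one_ne_zero_N4 h2

theorem spec_HH : Set.range (orderOf : HH → ℕ) = SP := by
  apply Set.eq_of_subset_of_subset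
  · rintro _ ⟨h, rfl⟩
    by_cases hr : h.right = 1
    · have h7 : h ^ 7 = 1 := pow_eq_one_of_right_eq_one h hr 7 seven_zero
      exact mem_SP_of_dvd _ (Or.inl (orderOf_dvd_of_pow_eq_one h7))
    · have hk1 : (h.right : N4ˣ) ≠ 1 := fun e => hr (Subtype.ext e)
      obtain ⟨w, hw⟩ := K_fpf h.right.2 hk1
      have ho : orderOf h = orderOf ((h.right : N4ˣ) : N4) := by
        rw [orderOf_eq_of_fpf h w hw, orderOf_units, Subgroup.orderOf_coe]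
      rw [ho]
      rcases K_pow h.right.2 with h8 | h12
      · exact mem_SP_of_dvd _ (Or.inr (Or.inl (orderOf_dvd_of_pow_eq_one h8)))
      · exact mem_SP_of_dvd _ (Or.inr (Or.inr (orderOf_dvd_of_pow_eq_one h12)))
  · intro n hn
    unfold SP at hn
    simp only [Set.mem_insert_iff, Set.mem_singleton_iff] at hn
    rcases hn with rfl | rfl | rfl | rfl | rfl | rfl | rfl | rfl
    · exact ⟨1, orderOf_one⟩
    · exact ⟨(SemidirectProduct.inr kB : HH) ^ 4,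
        Cfsg.Agent.S3437.ord_pow _ 8 4 2 ordB (by norm_num) (by norm_num)⟩
    · exact ⟨(SemidirectProduct.inr kA : HH) ^ 4,
        Cfsg.Agent.S3437.ord_pow _ 12 4 3 ordA (by norm_num) (by norm_num)⟩
    · exact ⟨(SemidirectProduct.inr kB : HH) ^ 2,
        Cfsg.Agent.S3437.ord_pow _ 8 2 4 ordB (by norm_num) (by norm_num)⟩
    · exact ⟨(SemidirectProduct.inr kA : HH) ^ 2,
        Cfsg.Agent.S3437.ord_pow _ 12 2 6 ordA (by norm_num) (by norm_num)⟩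
    · exact ⟨x7, ord7⟩
    · exact ⟨SemidirectProduct.inr kB, ordB⟩
    · exact ⟨SemidirectProduct.inr kA, ordA⟩

/-- There is a finite solvable group with exactly the same set of element orders as the simple group PSU(3,3) (realised over the field with 9 elements). -/
theorem result {F : Type*} [Field F] [Fintype F] (hF : Fintype.card F = 9) :
    ∃ (H : Type) (_ : Group H) (_ : Fintype H), Group.IsSolvable H ∧ Set.range (orderOf : H → ℕ) = Set.range (orderOf : Cfsg.PSU 3 F 3 → ℕ) := by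
  have hfin : Finite HH := Cfsg.Agent.Lib.Helper17.AffineSpec.finite
  have hsol : Group.IsSolvable K := K_solvable
  have : CharP F 3 := charP_of_card_eq_prime_pow (p := 3) (f := 2) (by rw [hF]; norm_num)
  refine ⟨HH, inferInstance, Fintype.ofFinite HH, Cfsg.Agent.Lib.Helper17.AffineSpec.isSolvable, ?_⟩
  rw [spec_HH, spec_PSU hF]

end Cfsg.Agent.S3438
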