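import Cfsg.Statements.S3439
import Cfsg.Agent.Lib.Helper6.S3439D
import Cfsg.Agent.Lib.Helper10.SpecPSp43

set_option autoImplicit false
open Cfsg

namespace Cfsg.Agent.S3439

/-- There is a finite solvable group with exactly the same set of element orders as the simple group PSp(4,3). -/
theorem result {F : Type*} [Field F] [Fintype F] (hF : Fintype.card F = 3) :
    ∃ (H : Type) (_ : Group H) (_ : Fintype H), Group.IsSolvable H ∧ Set.range (orderOf : H → ℕ) = Set.range (orderOf : Cfsg.PSp 2 F → ℕ) := by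
  obtain ⟨H, i1, i2, hs, hsp⟩ := Cfsg.Agent.Lib.Helper6.S3439D.solvable_side
  refine ⟨H, i1, i2, hs, ?_⟩
  rw [hsp, Cfsg.Agent.Lib.Helper10.SpecPSp43.spec_psp43 hF]
  rfl

end Cfsg.Agent.S3439
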