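import Cfsg.Statements.S3443

set_option autoImplicit false
open Cfsg

namespace Cfsg.Agent.S3443

theorem dvd_or_dvd_aux {m x y p : ℕ} (hp : p.Prime) (hm : 0 < m) (h1 : m ∣ x) (h2 : x ∣ m * p)
    (h3 : m ∣ y) (h4 : y ∣ m * p) : x ∣ y ∨ y ∣ x := by
  obtain ⟨d, rfl⟩ := h1
  obtain ⟨e, rfl⟩ := h3
  have hd : d ∣ p := Nat.dvd_of_mul_dvd_mul_left hm h2
  have he : e ∣ p := Nat.dvd_of_mul_dvd_mul_left hm h4
  rcases (Nat.dvd_prime hp).1 hd with rfl | rfl
  · left; simpa using Dvd.intro _ rfl
  · right; exact mul_dvd_mul_left m he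

/-- Orders of two elements congruent mod an elementary abelian normal subgroup are comparable. -/
theorem order_cmp {G : Type*} [Group G] [Finite G] (V : Subgroup G) [V.Normal] (p : ℕ)
    (hp : p.Prime) (hexp : ∀ x : V, x ^ p = 1) (a b : G) (hab : b * a⁻¹ ∈ V) :
    orderOf a ∣ orderOf b ∨ orderOf b ∣ orderOf a := by
  have hq : (QuotientGroup.mk' V) a = (QuotientGroup.mk' V) b := by
    have : (QuotientGroup.mk' V) (b * a⁻¹) = 1 := by
      rw [QuotientGroup.mk'_apply, QuotientGroup.eq_one_iff]; exact hab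
    rw [map_mul, map_inv, mul_inv_eq_one] at this
    exact this.symm
  set m := orderOf ((QuotientGroup.mk' V) a) with hm
  have hmpos : 0 < m := orderOf_pos _
  have key : ∀ c : G, (QuotientGroup.mk' V) c = (QuotientGroup.mk' V) a →
      m ∣ orderOf c ∧ orderOf c ∣ m * p := by
    intro c hc
    constructor
    · rw [hm, ← hc]; exact orderOf_map_dvd _ c
    · have h1 : c ^ m ∈ V := by
        rw [← QuotientGroup.eq_one_iff, ← QuotientGroup.mk'_apply, map_pow, hc]
        exact pow_orderOf_eq_one _
      have h2 := hexp ⟨c ^ m, h1⟩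
      have h3 : (c ^ m) ^ p = 1 := by
        have := congrArg Subtype.val h2
        simpa using this
      rw [← pow_mul] at h3
      exact orderOf_dvd_of_pow_eq_one h3
  obtain ⟨ha1, ha2⟩ := key a rfl
  obtain ⟨hb1, hb2⟩ := key b hq.symm
  exact dvd_or_dvd_aux hp hmpos ha1 ha2 hb1 hb2

/-- Let G be a finite group and V a normal elementary abelian subgroup of G (abelian of prime exponent p, possibly trivial). Then the semidirect product V ⋊ G, with G acting on V by conjugation, has exactly the same set of element orders as G. -/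
theorem result {G : Type*} [Group G] [Finite G] (V : Subgroup G) [V.Normal] (p : ℕ) (hp : p.Prime)
    (hcomm : ∀ x y : V, x * y = y * x) (hexp : ∀ x : V, x ^ p = 1) :
    Set.range (orderOf : V ⋊[MulAut.conjNormal] G → ℕ) = Set.range (orderOf : G → ℕ) := by
  classical
  apply Set.eq_of_subset_of_subset
  · rintro n ⟨x, rfl⟩
    let π : V ⋊[MulAut.conjNormal] G →* G := SemidirectProduct.rightHom
    let μ : V ⋊[MulAut.conjNormal] G →* G :=
      SemidirectProduct.lift V.subtype (MonoidHom.id G) (by
        intro g; ext v; simp [MulAut.conjNormal_apply])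
    have hμ : ∀ y : V ⋊[MulAut.conjNormal] G, μ y = (y.left : G) * y.right := fun y => rfl
    have hπ : ∀ y : V ⋊[MulAut.conjNormal] G, π y = y.right := fun y => rfl
    have hinj : Function.Injective (π.prod μ) := by
      intro y z hyz
      have h1 : π y = π z := congrArg Prod.fst hyz
      have h2 : μ y = μ z := congrArg Prod.snd hyz
      rw [hπ, hπ] at h1
      rw [hμ, hμ, h1] at h2
      have h3 : (y.left : G) = z.left := mul_right_cancel h2
      exact SemidirectProduct.ext (Subtype.ext h3) h1
    have h1 : orderOf x = Nat.lcm (orderOf (π x)) (orderOf (μ x)) := by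
      rw [← orderOf_injective (π.prod μ) hinj x]
      exact Prod.orderOf _
    have hab : μ x * (π x)⁻¹ ∈ V := by
      rw [hμ, hπ]; simp
    rcases order_cmp V p hp hexp (π x) (μ x) hab with h | h
    · exact ⟨μ x, by rw [h1, Nat.lcm_eq_right h]⟩
    · exact ⟨π x, by rw [h1, Nat.lcm_eq_left h]⟩
  · rintro n ⟨g, rfl⟩
    exact ⟨SemidirectProduct.inr g, orderOf_injective _ SemidirectProduct.inr_injective g⟩

end Cfsg.Agent.S3443
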