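import Mathlib
import Cfsg.Statements.S3444
import Cfsg.Agent.S3443

set_option autoImplicit false
open Cfsg

namespace Cfsg.Agent.S3444

universe u

theorem comm_lt {G : Type*} [Group G] (K : Subgroup G) (hK : K ≠ ⊥) [hs : Group.IsSolvable K] :
    ⁅K, K⁆ < K := by
  rw [← Subgroup.nontrivial_iff_ne_bot] at hK
  rw [← K.range_subtype, MonoidHom.range_eq_map, ← Subgroup.map_commutator,
    Subgroup.map_subtype_lt_map_subtype]
  exact Group.IsSolvable.commutator_lt_top_of_nontrivial K

/-- The predicate: `V` is a nontrivial normal elementary abelian `p`-subgroup. -/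
def IsNEA {G : Type*} [Group G] (V : Subgroup G) (p : ℕ) : Prop :=
  V.Normal ∧ V ≠ ⊥ ∧ p.Prime ∧ (∀ x y : V, x * y = y * x) ∧ (∀ x : V, x ^ p = 1)

theorem exists_isNEA_of_abelian {G : Type*} [Group G] [Finite G] (K : Subgroup G) [hKn : K.Normal]
    (hK : K ≠ ⊥) (hab : ⁅K, K⁆ = ⊥) : ∃ (V : Subgroup G) (p : ℕ), IsNEA V p := by
  classical
  have hcent : K ≤ Subgroup.centralizer (K : Set G) :=
    Subgroup.commutator_eq_bot_iff_le_centralizer.1 hab
  have hcomm : ∀ x ∈ K, ∀ y ∈ K, x * y = y * x := by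
    intro x hx y hy
    have := hcent hx
    rw [Subgroup.mem_centralizer_iff] at this
    exact (this y hy).symm
  have hcard : 1 < Nat.card K := (Subgroup.one_lt_card_iff_ne_bot K).2 hK
  obtain ⟨p, hp, hpd⟩ := Nat.exists_prime_and_dvd (Nat.ne_of_gt hcard)
  haveI : Fact p.Prime := ⟨hp⟩
  obtain ⟨x, hx⟩ := exists_prime_orderOf_dvd_card' (G := K) p hpd
  let V : Subgroup G :=
    { carrier := {y | y ∈ K ∧ y ^ p = 1}
      mul_mem' := by
        rintro a b ⟨ha, ha'⟩ ⟨hb, hb'⟩
        refine ⟨K.mul_mem ha hb, ?_⟩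
        have hc : Commute a b := hcomm a ha b hb
        rw [hc.mul_pow, ha', hb', one_mul]
      one_mem' := ⟨K.one_mem, one_pow _⟩
      inv_mem' := by
        rintro a ⟨ha, ha'⟩
        exact ⟨K.inv_mem ha, by rw [inv_pow, ha', inv_one]⟩ }
  have hVmem : ∀ y, y ∈ V ↔ y ∈ K ∧ y ^ p = 1 := fun y => Iff.rfl
  refine ⟨V, p, ⟨?_⟩, ?_, hp, ?_, ?_⟩
  · intro n hn g
    rw [hVmem] at hn ⊢
    refine ⟨hKn.conj_mem n hn.1 g, ?_⟩
    rw [conj_pow, hn.2]; simp
  · intro hV
    have hxV : (x : G) ∈ V := by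
      rw [hVmem]
      refine ⟨x.2, ?_⟩
      have : x ^ p = 1 := by rw [← hx]; exact pow_orderOf_eq_one x
      have := congrArg Subtype.val this
      simpa using this
    rw [hV, Subgroup.mem_bot] at hxV
    have hx1 : x = 1 := Subtype.ext hxV
    rw [hx1, orderOf_one] at hx
    exact hp.one_lt.ne hx
  · rintro ⟨a, ha⟩ ⟨b, hb⟩
    exact Subtype.ext (hcomm a ha.1 b hb.1)
  · rintro ⟨a, ha⟩
    exact Subtype.ext (by simpa using ha.2)

theorem exists_isNEA {G : Type*} [Group G] [Finite G] :
    ∀ (n : ℕ) (K : Subgroup G), K.Normal → Nat.card K = n → K ≠ ⊥ → Group.IsSolvable K →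
      ∃ (V : Subgroup G) (p : ℕ), IsNEA V p := by
  intro n
  induction n using Nat.strong_induction_on with
  | _ n ih =>
    intro K hKn hcard hK hs
    by_cases hab : ⁅K, K⁆ = ⊥
    · exact exists_isNEA_of_abelian K hK hab
    · have hlt : ⁅K, K⁆ < K := comm_lt K hK
      have hcl : Nat.card (⁅K, K⁆ : Subgroup G) < n := by
        rw [← hcard]
        by_contra hcon
        push Not at hcon
        exact hlt.ne (Subgroup.eq_of_le_of_card_ge hlt.le hcon)
      have hsol : Group.IsSolvable (⁅K, K⁆ : Subgroup G) :=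
        Group.isSolvable_of_isSolvable_injective (Subgroup.inclusion_injective hlt.le)
      exact ih _ hcl ⁅K, K⁆ (Subgroup.commutator_normal K K) rfl hab hsol

/-- One step: from a group with a nontrivial normal elementary abelian subgroup, build a bigger
isospectral one in the same universe. -/
theorem step {H : Type*} [Group H] [Finite H] (V : Subgroup H) (p : ℕ) (hV : IsNEA V p) :
    ∃ (hn : V.Normal), Finite (V ⋊[MulAut.conjNormal] H) ∧
      2 * Nat.card H ≤ Nat.card (V ⋊[MulAut.conjNormal] H) ∧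
      Set.range (orderOf : V ⋊[MulAut.conjNormal] H → ℕ) = Set.range (orderOf : H → ℕ) ∧
      ∃ (W : Subgroup (V ⋊[MulAut.conjNormal] H)), IsNEA W p := by
  obtain ⟨hVn, hVne, hp, hcomm, hexp⟩ := hV
  refine ⟨hVn, ?_, ?_, ?_, ?_⟩
  · exact Finite.of_equiv _ SemidirectProduct.equivProd.symm
  · rw [SemidirectProduct.card]
    have : 1 < Nat.card V := (Subgroup.one_lt_card_iff_ne_bot V).2 hVne
    exact Nat.mul_le_mul_right _ this
  · exact Cfsg.Agent.S3443.result V p hp hcomm hexp
  · refine ⟨(SemidirectProduct.inl : V →* V ⋊[MulAut.conjNormal] H).range, ?_, ?_, hp, ?_, ?_⟩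
    · rw [SemidirectProduct.range_inl_eq_ker_rightHom]
      exact MonoidHom.normal_ker _
    · intro hbot
      apply hVne
      rw [Subgroup.eq_bot_iff_forall]
      intro v hv
      have h1 : (SemidirectProduct.inl ⟨v, hv⟩ : V ⋊[MulAut.conjNormal] H) ∈
          (SemidirectProduct.inl : V →* V ⋊[MulAut.conjNormal] H).range := ⟨_, rfl⟩
      rw [hbot, Subgroup.mem_bot] at h1
      have h2 : (⟨v, hv⟩ : V) = 1 := by
        apply SemidirectProduct.inl_injective (φ := (MulAut.conjNormal : H →* MulAut V))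
        rw [h1, map_one]
      exact congrArg Subtype.val h2
    · rintro ⟨a, v, rfl⟩ ⟨b, w, rfl⟩
      apply Subtype.ext
      show SemidirectProduct.inl v * SemidirectProduct.inl w =
        SemidirectProduct.inl w * SemidirectProduct.inl v
      rw [← map_mul, ← map_mul, hcomm]
    · rintro ⟨a, v, rfl⟩
      apply Subtype.ext
      show (SemidirectProduct.inl v) ^ p = 1
      rw [← map_pow, hexp, map_one]

theorem iterate {G : Type u} [Group G] [Finite G] (V : Subgroup G) (p : ℕ) (hV : IsNEA V p) :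
    ∀ n : ℕ, ∃ (H : Type u) (_ : Group H), Finite H ∧ 2 ^ n ≤ Nat.card H ∧
      Set.range (orderOf : H → ℕ) = Set.range (orderOf : G → ℕ) ∧
      ∃ (W : Subgroup H), IsNEA W p := by
  intro n
  induction n with
  | zero =>
    exact ⟨G, inferInstance, inferInstance, by rw [pow_zero]; exact Nat.card_pos, rfl, V, hV⟩
  | succ n ih =>
    obtain ⟨H, hG, hfin, hcard, hspec, W, hW⟩ := ih
    obtain ⟨hn, h1, h2, h3, W', hW'⟩ := step W p hW
    refine ⟨W ⋊[MulAut.conjNormal] H, inferInstance, h1, ?_, h3.trans hspec, W', hW'⟩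
    calc 2 ^ (n + 1) = 2 * 2 ^ n := by ring
      _ ≤ 2 * Nat.card H := Nat.mul_le_mul_left _ hcard
      _ ≤ _ := h2

/-- A copy of `Fin n` carrying no algebraic instances. -/
def Carrier (n : ℕ) : Type := Fin n

instance carrierFintype (n : ℕ) : Fintype (Carrier n) := inferInstanceAs (Fintype (Fin n))

theorem card_carrier (n : ℕ) : Fintype.card (Carrier n) = n := Fintype.card_fin n

theorem transport {H : Type*} [Group H] [Finite H] :
    ∃ (H' : Type) (_ : Group H') (_ : Fintype H'), Fintype.card H' = Nat.card H ∧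
      Set.range (orderOf : H' → ℕ) = Set.range (orderOf : H → ℕ) := by
  classical
  let e : H ≃ Carrier (Nat.card H) := Finite.equivFin H
  letI inst : Group (Carrier (Nat.card H)) := e.symm.group
  let f : Carrier (Nat.card H) ≃* H := e.symm.mulEquiv
  refine ⟨Carrier (Nat.card H), inst, inferInstance, card_carrier _, ?_⟩
  ext k
  constructor
  · rintro ⟨x, rfl⟩
    exact ⟨f x, f.orderOf_eq x⟩
  · rintro ⟨y, rfl⟩
    exact ⟨f.symm y, by rw [← f.orderOf_eq, f.apply_symm_apply]⟩

/-- A finite group with a non-trivial solvable normal subgroup is not determined by its set of element orders, not even up to finitely many possibilities: for every bound N there is a finite group of order greater than N with exactly the same set of element orders. -/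
theorem result {G : Type*} [Group G] [Finite G] (K : Subgroup G) [K.Normal] (hK : K ≠ ⊥)
    (hs : Group.IsSolvable K) (N : ℕ) :
    ∃ (H : Type) (_ : Group H) (_ : Fintype H), N < Fintype.card H ∧ Set.range (orderOf : H → ℕ) = Set.range (orderOf : G → ℕ) := by
  obtain ⟨V, p, hV⟩ := exists_isNEA (G := G) _ K inferInstance rfl hK hs
  obtain ⟨H, hG, hfin, hcard, hspec, -⟩ := iterate V p hV N
  obtain ⟨H', hG', hF', hc, hs'⟩ := transport (H := H)
  refine ⟨H', hG', hF', ?_, hs'.trans hspec⟩
  rw [hc]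
  exact lt_of_lt_of_le Nat.lt_two_pow_self hcard

end Cfsg.Agent.S3444
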