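import Mathlib
import Cfsg.Statements.S3448
import Cfsg.Agent.Lib.Helper19.A5Spec

set_option autoImplicit false
open Cfsg

namespace Cfsg.Agent.S3448

open Cfsg.Agent.Lib.Helper19

/-- The set of element orders of the direct product of two copies of the alternating group of degree 5 is {1, 2, 3, 5, 6, 10, 15}. (It is shared by the direct product of two Frobenius groups of orders 50 and 75, so this direct product is not determined by its element orders.) -/
theorem result : Set.range (orderOf : alternatingGroup (Fin 5) × alternatingGroup (Fin 5) → ℕ) = {1, 2, 3, 5, 6, 10, 15} := by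
  ext n
  simp only [Set.mem_range, Set.mem_insert_iff, Set.mem_singleton_iff]
  constructor
  · rintro ⟨⟨a, b⟩, rfl⟩
    rw [Prod.orderOf_mk]
    rcases a5_orderOf_cases a with h | h | h | h <;>
      rcases a5_orderOf_cases b with h' | h' | h' | h' <;> rw [h, h'] <;> decide
  · obtain ⟨a2, h2⟩ := a5_exists_orderOf_two
    obtain ⟨a3, h3⟩ := a5_exists_orderOf_three
    obtain ⟨a5, h5⟩ := a5_exists_orderOf_five
    rintro (rfl | rfl | rfl | rfl | rfl | rfl | rfl)
    · exact ⟨(1, 1), by rw [Prod.orderOf_mk, orderOf_one]; rfl⟩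
    · exact ⟨(a2, 1), by rw [Prod.orderOf_mk, orderOf_one, h2]; rfl⟩
    · exact ⟨(a3, 1), by rw [Prod.orderOf_mk, orderOf_one, h3]; rfl⟩
    · exact ⟨(a5, 1), by rw [Prod.orderOf_mk, orderOf_one, h5]; rfl⟩
    · exact ⟨(a2, a3), by rw [Prod.orderOf_mk, h2, h3]; rfl⟩
    · exact ⟨(a2, a5), by rw [Prod.orderOf_mk, h2, h5]; rfl⟩
    · exact ⟨(a3, a5), by rw [Prod.orderOf_mk, h3, h5]; rfl⟩

end Cfsg.Agent.S3448
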