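import Mathlib
import Cfsg.Statements.S3449
import Cfsg.Agent.Lib.Helper19.A5Spec

set_option autoImplicit false
open Cfsg

namespace Cfsg.Agent.S3449

open Cfsg.Agent.Lib.Helper19

theorem divisors_thirty {d : ℕ} (hd : d ∣ 30) :
    d = 1 ∨ d = 2 ∨ d = 3 ∨ d = 5 ∨ d = 6 ∨ d = 10 ∨ d = 15 ∨ d = 30 := by
  have h1 : d ∈ Nat.divisors 30 := Nat.mem_divisors.2 ⟨hd, by norm_num⟩
  have h2 : Nat.divisors 30 = {1, 2, 3, 5, 6, 10, 15, 30} := by decide
  rw [h2] at h1
  simpa using h1

theorem lhs_eq : Set.range (orderOf : alternatingGroup (Fin 5) × alternatingGroup (Fin 5) ×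
    alternatingGroup (Fin 5) → ℕ) = {d | d ∣ 30} := by
  ext n
  simp only [Set.mem_range, Set.mem_ofPred_eq]
  constructor
  · rintro ⟨⟨a, b, c⟩, rfl⟩
    rw [Prod.orderOf_mk, Prod.orderOf_mk]
    rcases a5_orderOf_cases a with h | h | h | h <;>
      rcases a5_orderOf_cases b with h' | h' | h' | h' <;>
        rcases a5_orderOf_cases c with h'' | h'' | h'' | h'' <;> rw [h, h', h''] <;> decide
  · obtain ⟨a2, h2⟩ := a5_exists_orderOf_two
    obtain ⟨a3, h3⟩ := a5_exists_orderOf_three
    obtain ⟨a5, h5⟩ := a5_exists_orderOf_five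
    intro hd
    rcases divisors_thirty hd with rfl | rfl | rfl | rfl | rfl | rfl | rfl | rfl
    · exact ⟨(1, 1, 1), by rw [Prod.orderOf_mk, Prod.orderOf_mk, orderOf_one]; rfl⟩
    · exact ⟨(a2, 1, 1), by rw [Prod.orderOf_mk, Prod.orderOf_mk, orderOf_one, h2]; rfl⟩
    · exact ⟨(a3, 1, 1), by rw [Prod.orderOf_mk, Prod.orderOf_mk, orderOf_one, h3]; rfl⟩
    · exact ⟨(a5, 1, 1), by rw [Prod.orderOf_mk, Prod.orderOf_mk, orderOf_one, h5]; rfl⟩
    · exact ⟨(a2, a3, 1), by rw [Prod.orderOf_mk, Prod.orderOf_mk, orderOf_one, h2, h3]; rfl⟩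
    · exact ⟨(a2, a5, 1), by rw [Prod.orderOf_mk, Prod.orderOf_mk, orderOf_one, h2, h5]; rfl⟩
    · exact ⟨(a3, a5, 1), by rw [Prod.orderOf_mk, Prod.orderOf_mk, orderOf_one, h3, h5]; rfl⟩
    · exact ⟨(a2, a3, a5), by rw [Prod.orderOf_mk, Prod.orderOf_mk, h2, h3, h5]; rfl⟩

theorem rhs_eq : Set.range (orderOf : Multiplicative (ZMod 30) → ℕ) = {d | d ∣ 30} := by
  ext n
  simp only [Set.mem_range, Set.mem_ofPred_eq]
  constructor
  · rintro ⟨x, rfl⟩
    have h := orderOf_dvd_natCard x
    have hc : Nat.card (Multiplicative (ZMod 30)) = 30 := by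
      rw [Nat.card_eq_fintype_card]
      exact ZMod.card 30
    rwa [hc] at h
  · intro hd
    have h1 : orderOf (Multiplicative.ofAdd (1 : ZMod 30)) = 30 := by
      rw [orderOf_ofAdd_eq_addOrderOf, ZMod.addOrderOf_one]
    refine ⟨(Multiplicative.ofAdd (1 : ZMod 30)) ^ (30 / n), ?_⟩
    have := orderOf_pow_orderOf_div (x := Multiplicative.ofAdd (1 : ZMod 30)) (n := n)
      (by rw [h1]; norm_num) (by rw [h1]; exact hd)
    rwa [h1] at this

/-- The direct product of three copies of the alternating group of degree 5 has exactly the same set of element orders as the cyclic group of order 30, namely the divisors of 30; in particular a direct power of a non-abelian simple group need not be determined by its element orders. -/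
theorem result : Set.range (orderOf : alternatingGroup (Fin 5) × alternatingGroup (Fin 5) × alternatingGroup (Fin 5) → ℕ) =
      Set.range (orderOf : Multiplicative (ZMod 30) → ℕ) := by
  rw [lhs_eq, rhs_eq]

end Cfsg.Agent.S3449
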