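import Mathlib
import Cfsg.Statements.S3489
import Cfsg.Agent.S3444
import Cfsg.Agent.Lib.Helper20.A10Group
import Cfsg.Agent.Lib.Helper20.A10Alt

set_option autoImplicit false
open Cfsg

namespace Cfsg.Agent.S3489

open Cfsg.Agent.Lib.Helper20.A10Core Cfsg.Agent.Lib.Helper20.A10Group Cfsg.Agent.Lib.Helper20.A10Alt

/-- The alternating group of degree 10 is not determined by its set of element orders, not even up to finitely many groups: for every bound N there is a finite group of order greater than N with exactly the same set of element orders as the alternating group of degree 10. -/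
theorem result (N : ℕ) : ∃ (H : Type) (_ : Group H) (_ : Fintype H), N < Fintype.card H ∧ Set.range (orderOf : H → ℕ) = Set.range (orderOf : alternatingGroup (Fin 10) → ℕ) := by
  -- Mazurov's example `(7^4 × 3^k) : 2.S5^-`
  have hfin : Finite (G ↥H0 (A7 × Wz zG)) := Finite.of_equiv _ SemidirectProduct.equivProd.symm
  let K : Subgroup (G ↥H0 (A7 × Wz zG)) :=
    (SemidirectProduct.inl : Multiplicative (A7 × Wz zG) →* G ↥H0 (A7 × Wz zG)).range
  have hKn : K.Normal := by
    show (SemidirectProduct.inl : Multiplicative (A7 × Wz zG) →* G ↥H0 (A7 × Wz zG)).range.Normal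
    rw [SemidirectProduct.range_inl_eq_ker_rightHom]
    infer_instance
  have hK : K ≠ ⊥ := by
    intro hbot
    obtain ⟨e, he⟩ := hyp_H0.ne
    have hmem : (SemidirectProduct.inl (Multiplicative.ofAdd ((e, 0) : A7 × Wz zG)) : G ↥H0 (A7 × Wz zG)) ∈ K :=
      ⟨_, rfl⟩
    rw [hbot, Subgroup.mem_bot] at hmem
    have h1 := SemidirectProduct.inl_injective (hmem.trans (map_one _).symm)
    exact he (congrArg Prod.fst h1)
  have hs : Group.IsSolvable K :=
    Group.isSolvable_of_surjective
      (SemidirectProduct.inl : Multiplicative (A7 × Wz zG) →* G ↥H0 (A7 × Wz zG)).rangeRestrict_surjective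
  obtain ⟨H, hG, hF, hN, hspec⟩ := Cfsg.Agent.S3444.result K hK hs N
  exact ⟨H, hG, hF, hN, hspec.trans ((range_orderOf hyp_H0).trans a10_spectrum.symm)⟩

end Cfsg.Agent.S3489
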