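import Mathlib
import Cfsg.Statements.S3491
import Cfsg.Agent.Lib.Helper19.AffineF4
import Cfsg.Agent.S3444
import Cfsg.Agent.S3488

set_option autoImplicit false
open Cfsg

namespace Cfsg.Agent.S3491

open Cfsg.Agent.Lib.Helper19

variable {F : Type*} [Field F]

/-- The upper-left `2 × 2` block as a monoid homomorphism on the affine group. -/
def blockHom (F : Type*) [Field F] :
    Subgroup.closure (affSet F) →* Matrix (Fin 2) (Fin 2) F where
  toFun g := ((g : Matrix.SpecialLinearGroup (Fin 3) F) : Matrix (Fin 3) (Fin 3) F).submatrix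
    Fin.castSucc Fin.castSucc
  map_one' := by
    ext i j
    fin_cases i <;> fin_cases j <;> simp
  map_mul' := by
    intro g h
    obtain ⟨h0, h1, -⟩ := lastRow_of_mem_closure h.2
    ext i j
    simp only [Subgroup.coe_mul, Matrix.SpecialLinearGroup.coe_mul, Matrix.submatrix_apply,
      Matrix.mul_apply, Fin.sum_univ_three, Fin.sum_univ_two]
    fin_cases j
    · simp [h0]
    · simp [h1]

theorem blockHom_apply (g : Subgroup.closure (affSet F)) (i j : Fin 2) :
    blockHom F g i j =
      ((g : Matrix.SpecialLinearGroup (Fin 3) F) : Matrix (Fin 3) (Fin 3) F) i.castSucc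
        j.castSucc := rfl

theorem ker_comm (a b : (blockHom F).ker) : a * b = b * a := by
  obtain ⟨⟨a, ha⟩, hka⟩ := a
  obtain ⟨⟨b, hb⟩, hkb⟩ := b
  apply Subtype.ext
  apply Subtype.ext
  apply Subtype.ext
  show (a : Matrix (Fin 3) (Fin 3) F) * b = b * a
  obtain ⟨a0, a1, a2⟩ := lastRow_of_mem_closure ha
  obtain ⟨b0, b1, b2⟩ := lastRow_of_mem_closure hb
  rw [MonoidHom.mem_ker] at hka hkb
  have a00 := congrFun (congrFun hka 0) 0
  have a01 := congrFun (congrFun hka 0) 1
  have a10 := congrFun (congrFun hka 1) 0
  have a11 := congrFun (congrFun hka 1) 1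
  have b00 := congrFun (congrFun hkb 0) 0
  have b01 := congrFun (congrFun hkb 0) 1
  have b10 := congrFun (congrFun hkb 1) 0
  have b11 := congrFun (congrFun hkb 1) 1
  simp only [blockHom_apply] at a00 a01 a10 a11 b00 b01 b10 b11
  simp at a00 a01 a10 a11 b00 b01 b10 b11
  ext i j
  fin_cases i <;> fin_cases j <;>
    simp [Matrix.mul_apply, Fin.sum_univ_three, a0, a1, a2, b0, b1, b2, a00, a01, a10, a11,
      b00, b01, b10, b11] <;> ring

theorem ker_ne_bot [Fintype F] (hF : Fintype.card F = 4) : (blockHom F).ker ≠ ⊥ := by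
  intro hbot
  let T : Subgroup.closure (affSet F) :=
    ⟨affSL 1 0 0 1 1 0 (by ring), Subgroup.subset_closure (affSL_mem _ _ _ _ _ _ _)⟩
  have hT : T ∈ (blockHom F).ker := by
    rw [MonoidHom.mem_ker]
    ext i j
    fin_cases i <;> fin_cases j <;> simp [blockHom_apply, T, affSL, affMat]
  rw [hbot, Subgroup.mem_bot] at hT
  have := congrArg (fun g : Subgroup.closure (affSet F) =>
    ((g : Matrix.SpecialLinearGroup (Fin 3) F) : Matrix (Fin 3) (Fin 3) F) 0 2) hT
  simp [T, affSL, affMat] at this

/-- The alternating group of degree 6 is not determined by its set of element orders, not even up to finitely many groups: for every bound N there is a finite group of order greater than N with exactly the same set of element orders as the alternating group of degree 6. -/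
theorem result (N : ℕ) : ∃ (H : Type) (_ : Group H) (_ : Fintype H), N < Fintype.card H ∧ Set.range (orderOf : H → ℕ) = Set.range (orderOf : alternatingGroup (Fin 6) → ℕ) := by
  classical
  let F := GaloisField 2 2
  haveI : Fintype F := Fintype.ofFinite F
  have hF : Fintype.card F = 4 := by
    rw [← Nat.card_eq_fintype_card, GaloisField.card 2 2 (by norm_num)]
    norm_num
  haveI : Finite (Matrix.SpecialLinearGroup (Fin 3) F) :=
    Finite.of_injective (fun g => (g : Matrix (Fin 3) (Fin 3) F)) Subtype.val_injective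
  have hK : (blockHom F).ker ≠ ⊥ := ker_ne_bot hF
  have hs : Group.IsSolvable (blockHom F).ker := Group.isSolvable_of_comm ker_comm
  obtain ⟨H, hG, hFin, hN, hspec⟩ := Cfsg.Agent.S3444.result (blockHom F).ker hK hs N
  refine ⟨H, hG, hFin, hN, hspec.trans ?_⟩
  exact Cfsg.Agent.S3488.result hF

end Cfsg.Agent.S3491
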