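import Cfsg.Statements.S3493
import Cfsg.Agent.Lib.Helper21.ExtPrimV

set_option autoImplicit false
open Cfsg

namespace Cfsg.Agent.S3493

open Cfsg.Agent.Lib.Helper21.ExtPrimU MulAction

/-- An extremely primitive permutation group is of affine type or almost simple. Let a finite group G act faithfully and primitively on a finite set Ω with at least two points, in such a way that every point stabilizer acts primitively on each of its own orbits in Ω (an orbit of size one counts as primitive). Then either G has a non-trivial abelian normal subgroup whose elements other than the identity fix no point (affine type), or G has a non-abelian simple normal subgroup with trivial centralizer (almost simple). -/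
theorem result {G : Type*} [Group G] [Finite G] {Ω : Type*} [Fintype Ω] [MulAction G Ω] [FaithfulSMul G Ω] (hΩ : 2 ≤ Fintype.card Ω) (hprim : MulAction.IsPreprimitive G Ω) (hep : ∀ (α : Ω) (ω : Ω), MulAction.IsPreprimitive (MulAction.stabilizer G α) (MulAction.orbit (MulAction.stabilizer G α) ω)) :
    (∃ N : Subgroup G, N.Normal ∧ N ≠ ⊥ ∧ IsMulCommutative N ∧ ∀ ω : Ω, MulAction.stabilizer N ω = ⊥) ∨ (∃ T : Subgroup G, T.Normal ∧ IsSimpleGroup T ∧ ¬ IsMulCommutative T ∧ Subgroup.centralizer (T : Set G) = ⊥) := by
  classical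
  have hnt : Nontrivial Ω := Fintype.one_lt_card_iff_nontrivial.mp hΩ
  have htr : IsPretransitive G Ω := hprim.toIsPretransitive
  obtain ⟨α⟩ : Nonempty Ω := inferInstance
  have hcoat : ∀ β : Ω, IsCoatom (stabilizer G β) := fun β =>
    MulAction.IsPreprimitive.isCoatom_stabilizer_of_isPreprimitive (G := G) β
  have hco : IsCoatom (stabilizer G α) := hcoat α
  have hstab : ∀ g : G, stabilizer G (g • α) = cj g (stabilizer G α) := fun g =>
    MulAction.stabilizer_smul_eq_stabilizer_map_conj g α
  have hcore : (stabilizer G α).normalCore = ⊥ := by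
    rw [eq_bot_iff]
    intro n hn
    rw [Subgroup.mem_bot]
    apply FaithfulSMul.eq_of_smul_eq_smul (α := Ω)
    intro ω
    obtain ⟨g, rfl⟩ := MulAction.exists_smul_eq G α ω
    rw [one_smul]
    have h1 : n ∈ cj g (stabilizer G α) := by
      rw [mem_cj]
      have h2 := (inferInstance : (stabilizer G α).normalCore.Normal).conj_mem n hn g⁻¹
      rw [inv_inv] at h2
      exact Subgroup.normalCore_le _ h2
    rw [← hstab g] at h1
    exact h1
  by_cases hHbot : stabilizer G α = ⊥
  · -- regular case: `G` is cyclic of prime order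
    left
    rw [hHbot] at hco
    have hcomm : ∀ a b : G, a * b = b * a := by
      intro a b
      by_cases ha : a = 1
      · rw [ha, one_mul, mul_one]
      · have hz : Subgroup.zpowers a = ⊤ := by
          apply hco.2
          rw [bot_lt_iff_ne_bot]
          intro h
          exact ha (Subgroup.zpowers_eq_bot.mp h)
        have hb : b ∈ Subgroup.zpowers a := by
          rw [hz]
          exact Subgroup.mem_top b
        obtain ⟨k, rfl⟩ := Subgroup.mem_zpowers_iff.mp hb
        exact ((Commute.refl a).zpow_right k).eq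
    refine ⟨⊤, inferInstance, ?_, ⟨⟨fun x y => Subtype.ext (hcomm x y)⟩⟩, ?_⟩
    · intro h
      exact hco.1 h.symm
    · intro ω
      obtain ⟨g, rfl⟩ := MulAction.exists_smul_eq G α ω
      rw [eq_bot_iff]
      intro x hx
      have hx' : (x : G) ∈ stabilizer G (g • α) := hx
      rw [hstab g, mem_cj, hHbot, Subgroup.mem_bot] at hx'
      rw [Subgroup.mem_bot]
      apply Subtype.ext
      calc (x : G) = g * (g⁻¹ * x * g) * g⁻¹ := by group
        _ = 1 := by rw [hx']; group
  · have hM : ∀ g : G, g ∉ stabilizer G α →
        MaxIn (stabilizer G α ⊓ cj g (stabilizer G α)) (stabilizer G α) := by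
      intro g hg
      have hKne : stabilizer G α ⊓ cj g (stabilizer G α) ≠ stabilizer G α := by
        intro hK
        have hle : stabilizer G α ≤ cj g (stabilizer G α) := inf_eq_left.mp hK
        have heq : cj g (stabilizer G α) = stabilizer G α := by
          rcases eq_or_lt_of_le hle with h | h
          · exact h.symm
          · exfalso
            have h2 := hco.2 _ h
            rw [← hstab g] at h2
            exact (hcoat (g • α)).1 h2
        have hgn : g ∈ Subgroup.normalizer ((stabilizer G α : Subgroup G) : Set G) :=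
          mem_normalizer_iff_cj.mpr heq
        have hlt : stabilizer G α < Subgroup.normalizer ((stabilizer G α : Subgroup G) : Set G) := by
          apply lt_of_le_of_ne Subgroup.le_normalizer
          intro h
          apply hg
          rw [h]
          exact hgn
        have htop := hco.2 _ hlt
        have hHn : (stabilizer G α).Normal := Subgroup.normalizer_eq_top_iff.mp htop
        exact hHbot (eq_bot_of_normal_le hcore hHn le_rfl)
      refine ⟨inf_le_left, hKne, ?_⟩
      intro L hKL hLH
      obtain ⟨h₀, hh₀, hh₀ω⟩ : ∃ h₀ ∈ stabilizer G α, h₀ • (g • α) ≠ g • α := by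
        by_contra hcon
        apply hKne
        apply le_antisymm inf_le_left
        intro h hh
        refine ⟨hh, ?_⟩
        show h ∈ cj g (stabilizer G α)
        rw [← hstab g, mem_stabilizer_iff]
        by_contra hne
        exact hcon ⟨h, hh, hne⟩
      have hpp := hep α (g • α)
      obtain ⟨p₀, hp₀⟩ : ∃ p₀ : ↥(orbit ↥(stabilizer G α) (g • α)), (p₀ : Ω) = g • α :=
        ⟨⟨g • α, mem_orbit_self _⟩, rfl⟩
      obtain ⟨p₁, hp₁⟩ : ∃ p₁ : ↥(orbit ↥(stabilizer G α) (g • α)), (p₁ : Ω) = h₀ • (g • α) :=
        ⟨⟨h₀ • (g • α), ⟨⟨h₀, hh₀⟩, rfl⟩⟩, rfl⟩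
      have hOnt : Nontrivial ↥(orbit ↥(stabilizer G α) (g • α)) := by
        refine ⟨⟨p₁, p₀, fun e => hh₀ω ?_⟩⟩
        have e' := congrArg Subtype.val e
        rw [hp₁, hp₀] at e'
        exact e'
      have hcoK : IsCoatom (stabilizer ↥(stabilizer G α) p₀) :=
        MulAction.IsPreprimitive.isCoatom_stabilizer_of_isPreprimitive (G := ↥(stabilizer G α)) p₀
      have hmemK : ∀ x : ↥(stabilizer G α), x ∈ stabilizer ↥(stabilizer G α) p₀ ↔
          (x : G) ∈ cj g (stabilizer G α) := by
        intro x
        rw [← hstab g, mem_stabilizer_iff, mem_stabilizer_iff, Subtype.ext_iff,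
          MulAction.orbit.coe_smul, hp₀]
        rfl
      have hle' : stabilizer ↥(stabilizer G α) p₀ ≤ L.subgroupOf (stabilizer G α) := by
        intro x hx
        rw [Subgroup.mem_subgroupOf]
        exact hKL ⟨x.2, (hmemK x).mp hx⟩
      rcases eq_or_lt_of_le hle' with h | h
      · left
        apply le_antisymm _ hKL
        intro l hl
        have h3 : (⟨l, hLH hl⟩ : ↥(stabilizer G α)) ∈ L.subgroupOf (stabilizer G α) :=
          Subgroup.mem_subgroupOf.mpr hl
        rw [← h, hmemK] at h3
        exact ⟨hLH hl, h3⟩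
      · right
        have htop := hcoK.2 _ h
        apply le_antisymm hLH
        intro x hx
        have h3 : (⟨x, hx⟩ : ↥(stabilizer G α)) ∈ L.subgroupOf (stabilizer G α) := by
          rw [htop]
          exact Subgroup.mem_top _
        exact Subgroup.mem_subgroupOf.mp h3
    rcases main hco hcore hM with ⟨N, hN, hN1, hab, hNst⟩ | ⟨N, hN, hNs, hNna, hNc⟩
    · left
      refine ⟨N, hN, hN1, ⟨⟨fun x y => Subtype.ext (hab x x.2 y y.2)⟩⟩, ?_⟩
      intro ω
      obtain ⟨g, rfl⟩ := MulAction.exists_smul_eq G α ω
      rw [eq_bot_iff]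
      intro x hx
      have hx' : (x : G) ∈ stabilizer G (g • α) := hx
      rw [hstab g] at hx'
      have h3 : (x : G) ∈ N ⊓ cj g (stabilizer G α) := ⟨x.2, hx'⟩
      rw [hNst g, Subgroup.mem_bot] at h3
      rw [Subgroup.mem_bot]
      exact Subtype.ext h3
    · right
      refine ⟨N, hN, hNs, ?_, hNc⟩
      intro hc
      obtain ⟨a, ha, b, hb, hne⟩ := hNna
      exact hne (congrArg Subtype.val (hc.is_comm.comm ⟨a, ha⟩ ⟨b, hb⟩))

end Cfsg.Agent.S3493
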