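import Mathlib
import Cfsg.Statements.S3495

set_option autoImplicit false
open Cfsg

namespace Cfsg.Agent.S3495

open MulAction

/-- Let a finite group G act faithfully and primitively on a finite set Ω with non-trivial point stabilizers, each acting primitively on every one of its orbits (an extremely primitive group), and suppose G has an elementary abelian normal p-subgroup N acting regularly on Ω (affine type). Then every non-trivial subgroup M of a point stabilizer G_α that is normal in G_α has the same orbits on Ω as G_α, and normalizes no subgroup of N other than 1 and N. -/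
theorem result {G : Type*} [Group G] [Finite G] {Ω : Type*} [Fintype Ω] [MulAction G Ω] [FaithfulSMul G Ω] (hprim : MulAction.IsPreprimitive G Ω) (hH : ∀ α : Ω, MulAction.stabilizer G α ≠ ⊥) (hep : ∀ (α : Ω) (ω : Ω), MulAction.IsPreprimitive (MulAction.stabilizer G α) (MulAction.orbit (MulAction.stabilizer G α) ω))
    (N : Subgroup G) [N.Normal] (hNc : IsMulCommutative N) (p : ℕ) (hp : p.Prime) (hNp : ∀ n ∈ N, n ^ p = 1)
    (hNtr : MulAction.IsPretransitive N Ω) (hNreg : ∀ ω : Ω, MulAction.stabilizer N ω = ⊥) (α : Ω) (M : Subgroup G) (hM : M ≠ ⊥) (hMle : M ≤ MulAction.stabilizer G α)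
    (hMn : MulAction.stabilizer G α ≤ Subgroup.normalizer (M : Set G)) :
    (∀ ω : Ω, MulAction.orbit M ω = MulAction.orbit (MulAction.stabilizer G α) ω) ∧
    (∀ L : Subgroup G, L ≤ N → M ≤ Subgroup.normalizer (L : Set G) → L = ⊥ ∨ L = N) := by
  classical
  have hNnormal : N.Normal := inferInstance
  -- `Ω` is nontrivial
  have hnontriv : Nontrivial Ω := by
    by_contra hcon
    rw [not_nontrivial_iff_subsingleton] at hcon
    apply hH α
    rw [Subgroup.eq_bot_iff_forall]
    intro g _
    apply FaithfulSMul.eq_of_smul_eq_smul (α := Ω)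
    intro ω
    exact Subsingleton.elim _ _
  -- transitivity and regularity of `N`
  have hNα : ∀ ω : Ω, ∃ n ∈ N, n • α = ω := by
    intro ω
    obtain ⟨⟨n, hn⟩, h⟩ := hNtr.exists_smul_eq α ω
    exact ⟨n, hn, h⟩
  have hreg : ∀ n ∈ N, ∀ ω : Ω, n • ω = ω → n = 1 := by
    intro n hn ω h
    have h1 : (⟨n, hn⟩ : N) ∈ stabilizer N ω := h
    rw [hNreg ω, Subgroup.mem_bot] at h1
    exact congrArg Subtype.val h1
  have hstab : ∀ g ∈ stabilizer G α, g • α = α := fun g hg => hg
  have hstab' : ∀ g ∈ stabilizer G α, g⁻¹ • α = α := fun g hg =>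
    (stabilizer G α).inv_mem hg
  have hconj : ∀ g ∈ stabilizer G α, ∀ n : G, g • (n • α) = (g * n * g⁻¹) • α := by
    intro g hg n
    rw [mul_smul, mul_smul, hstab' g hg]
  have hconj' : ∀ g ∈ stabilizer G α, ∀ n ∈ N, ∀ n' ∈ N, g • (n • α) = n' • α →
      g * n * g⁻¹ = n' := by
    intro g hg n hn n' hn' h
    rw [hconj g hg n] at h
    have hmem : n'⁻¹ * (g * n * g⁻¹) ∈ N :=
      N.mul_mem (N.inv_mem hn') (hNnormal.conj_mem n hn g)
    have h1 := hreg _ hmem α (by rw [mul_smul, h, inv_smul_smul])
    exact (inv_mul_eq_one.1 h1).symm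
  -- invariant subgroups of `N`
  have hL : ∀ L : Subgroup G, L ≤ N → (∀ g ∈ stabilizer G α, ∀ l ∈ L, g * l * g⁻¹ ∈ L) →
      L = ⊥ ∨ L = N := by
    intro L hLN hinv
    have hHL : stabilizer G α ≤ Subgroup.normalizer (L : Set G) :=
      Subgroup.le_normalizer_iff.2 hinv
    have hcoatom : IsCoatom (stabilizer G α) :=
      IsPreprimitive.isCoatom_stabilizer_of_isPreprimitive G α
    by_cases hle : L ≤ stabilizer G α
    · left
      rw [Subgroup.eq_bot_iff_forall]
      intro l hl
      exact hreg l (hLN hl) α (hle hl)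
    · right
      have hlt : stabilizer G α < L ⊔ stabilizer G α := by
        refine lt_of_le_of_ne le_sup_right ?_
        intro h
        apply hle
        rw [h]
        exact le_sup_left
      have htop : L ⊔ stabilizer G α = ⊤ := hcoatom.2 _ hlt
      apply le_antisymm hLN
      intro n hn
      have hmem : n ∈ ((L ⊔ stabilizer G α : Subgroup G) : Set G) := by
        rw [htop]; exact Set.mem_univ _
      rw [Subgroup.coe_mul_of_right_le_normalizer_left L (stabilizer G α) hHL] at hmem
      obtain ⟨l, hl, h, hh, rfl⟩ := hmem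
      have hhN : h ∈ N := by
        have : h = l⁻¹ * (l * h) := by group
        rw [this]
        exact N.mul_mem (N.inv_mem (hLN hl)) hn
      have h1 : h = 1 := hreg h hhN α hh
      show l * h ∈ L
      rw [h1, mul_one]
      exact hl
  -- the centralizer of `N` meets the stabilizer trivially
  have hcent : ∀ g ∈ stabilizer G α, (∀ n ∈ N, g * n = n * g) → g = 1 := by
    intro g hg hc
    apply FaithfulSMul.eq_of_smul_eq_smul (α := Ω)
    intro ω
    obtain ⟨n, hn, rfl⟩ := hNα ω
    rw [one_smul, ← mul_smul, hc n hn, mul_smul, hstab g hg]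
  -- `M` fixes only `α`
  have hfixM : ∀ ω : Ω, (∀ m ∈ M, m • ω = ω) → ω = α := by
    intro ω hω
    have hLinv : ∀ g ∈ stabilizer G α, ∀ l ∈ N ⊓ Subgroup.centralizer (M : Set G),
        g * l * g⁻¹ ∈ N ⊓ Subgroup.centralizer (M : Set G) := by
      intro g hg l hl
      rw [Subgroup.mem_inf] at hl ⊢
      refine ⟨hNnormal.conj_mem l hl.1 g, ?_⟩
      rw [Subgroup.mem_centralizer_iff]
      intro m hm
      have hm' : g⁻¹ * m * g ∈ M := by
        have := (Subgroup.le_normalizer_iff.1 hMn) g⁻¹ ((stabilizer G α).inv_mem hg) m hm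
        simpa using this
      have hc := (Subgroup.mem_centralizer_iff.1 hl.2) _ hm'
      -- hc : g⁻¹ * m * g * l = l * (g⁻¹ * m * g)
      calc m * (g * l * g⁻¹) = g * (g⁻¹ * m * g * l) * g⁻¹ := by group
        _ = g * (l * (g⁻¹ * m * g)) * g⁻¹ := by rw [hc]
        _ = g * l * g⁻¹ * m := by group
    rcases hL _ inf_le_left hLinv with h | h
    · obtain ⟨n, hn, rfl⟩ := hNα ω
      have hnL : n ∈ N ⊓ Subgroup.centralizer (M : Set G) := by
        rw [Subgroup.mem_inf]
        refine ⟨hn, ?_⟩
        rw [Subgroup.mem_centralizer_iff]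
        intro m hm
        have h1 := hconj' m (hMle hm) n hn n hn (hω m hm)
        exact mul_inv_eq_iff_eq_mul.1 h1
      rw [h, Subgroup.mem_bot] at hnL
      rw [hnL, one_smul]
    · exfalso
      apply hM
      rw [Subgroup.eq_bot_iff_forall]
      intro m hm
      apply hcent m (hMle hm)
      intro n hn
      have hnL : n ∈ N ⊓ Subgroup.centralizer (M : Set G) := by rw [h]; exact hn
      exact (Subgroup.mem_centralizer_iff.1 (Subgroup.mem_inf.1 hnL).2) m hm
  -- the orbits
  have horb : ∀ ω : Ω, orbit M ω = orbit (stabilizer G α) ω := by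
    intro ω
    apply Set.Subset.antisymm
    · rintro _ ⟨⟨m, hm⟩, rfl⟩
      exact ⟨⟨m, hMle hm⟩, rfl⟩
    · by_cases hωα : ω = α
      · rintro _ ⟨⟨h, hh⟩, rfl⟩
        refine ⟨1, ?_⟩
        show (1 : M) • ω = h • ω
        rw [one_smul, hωα]
        exact (hstab h hh).symm
      · have hprimX := hep α ω
        have hM'n : (M.subgroupOf (stabilizer G α)).Normal :=
          (Subgroup.normal_subgroupOf_iff_le_normalizer hMle).2 hMn
        have hnotfix : fixedPoints (M.subgroupOf (stabilizer G α))
            (orbit (stabilizer G α) ω) ≠ Set.univ := by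
          intro h
          have h1 : (⟨ω, mem_orbit_self ω⟩ : orbit (stabilizer G α) ω) ∈
              fixedPoints (M.subgroupOf (stabilizer G α)) (orbit (stabilizer G α) ω) := by
            rw [h]; exact Set.mem_univ _
          apply hωα
          apply hfixM
          intro m hm
          have h2 := h1 ⟨⟨m, hMle hm⟩, hm⟩
          exact congrArg Subtype.val h2
        have htr : IsPretransitive (M.subgroupOf (stabilizer G α))
            (orbit (stabilizer G α) ω) :=
          IsQuasiPreprimitive.isPretransitive_of_normal hnotfix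
        rintro _ ⟨h, rfl⟩
        obtain ⟨⟨⟨m, hmH⟩, hmM⟩, hm⟩ := htr.exists_smul_eq
          (⟨ω, mem_orbit_self ω⟩ : orbit (stabilizer G α) ω) ⟨h • ω, mem_orbit _ h⟩
        exact ⟨⟨m, hmM⟩, congrArg Subtype.val hm⟩
  refine ⟨horb, ?_⟩
  intro L hLN hML
  apply hL L hLN
  intro g hg l hl
  have h1 : g • (l • α) ∈ orbit (stabilizer G α) (l • α) := ⟨⟨g, hg⟩, rfl⟩
  rw [← horb] at h1
  obtain ⟨⟨m, hm⟩, hm'⟩ := h1
  have hm'' : m • (l • α) = g • (l • α) := hm'
  have hl' : m * l * m⁻¹ ∈ L := (Subgroup.le_normalizer_iff.1 hML) m hm l hl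
  rw [hconj m (hMle hm) l] at hm''
  have := hconj' g hg l (hLN hl) (m * l * m⁻¹) (hLN hl') hm''.symm
  rw [this]
  exact hl'

end Cfsg.Agent.S3495
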