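import Cfsg.Statements.S3496
import Cfsg.Agent.S3497
import Cfsg.Agent.Lib.Helper19.SemilinearOne
import Cfsg.Agent.Lib.Helper19.FpfAbelian
import Cfsg.Agent.Lib.Helper1.SZ
import Mathlib

set_option autoImplicit false
open Cfsg

namespace Cfsg.Agent.S3496

open MulAction Cfsg.Agent.Lib.Helper19

section Linear

/-- additive endomorphism attached to a multiplicative automorphism -/
noncomputable def endOf (p : ℕ) {A : Type*} [CommGroup A] [Module (ZMod p) (Additive A)] :
    MulAut A →* Module.End (ZMod p) (Additive A) where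
  toFun := fun σ => (MonoidHom.toAdditive σ.toMonoidHom).toZModLinearMap p
  map_one' := by ext; rfl
  map_mul' := by intros; ext; rfl

theorem endOf_apply (p : ℕ) {A : Type*} [CommGroup A] [Module (ZMod p) (Additive A)]
    (σ : MulAut A) (a : A) : endOf p σ (Additive.ofMul a) = Additive.ofMul (σ a) := rfl

theorem endOf_injective (p : ℕ) {A : Type*} [CommGroup A] [Module (ZMod p) (Additive A)] :
    Function.Injective (endOf p (A := A)) := by
  intro σ τ h
  ext a
  have := LinearMap.congr_fun h (Additive.ofMul a)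
  exact this

theorem linear_key (p : ℕ) [Fact p.Prime] {A : Type*} [CommGroup A] [Finite A]
    [Module (ZMod p) (Additive A)] (q d : ℕ) (hq : q.Prime) (hcard : Nat.card A = p ^ d) (hd : 0 < d)
    {Q : Type*} [Group Q] (c : Q →* MulAut A) (hc : Function.Injective c)
    (t : Q) (htq : t ^ q = 1) (hfix : ∀ v : A, c t v = v → v = 1)
    (hirr : ∀ W : Subgroup A, (∀ w ∈ W, c t w ∈ W) → W = ⊥ ∨ W = ⊤) :
    (∀ i, 0 < i → i < d → ¬ q ∣ p ^ i - 1) ∧
    (∀ (h : Q) (k : ℕ), h * t * h⁻¹ = t ^ k → ∃ j : ℕ, h * t * h⁻¹ = t ^ (p ^ j)) := by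
  set τ : Module.End (ZMod p) (Additive A) := endOf p (c t) with hτ
  have hcardM : Nat.card (Additive A) = p ^ d := hcard
  have hτq : τ ^ q = 1 := by
    rw [hτ, ← map_pow, ← map_pow, htq, map_one, map_one]
  have hfix' : ∀ v : Additive A, τ v = v → v = 0 := by
    intro v hv
    have := hfix (Additive.toMul v) (by
      have h1 : τ (Additive.ofMul (Additive.toMul v)) = Additive.ofMul (c t (Additive.toMul v)) := rfl
      have h2 : Additive.ofMul (c t (Additive.toMul v)) = v := by rw [← h1]; exact hv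
      exact congrArg Additive.toMul h2)
    exact congrArg Additive.ofMul this
  have hirr' : ∀ W : Submodule (ZMod p) (Additive A), (∀ v ∈ W, τ v ∈ W) → W = ⊥ ∨ W = ⊤ := by
    intro W hW
    let W' : Subgroup A :=
      { carrier := {a | Additive.ofMul a ∈ W}
        one_mem' := W.zero_mem
        mul_mem' := fun {a b} ha hb => W.add_mem ha hb
        inv_mem' := fun {a} ha => W.neg_mem ha }
    have hW' : ∀ a, a ∈ W' ↔ Additive.ofMul a ∈ W := fun a => Iff.rfl
    rcases hirr W' (fun w hw => by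
      rw [hW'] at hw ⊢
      exact hW _ hw) with h | h
    · left
      rw [eq_bot_iff]
      intro v hv
      have : Additive.toMul v ∈ W' := hv
      rw [h, Subgroup.mem_bot] at this
      rw [Submodule.mem_bot]
      exact congrArg Additive.ofMul this
    · right
      rw [eq_top_iff]
      intro v _
      have : Additive.toMul v ∈ W' := by rw [h]; trivial
      exact this
  obtain ⟨h1, h2⟩ := semilinear_key q d hq hcardM hd τ hτq hfix' hirr'
  refine ⟨h1, ?_⟩
  intro h k hk
  let η : Additive A ≃ₗ[ZMod p] Additive A :=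
    LinearEquiv.ofLinearMap (endOf p (c h)) (endOf p (c h⁻¹))
      (by
        show endOf p (c h) * endOf p (c h⁻¹) = 1
        rw [← map_mul, ← map_mul, mul_inv_cancel, map_one, map_one])
      (by
        show endOf p (c h⁻¹) * endOf p (c h) = 1
        rw [← map_mul, ← map_mul, inv_mul_cancel, map_one, map_one])
  have hη : (η : Module.End (ZMod p) (Additive A)) = endOf p (c h) := rfl
  obtain ⟨j, hj⟩ := h2 k η (by
    rw [hη, hτ, ← map_pow, ← map_pow, ← map_mul, ← map_mul, ← map_mul, ← map_mul]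
    congr 2
    rw [← hk]
    group)
  refine ⟨j, ?_⟩
  rw [hτ, ← map_pow, ← map_pow, ← map_pow, ← map_pow] at hj
  have := hc (endOf_injective p hj)
  rw [hk, this]

end Linear

section Quot

theorem quotient_bound {H : Type*} [Group H] [Finite H] (F : Subgroup H) (t : H) (q p d : ℕ)
    [hq : Fact q.Prime] (hFt : F = Subgroup.zpowers t) (hord : orderOf t = q)
    (hcent : ∀ c : H, c * t = t * c → c ∈ F)
    (hqd : q ∣ p ^ d - 1) (hp : 0 < p) (hdpos : 0 < d)
    (hconj : ∀ h : H, ∃ j : ℕ, h * t * h⁻¹ = t ^ (p ^ j)) :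
    Nat.card H ∣ q * d ∧ ∃ h : H, (⊤ : Subgroup H) = F ⊔ Subgroup.zpowers h := by
  have hq' : q.Prime := hq.out
  have hpd1 : 1 ≤ p ^ d := Nat.one_le_pow _ _ hp
  have hpq : Nat.Coprime p q := by
    rw [Nat.coprime_comm]
    apply (Nat.Prime.coprime_iff_not_dvd hq').mpr
    intro h
    have h1 : q ∣ p ^ d := dvd_pow h hdpos.ne'
    have h2 : q ∣ p ^ d - (p ^ d - 1) := Nat.dvd_sub h1 hqd
    have h3 : p ^ d - (p ^ d - 1) = 1 := by omega
    rw [h3] at h2
    exact hq'.one_lt.ne' (Nat.dvd_one.mp h2)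
  set u : (ZMod q)ˣ := ZMod.unitOfCoprime p hpq with hu
  have hukey : ∀ j j' : ℕ, t ^ (p ^ j) = t ^ (p ^ j') ↔ u ^ j = u ^ j' := by
    intro j j'
    rw [pow_eq_pow_iff_modEq, hord, ← ZMod.natCast_eq_natCast_iff, Units.ext_iff]
    simp [hu]
  have hud : u ^ d = 1 := by
    rw [← pow_zero u, ← hukey, pow_zero, pow_one]
    obtain ⟨c, hc⟩ := hqd
    have : p ^ d = q * c + 1 := by omega
    rw [this, pow_succ, pow_mul, ← hord, pow_orderOf_eq_one, one_pow, one_mul]
  let κf : H → (ZMod q)ˣ := fun h => u ^ (Classical.choose (hconj h))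
  have hκf : ∀ (h : H) (j : ℕ), h * t * h⁻¹ = t ^ (p ^ j) → κf h = u ^ j := by
    intro h j hj
    show u ^ (Classical.choose (hconj h)) = u ^ j
    rw [← hukey, ← hj, ← Classical.choose_spec (hconj h)]
  let κ : H →* (ZMod q)ˣ := MonoidHom.mk' κf (by
    intro a b
    obtain ⟨ja, hja⟩ := hconj a
    obtain ⟨jb, hjb⟩ := hconj b
    rw [hκf a ja hja, hκf b jb hjb, ← pow_add]
    apply hκf
    have : a * b * t * (a * b)⁻¹ = a * (b * t * b⁻¹) * a⁻¹ := by group
    rw [this, hjb, ← conj_pow, hja, ← pow_mul, ← pow_add])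
  have hκ : ∀ (h : H) (j : ℕ), h * t * h⁻¹ = t ^ (p ^ j) → κ h = u ^ j := hκf
  have hker : κ.ker = F := by
    ext h
    rw [MonoidHom.mem_ker]
    obtain ⟨j, hj⟩ := hconj h
    rw [hκ h j hj, ← pow_zero u, ← hukey, pow_zero, pow_one, ← hj]
    constructor
    · intro h1
      apply hcent
      exact mul_inv_eq_iff_eq_mul.mp h1
    · intro h1
      rw [hFt] at h1
      obtain ⟨n, rfl⟩ := h1
      group
  have hrange : κ.range ≤ Subgroup.zpowers u := by
    rintro _ ⟨h, rfl⟩
    obtain ⟨j, hj⟩ := hconj h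
    rw [hκ h j hj]
    exact Subgroup.npow_mem_zpowers u j
  have hcardF : Nat.card F = q := by
    rw [hFt, Nat.card_zpowers, hord]
  refine ⟨?_, ?_⟩
  · have h1 : Nat.card κ.range ∣ d := by
      have h2 := Subgroup.card_dvd_of_le hrange
      rw [Nat.card_zpowers] at h2
      exact h2.trans (orderOf_dvd_of_pow_eq_one hud)
    have h3 : Nat.card H = Nat.card κ.ker * Nat.card κ.range := by
      rw [← Subgroup.index_ker, mul_comm, Subgroup.index_mul_card]
    rw [h3, hker, hcardF]
    exact Nat.mul_dvd_mul_left q h1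
  · haveI : IsCyclic κ.range := inferInstance
    obtain ⟨⟨g, h₁, rfl⟩, hg⟩ := IsCyclic.exists_generator (α := κ.range)
    refine ⟨h₁, ?_⟩
    symm
    rw [eq_top_iff]
    intro x _
    have hx := hg ⟨κ x, x, rfl⟩
    obtain ⟨n, hn⟩ := Subgroup.mem_zpowers_iff.mp hx
    have hn' : κ h₁ ^ n = κ x := by
      have := congrArg Subtype.val hn
      simpa using this
    have hxk : x * (h₁ ^ n)⁻¹ ∈ F := by
      rw [← hker, MonoidHom.mem_ker, map_mul, map_inv, map_zpow, hn', mul_inv_cancel]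
    have : x = (x * (h₁ ^ n)⁻¹) * h₁ ^ n := by group
    rw [this]
    exact Subgroup.mul_mem _ (Subgroup.mem_sup_left hxk)
      (Subgroup.mem_sup_right (Subgroup.zpow_mem_zpowers h₁ n))

end Quot

section Main
open Cfsg.Agent.S3497 Cfsg.Agent.Lib.Helper1

variable {G : Type*} [Group G] [Finite G] {Ω : Type*} [Fintype Ω] [MulAction G Ω]
  [FaithfulSMul G Ω]

/-- faithfulness of the stabilizer on nontrivial orbits -/
lemma faithful_orbit (hprim : IsPreprimitive G Ω)
    (hep : ∀ (α : Ω) (ω : Ω), IsPreprimitive (stabilizer G α) (orbit (stabilizer G α) ω))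
    (α ω : Ω) (hω : ω ≠ α) : FaithfulSMul (stabilizer G α) (orbit (stabilizer G α) ω) := by
  constructor
  intro h₁ h₂ hh
  have : h₂⁻¹ * h₁ = 1 := by
    apply manning hprim hep α ω hω (h₂⁻¹ * h₁)
    intro x hx
    have h3 : h₁ • x = h₂ • x := congrArg Subtype.val (hh ⟨x, hx⟩)
    rw [mul_smul, h3, inv_smul_smul]
  exact (inv_mul_eq_one.mp this).symm

/-- an abelian normal subgroup of a primitive group is regular -/
lemma V_facts (hprim : IsPreprimitive G Ω) (V : Subgroup G) [V.Normal] (hV : V ≠ ⊥)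
    (hVc : ∀ a ∈ V, ∀ b ∈ V, a * b = b * a) (α : Ω) :
    (∀ x : Ω, ∃ v ∈ V, v • α = x) ∧ (∀ v ∈ V, v • α = α → v = 1) ∧
      Nat.card V = Fintype.card Ω := by
  have h1 : ∀ x : Ω, ∃ v ∈ V, v • α = x := fun x => abelian_normal_transitive V hV α x
  have h2 : ∀ v ∈ V, v • α = α → v = 1 := fun v hv hvα => abelian_normal_free V hV hVc hv hvα
  refine ⟨h1, h2, ?_⟩
  rw [← Nat.card_eq_fintype_card]
  apply Nat.card_congr
  refine Equiv.ofBijective (fun v : V => v.1 • α) ⟨?_, ?_⟩
  · intro v w hvw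
    have hvw : v.1 • α = w.1 • α := hvw
    have h3 : (w.1⁻¹ * v.1) • α = α := by
      rw [mul_smul, hvw, inv_smul_smul]
    have h4 := h2 _ (V.mul_mem (V.inv_mem w.2) v.2) h3
    exact Subtype.ext (inv_mul_eq_one.mp h4).symm
  · intro x
    obtain ⟨v, hv, hvx⟩ := h1 x
    exact ⟨⟨v, hv⟩, hvx⟩

set_option maxHeartbeats 1600000 in
theorem core (p d : ℕ) (hp : p.Prime) (hcard : Fintype.card Ω = p ^ d)
    (hprim : IsPreprimitive G Ω)
    (hep : ∀ (α ω : Ω), IsPreprimitive (stabilizer G α) (orbit (stabilizer G α) ω)) (α : Ω)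
    (hHne : stabilizer G α ≠ ⊥)
    (V : Subgroup G) [hVn : V.Normal] (hV : V ≠ ⊥) (hVc : ∀ a ∈ V, ∀ b ∈ V, a * b = b * a)
    (hVp : ∀ x ∈ V, x ^ p = 1)
    (hF : fittingSubgroup (stabilizer G α) ≠ ⊥) :
    ∃ q : ℕ, q.Prime ∧ (∀ ω : Ω, ω ≠ α → Nat.card (MulAction.orbit (MulAction.stabilizer G α) ω) = q) ∧
      q ∣ p ^ d - 1 ∧ (∀ i : ℕ, 0 < i → i < d → ¬ q ∣ p ^ i - 1) ∧
      ∃ T : Subgroup G, T ≤ MulAction.stabilizer G α ∧ MulAction.stabilizer G α ≤ Subgroup.normalizer (T : Set G) ∧ Nat.card T = q ∧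
        (∃ h : G, MulAction.stabilizer G α = T ⊔ Subgroup.zpowers h) ∧ Nat.card (MulAction.stabilizer G α) ∣ q * d := by
  classical
  haveI : Fact p.Prime := ⟨hp⟩
  obtain ⟨hVtrans, hVfree, hVcard⟩ := V_facts hprim V hV hVc α
  have hVcard' : Nat.card V = p ^ d := by rw [hVcard, hcard]
  have hd : 0 < d := by
    by_contra h
    have hd0 : d = 0 := by omega
    rw [hd0, pow_zero] at hVcard'
    exact hV (Subgroup.card_eq_one.mp hVcard')
  obtain ⟨ω₀, hω₀⟩ : ∃ ω : Ω, ω ≠ α := by
    by_contra hcon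
    push Not at hcon
    apply hHne
    rw [eq_bot_iff]
    intro g hg
    rw [Subgroup.mem_bot]
    apply FaithfulSMul.eq_of_smul_eq_smul (α := Ω)
    intro x
    rw [hcon x, one_smul]
    exact hg
  haveI := faithful_orbit hprim hep α ω₀ hω₀
  haveI := hep α ω₀
  obtain ⟨hcomm, hcent, q, hq, hexp⟩ := fitting_facts (orbit (stabilizer G α) ω₀) hF
  haveI : Fact q.Prime := ⟨hq⟩
  haveI hFn : (fittingSubgroup (stabilizer G α)).Normal := fittingSubgroup_normal
  have hFfree : ∀ (f : stabilizer G α), f ∈ fittingSubgroup (stabilizer G α) →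
      ∀ ω : Ω, ω ≠ α → f.1 • ω = ω → f = 1 := by
    intro f hf ω hω hfω
    haveI := faithful_orbit hprim hep α ω hω
    haveI := hep α ω
    have hax' : f • (⟨ω, mem_orbit_self ω⟩ : orbit (stabilizer G α) ω) =
        ⟨ω, mem_orbit_self ω⟩ := Subtype.ext hfω
    exact abelian_normal_free (fittingSubgroup (stabilizer G α)) hF hcomm hf hax'
  have hFtrans : ∀ ω : Ω, ω ≠ α → ∀ h : stabilizer G α,
      ∃ f ∈ fittingSubgroup (stabilizer G α), f.1 • ω = h.1 • ω := by
    intro ω hω h
    haveI := faithful_orbit hprim hep α ω hω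
    haveI := hep α ω
    obtain ⟨f, hf, hfω⟩ := abelian_normal_transitive (fittingSubgroup (stabilizer G α)) hF
      (⟨ω, mem_orbit_self ω⟩ : orbit (stabilizer G α) ω) ⟨h.1 • ω, ⟨h, rfl⟩⟩
    exact ⟨f, hf, congrArg Subtype.val hfω⟩
  have hFdvd : Nat.card (fittingSubgroup (stabilizer G α)) ∣ p ^ d - 1 := by
    rw [← hcard, ← Nat.card_eq_fintype_card]
    apply card_dvd_card_sub_one_of_free (A := fittingSubgroup (stabilizer G α)) (X := Ω) α
    · intro a
      exact a.1.2
    · intro a x hx hax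
      exact Subtype.ext (hFfree a.1 a.2 x hx hax)
  have hfixV : ∀ (f : stabilizer G α), f ∈ fittingSubgroup (stabilizer G α) → ∀ v ∈ V, v ≠ 1 →
      f.1 * v * f.1⁻¹ = v → f = 1 := by
    intro f hf v hv hv1 hfv
    apply hFfree f hf (v • α)
    · intro h
      exact hv1 (hVfree v hv h)
    · have hfα : f.1 • α = α := f.2
      calc f.1 • v • α = (f.1 * v * f.1⁻¹) • (f.1 • α) := by simp [mul_smul]
        _ = v • α := by rw [hfv, hfα]
  obtain ⟨t, htF, ht1⟩ : ∃ t : stabilizer G α, t ∈ fittingSubgroup (stabilizer G α) ∧ t ≠ 1 :=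
    (Subgroup.ne_bot_iff_exists_ne_one.mp hF).elim fun t ht => ⟨t.1, t.2, fun h => ht (Subtype.ext h)⟩
  have htq : t ^ q = 1 := hexp t htF
  have hordt : orderOf t = q := orderOf_eq_prime htq ht1
  have hqdvd : q ∣ p ^ d - 1 := by
    have h1 : q ∣ Nat.card (fittingSubgroup (stabilizer G α)) := by
      rw [← hordt]
      have := orderOf_dvd_natCard (⟨t, htF⟩ : fittingSubgroup (stabilizer G α))
      rwa [Subgroup.orderOf_mk] at this
    exact h1.trans hFdvd
  have hpd1 : 1 ≤ p ^ d := Nat.one_le_pow _ _ hp.pos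
  have hqp : Nat.Coprime q p := by
    rw [Nat.coprime_primes hq hp]
    rintro rfl
    have h1 : q ∣ q ^ d := dvd_pow_self q hd.ne'
    have h2 : q ∣ q ^ d - (q ^ d - 1) := Nat.dvd_sub h1 hqdvd
    have h3 : q ^ d - (q ^ d - 1) = 1 := by omega
    rw [h3] at h2
    exact hq.one_lt.ne' (Nat.dvd_one.mp h2)
  letI instV : CommGroup V :=
    { (inferInstance : Group V) with mul_comm := fun a b => Subtype.ext (hVc a a.2 b b.2) }
  let cH : stabilizer G α →* MulAut V :=
    (MulAut.conjNormal (H := V)).comp (stabilizer G α).subtype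
  have hcH : ∀ (h : stabilizer G α) (v : V), ((cH h) v : G) = h.1 * v.1 * h.1⁻¹ := fun h v => rfl
  let φ : fittingSubgroup (stabilizer G α) →* MulAut V :=
    cH.comp (fittingSubgroup (stabilizer G α)).subtype
  have hcyc : ∀ a b : fittingSubgroup (stabilizer G α), a ≠ 1 → b ∈ Subgroup.zpowers a := by
    intro a b ha
    haveI : Nontrivial V := (Subgroup.nontrivial_iff_ne_bot V).mpr hV
    apply fpf_abelian_cyclic φ q ?_ ?_ a b ?_ ?_ ?_ ha
    · intro f v hfv
      by_cases hv : v = 1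
      · right; exact hv
      · left
        have := hfixV f.1 f.2 v.1 v.2 (fun h => hv (Subtype.ext h)) (congrArg Subtype.val hfv)
        exact Subtype.ext this
    · intro v hvq
      have h1 : v ^ p = 1 := Subtype.ext (hVp v.1 v.2)
      have := pow_gcd_eq_one.mpr ⟨hvq, h1⟩
      rwa [Nat.Coprime.gcd_eq_one hqp, pow_one] at this
    · exact Subtype.ext (hcomm a.1 a.2 b.1 b.2)
    · exact Subtype.ext (hexp a.1 a.2)
    · exact Subtype.ext (hexp b.1 b.2)
  have hFt : fittingSubgroup (stabilizer G α) = Subgroup.zpowers t := by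
    apply le_antisymm
    · intro b hb
      have := hcyc ⟨t, htF⟩ ⟨b, hb⟩ (by intro h; exact ht1 (congrArg Subtype.val h))
      obtain ⟨n, hn⟩ := Subgroup.mem_zpowers_iff.mp this
      rw [Subgroup.mem_zpowers_iff]
      refine ⟨n, ?_⟩
      have := congrArg Subtype.val hn
      simpa using this
    · rw [Subgroup.zpowers_le]
      exact htF
  have hcardF : Nat.card (fittingSubgroup (stabilizer G α)) = q := by
    rw [hFt, Nat.card_zpowers, hordt]
  -- the linear structure
  have hVexp : ∀ x : Additive V, p • x = 0 := by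
    intro x
    have h1 := hVp (Additive.toMul x).1 (Additive.toMul x).2
    have h2 : (Additive.toMul x) ^ p = 1 := Subtype.ext h1
    exact congrArg Additive.ofMul h2
  have hcHinj : Function.Injective cH := by
    rw [injective_iff_map_eq_one]
    intro h hh
    have h1 : h.1 ∈ V := by
      apply centralizer_le_of_abelian_normal Ω V hV hVc
      intro a ha
      have h2 : ((cH h) ⟨a, ha⟩ : G) = a := by rw [hh]; rfl
      rw [hcH] at h2
      exact mul_inv_eq_iff_eq_mul.mp h2
    exact Subtype.ext (hVfree h.1 h1 h.2)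
  have hfixt : ∀ v : V, cH t v = v → v = 1 := by
    intro v hv
    by_contra hv1
    exact ht1 (hfixV t htF v.1 v.2 (fun h => hv1 (Subtype.ext h)) (congrArg Subtype.val hv))
  have hirr : ∀ W : Subgroup V, (∀ w ∈ W, cH t w ∈ W) → W = ⊥ ∨ W = ⊤ := by
    intro W hW
    by_cases hWb : W = ⊥
    · left; exact hWb
    right
    -- closed under powers of t
    have hWpow : ∀ n : ℕ, ∀ w ∈ W, cH (t ^ n) w ∈ W := by
      intro n
      induction n with
      | zero => intro w hw; rw [pow_zero, map_one]; exact hw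
      | succ n ih =>
        intro w hw
        rw [pow_succ, map_mul]
        exact ih _ (hW w hw)
    have hWF : ∀ f ∈ fittingSubgroup (stabilizer G α), ∀ w ∈ W, cH f w ∈ W := by
      intro f hf w hw
      rw [hFt] at hf
      rw [← mem_powers_iff_mem_zpowers] at hf
      obtain ⟨n, rfl⟩ := hf
      exact hWpow n w hw
    have hWH : ∀ h : stabilizer G α, ∀ w ∈ W, cH h w ∈ W := by
      intro h w hw
      by_cases hw1 : w = 1
      · rw [hw1, map_one]; exact W.one_mem
      have hwα : w.1 • α ≠ α := fun hh => hw1 (Subtype.ext (hVfree w.1 w.2 hh))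
      obtain ⟨f, hf, hfω⟩ := hFtrans (w.1 • α) hwα h
      have hfα : f.1 • α = α := f.2
      have hhα : h.1 • α = α := h.2
      have h1 : ((cH h w : V) : G) • α = ((cH f w : V) : G) • α := by
        rw [hcH, hcH, mul_smul, mul_smul, mul_smul, mul_smul, inv_smul_eq_iff.mpr hhα.symm,
          inv_smul_eq_iff.mpr hfα.symm, hfω]
      have h2 : ((cH f w)⁻¹ * cH h w : V) = 1 := by
        apply Subtype.ext
        apply hVfree _ ((cH f w)⁻¹ * cH h w : V).2
        rw [Subgroup.coe_mul, Subgroup.coe_inv, mul_smul, h1, inv_smul_smul]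
      rw [inv_mul_eq_one] at h2
      rw [← h2]
      exact hWF f hf w hw
    -- the image of W in G is normal
    let W' : Subgroup G := W.map V.subtype
    have hW'mem : ∀ x : G, x ∈ W' ↔ ∃ hx : x ∈ V, (⟨x, hx⟩ : V) ∈ W := by
      intro x
      constructor
      · rintro ⟨w, hw, rfl⟩
        exact ⟨w.2, hw⟩
      · rintro ⟨hx, hw⟩
        exact ⟨⟨x, hx⟩, hw, rfl⟩
    haveI hW'n : W'.Normal := by
      constructor
      intro x hx g
      obtain ⟨hxV, hxW⟩ := (hW'mem x).mp hx
      obtain ⟨v, hv, hvα⟩ := hVtrans (g • α)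
      have hh : v⁻¹ * g ∈ stabilizer G α := by
        rw [mem_stabilizer_iff, mul_smul, ← hvα, inv_smul_smul]
      have h1 := hWH ⟨v⁻¹ * g, hh⟩ ⟨x, hxV⟩ hxW
      have h2 : g * x * g⁻¹ = v * ((v⁻¹ * g) * x * (v⁻¹ * g)⁻¹) * v⁻¹ := by group
      have h3 : ((v⁻¹ * g) * x * (v⁻¹ * g)⁻¹) ∈ V := hVn.conj_mem x hxV _
      have h4 : v * ((v⁻¹ * g) * x * (v⁻¹ * g)⁻¹) * v⁻¹ = ((v⁻¹ * g) * x * (v⁻¹ * g)⁻¹) := by
        rw [hVc v hv _ h3, mul_assoc, mul_inv_cancel, mul_one]
      rw [h2, h4, hW'mem]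
      exact ⟨h3, h1⟩
    have hW'ne : W' ≠ ⊥ := by
      intro h
      apply hWb
      rw [eq_bot_iff]
      intro w hw
      have : w.1 ∈ W' := ⟨w, hw, rfl⟩
      rw [h, Subgroup.mem_bot] at this
      rw [Subgroup.mem_bot]
      exact Subtype.ext this
    rw [eq_top_iff]
    intro v _
    obtain ⟨x, hx, hxα⟩ := abelian_normal_transitive W' hW'ne α (v.1 • α)
    obtain ⟨hxV, hxW⟩ := (hW'mem x).mp hx
    have h1 : (v.1⁻¹ * x) = 1 := by
      apply hVfree _ (V.mul_mem (V.inv_mem v.2) hxV)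
      rw [mul_smul, hxα, inv_smul_smul]
    rw [inv_mul_eq_one] at h1
    have : v = ⟨x, hxV⟩ := Subtype.ext h1
    rw [this]
    exact hxW
  obtain ⟨hkey1, hkey2⟩ := @linear_key p _ V instV _ (AddCommGroup.zmodModule hVexp) q d hq
    hVcard' hd (stabilizer G α) _ cH hcHinj t htq hfixt hirr
  have hconj : ∀ h : stabilizer G α, ∃ j : ℕ, h * t * h⁻¹ = t ^ (p ^ j) := by
    intro h
    have h1 : h * t * h⁻¹ ∈ fittingSubgroup (stabilizer G α) := hFn.conj_mem t htF h
    rw [hFt, ← mem_powers_iff_mem_zpowers] at h1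
    obtain ⟨k, hk⟩ := h1
    exact hkey2 h k hk.symm
  have hcent' : ∀ c : stabilizer G α, c * t = t * c → c ∈ fittingSubgroup (stabilizer G α) := by
    intro c hc
    apply hcent
    intro a ha
    rw [hFt] at ha
    obtain ⟨n, rfl⟩ := Subgroup.mem_zpowers_iff.mp ha
    have : Commute c t := hc
    exact (this.zpow_right n).eq
  obtain ⟨hdvd, h₁, hh₁⟩ := quotient_bound (fittingSubgroup (stabilizer G α)) t q p d hFt hordt
    hcent' hqdvd hp.pos hd hconj
  have horb : ∀ ω : Ω, ω ≠ α → Nat.card (orbit (stabilizer G α) ω) = q := by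
    intro ω hω
    rw [← hcardF]
    symm
    apply Nat.card_congr
    refine Equiv.ofBijective (fun f : fittingSubgroup (stabilizer G α) =>
      (⟨f.1.1 • ω, ⟨f.1, rfl⟩⟩ : orbit (stabilizer G α) ω)) ⟨?_, ?_⟩
    · intro f g hfg
      have h1 : f.1.1 • ω = g.1.1 • ω := congrArg Subtype.val hfg
      have h2 : (g.1⁻¹ * f.1).1 • ω = ω := by
        rw [Subgroup.coe_mul, Subgroup.coe_inv, mul_smul, h1, inv_smul_smul]
      have := hFfree (g.1⁻¹ * f.1) (mul_mem (inv_mem g.2) f.2) ω hω h2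
      exact Subtype.ext (inv_mul_eq_one.mp this).symm
    · rintro ⟨x, h, rfl⟩
      obtain ⟨f, hf, hfω⟩ := hFtrans ω hω h
      exact ⟨⟨f, hf⟩, Subtype.ext hfω⟩
  refine ⟨q, hq, horb, hqdvd, hkey1, ?_⟩
  refine ⟨(fittingSubgroup (stabilizer G α)).map (stabilizer G α).subtype, ?_, ?_, ?_, ?_, hdvd⟩
  · rintro _ ⟨x, _, rfl⟩
    exact x.2
  · intro h hh
    rw [Subgroup.mem_normalizer_iff]
    intro x
    constructor
    · rintro ⟨y, hy, rfl⟩
      exact ⟨⟨h, hh⟩ * y * ⟨h, hh⟩⁻¹, hFn.conj_mem y hy _, rfl⟩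
    · rintro ⟨y, hy, hyx⟩
      refine ⟨⟨h, hh⟩⁻¹ * y * ⟨h, hh⟩, ?_, ?_⟩
      · have := hFn.conj_mem y hy (⟨h, hh⟩⁻¹)
        rwa [inv_inv] at this
      · have : (y : G) = h * x * h⁻¹ := hyx
        simp only [Subgroup.coe_subtype, Subgroup.coe_mul, Subgroup.coe_inv, this]
        group
  · rw [Subgroup.card_map_of_injective (Subgroup.subtype_injective _), hcardF]
  · refine ⟨h₁.1, ?_⟩
    have h1 := congrArg (Subgroup.map (stabilizer G α).subtype) hh₁
    rw [Subgroup.map_sup, MonoidHom.map_zpowers, ← MonoidHom.range_eq_map,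
      Subgroup.range_subtype] at h1
    exact h1

end Main

/-- The soluble extremely primitive groups. Let a finite solvable group G act faithfully and primitively on a finite set Ω with p ^ d points (p prime), with non-trivial point stabilizers each acting primitively on every one of its orbits. Then there is a prime q such that every orbit of a point stabilizer G_α other than {α} has exactly q points, q divides p ^ d − 1 but no p ^ i − 1 with 0 < i < d, and G_α has a normal subgroup T of order q with G_α generated by T and one further element and the order of G_α dividing q·d (so G_α is cyclic of order q, or an extension of T by a cyclic group of order dividing d). -/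
theorem result {G : Type*} [Group G] [Finite G] {Ω : Type*} [Fintype Ω] [MulAction G Ω] [FaithfulSMul G Ω] [Group.IsSolvable G] (p d : ℕ) (hp : p.Prime) (hcard : Fintype.card Ω = p ^ d)
    (hprim : MulAction.IsPreprimitive G Ω) (hH : ∀ α : Ω, MulAction.stabilizer G α ≠ ⊥) (hep : ∀ (α : Ω) (ω : Ω), MulAction.IsPreprimitive (MulAction.stabilizer G α) (MulAction.orbit (MulAction.stabilizer G α) ω)) (α : Ω) :
    ∃ q : ℕ, q.Prime ∧ (∀ ω : Ω, ω ≠ α → Nat.card (MulAction.orbit (MulAction.stabilizer G α) ω) = q) ∧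
      q ∣ p ^ d - 1 ∧ (∀ i : ℕ, 0 < i → i < d → ¬ q ∣ p ^ i - 1) ∧
      ∃ T : Subgroup G, T ≤ MulAction.stabilizer G α ∧ MulAction.stabilizer G α ≤ Subgroup.normalizer (T : Set G) ∧ Nat.card T = q ∧
        (∃ h : G, MulAction.stabilizer G α = T ⊔ Subgroup.zpowers h) ∧ Nat.card (MulAction.stabilizer G α) ∣ q * d := by
  -- the regular normal subgroup
  have hGtop : (⊤ : Subgroup G) ≠ ⊥ := by
    intro h
    apply hH α
    rw [eq_bot_iff, ← h]
    exact le_top
  have hsolvtop : Group.IsSolvable (⊤ : Subgroup G) := inferInstance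
  obtain ⟨r, hr, V, hVn, -, hV, hVmc, hVr⟩ :=
    Cfsg.Agent.Lib.Helper1.exists_normal_elementary_abelian_le (G := G) _ ⊤ rfl hGtop hsolvtop
  have hVc : ∀ a ∈ V, ∀ b ∈ V, a * b = b * a := by
    intro a ha b hb
    have := hVmc.is_comm.comm ⟨a, ha⟩ ⟨b, hb⟩
    exact congrArg Subtype.val this
  obtain ⟨-, -, hVcard⟩ := V_facts hprim V hV hVc α
  have hrp : r = p := by
    haveI : Fact r.Prime := ⟨hr⟩
    have hPG : IsPGroup r V := by
      intro x
      refine ⟨1, ?_⟩
      rw [pow_one]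
      exact Subtype.ext (hVr x.1 x.2)
    obtain ⟨k, hk⟩ := IsPGroup.iff_card.mp hPG
    have hk0 : k ≠ 0 := by
      rintro rfl
      rw [pow_zero] at hk
      exact hV (Subgroup.card_eq_one.mp hk)
    have h1 : r ∣ p ^ d := by
      rw [← hcard, ← hVcard, hk]
      exact dvd_pow_self r hk0
    exact (Nat.prime_dvd_prime_iff_eq hr hp).mp (hr.dvd_of_dvd_pow h1)
  subst hrp
  -- the Fitting subgroup of the stabilizer
  have hF : fittingSubgroup (stabilizer G α) ≠ ⊥ := by
    have hHtop : (⊤ : Subgroup (stabilizer G α)) ≠ ⊥ := by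
      intro h
      apply hH α
      rw [eq_bot_iff]
      intro g hg
      have : (⟨g, hg⟩ : stabilizer G α) ∈ (⊤ : Subgroup (stabilizer G α)) := trivial
      rw [h, Subgroup.mem_bot] at this
      rw [Subgroup.mem_bot]
      exact congrArg Subtype.val this
    have hsolv : Group.IsSolvable (⊤ : Subgroup (stabilizer G α)) := inferInstance
    obtain ⟨s, hs, P, hPn, -, hP, hPmc, hPs⟩ :=
      Cfsg.Agent.Lib.Helper1.exists_normal_elementary_abelian_le (G := stabilizer G α) _ ⊤ rfl
        hHtop hsolv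
    haveI : Fact s.Prime := ⟨hs⟩
    have hPG : IsPGroup s P := by
      intro x
      refine ⟨1, ?_⟩
      rw [pow_one]
      exact Subtype.ext (hPs x.1 x.2)
    have hPnil : Group.IsNilpotent P := hPG.isNilpotent
    have hle := Cfsg.Agent.Lib.Helper1.le_fittingSubgroup hPn hPnil
    intro h
    apply hP
    rw [eq_bot_iff, ← h]
    exact hle
  exact core r d hr hcard hprim hep α (hH α) V hV hVc hVr hF

end Cfsg.Agent.S3496
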