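import Mathlib
import Cfsg.Statements.S3514

set_option autoImplicit false
open Cfsg

namespace Cfsg.Agent.S3514

open MulAction Subgroup

section general

variable {G : Type*} [Group G]

theorem card_mul_relIndex' {H K : Subgroup G} (h : H ≤ K) :
    Nat.card H * H.relIndex K = Nat.card K := by
  rw [← relIndex_bot_left, ← relIndex_bot_left, relIndex_mul_relIndex _ _ _ bot_le h]

theorem relIndex_sup_eq [Finite G] (S K : Subgroup G) [K.Normal] :
    S.relIndex (S ⊔ K) = S.relIndex K := by
  have h1 : Nat.card (S ⊓ K : Subgroup G) * K.relIndex S = Nat.card S := by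
    rw [← inf_relIndex_left]; exact card_mul_relIndex' inf_le_left
  have h2 : Nat.card (S ⊓ K : Subgroup G) * S.relIndex K = Nat.card K := by
    rw [← inf_relIndex_right]; exact card_mul_relIndex' inf_le_right
  have h3 : Nat.card K * K.relIndex S = Nat.card (S ⊔ K : Subgroup G) := by
    rw [← relIndex_sup_right]; exact card_mul_relIndex' le_sup_right
  have h4 : Nat.card S * S.relIndex (S ⊔ K) = Nat.card (S ⊔ K : Subgroup G) :=
    card_mul_relIndex' le_sup_left
  have hm : 0 < Nat.card (S ⊓ K : Subgroup G) := Nat.card_pos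
  have hr : K.relIndex S ≠ 0 := Subgroup.index_ne_zero_of_finite
  have : (Nat.card (S ⊓ K : Subgroup G) * K.relIndex S) * S.relIndex (S ⊔ K) =
      (Nat.card (S ⊓ K : Subgroup G) * K.relIndex S) * S.relIndex K := by
    calc (Nat.card (S ⊓ K : Subgroup G) * K.relIndex S) * S.relIndex (S ⊔ K)
        = Nat.card S * S.relIndex (S ⊔ K) := by rw [h1]
      _ = Nat.card (S ⊔ K : Subgroup G) := h4
      _ = Nat.card K * K.relIndex S := h3.symm
      _ = (Nat.card (S ⊓ K : Subgroup G) * S.relIndex K) * K.relIndex S := by rw [h2]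
      _ = (Nat.card (S ⊓ K : Subgroup G) * K.relIndex S) * S.relIndex K := by ring
  exact Nat.eq_of_mul_eq_mul_left (Nat.mul_pos hm (Nat.pos_of_ne_zero hr)) this

theorem relIndex_dvd_index_of_normal' [Finite G] (S K : Subgroup G) [K.Normal] :
    S.relIndex K ∣ S.index := by
  rw [← relIndex_sup_eq]
  exact relIndex_dvd_index_of_le le_sup_left

theorem card_orbit_set {X : Type*} [MulAction G X] (J : Subgroup G) (v : X) :
    Nat.card {u : X | ∃ g ∈ J, g • v = u} = (stabilizer G v).relIndex J := by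
  have h1 : {u : X | ∃ g ∈ J, g • v = u} = orbit J v := by
    ext u
    constructor
    · rintro ⟨g, hg, rfl⟩
      exact ⟨⟨g, hg⟩, rfl⟩
    · rintro ⟨⟨g, hg⟩, rfl⟩
      exact ⟨g, hg, rfl⟩
  rw [h1, Nat.card_coe_set_eq, ← index_stabilizer]
  have : stabilizer J v = (stabilizer G v).subgroupOf J := by
    ext g
    rw [mem_stabilizer_iff, mem_subgroupOf, mem_stabilizer_iff]
    rfl
  rw [this]
  rfl

/-- Part (i), abstractly. -/
theorem relIndex_dvd_relIndex_of_le_normalizer (S K H : Subgroup G) [Finite H] (hKH : K ≤ H)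
    (hn : H ≤ normalizer (K : Set G)) : S.relIndex K ∣ S.relIndex H := by
  have : (K.subgroupOf H).Normal := (normal_subgroupOf_iff_le_normalizer hKH).2 hn
  have h := relIndex_dvd_index_of_normal' (S.subgroupOf H) (K.subgroupOf H)
  rwa [relIndex_subgroupOf hKH] at h

/-- Part (ii), abstractly. -/
theorem relIndex_sup_dvd (N H : Subgroup G) [Finite (N ⊔ H : Subgroup G)]
    (hn : H ≤ normalizer (N : Set G)) : H.relIndex (N ⊔ H) ∣ Nat.card N := by
  have hNJ : N ≤ N ⊔ H := le_sup_left
  have hHJ : H ≤ N ⊔ H := le_sup_right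
  have hJn : N ⊔ H ≤ normalizer (N : Set G) := sup_le le_normalizer hn
  have : (N.subgroupOf (N ⊔ H)).Normal := (normal_subgroupOf_iff_le_normalizer hNJ).2 hJn
  have h := relIndex_sup_eq (H.subgroupOf (N ⊔ H)) (N.subgroupOf (N ⊔ H))
  have e : H ⊔ N = N ⊔ H := sup_comm _ _
  rw [← subgroupOf_sup hHJ hNJ, e, subgroupOf_self, relIndex_top_right,
    relIndex_subgroupOf hNJ] at h
  have h' : H.relIndex (N ⊔ H) = H.relIndex N := h
  rw [h']
  exact relIndex_dvd_card _ _

end general

/-- Let p be a prime, V a finite vector space over the field with p elements, and H a group of linear transformations of V all of whose orbits on V have size coprime to p. (i) Every normal subgroup K of H has all its orbits on V of size coprime to p. (ii) If N is a group of linear transformations of V of order coprime to p that is normalized by H, then the group generated by N and H has all its orbits on V of size coprime to p. -/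
theorem result (p : ℕ) [Fact p.Prime] {V : Type*} [AddCommGroup V] [Module (ZMod p) V] [Finite V]
    (H : Subgroup (V ≃ₗ[ZMod p] V)) (hH : ∀ v : V, ¬ p ∣ Nat.card {u : V | ∃ h ∈ H, h v = u}) :
    (∀ K : Subgroup (V ≃ₗ[ZMod p] V), K ≤ H → H ≤ Subgroup.normalizer (K : Set (V ≃ₗ[ZMod p] V)) →
        ∀ v : V, ¬ p ∣ Nat.card {u : V | ∃ k ∈ K, k v = u}) ∧
    (∀ N : Subgroup (V ≃ₗ[ZMod p] V), ¬ p ∣ Nat.card N → H ≤ Subgroup.normalizer (N : Set (V ≃ₗ[ZMod p] V)) →
        ∀ v : V, ¬ p ∣ Nat.card {u : V | ∃ x ∈ N ⊔ H, x v = u}) := by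
  have hfin : Finite (V ≃ₗ[ZMod p] V) := DFunLike.finite _
  have hp : p.Prime := Fact.out
  have key : ∀ (J : Subgroup (V ≃ₗ[ZMod p] V)) (v : V),
      Nat.card {u : V | ∃ g ∈ J, g v = u} =
        (stabilizer (V ≃ₗ[ZMod p] V) v).relIndex J := fun J v => card_orbit_set J v
  constructor
  · intro K hKH hn v
    rw [key]
    intro hdvd
    apply hH v
    rw [key]
    exact dvd_trans hdvd (relIndex_dvd_relIndex_of_le_normalizer _ K H hKH hn)
  · intro N hN hn v
    rw [key]
    intro hdvd
    set S := stabilizer (V ≃ₗ[ZMod p] V) v with hS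
    have hb : ¬ p ∣ S.relIndex H := by
      have := hH v
      rwa [key] at this
    have hd : ¬ p ∣ H.relIndex (N ⊔ H) := fun h => hN (dvd_trans h (relIndex_sup_dvd N H hn))
    have e1 : (S ⊓ H).relIndex H * H.relIndex (N ⊔ H) = (S ⊓ H).relIndex (N ⊔ H) :=
      relIndex_mul_relIndex _ _ _ inf_le_right le_sup_right
    have e2 : (S ⊓ H).relIndex (S ⊓ (N ⊔ H)) * (S ⊓ (N ⊔ H)).relIndex (N ⊔ H) =
        (S ⊓ H).relIndex (N ⊔ H) :=
      relIndex_mul_relIndex _ _ _ (inf_le_inf_left S le_sup_right) inf_le_right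
    rw [inf_relIndex_right] at e1 e2
    have : p ∣ S.relIndex H * H.relIndex (N ⊔ H) := by
      rw [e1, ← e2]
      exact dvd_mul_of_dvd_right hdvd _
    rcases (Nat.Prime.dvd_mul hp).1 this with h | h
    · exact hb h
    · exact hd h

end Cfsg.Agent.S3514
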