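import Mathlib
import Cfsg.Statements.S3498
import Cfsg.Agent.S3514

set_option autoImplicit false
open Cfsg

namespace Cfsg.Agent.S3498

open Subgroup
open scoped Pointwise

/-- A non-abelian simple group is not a `q`-group. -/
theorem not_isPGroup_of_simple {T : Type*} [Group T] [Finite T] (hT : IsSimpleGroup T)
    (hTc : ¬ IsMulCommutative T) (q : ℕ) [Fact q.Prime] : ¬ IsPGroup q T := by
  intro hq
  have hnt : Nontrivial (center T) := hq.center_nontrivial
  have hne : center T ≠ ⊥ := (Subgroup.nontrivial_iff_ne_bot _).1 hnt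
  have htop : center T = ⊤ :=
    ((inferInstance : (center T).Normal).eq_bot_or_eq_top).resolve_left hne
  apply hTc
  refine ⟨⟨fun a b => ?_⟩⟩
  have ha : a ∈ center T := by rw [htop]; exact mem_top a
  exact ((mem_center_iff.1 ha) b).symm

/-- If a subgroup `H` normalizes `Q` then the order of `Q ⊔ H` divides `|Q| * |H|`. -/
theorem card_sup_dvd {G : Type*} [Group G] [Finite G] (Q H : Subgroup G)
    (hn : H ≤ normalizer (Q : Set G)) :
    Nat.card (Q ⊔ H : Subgroup G) ∣ Nat.card Q * Nat.card H := by
  have h1 := Cfsg.Agent.S3514.relIndex_sup_dvd Q H hn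
  have h2 := Cfsg.Agent.S3514.card_mul_relIndex' (le_sup_right : H ≤ Q ⊔ H)
  rw [← h2, mul_comm (Nat.card Q)]
  exact mul_dvd_mul_left _ h1

/-- A maximal subgroup of a finite almost simple group does not have prime order. Here G is almost simple in the sense that it has a non-abelian simple normal subgroup T with trivial centralizer. -/
theorem result {G : Type*} [Group G] [Finite G] (T : Subgroup G) [T.Normal] (hT : IsSimpleGroup T) (hTc : ¬ IsMulCommutative T)
    (hC : Subgroup.centralizer (T : Set G) = ⊥) (H : Subgroup G) (hmax : IsCoatom H) : ¬ (Nat.card H).Prime := by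
  intro hprime
  set r := Nat.card H with hr
  have hTnormal : T.Normal := inferInstance
  have : Fact r.Prime := ⟨hprime⟩
  have hHp : IsPGroup r H := IsPGroup.of_card (n := 1) (by rw [pow_one])
  have hHcyc : IsCyclic H := isCyclic_of_prime_card (p := r) rfl
  have hcommH : ∀ a ∈ H, ∀ b ∈ H, a * b = b * a := by
    intro a ha b hb
    have := mul_comm' (⟨a, ha⟩ : H) ⟨b, hb⟩
    exact congrArg Subtype.val this
  have hHne : H ≠ ⊥ := by
    intro h
    rw [hr, h, Subgroup.card_bot] at hprime
    exact Nat.not_prime_one hprime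
  have hTnotp : ∀ (q : ℕ) [Fact q.Prime], ¬ IsPGroup q T := fun q _ =>
    not_isPGroup_of_simple hT hTc q
  -- `H` is a Sylow subgroup
  obtain ⟨P, hHP⟩ := hHp.exists_le_sylow
  have hPH : (P : Subgroup G) = H := by
    rcases hmax.le_iff.1 hHP with h | h
    · exfalso
      have hG : IsPGroup r G := by
        have := P.2
        rw [h] at this
        exact IsPGroup.of_equiv this Subgroup.topEquiv
      exact hTnotp r (hG.to_subgroup T)
    · exact h
  -- `H` is self-normalizing
  have hnorm : normalizer (H : Set G) = H := by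
    rcases hmax.le_iff.1 (le_normalizer : H ≤ normalizer (H : Set G)) with h | h
    · exfalso
      have hHn : H.Normal := normalizer_eq_top_iff.1 h
      have hsn : (H.subgroupOf T).Normal := hHn.subgroupOf T
      rcases hsn.eq_bot_or_eq_top with h' | h'
      · rw [subgroupOf_eq_bot] at h'
        apply hHne
        rw [eq_bot_iff, ← hC]
        intro x hx
        rw [mem_centralizer_iff]
        intro t ht
        exact (commute_of_normal_of_disjoint H T hHn hTnormal h' x t hx ht).symm
      · rw [subgroupOf_eq_top] at h'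
        apply hTc
        refine ⟨⟨fun a b => Subtype.ext ?_⟩⟩
        exact hcommH a (h' a.2) b (h' b.2)
    · exact h
  have hP : normalizer ((P : Subgroup G) : Set G) ≤ centralizer ((P : Subgroup G) : Set G) := by
    rw [hPH, hnorm]
    intro a ha
    rw [mem_centralizer_iff]
    intro b hb
    exact hcommH b hb a ha
  -- Burnside's transfer theorem
  have hcompl := MonoidHom.ker_transferSylow_isComplement' P hP
  set K : Subgroup G := (MonoidHom.transferSylow P hP).ker with hK
  have hKnormal : K.Normal := MonoidHom.normal_ker _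
  have hKH : Disjoint K H := by
    have := hcompl.disjoint
    rwa [hPH] at this
  have hcardG : Nat.card K * r = Nat.card G := by
    have := hcompl.card_mul_card
    rwa [hPH] at this
  have hcop : Nat.Coprime r (Nat.card K) := by
    have h1 := P.card_coprime_index
    have h2 := hcompl.index_eq_card
    rw [h2, hPH] at h1
    exact h1
  -- `T ≤ K`
  have hTK : T ≤ K := by
    have hsn : (K.subgroupOf T).Normal := hKnormal.subgroupOf T
    rcases hsn.eq_bot_or_eq_top with h' | h'
    · exfalso
      rw [subgroupOf_eq_bot] at h'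
      apply hTc
      refine ⟨⟨fun a b => Subtype.ext ?_⟩⟩
      have hmemT : (a : G) * b * (a : G)⁻¹ * (b : G)⁻¹ ∈ T :=
        T.mul_mem (T.mul_mem (T.mul_mem a.2 b.2) (T.inv_mem a.2)) (T.inv_mem b.2)
      have hmemK : (a : G) * b * (a : G)⁻¹ * (b : G)⁻¹ ∈ K := by
        rw [hK, MonoidHom.mem_ker, map_mul, map_mul, map_mul, map_inv, map_inv]
        have hc : ∀ x y : P, x * y = y * x := by
          intro x y
          apply Subtype.ext
          have hx : (x : G) ∈ H := hPH ▸ x.2
          have hy : (y : G) ∈ H := hPH ▸ y.2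
          exact hcommH _ hx _ hy
        rw [hc (MonoidHom.transferSylow P hP a) (MonoidHom.transferSylow P hP b)]
        group
      have h1 : (a : G) * b * (a : G)⁻¹ * (b : G)⁻¹ = 1 := by
        have := h'.le_bot (Subgroup.mem_inf.2 ⟨hmemK, hmemT⟩)
        exact (Subgroup.mem_bot).1 this
      have h2 : (a : G) * b = b * a := by
        have := mul_inv_eq_one.1 h1
        exact mul_inv_eq_iff_eq_mul.1 this
      exact h2
    · exact subgroupOf_eq_top.1 h'
  -- a prime `q` dividing `|K|`
  have hKne : K ≠ ⊥ := by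
    intro h
    have hTbot : T = ⊥ := eq_bot_iff.2 (h ▸ hTK)
    apply hTc
    refine ⟨⟨fun a b => Subtype.ext ?_⟩⟩
    have hall : ∀ x ∈ T, x = 1 := (Subgroup.eq_bot_iff_forall T).1 hTbot
    show (a : G) * b = b * a
    rw [hall a a.2, one_mul, mul_one]
  have hKcard : Nat.card K ≠ 1 := by
    intro h
    exact hKne (Subgroup.card_eq_one.1 h)
  obtain ⟨q, hq, hqK⟩ := Nat.exists_prime_and_dvd hKcard
  have : Fact q.Prime := ⟨hq⟩
  -- `H` acts on the Sylow `q`-subgroups of `K`
  letI act : MulAction H (Sylow q K) :=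
    MulAction.compHom (Sylow q K) ((MulAut.conjNormal (H := K)).comp H.subtype)
  have hmod := hHp.card_modEq_card_fixedPoints (Sylow q K)
  have hfix : (MulAction.fixedPoints H (Sylow q K)).Nonempty := by
    by_contra hemp
    rw [Set.not_nonempty_iff_eq_empty] at hemp
    rw [hemp] at hmod
    have h0 : Nat.card (∅ : Set (Sylow q K)) = 0 := by simp
    rw [h0] at hmod
    have hdvd : r ∣ Nat.card (Sylow q K) := (Nat.modEq_zero_iff_dvd).1 hmod
    obtain ⟨Q0⟩ := (Sylow.nonempty : Nonempty (Sylow q K))
    have h1 : Nat.card (Sylow q K) ∣ Nat.card K :=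
      (Sylow.card_dvd_index Q0).trans (Subgroup.index_dvd_card _)
    have h2 : r ∣ Nat.card K := hdvd.trans h1
    have := Nat.Coprime.eq_one_of_dvd hcop h2
    exact hprime.one_lt.ne' this
  obtain ⟨Q, hQ⟩ := hfix
  -- the corresponding `q`-subgroup of `G`
  set Q' : Subgroup G := (Q : Subgroup K).map K.subtype with hQ'
  have hQ'K : Q' ≤ K := Subgroup.map_subtype_le _
  have hQne : (Q : Subgroup K) ≠ ⊥ := Q.ne_bot_of_dvd_card hqK
  have hQ'ne : Q' ≠ ⊥ := by
    intro h
    apply hQne
    rw [hQ'] at h
    exact (Subgroup.map_eq_bot_iff_of_injective _ K.subtype_injective).1 h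
  have hQ'card : ∃ k, Nat.card Q' = q ^ k := by
    obtain ⟨k, hk⟩ := IsPGroup.iff_card.1 Q.2
    refine ⟨k, ?_⟩
    rw [hQ', Subgroup.card_map_of_injective K.subtype_injective]
    exact hk
  have hnQ : H ≤ normalizer (Q' : Set G) := by
    rw [le_normalizer_iff]
    rintro h hh x ⟨k, hk, rfl⟩
    have h1 : (⟨h, hh⟩ : H) • Q = Q := hQ ⟨h, hh⟩
    have h2 : (MulAut.conjNormal (H := K) h) • Q = Q := h1
    have h3 : (MulAut.conjNormal (H := K) h) • k ∈
        (MulAut.conjNormal (H := K) h) • (Q : Subgroup K) :=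
      Subgroup.smul_mem_pointwise_smul k _ _ hk
    rw [← Sylow.pointwise_smul_def, h2] at h3
    refine ⟨(MulAut.conjNormal (H := K) h) • k, h3, ?_⟩
    rw [MulAut.smul_def]
    exact MulAut.conjNormal_apply h k
  -- `Q' ⊔ H = ⊤`
  have htop : Q' ⊔ H = ⊤ := by
    rcases hmax.le_iff.1 (le_sup_right : H ≤ Q' ⊔ H) with h | h
    · exact h
    · exfalso
      apply hQ'ne
      rw [eq_bot_iff]
      intro x hx
      have hxH : x ∈ H := by rw [← h]; exact (le_sup_left : Q' ≤ Q' ⊔ H) hx
      exact hKH.le_bot (Subgroup.mem_inf.2 ⟨hQ'K hx, hxH⟩)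
  have hdvd := card_sup_dvd Q' H hnQ
  rw [htop, Subgroup.card_top, ← hcardG, ← hr] at hdvd
  have hdvd' : Nat.card K ∣ Nat.card Q' := Nat.dvd_of_mul_dvd_mul_right hprime.pos hdvd
  obtain ⟨k, hk⟩ := hQ'card
  rw [hk] at hdvd'
  obtain ⟨j, -, hj⟩ := (Nat.dvd_prime_pow hq).1 hdvd'
  have hKq : IsPGroup q K := IsPGroup.of_card hj
  exact hTnotp q (hKq.to_le hTK)

end Cfsg.Agent.S3498
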