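import Cfsg.Statements.S3501
import Cfsg.Agent.Lib.Lead.PrimDerC
import Cfsg.Agent.Lib.Helper21.AffineDer

set_option autoImplicit false
open Cfsg

namespace Cfsg.Agent.S3501

/-- Let a finite group G act faithfully and primitively on a finite set Ω with at least two points, and suppose G is not almost simple (it has no non-abelian simple normal subgroup with trivial centralizer). Then the derangements of G form a single conjugacy class if and only if G is sharply 2-transitive (2-transitive, and no non-identity element fixes two points). -/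
theorem result {G : Type*} [Group G] [Finite G] {Ω : Type*} [Fintype Ω] [MulAction G Ω] [FaithfulSMul G Ω] (hΩ : 2 ≤ Fintype.card Ω) (hprim : MulAction.IsPreprimitive G Ω) (hnas : ¬ ∃ T : Subgroup G, T.Normal ∧ IsSimpleGroup T ∧ ¬ IsMulCommutative T ∧ Subgroup.centralizer (T : Set G) = ⊥) :
    Nat.card {c : ConjClasses G // ∃ g : G, ConjClasses.mk g = c ∧ ∀ ω : Ω, g • ω ≠ ω} = 1 ↔ (MulAction.IsMultiplyPretransitive G Ω 2 ∧ ∀ g : G, g ≠ 1 → ∀ a b : Ω, a ≠ b → g • a = a → g • b ≠ b) := by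
  have hΩ' : 2 ≤ Nat.card Ω := by rw [Nat.card_eq_fintype_card]; exact hΩ
  constructor
  · intro h1
    haveI : Nontrivial G := Cfsg.Agent.Lib.Lead.PrimDerC.nontrivial_group hprim hΩ'
    obtain ⟨N, hNn, hN, hmin⟩ := Cfsg.Agent.S0721.exists_minNormal (G := G)
    haveI := hNn
    by_cases hab : IsMulCommutative N
    · obtain ⟨-, htr, hreg⟩ :=
        Cfsg.Agent.Lib.Lead.PrimDerC.abelian_minimal_normal hprim N hN hmin hab
      exact Cfsg.Agent.Lib.Helper21.AffineDer.sharp_of_derClasses_eq_one N hN hab htr hreg h1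
    · exfalso
      obtain ⟨⟨g₁, g₂, g₃, d₁, d₂, d₃, h12, h13, h23⟩, -⟩ :=
        Cfsg.Agent.Lib.Lead.PrimDerC.core hprim hΩ' N hN hmin hab hnas
      have h3 : 3 ≤ Nat.card {c : ConjClasses G // ∃ g : G, ConjClasses.mk g = c ∧
          ∀ ω : Ω, g • ω ≠ ω} :=
        Cfsg.Agent.Lib.Lead.PrimDerC.three_le_card (fun g : G => ∀ ω : Ω, g • ω ≠ ω)
          g₁ g₂ g₃ d₁ d₂ d₃ h12 h13 h23
      rw [h1] at h3
      omega
  · rintro ⟨h2, hs⟩
    exact Cfsg.Agent.Lib.Helper21.AffineDer.derClasses_eq_one_of_sharp hΩ h2 hs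

end Cfsg.Agent.S3501
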