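import Mathlib
import Cfsg.Statements.S3504

set_option autoImplicit false
open Cfsg

namespace Cfsg.Agent.S3504

open Equiv

/-- A fixed-point-free permutation of prime order `p` has cycle type `p^(n/p)`. -/
theorem cycleType_of_prime_fpf {n : ℕ} {g : Perm (Fin n)} (hg : (orderOf g).Prime)
    (hfpf : ∀ i : Fin n, g i ≠ i) :
    orderOf g ∣ n ∧ g.cycleType = Multiset.replicate (n / orderOf g) (orderOf g) := by
  obtain ⟨k, hk⟩ := Perm.cycleType_prime_order hg
  have hsupp : g.support = Finset.univ := by
    ext i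
    simp [Perm.mem_support, hfpf i]
  have hsum : g.cycleType.sum = n := by
    rw [Perm.sum_cycleType, hsupp, Finset.card_univ, Fintype.card_fin]
  rw [hk, Multiset.sum_replicate, smul_eq_mul] at hsum
  have hdvd : orderOf g ∣ n := Dvd.intro_left (k + 1) hsum
  refine ⟨hdvd, ?_⟩
  rw [hk]
  congr 1
  exact (Nat.div_eq_of_eq_mul_left hg.pos hsum.symm).symm

/-- Properties of a permutation with cycle type `p^(n/p)`. -/
theorem props_of_cycleType {n p : ℕ} (hp : p.Prime) (hn : 0 < n) (hpn : p ∣ n)
    {g : Perm (Fin n)} (hg : g.cycleType = Multiset.replicate (n / p) p) :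
    orderOf g = p ∧ ∀ i : Fin n, g i ≠ i := by
  have hk : 0 < n / p := Nat.div_pos (Nat.le_of_dvd hn hpn) hp.pos
  constructor
  · rw [← Perm.lcm_cycleType, hg]
    obtain ⟨k, hk'⟩ := Nat.exists_eq_succ_of_ne_zero hk.ne'
    rw [hk']
    clear hk' hg
    induction k with
    | zero => simp
    | succ k ih =>
      rw [Multiset.replicate_succ, Multiset.lcm_cons, ih]
      exact Nat.lcm_self p
  · have hsum : g.cycleType.sum = n := by
      rw [hg, Multiset.sum_replicate, smul_eq_mul, Nat.div_mul_cancel hpn]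
    rw [Perm.sum_cycleType] at hsum
    have hsupp : g.support = Finset.univ := by
      apply Finset.eq_univ_of_card
      rw [hsum, Fintype.card_fin]
    intro i
    have : i ∈ g.support := by rw [hsupp]; exact Finset.mem_univ i
    exact Perm.mem_support.1 this

theorem exists_of_dvd {n p : ℕ} (hp : p.Prime) (hpn : p ∣ n) :
    ∃ g : Perm (Fin n), g.cycleType = Multiset.replicate (n / p) p := by
  rw [Perm.exists_with_cycleType_iff]
  constructor
  · rw [Multiset.sum_replicate, smul_eq_mul, Nat.div_mul_cancel hpn, Fintype.card_fin]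
  · intro a ha
    rw [Multiset.eq_of_mem_replicate ha]
    exact hp.two_le

/-- For n ≥ 5, the fixed-point-free permutations of prime order in the symmetric group of degree n form a single conjugacy class if and only if n is a prime power. -/
theorem result (n : ℕ) (hn : 5 ≤ n) :
    Nat.card {c : ConjClasses (Equiv.Perm (Fin n)) // ∃ g : Equiv.Perm (Fin n), ConjClasses.mk g = c ∧ (orderOf g).Prime ∧ ∀ i : Fin n, g i ≠ i} = 1 ↔ IsPrimePow n := by
  have hn0 : 0 < n := by omega
  -- choose representatives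
  have hex : ∀ p : {p // p ∈ n.primeFactors},
      ∃ g : Perm (Fin n), g.cycleType = Multiset.replicate (n / p.1) p.1 := by
    rintro ⟨p, hp⟩
    exact exists_of_dvd (Nat.prime_of_mem_primeFactors hp) (Nat.dvd_of_mem_primeFactors hp)
  choose rep hrep using hex
  have hprops : ∀ p : {p // p ∈ n.primeFactors},
      orderOf (rep p) = p.1 ∧ ∀ i : Fin n, rep p i ≠ i := fun p =>
    props_of_cycleType (Nat.prime_of_mem_primeFactors p.2) hn0
      (Nat.dvd_of_mem_primeFactors p.2) (hrep p)
  let Ψ : {p // p ∈ n.primeFactors} →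
      {c : ConjClasses (Equiv.Perm (Fin n)) // ∃ g : Equiv.Perm (Fin n),
        ConjClasses.mk g = c ∧ (orderOf g).Prime ∧ ∀ i : Fin n, g i ≠ i} :=
    fun p => ⟨ConjClasses.mk (rep p), rep p, rfl, by
      rw [(hprops p).1]; exact Nat.prime_of_mem_primeFactors p.2, (hprops p).2⟩
  have hinj : Function.Injective Ψ := by
    intro p p' h
    have h1 : ConjClasses.mk (rep p) = ConjClasses.mk (rep p') := congrArg Subtype.val h
    rw [ConjClasses.mk_eq_mk_iff_isConj, Perm.isConj_iff_cycleType_eq] at h1
    have h2 : orderOf (rep p) = orderOf (rep p') := by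
      rw [← Perm.lcm_cycleType, ← Perm.lcm_cycleType, h1]
    rw [(hprops p).1, (hprops p').1] at h2
    exact Subtype.ext h2
  have hsurj : Function.Surjective Ψ := by
    rintro ⟨c, g, rfl, hg, hfpf⟩
    obtain ⟨hdvd, hct⟩ := cycleType_of_prime_fpf hg hfpf
    have hmem : orderOf g ∈ n.primeFactors := Nat.mem_primeFactors.2 ⟨hg, hdvd, hn0.ne'⟩
    refine ⟨⟨orderOf g, hmem⟩, ?_⟩
    apply Subtype.ext
    show ConjClasses.mk (rep ⟨orderOf g, hmem⟩) = ConjClasses.mk g
    rw [ConjClasses.mk_eq_mk_iff_isConj, Perm.isConj_iff_cycleType_eq, hrep, hct]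
  have hcard := Nat.card_congr (Equiv.ofBijective Ψ ⟨hinj, hsurj⟩)
  rw [← hcard, Nat.card_eq_fintype_card, Fintype.card_coe,
    isPrimePow_iff_card_primeFactors_eq_one]

end Cfsg.Agent.S3504
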