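import Mathlib
import Cfsg.Statements.S3508

set_option autoImplicit false
open Cfsg

namespace Cfsg.Agent.S3508

open MulAction

open Polynomial in
/-- A unipotent operator on an `𝔽_p`-space of dimension `< p ^ s` has `T ^ (p ^ s) = 1` and the
geometric sum of length `p ^ s` vanishes. -/
theorem lin_key (p : ℕ) [hp : Fact p.Prime] {V : Type*} [AddCommGroup V] [Module (ZMod p) V] [Finite V]
    (T : Module.End (ZMod p) V) (r : ℕ) (hT : T ^ (p ^ r) = 1) (s : ℕ)
    (hs : Module.finrank (ZMod p) V < p ^ s) :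
    T ^ (p ^ s) = 1 ∧ ∑ i ∈ Finset.range (p ^ s), T ^ i = 0 := by
  have hpoly : ∀ k : ℕ, ((X - 1 : (ZMod p)[X])) ^ (p ^ k) = X ^ (p ^ k) - 1 := by
    intro k
    rw [sub_pow_char_pow, one_pow]
  have hev : ∀ k : ℕ, (T - 1) ^ (p ^ k) = T ^ (p ^ k) - 1 := by
    intro k
    have := congrArg (aeval T) (hpoly k)
    simpa using this
  have hnil : IsNilpotent (T - 1) := ⟨p ^ r, by rw [hev r, hT, sub_self]⟩
  have hchar := IsNilpotent.charpoly_eq_X_pow_finrank hnil
  have hfin : (T - 1) ^ Module.finrank (ZMod p) V = 0 := by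
    have := LinearMap.aeval_self_charpoly (T - 1)
    rw [hchar] at this
    simpa using this
  have hqpos : 0 < p ^ s := pow_pos hp.out.pos s
  have hq1 : (T - 1) ^ (p ^ s - 1) = 0 := pow_eq_zero_of_le (by omega) hfin
  have hgeom : (∑ i ∈ Finset.range (p ^ s), (X : (ZMod p)[X]) ^ i) = (X - 1) ^ (p ^ s - 1) := by
    have h1 : (X - 1 : (ZMod p)[X]) * ∑ i ∈ Finset.range (p ^ s), (X : (ZMod p)[X]) ^ i
        = (X - 1) * (X - 1) ^ (p ^ s - 1) := by
      rw [mul_geom_sum, ← pow_succ', ← hpoly s]
      congr 1; omega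
    have hne : (X - 1 : (ZMod p)[X]) ≠ 0 := by
      have := X_sub_C_ne_zero (1 : ZMod p)
      simpa using this
    exact mul_left_cancel₀ hne h1
  constructor
  · have h2 : (T - 1) ^ (p ^ s) = 0 := pow_eq_zero_of_le (by omega) hfin
    rw [hev s, sub_eq_zero] at h2
    exact h2
  · have := congrArg (aeval T) hgeom
    simp only [map_sum, map_pow, aeval_X, map_sub, map_one] at this
    rw [this, hq1]

/-- Abstract affine computation: `g` acts on `Ω ≅ A` as `a ↦ c a * v`. -/
theorem affine_key (p : ℕ) [hp : Fact p.Prime] {G : Type*} [Group G] {Ω : Type*} [MulAction G Ω]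
    {A : Type*} [CommGroup A] [Finite A] [Module (ZMod p) (Additive A)]
    (ι : A → G) (c : A →* A) (g : G) (ω₀ : Ω) (v : A)
    (hbase : ∀ a : A, g • (ι a • ω₀) = ι (c a * v) • ω₀)
    (hsurj : ∀ ω : Ω, ∃ a : A, ι a • ω₀ = ω)
    (r : ℕ) (hc : ∀ a : A, (c^[p ^ r]) a = a)
    (m : ℕ) (hcard : Nat.card A = p ^ m) (s : ℕ) (hs : m < p ^ s) :
    ∀ ω : Ω, g ^ (p ^ s) • ω = ω := by
  haveI : Finite (Additive A) := inferInstanceAs (Finite A)
  have hfr : Module.finrank (ZMod p) (Additive A) = m := by
    have h1 := Module.natCard_eq_pow_finrank (K := ZMod p) (V := Additive A)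
    have h2 : Nat.card (Additive A) = Nat.card A := rfl
    rw [h2, hcard, Nat.card_zmod] at h1
    exact (Nat.pow_right_injective hp.out.two_le h1).symm
  set T : Module.End (ZMod p) (Additive A) := (MonoidHom.toAdditive c).toZModLinearMap p with hTdef
  have hTapp : ∀ x : Additive A, T x = Additive.ofMul (c (Additive.toMul x)) := fun x => rfl
  have hTpow : ∀ (j : ℕ) (x : Additive A), (T ^ j) x = Additive.ofMul ((c^[j]) (Additive.toMul x)) := by
    intro j
    induction j with
    | zero => intro x; simp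
    | succ j ih =>
      intro x
      rw [pow_succ', Module.End.mul_apply, ih, hTapp, toMul_ofMul, Function.iterate_succ_apply']
  have hTr : T ^ (p ^ r) = 1 := by
    refine LinearMap.ext fun x => ?_
    rw [hTpow, hc, Module.End.one_apply, ofMul_toMul]
  obtain ⟨hTq, hSq⟩ := lin_key p T r hTr s (by rw [hfr]; exact hs)
  let e : Additive A → Ω := fun x => ι (Additive.toMul x) • ω₀
  have hbase' : ∀ y : Additive A, g • e y = e (T y + Additive.ofMul v) := by
    intro y
    show g • (ι (Additive.toMul y) • ω₀) = ι (Additive.toMul (T y + Additive.ofMul v)) • ω₀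
    rw [toMul_add, toMul_ofMul, hTapp, toMul_ofMul]
    exact hbase _
  have hind : ∀ (j : ℕ) (x : Additive A), g ^ j • e x =
      e ((T ^ j) x + (∑ i ∈ Finset.range j, T ^ i) (Additive.ofMul v)) := by
    intro j
    induction j with
    | zero => intro x; simp
    | succ j ih =>
      intro x
      rw [pow_succ', mul_smul, ih, hbase']
      congr 1
      rw [Finset.sum_range_succ', map_add, pow_succ' T j, Module.End.mul_apply]
      simp only [LinearMap.add_apply, pow_zero, Module.End.one_apply]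
      rw [add_assoc]
      congr 1
      congr 1
      rw [LinearMap.sum_apply, LinearMap.sum_apply, map_sum]
      apply Finset.sum_congr rfl
      intro i _
      rw [pow_succ' T i, Module.End.mul_apply]
  intro ω
  obtain ⟨a, rfl⟩ := hsurj ω
  have := hind (p ^ s) (Additive.ofMul a)
  rw [hTq, hSq] at this
  simp only [Module.End.one_apply, LinearMap.zero_apply, add_zero] at this
  exact this

open scoped IsMulCommutative in
/-- The key bound: a `p`-element of an affine group of degree `p ^ m` has order at most `p ^ s`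
as soon as `m < p ^ s`. -/
theorem pow_eq_one_of_lt {G : Type*} [Group G] [Finite G] {Ω : Type*} [Fintype Ω] [MulAction G Ω]
    [FaithfulSMul G Ω] (p m : ℕ) [hp : Fact p.Prime] (hcard : Fintype.card Ω = p ^ m)
    (N : Subgroup G) [hNn : N.Normal] (hNc : IsMulCommutative N) (hNp : ∀ n ∈ N, n ^ p = 1)
    (hNtr : IsPretransitive N Ω) (hNreg : ∀ ω : Ω, stabilizer N ω = ⊥)
    (g : G) (r : ℕ) (hg : g ^ (p ^ r) = 1) (s : ℕ) (hs : m < p ^ s) : g ^ (p ^ s) = 1 := by
  classical
  have hV : ∀ x : Additive N, p • x = 0 := by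
    intro x
    apply Additive.toMul.injective
    rw [toMul_nsmul, toMul_zero]
    apply Subtype.ext
    rw [SubmonoidClass.coe_pow, OneMemClass.coe_one]
    exact hNp _ (Additive.toMul x).2
  -- a base point
  have hΩpos : 0 < Fintype.card Ω := by rw [hcard]; exact pow_pos hp.out.pos m
  obtain ⟨ω₀⟩ := Fintype.card_pos_iff.1 hΩpos
  have hcardN : Nat.card N = p ^ m := by
    have h1 := index_stabilizer_of_transitive N ω₀
    rw [hNreg ω₀, Subgroup.index_bot, Nat.card_eq_fintype_card (α := Ω), hcard] at h1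
    exact h1
  obtain ⟨v, hv⟩ := exists_smul_eq N ω₀ (g • ω₀)
  set c : N →* N := (MulAut.conjNormal g : MulAut N).toMonoidHom with hcdef
  have hcapp : ∀ a : N, ((c a : N) : G) = g * (a : G) * g⁻¹ := fun a => rfl
  have hciter : ∀ (j : ℕ) (a : N), (((c^[j]) a : N) : G) = g ^ j * (a : G) * (g ^ j)⁻¹ := by
    intro j
    induction j with
    | zero => intro a; simp
    | succ j ih =>
      intro a
      rw [Function.iterate_succ_apply', hcapp, ih, pow_succ']
      group
  have hc : ∀ a : N, (c^[p ^ r]) a = a := by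
    intro a
    apply Subtype.ext
    rw [hciter, hg]
    simp
  have hbase : ∀ a : N, g • (((a : N) : G) • ω₀) = (((c a * v : N) : N) : G) • ω₀ := by
    intro a
    rw [Subgroup.coe_mul, hcapp, mul_smul, ← Subgroup.smul_def v, hv, ← mul_smul, ← mul_smul]
    congr 1
    group
  have hsurj : ∀ ω : Ω, ∃ a : N, ((a : N) : G) • ω₀ = ω := by
    intro ω
    obtain ⟨a, ha⟩ := exists_smul_eq N ω₀ ω
    exact ⟨a, ha⟩
  have key := @affine_key p hp G _ Ω _ N _ _ (AddCommGroup.zmodModule hV) (fun a => (a : G)) c g ω₀ v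
    hbase hsurj r hc m hcardN s hs
  apply eq_of_smul_eq_smul (α := Ω)
  intro ω
  rw [one_smul]
  exact key ω

theorem small_pow (m : ℕ) (hm : 3 ≤ m) : m < 2 ^ (m - 1) := by
  induction m, hm using Nat.le_induction with
  | base => norm_num
  | succ k hk ih =>
    have : k + 1 - 1 = (k - 1) + 1 := by omega
    rw [this, pow_succ]
    omega

/-- In an affine group of degree p^m an element of order p^r has p^(r−1) ≤ m; an element of order p^m forces m ≤ 2 (m ≤ 1 for odd p). -/
theorem result {G : Type*} [Group G] [Finite G] {Ω : Type*} [Fintype Ω] [MulAction G Ω] [FaithfulSMul G Ω] (p m : ℕ) (hp : p.Prime) (hcard : Fintype.card Ω = p ^ m)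
    (N : Subgroup G) [N.Normal] (hNc : IsMulCommutative N) (hNp : ∀ n ∈ N, n ^ p = 1)
    (hNtr : MulAction.IsPretransitive N Ω) (hNreg : ∀ ω : Ω, MulAction.stabilizer N ω = ⊥)
    (g : G) (r : ℕ) (hr : 1 ≤ r) (hg : orderOf g = p ^ r) :
    p ^ (r - 1) ≤ m ∧ (r = m → m ≤ 2 ∧ (2 < p → m ≤ 1)) := by
  haveI : Fact p.Prime := ⟨hp⟩
  have hgr : g ^ (p ^ r) = 1 := by rw [← hg]; exact pow_orderOf_eq_one g
  have h1 : p ^ (r - 1) ≤ m := by
    by_contra hcon
    push Not at hcon
    have h2 := pow_eq_one_of_lt p m hcard N hNc hNp hNtr hNreg g r hgr (r - 1) hcon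
    have h3 := orderOf_dvd_of_pow_eq_one h2
    rw [hg] at h3
    have h4 := Nat.le_of_dvd (pow_pos hp.pos _) h3
    have h5 : p ^ (r - 1) < p ^ r := Nat.pow_lt_pow_right hp.one_lt (by omega)
    omega
  refine ⟨h1, ?_⟩
  intro hrm
  subst hrm
  have h2le : 2 ^ (r - 1) ≤ p ^ (r - 1) := Nat.pow_le_pow_left hp.two_le _
  constructor
  · by_contra hcon
    push Not at hcon
    have := small_pow r (by omega)
    omega
  · intro hp2
    by_contra hcon
    push Not at hcon
    have h3le : 3 ^ (r - 1) ≤ p ^ (r - 1) := Nat.pow_le_pow_left (by omega) _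
    rcases Nat.lt_or_ge r 3 with h | h
    · have hr2 : r = 2 := by omega
      subst hr2
      norm_num at h3le h1
      omega
    · have := small_pow r h
      have : 2 ^ (r - 1) ≤ 3 ^ (r - 1) := Nat.pow_le_pow_left (by norm_num) _
      omega

end Cfsg.Agent.S3508
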