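-- Statement S3511
import Cfsg.Statements.S3511
-- import your own Cfsg.Agent.* helpers here

set_option autoImplicit false
open Cfsg

namespace Cfsg.Agent.S3511

theorem stab_bot_iff {G : Type*} [Group G] {Ω : Type*} [MulAction G Ω] (g : G) (ω : Ω) :
    MulAction.stabilizer (Subgroup.zpowers g) ω = ⊥ ↔
      ∀ x ∈ Subgroup.zpowers g, x • ω = ω → x = 1 := by
  rw [eq_bot_iff]
  constructor
  · intro h x hx hfix
    have : (⟨x, hx⟩ : Subgroup.zpowers g) ∈ MulAction.stabilizer (Subgroup.zpowers g) ω := by
      rw [MulAction.mem_stabilizer_iff]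
      exact hfix
    have := h this
    rw [Subgroup.mem_bot] at this
    exact congrArg Subtype.val this
  · intro h x hx
    rw [MulAction.mem_stabilizer_iff] at hx
    rw [Subgroup.mem_bot]
    apply Subtype.ext
    exact h x.1 x.2 hx

theorem aux {G : Type*} [Group G] [Finite G] {Ω : Type*} [MulAction G Ω]
    (h : ∀ g : G, Squarefree (orderOf g) → ∃ ω : Ω, ∀ x ∈ Subgroup.zpowers g, x • ω = ω → x = 1) :
    ∀ (n : ℕ) (g : G), orderOf g = n → ∃ ω : Ω, ∀ x ∈ Subgroup.zpowers g, x • ω = ω → x = 1 := by
  intro n
  induction n using Nat.strong_induction_on with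
  | _ n ih =>
    intro g hgn
    by_cases hsq : Squarefree (orderOf g)
    · exact h g hsq
    · rw [Nat.squarefree_iff_prime_squarefree] at hsq
      push Not at hsq
      obtain ⟨q, hq, hqq⟩ := hsq
      have hnpos : 0 < orderOf g := orderOf_pos g
      have hqn : q ∣ orderOf g := Dvd.dvd.trans (Dvd.intro _ rfl) hqq
      have hord : orderOf (g ^ q) = orderOf g / q := by
        rw [orderOf_pow' g hq.ne_zero, Nat.gcd_eq_right hqn]
      have hlt : orderOf (g ^ q) < n := by
        rw [hord, ← hgn]
        exact Nat.div_lt_self hnpos hq.one_lt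
      obtain ⟨ω, hω⟩ := ih _ hlt (g ^ q) rfl
      refine ⟨ω, ?_⟩
      intro x hx hfix
      by_contra hx1
      have hox : orderOf x ≠ 1 := by
        intro h1; exact hx1 (orderOf_eq_one_iff.mp h1)
      obtain ⟨s, hs, hsx⟩ := Nat.exists_prime_and_dvd hox
      set y := x ^ (orderOf x / s) with hy
      have hoy : orderOf y = s := orderOf_pow_orderOf_div (orderOf_pos x).ne' hsx
      have hyfix : y • ω = ω := by
        rw [hy]
        exact MulAction.mem_stabilizer_iff.mp
          ((MulAction.stabilizer G ω).pow_mem (MulAction.mem_stabilizer_iff.mpr hfix) _)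
      have hyz : y ∈ Subgroup.zpowers g := Subgroup.pow_mem _ hx _
      rw [← mem_powers_iff_mem_zpowers] at hyz
      obtain ⟨j, hj⟩ := hyz
      have hys : y ^ s = 1 := by rw [← hoy]; exact pow_orderOf_eq_one y
      have hdvd : orderOf g ∣ j * s := by
        rw [orderOf_dvd_iff_pow_eq_one, pow_mul]
        have : g ^ j = y := hj
        rw [this, hys]
      have hqj : q ∣ j := by
        have h2 : q * q ∣ j * s := hqq.trans hdvd
        by_cases hsq' : s = q
        · subst hsq'
          exact Nat.dvd_of_mul_dvd_mul_right hs.pos h2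
        · have h3 : q ∣ j * s := Dvd.dvd.trans (Dvd.intro _ rfl) h2
          rcases (Nat.Prime.dvd_mul hq).mp h3 with h4 | h4
          · exact h4
          · exfalso
            exact hsq' ((Nat.prime_dvd_prime_iff_eq hq hs).mp h4).symm
      obtain ⟨j', hj'⟩ := hqj
      have hy' : y ∈ Subgroup.zpowers (g ^ q) := by
        have : y = (g ^ q) ^ j' := by
          have : g ^ j = y := hj
          rw [← this, hj', pow_mul]
        rw [this]
        exact Subgroup.pow_mem _ (Subgroup.mem_zpowers _) _
      have hy1 := hω y hy' hyfix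
      rw [hy1, orderOf_one] at hoy
      exact hs.one_lt.ne hoy

/-- Let a finite group G act faithfully on a set Ω. If every element of G of square-free order has a regular cycle (an orbit of the cyclic group it generates with trivial stabilizer), then every element of G has a regular cycle. -/
theorem result {G : Type*} [Group G] [Finite G] {Ω : Type*} [MulAction G Ω] [FaithfulSMul G Ω]
    (h : ∀ g : G, Squarefree (orderOf g) → ∃ ω : Ω, MulAction.stabilizer (Subgroup.zpowers g) ω = ⊥) (g : G) :
    ∃ ω : Ω, MulAction.stabilizer (Subgroup.zpowers g) ω = ⊥ := by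
  have h' : ∀ g : G, Squarefree (orderOf g) → ∃ ω : Ω, ∀ x ∈ Subgroup.zpowers g, x • ω = ω → x = 1 := by
    intro g hg
    obtain ⟨ω, hω⟩ := h g hg
    exact ⟨ω, (stab_bot_iff g ω).mp hω⟩
  obtain ⟨ω, hω⟩ := aux h' (orderOf g) g rfl
  exact ⟨ω, (stab_bot_iff g ω).mpr hω⟩

end Cfsg.Agent.S3511
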