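import Mathlib
import Cfsg.Statements.S3515

set_option autoImplicit false
open Cfsg

namespace Cfsg.Agent.S3515

theorem four_points : ∀ z : Fin 2 → ZMod 2, z = 0 ∨ z = ![1, 0] ∨ z = ![0, 1] ∨ z = ![1, 1] := by
  decide

theorem vec_decomp (p : ℕ) (x : Fin 2 → ZMod p) :
    x = x 0 • (![1, 0] : Fin 2 → ZMod p) + x 1 • (![0, 1] : Fin 2 → ZMod p) := by
  ext i
  fin_cases i <;> simp

/-- A primitive subgroup of AGL₂(p) containing the translations equals its own 3-closure. -/
theorem result (p : ℕ) [Fact p.Prime] (G : Subgroup (Equiv.Perm (Fin 2 → ZMod p)))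
    (haff : (G : Set (Equiv.Perm (Fin 2 → ZMod p))) ⊆ {τ : Equiv.Perm (Fin 2 → ZMod p) | ∃ (A : (Fin 2 → ZMod p) ≃ₗ[ZMod p] (Fin 2 → ZMod p)) (b : Fin 2 → ZMod p), ∀ x, τ x = A x + b})
    (htrans : ∀ b : Fin 2 → ZMod p, ∃ g ∈ G, ∀ x, g x = x + b) (hprim : MulAction.IsPreprimitive G (Fin 2 → ZMod p))
    (σ : Equiv.Perm (Fin 2 → ZMod p)) (hσ : (∀ t : Fin 3 → (Fin 2 → ZMod p), ∃ g ∈ G, ∀ i, σ (t i) = g (t i))) : σ ∈ G := by
  obtain ⟨g, hgG, hg⟩ := hσ ![0, ![1, 0], ![0, 1]]
  have hg0 : σ 0 = g 0 := hg 0
  have hg1 : σ ![1, 0] = g ![1, 0] := hg 1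
  have hg2 : σ ![0, 1] = g ![0, 1] := hg 2
  obtain ⟨B, b₀, hB⟩ := haff hgG
  suffices h : ∀ z, σ z = g z by
    have : σ = g := Equiv.ext h
    rw [this]; exact hgG
  by_cases hp2 : p = 2
  · subst hp2
    intro z
    have key : σ ![1, 1] = g ![1, 1] := by
      obtain ⟨w, hw⟩ := g.surjective (σ ![1, 1])
      rcases four_points w with rfl | rfl | rfl | rfl
      · exfalso
        rw [← hg0] at hw
        have := σ.injective hw
        have h2 := congrFun this 0
        simp at h2
      · exfalso
        rw [← hg1] at hw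
        have := σ.injective hw
        have h2 := congrFun this 1
        simp at h2
      · exfalso
        rw [← hg2] at hw
        have := σ.injective hw
        have h2 := congrFun this 0
        simp at h2
      · exact hw.symm
    rcases four_points z with rfl | rfl | rfl | rfl
    · exact hg0
    · exact hg1
    · exact hg2
    · exact key
  · -- `p` odd
    have hp := (Fact.out : p.Prime)
    have h2ne : (2 : ZMod p) ≠ 0 := by
      intro h
      have : ((2 : ℕ) : ZMod p) = 0 := by exact_mod_cast h
      rw [ZMod.natCast_eq_zero_iff] at this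
      have := (Nat.prime_dvd_prime_iff_eq hp Nat.prime_two).1 this
      exact hp2 this
    -- affine combinations
    have hcomb : ∀ (a b : Fin 2 → ZMod p) (l : ZMod p),
        σ ((1 - l) • a + l • b) = (1 - l) • σ a + l • σ b := by
      intro a b l
      obtain ⟨k, hkG, hk⟩ := hσ ![a, b, (1 - l) • a + l • b]
      obtain ⟨C, c₀, hC⟩ := haff hkG
      have h0 : σ a = k a := hk 0
      have h1 : σ b = k b := hk 1
      have h2 : σ ((1 - l) • a + l • b) = k ((1 - l) • a + l • b) := hk 2
      rw [h2, h0, h1, hC, hC, hC, map_add, map_smul, map_smul]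
      module
    set A : (Fin 2 → ZMod p) → (Fin 2 → ZMod p) := fun x => σ x - σ 0 with hA
    have hhom : ∀ (l : ZMod p) (x : Fin 2 → ZMod p), A (l • x) = l • A x := by
      intro l x
      have := hcomb 0 x l
      simp only [smul_zero, zero_add] at this
      simp only [hA, this]
      module
    have hadd : ∀ x y : Fin 2 → ZMod p, A (x + y) = A x + A y := by
      intro x y
      set h := (2 : ZMod p)⁻¹ with hh
      have h2h : 2 * h = 1 := mul_inv_cancel₀ h2ne
      have hne : h ≠ 0 := inv_ne_zero h2ne
      clear_value h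
      have h1h : 1 - h = h := by
        have : h + h = 1 := by rw [← two_mul]; exact h2h
        linear_combination (-1 : ZMod p) * this
      have e1 := hcomb x y h
      rw [h1h] at e1
      have e2 : A (h • (x + y)) = h • (A x + A y) := by
        simp only [hA]
        rw [smul_add, e1]
        have : σ 0 = h • σ 0 + h • σ 0 := by
          rw [← add_smul, ← two_mul, h2h, one_smul]
        conv_lhs => rw [this]
        module
      rw [hhom] at e2
      have := congrArg (fun v => (2 : ZMod p) • v) e2
      simp only [smul_smul, h2h, one_smul] at this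
      exact this
    have hBe1 : B ![1, 0] = A ![1, 0] := by
      have h1 := hB ![1, 0]
      have h0 := hB 0
      rw [LinearEquiv.map_zero, zero_add] at h0
      simp only [hA]
      rw [hg1, hg0, h1, h0]
      abel
    have hBe2 : B ![0, 1] = A ![0, 1] := by
      have h1 := hB ![0, 1]
      have h0 := hB 0
      rw [LinearEquiv.map_zero, zero_add] at h0
      simp only [hA]
      rw [hg2, hg0, h1, h0]
      abel
    intro z
    have hz := vec_decomp p z
    have hAz : A z = B z := by
      conv_lhs => rw [hz]
      conv_rhs => rw [hz]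
      rw [hadd, hhom, hhom, map_add, map_smul, map_smul, hBe1, hBe2]
    have h0 := hB 0
    rw [LinearEquiv.map_zero, zero_add] at h0
    have hb : b₀ = σ 0 := by rw [hg0, h0]
    rw [hB z, ← hAz, hb]
    simp only [hA]
    abel

end Cfsg.Agent.S3515
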