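import Mathlib
import Cfsg.Statements.S3516

set_option autoImplicit false
open Cfsg

namespace Cfsg.Agent.S3516

open Matrix

/-- A linear automorphism fixing two given vectors with prescribed non-zero determinant,
in dimension at least three. -/
theorem exists_fix_det {K : Type*} [Field K] {d : ℕ} (hd : 3 ≤ d) (x₁ x₂ : Fin d → K) (c : K)
    (hc : c ≠ 0) : ∃ D : (Fin d → K) ≃ₗ[K] (Fin d → K), D x₁ = x₁ ∧ D x₂ = x₂ ∧
      LinearMap.det (D : (Fin d → K) →ₗ[K] (Fin d → K)) = c := by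
  classical
  let Φ : (Fin d → K) →ₗ[K] (Fin 2 → K) :=
    Matrix.mulVecLin (Matrix.of ![x₁, x₂] : Matrix (Fin 2) (Fin d) K)
  have hker : LinearMap.ker Φ ≠ ⊥ := by
    apply LinearMap.ker_ne_bot_of_finrank_lt
    rw [Module.finrank_fin_fun, Module.finrank_fin_fun]
    omega
  obtain ⟨w, hw, hw0⟩ := Submodule.exists_mem_ne_zero_of_ne_bot hker
  rw [LinearMap.mem_ker] at hw
  have hw1 : x₁ ⬝ᵥ w = 0 := by
    have := congrFun hw 0
    simpa [Φ, Matrix.mulVec] using this
  have hw2 : x₂ ⬝ᵥ w = 0 := by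
    have := congrFun hw 1
    simpa [Φ, Matrix.mulVec] using this
  obtain ⟨j, hj⟩ := Function.ne_iff.1 hw0
  have hj' : w j ≠ 0 := hj
  let v : Fin d → K := Pi.single j (w j)⁻¹
  have hwv : w ⬝ᵥ v = 1 := by
    simp only [v]
    rw [dotProduct_single, mul_inv_cancel₀ hj']
  let M : Matrix (Fin d) (Fin d) K := 1 + Matrix.vecMulVec ((c - 1) • v) w
  have hdetM : M.det = c := by
    simp only [M]
    rw [Matrix.vecMulVec_eq Unit, Matrix.det_one_add_replicateCol_mul_replicateRow,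
      dotProduct_smul, hwv, smul_eq_mul, mul_one]
    ring
  have hMv : ∀ x : Fin d → K, M *ᵥ x = x + (w ⬝ᵥ x) • ((c - 1) • v) := by
    intro x
    simp only [M]
    rw [Matrix.add_mulVec, Matrix.one_mulVec, Matrix.vecMulVec_mulVec, op_smul_eq_smul]
  have hunit : IsUnit (LinearMap.det (Matrix.toLin' M)) := by
    rw [LinearMap.det_toLin', hdetM]
    exact isUnit_iff_ne_zero.2 hc
  refine ⟨LinearMap.equivOfIsUnitDet hunit, ?_, ?_, ?_⟩
  · rw [LinearMap.equivOfIsUnitDet_apply, Matrix.toLin'_apply, hMv, dotProduct_comm, hw1, zero_smul,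
      add_zero]
  · rw [LinearMap.equivOfIsUnitDet_apply, Matrix.toLin'_apply, hMv, dotProduct_comm, hw2, zero_smul,
      add_zero]
  · have : ((LinearMap.equivOfIsUnitDet hunit : (Fin d → K) ≃ₗ[K] (Fin d → K)) :
        (Fin d → K) →ₗ[K] (Fin d → K)) = Matrix.toLin' M :=
      LinearMap.ext fun x => LinearMap.equivOfIsUnitDet_apply hunit x
    rw [this, LinearMap.det_toLin', hdetM]

theorem two_ne_zero_zmod (p : ℕ) [Fact p.Prime] (hp : p ≠ 2) : (2 : ZMod p) ≠ 0 := by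
  intro h
  have h1 : ((2 : ℕ) : ZMod p) = 0 := by exact_mod_cast h
  rw [ZMod.natCast_eq_zero_iff] at h1
  have := (Nat.prime_dvd_prime_iff_eq (Fact.out : p.Prime) Nat.prime_two).1 h1
  exact hp this

/-- Let p be an odd prime, d ≥ 3, and G a group of affine permutations x ↦ Ax + b of V = F_p^d containing all translations and all maps x ↦ Ax with A of determinant 1. Then the 3-closure of G is the full affine group: a permutation σ of V agrees on every triple of points with some element of G if and only if σ is an affine map. -/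
theorem result (p : ℕ) [Fact p.Prime] (hp : p ≠ 2) (d : ℕ) (hd : 3 ≤ d) (G : Subgroup (Equiv.Perm (Fin d → ZMod p)))
    (haff : (G : Set (Equiv.Perm (Fin d → ZMod p))) ⊆ {τ : Equiv.Perm (Fin d → ZMod p) | ∃ (A : (Fin d → ZMod p) ≃ₗ[ZMod p] (Fin d → ZMod p)) (b : Fin d → ZMod p), ∀ x, τ x = A x + b})
    (htrans : ∀ b : Fin d → ZMod p, ∃ g ∈ G, ∀ x, g x = x + b)
    (hsl : ∀ A : (Fin d → ZMod p) ≃ₗ[ZMod p] (Fin d → ZMod p), LinearMap.det (A : (Fin d → ZMod p) →ₗ[ZMod p] (Fin d → ZMod p)) = 1 → ∃ g ∈ G, ∀ x, g x = A x)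
    (σ : Equiv.Perm (Fin d → ZMod p)) :
    (∀ t : Fin 3 → (Fin d → ZMod p), ∃ g ∈ G, ∀ i, σ (t i) = g (t i)) ↔ σ ∈ {τ : Equiv.Perm (Fin d → ZMod p) | ∃ (A : (Fin d → ZMod p) ≃ₗ[ZMod p] (Fin d → ZMod p)) (b : Fin d → ZMod p), ∀ x, τ x = A x + b} := by
  have h2 : (2 : ZMod p) ≠ 0 := two_ne_zero_zmod p hp
  constructor
  · intro hcl
    -- every triple is matched by an affine map
    have hcl' : ∀ t : Fin 3 → (Fin d → ZMod p),
        ∃ (A : (Fin d → ZMod p) ≃ₗ[ZMod p] (Fin d → ZMod p)) (b : Fin d → ZMod p),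
          ∀ i, σ (t i) = A (t i) + b := by
      intro t
      obtain ⟨g, hg, hgt⟩ := hcl t
      obtain ⟨A, b, hAb⟩ := haff hg
      exact ⟨A, b, fun i => by rw [hgt i, hAb]⟩
    have hhom : ∀ (c : ZMod p) (x : Fin d → ZMod p), σ (c • x) - σ 0 = c • (σ x - σ 0) := by
      intro c x
      obtain ⟨A, b, hAb⟩ := hcl' ![0, x, c • x]
      have e0 : σ 0 = A 0 + b := hAb 0
      have e1 : σ x = A x + b := hAb 1
      have e2 : σ (c • x) = A (c • x) + b := hAb 2
      rw [e0, e1, e2, map_zero, map_smul]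
      simp
    have hmid : ∀ x y : Fin d → ZMod p,
        σ ((2 : ZMod p)⁻¹ • (x + y)) = (2 : ZMod p)⁻¹ • (σ x + σ y) := by
      intro x y
      obtain ⟨A, b, hAb⟩ := hcl' ![x, y, (2 : ZMod p)⁻¹ • (x + y)]
      have e0 : σ x = A x + b := hAb 0
      have e1 : σ y = A y + b := hAb 1
      have e2 : σ ((2 : ZMod p)⁻¹ • (x + y)) = A ((2 : ZMod p)⁻¹ • (x + y)) + b := hAb 2
      rw [e0, e1, e2, map_smul, map_add]
      have hb : b = (2 : ZMod p)⁻¹ • (b + b) := by
        rw [← two_smul (ZMod p) b, smul_smul, inv_mul_cancel₀ h2, one_smul]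
      nth_rewrite 1 [hb]
      rw [← smul_add]
      congr 1
      abel
    have hadd : ∀ x y : Fin d → ZMod p, σ (x + y) - σ 0 = (σ x - σ 0) + (σ y - σ 0) := by
      intro x y
      have h1 := hhom 2 ((2 : ZMod p)⁻¹ • (x + y))
      rw [smul_smul, mul_inv_cancel₀ h2, one_smul, hmid] at h1
      rw [h1, smul_sub, smul_smul, mul_inv_cancel₀ h2, one_smul, two_smul]
      abel
    let τ : (Fin d → ZMod p) →ₗ[ZMod p] (Fin d → ZMod p) :=
      { toFun := fun x => σ x - σ 0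
        map_add' := hadd
        map_smul' := fun c x => by simpa using hhom c x }
    have hτ : ∀ x, τ x = σ x - σ 0 := fun x => rfl
    have hbij : Function.Bijective τ := by
      constructor
      · intro x y hxy
        rw [hτ, hτ] at hxy
        exact σ.injective (sub_left_injective hxy)
      · intro y
        obtain ⟨x, hx⟩ := σ.surjective (y + σ 0)
        exact ⟨x, by rw [hτ, hx, add_sub_cancel_right]⟩
    refine ⟨LinearEquiv.ofBijective τ hbij, σ 0, fun x => ?_⟩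
    rw [LinearEquiv.ofBijective_apply, hτ, sub_add_cancel]
  · rintro ⟨A, b, hσ⟩ t
    have hAunit : IsUnit (LinearMap.det (A : (Fin d → ZMod p) →ₗ[ZMod p] (Fin d → ZMod p))) :=
      LinearEquiv.isUnit_det' A
    have hA0 : LinearMap.det (A : (Fin d → ZMod p) →ₗ[ZMod p] (Fin d → ZMod p)) ≠ 0 :=
      hAunit.ne_zero
    obtain ⟨D, hD1, hD2, hDdet⟩ := exists_fix_det hd (t 1 - t 0) (t 2 - t 0)
      (LinearMap.det (A : (Fin d → ZMod p) →ₗ[ZMod p] (Fin d → ZMod p)))⁻¹ (inv_ne_zero hA0)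
    have hB : LinearMap.det ((D.trans A : (Fin d → ZMod p) ≃ₗ[ZMod p] (Fin d → ZMod p)) :
        (Fin d → ZMod p) →ₗ[ZMod p] (Fin d → ZMod p)) = 1 := by
      have : ((D.trans A : (Fin d → ZMod p) ≃ₗ[ZMod p] (Fin d → ZMod p)) :
          (Fin d → ZMod p) →ₗ[ZMod p] (Fin d → ZMod p)) =
          (A : (Fin d → ZMod p) →ₗ[ZMod p] (Fin d → ZMod p)).comp
            (D : (Fin d → ZMod p) →ₗ[ZMod p] (Fin d → ZMod p)) := rfl
      rw [this, LinearMap.det_comp, hDdet, mul_inv_cancel₀ hA0]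
    obtain ⟨g₁, hg₁, hg₁'⟩ := hsl (D.trans A) hB
    obtain ⟨g₂, hg₂, hg₂'⟩ := htrans (σ (t 0) - (D.trans A) (t 0))
    refine ⟨g₂ * g₁, G.mul_mem hg₂ hg₁, fun i => ?_⟩
    rw [Equiv.Perm.mul_apply, hg₂', hg₁']
    have key : ∀ y : Fin d → ZMod p, D (y - t 0) = y - t 0 →
        σ y = (D.trans A) y + (σ (t 0) - (D.trans A) (t 0)) := by
      intro y hy
      have h1 : (D.trans A) y - (D.trans A) (t 0) = A (y - t 0) := by
        rw [← map_sub, LinearEquiv.trans_apply, hy]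
      rw [add_sub, add_comm, ← add_sub, h1, hσ, hσ, map_sub]
      abel
    fin_cases i
    · exact key (t 0) (by rw [sub_self, map_zero])
    · exact key (t 1) hD1
    · exact key (t 2) hD2

end Cfsg.Agent.S3516
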