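import Mathlib
import Cfsg.Statements.S3517

set_option autoImplicit false
open Cfsg

namespace Cfsg.Agent.S3517

section general

variable {K V W : Type*} [Field K] [AddCommGroup V] [Module K V] [AddCommGroup W] [Module K W]

/-- Two linear maps out of `W` with the same kernel have isomorphic ranges, compatibly. -/
theorem exists_range_equiv (Fx Fy : W →ₗ[K] V) (hker : LinearMap.ker Fx = LinearMap.ker Fy) :
    ∃ f : LinearMap.range Fx ≃ₗ[K] LinearMap.range Fy,
      ∀ c : W, (f ⟨Fx c, LinearMap.mem_range_self Fx c⟩ : V) = Fy c := by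
  refine ⟨Fx.quotKerEquivRange.symm ≪≫ₗ (Submodule.quotEquivOfEq _ _ hker) ≪≫ₗ
    Fy.quotKerEquivRange, ?_⟩
  intro c
  simp only [LinearEquiv.trans_apply]
  rw [LinearMap.quotKerEquivRange_symm_apply_image]
  rfl

theorem exists_equiv_of_ker_eq [FiniteDimensional K V] (Fx Fy : W →ₗ[K] V)
    (hker : LinearMap.ker Fx = LinearMap.ker Fy) :
    ∃ g : V ≃ₗ[K] V, ∀ c : W, g (Fx c) = Fy c := by
  obtain ⟨f, hf⟩ := exists_range_equiv Fx Fy hker
  obtain ⟨g, hg⟩ := Submodule.exists_linearEquiv_restrict_eq f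
  refine ⟨g, fun c => ?_⟩
  rw [← hf c]
  exact (hg ⟨Fx c, LinearMap.mem_range_self Fx c⟩).symm

end general

theorem zmod_two_cases (a : ZMod 2) : a = 0 ∨ a = 1 := by
  fin_cases a
  · left; rfl
  · right; rfl

theorem add_eq_zero_iff_eq' {V : Type*} [AddCommGroup V] [Module (ZMod 2) V] (x y : V) :
    x + y = 0 ↔ x = y := by
  have h2 : ∀ z : V, z + z = 0 := by
    intro z
    have : (2 : ZMod 2) • z = 0 := by
      have : (2 : ZMod 2) = 0 := by decide
      rw [this, zero_smul]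
    rwa [two_smul] at this
  constructor
  · intro h
    have : x = -y := eq_neg_of_add_eq_zero_left h
    rw [this]
    exact neg_eq_of_add_eq_zero_left (h2 y)
  · rintro rfl
    exact h2 x

/-- For d ≥ 3, the 3-closure of the affine group AGL_d(2) acting on F_2^d is the full symmetric group: every permutation of F_2^d agrees on every ordered triple of points with some affine map (AGL_d(2) is 3-transitive). -/
theorem result (d : ℕ) (hd : 3 ≤ d) (σ : Equiv.Perm (Fin d → ZMod 2)) (t : Fin 3 → (Fin d → ZMod 2)) :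
    ∃ (A : (Fin d → ZMod 2) ≃ₗ[ZMod 2] (Fin d → ZMod 2)) (b : Fin d → ZMod 2), ∀ i, σ (t i) = A (t i) + b := by
  set x1 := t 1 - t 0 with hx1
  set x2 := t 2 - t 0 with hx2
  set y1 := σ (t 1) - σ (t 0) with hy1
  set y2 := σ (t 2) - σ (t 0) with hy2
  let Fx : (ZMod 2 × ZMod 2) →ₗ[ZMod 2] (Fin d → ZMod 2) :=
    (LinearMap.toSpanSingleton (ZMod 2) _ x1).coprod (LinearMap.toSpanSingleton (ZMod 2) _ x2)
  let Fy : (ZMod 2 × ZMod 2) →ₗ[ZMod 2] (Fin d → ZMod 2) :=
    (LinearMap.toSpanSingleton (ZMod 2) _ y1).coprod (LinearMap.toSpanSingleton (ZMod 2) _ y2)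
  have hFx : ∀ a b : ZMod 2, Fx (a, b) = a • x1 + b • x2 := fun a b => by
    simp [Fx, LinearMap.coprod_apply, LinearMap.toSpanSingleton_apply]
  have hFy : ∀ a b : ZMod 2, Fy (a, b) = a • y1 + b • y2 := fun a b => by
    simp [Fy, LinearMap.coprod_apply, LinearMap.toSpanSingleton_apply]
  have h1 : x1 = 0 ↔ y1 = 0 := by
    rw [hx1, hy1, sub_eq_zero, sub_eq_zero, σ.injective.eq_iff]
  have h2 : x2 = 0 ↔ y2 = 0 := by
    rw [hx2, hy2, sub_eq_zero, sub_eq_zero, σ.injective.eq_iff]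
  have h3 : x1 + x2 = 0 ↔ y1 + y2 = 0 := by
    rw [add_eq_zero_iff_eq', add_eq_zero_iff_eq', hx1, hx2, hy1, hy2, sub_left_inj, sub_left_inj,
      σ.injective.eq_iff]
  have hker : LinearMap.ker Fx = LinearMap.ker Fy := by
    ext ⟨a, b⟩
    rw [LinearMap.mem_ker, LinearMap.mem_ker, hFx, hFy]
    rcases zmod_two_cases a with rfl | rfl <;> rcases zmod_two_cases b with rfl | rfl
    · simp
    · simpa using h2
    · simpa using h1
    · simpa using h3
  obtain ⟨g, hg⟩ := exists_equiv_of_ker_eq Fx Fy hker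
  have hg1 : g x1 = y1 := by
    have := hg (1, 0)
    rw [hFx, hFy] at this
    simpa using this
  have hg2 : g x2 = y2 := by
    have := hg (0, 1)
    rw [hFx, hFy] at this
    simpa using this
  refine ⟨g, σ (t 0) - g (t 0), fun i => ?_⟩
  fin_cases i
  · simp
  · have : g (t 1) - g (t 0) = σ (t 1) - σ (t 0) := by rw [← map_sub]; exact hg1
    show σ (t 1) = g (t 1) + (σ (t 0) - g (t 0))
    rw [add_sub, add_comm, ← add_sub, this]
    abel
  · have : g (t 2) - g (t 0) = σ (t 2) - σ (t 0) := by rw [← map_sub]; exact hg2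
    show σ (t 2) = g (t 2) + (σ (t 0) - g (t 0))
    rw [add_sub, add_comm, ← add_sub, this]
    abel

end Cfsg.Agent.S3517
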