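import Cfsg.Statements.S3518
import Cfsg.Agent.Lib.Helper19.PrimeDegree2

set_option autoImplicit false
open Cfsg

namespace Cfsg.Agent.S3518

open Cfsg.Agent.Lib.Helper19.PrimeDegree

variable {p : ℕ} [Fact p.Prime]

/-- the affine map `x ↦ a x + b` -/
def affMap (a : (ZMod p)ˣ) (b : ZMod p) : Equiv.Perm (ZMod p) :=
  (Units.mulLeft a).trans (Equiv.addRight b)

theorem affMap_apply (a : (ZMod p)ˣ) (b x : ZMod p) : affMap a b x = (a : ZMod p) * x + b := rfl

theorem affMap_mem (a : (ZMod p)ˣ) (b : ZMod p) : affMap a b ∈ Cfsg.affineGroup (ZMod p) :=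
  ⟨a, b, fun x => affMap_apply a b x⟩

theorem part2 (σ : Equiv.Perm (ZMod p)) (t : Fin 2 → ZMod p) :
    ∃ g ∈ Cfsg.affineGroup (ZMod p), ∀ i, σ (t i) = g (t i) := by
  by_cases h : t 0 = t 1
  · refine ⟨affMap 1 (σ (t 0) - t 0), affMap_mem _ _, ?_⟩
    rw [Fin.forall_fin_two]
    refine ⟨?_, ?_⟩
    · rw [affMap_apply]; simp
    · rw [affMap_apply, ← h]; simp
  · have hne : t 1 - t 0 ≠ 0 := sub_ne_zero.mpr (Ne.symm h)
    have hne' : σ (t 1) - σ (t 0) ≠ 0 := sub_ne_zero.mpr (fun h' => h (σ.injective h').symm)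
    set a : ZMod p := (σ (t 1) - σ (t 0)) / (t 1 - t 0) with ha
    have ha0 : a ≠ 0 := div_ne_zero hne' hne
    refine ⟨affMap (Units.mk0 a ha0) (σ (t 0) - a * t 0), affMap_mem _ _, ?_⟩
    rw [Fin.forall_fin_two]
    refine ⟨?_, ?_⟩
    · rw [affMap_apply, Units.val_mk0]; ring
    · rw [affMap_apply, Units.val_mk0]
      have : a * (t 1 - t 0) = σ (t 1) - σ (t 0) := div_mul_cancel₀ _ hne
      linear_combination -this

theorem part3 (σ : Equiv.Perm (ZMod p))
    (h : ∀ t : Fin 3 → ZMod p, ∃ g ∈ Cfsg.affineGroup (ZMod p), ∀ i, σ (t i) = g (t i)) :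
    σ ∈ Cfsg.affineGroup (ZMod p) := by
  have hne : σ 1 - σ 0 ≠ 0 := sub_ne_zero.mpr (fun h' => one_ne_zero (σ.injective h'))
  refine ⟨Units.mk0 _ hne, σ 0, fun z => ?_⟩
  obtain ⟨g, ⟨a, b, hg⟩, hgt⟩ := h ![0, 1, z]
  have h0 := hgt 0
  have h1 := hgt 1
  have h2 := hgt 2
  simp only [Matrix.cons_val_zero, Matrix.cons_val_one, Matrix.cons_val_two, Matrix.head_cons,
    Matrix.tail_cons, Matrix.cons_val] at h0 h1 h2
  rw [hg] at h0 h1 h2
  rw [Units.val_mk0, h2, h0, h1]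
  ring

theorem part1 (G : Subgroup (Equiv.Perm (ZMod p))) (hG : G ≤ Cfsg.affineGroup (ZMod p))
    (htrans : ∀ b : ZMod p, ∃ g ∈ G, ∀ x, g x = x + b) (hne : G ≠ Cfsg.affineGroup (ZMod p))
    (σ : Equiv.Perm (ZMod p)) (hσ : ∀ t : Fin 2 → ZMod p, ∃ g ∈ G, ∀ i, σ (t i) = g (t i)) :
    σ ∈ G := by
  classical
  -- the multipliers of `G`
  set A : Finset (ZMod p) := Finset.univ.filter (fun a => ∃ g ∈ G, ∀ x, g x = a * x) with hA
  have memA : ∀ a, a ∈ A ↔ ∃ g ∈ G, ∀ x, g x = a * x := by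
    intro a; simp [hA]
  have h0 : (0 : ZMod p) ∉ A := by
    rw [memA]
    rintro ⟨g, -, hg⟩
    have : g 0 = g 1 := by rw [hg, hg]; simp
    exact zero_ne_one (g.injective this)
  have h1A : (1 : ZMod p) ∈ A := (memA 1).mpr ⟨1, G.one_mem, fun x => by simp⟩
  have hmulA : ∀ a b, a ∈ A → b ∈ A → a * b ∈ A := by
    intro a b ha hb
    obtain ⟨g, hgG, hg⟩ := (memA a).mp ha
    obtain ⟨h, hhG, hh⟩ := (memA b).mp hb
    exact (memA _).mpr ⟨g * h, G.mul_mem hgG hhG, fun x => by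
      rw [Equiv.Perm.mul_apply, hh, hg, mul_assoc]⟩
  -- an element of `G` has its multiplier in `A`
  have hmult : ∀ g ∈ G, ∀ (a : (ZMod p)ˣ) (c : ZMod p), (∀ x, g x = (a : ZMod p) * x + c) →
      (a : ZMod p) ∈ A := by
    intro g hgG a c hg
    obtain ⟨τ, hτG, hτ⟩ := htrans (-c)
    exact (memA _).mpr ⟨τ * g, G.mul_mem hτG hgG, fun x => by
      rw [Equiv.Perm.mul_apply, hτ, hg]; ring⟩
  -- `A` is proper
  have hprop : ∃ b : ZMod p, b ≠ 0 ∧ b ∉ A := by
    by_contra hcon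
    push Not at hcon
    apply hne
    apply le_antisymm hG
    rintro g ⟨a, c, hg⟩
    obtain ⟨μ, hμG, hμ⟩ := (memA _).mp (hcon (a : ZMod p) a.ne_zero)
    obtain ⟨τ, hτG, hτ⟩ := htrans c
    have : g = τ * μ := by
      ext x
      rw [Equiv.Perm.mul_apply, hτ, hμ, hg]
    rw [this]
    exact G.mul_mem hτG hμG
  -- `σ` preserves the relation
  have hpres : ∀ x y, y - x ∈ A → σ y - σ x ∈ A := by
    intro x y hxy
    obtain ⟨g, hgG, hgt⟩ := hσ ![x, y]
    have e0 := hgt 0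
    have e1 := hgt 1
    simp only [Matrix.cons_val_zero, Matrix.cons_val_one, Matrix.head_cons] at e0 e1
    obtain ⟨a, c, hg⟩ := hG hgG
    have haA := hmult g hgG a c hg
    rw [e0, e1, hg, hg]
    have : (a : ZMod p) * y + c - ((a : ZMod p) * x + c) = (a : ZMod p) * (y - x) := by ring
    rw [this]
    exact hmulA _ _ haA hxy
  obtain ⟨a, c, hσaff⟩ := affine_of_preserves A h0 ⟨1, h1A⟩ hprop σ hpres
  have haA : (a : ZMod p) ∈ A := by
    have := hpres 0 1 (by simpa using h1A)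
    rw [hσaff, hσaff] at this
    have h2 : (a : ZMod p) * 1 + c - ((a : ZMod p) * 0 + c) = (a : ZMod p) := by ring
    rwa [h2] at this
  obtain ⟨μ, hμG, hμ⟩ := (memA _).mp haA
  obtain ⟨τ, hτG, hτ⟩ := htrans c
  have : σ = τ * μ := by
    ext x
    rw [Equiv.Perm.mul_apply, hτ, hμ, hσaff]
  rw [this]
  exact G.mul_mem hτG hμG

/-- Closures of subgroups of the one-dimensional affine group. Let p be a prime and G a group of permutations of F_p lying in the affine group AGL₁(p) = {x ↦ ax + b, a ≠ 0} and containing all translations. (1) If G is a proper subgroup of AGL₁(p), then G is 2-closed: a permutation of F_p agreeing on every ordered pair of points with some element of G lies in G. (2) Every permutation of F_p agrees on every ordered pair with some element of AGL₁(p) (the 2-closure of AGL₁(p) is the symmetric group). (3) AGL₁(p) is 3-closed: a permutation agreeing on every ordered triple with some affine map is affine.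 -/
theorem result (p : ℕ) [Fact p.Prime] (G : Subgroup (Equiv.Perm (ZMod p))) (hG : G ≤ Cfsg.affineGroup (ZMod p))
    (htrans : ∀ b : ZMod p, ∃ g ∈ G, ∀ x, g x = x + b) :
    (G ≠ Cfsg.affineGroup (ZMod p) → ∀ σ : Equiv.Perm (ZMod p), (∀ t : Fin 2 → ZMod p, ∃ g ∈ G, ∀ i, σ (t i) = g (t i)) → σ ∈ G) ∧
    (∀ σ : Equiv.Perm (ZMod p), (∀ t : Fin 2 → ZMod p, ∃ g ∈ Cfsg.affineGroup (ZMod p), ∀ i, σ (t i) = g (t i))) ∧
    (∀ σ : Equiv.Perm (ZMod p), (∀ t : Fin 3 → ZMod p, ∃ g ∈ Cfsg.affineGroup (ZMod p), ∀ i, σ (t i) = g (t i)) → σ ∈ Cfsg.affineGroup (ZMod p)) :=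
  ⟨fun hne σ hσ => part1 G hG htrans hne σ hσ, fun σ t => part2 σ t, fun σ h => part3 σ h⟩

end Cfsg.Agent.S3518
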