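import Cfsg.Statements.S3520
import Cfsg.Agent.Lib.Lead.PrimDerC
import Cfsg.Agent.Lib.Helper21.AffineDer

set_option autoImplicit false
open Cfsg

namespace Cfsg.Agent.S3520

/-- Let a finite group G act faithfully and primitively on a finite set Ω with at least two points, suppose G is not almost simple (no non-abelian simple normal subgroup with trivial centralizer), and suppose the derangements of G form exactly two conjugacy classes. Then either Ω has 3 points and G has order 3; or G has a non-trivial abelian normal subgroup N acting regularly, every non-identity element of G fixes at most one point (so, when n > 3, G is a Frobenius group with kernel N), the number n of points is odd and a point stabilizer has order (n − 1)/2; or G is 2-transitive with a non-trivial abelian regular normal subgroup and some non-identity element fixes at least two points (a non-Frobenius 2-transitive affine group). -/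
theorem result {G : Type*} [Group G] [Finite G] {Ω : Type*} [Fintype Ω] [MulAction G Ω] [FaithfulSMul G Ω] (hΩ : 2 ≤ Fintype.card Ω) (hprim : MulAction.IsPreprimitive G Ω) (hnas : ¬ ∃ T : Subgroup G, T.Normal ∧ IsSimpleGroup T ∧ ¬ IsMulCommutative T ∧ Subgroup.centralizer (T : Set G) = ⊥)
    (hκ : Nat.card {c : ConjClasses G // ∃ g : G, ConjClasses.mk g = c ∧ ∀ ω : Ω, g • ω ≠ ω} = 2) (α : Ω) :
    (Fintype.card Ω = 3 ∧ Nat.card G = 3) ∨
    ((∃ N : Subgroup G, N.Normal ∧ N ≠ ⊥ ∧ IsMulCommutative N ∧ ∀ ω : Ω, MulAction.stabilizer N ω = ⊥) ∧ (∀ g : G, g ≠ 1 → Nat.card (MulAction.fixedBy Ω g) ≤ 1) ∧ ¬ 2 ∣ Fintype.card Ω ∧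
        2 * Nat.card (MulAction.stabilizer G α) = Fintype.card Ω - 1) ∨
    ((∃ N : Subgroup G, N.Normal ∧ N ≠ ⊥ ∧ IsMulCommutative N ∧ ∀ ω : Ω, MulAction.stabilizer N ω = ⊥) ∧ MulAction.IsMultiplyPretransitive G Ω 2 ∧ ∃ g : G, g ≠ 1 ∧ 2 ≤ Nat.card (MulAction.fixedBy Ω g)) := by
  have hΩ' : 2 ≤ Nat.card Ω := by rw [Nat.card_eq_fintype_card]; exact hΩ
  haveI : Nontrivial G := Cfsg.Agent.Lib.Lead.PrimDerC.nontrivial_group hprim hΩ'
  obtain ⟨N, hNn, hN, hmin⟩ := Cfsg.Agent.S0721.exists_minNormal (G := G)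
  haveI := hNn
  by_cases hab : IsMulCommutative N
  · obtain ⟨-, htr, hreg⟩ :=
      Cfsg.Agent.Lib.Lead.PrimDerC.abelian_minimal_normal hprim N hN hmin hab
    rcases Cfsg.Agent.Lib.Helper21.AffineDer.affine_two_classes N hN hab htr hreg hκ α with
      ⟨h1, h2, h3⟩ | ⟨h1, h2⟩
    · right; left
      exact ⟨⟨N, hNn, hN, hab, hreg⟩, h1, h2, h3⟩
    · right; right
      exact ⟨⟨N, hNn, hN, hab, hreg⟩, h1, h2⟩
  · exfalso
    obtain ⟨⟨g₁, g₂, g₃, d₁, d₂, d₃, h12, h13, h23⟩, -⟩ :=
      Cfsg.Agent.Lib.Lead.PrimDerC.core hprim hΩ' N hN hmin hab hnas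
    have h3 : 3 ≤ Nat.card {c : ConjClasses G // ∃ g : G, ConjClasses.mk g = c ∧
        ∀ ω : Ω, g • ω ≠ ω} :=
      Cfsg.Agent.Lib.Lead.PrimDerC.three_le_card (fun g : G => ∀ ω : Ω, g • ω ≠ ω)
        g₁ g₂ g₃ d₁ d₂ d₃ h12 h13 h23
    rw [hκ] at h3
    omega

end Cfsg.Agent.S3520
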