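-- Statement S3549
import Cfsg.Statements.S3549
import Cfsg.Agent.Lib.Helper19.Derangement2

set_option autoImplicit false
open Cfsg
open scoped Pointwise

namespace Cfsg.Agent.S3549

open MulAction Cfsg.Agent.Lib.Helper19 in
theorem aux {G Ω : Type*} [Group G] [Finite G] [MulAction G Ω] [Finite Ω]
    [IsPretransitive G Ω] (B : Set Ω) (hB : IsBlock G B) (hBs : B.Nontrivial) (hBu : B ≠ Set.univ) :
    ((derSubgroup G Ω).index + 1) * ((derSubgroup G Ω).index + 1) ≤ Nat.card Ω := by
  classical
  set k := (derSubgroup G Ω).index with hk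
  have hBne : B.Nonempty := hBs.nonempty
  obtain ⟨α, hα⟩ := hBne
  have hne : Nonempty Ω := ⟨α⟩
  have hbc := hB.ncard_block_mul_ncard_orbit_eq ⟨α, hα⟩
  set b := B.ncard with hb
  set c := (orbit G B).ncard with hc
  have hb2 : 2 ≤ b := by
    rw [hb]
    exact Set.one_lt_ncard_iff_nontrivial.mpr hBs
  have hnpos : 0 < Nat.card Ω := Nat.card_pos
  have hc2 : 2 ≤ c := by
    by_contra hlt
    have hc01 : c = 0 ∨ c = 1 := by omega
    rcases hc01 with h0 | h1
    · rw [h0, mul_zero] at hbc; omega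
    · rw [h1, mul_one] at hbc
      apply hBu
      apply Set.eq_of_subset_of_ncard_le (Set.subset_univ B) _ (Set.toFinite _)
      rw [Set.ncard_univ, ← hbc]
  -- k ∣ b - 1
  have hkb : k ∣ b - 1 := by
    have h := index_dvd_ncard_of_invariant (G := G) α (B \ {α}) (by simp) (by
      intro g hg x hx
      have hgB : g • B = B := hB.stabilizer_le hα hg
      refine ⟨?_, ?_⟩
      · rw [← hgB]
        exact Set.smul_mem_smul_set hx.1
      · intro hgx
        apply hx.2
        rw [Set.mem_singleton_iff] at hgx ⊢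
        rw [mem_stabilizer_iff] at hg
        calc x = g⁻¹ • (g • x) := by rw [inv_smul_smul]
          _ = g⁻¹ • α := by rw [hgx]
          _ = α := by rw [inv_smul_eq_iff, hg])
    have : (B \ {α}).ncard = b - 1 := Set.ncard_sdiff_singleton_of_mem hα
    rwa [this] at h
  have hkn : k ∣ Nat.card Ω - 1 := index_dvd_card_sub_one (G := G) (Ω := Ω)
  have hkc : k ∣ c - 1 := by
    have e : Nat.card Ω - 1 = c * (b - 1) + (c - 1) := by
      rw [← hbc]
      obtain ⟨b', hb'⟩ : ∃ b', b = b' + 1 := ⟨b - 1, by omega⟩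
      obtain ⟨c', hc'⟩ : ∃ c', c = c' + 1 := ⟨c - 1, by omega⟩
      rw [hb', hc']
      simp only [Nat.add_sub_cancel]
      have : (b' + 1) * (c' + 1) = ((c' + 1) * b' + c') + 1 := by ring
      rw [this, Nat.add_sub_cancel]
    rw [e] at hkn
    exact (Nat.dvd_add_right (Dvd.dvd.mul_left hkb c)).mp hkn
  have hkb' : k + 1 ≤ b := by
    have := Nat.le_of_dvd (by omega) hkb
    omega
  have hkc' : k + 1 ≤ c := by
    have := Nat.le_of_dvd (by omega) hkc
    omega
  calc (k + 1) * (k + 1) ≤ b * c := Nat.mul_le_mul hkb' hkc'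
    _ = Nat.card Ω := hbc

/-- Let G act faithfully, transitively but imprimitively on a finite set with n points, and let D be the subgroup generated by the derangements. Then the index of D in G is at most √n − 1. -/
theorem result {G Ω : Type*} [Group G] [Finite G] [MulAction G Ω] [FaithfulSMul G Ω] [Finite Ω]
    (htrans : MulAction.IsPretransitive G Ω) (himp : ¬ MulAction.IsPreprimitive G Ω) :
    ((Subgroup.closure {g : G | ∀ ω : Ω, g • ω ≠ ω}).index : ℝ) ≤ Real.sqrt (Nat.card Ω) - 1 := by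
  have hex : ∃ B : Set Ω, MulAction.IsBlock G B ∧ ¬ MulAction.IsTrivialBlock B := by
    by_contra h
    push Not at h
    exact himp { toIsPretransitive := htrans, isTrivialBlock_of_isBlock := fun {B} hB => h B hB }
  obtain ⟨B, hB, hBt⟩ := hex
  unfold MulAction.IsTrivialBlock at hBt
  push Not at hBt
  have h := aux (G := G) B hB hBt.1 hBt.2
  change ((Cfsg.Agent.Lib.Helper19.derSubgroup G Ω).index : ℝ) ≤ _
  set k := (Cfsg.Agent.Lib.Helper19.derSubgroup G Ω).index with hk
  rw [le_sub_iff_add_le]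
  apply Real.le_sqrt_of_sq_le
  have : (((k + 1) * (k + 1) : ℕ) : ℝ) ≤ ((Nat.card Ω : ℕ) : ℝ) := by exact_mod_cast h
  calc ((k : ℝ) + 1) ^ 2 = (((k + 1) * (k + 1) : ℕ) : ℝ) := by push_cast; ring
    _ ≤ (Nat.card Ω : ℝ) := this

end Cfsg.Agent.S3549
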