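import Cfsg.Statements.S3554
import Mathlib

set_option autoImplicit false
open Cfsg

namespace Cfsg.Agent.S3554

theorem result {G Ω : Type*} [Group G] [Finite G] [MulAction G Ω] [FaithfulSMul G Ω] [Finite Ω]
    (htrans : MulAction.IsPretransitive G Ω) (C : Subgroup G) (hC : C.Normal) (hC1 : C ≠ ⊥) (hcyc : IsCyclic ↥C) :
    ∃ g : G, (orderOf g).Prime ∧ ∀ ω : Ω, g • ω ≠ ω := by
  obtain ⟨c, hc⟩ := hcyc.exists_generator
  have hcC : (c : G) ∈ C := c.2
  -- every element of C is a power of (c : G)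
  have hgen : ∀ x ∈ C, ∃ k : ℤ, (c : G) ^ k = x := by
    intro x hx
    obtain ⟨k, hk⟩ := Subgroup.mem_zpowers_iff.mp (hc ⟨x, hx⟩)
    refine ⟨k, ?_⟩
    have := congrArg (Subtype.val) hk
    simpa using this
  set n := orderOf (c : G) with hn
  have hnpos : 0 < n := orderOf_pos _
  have hn1 : n ≠ 1 := by
    intro h1
    have hc1 : (c : G) = 1 := orderOf_eq_one_iff.mp h1
    apply hC1
    rw [eq_bot_iff]
    intro x hx
    obtain ⟨k, rfl⟩ := hgen x hx
    rw [hc1, one_zpow]; exact Subgroup.mem_bot.mpr rfl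
  obtain ⟨p, hp, hpn⟩ := Nat.exists_prime_and_dvd hn1
  set g := (c : G) ^ (n / p) with hg
  have hdp : n / p ∣ n := Nat.div_dvd_of_dvd hpn
  have hdpos : n / p ≠ 0 := by
    have : 0 < n / p := Nat.div_pos (Nat.le_of_dvd hnpos hpn) hp.pos
    omega
  have hord : orderOf g = p := by
    rw [hg, orderOf_pow_of_dvd hdpos hdp, ← hn]
    exact Nat.div_div_self hpn hnpos.ne'
  refine ⟨g, by rw [hord]; exact hp, ?_⟩
  intro ω hω
  -- conjugates of g are powers of g
  have hconj : ∀ h : G, ∃ k : ℤ, h⁻¹ * g * h = g ^ k := by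
    intro h
    have h1 : h⁻¹ * (c : G) * h ∈ C := by
      have := hC.conj_mem (c : G) hcC h⁻¹
      simpa using this
    obtain ⟨k, hk⟩ := hgen _ h1
    refine ⟨k, ?_⟩
    have h2 : h⁻¹ * g * h = (h⁻¹ * (c : G) * h) ^ (n / p) := by
      rw [hg]
      have := map_pow (MulAut.conj h⁻¹) (c : G) (n / p)
      simpa [MulAut.conj_apply] using this
    rw [h2, ← hk, hg]
    rw [← zpow_natCast, ← zpow_natCast, ← zpow_mul, ← zpow_mul, mul_comm]
  have hfixpow : ∀ k : ℤ, (g ^ k) • ω = ω := by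
    intro k
    have : g ^ k ∈ MulAction.stabilizer G ω :=
      Subgroup.zpow_mem _ (MulAction.mem_stabilizer_iff.mpr hω) k
    exact MulAction.mem_stabilizer_iff.mp this
  have hall : ∀ x : Ω, g • x = x := by
    intro x
    obtain ⟨h, rfl⟩ := MulAction.exists_smul_eq G ω x
    obtain ⟨k, hk⟩ := hconj h
    calc g • h • ω = h • ((h⁻¹ * g * h) • ω) := by simp [mul_smul]
      _ = h • ω := by rw [hk, hfixpow]
  have hg1 : g = 1 := by
    apply FaithfulSMul.eq_of_smul_eq_smul (α := Ω)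
    intro x; rw [hall x, one_smul]
  rw [hg1, orderOf_one] at hord
  exact hp.one_lt.ne' hord.symm

end Cfsg.Agent.S3554
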