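-- Statement S3555: transitive faithful action in which every derangement is an involution.
-- Elementary proof: sum_g fix(g^2) <= sum_g fix(g)^2 (termwise over ordered pairs of points),
-- combined with sum_g fix(g) = |G|, forces every non-derangement to fix exactly 1 or all points.
import Mathlib
import Cfsg.Statements.S3555

set_option autoImplicit false
open Cfsg

namespace Cfsg.Agent.S3555

open Finset
open scoped Pointwise

section counting

variable {G : Type*} (Ω : Type*) [Group G] [Fintype G] [MulAction G Ω] [Fintype Ω] [DecidableEq Ω]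

/-- number of fixed points of `g` -/
def fixCard (g : G) : ℕ := (univ.filter (fun ω : Ω => g • ω = ω)).card

theorem fixCard_one : fixCard Ω (1 : G) = Fintype.card Ω := by
  unfold fixCard
  simp

theorem fixCard_le (x : G) : fixCard Ω x ≤ Fintype.card Ω := card_le_univ _

theorem fixCard_le_sq (x : G) : fixCard Ω x ≤ fixCard Ω (x ^ 2) := by
  unfold fixCard
  apply card_le_card
  intro ω hω
  rw [mem_filter] at hω ⊢
  refine ⟨mem_univ _, ?_⟩
  rw [sq, mul_smul, hω.2, hω.2]

theorem sum_fixCard [MulAction.IsPretransitive G Ω] [Nonempty Ω] :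
    ∑ g : G, fixCard Ω g = Fintype.card G := by
  classical
  have h1 : ∀ β : Ω, (univ.filter (fun g : G => g • β = β)).card * Fintype.card Ω
      = Fintype.card G := by
    intro β
    have h2 := Subgroup.index_mul_card (MulAction.stabilizer G β)
    rw [MulAction.index_stabilizer_of_transitive G β] at h2
    have h3 : Nat.card (MulAction.stabilizer G β)
        = (univ.filter (fun g : G => g • β = β)).card := by
      rw [Nat.card_eq_fintype_card]
      exact Fintype.card_of_subtype _ (fun g => by simp [MulAction.mem_stabilizer_iff])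
    rw [h3, Nat.card_eq_fintype_card, Nat.card_eq_fintype_card] at h2
    rw [← h2, mul_comm]
  have h3 : (∑ g : G, fixCard Ω g) = ∑ β : Ω, (univ.filter (fun g : G => g • β = β)).card := by
    unfold fixCard
    simp only [card_filter]
    exact sum_comm
  have h4 : (∑ g : G, fixCard Ω g) * Fintype.card Ω = Fintype.card G * Fintype.card Ω := by
    rw [h3, sum_mul, sum_congr rfl (fun β _ => h1 β), sum_const, card_univ, smul_eq_mul, mul_comm]
  exact Nat.eq_of_mul_eq_mul_right Fintype.card_pos h4

theorem sum_fixCard_sq_le : ∑ g : G, fixCard Ω (g ^ 2) ≤ ∑ g : G, (fixCard Ω g) ^ 2 := by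
  classical
  have ha : ∀ g : G, fixCard Ω (g ^ 2) ≤
      (univ.filter (fun p : Ω × Ω => g • p.1 = p.2 ∧ g • p.2 = p.1)).card := by
    intro g
    unfold fixCard
    apply card_le_card_of_injOn (fun β => (β, g • β))
    · intro β hβ
      rw [mem_coe, mem_filter] at hβ
      rw [mem_coe, mem_filter]
      refine ⟨mem_univ _, rfl, ?_⟩
      show g • g • β = β
      rw [← mul_smul, ← sq]
      exact hβ.2
    · intro a _ b _ hab
      exact (Prod.ext_iff.1 hab).1
  have hb : ∀ g : G, (univ.filter (fun p : Ω × Ω => g • p.1 = p.1 ∧ g • p.2 = p.2)).card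
      = (fixCard Ω g) ^ 2 := by
    intro g
    have h1 : univ.filter (fun p : Ω × Ω => g • p.1 = p.1 ∧ g • p.2 = p.2)
        = (univ.filter (fun ω : Ω => g • ω = ω)) ×ˢ (univ.filter (fun ω : Ω => g • ω = ω)) := by
      ext p
      simp [mem_product]
    rw [h1, card_product, sq]
    rfl
  have hc : ∀ p : Ω × Ω, (univ.filter (fun g : G => g • p.1 = p.2 ∧ g • p.2 = p.1)).card
      ≤ (univ.filter (fun g : G => g • p.1 = p.1 ∧ g • p.2 = p.2)).card := by
    intro p
    by_cases hne : (univ.filter (fun g : G => g • p.1 = p.2 ∧ g • p.2 = p.1)).Nonempty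
    · obtain ⟨g₀, hg₀⟩ := hne
      rw [mem_filter] at hg₀
      apply card_le_card_of_injOn (fun g => g₀⁻¹ * g)
      · intro g hg
        rw [mem_coe, mem_filter] at hg
        rw [mem_coe, mem_filter]
        refine ⟨mem_univ _, ?_, ?_⟩
        · rw [mul_smul, hg.2.1, inv_smul_eq_iff]
          exact hg₀.2.1.symm
        · rw [mul_smul, hg.2.2, inv_smul_eq_iff]
          exact hg₀.2.2.symm
      · intro a _ b _ hab
        exact mul_left_cancel hab
    · rw [not_nonempty_iff_eq_empty] at hne
      rw [hne]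
      simp
  calc ∑ g : G, fixCard Ω (g ^ 2)
      ≤ ∑ g : G, (univ.filter (fun p : Ω × Ω => g • p.1 = p.2 ∧ g • p.2 = p.1)).card :=
        sum_le_sum (fun g _ => ha g)
    _ = ∑ p : Ω × Ω, (univ.filter (fun g : G => g • p.1 = p.2 ∧ g • p.2 = p.1)).card := by
        simp only [card_filter]
        exact sum_comm
    _ ≤ ∑ p : Ω × Ω, (univ.filter (fun g : G => g • p.1 = p.1 ∧ g • p.2 = p.2)).card :=
        sum_le_sum (fun p _ => hc p)
    _ = ∑ g : G, (univ.filter (fun p : Ω × Ω => g • p.1 = p.1 ∧ g • p.2 = p.2)).card := by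
        simp only [card_filter]
        exact sum_comm
    _ = ∑ g : G, (fixCard Ω g) ^ 2 := sum_congr rfl (fun g _ => hb g)

/-- the comparison value: `n` on derangements, the number of fixed points otherwise -/
def cval (x : G) : ℤ :=
  if fixCard Ω x = 0 then (Fintype.card Ω : ℤ) else (fixCard Ω x : ℤ)

/-- `(π² - c) - n (π - 1)`: zero on derangements, `(π - 1)(π - n)` otherwise -/
def fval (x : G) : ℤ :=
  ((fixCard Ω x : ℤ) ^ 2 - cval Ω x) - (Fintype.card Ω : ℤ) * ((fixCard Ω x : ℤ) - 1)

theorem fval_nonpos (x : G) : fval Ω x ≤ 0 := by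
  unfold fval cval
  have hle : (fixCard Ω x : ℤ) ≤ (Fintype.card Ω : ℤ) := by exact_mod_cast fixCard_le Ω x
  by_cases hx : fixCard Ω x = 0
  · rw [if_pos hx, hx]
    simp
  · rw [if_neg hx]
    have h1 : (1 : ℤ) ≤ (fixCard Ω x : ℤ) := by exact_mod_cast Nat.one_le_iff_ne_zero.2 hx
    nlinarith [mul_nonneg (sub_nonneg.2 h1) (sub_nonneg.2 hle)]

theorem cval_le (hinv : ∀ g : G, fixCard Ω g = 0 → g ^ 2 = 1) (x : G) :
    cval Ω x ≤ (fixCard Ω (x ^ 2) : ℤ) := by
  unfold cval
  by_cases hx : fixCard Ω x = 0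
  · rw [if_pos hx, hinv x hx, fixCard_one]
  · rw [if_neg hx]
    exact_mod_cast fixCard_le_sq Ω x

theorem sum_fval_nonneg [MulAction.IsPretransitive G Ω] [Nonempty Ω]
    (hinv : ∀ g : G, fixCard Ω g = 0 → g ^ 2 = 1) : 0 ≤ ∑ x : G, fval Ω x := by
  unfold fval
  rw [sum_sub_distrib, sum_sub_distrib, ← mul_sum, sum_sub_distrib]
  have e1 : ∑ x : G, (fixCard Ω x : ℤ) = (Fintype.card G : ℤ) := by
    exact_mod_cast sum_fixCard (G := G) Ω
  have e2 : ∑ _x : G, (1 : ℤ) = (Fintype.card G : ℤ) := by simp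
  have e3 : ∑ x : G, cval Ω x ≤ ∑ x : G, (fixCard Ω x : ℤ) ^ 2 := by
    calc ∑ x : G, cval Ω x ≤ ∑ x : G, ((fixCard Ω (x ^ 2) : ℕ) : ℤ) :=
          sum_le_sum (fun x _ => cval_le Ω hinv x)
      _ ≤ ∑ x : G, (fixCard Ω x : ℤ) ^ 2 := by
          exact_mod_cast sum_fixCard_sq_le (G := G) Ω
  rw [e1, e2]
  linarith

theorem fixCard_dichotomy [MulAction.IsPretransitive G Ω] [Nonempty Ω]
    (hinv : ∀ g : G, fixCard Ω g = 0 → g ^ 2 = 1) (g : G) (hg : fixCard Ω g ≠ 0) :
    fixCard Ω g = 1 ∨ fixCard Ω g = Fintype.card Ω := by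
  have h1 : ∑ x : G, fval Ω x = 0 :=
    le_antisymm (sum_nonpos (fun x _ => fval_nonpos Ω x)) (sum_fval_nonneg Ω hinv)
  have h2 := (sum_eq_zero_iff_of_nonpos (fun x _ => fval_nonpos Ω x)).1 h1 g (mem_univ g)
  unfold fval cval at h2
  rw [if_neg hg] at h2
  have h3 : ((fixCard Ω g : ℤ) - 1) * ((fixCard Ω g : ℤ) - (Fintype.card Ω : ℤ)) = 0 := by
    linear_combination h2
  rcases mul_eq_zero.1 h3 with h | h
  · left
    have : (fixCard Ω g : ℤ) = 1 := by linarith
    exact_mod_cast this
  · right
    have : (fixCard Ω g : ℤ) = (Fintype.card Ω : ℤ) := by linarith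
    exact_mod_cast this

theorem eq_one_of_two_fixed [MulAction.IsPretransitive G Ω] [FaithfulSMul G Ω] [Nonempty Ω]
    (hinv : ∀ g : G, fixCard Ω g = 0 → g ^ 2 = 1) (g : G) (β γ : Ω) (hne : β ≠ γ)
    (hβ : g • β = β) (hγ : g • γ = γ) : g = 1 := by
  have h2 : 1 < fixCard Ω g := by
    unfold fixCard
    rw [one_lt_card]
    exact ⟨β, by simp [hβ], γ, by simp [hγ], hne⟩
  rcases fixCard_dichotomy Ω hinv g (by omega) with h | h
  · omega
  · unfold fixCard at h
    rw [← card_univ, card_filter_eq_iff] at h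
    apply eq_of_smul_eq_smul (α := Ω)
    intro a
    rw [h a (mem_univ a), one_smul]

end counting

theorem comm_of_sq {G : Type*} [Group G] {a b : G} (ha : a ^ 2 = 1) (hb : b ^ 2 = 1)
    (hab : (a * b) ^ 2 = 1) : a * b = b * a := by
  have ha' : a⁻¹ = a := inv_eq_of_mul_eq_one_right (by rw [← sq]; exact ha)
  have hb' : b⁻¹ = b := inv_eq_of_mul_eq_one_right (by rw [← sq]; exact hb)
  have hab' : (a * b)⁻¹ = a * b := inv_eq_of_mul_eq_one_right (by rw [← sq]; exact hab)
  calc a * b = (a * b)⁻¹ := hab'.symm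
    _ = b⁻¹ * a⁻¹ := mul_inv_rev a b
    _ = b * a := by rw [ha', hb']

/-- Let G act faithfully and transitively on a finite set and suppose every element of G fixing no point is an involution. Then either G is an elementary abelian 2-group, or G is a Frobenius group whose Frobenius kernel is an elementary abelian 2-group: G has a Frobenius complement H, and the elements lying in no conjugate of H, together with the identity, pairwise commute and square to the identity. -/
theorem result {G Ω : Type*} [Group G] [Finite G] [MulAction G Ω] [FaithfulSMul G Ω] [Finite Ω]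
    (htrans : MulAction.IsPretransitive G Ω) (hinv : ∀ g : G, (∀ ω : Ω, g • ω ≠ ω) → orderOf g = 2) :
    (IsMulCommutative G ∧ ∀ g : G, g ^ 2 = 1) ∨
    (∃ H : Subgroup G, Cfsg.IsFrobeniusComplement H ∧
      (∀ x ∈ Cfsg.frobeniusKernel H, x ^ 2 = 1) ∧
      ∀ x ∈ Cfsg.frobeniusKernel H, ∀ y ∈ Cfsg.frobeniusKernel H, x * y = y * x) := by
  classical
  haveI : Fintype G := Fintype.ofFinite G
  haveI : Fintype Ω := Fintype.ofFinite Ω
  have hsq : ∀ g : G, (∀ ω : Ω, g • ω ≠ ω) → g ^ 2 = 1 := by
    intro g hg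
    have h := hinv g hg
    rw [← h]
    exact pow_orderOf_eq_one g
  rcases isEmpty_or_nonempty Ω with hΩ | hΩ
  · left
    have h1 : ∀ g : G, g = 1 := fun g =>
      eq_of_smul_eq_smul (α := Ω) (fun a => (hΩ.false a).elim)
    exact ⟨⟨⟨fun a b => by rw [h1 a, h1 b]⟩⟩, fun g => by rw [h1 g, one_pow]⟩
  have hinv' : ∀ g : G, fixCard Ω g = 0 → g ^ 2 = 1 := by
    intro g hg
    apply hsq
    intro ω hω
    unfold fixCard at hg
    rw [card_eq_zero] at hg
    have h1 : ω ∈ univ.filter (fun ω : Ω => g • ω = ω) := by simp [hω]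
    rw [hg] at h1
    simp at h1
  have hstar : ∀ (g : G) (β γ : Ω), β ≠ γ → g • β = β → g • γ = γ → g = 1 :=
    fun g β γ hne hβ hγ => eq_one_of_two_fixed Ω hinv' g β γ hne hβ hγ
  obtain ⟨ω⟩ := hΩ
  have hreach : ∀ β : Ω, ∃ x : G, x • ω = β := fun β => MulAction.exists_smul_eq G ω β
  have hmem : ∀ (g x : G), x ∈ MulAut.conj g • MulAction.stabilizer G ω ↔
      x • (g • ω) = g • ω := by
    intro g x
    rw [Subgroup.mem_pointwise_smul_iff_inv_smul_mem, MulAut.smul_def, MulAut.conj_inv_apply,
      MulAction.mem_stabilizer_iff, mul_smul, mul_smul, inv_smul_eq_iff]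
  by_cases hH : MulAction.stabilizer G ω = ⊥
  · left
    have h2 : ∀ g : G, g ^ 2 = 1 := by
      intro g
      by_cases hg : ∀ β : Ω, g • β ≠ β
      · exact hsq g hg
      · push Not at hg
        obtain ⟨β, hβ⟩ := hg
        obtain ⟨x, rfl⟩ := hreach β
        have h3 : x⁻¹ * g * x ∈ MulAction.stabilizer G ω := by
          rw [MulAction.mem_stabilizer_iff, mul_smul, mul_smul, hβ, inv_smul_smul]
        rw [hH, Subgroup.mem_bot] at h3
        have h4 : g = 1 := by
          have h5 : g = x * (x⁻¹ * g * x) * x⁻¹ := by group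
          rw [h5, h3]
          group
        rw [h4, one_pow]
    exact ⟨⟨⟨fun a b => comm_of_sq (h2 a) (h2 b) (h2 (a * b))⟩⟩, h2⟩
  · right
    have hker : ∀ z : G, z ∈ Cfsg.frobeniusKernel (MulAction.stabilizer G ω) →
        z = 1 ∨ ∀ β : Ω, z • β ≠ β := by
      intro z hz
      rcases hz with hz | hz
      · exact Or.inl hz
      · right
        intro β hβ
        obtain ⟨y, rfl⟩ := hreach β
        exact hz y ((hmem y z).2 hβ)
    have hkersq : ∀ z ∈ Cfsg.frobeniusKernel (MulAction.stabilizer G ω), z ^ 2 = 1 := by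
      intro z hz
      rcases hker z hz with rfl | hz
      · exact one_pow 2
      · exact hsq z hz
    refine ⟨MulAction.stabilizer G ω, ⟨hH, ?_, ?_⟩, hkersq, ?_⟩
    · intro htop
      apply hH
      rw [Subgroup.eq_bot_iff_forall]
      intro g _
      apply eq_of_smul_eq_smul (α := Ω)
      intro β
      obtain ⟨x, rfl⟩ := hreach β
      have h1 : x⁻¹ * g * x ∈ MulAction.stabilizer G ω := by
        rw [htop]
        exact Subgroup.mem_top _
      rw [MulAction.mem_stabilizer_iff, mul_smul, mul_smul, inv_smul_eq_iff] at h1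
      rw [h1, one_smul]
    · intro g hg
      rw [Subgroup.eq_bot_iff_forall]
      intro x hx
      rw [Subgroup.mem_inf, hmem, MulAction.mem_stabilizer_iff] at hx
      apply hstar x ω (g • ω) ?_ hx.1 hx.2
      intro h
      exact hg (MulAction.mem_stabilizer_iff.2 h.symm)
    · intro x hx y hy
      have hx2 := hkersq x hx
      have hy2 := hkersq y hy
      rcases hker x hx with rfl | hxd
      · rw [one_mul, mul_one]
      rcases hker y hy with rfl | hyd
      · rw [one_mul, mul_one]
      apply comm_of_sq hx2 hy2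
      by_cases hxy : ∀ β : Ω, (x * y) • β ≠ β
      · exact hsq _ hxy
      · push Not at hxy
        obtain ⟨β, hβ⟩ := hxy
        rw [mul_smul] at hβ
        -- x • y • β = β, hence x • β = y • β
        have h1 : y • β = x • β := by
          have h2 : x • x • y • β = x • β := by rw [hβ]
          rw [← mul_smul, ← sq, hx2, one_smul] at h2
          exact h2
        have h3 : (x * y) • (y • β) = y • β := by
          rw [mul_smul, ← mul_smul y y, ← sq, hy2, one_smul]
          exact h1.symm
        have h4 : (x * y) • β = β := by rw [mul_smul]; exact hβ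
        have h5 : x * y = 1 := hstar (x * y) β (y • β) (fun h => hyd β h.symm) h4 h3
        rw [h5, one_pow]

end Cfsg.Agent.S3555
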