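import Cfsg.Statements.S3556
import Cfsg.Agent.Lib.Lead.PrimDerC

set_option autoImplicit false
open Cfsg

namespace Cfsg.Agent.S3556

/-- Let G act faithfully and primitively on a finite set with at least two points, and suppose that for some fixed prime p every element of G fixing no point has order a power of p. Then G is of affine type (it has a regular normal subgroup that is an elementary abelian r-group for some prime r) or almost simple (it has a non-abelian simple normal subgroup with trivial centralizer). -/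
theorem result {G Ω : Type*} [Group G] [Finite G] [MulAction G Ω] [FaithfulSMul G Ω] [Finite Ω]
    (hprim : MulAction.IsPreprimitive G Ω) (hΩ : 2 ≤ Nat.card Ω) (p : ℕ) (hp : p.Prime)
    (hder : ∀ g : G, (∀ ω : Ω, g • ω ≠ ω) → ∃ k : ℕ, orderOf g = p ^ k) :
    (∃ (N : Subgroup G) (r : ℕ), r.Prime ∧ N.Normal ∧ Cfsg.IsElementaryAbelian r N ∧
      MulAction.IsPretransitive N Ω ∧ ∀ a : Ω, MulAction.stabilizer N a = ⊥) ∨
    (∃ T : Subgroup G, T.Normal ∧ IsSimpleGroup ↥T ∧ ¬ IsMulCommutative ↥T ∧
      Subgroup.centralizer (T : Set G) = ⊥) := by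
  haveI : Nontrivial G := Cfsg.Agent.Lib.Lead.PrimDerC.nontrivial_group hprim hΩ
  obtain ⟨N, hNn, hN, hmin⟩ := Cfsg.Agent.S0721.exists_minNormal (G := G)
  haveI := hNn
  by_cases hab : IsMulCommutative N
  · left
    obtain ⟨⟨r, hr, hel⟩, htr, hreg⟩ :=
      Cfsg.Agent.Lib.Lead.PrimDerC.abelian_minimal_normal hprim N hN hmin hab
    exact ⟨N, r, hr, hNn, hel, htr, hreg⟩
  · right
    by_contra hnas
    obtain ⟨-, h2⟩ := Cfsg.Agent.Lib.Lead.PrimDerC.core hprim hΩ N hN hmin hab hnas
    obtain ⟨g, hg, hk⟩ := h2 p hp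
    exact hk (hder g hg)

end Cfsg.Agent.S3556
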