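import Cfsg.Statements.S3559
import Mathlib
import Cfsg.Agent.Lib.Helper20.SchurRing

set_option autoImplicit false
open Cfsg

namespace Cfsg.Agent.S3559

open Cfsg.Agent.Lib.Helper20.SchurRing

theorem schur_comm {G Ω K : Type*} [Group G] [MulAction G Ω] [CommGroup K] [Finite K]
    [IsCyclic K] (ι : K →* G) (ω₀ : Ω) (hreg : IsReg ι ω₀)
    (hprim : MulAction.IsPreprimitive G Ω) (h2 : 2 ≤ Nat.card K)
    (hnp : ¬ IsPrimePow (Nat.card K)) : MulAction.IsMultiplyPretransitive G Ω 2 := by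
  obtain ⟨p, hp, hpdvd⟩ := Nat.exists_prime_and_dvd (show Nat.card K ≠ 1 by omega)
  haveI : Fact p.Prime := ⟨hp⟩
  have hcard := card_powKer_of_cyclic (K := K) p hpdvd
  have htop : (powMonoidHom p : K →* K).ker ≠ ⊤ := by
    intro h
    apply hnp
    have h3 : Nat.card K = p := by
      rw [← hcard, h, Subgroup.card_top]
    rw [h3]
    exact hp.isPrimePow
  exact two_trans hreg (main hreg (fun L hL => prim_of_preprimitive hreg hprim L hL) p _
    (mem_powKer p) hcard htop)

theorem result {G Ω : Type*} [Group G] [Finite G] [MulAction G Ω] [FaithfulSMul G Ω] [Finite Ω]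
    (htrans : MulAction.IsPretransitive G Ω) (hn : 2 ≤ Nat.card Ω) (hnp : ¬ IsPrimePow (Nat.card Ω))
    (C : Subgroup G) (hcyc : IsCyclic ↥C) (hC : MulAction.IsPretransitive ↥C Ω ∧ ∀ a : Ω, MulAction.stabilizer ↥C a = ⊥) :
    ¬ MulAction.IsPreprimitive G Ω ∨ MulAction.IsMultiplyPretransitive G Ω 2 := by
  by_cases hprim : MulAction.IsPreprimitive G Ω
  swap
  · exact Or.inl hprim
  right
  have hne : Nonempty Ω := (Nat.card_pos_iff.mp (by omega)).1
  obtain ⟨ω₀⟩ := hne
  have hreg : IsReg C.subtype ω₀ := by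
    intro ω
    obtain ⟨c, hc⟩ := hC.1.exists_smul_eq ω₀ ω
    refine ⟨c, hc, ?_⟩
    intro c' hc'
    have h1 : c⁻¹ * c' ∈ MulAction.stabilizer ↥C ω₀ := by
      rw [MulAction.mem_stabilizer_iff, mul_smul]
      have h2 : c' • ω₀ = ω := hc'
      rw [h2, ← hc, inv_smul_smul]
    rw [hC.2 ω₀, Subgroup.mem_bot] at h1
    exact (inv_mul_eq_one.mp h1).symm
  have hcardC : Nat.card ↥C = Nat.card Ω := by
    apply Nat.card_congr
    refine Equiv.ofBijective (fun k : ↥C => C.subtype k • ω₀) ⟨?_, ?_⟩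
    · intro a b hab
      exact hreg.inj hab
    · intro ω
      exact hreg.exists ω
  have hcomm : ∀ a b : ↥C, a * b = b * a := fun a b =>
    (IsCyclic.isMulCommutative (α := ↥C)).is_comm.comm a b
  exact @schur_comm G Ω ↥C _ _ { (inferInstance : Group ↥C) with mul_comm := hcomm } _ hcyc
    C.subtype ω₀ hreg hprim (by rw [hcardC]; exact hn) (by rw [hcardC]; exact hnp)

end Cfsg.Agent.S3559
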