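import Cfsg.Statements.S3560
import Mathlib

set_option autoImplicit false
set_option linter.unusedSectionVars false
open Cfsg

namespace Cfsg.Agent.S3560

open MulAction
open scoped Pointwise

section hamming

open Classical

variable {ι : Type*} [Fintype ι] {F : ι → Type*} [∀ i, Group (F i)]

/-- Hamming distance -/
noncomputable def hd (x y : ∀ i, F i) : ℕ := (Finset.univ.filter (fun i => x i ≠ y i)).card

/-- the isometry group of the Hamming space -/
noncomputable def isoGroup (F : ι → Type*) [∀ i, Group (F i)] :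
    Subgroup (Equiv.Perm (∀ i, F i)) where
  carrier := {σ | ∀ x y, hd (σ x) (σ y) = hd x y}
  one_mem' := fun x y => rfl
  mul_mem' := by
    intro a b ha hb x y
    show hd (a (b x)) (a (b y)) = hd x y
    rw [ha, hb]
  inv_mem' := by
    intro a ha x y
    have h := ha (a.symm x) (a.symm y)
    rw [Equiv.apply_symm_apply, Equiv.apply_symm_apply] at h
    exact h.symm

theorem mem_isoGroup {σ : Equiv.Perm (∀ i, F i)} :
    σ ∈ isoGroup F ↔ ∀ x y, hd (σ x) (σ y) = hd x y := Iff.rfl

/-- a criterion: coordinates differ at `k` after `σ` iff they differ at `π k` before -/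
theorem mem_isoGroup_of_perm (σ : Equiv.Perm (∀ i, F i)) (π : Equiv.Perm ι)
    (h : ∀ x y k, (σ x) k ≠ (σ y) k ↔ x (π k) ≠ y (π k)) : σ ∈ isoGroup F := by
  intro x y
  unfold hd
  apply Finset.card_equiv π
  intro k
  simp only [Finset.mem_filter, Finset.mem_univ, true_and]
  exact h x y k

/-- left multiplication -/
noncomputable def lreg : (∀ i, F i) →* Equiv.Perm (∀ i, F i) := MulAction.toPermHom _ _

theorem lreg_apply (g x : ∀ i, F i) : lreg g x = g * x := rfl

theorem lreg_mem (g : ∀ i, F i) : lreg g ∈ isoGroup F := by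
  apply mem_isoGroup_of_perm _ 1
  intro x y k
  simp only [lreg_apply, Pi.mul_apply, Equiv.Perm.coe_one, id_eq, ne_eq, mul_right_inj]

theorem lreg_injective : Function.Injective (lreg (F := F)) := by
  intro g h hgh
  have h1 := DFunLike.congr_fun hgh 1
  simpa [lreg_apply] using h1

/-- a permutation of one coordinate -/
noncomputable def cperm (i : ι) (π : Equiv.Perm (F i)) : Equiv.Perm (∀ i, F i) where
  toFun x := Function.update x i (π (x i))
  invFun x := Function.update x i (π.symm (x i))
  left_inv x := by simp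
  right_inv x := by simp

theorem cperm_same (i : ι) (π : Equiv.Perm (F i)) (x : ∀ i, F i) : cperm i π x i = π (x i) := by
  simp [cperm]

theorem cperm_ne (i : ι) (π : Equiv.Perm (F i)) (x : ∀ i, F i) {k : ι} (hk : k ≠ i) :
    cperm i π x k = x k := by
  simp [cperm, hk]

theorem cperm_mem (i : ι) (π : Equiv.Perm (F i)) : cperm i π ∈ isoGroup F := by
  apply mem_isoGroup_of_perm _ 1
  intro x y k
  by_cases hk : k = i
  · subst hk
    simp only [cperm_same, Equiv.Perm.coe_one, id_eq, ne_eq, EmbeddingLike.apply_eq_iff_eq]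
  · simp only [cperm_ne _ _ _ hk, Equiv.Perm.coe_one, id_eq]

/-- exchanging two coordinates along a bijection -/
noncomputable def ctransFun (i j : ι) (τ : F i ≃ F j) (x : ∀ i, F i) : ∀ i, F i :=
  Function.update (Function.update x j (τ (x i))) i (τ.symm (x j))

theorem ctransFun_i (i j : ι) (τ : F i ≃ F j) (x : ∀ i, F i) :
    ctransFun i j τ x i = τ.symm (x j) := by
  simp [ctransFun]

theorem ctransFun_j {i j : ι} (hij : i ≠ j) (τ : F i ≃ F j) (x : ∀ i, F i) :
    ctransFun i j τ x j = τ (x i) := by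
  simp [ctransFun, hij.symm]

theorem ctransFun_k {i j k : ι} (hki : k ≠ i) (hkj : k ≠ j) (τ : F i ≃ F j) (x : ∀ i, F i) :
    ctransFun i j τ x k = x k := by
  simp [ctransFun, hki, hkj]

theorem ctransFun_invol {i j : ι} (hij : i ≠ j) (τ : F i ≃ F j) :
    Function.Involutive (ctransFun i j τ) := by
  intro x
  funext k
  by_cases hki : k = i
  · subst hki
    rw [ctransFun_i, ctransFun_j hij, Equiv.symm_apply_apply]
  · by_cases hkj : k = j
    · subst hkj
      rw [ctransFun_j hij, ctransFun_i, Equiv.apply_symm_apply]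
    · rw [ctransFun_k hki hkj, ctransFun_k hki hkj]

/-- exchanging two coordinates, as a permutation -/
noncomputable def ctrans {i j : ι} (hij : i ≠ j) (τ : F i ≃ F j) : Equiv.Perm (∀ i, F i) :=
  (ctransFun_invol hij τ).toPerm _

theorem ctrans_apply {i j : ι} (hij : i ≠ j) (τ : F i ≃ F j) (x : ∀ i, F i) :
    ctrans hij τ x = ctransFun i j τ x := rfl

theorem ctrans_mem {i j : ι} (hij : i ≠ j) (τ : F i ≃ F j) : ctrans hij τ ∈ isoGroup F := by
  apply mem_isoGroup_of_perm _ (Equiv.swap i j)
  intro x y k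
  by_cases hki : k = i
  · subst hki
    rw [ctrans_apply, ctrans_apply, ctransFun_i, ctransFun_i, Equiv.swap_apply_left]
    simp only [ne_eq, EmbeddingLike.apply_eq_iff_eq]
  · by_cases hkj : k = j
    · subst hkj
      rw [ctrans_apply, ctrans_apply, ctransFun_j hij, ctransFun_j hij, Equiv.swap_apply_right]
      simp only [ne_eq, EmbeddingLike.apply_eq_iff_eq]
    · rw [ctrans_apply, ctrans_apply, ctransFun_k hki hkj, ctransFun_k hki hkj,
        Equiv.swap_apply_of_ne_of_ne hki hkj]

end hamming

section prim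

open Classical

variable {ι : Type*} [Fintype ι] {F : ι → Type*} [∀ i, Group (F i)]

theorem isoGroup_trans : IsPretransitive (isoGroup F) (∀ i, F i) := by
  constructor
  intro x y
  refine ⟨⟨lreg (y * x⁻¹), lreg_mem _⟩, ?_⟩
  show lreg (y * x⁻¹) x = y
  rw [lreg_apply, inv_mul_cancel_right]

/-- a third element -/
theorem exists_third [∀ i, Finite (F i)] (hm : ∀ i, 3 ≤ Nat.card (F i)) (i : ι) (a b : F i) :
    ∃ u : F i, u ≠ a ∧ u ≠ b := by
  haveI := Fintype.ofFinite (F i)
  have h1 : ({a, b} : Finset (F i)).card < (Finset.univ : Finset (F i)).card := by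
    rw [Finset.card_univ, ← Nat.card_eq_fintype_card]
    calc ({a, b} : Finset (F i)).card ≤ 2 := Finset.card_le_two
      _ < Nat.card (F i) := hm i
  obtain ⟨u, -, hu⟩ := Finset.exists_mem_notMem_of_card_lt_card h1
  simp only [Finset.mem_insert, Finset.mem_singleton, not_or] at hu
  exact ⟨u, hu.1, hu.2⟩

/-- a bijection with two prescribed values -/
theorem exists_equiv [∀ i, Finite (F i)] (hcard : ∀ i j, Nat.card (F i) = Nat.card (F j))
    (i j : ι) (a : F i) (b : F j) (ha : a ≠ 1) (hb : b ≠ 1) :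
    ∃ τ : F i ≃ F j, τ 1 = 1 ∧ τ a = b := by
  obtain ⟨τ₀⟩ := (Finite.card_eq).mp (hcard i j)
  set π₁ := Equiv.swap (τ₀ 1) 1 with hπ₁
  set a' := π₁ (τ₀ a) with ha'
  have ha'1 : a' ≠ 1 := by
    intro h
    have h2 : π₁ (τ₀ a) = π₁ (τ₀ 1) := by rw [← ha', h, hπ₁, Equiv.swap_apply_left]
    exact ha (τ₀.injective (π₁.injective h2))
  refine ⟨(τ₀.trans π₁).trans (Equiv.swap a' b), ?_, ?_⟩
  · simp only [Equiv.trans_apply]
    rw [hπ₁, Equiv.swap_apply_left, Equiv.swap_apply_of_ne_of_ne ha'1.symm hb.symm]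
  · simp only [Equiv.trans_apply]
    rw [← ha', Equiv.swap_apply_left]

theorem isoGroup_prim [∀ i, Finite (F i)] (hm : ∀ i, 3 ≤ Nat.card (F i))
    (hcard : ∀ i j, Nat.card (F i) = Nat.card (F j)) :
    IsPreprimitive (isoGroup F) (∀ i, F i) := by
  haveI := isoGroup_trans (F := F)
  apply IsPreprimitive.of_isTrivialBlock_base (1 : ∀ i, F i)
  intro B h1 hB
  by_cases hsub : ∀ c ∈ B, c = 1
  · left
    intro x hx y hy
    rw [hsub x hx, hsub y hy]
  · right
    push Not at hsub
    obtain ⟨c, hcB, hc1⟩ := hsub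
    have hmul : ∀ z ∈ B, ∀ w ∈ B, z * w ∈ B := by
      intro z hz w hw
      have hg : (⟨lreg z, lreg_mem z⟩ : isoGroup F) • (1 : ∀ i, F i) ∈ B := by
        show lreg z 1 ∈ B
        rw [lreg_apply, mul_one]; exact hz
      have h2 := hB.smul_eq_of_mem h1 hg
      rw [← h2]
      exact ⟨w, hw, rfl⟩
    have hinv : ∀ z ∈ B, ∀ w ∈ B, z⁻¹ * w ∈ B := by
      intro z hz w hw
      have hg : (⟨lreg z⁻¹, lreg_mem _⟩ : isoGroup F) • z ∈ B := by
        show lreg z⁻¹ z ∈ B
        rw [lreg_apply, inv_mul_cancel]; exact h1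
      have h2 := hB.smul_eq_of_mem hz hg
      rw [← h2]
      exact ⟨w, hw, rfl⟩
    have hfix : ∀ σ : Equiv.Perm (∀ i, F i), σ ∈ isoGroup F → σ 1 = 1 → ∀ w ∈ B, σ w ∈ B := by
      intro σ hσ hσ1 w hw
      have hg : (⟨σ, hσ⟩ : isoGroup F) • (1 : ∀ i, F i) ∈ B := by
        show σ 1 ∈ B
        rw [hσ1]; exact h1
      have h2 := hB.smul_eq_of_mem h1 hg
      rw [← h2]
      exact ⟨w, hw, rfl⟩
    -- Step 1: an element of weight one
    obtain ⟨i, a, ha1, haB⟩ : ∃ i, ∃ a : F i, a ≠ 1 ∧ Pi.mulSingle i a ∈ B := by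
      obtain ⟨i, hi⟩ : ∃ i, c i ≠ 1 := by
        by_contra hcon
        push Not at hcon
        exact hc1 (funext hcon)
      obtain ⟨u, hu1, huc⟩ := exists_third hm i 1 (c i)
      have hσ1 : cperm i (Equiv.swap (c i) u) 1 = 1 := by
        funext k
        by_cases hk : k = i
        · subst hk
          rw [cperm_same, Pi.one_apply, Equiv.swap_apply_of_ne_of_ne (Ne.symm hi) hu1.symm]
        · rw [cperm_ne _ _ _ hk]
      have hc' := hfix _ (cperm_mem i (Equiv.swap (c i) u)) hσ1 c hcB
      have hw := hinv c hcB _ hc'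
      refine ⟨i, (c i)⁻¹ * u, ?_, ?_⟩
      · intro h
        apply huc
        exact (inv_mul_eq_one.mp h).symm
      · convert hw using 1
        funext k
        by_cases hk : k = i
        · subst hk
          rw [Pi.mulSingle_eq_same, Pi.mul_apply, Pi.inv_apply, cperm_same, Equiv.swap_apply_left]
        · rw [Pi.mulSingle_eq_of_ne hk, Pi.mul_apply, Pi.inv_apply, cperm_ne _ _ _ hk,
            inv_mul_cancel]
    -- Step 2: all elements of weight one
    have hsingle : ∀ (j : ι) (b : F j), Pi.mulSingle j b ∈ B := by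
      intro j b
      by_cases hb1 : b = 1
      · rw [hb1, Pi.mulSingle_one]; exact h1
      by_cases hji : j = i
      · subst hji
        have hσ1 : cperm j (Equiv.swap a b) 1 = 1 := by
          funext k
          by_cases hk : k = j
          · subst hk
            rw [cperm_same, Pi.one_apply, Equiv.swap_apply_of_ne_of_ne (Ne.symm ha1) (Ne.symm hb1)]
          · rw [cperm_ne _ _ _ hk]
        have h3 := hfix _ (cperm_mem j (Equiv.swap a b)) hσ1 _ haB
        convert h3 using 1
        funext k
        by_cases hk : k = j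
        · subst hk
          rw [Pi.mulSingle_eq_same, cperm_same, Pi.mulSingle_eq_same, Equiv.swap_apply_left]
        · rw [Pi.mulSingle_eq_of_ne hk, cperm_ne _ _ _ hk, Pi.mulSingle_eq_of_ne hk]
      · have hij : i ≠ j := fun h => hji h.symm
        obtain ⟨τ, hτ1, hτa⟩ := exists_equiv hcard i j a b ha1 hb1
        have hτs1 : τ.symm 1 = 1 := by rw [← hτ1, Equiv.symm_apply_apply]
        have hσ1 : ctrans hij τ 1 = 1 := by
          funext k
          rw [ctrans_apply]
          by_cases hki : k = i
          · subst hki; rw [ctransFun_i, Pi.one_apply, Pi.one_apply, hτs1]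
          · by_cases hkj : k = j
            · subst hkj; rw [ctransFun_j hij, Pi.one_apply, Pi.one_apply, hτ1]
            · rw [ctransFun_k hki hkj]
        have h3 := hfix _ (ctrans_mem hij τ) hσ1 _ haB
        convert h3 using 1
        funext k
        rw [ctrans_apply]
        by_cases hki : k = i
        · subst hki
          rw [ctransFun_i, Pi.mulSingle_eq_of_ne hij, Pi.mulSingle_eq_of_ne hij.symm, hτs1]
        · by_cases hkj : k = j
          · subst hkj
            rw [ctransFun_j hij, Pi.mulSingle_eq_same, Pi.mulSingle_eq_same, hτa]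
          · rw [ctransFun_k hki hkj, Pi.mulSingle_eq_of_ne hkj, Pi.mulSingle_eq_of_ne hki]
    -- Step 3: everything
    apply Set.eq_univ_of_forall
    intro x
    have key : ∀ s : Finset ι, (fun k => if k ∈ s then x k else (1 : F k)) ∈ B := by
      intro s
      induction s using Finset.induction_on with
      | empty =>
        have h0 : (fun k => if k ∈ (∅ : Finset ι) then x k else (1 : F k)) = 1 := by
          funext k; simp
        rw [h0]; exact h1
      | insert i₀ s hi₀ ih =>
        have h0 : (fun k => if k ∈ insert i₀ s then x k else (1 : F k)) =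
            Pi.mulSingle i₀ (x i₀) * (fun k => if k ∈ s then x k else (1 : F k)) := by
          funext k
          by_cases hk : k = i₀
          · subst hk
            simp [hi₀]
          · simp [hk, Pi.mulSingle_eq_of_ne hk]
        rw [h0]
        exact hmul _ (hsingle i₀ (x i₀)) _ ih
    have h0 := key Finset.univ
    simpa using h0

end prim

section final

open Classical

variable {ι : Type*} [Fintype ι] {F : ι → Type*} [∀ i, Group (F i)]

theorem hd_one_single (i : ι) (a : F i) (ha : a ≠ 1) :
    hd (1 : ∀ i, F i) (Pi.mulSingle i a) = 1 := by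
  unfold hd
  have h : Finset.univ.filter (fun k => (1 : ∀ i, F i) k ≠ (Pi.mulSingle i a : ∀ i, F i) k) =
      {i} := by
    ext k
    simp only [Finset.mem_filter, Finset.mem_univ, true_and, Finset.mem_singleton]
    by_cases hk : k = i
    · subst hk
      simp only [Pi.one_apply, Pi.mulSingle_eq_same, ne_eq, iff_true]
      exact fun h => ha h.symm
    · simp [hk, Pi.mulSingle_eq_of_ne hk]
  rw [h, Finset.card_singleton]

theorem hd_one_double {i j : ι} (hij : i ≠ j) (a : F i) (ha : a ≠ 1) (b : F j) (hb : b ≠ 1) :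
    hd (1 : ∀ i, F i) (Pi.mulSingle i a * Pi.mulSingle j b) = 2 := by
  unfold hd
  have h : Finset.univ.filter (fun k => (1 : ∀ i, F i) k ≠
      (Pi.mulSingle i a * Pi.mulSingle j b : ∀ i, F i) k) = {i, j} := by
    ext k
    simp only [Finset.mem_filter, Finset.mem_univ, true_and, Finset.mem_insert,
      Finset.mem_singleton]
    by_cases hki : k = i
    · subst hki
      simp only [Pi.one_apply, Pi.mul_apply, Pi.mulSingle_eq_same, Pi.mulSingle_eq_of_ne hij,
        mul_one, ne_eq, true_or, iff_true]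
      exact fun h => ha h.symm
    · by_cases hkj : k = j
      · subst hkj
        simp only [Pi.one_apply, Pi.mul_apply, Pi.mulSingle_eq_same, Pi.mulSingle_eq_of_ne hki,
          one_mul, ne_eq, or_true, iff_true]
        exact fun h => hb h.symm
      · simp [hki, hkj, Pi.mulSingle_eq_of_ne hki, Pi.mulSingle_eq_of_ne hkj]
  rw [h, Finset.card_pair hij]

end final

/-- Let K be a finite group isomorphic to a direct product of r ≥ 2 groups all of the same order m ≥ 3. Then K is not a B-group: there is a primitive but not doubly transitive permutation group (on some finite set) containing a regular subgroup isomorphic to K. -/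
theorem result {K : Type*} [Group K] [Finite K] {ι : Type*} [Fintype ι] (F : ι → Type*) [∀ i, Group (F i)]
    (hr : 2 ≤ Fintype.card ι) (m : ℕ) (hm : 3 ≤ m) (hcard : ∀ i, Nat.card (F i) = m) (e : K ≃* (∀ i, F i)) :
    ∃ (n : ℕ) (G R : Subgroup (Equiv.Perm (Fin n))), R ≤ G ∧ Nonempty (↥R ≃* K) ∧
      MulAction.IsPretransitive ↥R (Fin n) ∧ (∀ a : Fin n, MulAction.stabilizer ↥R a = ⊥) ∧
      MulAction.IsPreprimitive ↥G (Fin n) ∧ ¬ MulAction.IsMultiplyPretransitive ↥G (Fin n) 2 := by
  classical
  haveI : ∀ i, Finite (F i) := fun i => Nat.finite_of_card_ne_zero (by rw [hcard i]; omega)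
  have hm' : ∀ i, 3 ≤ Nat.card (F i) := fun i => by rw [hcard i]; exact hm
  have hcard' : ∀ i j, Nat.card (F i) = Nat.card (F j) := fun i j => by rw [hcard i, hcard j]
  haveI : Finite (∀ i, F i) := inferInstance
  set n := Nat.card (∀ i, F i) with hn
  let ε : (∀ i, F i) ≃ Fin n := Finite.equivFin _
  let φ : Equiv.Perm (∀ i, F i) ≃* Equiv.Perm (Fin n) := ε.permCongrHom
  have hφ : ∀ (σ : Equiv.Perm (∀ i, F i)) (a : Fin n), φ σ a = ε (σ (ε.symm a)) := fun σ a => rfl
  have hφinj : Function.Injective φ.toMonoidHom := φ.injective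
  have hRG : (lreg (F := F)).range ≤ isoGroup F := by
    rintro _ ⟨g, rfl⟩
    exact lreg_mem g
  refine ⟨n, (isoGroup F).map φ.toMonoidHom, ((lreg (F := F)).range).map φ.toMonoidHom,
    Subgroup.map_mono hRG, ?_, ?_, ?_, ?_, ?_⟩
  · -- the isomorphism
    have e1 : K ≃* (lreg (F := F)).range := e.trans (MonoidHom.ofInjective lreg_injective)
    have e2 : (lreg (F := F)).range ≃* ((lreg (F := F)).range).map φ.toMonoidHom :=
      Subgroup.equivMapOfInjective _ _ hφinj
    exact ⟨(e1.trans e2).symm⟩
  · -- transitivity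
    constructor
    intro a b
    refine ⟨⟨φ (lreg (ε.symm b * (ε.symm a)⁻¹)),
      Subgroup.mem_map_of_mem _ ⟨ε.symm b * (ε.symm a)⁻¹, rfl⟩⟩, ?_⟩
    show φ (lreg (ε.symm b * (ε.symm a)⁻¹)) a = b
    rw [hφ, lreg_apply, inv_mul_cancel_right, Equiv.apply_symm_apply]
  · -- trivial stabilizers
    intro a
    rw [Subgroup.eq_bot_iff_forall]
    rintro ⟨r, hr'⟩ hra
    obtain ⟨σ, ⟨g, rfl⟩, rfl⟩ := Subgroup.mem_map.mp hr'
    have h1 : φ (lreg g) a = a := hra
    rw [hφ, lreg_apply] at h1
    have h2 : g * ε.symm a = ε.symm a := by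
      apply ε.injective
      rw [h1, Equiv.apply_symm_apply]
    have h3 : g = 1 := mul_eq_right.mp h2
    apply Subtype.ext
    show φ.toMonoidHom (lreg g) = 1
    rw [h3, map_one, map_one]
  · -- primitivity
    haveI := isoGroup_prim hm' hcard'
    let ψ : isoGroup F → (isoGroup F).map φ.toMonoidHom :=
      fun g => ⟨φ g, Subgroup.mem_map_of_mem _ g.2⟩
    let f : (∀ i, F i) →ₑ[ψ] Fin n :=
      { toFun := ε
        map_smul' := by
          intro g x
          show ε ((g : Equiv.Perm (∀ i, F i)) x) = φ (g : Equiv.Perm (∀ i, F i)) (ε x)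
          rw [hφ, Equiv.symm_apply_apply] }
    exact IsPreprimitive.of_surjective (f := f) ε.surjective
  · -- not doubly transitive
    rw [MulAction.is_two_pretransitive_iff]
    intro h
    obtain ⟨i, j, hij⟩ := Fintype.one_lt_card_iff.mp (by omega : 1 < Fintype.card ι)
    obtain ⟨a, ha, -⟩ := exists_third hm' i 1 1
    obtain ⟨b, hb, -⟩ := exists_third hm' j 1 1
    have hd1 := hd_one_single i a ha
    have hd2 := hd_one_double hij a ha b hb
    have hne1 : ε (1 : ∀ i, F i) ≠ ε (Pi.mulSingle i a) := by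
      intro h0
      have h1 := ε.injective h0
      rw [← h1] at hd1
      simp [hd] at hd1
    have hne2 : ε (1 : ∀ i, F i) ≠ ε (Pi.mulSingle i a * Pi.mulSingle j b) := by
      intro h0
      have h1 := ε.injective h0
      rw [← h1] at hd2
      simp [hd] at hd2
    obtain ⟨⟨g, hg⟩, hg1, hg2⟩ := h hne1 hne2
    obtain ⟨σ, hσ, rfl⟩ := Subgroup.mem_map.mp hg
    have h1 : φ σ (ε 1) = ε 1 := hg1
    have h2 : φ σ (ε (Pi.mulSingle i a)) = ε (Pi.mulSingle i a * Pi.mulSingle j b) := hg2
    rw [hφ, Equiv.symm_apply_apply] at h1 h2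
    have h3 := hσ 1 (Pi.mulSingle i a)
    rw [ε.injective h1, ε.injective h2, hd1, hd2] at h3
    omega

end Cfsg.Agent.S3560
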