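import Mathlib
import Cfsg.Statements.S3573

set_option autoImplicit false
open Cfsg

namespace Cfsg.Agent.S3573

open Equiv Equiv.Perm

theorem image_eq_of_closed {α : Type*} [DecidableEq α] (σ : Perm α) (s : Finset α)
    (h : ∀ x ∈ s, σ x ∈ s) : s.image σ = s := by
  apply Finset.eq_of_subset_of_card_le
  · intro y hy
    obtain ⟨x, hx, rfl⟩ := Finset.mem_image.1 hy
    exact h x hx
  · rw [Finset.card_image_of_injective _ σ.injective]

theorem exists_invariant {n : ℕ} (r : ℕ) (hr : r.Prime) (σ : Perm (Fin n)) (hσ : orderOf σ = r)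
    (k : ℕ) (hkn : k ≤ n) (hmod : k % r ≤ n % r) :
    ∃ s : Finset (Fin n), s.card = k ∧ s.image σ = s := by
  have hprime : (orderOf σ).Prime := by rw [hσ]; exact hr
  obtain ⟨m, hm⟩ := cycleType_prime_order hprime
  rw [hσ] at hm
  have hPcard : σ.cycleFactorsFinset.card = m + 1 := by
    have h1 := congrArg Multiset.card hm
    rw [cycleType_def, Multiset.card_map, Multiset.card_replicate] at h1
    exact h1
  have hsupp_card : ∀ τ ∈ σ.cycleFactorsFinset, τ.support.card = r := by
    intro τ hτ
    have h1 : (Finset.card ∘ support) τ ∈ σ.cycleType := by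
      rw [cycleType_def]
      exact Multiset.mem_map_of_mem _ hτ
    rw [hm] at h1
    exact Multiset.eq_of_mem_replicate h1
  have hsupp : σ.support.card = σ.cycleFactorsFinset.card * r := by
    rw [← sum_cycleType, hm, Multiset.sum_replicate, smul_eq_mul, hPcard]
  have hle : σ.support.card ≤ n := by
    have h1 := Finset.card_le_univ σ.support
    rwa [Fintype.card_fin] at h1
  have hF : σ.supportᶜ.card + σ.cycleFactorsFinset.card * r = n := by
    rw [Finset.card_compl, Fintype.card_fin, ← hsupp]
    omega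
  -- general construction
  have hcons : ∀ a b : ℕ, a ≤ σ.cycleFactorsFinset.card → b ≤ σ.supportᶜ.card →
      ∃ s : Finset (Fin n), s.card = a * r + b ∧ s.image σ = s := by
    intro a b ha hb
    obtain ⟨P', hP'sub, hP'card⟩ := Finset.exists_subset_card_eq ha
    obtain ⟨B, hBsub, hBcard⟩ := Finset.exists_subset_card_eq hb
    have hdisj : (P' : Set (Perm (Fin n))).PairwiseDisjoint (fun τ => τ.support) := by
      intro τ hτ τ' hτ' hne
      exact (σ.cycleFactorsFinset_pairwise_disjoint
        (Finset.mem_coe.2 (hP'sub (Finset.mem_coe.1 hτ)))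
        (Finset.mem_coe.2 (hP'sub (Finset.mem_coe.1 hτ'))) hne).disjoint_support
    have hUcard : (P'.biUnion (fun τ => τ.support)).card = a * r := by
      rw [Finset.card_biUnion hdisj,
        Finset.sum_const_nat (fun τ hτ => hsupp_card τ (hP'sub hτ)), hP'card]
    have hUcl : ∀ x ∈ P'.biUnion (fun τ => τ.support),
        σ x ∈ P'.biUnion (fun τ => τ.support) := by
      intro x hx
      obtain ⟨τ, hτ, hxτ⟩ := Finset.mem_biUnion.1 hx
      have h1 : τ x = σ x := (mem_cycleFactorsFinset_iff.1 (hP'sub hτ)).2 x hxτ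
      rw [← h1]
      exact Finset.mem_biUnion.2 ⟨τ, hτ, apply_mem_support.2 hxτ⟩
    have hUsub : ∀ x ∈ P'.biUnion (fun τ => τ.support), x ∈ σ.support := by
      intro x hx
      obtain ⟨τ, hτ, hxτ⟩ := Finset.mem_biUnion.1 hx
      exact mem_cycleFactorsFinset_support_le (hP'sub hτ) hxτ
    have hBcl : ∀ x ∈ B, σ x ∈ B := by
      intro x hx
      have h1 : σ x = x := notMem_support.1 (Finset.mem_compl.1 (hBsub hx))
      rw [h1]; exact hx
    have hUB : Disjoint (P'.biUnion (fun τ => τ.support)) B :=
      Finset.disjoint_left.2 fun x hxU hxB => (Finset.mem_compl.1 (hBsub hxB)) (hUsub x hxU)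
    refine ⟨P'.biUnion (fun τ => τ.support) ∪ B, ?_, ?_⟩
    · rw [Finset.card_union_of_disjoint hUB, hUcard, hBcard]
    · apply image_eq_of_closed
      intro x hx
      rcases Finset.mem_union.1 hx with h | h
      · exact Finset.mem_union_left _ (hUcl x h)
      · exact Finset.mem_union_right _ (hBcl x h)
  -- choose a, b
  have hdm : r * (k / r) + k % r = k := Nat.div_add_mod k r
  by_cases hc : k / r ≤ σ.cycleFactorsFinset.card
  · have hfmod : n % r = σ.supportᶜ.card % r := by
      have h3 : (σ.supportᶜ.card + σ.cycleFactorsFinset.card * r) % r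
          = σ.supportᶜ.card % r := Nat.add_mul_mod_self_right _ _ _
      rw [hF] at h3
      exact h3
    have hb : k % r ≤ σ.supportᶜ.card := by
      calc k % r ≤ n % r := hmod
        _ = σ.supportᶜ.card % r := hfmod
        _ ≤ σ.supportᶜ.card := Nat.mod_le _ _
    obtain ⟨s, hs, hinv⟩ := hcons (k / r) (k % r) hc hb
    refine ⟨s, ?_, hinv⟩
    rw [hs, mul_comm]; exact hdm
  · push Not at hc
    have h1 : σ.cycleFactorsFinset.card * r ≤ k / r * r := Nat.mul_le_mul_right r (le_of_lt hc)
    have h2 : k / r * r ≤ k := Nat.div_mul_le_self k r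
    have hb : k - σ.cycleFactorsFinset.card * r ≤ σ.supportᶜ.card := by omega
    obtain ⟨s, hs, hinv⟩ := hcons _ _ le_rfl hb
    refine ⟨s, ?_, hinv⟩
    rw [hs]; omega

theorem mod_le_of_all {n : ℕ} (r : ℕ) (hr : r.Prime) (hrn : r ≤ n) (k : ℕ)
    (hall : ∀ σ : Perm (Fin n), orderOf σ = r →
      ∃ s : Finset (Fin n), s.card = k ∧ s.image σ = s) :
    k % r ≤ n % r := by
  haveI : Fact r.Prime := ⟨hr⟩
  have hN : 0 < n / r := Nat.div_pos hrn hr.pos
  obtain ⟨σ, hσ⟩ := (Equiv.Perm.exists_with_cycleType_iff (Fin n)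
      (m := Multiset.replicate (n / r) r)).2
    ⟨by rw [Multiset.sum_replicate, smul_eq_mul, Fintype.card_fin]; exact Nat.div_mul_le_self n r,
     fun a ha => by rw [Multiset.eq_of_mem_replicate ha]; exact hr.two_le⟩
  have hord : orderOf σ = r := by
    apply Nat.dvd_antisymm
    · rw [← lcm_cycleType, hσ]
      exact Multiset.lcm_dvd.2 (fun b hb => by rw [Multiset.eq_of_mem_replicate hb])
    · rw [← lcm_cycleType, hσ]
      exact Multiset.dvd_lcm (Multiset.mem_replicate.2 ⟨hN.ne', rfl⟩)
  obtain ⟨s, hs, hinv⟩ := hall σ hord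
  have hsupp : σ.support.card = n / r * r := by
    rw [← sum_cycleType, hσ, Multiset.sum_replicate, smul_eq_mul]
  have hfix : σ.supportᶜ.card = n % r := by
    rw [Finset.card_compl, Fintype.card_fin, hsupp]
    have h1 := Nat.div_add_mod' n r
    omega
  have hmem : ∀ x, σ x ∈ s ↔ x ∈ s := by
    intro x
    constructor
    · intro hx
      rw [← hinv] at hx
      obtain ⟨y, hy, hyx⟩ := Finset.mem_image.1 hx
      rwa [← σ.injective hyx]
    · intro hx
      rw [← hinv]
      exact Finset.mem_image_of_mem σ hx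
  have hσr : σ ^ r = 1 := by rw [← hord]; exact pow_orderOf_eq_one σ
  have hτ : (σ.subtypePerm hmem : Perm s) ^ r ^ 1 = 1 := by
    rw [pow_one]
    refine Equiv.ext fun ⟨x, hx⟩ => Subtype.ext ?_
    rw [subtypePerm_apply_pow_of_mem hmem hx, hσr]
    rfl
  have hmod := card_compl_support_modEq (p := r) (n := 1) hτ
  rw [Fintype.card_coe, hs] at hmod
  have hle : (σ.subtypePerm hmem : Perm s).supportᶜ.card ≤ σ.supportᶜ.card := by
    apply Finset.card_le_card_of_injOn (fun x : s => (x : Fin n))
    · intro x hx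
      simp only [Finset.mem_coe, Finset.mem_compl, notMem_support] at hx ⊢
      exact congrArg Subtype.val hx
    · intro x _ y _ hxy
      exact Subtype.ext hxy
  have h1 : (σ.subtypePerm hmem : Perm s).supportᶜ.card % r = k % r := hmod
  rw [← h1]
  calc (σ.subtypePerm hmem : Perm s).supportᶜ.card % r
      ≤ (σ.subtypePerm hmem : Perm s).supportᶜ.card := Nat.mod_le _ _
    _ ≤ σ.supportᶜ.card := hle
    _ = n % r := hfix

/-- Let 1 ≤ k with 2k < n and consider the symmetric group of degree n acting on the k-subsets of an n-set. Let r be a prime dividing the number C(n,k) of k-subsets. If r is odd, then every permutation of order r fixes some k-subset if and only if r ≤ k and the remainder of k modulo r is at most the remainder of n modulo r. If r = 2, then every involution fixes some k-subset if and only if k is even or n is odd. -/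
theorem result (n k : ℕ) (hk : 1 ≤ k) (hkn : 2 * k < n) (r : ℕ) (hr : r.Prime) (hrd : r ∣ Nat.choose n k) :
    (r ≠ 2 → ((∀ σ : Equiv.Perm (Fin n), orderOf σ = r → ∃ s : Finset (Fin n), s.card = k ∧ s.image σ = s) ↔
      (r ≤ k ∧ k % r ≤ n % r))) ∧
    (r = 2 → ((∀ σ : Equiv.Perm (Fin n), orderOf σ = 2 → ∃ s : Finset (Fin n), s.card = k ∧ s.image σ = s) ↔
      (Even k ∨ Odd n))) := by
  have hkn' : k ≤ n := by omega
  have hrn : r ≤ n := by
    have h1 : r ∣ n.factorial := by
      rw [← Nat.choose_mul_factorial_mul_factorial hkn']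
      exact Dvd.dvd.mul_right (Dvd.dvd.mul_right hrd _) _
    exact (hr.dvd_factorial).1 h1
  have key : (∀ σ : Equiv.Perm (Fin n), orderOf σ = r →
      ∃ s : Finset (Fin n), s.card = k ∧ s.image σ = s) ↔ k % r ≤ n % r :=
    ⟨fun h => mod_le_of_all r hr hrn k h, fun h σ hσ => exists_invariant r hr σ hσ k hkn' h⟩
  constructor
  · intro _
    refine ⟨fun h => ⟨?_, key.1 h⟩, fun h => key.2 h.2⟩
    have hmod := key.1 h
    by_contra hlt
    push Not at hlt
    haveI : Fact r.Prime := ⟨hr⟩
    have hL := Choose.choose_modEq_choose_mod_mul_choose_div_nat (n := n) (k := k) (p := r)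
    rw [Nat.mod_eq_of_lt hlt, Nat.div_eq_of_lt hlt, Nat.choose_zero_right, mul_one] at hL
    rw [Nat.mod_eq_of_lt hlt] at hmod
    have h2 : r ∣ Nat.choose (n % r) k :=
      (Nat.modEq_zero_iff_dvd).1 (hL.symm.trans ((Nat.modEq_zero_iff_dvd).2 hrd))
    have h3 : r ∣ (n % r).factorial := by
      rw [← Nat.choose_mul_factorial_mul_factorial hmod]
      exact Dvd.dvd.mul_right (Dvd.dvd.mul_right h2 _) _
    have h4 := (hr.dvd_factorial).1 h3
    have h5 := Nat.mod_lt n hr.pos
    omega
  · intro h2
    subst h2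
    exact key.trans (by rw [Nat.even_iff, Nat.odd_iff]; omega)

end Cfsg.Agent.S3573
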