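import Cfsg.Statements.S3575
import Mathlib
import Cfsg.Agent.Lib.Helper20.UPartNec
import Cfsg.Agent.Lib.Helper20.UPartModel
import Cfsg.Agent.Lib.Helper20.UPartTransport
import Cfsg.Agent.Lib.Helper20.UPartArith

set_option autoImplicit false
open Cfsg

namespace Cfsg.Agent.S3575

open Cfsg.Agent.Lib.Helper20.UPart Equiv

theorem le_of_dvd_count (a b r : ℕ) (ha : 2 ≤ a) (hr : r.Prime)
    (hrd : r ∣ (a * b).factorial / (a.factorial ^ b * b.factorial)) : r ≤ a * b := by
  have h1 := Nat.uniformBell_mul_eq b (n := a) (by omega)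
  have hdiv : a.factorial ^ b * b.factorial ∣ (a * b).factorial := by
    rw [mul_comm a b, ← h1, mul_assoc]
    exact Dvd.intro_left _ rfl
  have h2 : (a * b).factorial / (a.factorial ^ b * b.factorial) ∣ (a * b).factorial :=
    Nat.div_dvd_of_dvd hdiv
  exact (hr.dvd_factorial).mp (hrd.trans h2)

/-- the support of an element of prime order `r` has `j * r` elements, `1 ≤ j`. -/
theorem support_card_of_prime_order {Y : Type*} [Fintype Y] [DecidableEq Y] (r : ℕ)
    (hr : r.Prime) (σ : Perm Y) (hσ : orderOf σ = r) :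
    ∃ j : ℕ, 1 ≤ j ∧ σ.support.card = j * r := by
  obtain ⟨n, hn⟩ := Equiv.Perm.cycleType_prime_order (σ := σ) (by rw [hσ]; exact hr)
  rw [hσ] at hn
  have h1 := Equiv.Perm.sum_cycleType σ
  rw [hn, Multiset.sum_replicate, smul_eq_mul] at h1
  exact ⟨n + 1, by omega, h1.symm⟩

theorem mod_eq (r q x : ℕ) (hx : x < r) : (r * q + x) % r = x := by
  rw [Nat.mul_add_mod, Nat.mod_eq_of_lt hx]

/-- forward half, in normal form. -/
theorem forward (r qa l qb k a b : ℕ) (ha : a = r * qa + l) (hb : b = r * qb + k)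
    (hr : r.Prime) (hl : l < r) (hk : k < r)
    (ha2 : 2 ≤ a) (hb2 : 2 ≤ b)
    (hrab : r ≤ a * b)
    (hL : ∀ σ : Equiv.Perm (Fin (a * b)), orderOf σ = r →
        ∃ f : Fin (a * b) → Fin b,
          (∀ j : Fin b, Nat.card {x : Fin (a * b) // f x = j} = a) ∧
          ∃ π : Equiv.Perm (Fin b), ∀ x : Fin (a * b), f (σ x) = π (f x)) :
    1 ≤ qa ∧ l * k < r ∧ (qb = 0 ∨ l ≤ k * qa + 1) := by
  have : Fact r.Prime := ⟨hr⟩
  apply arith_forward r qa l qb k hr.two_le hl hk (ha ▸ ha2) (hb ▸ hb2)
    (by rw [← ha, ← hb]; exact hrab)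
  rw [← ha, ← hb]
  intro j hj1 hjr
  have hcard : Fintype.card (TY r j (a * b - j * r)) = a * b := by
    rw [TY_card]; omega
  let e₃ : TY r j (a * b - j * r) ≃ Fin (a * b) := Fintype.equivFinOfCardEq hcard
  obtain ⟨σ, hσdef⟩ : ∃ σ : Perm (Fin (a * b)),
      σ = e₃.permCongr (tyPerm r j (a * b - j * r)) := ⟨_, rfl⟩
  have hσ : orderOf σ = r := by
    rw [hσdef, orderOf_permCongr]
    exact tyPerm_orderOf r j _ hj1
  have hσr : σ ^ r = 1 := by
    rw [← hσ]; exact pow_orderOf_eq_one σ
  have hσs : σ.support.card = j * r := by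
    rw [hσdef, support_permCongr_card, tyPerm_support_card]
  obtain ⟨f, hf, π, hπ⟩ := hL σ hσ
  have hf' : ∀ β : Fin b, Fintype.card {x : Fin (a * b) // f x = β} = a := by
    intro β
    rw [← Nat.card_eq_fintype_card]
    exact hf β
  obtain ⟨t, ht1, ht2, ht3⟩ := necessity r a (by omega) σ hσr f hf' π hπ
  rw [Fintype.card_fin] at ht1 ht3
  rw [hσs] at ht2 ht3
  have hamod : a - a % r = r * qa := by
    rw [ha, mod_eq r qa l hl]; omega
  rw [hamod] at ht3
  refine ⟨t, ht1, ?_, ?_⟩
  · have h1 : r * (t * a) ≤ r * j := by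
      calc r * (t * a) = t * r * a := by ring
        _ ≤ j * r := ht2
        _ = r * j := by ring
    exact Nat.le_of_mul_le_mul_left h1 hr.pos
  · have h1 : r * j ≤ r * (t * a + (b - t * r) * qa) := by
      calc r * j = j * r := by ring
        _ ≤ t * r * a + (b - t * r) * (r * qa) := ht3
        _ = r * (t * a + (b - t * r) * qa) := by ring
    exact Nat.le_of_mul_le_mul_left h1 hr.pos

/-- backward half, in normal form. -/
theorem backward (r qa l qb k a b : ℕ) (ha : a = r * qa + l) (hb : b = r * qb + k)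
    (hr : r.Prime) (hl : l < r) (hk : k < r)
    (hqa : 1 ≤ qa) (D1 : l * k < r) (D2 : qb = 0 ∨ l ≤ k * qa + 1)
    (σ : Equiv.Perm (Fin (a * b))) (hσ : orderOf σ = r) :
    ∃ f : Fin (a * b) → Fin b,
      (∀ j : Fin b, Nat.card {x : Fin (a * b) // f x = j} = a) ∧
      ∃ π : Equiv.Perm (Fin b), ∀ x : Fin (a * b), f (σ x) = π (f x) := by
  have : Fact r.Prime := ⟨hr⟩
  obtain ⟨j, hj1, hjs⟩ := support_card_of_prime_order r hr σ hσ
  have hjr : j * r ≤ a * b := by
    rw [← hjs]
    have := Finset.card_le_univ σ.support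
    simpa using this
  obtain ⟨t, ht1, ht2, ht3⟩ := arith_backward r qa l qb k hr.two_le hl hk hqa D1 D2 j
    (by rw [← ha, ← hb]; exact hjr)
  rw [← hb] at ht1 ht3
  rw [← ha] at ht2 ht3
  obtain ⟨m, hm⟩ : ∃ m, m = b - t * r := ⟨_, rfl⟩
  rw [← hm] at ht3
  have he : j - t * a ≤ (Finset.univ : Finset (Fin m × Fin qa)).card := by
    rw [Finset.card_univ, Fintype.card_prod, Fintype.card_fin, Fintype.card_fin]
    omega
  obtain ⟨s, -, hs⟩ := Finset.exists_subset_card_eq he
  have h1 : qa * r + l = a := by rw [ha]; ring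
  have hsupp : (mxPerm r t m qa l s).support.card = σ.support.card := by
    rw [mxPerm_support_card, hs, hjs]
    rw [h1]
    have h2 : t * a + (j - t * a) = j := by omega
    calc t * r * a + (j - t * a) * r = (t * a + (j - t * a)) * r := by ring
      _ = j * r := by rw [h2]
  have hord : orderOf (mxPerm r t m qa l s) = r := by
    apply mxPerm_orderOf
    rw [← mxPerm_support_card, hsupp, hjs]
    exact Nat.mul_pos hj1 hr.pos
  have hX : Fintype.card (MX r t m qa l) = a * b := by
    rw [MX_card]
    have h2 : t * r + m = b := by omega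
    rw [h1, h2, mul_comm]
  have hB : Fintype.card (TY r t m) = b := by
    rw [TY_card]; omega
  refine transport a b r hr σ hσ (mxPerm r t m qa l s) hord hX hB hsupp Prod.fst ?_
    (tyPerm r t m) (mxPerm_fst r t m qa l s)
  intro β
  rw [mx_fibre_card, h1]

/-- Let a, b ≥ 2 and consider the symmetric group of degree a·b acting on the partitions of an (a·b)-set into b parts of size a (encoded as maps onto a b-element set all of whose fibres have a elements; a permutation fixes such a partition when it permutes the fibres). Let r be a prime dividing the number (ab)!/((a!)^b·b!) of such partitions, and let ℓ and k be the remainders of a and b modulo r. Then every permutation of order r fixes some such partition if and only if r ≤ a and one of the following holds: ℓ = 0; or k = 0 and ℓ = 1; or ℓ and k are non-zero, k·ℓ < r, and either b < r or (k + r)·ℓ ≤ k·a + r. -/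
theorem result (a b : ℕ) (ha : 2 ≤ a) (hb : 2 ≤ b) (r : ℕ) (hr : r.Prime)
    (hrd : r ∣ (a * b).factorial / (a.factorial ^ b * b.factorial)) :
    (∀ σ : Equiv.Perm (Fin (a * b)), orderOf σ = r →
        ∃ f : Fin (a * b) → Fin b, (∀ j : Fin b, Nat.card {x : Fin (a * b) // f x = j} = a) ∧
          ∃ π : Equiv.Perm (Fin b), ∀ x : Fin (a * b), f (σ x) = π (f x)) ↔
      (r ≤ a ∧ (a % r = 0 ∨ (b % r = 0 ∧ a % r = 1) ∨
        (a % r ≠ 0 ∧ b % r ≠ 0 ∧ (b % r) * (a % r) < r ∧ (b < r ∨ (b % r + r) * (a % r) ≤ (b % r) * a + r)))) := by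
  have hrab := le_of_dvd_count a b r ha hr hrd
  clear hrd
  obtain ⟨qa, l, hl, haeq⟩ : ∃ qa l, l < r ∧ a = r * qa + l :=
    ⟨a / r, a % r, Nat.mod_lt _ hr.pos, (Nat.div_add_mod a r).symm⟩
  obtain ⟨qb, k, hk, hbeq⟩ : ∃ qb k, k < r ∧ b = r * qb + k :=
    ⟨b / r, b % r, Nat.mod_lt _ hr.pos, (Nat.div_add_mod b r).symm⟩
  have hamod : a % r = l := by rw [haeq, mod_eq r qa l hl]
  have hbmod : b % r = k := by rw [hbeq, mod_eq r qb k hk]
  rw [hamod, hbmod]
  constructor
  · intro hL
    obtain ⟨hqa, D1, D2⟩ := forward r qa l qb k a b haeq hbeq hr hl hk ha hb hrab hL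
    have hra : r ≤ a := by
      calc r = r * 1 := (mul_one r).symm
        _ ≤ r * qa := Nat.mul_le_mul_left _ hqa
        _ ≤ r * qa + l := Nat.le_add_right _ _
        _ = a := haeq.symm
    refine ⟨hra, ?_⟩
    by_cases hl0 : l = 0
    · left; exact hl0
    · right
      by_cases hk0 : k = 0
      · left
        refine ⟨hk0, ?_⟩
        have hqb : qb ≠ 0 := by
          rintro rfl
          omega
        rcases D2 with h | h
        · exact absurd h hqb
        · rw [hk0] at h
          omega
      · right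
        refine ⟨hl0, hk0, by rwa [mul_comm], ?_⟩
        rcases D2 with h | h
        · left
          rw [hbeq, h]; omega
        · right
          calc (k + r) * l = k * l + r * l := by ring
            _ ≤ k * l + r * (k * qa + 1) := by
                have := Nat.mul_le_mul_left r h
                omega
            _ = k * (r * qa + l) + r := by ring
            _ = k * a + r := by rw [haeq]
  · rintro ⟨hra, hdisj⟩ σ hσ
    have hqa : 1 ≤ qa := by
      by_contra hcon
      have : qa = 0 := by omega
      rw [this] at haeq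
      omega
    have hD : l * k < r ∧ (qb = 0 ∨ l ≤ k * qa + 1) := by
      rcases hdisj with h | ⟨h1, h2⟩ | ⟨h1, h2, h3, h4⟩
      · rw [h]
        exact ⟨by simpa using hr.pos, Or.inr (Nat.zero_le _)⟩
      · rw [h1, h2]
        exact ⟨by simpa using hr.pos, Or.inr (by omega)⟩
      · refine ⟨by rwa [mul_comm], ?_⟩
        rcases h4 with h4 | h4
        · left
          by_contra hcon
          have h5 : 1 ≤ qb := by omega
          have : r * 1 ≤ r * qb := Nat.mul_le_mul_left _ h5
          omega
        · right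
          have h5 : r * l ≤ r * (k * qa + 1) := by
            have e1 : (k + r) * l = k * l + r * l := by ring
            have e2 : k * a + r = k * l + r * (k * qa + 1) := by rw [haeq]; ring
            omega
          exact Nat.le_of_mul_le_mul_left h5 hr.pos
    exact backward r qa l qb k a b haeq hbeq hr hl hk hqa hD.1 hD.2 σ hσ

end Cfsg.Agent.S3575
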