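import Cfsg.Statements.S3589
import Cfsg.Agent.Lib.Helper15.SO8e
import Cfsg.Agent.Lib.Helper15.SO8i
import Cfsg.Agent.Lib.Helper10.S3589E

set_option autoImplicit false
open Cfsg

namespace Cfsg.Agent.S3589

/-- Let F be a finite field of characteristic 2 and let a, b ∈ F make the binary form z₁² + a z₁z₂ + b z₂² anisotropic. Then the symplectic group PSp(8,F) (= Sp(8,F)) and the full isometry group of the non-singular quadratic form x₁y₁ + x₂y₂ + x₃y₃ + (z₁² + a z₁z₂ + b z₂²) of minus type in dimension 8 have the same set of element orders. -/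
theorem result {F : Type*} [Field F] [Fintype F]
    [CharP F 2] (a b : F) (han : ∀ z₁ z₂ : F, z₁ ^ 2 + a * z₁ * z₂ + b * z₂ ^ 2 = 0 → z₁ = 0 ∧ z₂ = 0) :
    Set.range (orderOf : Cfsg.PSp 4 F → ℕ) = Set.range (orderOf : ↥(Cfsg.isometryGroup F (Cfsg.quadFormMinus 3 F a b)) → ℕ) := by
  classical
  apply Set.eq_of_subset_of_subset
  · rintro _ ⟨x, rfl⟩
    obtain ⟨A, rfl⟩ := QuotientGroup.mk_surjective x
    obtain ⟨p, hp, hA⟩ := Cfsg.Agent.Lib.Helper15.SO8.sp8_pow_eq_one A
    obtain ⟨h, hh⟩ := Cfsg.Agent.Lib.Helper15.SO8.exists_isometry_of_mem_LL a b han p hp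
    have h1 : orderOf (QuotientGroup.mk A : Cfsg.PSp 4 F) ∣ orderOf h := by
      refine dvd_trans ?_ hh
      rw [orderOf_dvd_iff_pow_eq_one, ← QuotientGroup.mk_pow, hA]
      rfl
    have hfin : Finite ↥(Cfsg.isometryGroup F (Cfsg.quadFormMinus 3 F a b)) := inferInstance
    obtain ⟨c, hc⟩ := h1
    refine ⟨h ^ c, ?_⟩
    have hpos : 0 < orderOf h := orderOf_pos h
    rw [orderOf_pow' h (by rintro rfl; rw [mul_zero] at hc; omega), hc]
    have : Nat.gcd (orderOf (QuotientGroup.mk A : Cfsg.PSp 4 F) * c) c = c := Nat.gcd_mul_left_left _ _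
    rw [this]
    have hc0 : 0 < c := by
      rcases Nat.eq_zero_or_pos c with h0 | h0
      · rw [h0, mul_zero] at hc; omega
      · exact h0
    exact Nat.mul_div_cancel _ hc0
  · rintro _ ⟨h, rfl⟩
    obtain ⟨x, hx⟩ := Cfsg.Agent.Lib.Helper10.S3589.sp_of_isometry a b han h
    exact ⟨x, hx⟩

end Cfsg.Agent.S3589
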