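import Mathlib
import Cfsg.Statements.S3599
import Cfsg.Agent.Lib.Helper17.AffineSpec

set_option autoImplicit false
open Cfsg

namespace Cfsg.Agent.S3599

open Cfsg.Agent.Lib.Helper17.AffineSpec

/-- `x` is a `q`-element. -/
def IsQElt (q : ℕ) {X : Type*} [Monoid X] (x : X) : Prop := ∃ k : ℕ, x ^ q ^ k = 1

/-- the `q`-elements are closed under multiplication. -/
def NQ (q : ℕ) (X : Type*) [Monoid X] : Prop :=
  ∀ x y : X, IsQElt q x → IsQElt q y → IsQElt q (x * y)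

theorem NQ.subgroup {q : ℕ} {X : Type*} [Group X] (h : NQ q X) (H : Subgroup X) : NQ q H := by
  rintro x y ⟨k, hk⟩ ⟨l, hl⟩
  have hx : (x : X) ^ q ^ k = 1 := by rw [← Subgroup.coe_pow, hk, Subgroup.coe_one]
  have hy : (y : X) ^ q ^ l = 1 := by rw [← Subgroup.coe_pow, hl, Subgroup.coe_one]
  obtain ⟨m, hm⟩ := h x y ⟨k, hx⟩ ⟨l, hy⟩
  refine ⟨m, Subtype.ext ?_⟩
  rw [Subgroup.coe_pow, Subgroup.coe_mul, hm, Subgroup.coe_one]

theorem NQ.of_mulEquiv {q : ℕ} {X Y : Type*} [Monoid X] [Monoid Y] (h : NQ q X) (e : X ≃* Y) :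
    NQ q Y := by
  rintro x y ⟨k, hk⟩ ⟨l, hl⟩
  have hx : (e.symm x) ^ q ^ k = 1 := by rw [← map_pow, hk, map_one]
  have hy : (e.symm y) ^ q ^ l = 1 := by rw [← map_pow, hl, map_one]
  obtain ⟨m, hm⟩ := h _ _ ⟨k, hx⟩ ⟨l, hy⟩
  refine ⟨m, ?_⟩
  have := congrArg e hm
  rwa [map_pow, map_mul, e.apply_symm_apply, e.apply_symm_apply, map_one] at this

theorem exists_lift_qelt {q : ℕ} (hq : q.Prime) {H : Type*} [Group H] [Finite H] (N : Subgroup H)
    [N.Normal] (xb : H ⧸ N) (hx : IsQElt q xb) : ∃ x : H, (x : H ⧸ N) = xb ∧ IsQElt q x := by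
  obtain ⟨k, hk⟩ := hx
  obtain ⟨y, rfl⟩ := QuotientGroup.mk_surjective xb
  obtain ⟨c, m, hm, hcm⟩ := Nat.exists_eq_pow_mul_and_not_dvd (orderOf_pos y).ne' q hq.ne_one
  have hcop : Nat.Coprime m (q ^ k) :=
    Nat.Coprime.pow_right k ((hq.coprime_iff_not_dvd.mpr hm).symm)
  have he : m ^ Nat.totient (q ^ k) ≡ 1 [MOD q ^ k] := Nat.ModEq.pow_totient hcop
  have hord : orderOf (y : H ⧸ N) ∣ q ^ k := orderOf_dvd_of_pow_eq_one hk
  refine ⟨y ^ (m ^ Nat.totient (q ^ k)), ?_, c, ?_⟩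
  · rw [QuotientGroup.mk_pow]
    have h1 : (y : H ⧸ N) ^ (m ^ Nat.totient (q ^ k)) = (y : H ⧸ N) ^ 1 :=
      pow_eq_pow_iff_modEq.mpr (he.of_dvd hord)
    rw [h1, pow_one]
  · rw [← pow_mul]
    apply orderOf_dvd_iff_pow_eq_one.mp
    rw [hcm]
    have hpos : Nat.totient (q ^ k) ≠ 0 := (Nat.totient_pos.mpr (pow_pos hq.pos k)).ne'
    obtain ⟨t, ht⟩ : m ∣ m ^ Nat.totient (q ^ k) := dvd_pow_self m hpos
    rw [ht]
    exact ⟨t, by ring⟩

theorem NQ.quotient {q : ℕ} (hq : q.Prime) {H : Type*} [Group H] [Finite H] (h : NQ q H)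
    (N : Subgroup H) [N.Normal] : NQ q (H ⧸ N) := by
  intro xb yb hx hy
  obtain ⟨x, rfl, hx'⟩ := exists_lift_qelt hq N xb hx
  obtain ⟨y, rfl, hy'⟩ := exists_lift_qelt hq N yb hy
  obtain ⟨k, hk⟩ := h x y hx' hy'
  exact ⟨k, by rw [← QuotientGroup.mk_mul, ← QuotientGroup.mk_pow, hk, QuotientGroup.mk_one]⟩

theorem NQ.pi {q : ℕ} {ι : Type*} [Fintype ι] {Y : ι → Type*} [∀ j, Monoid (Y j)]
    (h : ∀ j, NQ q (Y j)) : NQ q (∀ j, Y j) := by
  rintro x y ⟨k, hk⟩ ⟨l, hl⟩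
  have hx : ∀ j, IsQElt q (x j) := fun j => ⟨k, by
    have := congrFun hk j
    rwa [Pi.pow_apply, Pi.one_apply] at this⟩
  have hy : ∀ j, IsQElt q (y j) := fun j => ⟨l, by
    have := congrFun hl j
    rwa [Pi.pow_apply, Pi.one_apply] at this⟩
  choose f hf using fun j => h j (x j) (y j) (hx j) (hy j)
  refine ⟨∑ j, f j, ?_⟩
  funext j
  rw [Pi.pow_apply, Pi.mul_apply, Pi.one_apply]
  obtain ⟨t, ht⟩ : q ^ f j ∣ q ^ (∑ j, f j) :=
    pow_dvd_pow q (Finset.single_le_sum (fun _ _ => Nat.zero_le _) (Finset.mem_univ j))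
  rw [ht, pow_mul, hf j, one_pow]

theorem exists_orderOf_mul {q r : ℕ} (hq : q.Prime) (hr : r.Prime) (hqr : q ≠ r) {X : Type*}
    [Group X] (h1 : NQ q X) (h2 : NQ r X) (x y : X) (hx : orderOf x = q) (hy : orderOf y = r) :
    ∃ z : X, orderOf z = q * r := by
  let Q : Subgroup X :=
    { carrier := {a | IsQElt q a}
      mul_mem' := fun {a b} ha hb => h1 a b ha hb
      one_mem' := ⟨0, one_pow _⟩
      inv_mem' := fun {a} ha => by
        obtain ⟨k, hk⟩ := ha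
        exact ⟨k, by rw [inv_pow, hk, inv_one]⟩ }
  let R : Subgroup X :=
    { carrier := {a | IsQElt r a}
      mul_mem' := fun {a b} ha hb => h2 a b ha hb
      one_mem' := ⟨0, one_pow _⟩
      inv_mem' := fun {a} ha => by
        obtain ⟨k, hk⟩ := ha
        exact ⟨k, by rw [inv_pow, hk, inv_one]⟩ }
  have hQn : Q.Normal := ⟨fun a ha g => by
    obtain ⟨k, hk⟩ := ha
    exact ⟨k, by rw [conj_pow, hk, mul_one, mul_inv_cancel]⟩⟩
  have hRn : R.Normal := ⟨fun a ha g => by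
    obtain ⟨k, hk⟩ := ha
    exact ⟨k, by rw [conj_pow, hk, mul_one, mul_inv_cancel]⟩⟩
  have hdisj : Disjoint Q R := by
    rw [Subgroup.disjoint_def]
    intro a ha hb
    obtain ⟨k, hk⟩ := ha
    obtain ⟨l, hl⟩ := hb
    have d1 := orderOf_dvd_of_pow_eq_one hk
    have d2 := orderOf_dvd_of_pow_eq_one hl
    have hc : Nat.Coprime (q ^ k) (r ^ l) := Nat.Coprime.pow _ _ ((Nat.coprime_primes hq hr).mpr hqr)
    have : orderOf a ∣ 1 := by
      have := Nat.dvd_gcd d1 d2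
      rwa [hc] at this
    exact orderOf_eq_one_iff.mp (Nat.dvd_one.mp this)
  have hxQ : x ∈ Q := ⟨1, by rw [pow_one, ← hx, pow_orderOf_eq_one]⟩
  have hyR : y ∈ R := ⟨1, by rw [pow_one, ← hy, pow_orderOf_eq_one]⟩
  have hcomm : Commute x y := Subgroup.commute_of_normal_of_disjoint Q R hQn hRn hdisj x y hxQ hyR
  refine ⟨x * y, ?_⟩
  rw [hcomm.orderOf_mul_eq_mul_orderOf_of_coprime
    (by rw [hx, hy]; exact (Nat.coprime_primes hq hr).mpr hqr), hx, hy]

section Frob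
variable (q r : ℕ) [hq : Fact q.Prime] [hr : Fact r.Prime]

theorem exists_zeta (hqr : q ≠ r) : ∃ ζ : (GaloisField q (r - 1))ˣ, orderOf ζ = r := by
  have hr2 : 2 ≤ r := hr.out.two_le
  have hcard : Nat.card (GaloisField q (r - 1))ˣ = q ^ (r - 1) - 1 := by
    rw [Nat.card_units, GaloisField.card q (r - 1) (by omega)]
  have hdvd : r ∣ Nat.card (GaloisField q (r - 1))ˣ := by
    rw [hcard]
    have hcop : Nat.Coprime q r := (Nat.coprime_primes hq.out hr.out).mpr hqr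
    have h1 := Nat.ModEq.pow_totient hcop
    rw [Nat.totient_prime hr.out] at h1
    exact (Nat.modEq_iff_dvd' (Nat.one_le_pow _ _ hq.out.pos)).mp h1.symm
  exact exists_prime_orderOf_dvd_card' r hdvd

/-- an element of order `r` -/
noncomputable def zeta (hqr : q ≠ r) : (GaloisField q (r - 1))ˣ :=
  Classical.choose (exists_zeta q r hqr)

theorem orderOf_zeta (hqr : q ≠ r) : orderOf (zeta q r hqr) = r :=
  Classical.choose_spec (exists_zeta q r hqr)

/-- The Frobenius group -/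
abbrev Frob (hqr : q ≠ r) : Type :=
  Aff (GaloisField q (r - 1)) (Subgroup.zpowers (zeta q r hqr))

instance frobFinite (hqr : q ≠ r) : Finite (Frob q r hqr) := finite

theorem frob_right_ne_one (hqr : q ≠ r) (h : Frob q r hqr) (hr1 : h.right ≠ 1) : orderOf h = r := by
  have hu : (((h.right : (GaloisField q (r - 1))ˣ) : GaloisField q (r - 1))) - 1 ≠ 0 := by
    intro h0
    apply hr1
    apply Subtype.ext
    apply Units.ext
    rw [sub_eq_zero] at h0
    show ((h.right : (GaloisField q (r - 1))ˣ) : GaloisField q (r - 1))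
      = ((1 : (GaloisField q (r - 1))ˣ) : GaloisField q (r - 1))
    rw [h0, Units.val_one]
  rw [orderOf_eq_of_fpf h _ (mul_inv_cancel₀ hu)]
  have hd : orderOf h.right ∣ r := by
    have := orderOf_dvd_natCard h.right
    rwa [Nat.card_zpowers, orderOf_zeta] at this
  rcases (Nat.dvd_prime hr.out).mp hd with h1 | h1
  · exact absurd (orderOf_eq_one_iff.mp h1) hr1
  · exact h1

theorem frob_right_eq_one (hqr : q ≠ r) (h : Frob q r hqr) (hr1 : h.right = 1) : h ^ q = 1 :=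
  pow_eq_one_of_right_eq_one h hr1 q (CharP.cast_eq_zero _ q)

theorem frob_orderOf (hqr : q ≠ r) (h : Frob q r hqr) :
    orderOf h = 1 ∨ orderOf h = q ∨ orderOf h = r := by
  by_cases hr1 : h.right = 1
  · have hd := orderOf_dvd_of_pow_eq_one (frob_right_eq_one q r hqr h hr1)
    rcases (Nat.dvd_prime hq.out).mp hd with h1 | h1
    · exact Or.inl h1
    · exact Or.inr (Or.inl h1)
  · exact Or.inr (Or.inr (frob_right_ne_one q r hqr h hr1))

theorem frob_exists_q (hqr : q ≠ r) : ∃ h : Frob q r hqr, orderOf h = q := by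
  refine ⟨SemidirectProduct.inl (Multiplicative.ofAdd 1), ?_⟩
  apply orderOf_eq_prime
  · exact frob_right_eq_one q r hqr _ rfl
  · intro h1
    have h2 := congrArg SemidirectProduct.left h1
    rw [SemidirectProduct.left_inl, SemidirectProduct.one_left] at h2
    have h3 : (1 : GaloisField q (r - 1)) = 0 := by
      have := congrArg Multiplicative.toAdd h2
      simp at this
    exact one_ne_zero h3

theorem frob_exists_r (hqr : q ≠ r) : ∃ h : Frob q r hqr, orderOf h = r := by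
  refine ⟨SemidirectProduct.inr ⟨zeta q r hqr, Subgroup.mem_zpowers _⟩, ?_⟩
  rw [orderOf_injective SemidirectProduct.inr SemidirectProduct.inr_injective,
    Subgroup.orderOf_mk, orderOf_zeta]

theorem frob_NQ (hqr : q ≠ r) (ℓ : ℕ) (hℓ : ℓ.Prime) (hℓr : ℓ ≠ r) : NQ ℓ (Frob q r hqr) := by
  have key : ∀ x : Frob q r hqr, IsQElt ℓ x → x.right = 1 := by
    rintro x ⟨k, hk⟩
    by_contra hne
    have ho := frob_right_ne_one q r hqr x hne
    have hd : r ∣ ℓ ^ k := by rw [← ho]; exact orderOf_dvd_of_pow_eq_one hk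
    have := (Nat.prime_dvd_prime_iff_eq hr.out hℓ).mp (hr.out.dvd_of_dvd_pow hd)
    exact hℓr this.symm
  intro x y hx hy
  have hxr := key x hx
  have hyr := key y hy
  have hxy : (x * y).right = 1 := by rw [SemidirectProduct.mul_right, hxr, hyr, mul_one]
  by_cases hℓq : ℓ = q
  · exact ⟨1, by rw [pow_one, hℓq]; exact frob_right_eq_one q r hqr _ hxy⟩
  · have triv : ∀ z : Frob q r hqr, IsQElt ℓ z → z.right = 1 → z = 1 := by
      rintro z ⟨k, hk⟩ hz
      have d1 := orderOf_dvd_of_pow_eq_one hk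
      have d2 := orderOf_dvd_of_pow_eq_one (frob_right_eq_one q r hqr z hz)
      have hc : Nat.Coprime (ℓ ^ k) q :=
        Nat.Coprime.pow_left k ((Nat.coprime_primes hℓ hq.out).mpr hℓq)
      have : orderOf z ∣ 1 := by
        have := Nat.dvd_gcd d1 d2
        rwa [hc] at this
      exact orderOf_eq_one_iff.mp (Nat.dvd_one.mp this)
    rw [triv x hx hxr, triv y hy hyr, mul_one]
    exact ⟨0, one_pow _⟩

end Frob

theorem oth_ne (i : Fin 2) : i + 1 ≠ i := by revert i; decide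

theorem fin2_eq_or (i b : Fin 2) : i = b ∨ i = b + 1 := by revert i b; decide

theorem p_ne {s : ℕ} (p : Fin s → Fin 2 → ℕ)
    (hinj : ∀ j i j' i', p j i = p j' i' → j = j' ∧ i = i') (j : Fin s) (i : Fin 2) :
    p j i ≠ p j (i + 1) := fun h => oth_ne i ((hinj _ _ _ _ h).2).symm

/-- the `j`-th factor for the bit vector `b` -/
abbrev Fac {s : ℕ} (p : Fin s → Fin 2 → ℕ) (hp : ∀ j i, (p j i).Prime)
    (hinj : ∀ j i j' i', p j i = p j' i' → j = j' ∧ i = i') (b : Fin s → Fin 2) (j : Fin s) : Type :=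
  @Frob (p j (b j)) (p j (b j + 1)) ⟨hp _ _⟩ ⟨hp _ _⟩ (p_ne p hinj j (b j))

theorem fin2_val {s : ℕ} (p : Fin s → Fin 2 → ℕ) (j : Fin s) (b' : Fin 2) (n : ℕ) :
    (n = p j b' ∨ n = p j (b' + 1)) → (n = p j 0 ∨ n = p j 1) := by
  have hb : b' = 0 ∨ b' = 1 := by revert b'; decide
  rcases hb with rfl | rfl
  · intro h
    have e : (0 : Fin 2) + 1 = 1 := by decide
    rw [e] at h
    exact h
  · intro h
    have e : (1 : Fin 2) + 1 = 0 := by decide
    rw [e] at h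
    exact h.symm

theorem fac_orders {s : ℕ} (p : Fin s → Fin 2 → ℕ) (hp : ∀ j i, (p j i).Prime)
    (hinj : ∀ j i j' i', p j i = p j' i' → j = j' ∧ i = i') (b : Fin s → Fin 2) (j : Fin s)
    (y : Fac p hp hinj b j) : orderOf y = 1 ∨ orderOf y = p j 0 ∨ orderOf y = p j 1 := by
  have h := @frob_orderOf (p j (b j)) (p j (b j + 1)) ⟨hp _ _⟩ ⟨hp _ _⟩ (p_ne p hinj j (b j)) y
  rcases h with h | h
  · exact Or.inl h
  · exact Or.inr (fin2_val p j (b j) _ h)

theorem fac_exists {s : ℕ} (p : Fin s → Fin 2 → ℕ) (hp : ∀ j i, (p j i).Prime)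
    (hinj : ∀ j i j' i', p j i = p j' i' → j = j' ∧ i = i') (b : Fin s → Fin 2) (j : Fin s)
    (i : Fin 2) : ∃ y : Fac p hp hinj b j, orderOf y = p j i := by
  rcases fin2_eq_or i (b j) with h | h
  · rw [h]
    exact @frob_exists_q (p j (b j)) (p j (b j + 1)) ⟨hp _ _⟩ ⟨hp _ _⟩ (p_ne p hinj j (b j))
  · rw [h]
    exact @frob_exists_r (p j (b j)) (p j (b j + 1)) ⟨hp _ _⟩ ⟨hp _ _⟩ (p_ne p hinj j (b j))

theorem fac_NQ {s : ℕ} (p : Fin s → Fin 2 → ℕ) (hp : ∀ j i, (p j i).Prime)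
    (hinj : ∀ j i j' i', p j i = p j' i' → j = j' ∧ i = i') (b : Fin s → Fin 2) (j : Fin s)
    (ℓ : ℕ) (hℓ : ℓ.Prime) (h : ℓ ≠ p j (b j + 1)) : NQ ℓ (Fac p hp hinj b j) :=
  @frob_NQ (p j (b j)) (p j (b j + 1)) ⟨hp _ _⟩ ⟨hp _ _⟩ (p_ne p hinj j (b j)) ℓ hℓ h

theorem orderOf_pi {s : ℕ} {Y : Fin s → Type} [∀ j, Group (Y j)] (x : ∀ j, Y j)
    (hcop : ∀ i j, i ≠ j → Nat.Coprime (orderOf (x i)) (orderOf (x j))) :
    orderOf x = ∏ j, orderOf (x j) := by
  apply Nat.dvd_antisymm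
  · apply orderOf_dvd_of_pow_eq_one
    funext j
    rw [Pi.pow_apply, Pi.one_apply]
    obtain ⟨t, ht⟩ := Finset.dvd_prod_of_mem (fun j => orderOf (x j)) (Finset.mem_univ j)
    rw [ht, pow_mul, pow_orderOf_eq_one, one_pow]
  · have hdvd : ∀ j, orderOf (x j) ∣ orderOf x := by
      intro j
      apply orderOf_dvd_of_pow_eq_one
      have := congrFun (pow_orderOf_eq_one x) j
      rwa [Pi.pow_apply, Pi.one_apply] at this
    have key : ∀ S : Finset (Fin s), (∏ j ∈ S, orderOf (x j)) ∣ orderOf x := by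
      intro S
      induction S using Finset.induction_on with
      | empty => simp
      | insert a S ha ih =>
        rw [Finset.prod_insert ha]
        apply Nat.Coprime.mul_dvd_of_dvd_of_dvd _ (hdvd a) ih
        apply Nat.Coprime.prod_right
        intro j hj
        exact hcop a j (fun h => ha (h ▸ hj))
    exact key Finset.univ

/-- the target spectrum -/
def Om {s : ℕ} (p : Fin s → Fin 2 → ℕ) : Set ℕ :=
  {m : ℕ | ∃ c : Fin s → ℕ, (∀ j, c j = 1 ∨ c j = p j 0 ∨ c j = p j 1) ∧ m = ∏ j, c j}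

theorem spectrum_pi {s : ℕ} (p : Fin s → Fin 2 → ℕ) (hp : ∀ j i, (p j i).Prime)
    (hinj : ∀ j i j' i', p j i = p j' i' → j = j' ∧ i = i')
    (Y : Fin s → Type) [∀ j, Group (Y j)]
    (h1 : ∀ j (y : Y j), orderOf y = 1 ∨ orderOf y = p j 0 ∨ orderOf y = p j 1)
    (h2 : ∀ j i, ∃ y : Y j, orderOf y = p j i) :
    Set.range (orderOf : (∀ j, Y j) → ℕ) = Om p := by
  have hcop : ∀ (x : ∀ j, Y j) (i j : Fin s), i ≠ j →
      Nat.Coprime (orderOf (x i)) (orderOf (x j)) := by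
    intro x i j hij
    have key : ∀ (a b : Fin 2), Nat.Coprime (p i a) (p j b) := fun a b =>
      (Nat.coprime_primes (hp _ _) (hp _ _)).mpr (fun h => hij (hinj _ _ _ _ h).1)
    rcases h1 i (x i) with hi | hi | hi <;> rcases h1 j (x j) with hj | hj | hj <;> rw [hi, hj]
    · exact Nat.coprime_one_left _
    · exact Nat.coprime_one_left _
    · exact Nat.coprime_one_left _
    · exact Nat.coprime_one_right _
    · exact key _ _
    · exact key _ _
    · exact Nat.coprime_one_right _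
    · exact key _ _
    · exact key _ _
  ext m
  constructor
  · rintro ⟨x, rfl⟩
    exact ⟨fun j => orderOf (x j), fun j => h1 j (x j), orderOf_pi x (hcop x)⟩
  · rintro ⟨c, hc, rfl⟩
    have hex : ∀ j, ∃ y : Y j, orderOf y = c j := by
      intro j
      rcases hc j with h | h | h
      · exact ⟨1, by rw [orderOf_one, h]⟩
      · rw [h]; exact h2 j 0
      · rw [h]; exact h2 j 1
    choose x hx using hex
    refine ⟨x, ?_⟩
    show orderOf x = ∏ j, c j
    rw [orderOf_pi x (hcop x)]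
    exact Finset.prod_congr rfl (fun j _ => hx j)

theorem prime_mem_Om {s : ℕ} (p : Fin s → Fin 2 → ℕ) (j₀ : Fin s) (i : Fin 2) : p j₀ i ∈ Om p := by
  refine ⟨fun j => if j = j₀ then p j₀ i else 1, ?_, ?_⟩
  · intro j
    beta_reduce
    by_cases h : j = j₀
    · subst h
      rw [if_pos rfl]
      have hi : i = 0 ∨ i = 1 := by revert i; decide
      rcases hi with rfl | rfl
      · exact Or.inr (Or.inl rfl)
      · exact Or.inr (Or.inr rfl)
    · rw [if_neg h]; exact Or.inl rfl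
  · rw [Finset.prod_ite_eq' Finset.univ j₀ (fun _ => p j₀ i), if_pos (Finset.mem_univ _)]

theorem not_mem_Om {s : ℕ} (p : Fin s → Fin 2 → ℕ) (hp : ∀ j i, (p j i).Prime)
    (hinj : ∀ j i j' i', p j i = p j' i' → j = j' ∧ i = i') (j₀ : Fin s) (i₁ i₂ : Fin 2)
    (hne : i₁ ≠ i₂) : p j₀ i₁ * p j₀ i₂ ∉ Om p := by
  rintro ⟨c, hc, hm⟩
  have key : ∀ i, p j₀ i ∣ ∏ j, c j → c j₀ = p j₀ i := by
    intro i hd
    obtain ⟨j, -, hj⟩ := (Prime.dvd_finsetProd_iff (hp j₀ i).prime c).mp hd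
    rcases hc j with h | h | h
    · rw [h] at hj
      exact absurd (Nat.dvd_one.mp hj) (hp j₀ i).one_lt.ne'
    · rw [h] at hj
      have h3 := (Nat.prime_dvd_prime_iff_eq (hp _ _) (hp _ _)).mp hj
      obtain ⟨hj0, -⟩ := hinj _ _ _ _ h3
      subst hj0
      rw [h, ← h3]
    · rw [h] at hj
      have h3 := (Nat.prime_dvd_prime_iff_eq (hp _ _) (hp _ _)).mp hj
      obtain ⟨hj0, -⟩ := hinj _ _ _ _ h3
      subst hj0
      rw [h, ← h3]
  have e1 := key i₁ (hm ▸ dvd_mul_right _ _)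
  have e2 := key i₂ (hm ▸ dvd_mul_left _ _)
  exact hne (hinj _ _ _ _ (e1.symm.trans e2)).2

theorem range_orderOf_eq_of_mulEquiv {X Y : Type*} [Monoid X] [Monoid Y] (e : X ≃* Y) :
    Set.range (orderOf : X → ℕ) = Set.range (orderOf : Y → ℕ) := by
  ext n
  constructor
  · rintro ⟨x, rfl⟩
    exact ⟨e x, e.orderOf_eq x⟩
  · rintro ⟨y, rfl⟩
    exact ⟨e.symm y, e.symm.orderOf_eq y⟩

theorem section_transfer {G : Type*} [Group G] (H : Subgroup G) (N : Subgroup H) [N.Normal]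
    (H' : Subgroup (H ⧸ N)) (N' : Subgroup H') [N'.Normal] :
    ∃ (H'' : Subgroup G) (N'' : Subgroup H'') (_ : N''.Normal),
      Nonempty (H'' ⧸ N'' ≃* H' ⧸ N') := by
  let π : H →* H ⧸ N := QuotientGroup.mk' N
  have hπ : Function.Surjective π := QuotientGroup.mk'_surjective N
  let H₁ : Subgroup H := H'.comap π
  let ψ₁ : H₁ →* H' := π.subgroupComap H'
  have hψ₁ : Function.Surjective ψ₁ := MonoidHom.subgroupComap_surjective_of_surjective π H' hπ
  let e₁ : H₁ ≃* (H₁.map H.subtype) := H₁.equivMapOfInjective H.subtype H.subtype_injective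
  let ψ : (H₁.map H.subtype) →* H' ⧸ N' :=
    (QuotientGroup.mk' N').comp (ψ₁.comp e₁.symm.toMonoidHom)
  have hψ : Function.Surjective ψ := by
    intro z
    obtain ⟨y, rfl⟩ := QuotientGroup.mk'_surjective N' z
    obtain ⟨x, rfl⟩ := hψ₁ y
    refine ⟨e₁ x, ?_⟩
    show QuotientGroup.mk' N' (ψ₁ (e₁.symm (e₁ x))) = _
    rw [MulEquiv.symm_apply_apply]
  exact ⟨H₁.map H.subtype, ψ.ker, inferInstance,
    ⟨QuotientGroup.quotientKerEquivOfSurjective ψ hψ⟩⟩

theorem card_section_lt {X : Type*} [Group X] [Finite X] (H' : Subgroup X) (N' : Subgroup H')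
    [N'.Normal] (h : H' ≠ ⊤ ∨ N' ≠ ⊥) : Nat.card (H' ⧸ N') < Nat.card X := by
  have h1 : Nat.card H' = Nat.card (H' ⧸ N') * Nat.card N' :=
    Subgroup.card_eq_card_quotient_mul_card_subgroup N'
  have h2 : Nat.card H' ≤ Nat.card X := Subgroup.card_le_card_group H'
  have hN : 0 < Nat.card N' := Nat.card_pos
  have hQ : 0 < Nat.card (H' ⧸ N') := Nat.card_pos
  rcases h with h | h
  · have h3 : Nat.card H' ≠ Nat.card X := fun he => h ((Subgroup.card_eq_iff_eq_top H').mp he)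
    have h4 : Nat.card H' < Nat.card X := lt_of_le_of_ne h2 h3
    calc Nat.card (H' ⧸ N') ≤ Nat.card (H' ⧸ N') * Nat.card N' := Nat.le_mul_of_pos_right _ hN
      _ = Nat.card H' := h1.symm
      _ < Nat.card X := h4
  · have h3 : Nat.card N' ≠ 1 := fun he => h (Subgroup.eq_bot_of_card_eq N' he)
    have h4 : 2 ≤ Nat.card N' := by omega
    have h5 : Nat.card (H' ⧸ N') * 2 ≤ Nat.card X := by
      calc Nat.card (H' ⧸ N') * 2 ≤ Nat.card (H' ⧸ N') * Nat.card N' := Nat.mul_le_mul_left _ h4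
        _ = Nat.card H' := h1.symm
        _ ≤ Nat.card X := h2
    omega

theorem exists_critical (G₀ : Type) [Group G₀] [Finite G₀] (Ω : Set ℕ)
    (hΩ : Set.range (orderOf : G₀ → ℕ) = Ω) :
    ∃ (X : Type) (_ : Group X) (_ : Fintype X), (∀ q : ℕ, q.Prime → NQ q G₀ → NQ q X) ∧
      Set.range (orderOf : X → ℕ) = Ω ∧
      ∀ (H : Subgroup X) (N : Subgroup ↥H) [N.Normal], (H ≠ ⊤ ∨ N ≠ ⊥) →
        Set.range (orderOf : (↥H ⧸ N) → ℕ) ≠ Ω := by
  classical
  let P : ℕ → Prop := fun n => ∃ (H : Subgroup G₀) (N : Subgroup H) (_ : N.Normal),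
    Set.range (orderOf : H ⧸ N → ℕ) = Ω ∧ Nat.card (H ⧸ N) = n
  have hex : ∃ n, P n := by
    refine ⟨Nat.card ((⊤ : Subgroup G₀) ⧸ (⊥ : Subgroup (⊤ : Subgroup G₀))), ⊤, ⊥, inferInstance,
      ?_, rfl⟩
    rw [← hΩ]
    exact range_orderOf_eq_of_mulEquiv ((QuotientGroup.quotientBot).trans Subgroup.topEquiv)
  obtain ⟨H, N, hN, hspec, hcard⟩ := Nat.find_spec hex
  have hmin := fun m (hm : m < Nat.find hex) => Nat.find_min hex hm
  refine ⟨H ⧸ N, inferInstance, Fintype.ofFinite _, ?_, hspec, ?_⟩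
  · intro q hq h
    exact (h.subgroup H).quotient hq N
  · intro H' N' _ hprop hsp
    obtain ⟨H'', N'', hN'', ⟨iso⟩⟩ := section_transfer H N H' N'
    have hlt : Nat.card (H' ⧸ N') < Nat.find hex := by
      rw [← hcard]; exact card_section_lt H' N' hprop
    apply hmin _ hlt
    refine ⟨H'', N'', hN'', ?_, Nat.card_congr iso.toEquiv⟩
    rw [← hsp]
    exact range_orderOf_eq_of_mulEquiv iso

theorem result (s : ℕ) (hs : 1 ≤ s) (p : Fin s → Fin 2 → ℕ)
    (hp : ∀ j i, (p j i).Prime) (hinj : ∀ j i j' i', p j i = p j' i' → j = j' ∧ i = i') :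
    ∃ (G : Fin (2 ^ s) → Type) (_ : ∀ a, Group (G a)) (_ : ∀ a, Fintype (G a)),
      (∀ a b, a ≠ b → ¬ Nonempty (G a ≃* G b)) ∧
      ∀ a, Set.range (orderOf : (G a) → ℕ) = {m : ℕ | ∃ c : Fin s → ℕ, (∀ j, c j = 1 ∨ c j = p j 0 ∨ c j = p j 1) ∧ m = ∏ j, c j} ∧
      ∀ (H : Subgroup (G a)) (N : Subgroup ↥H) [N.Normal], (H ≠ ⊤ ∨ N ≠ ⊥) → Set.range (orderOf : (↥H ⧸ N) → ℕ) ≠ {m : ℕ | ∃ c : Fin s → ℕ, (∀ j, c j = 1 ∨ c j = p j 0 ∨ c j = p j 1) ∧ m = ∏ j, c j} := by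
  classical
  let e : Fin (2 ^ s) ≃ (Fin s → Fin 2) := finFunctionFinEquiv.symm
  have hΩ : ∀ a, Set.range (orderOf : (∀ j, Fac p hp hinj (e a) j) → ℕ) = Om p := fun a =>
    spectrum_pi p hp hinj (fun j => Fac p hp hinj (e a) j) (fac_orders p hp hinj (e a))
      (fac_exists p hp hinj (e a))
  choose X hG hF hNQ hspec hcrit using
    fun a => exists_critical (∀ j, Fac p hp hinj (e a) j) (Om p) (hΩ a)
  refine ⟨X, hG, hF, ?_, fun a => ⟨hspec a, hcrit a⟩⟩
  rintro a b hab ⟨φ⟩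
  have hne : e a ≠ e b := fun h => hab (e.injective h)
  obtain ⟨j₀, hj₀⟩ : ∃ j, e a j ≠ e b j := Function.ne_iff.mp hne
  have hℓ : p j₀ (e a j₀) ≠ p j₀ (e b j₀) := fun h => hj₀ (hinj _ _ _ _ h).2
  have hfac : ∀ (c : Fin (2 ^ s)), NQ (p j₀ (e c j₀)) (X c) := by
    intro c
    apply hNQ c _ (hp _ _)
    apply NQ.pi
    intro j
    apply fac_NQ p hp hinj (e c) j _ (hp _ _)
    intro h
    obtain ⟨h1, h2⟩ := hinj _ _ _ _ h
    subst h1
    exact oth_ne _ h2.symm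
  have hN1 : NQ (p j₀ (e a j₀)) (X a) := hfac a
  have hN2 : NQ (p j₀ (e b j₀)) (X a) := (hfac b).of_mulEquiv φ.symm
  obtain ⟨x, hx⟩ : ∃ x : X a, orderOf x = p j₀ (e a j₀) := by
    have := prime_mem_Om p j₀ (e a j₀)
    rw [← hspec a] at this
    exact this
  obtain ⟨y, hy⟩ : ∃ y : X a, orderOf y = p j₀ (e b j₀) := by
    have := prime_mem_Om p j₀ (e b j₀)
    rw [← hspec a] at this
    exact this
  obtain ⟨z, hz⟩ := exists_orderOf_mul (hp _ _) (hp _ _) hℓ hN1 hN2 x y hx hy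
  have hmem : p j₀ (e a j₀) * p j₀ (e b j₀) ∈ Om p := by
    rw [← hspec a]
    exact ⟨z, hz⟩
  exact not_mem_Om p hp hinj j₀ _ _ hj₀ hmem

end Cfsg.Agent.S3599
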