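import Cfsg.Statements.S3619

set_option autoImplicit false
open Cfsg

namespace Cfsg.Agent.S3619

open MulAction SubMulAction
open scoped Pointwise

/-- A quasiprimitive action with a primitive Jordan set is primitive. -/
theorem isPreprimitive_of_quasi {G Ω : Type*} [Group G] [MulAction G Ω] [FaithfulSMul G Ω]
    (hqp : ∀ N : Subgroup G, N.Normal → N ≠ ⊥ → MulAction.IsPretransitive ↥N Ω)
    (Γ : Set Ω) (hΓ1 : 1 < Γ.ncard)
    (hJp : MulAction.IsPreprimitive ↥(fixingSubgroup G Γᶜ) ↥(SubMulAction.ofFixingSubgroup G Γᶜ)) :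
    MulAction.IsPreprimitive G Ω := by
  have hJ : MulAction.IsPretransitive ↥(fixingSubgroup G Γᶜ) ↥(SubMulAction.ofFixingSubgroup G Γᶜ) :=
    hJp.toIsPretransitive
  obtain ⟨a, b, ha, hb, hab⟩ := (Set.one_lt_ncard_iff (Γ.finite_of_ncard_pos (by omega))).mp hΓ1
  have ha' : a ∈ SubMulAction.ofFixingSubgroup G Γᶜ := by
    rw [mem_ofFixingSubgroup_iff]; simpa using ha
  have hb' : b ∈ SubMulAction.ofFixingSubgroup G Γᶜ := by
    rw [mem_ofFixingSubgroup_iff]; simpa using hb
  obtain ⟨j₀, hj₀⟩ := hJ.exists_smul_eq (⟨a, ha'⟩ : SubMulAction.ofFixingSubgroup G Γᶜ) ⟨b, hb'⟩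
  have hj₀ab : (j₀ : G) • a = b := congrArg Subtype.val hj₀
  have hj₀1 : (j₀ : G) ≠ 1 := by
    intro h
    rw [h, one_smul] at hj₀ab
    exact hab hj₀ab
  have htop : (⊤ : Subgroup G) ≠ ⊥ := by
    intro h
    have : (j₀ : G) ∈ (⊥ : Subgroup G) := h ▸ Subgroup.mem_top _
    exact hj₀1 (Subgroup.mem_bot.mp this)
  have htr : MulAction.IsPretransitive G Ω := by
    have := hqp ⊤ inferInstance htop
    constructor
    intro x y
    obtain ⟨g, hg⟩ := this.exists_smul_eq x y
    exact ⟨(g : G), hg⟩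
  refine { toIsPretransitive := htr, isTrivialBlock_of_isBlock := ?_ }
  intro B hB
  by_contra hBt
  unfold IsTrivialBlock at hBt
  push Not at hBt
  obtain ⟨hBs, hBu⟩ := hBt
  -- the kernel of the action on translates of B
  let N : Subgroup G := ⨅ h : G, MulAction.stabilizer G (h • B)
  have hNmem : ∀ g : G, g ∈ N ↔ ∀ h : G, g • h • B = h • B := by
    intro g
    simp only [N, Subgroup.mem_iInf, MulAction.mem_stabilizer_iff]
  have hNn : N.Normal := by
    constructor
    intro n hn g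
    rw [hNmem] at hn ⊢
    intro h
    have := hn (g⁻¹ * h)
    rw [mul_smul, mul_smul, ← mul_smul g⁻¹ h, this, smul_smul, mul_inv_cancel_left]
  have hN : N = ⊥ := by
    by_contra hN
    have htrN := hqp N hNn hN
    obtain ⟨b₀, hb₀⟩ : B.Nonempty := hBs.nonempty
    obtain ⟨c, hc⟩ : ∃ c, c ∉ B := by
      by_contra hne
      push Not at hne
      exact hBu (Set.eq_univ_of_forall hne)
    obtain ⟨n, hn⟩ := htrN.exists_smul_eq b₀ c
    have h1 := (hNmem n).mp n.2 1
    rw [one_smul] at h1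
    apply hc
    rw [← hn, ← h1]
    exact Set.smul_mem_smul_set hb₀
  -- J ≤ N
  have hj₀N : (j₀ : G) ∈ N := by
    rw [hNmem]
    intro h
    have hC : IsBlock G (h • B) := hB.translate h
    apply hC.smul_eq_of_nonempty
    by_cases hex : ∃ δ ∈ h • B, δ ∉ Γ
    · obtain ⟨δ, hδC, hδΓ⟩ := hex
      refine ⟨δ, ?_, hδC⟩
      have : (j₀ : G) • δ = δ := (mem_fixingSubgroup_iff G).mp j₀.2 δ (by simpa using hδΓ)
      rw [← this]
      exact Set.smul_mem_smul_set hδC
    · push Not at hex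
      -- h • B ⊆ Γ : it induces a block of J on Γ
      have hC' : IsBlock ↥(fixingSubgroup G Γᶜ)
          (Subtype.val ⁻¹' (h • B) : Set ↥(SubMulAction.ofFixingSubgroup G Γᶜ)) :=
        (hC.subgroup (H := fixingSubgroup G Γᶜ)).subtype_val_preimage
      rcases hJp.isTrivialBlock_of_isBlock hC' with hsub | huniv
      · exfalso
        obtain ⟨x, hx, y, hy, hxy⟩ := hBs
        apply hxy
        have hx' : h • x ∈ h • B := Set.smul_mem_smul_set hx
        have hy' : h • y ∈ h • B := Set.smul_mem_smul_set hy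
        have hxΓ : h • x ∈ SubMulAction.ofFixingSubgroup G Γᶜ := by
          rw [mem_ofFixingSubgroup_iff]; simpa using hex _ hx'
        have hyΓ : h • y ∈ SubMulAction.ofFixingSubgroup G Γᶜ := by
          rw [mem_ofFixingSubgroup_iff]; simpa using hex _ hy'
        have := hsub (x := ⟨h • x, hxΓ⟩) hx' (y := ⟨h • y, hyΓ⟩) hy'
        have h2 : h • x = h • y := congrArg Subtype.val this
        exact MulAction.injective h h2
      · have hΓC : ∀ x ∈ Γ, x ∈ h • B := by
          intro x hx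
          have hx' : x ∈ SubMulAction.ofFixingSubgroup G Γᶜ := by
            rw [mem_ofFixingSubgroup_iff]; simpa using hx
          have : (⟨x, hx'⟩ : SubMulAction.ofFixingSubgroup G Γᶜ) ∈
              (Subtype.val ⁻¹' (h • B) : Set ↥(SubMulAction.ofFixingSubgroup G Γᶜ)) := by
            rw [huniv]; exact Set.mem_univ _
          exact this
        refine ⟨b, ?_, hΓC b hb⟩
        rw [← hj₀ab]
        exact Set.smul_mem_smul_set (hΓC a ha)
  rw [hN, Subgroup.mem_bot] at hj₀N
  exact hj₀1 hj₀N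

theorem result {G Ω : Type*} [Group G] [Finite G] [MulAction G Ω] [FaithfulSMul G Ω] [Finite Ω]
    (hqp : ∀ N : Subgroup G, N.Normal → N ≠ ⊥ → MulAction.IsPretransitive ↥N Ω)
    (Γ : Set Ω) (hΓ1 : 1 < Γ.ncard) (hΓ2 : Γ.ncard < Nat.card Ω)
    (hJ : MulAction.IsPretransitive ↥(fixingSubgroup G Γᶜ) ↥(SubMulAction.ofFixingSubgroup G Γᶜ))
    (hJp : MulAction.IsPreprimitive ↥(fixingSubgroup G Γᶜ) ↥(SubMulAction.ofFixingSubgroup G Γᶜ)) :
    MulAction.IsMultiplyPretransitive G Ω (Nat.card Ω - Γ.ncard + 1) := by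
  have hG := isPreprimitive_of_quasi hqp Γ hΓ1 hJp
  have hcompl : (Γᶜ).ncard = Nat.card Ω - Γ.ncard := by
    have := Set.ncard_add_ncard_compl Γ
    omega
  have hsn : (Γᶜ).ncard = (Nat.card Ω - Γ.ncard - 1) + 1 := by omega
  have hsn' : (Nat.card Ω - Γ.ncard - 1) + 2 < Nat.card Ω := by omega
  have h := hG.isMultiplyPreprimitive hsn hsn' hJp
  have e : Nat.card Ω - Γ.ncard + 1 = (Nat.card Ω - Γ.ncard - 1) + 2 := by omega
  rw [e]
  exact h.isMultiplyPretransitive

end Cfsg.Agent.S3619
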