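-- Statement S3620: Marggraf's theorem for quasiprimitive groups with a small Jordan set.
import Cfsg.Statements.S3620
import Cfsg.Agent.Lib.Helper11.MargG

set_option autoImplicit false
open Cfsg

namespace Cfsg.Agent.S3620

open Cfsg.Agent.Lib.Helper11.Marg

/-- Let G act faithfully on a finite set in such a way that every non-trivial normal subgroup of G is transitive (G is quasiprimitive). Let Γ be a subset with more than one point and fewer than half of the points, such that the pointwise stabilizer of the complement of Γ acts transitively on Γ. Then G induces every even permutation of the set (G is the alternating or the symmetric group). -/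
theorem result {G Ω : Type*} [Group G] [Finite G] [MulAction G Ω] [FaithfulSMul G Ω] [Fintype Ω] [DecidableEq Ω]
    (hqp : ∀ N : Subgroup G, N.Normal → N ≠ ⊥ → MulAction.IsPretransitive ↥N Ω)
    (Γ : Set Ω) (hΓ1 : 1 < Γ.ncard) (hΓ2 : 2 * Γ.ncard < Fintype.card Ω)
    (hJ : MulAction.IsPretransitive ↥(fixingSubgroup G Γᶜ) ↥(SubMulAction.ofFixingSubgroup G Γᶜ)) :
    ∀ σ : Equiv.Perm Ω, Equiv.Perm.sign σ = 1 → ∃ x : G, (MulAction.toPerm x : Equiv.Perm Ω) = σ := by
  classical
  have hφinj : Function.Injective (MulAction.toPermHom G Ω) := MulAction.toPerm_injective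
  -- quasiprimitivity of the image
  have hQP : QP (MulAction.toPermHom G Ω).range := by
    intro N' hN'le hN'norm hN'ne a b
    have hnormal : (N'.comap (MulAction.toPermHom G Ω)).Normal := by
      constructor
      intro x hx g
      rw [Subgroup.mem_comap] at hx ⊢
      rw [map_mul, map_mul, map_inv]
      exact hN'norm _ ⟨g, rfl⟩ _ hx
    have hne : N'.comap (MulAction.toPermHom G Ω) ≠ ⊥ := by
      intro hbot
      apply hN'ne
      rw [eq_bot_iff]
      intro σ hσ
      obtain ⟨g, rfl⟩ := hN'le hσ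
      have : g ∈ N'.comap (MulAction.toPermHom G Ω) := hσ
      rw [hbot, Subgroup.mem_bot] at this
      rw [this, map_one]
      exact Subgroup.one_mem _
    haveI := hqp _ hnormal hne
    obtain ⟨x, hx⟩ := MulAction.exists_smul_eq (↥(N'.comap (MulAction.toPermHom G Ω))) a b
    exact ⟨MulAction.toPermHom G Ω x.1, x.2, hx⟩
  -- the Jordan set
  have hcard : Γ.toFinset.card = Γ.ncard := (Set.ncard_eq_toFinset_card' Γ).symm
  have hJ' : ∀ x ∈ Γ.toFinset, ∀ y ∈ Γ.toFinset, ∃ g ∈ (MulAction.toPermHom G Ω).range,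
      (∀ z, z ∉ Γ.toFinset → g z = z) ∧ g x = y := by
    intro x hx y hy
    rw [Set.mem_toFinset] at hx hy
    have hx' : x ∈ SubMulAction.ofFixingSubgroup G Γᶜ := by
      rw [SubMulAction.mem_ofFixingSubgroup_iff]
      exact fun h => h hx
    have hy' : y ∈ SubMulAction.ofFixingSubgroup G Γᶜ := by
      rw [SubMulAction.mem_ofFixingSubgroup_iff]
      exact fun h => h hy
    obtain ⟨k, hk⟩ := MulAction.exists_smul_eq (↥(fixingSubgroup G Γᶜ))
      (⟨x, hx'⟩ : ↥(SubMulAction.ofFixingSubgroup G Γᶜ)) ⟨y, hy'⟩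
    refine ⟨MulAction.toPermHom G Ω k.1, ⟨k.1, rfl⟩, ?_, ?_⟩
    · intro z hz
      rw [Set.mem_toFinset] at hz
      exact (mem_fixingSubgroup_iff G).mp k.2 z hz
    · exact congrArg Subtype.val hk
  have hAlt := marggraf_qp (MulAction.toPermHom G Ω).range hQP Γ.toFinset
    (by rw [hcard]; exact hΓ1) (by rw [hcard]; exact hΓ2) hJ'
  intro σ hσ
  obtain ⟨x, hx⟩ := hAlt (Equiv.Perm.mem_alternatingGroup.mpr hσ)
  exact ⟨x, hx⟩

end Cfsg.Agent.S3620
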