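import Cfsg.Statements.S3622

set_option autoImplicit false
open Cfsg

namespace Cfsg.Agent.S3622

theorem result {Ω : Type*} [Finite Ω] (G : Subgroup (Equiv.Perm Ω)) (m : ℕ) (hm : 2 ≤ m) (α : Ω)
    (hclosed : ∀ σ : Equiv.Perm Ω,
      (∀ t : Fin (m - 1) → Ω, ∃ g ∈ MulAction.stabilizer ↥G α, ∀ i, (g : Equiv.Perm Ω) (t i) = σ (t i)) →
      σ ∈ G ∧ σ α = α) :
    ∀ σ : Equiv.Perm Ω, (∀ t : Fin m → Ω, ∃ g ∈ G, ∀ i, g (t i) = σ (t i)) → σ ∈ G := by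
  intro σ hσ
  obtain ⟨g0, hg0, hg0σ⟩ := hσ (fun _ => α)
  have hg0α : g0 α = σ α := hg0σ ⟨0, by omega⟩
  have hτ : (g0⁻¹ * σ) ∈ G ∧ (g0⁻¹ * σ) α = α := by
    apply hclosed
    intro t
    let t' : Fin m → Ω := fun i => if h : i.val < m - 1 then t ⟨i.val, h⟩ else α
    obtain ⟨g, hg, hgt⟩ := hσ t'
    have hgα : g α = σ α := by
      have := hgt ⟨m - 1, by omega⟩
      simpa [t'] using this
    refine ⟨⟨g0⁻¹ * g, G.mul_mem (G.inv_mem hg0) hg⟩, ?_, ?_⟩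
    · rw [MulAction.mem_stabilizer_iff]
      show (g0⁻¹ * g) α = α
      rw [Equiv.Perm.mul_apply, hgα, ← hg0α]
      simp
    · intro i
      have := hgt ⟨i.val, by omega⟩
      have ht' : t' ⟨i.val, by omega⟩ = t i := by
        simp [t']
      rw [ht'] at this
      show (g0⁻¹ * g) (t i) = (g0⁻¹ * σ) (t i)
      rw [Equiv.Perm.mul_apply, Equiv.Perm.mul_apply, this]
  have : σ = g0 * (g0⁻¹ * σ) := by group
  rw [this]
  exact G.mul_mem hg0 hτ.1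

end Cfsg.Agent.S3622
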