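import Cfsg.Statements.S3626
import Cfsg.Agent.S3444
import Cfsg.Agent.Lib.Helper26.ReeCubeFinal

set_option autoImplicit false
open Cfsg

namespace Cfsg.Agent.S3626

/-- Let R be the small Ree group over the field with q = 3^(2m+1) ≥ 27 elements. Then there are finite groups of arbitrarily large order with exactly the same set of element orders as R × R × R. -/
theorem result {K : Type*} [Field K] [Fintype K] {m : ℕ} (hm : 1 ≤ m) (hK : Fintype.card K = 3 ^ (2 * m + 1)) (N : ℕ) :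
    ∃ (H : Type) (_ : Group H) (_ : Fintype H), N < Fintype.card H ∧
      Set.range (orderOf : H → ℕ) = Set.range (orderOf : ↥(Cfsg.Lie.twistedG2 K (3 ^ m)) × ↥(Cfsg.Lie.twistedG2 K (3 ^ m)) × ↥(Cfsg.Lie.twistedG2 K (3 ^ m)) → ℕ) := by
  have := Cfsg.Agent.Lib.Helper8.Chev.charP_three_of_card hK
  have hfin : Finite (Cfsg.Agent.Lib.Helper26.ReeCube.EE K) :=
    Finite.of_equiv _ SemidirectProduct.equivProd.symm
  obtain ⟨H, iG, iF, hN, hr⟩ := Cfsg.Agent.S3444.result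
    (G := ↥(Cfsg.Lie.twistedG2 K (3 ^ m)) × ↥(Cfsg.Lie.twistedG2 K (3 ^ m)) ×
      Cfsg.Agent.Lib.Helper26.ReeCube.EE K)
    (Cfsg.Agent.Lib.Helper26.ReeCube.kerSub K (↥(Cfsg.Lie.twistedG2 K (3 ^ m))))
    (Cfsg.Agent.Lib.Helper26.ReeCube.kerSub_ne_bot K _)
    (Cfsg.Agent.Lib.Helper26.ReeCube.kerSub_solvable K _) N
  exact ⟨H, iG, iF, hN, hr.trans (Cfsg.Agent.Lib.Helper26.ReeCube.range_eq hm hK)⟩

end Cfsg.Agent.S3626
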