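import Cfsg.Statements.S3633
import Cfsg.Agent.Lib.Helper20.ThreePrimes
import Cfsg.Agent.Lib.Helper9.Signalizer

set_option autoImplicit false
open Cfsg

namespace Cfsg.Agent.S3633

open Cfsg.Agent.Lib.Helper20.ThreePrimes

theorem aux {G : Type*} [Group G] [Finite G] (ρ : Finset ℕ) (hρ : 3 ≤ ρ.card)
    (hc1 : ∀ r ∈ ρ, r.Prime ∧ r ∣ Nat.card G)
    (hc2 : ∀ r ∈ ρ, ∀ s ∈ ρ, r ≠ s → ¬ ∃ x : G, orderOf x = r * s)
    (K : Subgroup G) [K.Normal] (hK : Group.IsSolvable ↥K) :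
    ∀ r ∈ ρ, ∀ s ∈ ρ, r ∣ Nat.card ↥K → s ∣ Nat.card ↥K → r = s := by
  intro r hr s hs hrK hsK
  by_contra hrs
  -- third prime
  have hne : ((ρ.erase r).erase s).Nonempty := by
    rw [← Finset.card_pos]
    have h1 : (ρ.erase r).card = ρ.card - 1 := Finset.card_erase_of_mem hr
    have h2 : ((ρ.erase r).erase s).card = (ρ.erase r).card - 1 :=
      Finset.card_erase_of_mem (Finset.mem_erase.mpr ⟨Ne.symm hrs, hs⟩)
    omega
  obtain ⟨u, hu⟩ := hne
  rw [Finset.mem_erase, Finset.mem_erase] at hu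
  obtain ⟨hus, hur, huρ⟩ := hu
  have hrp := (hc1 r hr).1
  have hsp := (hc1 s hs).1
  have hup := (hc1 u huρ).1
  haveI : Fact u.Prime := ⟨hup⟩
  obtain ⟨y, hy⟩ := exists_prime_orderOf_dvd_card' u (hc1 u huρ).2
  -- X = K ⊔ ⟨y⟩ is solvable
  have hYsolv : Group.IsSolvable ↥(Subgroup.zpowers y) := inferInstance
  have hnorm : Subgroup.zpowers y ≤ Subgroup.normalizer (K : Set G) := by
    rw [Subgroup.normalizer_eq_top]; exact le_top
  have hX : Group.IsSolvable ↥(K ⊔ Subgroup.zpowers y) :=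
    Cfsg.Agent.Lib.Helper9.isSolvable_sup_of_le_normalizer hK hYsolv hnorm
  haveI := hX
  have hrX : r ∣ Nat.card ↥(K ⊔ Subgroup.zpowers y) :=
    hrK.trans (Subgroup.card_dvd_of_le le_sup_left)
  have hsX : s ∣ Nat.card ↥(K ⊔ Subgroup.zpowers y) :=
    hsK.trans (Subgroup.card_dvd_of_le le_sup_left)
  have huX : u ∣ Nat.card ↥(K ⊔ Subgroup.zpowers y) := by
    have : Nat.card ↥(Subgroup.zpowers y) = u := by rw [Nat.card_zpowers, hy]
    rw [← this]
    exact Subgroup.card_dvd_of_le le_sup_right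
  rcases three_primes hrp hsp hup hrs (Ne.symm hur) (Ne.symm hus) hrX hsX huX with
    ⟨g, hg⟩ | ⟨g, hg⟩ | ⟨g, hg⟩
  · exact hc2 r hr s hs hrs ⟨(g : G), by rw [Subgroup.orderOf_coe, hg]⟩
  · exact hc2 r hr u huρ (Ne.symm hur) ⟨(g : G), by rw [Subgroup.orderOf_coe, hg]⟩
  · exact hc2 s hs u huρ (Ne.symm hus) ⟨(g : G), by rw [Subgroup.orderOf_coe, hg]⟩

/-- Let G be a finite group and ρ a set of at least three prime divisors of the order of G that are pairwise non-adjacent in the prime graph (no element of order rs for distinct r, s ∈ ρ). Then at most one prime of ρ divides the order of any given solvable normal subgroup of G; in particular G is not solvable. -/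
theorem result {G : Type*} [Group G] [Finite G] (ρ : Finset ℕ) (hρ : 3 ≤ ρ.card) (hc : ((∀ r ∈ ρ, r.Prime ∧ r ∣ Nat.card G) ∧ (∀ r ∈ ρ, ∀ s ∈ ρ, r ≠ s → ¬ ∃ x : G, orderOf x = r * s)))
    (K : Subgroup G) [K.Normal] (hK : Group.IsSolvable ↥K) :
    (∀ r ∈ ρ, ∀ s ∈ ρ, r ∣ Nat.card ↥K → s ∣ Nat.card ↥K → r = s) ∧ ¬ Group.IsSolvable G := by
  refine ⟨aux ρ hρ hc.1 hc.2 K hK, ?_⟩
  intro hG
  have htop : Group.IsSolvable ↥(⊤ : Subgroup G) :=
    Group.isSolvable_of_isSolvable_injective (f := (⊤ : Subgroup G).subtype) Subtype.val_injective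
  have h := aux ρ hρ hc.1 hc.2 ⊤ htop
  have hcard : Nat.card ↥(⊤ : Subgroup G) = Nat.card G := Subgroup.card_top
  have hle : ρ.card ≤ 1 := by
    rw [Finset.card_le_one]
    intro a ha b hb
    exact h a ha b hb (by rw [hcard]; exact (hc.1 a ha).2) (by rw [hcard]; exact (hc.1 b hb).2)
  omega

end Cfsg.Agent.S3633
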