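import Mathlib
import Cfsg.Statements.S3634
import Cfsg.Agent.Lib.Helper20.ThreePrimes

set_option autoImplicit false
open Cfsg

namespace Cfsg.Agent.S3634

open Subgroup Cfsg.Agent.Lib.Helper1 Cfsg.Agent.Lib.Helper20.ThreePrimes

/-- Let G be a finite group with normal subgroups K ≤ M, and let p, q, r be distinct primes with p dividing the order of K, q dividing the order of M/K and r dividing the order of G/M. Then p, q, r are not pairwise non-adjacent in the prime graph of G: G has an element of order pq, pr or qr. -/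
theorem result {G : Type*} [Group G] [Finite G] (K M : Subgroup G) [K.Normal] [M.Normal] (hKM : K ≤ M)
    (p q r : ℕ) (hp : p.Prime) (hq : q.Prime) (hr : r.Prime) (hpq : p ≠ q) (hpr : p ≠ r) (hqr : q ≠ r)
    (hpK : p ∣ Nat.card ↥K) (hqM : q ∣ Nat.card ↥M / Nat.card ↥K) (hrG : r ∣ Nat.card G / Nat.card ↥M) :
    (∃ x : G, orderOf x = p * q) ∨ (∃ x : G, orderOf x = p * r) ∨ (∃ x : G, orderOf x = q * r) := by
  haveI := Fact.mk hp
  haveI := Fact.mk hq
  haveI := Fact.mk hr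
  -- Sylow `p`-subgroup `T` of `K` and its normalizer `N₁`
  obtain ⟨T⟩ := sylSet_nonempty p K
  have hT1 : T.1 ≠ ⊥ := sylSet_ne_bot T hpK
  have hTp : IsPGroup p T.1 := sylSet_isPGroup T
  set N₁ := normalizer (T.1 : Set G) with hN₁
  have hfr1 : (⊤ : Subgroup G) ≤ (N₁ ⊓ ⊤) ⊔ K :=
    frattini_sylSet (A := ⊤) (B := K) le_top (by rw [normalizer_eq_top]; ) T
  have hfr1' : N₁ ⊔ K = ⊤ := by
    rw [eq_top_iff]
    refine hfr1.trans (sup_le_sup_right inf_le_left K)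
  -- `M₁ = M ∩ N₁`
  set M₁ := M ⊓ N₁ with hM₁
  have hMsup : M₁ ⊔ K = M := by
    apply le_antisymm (sup_le inf_le_left hKM)
    intro m hm
    have hm' : m ∈ N₁ ⊔ K := by rw [hfr1']; trivial
    obtain ⟨n, hn, k, hk, rfl⟩ := mem_sup_of_normal_right.mp hm'
    refine mul_mem_sup (mem_inf.mpr ⟨?_, hn⟩) hk
    have : n = n * k * k⁻¹ := by group
    rw [this]
    exact mul_mem hm (inv_mem (hKM hk))
  have hqM₁ : q ∣ Nat.card M₁ := hqM.trans (card_div_dvd_of_sup_eq hMsup)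
  -- Sylow `q`-subgroup `Q` of `M₁`
  obtain ⟨Q⟩ := sylSet_nonempty q M₁
  have hQ1 : Q.1 ≠ ⊥ := sylSet_ne_bot Q hqM₁
  have hQq : IsPGroup q Q.1 := sylSet_isPGroup Q
  have hN₁M₁ : N₁ ≤ normalizer (M₁ : Set G) := by
    refine le_trans ?_ inf_normalizer_le_normalizer_inf
    refine le_inf ?_ le_normalizer
    rw [normalizer_eq_top]
    exact le_top
  have hfr2 : N₁ ≤ (normalizer (Q.1 : Set G) ⊓ N₁) ⊔ M₁ :=
    frattini_sylSet (A := N₁) (B := M₁) inf_le_right hN₁M₁ Q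
  set N₂ := normalizer (Q.1 : Set G) ⊓ N₁ with hN₂
  have htop : N₂ ⊔ M = ⊤ := by
    rw [eq_top_iff, ← hfr1']
    refine sup_le (hfr2.trans (sup_le_sup_left inf_le_left N₂)) (hKM.trans le_sup_right)
  have hrN₂ : r ∣ Nat.card N₂ := by
    have h1 := card_div_dvd_of_sup_eq htop
    rw [Subgroup.card_top] at h1
    exact hrG.trans h1
  obtain ⟨y', hy'⟩ := exists_prime_orderOf_dvd_card' r hrN₂
  have hy : orderOf (y' : G) = r := by rw [Subgroup.orderOf_coe]; exact hy'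
  have hyN₂ : (y' : G) ∈ N₂ := y'.2
  obtain ⟨hyQ, hyN₁⟩ := mem_inf.mp hyN₂
  -- apply the core lemma
  refine core hp hq hr hpq hpr hqr (omegaZ T.1 p) (omegaZ Q.1 q) (y' : G)
    (omegaZ_comm _ _) (hTp.to_le (omegaZ_le _ _)) (omegaZ_ne_bot hTp hT1)
    (omegaZ_comm _ _) (omegaZ_exp _ _) (omegaZ_ne_bot hQq hQ1) hy ?_ ?_ ?_
  · refine le_trans ?_ (normalizer_le_normalizer_omegaZ T.1 p)
    exact (omegaZ_le _ _).trans (Q.2.1.trans inf_le_right)
  · exact normalizer_le_normalizer_omegaZ T.1 p hyN₁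
  · exact normalizer_le_normalizer_omegaZ Q.1 q hyQ

end Cfsg.Agent.S3634
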