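import Mathlib
import Cfsg.Statements.S3639
import Cfsg.Agent.Lib.Helper3.SzFpf2
import Cfsg.Agent.Lib.Helper3.PrimeGraphExt
import Cfsg.Agent.Lib.Helper3.SzBridge
import Cfsg.Agent.Lib.Helper3.SzFix1

set_option autoImplicit false
open Cfsg

namespace Cfsg.Agent.S3639

open Cfsg.Agent.Lib.Helper3.Sz Cfsg.Agent.Lib.Helper3.PrimeGraphExt

universe u v w

/-- a copy of `Fin k` without algebraic structure -/
structure Box (k : ℕ) : Type where
  /-- the underlying element -/
  val : Fin k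

/-- `Box k` is equivalent to `Fin k` -/
def boxEquiv (k : ℕ) : Box k ≃ Fin k := ⟨Box.val, Box.mk, fun _ => rfl, fun _ => rfl⟩

instance (k : ℕ) : Fintype (Box k) := Fintype.ofEquiv _ (boxEquiv k).symm

lemma card_box (k : ℕ) : Fintype.card (Box k) = k := by
  rw [Fintype.card_congr (boxEquiv k), Fintype.card_fin]

lemma final_aux {S : Type u} [Group S] [Finite S] {L : Type v} [Group L] (e : L ≃* S)
    {H : Type w} [Group H] [Finite H] (k : ℕ) (hcard : Nat.card H = 2 ^ k * Nat.card S)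
    (h2 : 2 ∣ Nat.card S)
    (hedge : ∀ r s : ℕ, r.Prime → s.Prime → r ≠ s →
      ((∃ x : S, orderOf x = r * s) ↔ (∃ y : H, orderOf y = r * s)))
    (N : ℕ) (hN : N < Nat.card H) :
    ∃ (H0 : Type) (_ : Group H0) (_ : Fintype H0), N < Fintype.card H0 ∧
      ((∀ r : ℕ, r.Prime → (r ∣ Nat.card L ↔ r ∣ Nat.card H0)) ∧
      (∀ r s : ℕ, r.Prime → s.Prime → r ≠ s →
        ((∃ x : L, orderOf x = r * s) ↔ (∃ y : H0, orderOf y = r * s)))) := by
  obtain ⟨e0⟩ : Nonempty (Box (Nat.card H) ≃ H) :=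
    ⟨(boxEquiv _).trans (Finite.equivFin H).symm⟩
  let _ : Group (Box (Nat.card H)) := e0.group
  have hmul : ∀ a b : Box (Nat.card H), e0 (a * b) = e0 a * e0 b := by
    intro a b
    show e0 (e0.symm (e0 a * e0 b)) = e0 a * e0 b
    exact e0.apply_symm_apply _
  have e1 : Box (Nat.card H) ≃* H := MulEquiv.mk e0 hmul
  refine ⟨Box (Nat.card H), e0.group, inferInstance, ?_, ?_, ?_⟩
  · rw [card_box]; exact hN
  · intro r hr
    rw [Nat.card_congr e.toEquiv, Nat.card_congr e1.toEquiv, hcard]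
    constructor
    · intro h; exact dvd_mul_of_dvd_right h _
    · intro h
      rcases (Nat.Prime.dvd_mul hr).1 h with h | h
      · have := hr.dvd_of_dvd_pow h
        have : r = 2 := (Nat.prime_dvd_prime_iff_eq hr Nat.prime_two).1 this
        rw [this]; exact h2
      · exact h
  · intro r s hr hs hrs
    constructor
    · rintro ⟨x, hx⟩
      obtain ⟨y, hy⟩ := (hedge r s hr hs hrs).1 ⟨e x, by rw [MulEquiv.orderOf_eq, hx]⟩
      exact ⟨e1.symm y, by rw [MulEquiv.orderOf_eq, hy]⟩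
    · rintro ⟨y, hy⟩
      obtain ⟨x, hx⟩ := (hedge r s hr hs hrs).2 ⟨e1 y, by rw [MulEquiv.orderOf_eq, hy]⟩
      exact ⟨e.symm x, by rw [MulEquiv.orderOf_eq, hx]⟩

/-- Let S be the Suzuki group over the field with q = 2^(2m+1) ≥ 8 elements. Then there are finite groups of arbitrarily large order with the same prime graph as S. -/
theorem result {F : Type*} [Field F] [Fintype F] {m : ℕ} (hm : 1 ≤ m) (hF : Fintype.card F = 2 ^ (2 * m + 1)) (N : ℕ) :
    ∃ (H : Type) (_ : Group H) (_ : Fintype H), N < Fintype.card H ∧ ((∀ r : ℕ, r.Prime → (r ∣ Nat.card ↥(Cfsg.Lie.Sz F (2 ^ (m + 1))) ↔ r ∣ Nat.card H)) ∧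
      (∀ r s : ℕ, r.Prime → s.Prime → r ≠ s → ((∃ x : ↥(Cfsg.Lie.Sz F (2 ^ (m + 1))), orderOf x = r * s) ↔ (∃ y : H, orderOf y = r * s)))) := by
  have hfin : Finite (Sz F m) := finite_Sz
  have h2 : ∀ a : Fin N → Fin 4 → F, a + a = 0 := by
    intro a
    ext i j
    have := two_eq_zero hF
    show a i j + a i j = 0
    linear_combination (a i j) * this
  have hfpf : ∀ g : Sz F m, Odd (orderOf g) → g ≠ 1 → ∀ a : Fin N → Fin 4 → F, g • a = a → a = 0 := by
    intro g hodd hg1 a ha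
    ext i : 1
    exact fpf_of_odd hF hm g hodd hg1 (a i) (congrFun ha i)
  have hcent : ∀ g t : Sz F m, Odd (orderOf g) → g ≠ 1 → t * t = 1 → Commute g t → t = 1 := by
    intro g t hodd hg1 ht hc
    have h4 : g ^ 4 ≠ 1 := by
      intro h
      have h1 : orderOf g ∣ 4 := orderOf_dvd_of_pow_eq_one h
      have hc : Nat.Coprime (orderOf g) 4 :=
        Nat.Coprime.pow_right 2 (Nat.coprime_two_right.2 hodd)
      exact hg1 (orderOf_eq_one_iff.1 (Nat.eq_one_of_dvd_coprimes hc (dvd_refl _) h1))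
    have hT := isTorus_centralizer hF hm g h4
    have hoddT := (hT.card_odd hm).1
    have htm : t ∈ Subgroup.centralizer ({g} : Set (Sz F m)) := by
      rw [Subgroup.mem_centralizer_singleton_iff]
      exact hc.eq.symm
    have h1 : orderOf t ∣ Nat.card (Subgroup.centralizer ({g} : Set (Sz F m))) := by
      have := orderOf_dvd_natCard (⟨t, htm⟩ : Subgroup.centralizer ({g} : Set (Sz F m)))
      rwa [← Subgroup.orderOf_coe] at this
    have h3 : orderOf t ∣ 2 := orderOf_dvd_of_pow_eq_one (by rw [pow_two]; exact ht)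
    have hc2 : Nat.Coprime (Nat.card (Subgroup.centralizer ({g} : Set (Sz F m)))) 2 :=
      Nat.coprime_two_right.2 hoddT
    exact orderOf_eq_one_iff.1 (Nat.eq_one_of_dvd_coprimes hc2 h1 h3)
  have hedge := exists_orderOf_iff (S := Sz F m) (A := Fin N → Fin 4 → F) h2 hfpf hcent
  have hcardA : Nat.card (Fin N → Fin 4 → F) = 2 ^ ((2 * m + 1) * (4 * N)) := by
    rw [Nat.card_eq_fintype_card, Fintype.card_fun, Fintype.card_fun, Fintype.card_fin,
      Fintype.card_fin, hF, ← pow_mul, ← pow_mul]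
  have hcard : Nat.card (Ext (Sz F m) (Fin N → Fin 4 → F))
      = 2 ^ ((2 * m + 1) * (4 * N)) * Nat.card (Sz F m) := by
    rw [card_ext, hcardA]
  have h2S : 2 ∣ Nat.card (Sz F m) := by
    rw [card_Sz hF hm]
    apply dvd_mul_of_dvd_left
    apply dvd_mul_of_dvd_left
    rw [← pow_mul]
    exact dvd_pow_self 2 (by omega)
  refine final_aux (Cfsg.Agent.Lib.Helper3.SzBridge.lieSzEquiv hF hm) _ hcard h2S hedge N ?_
  rw [hcard]
  have h1 : N < 2 ^ N := Nat.lt_two_pow_self
  have h3 : 2 ^ N ≤ 2 ^ ((2 * m + 1) * (4 * N)) :=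
    Nat.pow_le_pow_right (by norm_num) (by nlinarith)
  have h4 : 0 < Nat.card (Sz F m) := Nat.card_pos
  nlinarith

end Cfsg.Agent.S3639
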