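import Cfsg.Statements.S3663
import Cfsg.Agent.Lib.Helper2.U34Ord
import Cfsg.Agent.Lib.Helper20.U34NoOrd
import Cfsg.Agent.Lib.Helper29.PGraphSD
import Cfsg.Agent.Lib.Helper12.U34PY
import Cfsg.Agent.Lib.Helper9.U34PB
import Cfsg.Agent.Lib.Helper2.U34PX
import Cfsg.Agent.Lib.Helper7.U34Chain
import Cfsg.Agent.Lib.Helper7.U34Spec

-- S3663 (helper7, architect): finite groups of unbounded order with the prime graph of PSU(3,4).
-- H_k = (F_5^12)^(k) : Gamma, Gamma = <gP, gT, gD> <= GL_12(ZMod 5) of order 62400 (5-modular Weil module of U_3(4)).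
-- Pieces: helper2 (U34Ord, U34PX), helper20 (U34NoOrd), helper29 (PGraphSD, SpecPerm), helper9 (U34PB0, U34PB), helper12 (U34PY),
-- helper28 (BSGSPerm), helper11 (IcoChunk); data, certificates and chain: Lib/Helper7/U34*.

set_option autoImplicit false
open Cfsg

namespace Cfsg.Agent.S3663

open Matrix Cfsg.Agent.Lib.Helper28.BSGS Cfsg.Agent.Lib.Helper20.A10Core Cfsg.Agent.Lib.Helper7.U34
open Cfsg.Agent.Lib.Helper2.U34PX

/-! ### arithmetic -/

theorem prime_dvd_62400 {p : ℕ} (hp : p.Prime) :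
    p ∣ 62400 ↔ p = 2 ∨ p = 3 ∨ p = 5 ∨ p = 13 := by
  constructor
  · intro h
    have e : (62400 : ℕ) = 2 ^ 6 * 3 * 5 ^ 2 * 13 := by norm_num
    rw [e] at h
    rcases (Nat.Prime.dvd_mul hp).1 h with h | h
    · rcases (Nat.Prime.dvd_mul hp).1 h with h | h
      · rcases (Nat.Prime.dvd_mul hp).1 h with h | h
        · left; exact (Nat.prime_dvd_prime_iff_eq hp Nat.prime_two).1 (hp.dvd_of_dvd_pow h)
        · right; left; exact (Nat.prime_dvd_prime_iff_eq hp Nat.prime_three).1 h
      · right; right; left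
        exact (Nat.prime_dvd_prime_iff_eq hp Nat.prime_five).1 (hp.dvd_of_dvd_pow h)
    · right; right; right; exact (Nat.prime_dvd_prime_iff_eq hp (by norm_num)).1 h
  · rintro (rfl | rfl | rfl | rfl) <;> norm_num

theorem pd4 {p : ℕ} (hp : p.Prime) (h : p ∣ 4) : p = 2 := by
  have e : (4 : ℕ) = 2 ^ 2 := by norm_num
  rw [e] at h
  exact (Nat.prime_dvd_prime_iff_eq hp Nat.prime_two).1 (hp.dvd_of_dvd_pow h)

theorem pd10 {p : ℕ} (hp : p.Prime) (h : p ∣ 10) : p = 2 ∨ p = 5 := by
  have e : (10 : ℕ) = 2 * 5 := by norm_num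
  rw [e] at h
  rcases (Nat.Prime.dvd_mul hp).1 h with h | h
  · left; exact (Nat.prime_dvd_prime_iff_eq hp Nat.prime_two).1 h
  · right; exact (Nat.prime_dvd_prime_iff_eq hp Nat.prime_five).1 h

theorem pd13 {p : ℕ} (hp : p.Prime) (h : p ∣ 13) : p = 13 :=
  (Nat.prime_dvd_prime_iff_eq hp (by norm_num)).1 h

theorem pd15 {p : ℕ} (hp : p.Prime) (h : p ∣ 15) : p = 3 ∨ p = 5 := by
  have e : (15 : ℕ) = 3 * 5 := by norm_num
  rw [e] at h
  rcases (Nat.Prime.dvd_mul hp).1 h with h | h
  · left; exact (Nat.prime_dvd_prime_iff_eq hp Nat.prime_three).1 h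
  · right; exact (Nat.prime_dvd_prime_iff_eq hp Nat.prime_five).1 h

/-- the prime graph of a group of order 62400 with elements of order 10 and 15 and none of order
6, 26, 39, 65 -/
theorem graph_of_facts {L : Type*} [Group L] [Finite L] (hcard : Nat.card L = 62400)
    (h10 : ∃ g : L, orderOf g = 10) (h15 : ∃ g : L, orderOf g = 15)
    (hne : ∀ g : L, orderOf g ≠ 6 ∧ orderOf g ≠ 26 ∧ orderOf g ≠ 39 ∧ orderOf g ≠ 65)
    (p q : ℕ) (hp : p.Prime) (hq : q.Prime) (_hpq : p ≠ q) :
    (∃ g : L, orderOf g = p * q) ↔ (p * q = 10 ∨ p * q = 15) := by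
  constructor
  · rintro ⟨g, hg⟩
    have hd : p * q ∣ 62400 := by
      rw [← hg, ← hcard]; exact orderOf_dvd_natCard g
    have hp' := (prime_dvd_62400 hp).1 ((Dvd.intro _ rfl).trans hd)
    have hq' := (prime_dvd_62400 hq).1 ((Dvd.intro_left _ rfl).trans hd)
    obtain ⟨n6, n26, n39, n65⟩ := hne g
    rw [hg] at n6 n26 n39 n65
    rcases hp' with rfl | rfl | rfl | rfl <;> rcases hq' with rfl | rfl | rfl | rfl <;>
      first
        | exact absurd rfl _hpq
        | exact absurd rfl n6
        | exact absurd rfl n26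
        | exact absurd rfl n39
        | exact absurd rfl n65
        | (left; rfl)
        | (right; rfl)
  · rintro (h | h)
    · rw [h]; exact h10
    · rw [h]; exact h15

/-! ### the group `Γ` -/

theorem gam_card : Nat.card ↥Gam = 62400 := by
  obtain ⟨e⟩ := Cfsg.Agent.Lib.Helper9.U34PB.gam_equiv
  have hc : Nat.card ↥(genGroup 832 10 gens) = 62400 := by
    rw [← size_ok]
    exact (perm_main 832 10 gens levels gens_ok chain_ok).1
  rw [Nat.card_congr e.toEquiv, hc]

theorem gam_spec (g : ↥Gam) : g ^ 4 = 1 ∨ g ^ 10 = 1 ∨ g ^ 13 = 1 ∨ g ^ 15 = 1 := by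
  obtain ⟨e⟩ := Cfsg.Agent.Lib.Helper9.U34PB.gam_equiv
  have key : ∀ k : ℕ, (e g : Equiv.Perm (Fin 832)) ^ k = 1 → g ^ k = 1 := by
    intro k hk
    apply e.injective
    rw [map_pow, map_one]
    exact Subtype.ext hk
  rcases perm_spec chain_ok (e g : Equiv.Perm (Fin 832)) (e g).2 with h | h | h | h
  · exact Or.inl (key _ h)
  · exact Or.inr (Or.inl (key _ h))
  · exact Or.inr (Or.inr (Or.inl (key _ h)))
  · exact Or.inr (Or.inr (Or.inr (key _ h)))

theorem gam_order_dvd (g : ↥Gam) :
    orderOf g ∣ 4 ∨ orderOf g ∣ 10 ∨ orderOf g ∣ 13 ∨ orderOf g ∣ 15 := by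
  rcases gam_spec g with h | h | h | h
  · exact Or.inl (orderOf_dvd_of_pow_eq_one h)
  · exact Or.inr (Or.inl (orderOf_dvd_of_pow_eq_one h))
  · exact Or.inr (Or.inr (Or.inl (orderOf_dvd_of_pow_eq_one h)))
  · exact Or.inr (Or.inr (Or.inr (orderOf_dvd_of_pow_eq_one h)))

theorem gam_norm13 (g : ↥Gam) (hg : orderOf g = 13) (v : V12) : Sj g v 13 = 0 := by
  obtain ⟨hm, ho, hn⟩ := x13_facts
  refine Cfsg.Agent.Lib.Helper12.U34PY.Sj_eq_zero_of_sylow 13 (by norm_num)
    (by rw [gam_card]; norm_num) ⟨x13, hm⟩ ?_ ?_ g hg v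
  · rw [Subgroup.orderOf_mk]; exact ho
  · intro w
    exact hn w

/-- no element of `Γ` has order `r * s` for different primes `r, s ≠ 5` -/
theorem gam_no_rs (r s : ℕ) (hr : r.Prime) (hs : s.Prime) (hrs : r ≠ s) (hr5 : r ≠ 5)
    (hs5 : s ≠ 5) : ¬ ∃ h : ↥Gam, orderOf h = r * s := by
  rintro ⟨h, hh⟩
  have key : ∀ n : ℕ, r * s ∣ n → r ∣ n ∧ s ∣ n := fun n hn =>
    ⟨(Dvd.intro _ rfl).trans hn, (Dvd.intro_left _ rfl).trans hn⟩
  rcases gam_order_dvd h with hd | hd | hd | hd <;> rw [hh] at hd <;> obtain ⟨h1, h2⟩ := key _ hd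
  · exact hrs ((pd4 hr h1).trans (pd4 hs h2).symm)
  · rcases pd10 hr h1 with a | a
    · rcases pd10 hs h2 with b | b
      · exact hrs (a.trans b.symm)
      · exact hs5 b
    · exact hr5 a
  · exact hrs ((pd13 hr h1).trans (pd13 hs h2).symm)
  · rcases pd15 hr h1 with a | a
    · rcases pd15 hs h2 with b | b
      · exact hrs (a.trans b.symm)
      · exact hs5 b
    · exact hr5 a

/-- the pairs `(5, s)` -/
theorem gam_five (s : ℕ) (hs : s.Prime) (hs5 : s ≠ 5) :
    ((∃ h : ↥Gam, orderOf h = 5 * s) ∨ ∃ (h : ↥Gam) (v : V12), orderOf h = s ∧ Sj h v s ≠ 0) ↔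
      (s = 2 ∨ s = 3) := by
  constructor
  · rintro (⟨h, hh⟩ | ⟨h, v, hh, hv⟩)
    · have five : ∀ n : ℕ, 5 * s ∣ n → 5 ∣ n := fun n hn => (Dvd.intro _ rfl).trans hn
      rcases gam_order_dvd h with hd | hd | hd | hd <;> rw [hh] at hd
      · exact absurd (five _ hd) (by norm_num)
      · left
        have : s ∣ 2 := Nat.dvd_of_mul_dvd_mul_left (by norm_num : 0 < 5) hd
        exact (Nat.prime_dvd_prime_iff_eq hs Nat.prime_two).1 this
      · exact absurd (five _ hd) (by norm_num)
      · right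
        have : s ∣ 3 := Nat.dvd_of_mul_dvd_mul_left (by norm_num : 0 < 5) hd
        exact (Nat.prime_dvd_prime_iff_eq hs Nat.prime_three).1 this
    · have hd : s ∣ 62400 := by
        rw [← hh, ← gam_card]; exact orderOf_dvd_natCard h
      rcases (prime_dvd_62400 hs).1 hd with a | a | a | a
      · exact Or.inl a
      · exact Or.inr a
      · exact absurd a hs5
      · subst a
        exact absurd (gam_norm13 h hh v) hv
  · rintro (rfl | rfl)
    · exact Or.inr gam_two
    · exact Or.inr gam_three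

/-- The prime graph of a finite group has the prime divisors of its order as vertices, two distinct primes p, q being joined when the group has an element of order pq; two groups have the same prime graph when they have the same prime divisors and the same joined pairs. Let F be the field with 16 elements and L = PSU(3,4) realised over F. There are finite groups of arbitrarily large order with the same prime graph as L. -/
theorem result {F : Type*} [Field F] [Fintype F] (hF : Fintype.card F = 16) (N : ℕ) :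
    ∃ (H : Type) (_ : Group H) (_ : Finite H), N < Nat.card H ∧
      ((∀ p : ℕ, p.Prime → (p ∣ Nat.card (Cfsg.PSU 3 F 4) ↔ p ∣ Nat.card H)) ∧
      (∀ p q : ℕ, p.Prime → q.Prime → p ≠ q → ((∃ g : (Cfsg.PSU 3 F 4), orderOf g = p * q) ↔ (∃ g : H, orderOf g = p * q)))) := by
  have hL : Nat.card (Cfsg.PSU 3 F 4) = 62400 := Cfsg.Agent.Lib.Helper2.U34Ord.card_PSU34 hF
  have : Finite (Cfsg.PSU 3 F 4) := Nat.finite_of_card_ne_zero (by rw [hL]; norm_num)
  have hgraph := graph_of_facts hL (Cfsg.Agent.Lib.Helper2.U34Ord.exists_orderOf_ten hF)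
    (Cfsg.Agent.Lib.Helper2.U34Ord.exists_orderOf_fifteen hF)
    (Cfsg.Agent.Lib.Helper20.U34NoOrd.psu34_orderOf_ne hF)
  have : Finite ↥Gam := Nat.finite_of_card_ne_zero (by rw [gam_card]; norm_num)
  obtain ⟨K, iG, iF, hN, h1, h2, h3⟩ :=
    Cfsg.Agent.Lib.Helper29.PGraphSD.exists_large (H := ↥Gam) (V := V12) (p := 5)
      (by norm_num)
      (fun v => by
        funext i
        simp only [Pi.smul_apply, Pi.zero_apply, nsmul_eq_mul]
        have h5 : ((5 : ℕ) : ZMod 5) = 0 := by decide
        rw [h5, zero_mul])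
      ⟨fun _ => 1, fun h0 => by
        have h00 : (1 : ZMod 5) = 0 := congrFun h0 0
        exact absurd h00 (by decide)⟩ N
  refine ⟨K, iG, iF, hN, ?_, ?_⟩
  · intro p hp
    rw [h1 p hp, hL, gam_card]
    constructor
    · exact Or.inr
    · rintro (rfl | h)
      · norm_num
      · exact h
  · intro p q hp hq hpq
    rw [hgraph p q hp hq hpq]
    by_cases hp5 : p = 5
    · subst hp5
      rw [h3 q hq (Ne.symm hpq), gam_five q hq (Ne.symm hpq)]
      constructor
      · rintro (h | h)
        · left; omega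
        · right; omega
      · rintro (rfl | rfl)
        · left; rfl
        · right; rfl
    · by_cases hq5 : q = 5
      · subst hq5
        rw [mul_comm p 5, h3 p hp hp5, gam_five p hp hp5]
        constructor
        · rintro (h | h)
          · left; omega
          · right; omega
        · rintro (rfl | rfl)
          · left; rfl
          · right; rfl
      · rw [h2 p q hp hq hp5 hq5]
        constructor
        · rintro (h | h)
          · exfalso
            have : (5 : ℕ) ∣ p * q := by rw [h]; norm_num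
            rcases (Nat.Prime.dvd_mul Nat.prime_five).1 this with a | a
            · exact hp5 ((Nat.prime_dvd_prime_iff_eq Nat.prime_five hp).1 a).symm
            · exact hq5 ((Nat.prime_dvd_prime_iff_eq Nat.prime_five hq).1 a).symm
          · exfalso
            have : (5 : ℕ) ∣ p * q := by rw [h]; norm_num
            rcases (Nat.Prime.dvd_mul Nat.prime_five).1 this with a | a
            · exact hp5 ((Nat.prime_dvd_prime_iff_eq Nat.prime_five hp).1 a).symm
            · exact hq5 ((Nat.prime_dvd_prime_iff_eq Nat.prime_five hq).1 a).symm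
        · intro h
          exact absurd h (gam_no_rs p q hp hq hpq hp5 hq5)

end Cfsg.Agent.S3663
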