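import Cfsg.Statements.S3670
import Cfsg.Agent.Lib.Helper4.TC.U33Iso
import Cfsg.Agent.Lib.Helper14.DegGraph
import Cfsg.Agent.Lib.Helper9.S3670H
import Cfsg.Agent.Lib.Helper22.U33Six
import Cfsg.Agent.Lib.Helper22.U33Pts63
import Cfsg.Agent.Lib.Helper22.S3670Glue

set_option autoImplicit false
open Cfsg

namespace Cfsg.Agent.S3670

/-- The character degree graph of a finite group has as vertices the primes dividing some irreducible complex character degree, two distinct primes being joined when their product divides some irreducible character degree; two groups have the same character degree graph when they have the same vertices and the same joined pairs. Let F be the field with 9 elements and L = PSU(3,3) realised over F (order 6048). There is a finite solvable group of order 6048 with the same character degree graph as L; so L is not determined by its order together with its character degree graph. -/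
theorem result {F : Type*} [Field F] [Fintype F] (hF : Fintype.card F = 9) :
    ∃ (H : Type) (_ : Group H) (_ : Fintype H), Group.IsSolvable H ∧ Nat.card H = 6048 ∧ Cfsg.degreePrimes H = Cfsg.degreePrimes (Cfsg.PSU 3 F 3) ∧ Cfsg.degreeGraph H = Cfsg.degreeGraph (Cfsg.PSU 3 F 3) := by
  obtain ⟨H, iG, iF, hsol, hcard, χ, hχ⟩ := Cfsg.Agent.Lib.Helper9.S3670H.hside
  obtain ⟨e⟩ := Cfsg.Agent.Helper4.TC.U33Iso.iso_su_field hF
  have hfin : Finite (PresentedGroup Cfsg.Agent.Helper4.TC.U33PS.Rset) :=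
    Cfsg.Agent.Helper4.TC.U33PS.card_top.1
  have l14 : ∃ χ : Cfsg.IrrCharacter (PresentedGroup Cfsg.Agent.Helper4.TC.U33PS.Rset),
      14 ∣ Cfsg.charDegree (χ : PresentedGroup Cfsg.Agent.Helper4.TC.U33PS.Rset → ℂ) := by
    obtain ⟨χ, hχ⟩ := Cfsg.Agent.Lib.Helper22.U33Pts63.exists_irr_14
    exact ⟨χ, by rw [hχ]⟩
  have l21 : ∃ χ : Cfsg.IrrCharacter (PresentedGroup Cfsg.Agent.Helper4.TC.U33PS.Rset),
      21 ∣ Cfsg.charDegree (χ : PresentedGroup Cfsg.Agent.Helper4.TC.U33PS.Rset → ℂ) := by
    obtain ⟨χ, hχ⟩ := Cfsg.Agent.Lib.Helper22.U33Pts63.exists_irr_21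
    exact ⟨χ, by rw [hχ]⟩
  have hP := Cfsg.Agent.Lib.Helper22.S3670Glue.graph_of_data
    (G := PresentedGroup Cfsg.Agent.Helper4.TC.U33PS.Rset) Cfsg.Agent.Helper4.TC.U33PS.main.2
    Cfsg.Agent.Lib.Helper22.U33Six.exists_irr_six l14 l21
  have hH := Cfsg.Agent.Lib.Helper22.S3670Glue.graph_of_data (G := H) hcard
    ⟨χ, dvd_trans (by norm_num) hχ⟩ ⟨χ, dvd_trans (by norm_num) hχ⟩ ⟨χ, dvd_trans (by norm_num) hχ⟩
  refine ⟨H, iG, iF, hsol, hcard, ?_, ?_⟩
  · rw [← Cfsg.Agent.Lib.Helper14.degreePrimes_congr e, hP.1, hH.1]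
  · ext p q
    rw [← Cfsg.Agent.Lib.Helper14.degreeGraph_adj_congr e, hP.2, hH.2]

end Cfsg.Agent.S3670
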