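import Mathlib
import Cfsg.Statements.S3678
import Cfsg.Agent.S3660

set_option autoImplicit false
open Cfsg

namespace Cfsg.Agent.S3678

open Matrix

universe u

section TwoByTwo

variable {R : Type u} [CommRing R]

/-- Cayley–Hamilton for a `2 × 2` matrix of determinant one. -/
theorem mul_self_eq (A : Matrix (Fin 2) (Fin 2) R) (hdet : A.det = 1) :
    A * A = (A 0 0 + A 1 1) • A - 1 := by
  rw [Matrix.det_fin_two] at hdet
  ext i j
  fin_cases i <;> fin_cases j <;>
    simp only [Matrix.mul_apply, Fin.sum_univ_two, Matrix.sub_apply, Matrix.smul_apply,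
      Matrix.one_apply_eq, Matrix.one_apply_ne, smul_eq_mul,
      Fin.zero_eta, Fin.mk_one, ne_eq, zero_ne_one, one_ne_zero, not_false_eq_true, Fin.isValue]
  · linear_combination (-1 : R) * hdet
  · ring
  · ring
  · linear_combination (-1 : R) * hdet

/-- Coefficients of `A ^ n = a • A + b • 1`. -/
def pc (t : R) : ℕ → R × R
  | 0 => (0, 1)
  | n + 1 => (t * (pc t n).1 + (pc t n).2, -(pc t n).1)

theorem pow_eq_pc (A : Matrix (Fin 2) (Fin 2) R) (hdet : A.det = 1) (n : ℕ) :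
    A ^ n = (pc (A 0 0 + A 1 1) n).1 • A + (pc (A 0 0 + A 1 1) n).2 • (1 : Matrix (Fin 2) (Fin 2) R) := by
  induction n with
  | zero => simp [pc]
  | succ n ih =>
    rw [pow_succ, ih, add_mul, smul_mul_assoc, smul_mul_assoc, one_mul, mul_self_eq A hdet]
    simp only [pc]
    module

theorem pc_two (t : R) : (pc t 2).1 = t := by simp [pc]

theorem pc_three (t : R) : (pc t 3).1 = t ^ 2 - 1 := by simp [pc]; ring

theorem pc_four (t : R) : (pc t 4).1 = t ^ 3 - 2 * t := by simp [pc]; ring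

theorem pc_seven (t : R) : (pc t 7).1 = t ^ 6 - 5 * t ^ 4 + 6 * t ^ 2 - 1 := by simp [pc]; ring

theorem pc_nine (t : R) : (pc t 9).1 = t ^ 8 - 7 * t ^ 6 + 15 * t ^ 4 - 10 * t ^ 2 + 1 := by
  simp [pc]; ring

/-- If the `A`-coefficient of `A ^ n` vanishes then `A ^ n` is central in `SL₂`. -/
theorem pow_mem_center (A : SpecialLinearGroup (Fin 2) R) (n : ℕ)
    (h : (pc ((A : Matrix (Fin 2) (Fin 2) R) 0 0 + (A : Matrix (Fin 2) (Fin 2) R) 1 1) n).1 = 0) :
    A ^ n ∈ Subgroup.center (SpecialLinearGroup (Fin 2) R) := by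
  rw [Matrix.SpecialLinearGroup.mem_center_iff]
  have h1 := pow_eq_pc (A : Matrix (Fin 2) (Fin 2) R) A.2 n
  rw [h, zero_smul, zero_add] at h1
  set b := (pc ((A : Matrix (Fin 2) (Fin 2) R) 0 0 + (A : Matrix (Fin 2) (Fin 2) R) 1 1) n).2
    with hb
  refine ⟨b, ?_, ?_⟩
  · have h2 : ((A ^ n : SpecialLinearGroup (Fin 2) R) : Matrix (Fin 2) (Fin 2) R).det = 1 :=
      (A ^ n).2
    rw [Matrix.SpecialLinearGroup.coe_pow, h1, Matrix.det_smul, Matrix.det_one, mul_one] at h2
    exact h2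
  · rw [Matrix.SpecialLinearGroup.coe_pow, h1, Matrix.scalar_apply, Matrix.smul_one_eq_diagonal]

end TwoByTwo

theorem not_mul_dvd_prime_pow {p q r k : ℕ} (hp : p.Prime) (hq : q.Prime) (hr : r.Prime)
    (hpq : p ≠ q) : ¬ p * q ∣ r ^ k := by
  intro h
  have h1 : p = r :=
    (Nat.prime_dvd_prime_iff_eq hp hr).mp (hp.dvd_of_dvd_pow ((Dvd.intro _ rfl : p ∣ p * q).trans h))
  have h2 : q = r :=
    (Nat.prime_dvd_prime_iff_eq hq hr).mp
      (hq.dvd_of_dvd_pow ((Dvd.intro_left _ rfl : q ∣ p * q).trans h))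
  exact hpq (h1.trans h2.symm)

section Seven

variable {F : Type u} [Field F] [Fintype F]

theorem seven_eq_zero (hF : Fintype.card F = 7) : (7 : F) = 0 := by
  have h := Nat.cast_card_eq_zero F
  rw [hF] at h
  exact_mod_cast h

theorem psl_pow (hF : Fintype.card F = 7) (g : ProjectiveSpecialLinearGroup (Fin 2) F) :
    g ^ 2 = 1 ∨ g ^ 3 = 1 ∨ g ^ 4 = 1 ∨ g ^ 7 = 1 := by
  obtain ⟨A, rfl⟩ := QuotientGroup.mk'_surjective _ g
  set t := (A : Matrix (Fin 2) (Fin 2) F) 0 0 + (A : Matrix (Fin 2) (Fin 2) F) 1 1 with ht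
  have ht7 : t ^ 7 = t := by
    have h := FiniteField.pow_card t
    rwa [hF] at h
  have h7 := seven_eq_zero hF
  have hprod : (pc t 2).1 * (pc t 3).1 * (pc t 4).1 * (pc t 7).1 = 0 := by
    rw [pc_two, pc_three, pc_four, pc_seven]
    linear_combination (t ^ 5 - 8 * t ^ 3 + 23 * t) * ht7 + (3 * t ^ 2 + t ^ 4 - 4 * t ^ 6) * h7
  have key : ∀ n, (pc t n).1 = 0 →
      (QuotientGroup.mk' (Subgroup.center (SpecialLinearGroup (Fin 2) F)) A) ^ n = 1 := by
    intro n hn
    rw [← map_pow]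
    exact (QuotientGroup.eq_one_iff _).mpr (pow_mem_center A n hn)
  rcases mul_eq_zero.mp hprod with h | h
  · rcases mul_eq_zero.mp h with h | h
    · rcases mul_eq_zero.mp h with h | h
      · exact Or.inl (key 2 h)
      · exact Or.inr (Or.inl (key 3 h))
    · exact Or.inr (Or.inr (Or.inl (key 4 h)))
  · exact Or.inr (Or.inr (Or.inr (key 7 h)))

/-- A non-central element whose `n`-th power is central, `n` prime, has image of order `n`. -/
theorem orderOf_mk_eq {R : Type u} [CommRing R] (A : SpecialLinearGroup (Fin 2) R)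
    (hA : (A : Matrix (Fin 2) (Fin 2) R) 1 0 ≠ 0) {n : ℕ} (hn : n.Prime)
    (h : (pc ((A : Matrix (Fin 2) (Fin 2) R) 0 0 + (A : Matrix (Fin 2) (Fin 2) R) 1 1) n).1 = 0) :
    orderOf (QuotientGroup.mk' (Subgroup.center (SpecialLinearGroup (Fin 2) R)) A) = n := by
  haveI := Fact.mk hn
  apply orderOf_eq_prime
  · rw [← map_pow]
    exact (QuotientGroup.eq_one_iff _).mpr (pow_mem_center A n h)
  · intro h1
    have h2 := (QuotientGroup.eq_one_iff _).mp h1
    rw [Matrix.SpecialLinearGroup.mem_center_iff] at h2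
    obtain ⟨r, -, hr⟩ := h2
    apply hA
    rw [← hr]
    simp [Matrix.scalar_apply]

theorem psl_exists (hF : Fintype.card F = 7) :
    (∃ g : ProjectiveSpecialLinearGroup (Fin 2) F, orderOf g = 2) ∧
    (∃ g : ProjectiveSpecialLinearGroup (Fin 2) F, orderOf g = 3) ∧
    (∃ g : ProjectiveSpecialLinearGroup (Fin 2) F, orderOf g = 7) := by
  have h7 := seven_eq_zero hF
  refine ⟨?_, ?_, ?_⟩
  · let S : SpecialLinearGroup (Fin 2) F := ⟨!![0, -1; 1, 0], by simp [Matrix.det_fin_two]⟩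
    refine ⟨_, orderOf_mk_eq S ?_ Nat.prime_two ?_⟩
    · show (!![0, -1; 1, 0] : Matrix (Fin 2) (Fin 2) F) 1 0 ≠ 0
      simp
    · rw [pc_two]
      show (!![0, -1; 1, 0] : Matrix (Fin 2) (Fin 2) F) 0 0 +
        (!![0, -1; 1, 0] : Matrix (Fin 2) (Fin 2) F) 1 1 = 0
      simp
  · let W : SpecialLinearGroup (Fin 2) F := ⟨!![0, -1; 1, -1], by simp [Matrix.det_fin_two]⟩
    refine ⟨_, orderOf_mk_eq W ?_ Nat.prime_three ?_⟩
    · show (!![0, -1; 1, -1] : Matrix (Fin 2) (Fin 2) F) 1 0 ≠ 0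
      simp
    · rw [pc_three]
      show ((!![0, -1; 1, -1] : Matrix (Fin 2) (Fin 2) F) 0 0 +
        (!![0, -1; 1, -1] : Matrix (Fin 2) (Fin 2) F) 1 1) ^ 2 - 1 = 0
      simp
  · let U : SpecialLinearGroup (Fin 2) F := ⟨!![1, 0; 1, 1], by simp [Matrix.det_fin_two]⟩
    refine ⟨_, orderOf_mk_eq U ?_ (by norm_num) ?_⟩
    · show (!![1, 0; 1, 1] : Matrix (Fin 2) (Fin 2) F) 1 0 ≠ 0
      simp
    · rw [pc_seven]
      show ((!![1, 0; 1, 1] : Matrix (Fin 2) (Fin 2) F) 0 0 +
        (!![1, 0; 1, 1] : Matrix (Fin 2) (Fin 2) F) 1 1) ^ 6 - 5 * ((!![1, 0; 1, 1] :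
        Matrix (Fin 2) (Fin 2) F) 0 0 + (!![1, 0; 1, 1] : Matrix (Fin 2) (Fin 2) F) 1 1) ^ 4 +
        6 * ((!![1, 0; 1, 1] : Matrix (Fin 2) (Fin 2) F) 0 0 +
        (!![1, 0; 1, 1] : Matrix (Fin 2) (Fin 2) F) 1 1) ^ 2 - 1 = 0
      simp
      linear_combination h7

end Seven

section Eight

variable {K : Type u} [Field K] [Fintype K] [CharP K 2]

theorem sl_pow (hK : Fintype.card K = 8) (A : SpecialLinearGroup (Fin 2) K) :
    A ^ 2 = 1 ∨ A ^ 7 = 1 ∨ A ^ 9 = 1 := by
  set t := (A : Matrix (Fin 2) (Fin 2) K) 0 0 + (A : Matrix (Fin 2) (Fin 2) K) 1 1 with ht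
  by_cases ht0 : t = 0
  · exact Or.inl (Cfsg.Agent.S3660.sq_eq_one_of_trace_eq_zero A ht0)
  have ht7 : t ^ 7 = 1 := by
    have h := FiniteField.pow_card_sub_one_eq_one t ht0
    rwa [hK] at h
  have h2 : (2 : K) = 0 := Cfsg.Agent.S3660.char_two
  have hprod : (pc t 7).1 * (pc t 9).1 = 0 := by
    rw [pc_seven, pc_nine]
    linear_combination (1 - 128 * t + 56 * t ^ 3 - 12 * t ^ 5 + t ^ 7) * ht7 +
      (-64 * t + 8 * t ^ 2 + 28 * t ^ 3 - 40 * t ^ 4 - 6 * t ^ 5 + 74 * t ^ 6) * h2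
  have key : ∀ n, (pc t n).1 = 0 → A ^ n = 1 := by
    intro n hn
    have h1 := pow_mem_center A n hn
    rwa [Cfsg.Agent.S3660.center_eq_bot, Subgroup.mem_bot] at h1
  rcases mul_eq_zero.mp hprod with h | h
  · exact Or.inr (Or.inl (key 7 h))
  · exact Or.inr (Or.inr (key 9 h))

theorem sl_exists (hK : Fintype.card K = 8) :
    (∃ A : SpecialLinearGroup (Fin 2) K, orderOf A = 3) ∧
    (∃ A : SpecialLinearGroup (Fin 2) K, orderOf A = 7) := by
  have h2 : (2 : K) = 0 := Cfsg.Agent.S3660.char_two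
  constructor
  · let W : SpecialLinearGroup (Fin 2) K := ⟨!![0, 1; 1, 1], by
      rw [Matrix.det_fin_two]; simp; linear_combination (-1 : K) * h2⟩
    haveI : Fact (Nat.Prime 3) := ⟨Nat.prime_three⟩
    refine ⟨W, orderOf_eq_prime ?_ ?_⟩
    · have h1 := pow_mem_center W 3 (by
        rw [pc_three]
        show ((!![0, 1; 1, 1] : Matrix (Fin 2) (Fin 2) K) 0 0 +
          (!![0, 1; 1, 1] : Matrix (Fin 2) (Fin 2) K) 1 1) ^ 2 - 1 = 0
        simp)
      rwa [Cfsg.Agent.S3660.center_eq_bot, Subgroup.mem_bot] at h1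
    · intro h
      have h1 := congrArg (fun X : SpecialLinearGroup (Fin 2) K =>
        (X : Matrix (Fin 2) (Fin 2) K) 0 1) h
      simp [W] at h1
  · obtain ⟨a, b, c, hab, hac, hbc⟩ := Fintype.two_lt_card_iff.mp (by rw [hK]; norm_num : 2 < Fintype.card K)
    obtain ⟨l, hl0, hl1⟩ : ∃ l : K, l ≠ 0 ∧ l ≠ 1 := by
      by_cases ha0 : a = 0
      · by_cases hb1 : b = 1
        · refine ⟨c, ?_, ?_⟩
          · rw [← ha0]; exact fun h => hac h.symm
          · rw [← hb1]; exact fun h => hbc h.symm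
        · exact ⟨b, by rw [← ha0]; exact fun h => hab h.symm, hb1⟩
      · by_cases ha1 : a = 1
        · by_cases hb0 : b = 0
          · refine ⟨c, ?_, ?_⟩
            · rw [← hb0]; exact fun h => hbc h.symm
            · rw [← ha1]; exact fun h => hac h.symm
          · exact ⟨b, hb0, by rw [← ha1]; exact fun h => hab h.symm⟩
        · exact ⟨a, ha0, ha1⟩
    have hl7 : l ^ 7 = 1 := by
      have h := FiniteField.pow_card_sub_one_eq_one l hl0
      rwa [hK] at h
    let D : SpecialLinearGroup (Fin 2) K := ⟨Matrix.diagonal ![l, l⁻¹], by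
      rw [Matrix.det_diagonal, Fin.prod_univ_two]
      simp [hl0]⟩
    haveI : Fact (Nat.Prime 7) := ⟨by norm_num⟩
    refine ⟨D, orderOf_eq_prime ?_ ?_⟩
    · apply Subtype.ext
      rw [Matrix.SpecialLinearGroup.coe_pow, Matrix.SpecialLinearGroup.coe_one]
      show (Matrix.diagonal ![l, l⁻¹]) ^ 7 = 1
      rw [Matrix.diagonal_pow, ← Matrix.diagonal_one]
      congr 1
      funext i
      fin_cases i
      · simpa using hl7
      · simp [hl7]
    · intro h
      have h1 := congrArg (fun X : SpecialLinearGroup (Fin 2) K =>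
        (X : Matrix (Fin 2) (Fin 2) K) 0 0) h
      simp [D] at h1
      exact hl1 h1

end Eight

/-- The prime graph of a finite group has the prime divisors of its order as vertices, two distinct primes p, q being joined when the group has an element of order pq; two groups have the same prime graph when they have the same prime divisors and the same joined pairs. Let F be the field with 7 elements. There are finite groups of arbitrarily large order with the same prime graph as PSL(2,F) (the graph on {2, 3, 7} with no edges, which is also the prime graph of PSL(2,8)). -/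
theorem result {F : Type*} [Field F] [Fintype F] (hF : Fintype.card F = 7) (N : ℕ) :
    ∃ (H : Type) (_ : Group H) (_ : Finite H), N < Nat.card H ∧
      ((∀ p : ℕ, p.Prime → (p ∣ Nat.card (Matrix.ProjectiveSpecialLinearGroup (Fin 2) F) ↔ p ∣ Nat.card H)) ∧
      (∀ p q : ℕ, p.Prime → q.Prime → p ≠ q → ((∃ g : (Matrix.ProjectiveSpecialLinearGroup (Fin 2) F), orderOf g = p * q) ↔ (∃ g : H, orderOf g = p * q)))) := by
  classical
  letI : Fintype (GaloisField 2 3) := Fintype.ofFinite _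
  have hK : Fintype.card (GaloisField 2 3) = 8 := by
    rw [← Nat.card_eq_fintype_card, GaloisField.card 2 3 (by norm_num)]; norm_num
  obtain ⟨H, hGrp, hFin, hN, h1, h2⟩ := Cfsg.Agent.S3660.exists_family (GaloisField 2 3) N
  -- the two sides: prime divisors
  have hpsl : ∀ p : ℕ, p.Prime →
      (p ∣ Nat.card (ProjectiveSpecialLinearGroup (Fin 2) F) ↔ p = 2 ∨ p = 3 ∨ p = 7) := by
    intro p hp
    haveI := Fact.mk hp
    constructor
    · intro hdvd
      obtain ⟨g, hg⟩ := exists_prime_orderOf_dvd_card' p hdvd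
      have hdiv : ∀ n, g ^ n = 1 → p ∣ n := fun n hn => hg ▸ orderOf_dvd_of_pow_eq_one hn
      rcases psl_pow hF g with h | h | h | h
      · exact Or.inl ((Nat.prime_dvd_prime_iff_eq hp Nat.prime_two).mp (hdiv 2 h))
      · exact Or.inr (Or.inl ((Nat.prime_dvd_prime_iff_eq hp Nat.prime_three).mp (hdiv 3 h)))
      · have h4 : p ∣ 2 ^ 2 := hdiv 4 h
        exact Or.inl ((Nat.prime_dvd_prime_iff_eq hp Nat.prime_two).mp (hp.dvd_of_dvd_pow h4))
      · exact Or.inr (Or.inr ((Nat.prime_dvd_prime_iff_eq hp (by norm_num)).mp (hdiv 7 h)))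
    · obtain ⟨⟨g2, hg2⟩, ⟨g3, hg3⟩, ⟨g7, hg7⟩⟩ := psl_exists hF
      rintro (rfl | rfl | rfl)
      · have hd := orderOf_dvd_natCard g2
        rwa [hg2] at hd
      · have hd := orderOf_dvd_natCard g3
        rwa [hg3] at hd
      · have hd := orderOf_dvd_natCard g7
        rwa [hg7] at hd
  have hsl : ∀ p : ℕ, p.Prime →
      (p ∣ Nat.card (SpecialLinearGroup (Fin 2) (GaloisField 2 3)) ↔ p = 2 ∨ p = 3 ∨ p = 7) := by
    intro p hp
    haveI := Fact.mk hp
    constructor
    · intro hdvd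
      obtain ⟨g, hg⟩ := exists_prime_orderOf_dvd_card' p hdvd
      have hdiv : ∀ n, g ^ n = 1 → p ∣ n := fun n hn => hg ▸ orderOf_dvd_of_pow_eq_one hn
      rcases sl_pow hK g with h | h | h
      · exact Or.inl ((Nat.prime_dvd_prime_iff_eq hp Nat.prime_two).mp (hdiv 2 h))
      · exact Or.inr (Or.inr ((Nat.prime_dvd_prime_iff_eq hp (by norm_num)).mp (hdiv 7 h)))
      · have h9 : p ∣ 3 ^ 2 := hdiv 9 h
        exact Or.inr (Or.inl ((Nat.prime_dvd_prime_iff_eq hp Nat.prime_three).mp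
          (hp.dvd_of_dvd_pow h9)))
    · obtain ⟨⟨g3, hg3⟩, ⟨g7, hg7⟩⟩ := sl_exists hK
      obtain ⟨g2, hg2⟩ := Cfsg.Agent.S3660.exists_orderOf_two (F := GaloisField 2 3)
      rintro (rfl | rfl | rfl)
      · have hd := orderOf_dvd_natCard g2
        rwa [hg2] at hd
      · have hd := orderOf_dvd_natCard g3
        rwa [hg3] at hd
      · have hd := orderOf_dvd_natCard g7
        rwa [hg7] at hd
  have hpsl_edge : ∀ p q : ℕ, p.Prime → q.Prime → p ≠ q →
      ¬ ∃ g : ProjectiveSpecialLinearGroup (Fin 2) F, orderOf g = p * q := by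
    rintro p q hp hq hpq ⟨g, hg⟩
    have hdiv : ∀ n, g ^ n = 1 → p * q ∣ n := fun n hn => hg ▸ orderOf_dvd_of_pow_eq_one hn
    rcases psl_pow hF g with h | h | h | h
    · exact not_mul_dvd_prime_pow (k := 1) hp hq Nat.prime_two hpq (by simpa using hdiv 2 h)
    · exact not_mul_dvd_prime_pow (k := 1) hp hq Nat.prime_three hpq (by simpa using hdiv 3 h)
    · exact not_mul_dvd_prime_pow (k := 2) hp hq Nat.prime_two hpq (hdiv 4 h)
    · exact not_mul_dvd_prime_pow (k := 1) hp hq (by norm_num : Nat.Prime 7) hpq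
        (by simpa using hdiv 7 h)
  have hsl_edge : ∀ p q : ℕ, p.Prime → q.Prime → p ≠ q →
      ¬ ∃ g : SpecialLinearGroup (Fin 2) (GaloisField 2 3), orderOf g = p * q := by
    rintro p q hp hq hpq ⟨g, hg⟩
    have hdiv : ∀ n, g ^ n = 1 → p * q ∣ n := fun n hn => hg ▸ orderOf_dvd_of_pow_eq_one hn
    rcases sl_pow hK g with h | h | h
    · exact not_mul_dvd_prime_pow (k := 1) hp hq Nat.prime_two hpq (by simpa using hdiv 2 h)
    · exact not_mul_dvd_prime_pow (k := 1) hp hq (by norm_num : Nat.Prime 7) hpq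
        (by simpa using hdiv 7 h)
    · exact not_mul_dvd_prime_pow (k := 2) hp hq Nat.prime_three hpq (hdiv 9 h)
  refine ⟨H, hGrp, hFin, hN, ?_, ?_⟩
  · intro p hp
    rw [hpsl p hp, ← h1 p hp, hsl p hp]
  · intro p q hp hq hpq
    rw [← h2 p q hp hq hpq]
    constructor
    · intro h; exact absurd h (hpsl_edge p q hp hq hpq)
    · intro h; exact absurd h (hsl_edge p q hp hq hpq)

end Cfsg.Agent.S3678
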