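import Cfsg.Statements.S3680
import Cfsg.Agent.S0703
import Cfsg.Agent.S0704
import Cfsg.Agent.S0721
import Cfsg.Agent.Lib.Helper20.Subnormal

set_option autoImplicit false
open Cfsg

namespace Cfsg.Agent.S3680

open MulAction

section transport

variable (G Ω : Type*) [Group G] [MulAction G Ω] [FaithfulSMul G Ω]

/-- `G` as a permutation group -/
noncomputable def eqv : G ≃* (MulAction.toPermHom G Ω).range :=
  MonoidHom.ofInjective (f := MulAction.toPermHom G Ω) MulAction.toPerm_injective

theorem eqv_apply (g : G) (ω : Ω) : ((eqv G Ω g : (MulAction.toPermHom G Ω).range) :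
    Equiv.Perm Ω) ω = g • ω := rfl

/-- transport of a subgroup -/
noncomputable def tr (V : Subgroup G) : Subgroup (MulAction.toPermHom G Ω).range :=
  V.map (eqv G Ω).toMonoidHom

variable {G Ω}

theorem eqv_inj : Function.Injective ((eqv G Ω).toMonoidHom) := (eqv G Ω).injective

theorem eqv_surj : Function.Surjective ((eqv G Ω).toMonoidHom) := (eqv G Ω).surjective

theorem tr_normal {V : Subgroup G} (hV : V.Normal) : (tr G Ω V).Normal :=
  Subgroup.Normal.map hV _ eqv_surj

theorem tr_ne_bot {V : Subgroup G} (hV : V ≠ ⊥) : tr G Ω V ≠ ⊥ := by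
  intro h
  exact hV ((Subgroup.map_eq_bot_iff_of_injective V eqv_inj).mp h)

theorem tr_injective {V W : Subgroup G} (h : tr G Ω V = tr G Ω W) : V = W :=
  Subgroup.map_injective eqv_inj h

theorem tr_min {V : Subgroup G}
    (hmin : ∀ L : Subgroup G, L.Normal → L ≤ V → L = ⊥ ∨ L = V) :
    ∀ L' : Subgroup (MulAction.toPermHom G Ω).range, L'.Normal → L' ≤ tr G Ω V →
      L' = ⊥ ∨ L' = tr G Ω V := by
  intro L' hL' hle
  have h1 : (L'.comap (eqv G Ω).toMonoidHom).Normal := Subgroup.Normal.comap hL' _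
  have h2 : L'.comap (eqv G Ω).toMonoidHom ≤ V := by
    have := Subgroup.comap_mono (f := (eqv G Ω).toMonoidHom) hle
    rwa [tr, Subgroup.comap_map_eq_self_of_injective eqv_inj] at this
  have h3 : (L'.comap (eqv G Ω).toMonoidHom).map (eqv G Ω).toMonoidHom = L' :=
    Subgroup.map_comap_eq_self_of_surjective eqv_surj L'
  rcases hmin _ h1 h2 with h | h
  · left
    rw [← h3, h, Subgroup.map_bot]
  · right
    rw [← h3, h]; rfl

theorem tr_trans {V : Subgroup G} (hV : IsPretransitive V Ω) : IsPretransitive (tr G Ω V) Ω := by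
  constructor
  intro a b
  obtain ⟨v, hv⟩ := hV.exists_smul_eq a b
  refine ⟨⟨eqv G Ω v, Subgroup.mem_map_of_mem _ v.2⟩, ?_⟩
  exact hv

theorem tr_stab {V : Subgroup G} {a : Ω} (h : stabilizer (tr G Ω V) a = ⊥) :
    stabilizer V a = ⊥ := by
  rw [Subgroup.eq_bot_iff_forall]
  intro v hv
  have h1 : (⟨eqv G Ω v, Subgroup.mem_map_of_mem _ v.2⟩ : tr G Ω V) ∈ stabilizer (tr G Ω V) a := by
    rw [mem_stabilizer_iff]
    exact mem_stabilizer_iff.mp hv
  rw [h, Subgroup.mem_bot] at h1
  have h2 : eqv G Ω v = 1 := congrArg Subtype.val h1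
  have h3 : (v : G) = 1 := (eqv G Ω).injective (by rw [h2, map_one])
  exact Subtype.ext h3

theorem tr_comm {V : Subgroup G} (hV : IsMulCommutative V) : IsMulCommutative (tr G Ω V) := by
  constructor
  constructor
  intro x y
  obtain ⟨x', hx', hx⟩ := Subgroup.mem_map.mp x.2
  obtain ⟨y', hy', hy⟩ := Subgroup.mem_map.mp y.2
  apply Subtype.ext
  show (x : (MulAction.toPermHom G Ω).range) * (y : (MulAction.toPermHom G Ω).range) =
    (y : (MulAction.toPermHom G Ω).range) * (x : (MulAction.toPermHom G Ω).range)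
  rw [← hx, ← hy, ← map_mul, ← map_mul]
  have h := hV.is_comm.comm (⟨x', hx'⟩ : V) ⟨y', hy'⟩
  have h' : x' * y' = y' * x' := congrArg Subtype.val h
  rw [h']

/-- `V ≃* tr V` -/
noncomputable def trEquiv (V : Subgroup G) : V ≃* tr G Ω V :=
  Subgroup.equivMapOfInjective V (eqv G Ω).toMonoidHom eqv_inj

end transport

section misc

variable {G : Type*} [Group G]

/-- the internal direct product of two disjoint normal subgroups -/
noncomputable def supEquivProd (M₁ M₂ : Subgroup G) (h₁ : M₁.Normal) (h₂ : M₂.Normal)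
    (hdisj : M₁ ⊓ M₂ = ⊥) : ↥(M₁ ⊔ M₂) ≃* M₁ × M₂ := by
  have hcomm : ∀ (m : M₁) (t : M₂), Commute (M₁.subtype m) (M₂.subtype t) := by
    intro m t
    exact Subgroup.commute_of_normal_of_disjoint M₁ M₂ h₁ h₂ (disjoint_iff.mpr hdisj) m t m.2 t.2
  let f : M₁ × M₂ →* G := MonoidHom.noncommCoprod M₁.subtype M₂.subtype hcomm
  have hfinj : Function.Injective f := by
    rw [MonoidHom.noncommCoprod_injective]
    refine ⟨M₁.subtype_injective, M₂.subtype_injective, ?_⟩
    rw [Subgroup.range_subtype, Subgroup.range_subtype]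
    exact disjoint_iff.mpr hdisj
  have hrange : f.range = M₁ ⊔ M₂ := by
    rw [MonoidHom.noncommCoprod_range, Subgroup.range_subtype, Subgroup.range_subtype]
  exact ((MonoidHom.ofInjective hfinj).trans (MulEquiv.subgroupCongr hrange)).symm

/-- `T^m × T^n ≃* T^(m+n)` -/
def appendMulEquiv (T : Type*) [Group T] (m n : ℕ) :
    (Fin m → T) × (Fin n → T) ≃* (Fin (m + n) → T) :=
  { Fin.appendEquiv m n with
    map_mul' := by
      intro p q
      funext i
      refine Fin.addCases (fun i => ?_) (fun i => ?_) i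
      · simp [Fin.appendEquiv]
      · simp [Fin.appendEquiv] }

end misc

section prim

variable {G Ω : Type*} [Group G] [MulAction G Ω] [FaithfulSMul G Ω]

theorem trans_of_normal [IsPreprimitive G Ω] (K : Subgroup G) [K.Normal] (hK : K ≠ ⊥) :
    IsPretransitive K Ω := by
  apply IsQuasiPreprimitive.isPretransitive_of_normal
  intro hall
  apply hK
  rw [Subgroup.eq_bot_iff_forall]
  intro k hk
  apply FaithfulSMul.eq_of_smul_eq_smul (α := Ω)
  intro ω
  have h : ω ∈ fixedPoints K Ω := by rw [hall]; trivial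
  rw [one_smul]
  exact h ⟨k, hk⟩

end prim

/-- The socle of a finite primitive permutation group. Let a finite group G act faithfully and primitively on a set Ω, and let N be the subgroup generated by the minimal normal subgroups of G. Then either N is an elementary abelian p-group for some prime p and acts regularly on Ω (transitively with trivial point stabilizers), or N is isomorphic to a direct product of m ≥ 1 copies of a non-abelian simple group. -/
theorem result {G Ω : Type*} [Group G] [Finite G] [MulAction G Ω] [FaithfulSMul G Ω] [Finite Ω]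
    (hprim : MulAction.IsPreprimitive G Ω) (N : Subgroup G)
    (hN : N = sSup {V : Subgroup G | V.Normal ∧ V ≠ ⊥ ∧ ∀ M : Subgroup G, M.Normal → M ≤ V → M = ⊥ ∨ M = V}) :
    (∃ p : ℕ, p.Prime ∧ IsMulCommutative N ∧ (∀ x : N, x ^ p = 1) ∧
      MulAction.IsPretransitive N Ω ∧ ∀ ω : Ω, MulAction.stabilizer N ω = ⊥) ∨
    (∃ (T : Type) (_ : Group T) (m : ℕ), 1 ≤ m ∧ IsSimpleGroup T ∧ ¬ IsMulCommutative T ∧ Nonempty (N ≃* (Fin m → T))) := by
  classical
  haveI : IsPretransitive G Ω := hprim.toIsPretransitive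
  set S : Set (Subgroup G) :=
    {V : Subgroup G | V.Normal ∧ V ≠ ⊥ ∧ ∀ M : Subgroup G, M.Normal → M ≤ V → M = ⊥ ∨ M = V} with hS
  have hmemS : ∀ V : Subgroup G, V ∈ S ↔ (V.Normal ∧ V ≠ ⊥ ∧
      ∀ M : Subgroup G, M.Normal → M ≤ V → M = ⊥ ∨ M = V) := fun V => Iff.rfl
  -- transport of membership in `S`
  have htrS : ∀ V ∈ S, (tr G Ω V).Normal ∧ tr G Ω V ≠ ⊥ ∧
      (∀ L' : Subgroup (MulAction.toPermHom G Ω).range, L'.Normal → L' ≤ tr G Ω V →
        L' = ⊥ ∨ L' = tr G Ω V) ∧ IsPretransitive (tr G Ω V) Ω := by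
    intro V hV
    obtain ⟨hVn, hVne, hVmin⟩ := hV
    haveI := hVn
    exact ⟨tr_normal hVn, tr_ne_bot hVne, tr_min hVmin, tr_trans (trans_of_normal V hVne)⟩
  by_cases hne : S = ∅
  · -- the trivial group
    have hNbot : N = ⊥ := by rw [hN, hne, sSup_empty]
    have hG : ∀ g : G, g = 1 := by
      by_contra hcon
      push Not at hcon
      obtain ⟨g, hg⟩ := hcon
      have htop : (⊤ : Subgroup G) ≠ ⊥ := by
        intro h
        have h1 : g ∈ (⊥ : Subgroup G) := h ▸ Subgroup.mem_top g
        exact hg (Subgroup.mem_bot.mp h1)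
      obtain ⟨B, hB, -⟩ := Cfsg.Agent.Lib.Helper20.exists_isMinNormal_le
        (N := (⊤ : Subgroup G)) inferInstance htop
      have h1 : B ∈ S := hB
      rw [hne] at h1
      exact h1
    have hΩ : ∀ a b : Ω, a = b := by
      intro a b
      obtain ⟨g, hg⟩ := exists_smul_eq G a b
      rw [hG g, one_smul] at hg
      exact hg
    left
    refine ⟨2, Nat.prime_two, ?_, ?_, ?_, ?_⟩
    · subst hNbot
      exact ⟨⟨fun x y => Subsingleton.elim _ _⟩⟩
    · intro x
      have h1 : (x : G) = 1 := hG x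
      have h2 : x = 1 := Subtype.ext h1
      rw [h2, one_pow]
    · exact ⟨fun a b => ⟨1, by rw [one_smul]; exact hΩ a b⟩⟩
    · intro ω
      rw [Subgroup.eq_bot_iff_forall]
      intro x _
      exact Subtype.ext (hG x)
  · obtain ⟨M₁, hM₁⟩ := Set.nonempty_iff_ne_empty.mpr hne
    by_cases hab : ∃ M ∈ S, IsMulCommutative M
    · -- an abelian minimal normal subgroup
      obtain ⟨M, hM, hMab⟩ := hab
      obtain ⟨hMn, hMne, hMmin⟩ := hM
      haveI := hMn
      obtain ⟨hM'n, hM'ne, hM'min, hM't⟩ := htrS M ⟨hMn, hMne, hMmin⟩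
      haveI := hM'n
      obtain ⟨-, hstab, ⟨p, hp, hpow⟩, huniq⟩ := Cfsg.Agent.S0703.result (α := Ω)
        (MulAction.toPermHom G Ω).range (tr G Ω M) hM'ne hM'min (tr_comm hMab) hM't
      have hSeq : S = {M} := by
        ext V
        rw [Set.mem_singleton_iff]
        constructor
        · intro hV
          obtain ⟨hV'n, hV'ne, hV'min, -⟩ := htrS V hV
          exact tr_injective (huniq _ hV'n hV'ne hV'min)
        · intro h
          rw [h]
          exact ⟨hMn, hMne, hMmin⟩
      have hNM : N = M := by rw [hN, hSeq, sSup_singleton]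
      subst hNM
      left
      refine ⟨p, hp, hMab, ?_, trans_of_normal N hMne, ?_⟩
      · intro x
        have h1 : eqv G Ω (x : G) ∈ tr G Ω N := Subgroup.mem_map_of_mem _ x.2
        have h2 := hpow _ h1
        rw [← map_pow] at h2
        have h3 : (x : G) ^ p = 1 := (eqv G Ω).injective (by rw [h2, map_one])
        exact Subtype.ext h3
      · intro ω
        exact tr_stab (hstab ω)
    · -- all minimal normal subgroups are non-abelian
      push Not at hab
      obtain ⟨hM₁n, hM₁ne, hM₁min⟩ := hM₁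
      haveI := hM₁n
      obtain ⟨T, hT, m, hTs, hm, ⟨e₁⟩⟩ := Cfsg.Agent.S0721.result M₁ hM₁ne hM₁min
      have hTna : ¬ IsMulCommutative T := by
        intro hTc
        apply hab M₁ ⟨hM₁n, hM₁ne, hM₁min⟩
        constructor
        constructor
        intro x y
        apply e₁.injective
        rw [map_mul, map_mul]
        funext i
        exact hTc.is_comm.comm _ _
      right
      by_cases h2 : ∃ M₂ ∈ S, M₂ ≠ M₁
      · obtain ⟨M₂, hM₂, hne12⟩ := h2
        obtain ⟨hM₂n, hM₂ne, hM₂min⟩ := hM₂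
        haveI := hM₂n
        obtain ⟨hM₁'n, hM₁'ne, hM₁'min, hM₁'t⟩ := htrS M₁ ⟨hM₁n, hM₁ne, hM₁min⟩
        obtain ⟨hM₂'n, hM₂'ne, hM₂'min, hM₂'t⟩ := htrS M₂ ⟨hM₂n, hM₂ne, hM₂min⟩
        haveI := hM₁'n
        haveI := hM₂'n
        have hne' : tr G Ω M₁ ≠ tr G Ω M₂ := fun h => hne12 (tr_injective h).symm
        obtain ⟨-, -, -, ⟨e₁₂⟩, -, -, huniq⟩ := Cfsg.Agent.S0704.result (α := Ω)
          (MulAction.toPermHom G Ω).range (tr G Ω M₁) (tr G Ω M₂) hM₁'ne hM₂'ne hM₁'min hM₂'min
          hne' hM₁'t hM₂'t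
        have hSeq : S = {M₁, M₂} := by
          ext V
          rw [Set.mem_insert_iff, Set.mem_singleton_iff]
          constructor
          · intro hV
            obtain ⟨hV'n, hV'ne, hV'min, -⟩ := htrS V hV
            rcases huniq _ hV'n hV'ne hV'min with h | h
            · left; exact tr_injective h
            · right; exact tr_injective h
          · rintro (h | h)
            · rw [h]; exact ⟨hM₁n, hM₁ne, hM₁min⟩
            · rw [h]; exact ⟨hM₂n, hM₂ne, hM₂min⟩
        have hNM : N = M₁ ⊔ M₂ := by rw [hN, hSeq, sSup_pair]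
        have hdisj : M₁ ⊓ M₂ = ⊥ := by
          have hinf : (M₁ ⊓ M₂).Normal := inferInstance
          rcases hM₁min _ hinf inf_le_left with h | h
          · exact h
          · exfalso
            have hle : M₁ ≤ M₂ := by rw [← h]; exact inf_le_right
            rcases hM₂min M₁ hM₁n hle with h' | h'
            · exact hM₁ne h'
            · exact hne12 h'.symm
        -- the isomorphisms
        have e₂ : M₂ ≃* (Fin m → T) :=
          (((trEquiv (Ω := Ω) M₂).trans e₁₂.symm).trans (trEquiv (Ω := Ω) M₁).symm).trans e₁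
        have e : N ≃* (Fin (m + m) → T) :=
          (((MulEquiv.subgroupCongr hNM).trans (supEquivProd M₁ M₂ hM₁n hM₂n hdisj)).trans
            (MulEquiv.prodCongr e₁ e₂)).trans (appendMulEquiv T m m)
        exact ⟨T, hT, m + m, by omega, hTs, hTna, ⟨e⟩⟩
      · push Not at h2
        have hSeq : S = {M₁} := by
          ext V
          rw [Set.mem_singleton_iff]
          constructor
          · intro hV
            exact h2 V hV
          · intro h
            rw [h]
            exact ⟨hM₁n, hM₁ne, hM₁min⟩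
        have hNM : N = M₁ := by rw [hN, hSeq, sSup_singleton]
        exact ⟨T, hT, m, hm, hTs, hTna, ⟨(MulEquiv.subgroupCongr hNM).trans e₁⟩⟩

end Cfsg.Agent.S3680
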