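import Cfsg.Statements.S3681

set_option autoImplicit false
open Cfsg

namespace Cfsg.Agent.S3681

open MulAction Equiv

theorem perm_apply_inv_self {Ω : Type*} (f : Perm Ω) (z : Ω) : f (f⁻¹ z) = z :=
  f.apply_symm_apply z

theorem perm_inv_apply_self {Ω : Type*} (f : Perm Ω) (z : Ω) : f⁻¹ (f z) = z :=
  f.symm_apply_apply z

/-- Two permutations whose supports meet in exactly one point have a commutator that is a
3-cycle. -/
theorem isThreeCycle_commutator {Ω : Type*} [Fintype Ω] [DecidableEq Ω] (x y : Perm Ω) (γ : Ω)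
    (hxγ : x γ ≠ γ) (hyγ : y γ ≠ γ) (hdis : ∀ ω, ω ≠ γ → x ω = ω ∨ y ω = ω) :
    (x * y * x⁻¹ * y⁻¹).IsThreeCycle := by
  -- basic consequences
  have hx : ∀ ω, ω ≠ γ → y ω ≠ ω → x ω = ω := fun ω h1 h2 => (hdis ω h1).resolve_right h2
  have hy : ∀ ω, ω ≠ γ → x ω ≠ ω → y ω = ω := fun ω h1 h2 => (hdis ω h1).resolve_left h2
  have hxinv : ∀ ω, x ω = ω → x⁻¹ ω = ω := fun ω h => by rw [Perm.inv_eq_iff_eq, h]
  have hyinv : ∀ ω, y ω = ω → y⁻¹ ω = ω := fun ω h => by rw [Perm.inv_eq_iff_eq, h]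
  have hxx : x (x γ) ≠ x γ := fun h => hxγ (x.injective h)
  have hyy : y (y γ) ≠ y γ := fun h => hyγ (y.injective h)
  have hxiγ : x⁻¹ γ ≠ γ := fun h => hxγ (by rw [Perm.inv_eq_iff_eq] at h; exact h.symm)
  have hyiγ : y⁻¹ γ ≠ γ := fun h => hyγ (by rw [Perm.inv_eq_iff_eq] at h; exact h.symm)
  have hxxi : x (x⁻¹ γ) ≠ x⁻¹ γ := by
    rw [perm_apply_inv_self]; exact fun h => hxiγ h.symm
  have hyyi : y (y⁻¹ γ) ≠ y⁻¹ γ := by
    rw [perm_apply_inv_self]; exact fun h => hyiγ h.symm
  have hy_xγ : y (x γ) = x γ := hy _ hxγ hxx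
  have hx_yγ : x (y γ) = y γ := hx _ hyγ hyy
  have hy_xiγ : y (x⁻¹ γ) = x⁻¹ γ := hy _ hxiγ hxxi
  have hx_yiγ : x (y⁻¹ γ) = y⁻¹ γ := hx _ hyiγ hyyi
  have hne : x γ ≠ y γ := fun h => hyy (by rw [← h]; exact hy_xγ)
  -- values of the commutator
  have c1 : (x * y * x⁻¹ * y⁻¹) γ = x γ := by
    simp only [Perm.mul_apply]
    rw [hxinv _ hx_yiγ, perm_apply_inv_self]
  have c2 : (x * y * x⁻¹ * y⁻¹) (x γ) = y γ := by
    simp only [Perm.mul_apply]
    rw [hyinv _ hy_xγ, perm_inv_apply_self, hx_yγ]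
  have c3 : (x * y * x⁻¹ * y⁻¹) (y γ) = γ := by
    simp only [Perm.mul_apply]
    rw [perm_inv_apply_self, hy_xiγ, perm_apply_inv_self]
  have c4 : ∀ ω, ω ≠ γ → ω ≠ x γ → ω ≠ y γ → (x * y * x⁻¹ * y⁻¹) ω = ω := by
    intro ω h1 h2 h3
    simp only [Perm.mul_apply]
    by_cases hyω : y ω = ω
    · rw [hyinv _ hyω]
      by_cases hxω : x ω = ω
      · rw [hxinv _ hxω, hyω, hxω]
      · -- ω ∈ supp x, x⁻¹ ω ∈ supp x, ≠ γ
        have h4 : x⁻¹ ω ≠ γ := fun h => h2 (by rw [Perm.inv_eq_iff_eq] at h; exact h)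
        have h5 : x (x⁻¹ ω) ≠ x⁻¹ ω := by
          rw [perm_apply_inv_self]
          intro h
          apply hxω
          have := congrArg x h
          rw [perm_apply_inv_self] at this
          exact this
        rw [hy _ h4 h5, perm_apply_inv_self]
    · -- ω ∈ supp y
      have h4 : y⁻¹ ω ≠ γ := fun h => h3 (by rw [Perm.inv_eq_iff_eq] at h; exact h)
      have h5 : y (y⁻¹ ω) ≠ y⁻¹ ω := by
        rw [perm_apply_inv_self]
        intro h
        apply hyω
        have := congrArg y h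
        rw [perm_apply_inv_self] at this
        exact this
      rw [hxinv _ (hx _ h4 h5), perm_apply_inv_self, hx _ h1 hyω]
  rw [← card_support_eq_three_iff]
  have hsupp : (x * y * x⁻¹ * y⁻¹).support = {γ, x γ, y γ} := by
    ext ω
    rw [Perm.mem_support]
    simp only [Finset.mem_insert, Finset.mem_singleton]
    constructor
    · intro h
      by_contra hne'
      push Not at hne'
      exact h (c4 ω hne'.1 hne'.2.1 hne'.2.2)
    · rintro (rfl | rfl | rfl)
      · rw [c1]; exact hxγ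
      · rw [c2]; exact fun h => hne h.symm
      · rw [c3]; exact fun h => hyγ h.symm
  rw [hsupp, Finset.card_insert_of_notMem, Finset.card_insert_of_notMem, Finset.card_singleton]
  · simpa using hne
  · simp only [Finset.mem_insert, Finset.mem_singleton]
    push Not
    exact ⟨fun h => hxγ h.symm, fun h => hyγ h.symm⟩

theorem result {G Ω : Type*} [Group G] [Finite G] [MulAction G Ω] [FaithfulSMul G Ω] [Fintype Ω] [DecidableEq Ω]
    (hprim : MulAction.IsPreprimitive G Ω) (hA : ¬ alternatingGroup Ω ≤ (MulAction.toPermHom G Ω).range) :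
    Nat.card G * Nat.factorial ((Fintype.card Ω + 1) / 2) ≤ Nat.factorial (Fintype.card Ω) := by
  classical
  set P : Subgroup (Perm Ω) := (MulAction.toPermHom G Ω).range with hP
  have hcardP : Nat.card P = Nat.card G := by
    have hinj : Function.Injective (MulAction.toPermHom G Ω) := MulAction.toPerm_injective
    exact (Nat.card_congr (Equiv.ofInjective _ hinj)).symm
  -- P is primitive
  have hprimP : IsPreprimitive P Ω := by
    let φ : G → P := (MulAction.toPermHom G Ω).rangeRestrict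
    let f : Ω →ₑ[φ] Ω := ⟨id, fun g x => rfl⟩
    exact IsPreprimitive.of_surjective (f := f) Function.surjective_id
  -- no 3-cycles in P
  have hno3 : ∀ σ ∈ P, ¬ σ.IsThreeCycle := fun σ hσ h3 =>
    hA (Perm.alternatingGroup_le_of_isPreprimitive_of_isThreeCycle_mem hprimP h3 hσ)
  -- maximal subset with trivial intersection
  let Q : Finset Ω → Prop := fun Δ => ∀ σ ∈ P, (∀ x, x ∉ Δ → σ x = x) → σ = 1
  have hQ0 : Q ∅ := by
    intro σ _ h
    ext x
    simpa using h x (Finset.notMem_empty x)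
  obtain ⟨Δ, hΔQ, hΔmax⟩ := Set.exists_max_image {Δ | Q Δ} Finset.card (Set.toFinite _) ⟨∅, hQ0⟩
  -- counting
  have hcount : Nat.card P * Nat.factorial Δ.card ≤ Nat.factorial (Fintype.card Ω) := by
    let F : P × Perm {x // x ∈ Δ} → Perm Ω := fun a => (a.1 : Perm Ω) * Perm.ofSubtype a.2
    have hF : Function.Injective F := by
      rintro ⟨p1, σ1⟩ ⟨p2, σ2⟩ h
      change (p1 : Perm Ω) * Perm.ofSubtype σ1 = (p2 : Perm Ω) * Perm.ofSubtype σ2 at h
      have h1 : ((p2⁻¹ * p1 : P) : Perm Ω) = Perm.ofSubtype (σ2 * σ1⁻¹) := by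
        rw [map_mul, map_inv, Subgroup.coe_mul, Subgroup.coe_inv, eq_mul_inv_iff_mul_eq, mul_assoc, h,
          inv_mul_cancel_left]
      have h2 : ((p2⁻¹ * p1 : P) : Perm Ω) = 1 := by
        apply hΔQ _ (p2⁻¹ * p1 : P).2
        intro x hx
        rw [h1]
        exact Perm.ofSubtype_apply_of_not_mem _ hx
      have h3 : p2⁻¹ * p1 = 1 := Subtype.ext h2
      have h4 : p1 = p2 := by
        rw [inv_mul_eq_one] at h3; exact h3.symm
      rw [h2] at h1
      have h5 : σ2 * σ1⁻¹ = 1 := by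
        apply Perm.ofSubtype_injective
        rw [← h1, map_one]
      rw [mul_inv_eq_one] at h5
      rw [h4, h5]
    have := Nat.card_le_card_of_injective F hF
    rw [Nat.card_prod, Nat.card_perm, Nat.card_perm, Nat.card_eq_fintype_card (α := {x // x ∈ Δ}),
      Fintype.card_coe, Nat.card_eq_fintype_card (α := Ω)] at this
    exact this
  -- Δ is large
  have hlarge : (Fintype.card Ω + 1) / 2 ≤ Δ.card := by
    by_contra hsmall
    push Not at hsmall
    have hcc : Δ.card + Δᶜ.card = Fintype.card Ω := Finset.card_add_card_compl Δ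
    have hlt : Δ.card < Δᶜ.card := by omega
    -- Δᶜ fails Q
    have hnQ : ¬ Q Δᶜ := fun h => by
      have := hΔmax Δᶜ h
      omega
    simp only [Q] at hnQ
    push Not at hnQ
    obtain ⟨y, hyP, hysupp, hy1⟩ := hnQ
    obtain ⟨γ, hγ⟩ : ∃ γ, y γ ≠ γ := by
      by_contra hne
      push Not at hne
      exact hy1 (Perm.ext hne)
    have hγΔ : γ ∉ Δ := by
      intro h
      apply hγ
      apply hysupp
      simpa using h
    have hnQ' : ¬ Q (insert γ Δ) := fun h => by
      have := hΔmax _ h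
      rw [Finset.card_insert_of_notMem hγΔ] at this
      omega
    simp only [Q] at hnQ'
    push Not at hnQ'
    obtain ⟨x, hxP, hxsupp, hx1⟩ := hnQ'
    have hxγ : x γ ≠ γ := by
      intro hfix
      apply hx1
      apply hΔQ x hxP
      intro z hz
      by_cases hzγ : z = γ
      · rw [hzγ]; exact hfix
      · apply hxsupp
        simp [hzγ, hz]
    have hdis : ∀ ω, ω ≠ γ → x ω = ω ∨ y ω = ω := by
      intro ω hω
      by_cases hωΔ : ω ∈ Δ
      · right
        apply hysupp
        simpa using hωΔ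
      · left
        apply hxsupp
        simp [hω, hωΔ]
    have h3 := isThreeCycle_commutator x y γ hxγ hγ hdis
    exact hno3 _ (P.mul_mem (P.mul_mem (P.mul_mem hxP hyP) (P.inv_mem hxP)) (P.inv_mem hyP)) h3
  calc Nat.card G * Nat.factorial ((Fintype.card Ω + 1) / 2)
      = Nat.card P * Nat.factorial ((Fintype.card Ω + 1) / 2) := by rw [hcardP]
    _ ≤ Nat.card P * Nat.factorial Δ.card := Nat.mul_le_mul_left _ (Nat.factorial_le hlarge)
    _ ≤ Nat.factorial (Fintype.card Ω) := hcount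

end Cfsg.Agent.S3681
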