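import Cfsg.Statements.S3682
import Cfsg.Agent.Lib.Helper23.WPerm

set_option autoImplicit false
open Cfsg

namespace Cfsg.Agent.S3682

/-- Wielandt's bound toward the Sims conjecture. Let a finite group G act faithfully and primitively on a set Ω, let a and b be points, and suppose the orbit of b under the stabilizer of a has length d ≥ 2. Then there are a prime p and a normal p-subgroup P of the stabilizer of a, all of whose elements fix b, such that the index of P in the stabilizer of a divides d! · ((d - 1)!)^d. -/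
theorem result {G Ω : Type*} [Group G] [Finite G] [MulAction G Ω] [FaithfulSMul G Ω] [Finite Ω]
    (hprim : MulAction.IsPreprimitive G Ω) (a b : Ω) (d : ℕ) (hd : Nat.card (MulAction.orbit (MulAction.stabilizer G a) b) = d) (h2 : 2 ≤ d) :
    ∃ p : ℕ, p.Prime ∧ ∃ P : Subgroup (MulAction.stabilizer G a), P.Normal ∧ IsPGroup p P ∧ (∀ g : P, ((g : MulAction.stabilizer G a) : G) • b = b) ∧
      P.index ∣ Nat.factorial d * (Nat.factorial (d - 1)) ^ d := by
  obtain ⟨hmax, ⟨g, hconj⟩, hne, hcore, hdM, hdL, hcard⟩ :=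
    Cfsg.Agent.Lib.Helper23.WPerm.setup hprim a b d hd h2
  set M := MulAction.stabilizer G a with hM
  set L := MulAction.stabilizer G b with hL
  by_cases h : Cfsg.Agent.Lib.Helper23.WPerm.A₂ M L = ⊥ ∨ Cfsg.Agent.Lib.Helper23.WPerm.B₂ M L = ⊥
  · refine ⟨2, Nat.prime_two, ⊥, inferInstance, IsPGroup.of_bot, ?_, ?_⟩
    · rintro ⟨x, hx⟩
      rw [Subgroup.mem_bot] at hx
      subst hx
      simp
    · rw [Subgroup.index_bot]
      exact Cfsg.Agent.Lib.Helper23.WPerm.card_dvd_of_eq_bot M L d hdM hdL hcard h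
  · push Not at h
    obtain ⟨p, hp, hpg, -, -⟩ :=
      Cfsg.Agent.Lib.Helper23.WPerm.tw M L hmax g hconj hne hcore h.1 h.2
    have hAle := Cfsg.Agent.Lib.Helper23.WPerm.A₂_le M L
    refine ⟨p, hp, (Cfsg.Agent.Lib.Helper23.WPerm.A₂ M L).subgroupOf M, ?_, ?_, ?_, ?_⟩
    · exact (Subgroup.normal_subgroupOf_iff_le_normalizer (hAle.trans inf_le_left)).mpr
        (Cfsg.Agent.Lib.Helper23.WPerm.A₂_norm M L)
    · have h1 : IsPGroup p ↥(Cfsg.Agent.Lib.Helper23.WPerm.A₂ M L) := hpg.to_le le_sup_left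
      exact h1.comap_of_injective M.subtype M.subtype_injective
    · rintro ⟨x, hx⟩
      have : (x : G) ∈ L := (hAle (Subgroup.mem_subgroupOf.mp hx)).2
      exact MulAction.mem_stabilizer_iff.mp this
    · exact Cfsg.Agent.Lib.Helper23.WPerm.A₂_relIndex M L d hdM hdL

end Cfsg.Agent.S3682
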