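import Cfsg.Statements.S3683
import Mathlib

set_option autoImplicit false
open Cfsg

namespace Cfsg.Agent.S3683

/-- A group in which `⊥` is a maximal subgroup, and which is nontrivial, is cyclic of prime order. -/
lemma cyclic_prime_of_bot_coatom {G : Type*} [Group G] [Finite G]
    (h : ∀ H : Subgroup G, H = ⊥ ∨ H = ⊤) (g : G) (hg : g ≠ 1) :
    IsCyclic G ∧ (Nat.card G).Prime := by
  have hz : Subgroup.zpowers g = ⊤ := by
    rcases h (Subgroup.zpowers g) with h1 | h1
    · exfalso; apply hg
      have : g ∈ Subgroup.zpowers g := Subgroup.mem_zpowers g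
      rw [h1] at this
      exact Subgroup.mem_bot.mp this
    · exact h1
  have hc : IsCyclic G := isCyclic_iff_exists_zpowers_eq_top.mpr ⟨g, hz⟩
  refine ⟨hc, ?_⟩
  letI : CommGroup G := IsCyclic.commGroup
  haveI : Nontrivial G := ⟨⟨g, 1, hg⟩⟩
  haveI : IsSimpleGroup G := ⟨fun H _ => h H⟩
  exact IsSimpleGroup.prime_card

theorem result {G Ω : Type*} [Group G] [Finite G] [MulAction G Ω] [FaithfulSMul G Ω] [Finite Ω]
    (hprim : MulAction.IsPreprimitive G Ω) (a b : Ω) (hab : a ≠ b) (hfix : ∀ g : G, g • a = a → g • b = b) :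
    MulAction.stabilizer G a = ⊥ ∧ IsCyclic G ∧ (Nat.card G).Prime := by
  haveI : Nontrivial Ω := ⟨⟨a, b, hab⟩⟩
  haveI := hprim
  have hca : IsCoatom (MulAction.stabilizer G a) :=
    MulAction.IsPreprimitive.isCoatom_stabilizer_of_isPreprimitive G a
  have hcb : IsCoatom (MulAction.stabilizer G b) :=
    MulAction.IsPreprimitive.isCoatom_stabilizer_of_isPreprimitive G b
  have hle : MulAction.stabilizer G a ≤ MulAction.stabilizer G b := by
    intro g hg
    rw [MulAction.mem_stabilizer_iff] at hg ⊢
    exact hfix g hg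
  have heq : MulAction.stabilizer G a = MulAction.stabilizer G b := by
    rcases eq_or_lt_of_le hle with h | h
    · exact h
    · exact absurd (hca.2 _ h) hcb.1
  obtain ⟨g, hg⟩ := MulAction.exists_smul_eq G a b
  have hgne : g ≠ 1 := by
    rintro rfl; simp at hg; exact hab hg
  have hgnot : g ∉ MulAction.stabilizer G a := by
    intro h; rw [MulAction.mem_stabilizer_iff] at h; exact hab (h.symm.trans hg)
  have hgN : g ∈ Subgroup.normalizer (MulAction.stabilizer G a : Set G) := by
    rw [Subgroup.mem_normalizer_iff_map_conj_eq]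
    have := MulAction.stabilizer_smul_eq_stabilizer_map_conj g a
    rw [hg, ← heq] at this
    exact this.symm
  have hN : Subgroup.normalizer (MulAction.stabilizer G a : Set G) = ⊤ := by
    have hle' : MulAction.stabilizer G a ≤ Subgroup.normalizer (MulAction.stabilizer G a : Set G) :=
      Subgroup.le_normalizer
    rcases eq_or_lt_of_le hle' with h | h
    · exfalso; apply hgnot; rw [h]; exact hgN
    · exact hca.2 _ h
  have hnormal : (MulAction.stabilizer G a).Normal := Subgroup.normalizer_eq_top_iff.mp hN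
  have hbot : MulAction.stabilizer G a = ⊥ := by
    rw [eq_bot_iff]
    intro h hh
    rw [Subgroup.mem_bot]
    apply FaithfulSMul.eq_of_smul_eq_smul (α := Ω)
    intro x
    obtain ⟨k, rfl⟩ := MulAction.exists_smul_eq G a x
    rw [one_smul]
    have h1 : k⁻¹ * h * k ∈ MulAction.stabilizer G a := by
      have := hnormal.conj_mem h hh k⁻¹
      simpa using this
    rw [MulAction.mem_stabilizer_iff] at h1
    calc h • k • a = k • ((k⁻¹ * h * k) • a) := by simp [mul_smul]
      _ = k • a := by rw [h1]
  refine ⟨hbot, ?_⟩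
  apply cyclic_prime_of_bot_coatom _ g hgne
  intro H
  rcases eq_or_lt_of_le (bot_le : ⊥ ≤ H) with h | h
  · left; exact h.symm
  · right; rw [← hbot] at h; exact hca.2 _ h

end Cfsg.Agent.S3683
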