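-- Statement S3684.
import Cfsg.Statements.S3684
import Cfsg.Agent.Lib.Helper2.DihedralIso

set_option autoImplicit false
open Cfsg

namespace Cfsg.Agent.S3684

theorem stab_card_two {G Ω : Type*} [Group G] [Finite G] [MulAction G Ω] [FaithfulSMul G Ω] [Finite Ω]
    (hprim : MulAction.IsPreprimitive G Ω) (a b : Ω)
    (h2 : Nat.card (MulAction.orbit (MulAction.stabilizer G a) b) = 2) :
    Nat.card (MulAction.stabilizer G a) = 2 ∧ MulAction.stabilizer G a ⊓ MulAction.stabilizer G b = ⊥ ∧
      Nat.card (MulAction.stabilizer G b) = 2 ∧ IsCoatom (MulAction.stabilizer G a) ∧ Nontrivial Ω := by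
  set Ga := MulAction.stabilizer G a with hGa
  set Gb := MulAction.stabilizer G b with hGb
  have hab : a ≠ b := by
    intro h
    have : MulAction.orbit Ga b = {b} := by
      ext x
      constructor
      · rintro ⟨g, rfl⟩
        have : (g : G) • a = a := g.2
        show (g : G) • b = b
        rw [← h]; exact this
      · intro hx; rw [Set.mem_singleton_iff] at hx; rw [hx]; exact MulAction.mem_orbit_self b
    rw [this] at h2
    simp at h2
  have : Nontrivial Ω := ⟨⟨a, b, hab⟩⟩
  -- relative index of Gb in Ga is 2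
  have hstab : MulAction.stabilizer Ga b = Gb.subgroupOf Ga := by
    ext g
    rw [MulAction.mem_stabilizer_iff, Subgroup.mem_subgroupOf, hGb, MulAction.mem_stabilizer_iff]
    rfl
  have hrel1 : Gb.relIndex Ga = 2 := by
    unfold Subgroup.relIndex
    rw [← hstab, MulAction.index_stabilizer, ← Nat.card_coe_set_eq, h2]
  -- conjugacy
  obtain ⟨g, hg⟩ := MulAction.exists_smul_eq G a b
  have hconj : Gb = Ga.map (MulAut.conj g).toMonoidHom := by
    rw [hGb, ← hg, MulAction.stabilizer_smul_eq_stabilizer_map_conj]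
  have hcard : Nat.card Gb = Nat.card Ga := by
    rw [hconj]
    exact Subgroup.card_map_of_injective (MulAut.conj g).injective
  -- |Ga| = 2 |T|
  have cardT : ∀ H K : Subgroup G, Nat.card (H.subgroupOf K) = Nat.card (K ⊓ H : Subgroup G) := by
    intro H K
    rw [← Subgroup.inf_subgroupOf_left H K]
    exact Nat.card_congr (Subgroup.subgroupOfEquivOfLe inf_le_left).toEquiv
  have hT1 : Nat.card (Ga ⊓ Gb : Subgroup G) * 2 = Nat.card Ga := by
    have := Subgroup.card_mul_index (Gb.subgroupOf Ga)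
    rw [← Subgroup.relIndex, hrel1, cardT] at this
    exact this
  have hrel2 : Ga.relIndex Gb = 2 := by
    have := Subgroup.card_mul_index (Ga.subgroupOf Gb)
    rw [← Subgroup.relIndex, cardT, inf_comm, hcard, ← hT1] at this
    have hpos : 0 < Nat.card (Ga ⊓ Gb : Subgroup G) := Nat.card_pos
    exact Nat.eq_of_mul_eq_mul_left hpos this
  -- normality
  have hn1 : Ga ≤ Subgroup.normalizer ((Ga ⊓ Gb : Subgroup G) : Set G) := by
    rw [← Subgroup.normal_subgroupOf_iff_le_normalizer inf_le_left, Subgroup.inf_subgroupOf_left]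
    exact Subgroup.normal_of_index_eq_two hrel1
  have hn2 : Gb ≤ Subgroup.normalizer ((Ga ⊓ Gb : Subgroup G) : Set G) := by
    rw [← Subgroup.normal_subgroupOf_iff_le_normalizer inf_le_right, Subgroup.inf_subgroupOf_right]
    exact Subgroup.normal_of_index_eq_two hrel2
  -- Ga ⊔ Gb = ⊤
  have hcoatom : IsCoatom Ga := (MulAction.isCoatom_stabilizer_iff_preprimitive G a).mpr hprim
  have hnle : ¬ Gb ≤ Ga := by
    intro hle
    have : Ga.relIndex Gb = 1 := Subgroup.relIndex_eq_one.mpr hle
    omega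
  have hsup : Ga ⊔ Gb = ⊤ := by
    apply hcoatom.2
    exact lt_of_le_of_ne le_sup_left (fun h => hnle (h ▸ le_sup_right))
  have hnormal : (Ga ⊓ Gb : Subgroup G).Normal := by
    rw [← Subgroup.normalizer_eq_top_iff, eq_top_iff, ← hsup]
    exact sup_le hn1 hn2
  -- T is trivial
  have hTbot : (Ga ⊓ Gb : Subgroup G) = ⊥ := by
    rw [eq_bot_iff]
    intro t ht
    rw [Subgroup.mem_bot]
    apply FaithfulSMul.eq_of_smul_eq_smul (α := Ω)
    intro x
    rw [one_smul]
    obtain ⟨k, rfl⟩ := MulAction.exists_smul_eq G a x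
    have h1 : k⁻¹ * t * k ∈ (Ga ⊓ Gb : Subgroup G) := by
      have := hnormal.conj_mem t ht k⁻¹
      rwa [inv_inv] at this
    have h2 : (k⁻¹ * t * k) • a = a := h1.1
    rw [mul_smul, mul_smul, inv_smul_eq_iff] at h2
    exact h2
  have hc2 : Nat.card Ga = 2 := by rw [← hT1, hTbot, Subgroup.card_bot]
  exact ⟨hc2, hTbot, hcard.trans hc2, hcoatom, this⟩


theorem exists_involution {G : Type*} [Group G] (H : Subgroup G) (hH : Nat.card H = 2) :
    ∃ t : G, t ∈ H ∧ t ≠ 1 ∧ t * t = 1 ∧ H = Subgroup.zpowers t := by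
  have hfin : Finite H := Nat.finite_of_card_ne_zero (by rw [hH]; norm_num)
  have hne : H ≠ ⊥ := fun h => by rw [h, Subgroup.card_bot] at hH; omega
  obtain ⟨t, ht1⟩ := (Subgroup.ne_bot_iff_exists_ne_one).mp hne
  have ht1' : (t : G) ≠ 1 := fun h => ht1 (Subtype.ext h)
  have hdvd : orderOf (t : G) ∣ 2 := by rw [← hH]; exact Subgroup.orderOf_dvd_natCard H t.2
  have hord : orderOf (t : G) = 2 := by
    have h1 : orderOf (t : G) ≠ 1 := fun h => ht1' (orderOf_eq_one_iff.mp h)
    have h2 : orderOf (t : G) ≤ 2 := Nat.le_of_dvd (by norm_num) hdvd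
    have h3 : orderOf (t : G) ≠ 0 := fun h => by rw [h] at hdvd; omega
    omega
  refine ⟨t, t.2, ht1', ?_, ?_⟩
  · have := pow_orderOf_eq_one (t : G)
    rwa [hord, pow_two] at this
  · symm
    apply Subgroup.eq_of_le_of_card_ge
    · rw [Subgroup.zpowers_le]; exact t.2
    · rw [Nat.card_zpowers, hord, hH]


/-- Let a finite group G act faithfully and primitively on a set Ω, and suppose the stabilizer of a point a has an orbit of length 2. Then the stabilizer of a has order 2 and G is isomorphic to the dihedral group of order 2p for some prime p. -/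
theorem result {G Ω : Type*} [Group G] [Finite G] [MulAction G Ω] [FaithfulSMul G Ω] [Finite Ω]
    (hprim : MulAction.IsPreprimitive G Ω) (a b : Ω) (h2 : Nat.card (MulAction.orbit (MulAction.stabilizer G a) b) = 2) :
    Nat.card (MulAction.stabilizer G a) = 2 ∧ ∃ p : ℕ, p.Prime ∧ Nonempty (G ≃* DihedralGroup p) := by
  obtain ⟨hcard, hT, hcardb, hcoatom, hnt⟩ := stab_card_two hprim a b h2
  refine ⟨hcard, ?_⟩
  obtain ⟨t, htGa, ht1, htt, hGat⟩ := exists_involution _ hcard
  obtain ⟨t', ht'Gb, ht'1, ht't', hGbt'⟩ := exists_involution _ hcardb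
  have ht'Ga : t' ∉ MulAction.stabilizer G a := fun h => ht'1 (by
    have : t' ∈ MulAction.stabilizer G a ⊓ MulAction.stabilizer G b := ⟨h, ht'Gb⟩
    rw [hT] at this; exact this)
  have hclosure : Subgroup.closure ({t, t'} : Set G) = ⊤ := by
    apply hcoatom.2
    refine lt_of_le_of_ne ?_ ?_
    · rw [hGat, Subgroup.zpowers_le]
      exact Subgroup.subset_closure (by simp)
    · intro h
      apply ht'Ga
      rw [h]
      exact Subgroup.subset_closure (by simp)
  obtain ⟨e⟩ := Cfsg.Agent.Lib.Helper2.TwoInv.nonempty_mulEquiv_dihedral htt ht't' ht1 ht'1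
  set r := t * t' with hr
  set m := orderOf r with hm
  have e' : G ≃* DihedralGroup m :=
    (Subgroup.topEquiv.symm.trans (MulEquiv.subgroupCongr hclosure.symm)).trans e
  refine ⟨m, ?_, ⟨e'⟩⟩
  -- inverses
  have htinv : t⁻¹ = t := inv_eq_of_mul_eq_one_right htt
  have ht'inv : t'⁻¹ = t' := inv_eq_of_mul_eq_one_right ht't'
  have hrinv : r⁻¹ = t' * t := by rw [hr, mul_inv_rev, htinv, ht'inv]
  have hconj1 : t * r * t⁻¹ = r⁻¹ := by
    rw [hrinv, htinv, hr, ← mul_assoc, htt, one_mul]
  have hconj2 : t' * r * t'⁻¹ = r⁻¹ := by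
    rw [hrinv, ht'inv, hr, mul_assoc, mul_assoc, ht't', mul_one]
  have hm0 : m ≠ 0 := (orderOf_pos r).ne'
  have hm1 : m ≠ 1 := by
    intro h
    have h1 : r = 1 := orderOf_eq_one_iff.mp h
    have h2 : t = t' := by
      have := mul_eq_one_iff_eq_inv.mp h1
      rw [this, ht'inv]
    exact ht'Ga (h2 ▸ htGa)
  -- degree
  have : MulAction.IsPretransitive G Ω := hprim.toIsPretransitive
  have hG2m : Nat.card G = 2 * m := by
    rw [Nat.card_congr e'.toEquiv, DihedralGroup.nat_card]
  have hdeg : Nat.card Ω = m := by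
    have h1 := Subgroup.card_mul_index (MulAction.stabilizer G a)
    rw [MulAction.index_stabilizer_of_transitive, hcard, hG2m] at h1
    omega
  rw [Nat.prime_def]
  refine ⟨by omega, ?_⟩
  intro c hc
  by_cases hcm : c = m
  · exact Or.inr hcm
  left
  have hc0 : c ≠ 0 := fun h => hm0 (by rw [h] at hc; exact zero_dvd_iff.mp hc)
  set s := r ^ c with hs
  have hsord : orderOf s = m / c := orderOf_pow_of_dvd hc0 hc
  have hsinv : ∀ g : G, g * r * g⁻¹ = r⁻¹ → g ∈ Subgroup.normalizer ((Subgroup.zpowers s : Subgroup G) : Set G) := by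
    intro g hg
    apply Subgroup.mem_normalizer_fintype
    rintro n ⟨k, rfl⟩
    have h1 : g * s * g⁻¹ = s⁻¹ := by
      rw [hs, ← conj_pow, hg, inv_pow]
    show g * s ^ k * g⁻¹ ∈ Subgroup.zpowers s
    rw [← conj_zpow, h1]
    exact Subgroup.zpow_mem _ (Subgroup.inv_mem _ (Subgroup.mem_zpowers s)) k
  have hNnormal : (Subgroup.zpowers s).Normal := by
    rw [← Subgroup.normalizer_eq_top_iff, eq_top_iff, ← hclosure, Subgroup.closure_le]
    intro g hg
    rcases hg with rfl | rfl
    · exact hsinv _ hconj1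
    · exact hsinv _ hconj2
  have hs1 : s ≠ 1 := by
    intro h
    have h1 : orderOf s = 1 := orderOf_eq_one_iff.mpr h
    rw [hsord] at h1
    obtain ⟨d, hd⟩ := hc
    rw [hd, Nat.mul_div_cancel_left d (Nat.pos_of_ne_zero hc0)] at h1
    apply hcm
    rw [hd, h1, mul_one]
  have hfix : MulAction.fixedPoints (Subgroup.zpowers s) Ω ≠ Set.univ := by
    intro h
    apply hs1
    apply FaithfulSMul.eq_of_smul_eq_smul (α := Ω)
    intro x
    rw [one_smul]
    have : x ∈ MulAction.fixedPoints (Subgroup.zpowers s) Ω := by rw [h]; exact Set.mem_univ x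
    exact this ⟨s, Subgroup.mem_zpowers s⟩
  have := hNnormal
  have : MulAction.IsPreprimitive G Ω := hprim
  have htrans : MulAction.IsPretransitive (Subgroup.zpowers s) Ω :=
    MulAction.IsQuasiPreprimitive.isPretransitive_of_normal hfix
  have hdvd : m ∣ m / c := by
    have h1 := MulAction.index_stabilizer_of_transitive (Subgroup.zpowers s) a
    have h2 := Subgroup.index_dvd_card (MulAction.stabilizer (Subgroup.zpowers s) a)
    rw [h1, hdeg, Nat.card_zpowers, hsord] at h2
    exact h2
  have hpos : 0 < m / c := Nat.div_pos (Nat.le_of_dvd (Nat.pos_of_ne_zero hm0) hc) (Nat.pos_of_ne_zero hc0)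
  have hle : m ≤ m / c := Nat.le_of_dvd hpos hdvd
  have hcm' : c * (m / c) = m := Nat.mul_div_cancel' hc
  by_contra hc1
  have : 2 ≤ c := by omega
  nlinarith

end Cfsg.Agent.S3684
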