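import Cfsg.Statements.S3693
import Cfsg.Agent.Lib.Helper23.WFit

set_option autoImplicit false
open Cfsg

namespace Cfsg.Agent.S3693

/-- Let a finite group G act faithfully and primitively on a set Ω, let a and b be points such that the orbit Δ of b under the stabilizer H of a has length d ≥ 2, and consider the permutation group induced on Δ by the elements of H fixing b. If that induced group has trivial Fitting subgroup (no non-trivial nilpotent normal subgroup), then the two-point stabilizer of a and b has trivial Fitting subgroup and the order of H divides d! · ((d - 1)!)^d. -/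
theorem result {G Ω : Type*} [Group G] [Finite G] [MulAction G Ω] [FaithfulSMul G Ω] [Finite Ω]
    (hprim : MulAction.IsPreprimitive G Ω) (a b : Ω) (d : ℕ) (hd : Nat.card (MulAction.orbit (MulAction.stabilizer G a) b) = d) (h2 : 2 ≤ d)
    (hF : Cfsg.fittingSubgroup ↥(((MulAction.stabilizer G b).subgroupOf (MulAction.stabilizer G a)).map (MulAction.toPermHom (MulAction.stabilizer G a) (MulAction.orbit (MulAction.stabilizer G a) b))) = ⊥) :
    Cfsg.fittingSubgroup ↥(MulAction.stabilizer G a ⊓ MulAction.stabilizer G b) = ⊥ ∧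
      Nat.card (MulAction.stabilizer G a) ∣ Nat.factorial d * (Nat.factorial (d - 1)) ^ d := by
  obtain ⟨hmax, ⟨g, hconj⟩, hne, hcore, hdM, hdL, hcard⟩ :=
    Cfsg.Agent.Lib.Helper23.WPerm.setup hprim a b d hd h2
  set M := MulAction.stabilizer G a with hM
  set L := MulAction.stabilizer G b with hL
  -- every `O_r(M ∩ L)` is trivial
  have key : ∀ r : ℕ, r.Prime → pCoreOf r (M ⊓ L) = ⊥ := by
    intro r hr
    haveI : Fact r.Prime := ⟨hr⟩
    apply Cfsg.Agent.Lib.Helper23.WFit.pCoreOf_inf_eq_bot M L hmax g hconj hne hcore r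
    set R := pCoreOf r (M ⊓ L) with hR
    have hRD : R ≤ M ⊓ L := Cfsg.Agent.Lib.Helper17.pCoreOf_le _
    have hRp : IsPGroup r R := Cfsg.Agent.Lib.Helper17.pCoreOf_isPGroup _
    have hRn : M ⊓ L ≤ Subgroup.normalizer (R : Set G) :=
      Cfsg.Agent.Lib.Helper17.le_normalizer_pCoreOf _
    have hRM : R ≤ M := hRD.trans inf_le_left
    have h1 : R.subgroupOf M ≤ (MulAction.toPermHom ↥M (MulAction.orbit ↥M b)).ker := by
      apply Cfsg.Agent.Lib.Helper23.WFit.le_ker_of_fitting_image_eq_bot
        (MulAction.toPermHom ↥M (MulAction.orbit ↥M b)) (L.subgroupOf M) (R.subgroupOf M)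
        (r := r) _ _ _ hF
      · intro x hx
        exact Subgroup.mem_subgroupOf.mpr (hRD (Subgroup.mem_subgroupOf.mp hx)).2
      · rw [← Subgroup.subgroupOf_normalizer_eq hRM]
        intro x hx
        rw [Subgroup.mem_subgroupOf] at hx ⊢
        exact hRn ⟨x.2, hx⟩
      · exact hRp.comap_of_injective M.subtype M.subtype_injective
    intro x hx
    exact Cfsg.Agent.Lib.Helper23.WFit.mem_coreIn_of_mem_ker M b ⟨x, hRM hx⟩
      (h1 (Subgroup.mem_subgroupOf.mpr hx))
  refine ⟨?_, ?_⟩
  · rw [Cfsg.Agent.Lib.Helper1.fittingSubgroup_eq_iSup_primes, iSup_eq_bot]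
    intro q
    have h1 := key q q.2
    unfold pCoreOf at h1
    exact (Subgroup.map_eq_bot_iff_of_injective _ (M ⊓ L).subtype_injective).mp h1
  · by_cases h : Cfsg.Agent.Lib.Helper23.WPerm.A₂ M L = ⊥ ∨ Cfsg.Agent.Lib.Helper23.WPerm.B₂ M L = ⊥
    · exact Cfsg.Agent.Lib.Helper23.WPerm.card_dvd_of_eq_bot M L d hdM hdL hcard h
    · push Not at h
      exfalso
      obtain ⟨p, hp, hpg, -, -⟩ :=
        Cfsg.Agent.Lib.Helper23.WPerm.tw M L hmax g hconj hne hcore h.1 h.2
      haveI : Fact p.Prime := ⟨hp⟩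
      have hAle := Cfsg.Agent.Lib.Helper23.WPerm.A₂_le M L
      have h1 : Cfsg.Agent.Lib.Helper23.WPerm.A₂ M L ≤ pCoreOf p (M ⊓ L) :=
        Cfsg.Agent.Lib.Helper17.le_pCoreOf hAle
          (inf_le_left.trans (Cfsg.Agent.Lib.Helper23.WPerm.A₂_norm M L)) (hpg.to_le le_sup_left)
      rw [key p hp, le_bot_iff] at h1
      exact h.1 h1

end Cfsg.Agent.S3693
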