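import Mathlib
import Cfsg.Statements.S3696

set_option autoImplicit false
open Cfsg

namespace Cfsg.Agent.S3696

open scoped BigOperators

/-- elements of order dividing `p` killed by all characters labelled in `T` -/
def HH {A : Type*} [CommGroup A] (p : ℕ) {Λ : Type*} {C : Λ → Type*} [∀ l, Group (C l)]
    (χ : ∀ l, A →* C l) (T : Finset Λ) : Subgroup A where
  carrier := {a | a ^ p = 1 ∧ ∀ l ∈ T, χ l a = 1}
  mul_mem' := by
    rintro a b ⟨ha, ha'⟩ ⟨hb, hb'⟩
    exact ⟨by rw [mul_pow, ha, hb, one_mul],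
      fun l hl => by rw [map_mul, ha' l hl, hb' l hl, one_mul]⟩
  one_mem' := ⟨one_pow _, fun l _ => map_one _⟩
  inv_mem' := by
    rintro a ⟨ha, ha'⟩
    exact ⟨by rw [inv_pow, ha, inv_one], fun l hl => by rw [map_inv, ha' l hl, inv_one]⟩

theorem mem_HH {A : Type*} [CommGroup A] {p : ℕ} {Λ : Type*} {C : Λ → Type*} [∀ l, Group (C l)]
    {χ : ∀ l, A →* C l} {T : Finset Λ} {a : A} :
    a ∈ HH p χ T ↔ a ^ p = 1 ∧ ∀ l ∈ T, χ l a = 1 := Iff.rfl

theorem card_le_of_pow_eq_one {C : Type*} [Group C] [IsCyclic C] (K : Subgroup C) (p : ℕ)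
    (hp : 0 < p) (h : ∀ y ∈ K, y ^ p = 1) : Nat.card K ≤ p := by
  obtain ⟨g, hg⟩ := IsCyclic.exists_generator (α := K)
  have h1 : orderOf g = Nat.card K := orderOf_eq_card_of_forall_mem_zpowers hg
  have h2 : g ^ p = 1 := by
    apply Subtype.ext
    simpa using h g.1 g.2
  rw [← h1]
  exact Nat.le_of_dvd hp (orderOf_dvd_of_pow_eq_one h2)

theorem card_HH_insert {A : Type*} [CommGroup A] [Finite A] (p : ℕ) [hp : Fact p.Prime]
    {Λ : Type*} [DecidableEq Λ] {C : Λ → Type*} [∀ l, CommGroup (C l)] [∀ l, IsCyclic (C l)]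
    [∀ l, Finite (C l)]
    (χ : ∀ l, A →* C l) (T : Finset Λ) (l : Λ) (t : A) (ht : t ∈ HH p χ T) (hl : χ l t ≠ 1) :
    Nat.card (HH p χ (insert l T)) * p = Nat.card (HH p χ T) := by
  have hins : HH p χ (insert l T) = HH p χ T ⊓ (χ l).ker := by
    ext a
    rw [Subgroup.mem_inf, MonoidHom.mem_ker, mem_HH, mem_HH]
    constructor
    · rintro ⟨h1, h2⟩
      exact ⟨⟨h1, fun m hm => h2 m (Finset.mem_insert_of_mem hm)⟩,
        h2 l (Finset.mem_insert_self l T)⟩
    · rintro ⟨⟨h1, h2⟩, h3⟩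
      refine ⟨h1, fun m hm => ?_⟩
      rcases Finset.mem_insert.1 hm with rfl | hm'
      · exact h3
      · exact h2 m hm'
  have hle : HH p χ T ⊓ (χ l).ker ≤ HH p χ T := inf_le_left
  have h1 : Nat.card ↥(HH p χ T ⊓ (χ l).ker) * (HH p χ T ⊓ (χ l).ker).relIndex (HH p χ T)
      = Nat.card (HH p χ T) := by
    have := Subgroup.relIndex_mul_relIndex ⊥ (HH p χ T ⊓ (χ l).ker) (HH p χ T) bot_le hle
    rwa [Subgroup.relIndex_bot_left, Subgroup.relIndex_bot_left] at this
  have h2 : (HH p χ T ⊓ (χ l).ker).relIndex (HH p χ T) = Nat.card ((HH p χ T).map (χ l)) := by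
    rw [Subgroup.inf_relIndex_left]
    exact Subgroup.relIndex_ker (HH p χ T) (χ l)
  have h3 : Nat.card ((HH p χ T).map (χ l)) = p := by
    apply le_antisymm
    · apply card_le_of_pow_eq_one _ p hp.out.pos
      rintro y ⟨a, ha, rfl⟩
      rw [← map_pow, (mem_HH.1 ha).1, map_one]
    · have hy : χ l t ∈ (HH p χ T).map (χ l) := Subgroup.mem_map_of_mem _ ht
      have ho : orderOf (χ l t) = p :=
        orderOf_eq_prime (by rw [← map_pow, (mem_HH.1 ht).1, map_one]) hl
      have hd := Subgroup.orderOf_dvd_natCard _ hy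
      rw [ho] at hd
      exact Nat.le_of_dvd Nat.card_pos hd
  rw [hins, ← h1, h2, h3]

theorem exists_T {A : Type*} [CommGroup A] [Finite A] (p : ℕ) [hp : Fact p.Prime]
    {Λ : Type*} {C : Λ → Type*} [∀ l, CommGroup (C l)] [∀ l, IsCyclic (C l)]
    [∀ l, Finite (C l)]
    (χ : ∀ l, A →* C l) (hχ : ∀ a : A, (∀ l, χ l a = 1) → a = 1)
    (k : ℕ) (hk : Nat.card {x : A // x ^ p = 1} = p ^ k) :
    ∀ j, j ≤ k → ∃ T : Finset Λ, T.card = j ∧ Nat.card (HH p χ T) = p ^ (k - j) := by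
  classical
  intro j
  induction j with
  | zero =>
    intro _
    refine ⟨∅, rfl, ?_⟩
    rw [Nat.sub_zero, ← hk]
    exact Nat.card_congr (Equiv.subtypeEquivRight (fun a => by simp [mem_HH]))
  | succ j ih =>
    intro hj
    obtain ⟨T, hT, hc⟩ := ih (by omega)
    have hgt : 1 < Nat.card (HH p χ T) := by
      rw [hc]
      exact Nat.one_lt_pow (by omega) hp.out.one_lt
    obtain ⟨⟨t, ht⟩, hne⟩ : ∃ t : HH p χ T, t ≠ 1 := by
      haveI : Nontrivial (HH p χ T) := Finite.one_lt_card_iff_nontrivial.1 hgt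
      exact exists_ne 1
    have ht1 : t ≠ 1 := fun h => hne (Subtype.ext h)
    obtain ⟨l, hl⟩ : ∃ l, χ l t ≠ 1 := by
      by_contra hcon
      push Not at hcon
      exact ht1 (hχ t hcon)
    have hlT : l ∉ T := fun hmem => hl ((mem_HH.1 ht).2 l hmem)
    refine ⟨insert l T, by rw [Finset.card_insert_of_notMem hlT, hT], ?_⟩
    have hstep := card_HH_insert p χ T l t ht hl
    rw [hc] at hstep
    have hkj : k - j = (k - (j + 1)) + 1 := by omega
    rw [hkj, pow_succ] at hstep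
    exact Nat.eq_of_mul_eq_mul_right hp.out.pos hstep

theorem select {A : Type*} [CommGroup A] [Finite A] (p : ℕ) [hp : Fact p.Prime]
    (hA : IsPGroup p A)
    {Λ : Type*} {C : Λ → Type*} [∀ l, CommGroup (C l)] [∀ l, IsCyclic (C l)]
    [∀ l, Finite (C l)]
    (χ : ∀ l, A →* C l) (hχ : ∀ a : A, (∀ l, χ l a = 1) → a = 1)
    (k : ℕ) (hk : Nat.card {x : A // x ^ p = 1} = p ^ k) :
    ∃ T : Finset Λ, T.card = k ∧ Nat.card A ≤ ∏ l ∈ T, Nat.card (C l) := by
  classical
  obtain ⟨T, hT, hc⟩ := exists_T p χ hχ k hk k le_rfl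
  refine ⟨T, hT, ?_⟩
  rw [Nat.sub_self, pow_zero] at hc
  have hbot : HH p χ T = ⊥ := Subgroup.eq_bot_of_card_eq _ hc
  have hker : ∀ a : A, (∀ l ∈ T, χ l a = 1) → a = 1 := by
    intro a ha
    by_contra hne
    obtain ⟨m, hm⟩ := (IsPGroup.iff_orderOf.1 hA) a
    have hm0 : m ≠ 0 := by
      rintro rfl
      rw [pow_zero, orderOf_eq_one_iff] at hm
      exact hne hm
    have hy : (a ^ p ^ (m - 1)) ∈ HH p χ T := by
      refine mem_HH.2 ⟨?_, fun l hl => by rw [map_pow, ha l hl, one_pow]⟩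
      rw [← pow_mul, ← pow_succ, Nat.sub_add_cancel (Nat.one_le_iff_ne_zero.2 hm0), ← hm,
        pow_orderOf_eq_one]
    rw [hbot, Subgroup.mem_bot] at hy
    have hdvd : orderOf a ∣ p ^ (m - 1) := orderOf_dvd_of_pow_eq_one hy
    rw [hm] at hdvd
    have := (Nat.pow_dvd_pow_iff_le_right hp.out.one_lt).1 hdvd
    omega
  let F : A → (∀ l : T, C l.1) := fun a l => χ l.1 a
  have hF : Function.Injective F := by
    intro a b hab
    have h1 : a / b = 1 := hker (a / b) (fun l hl => by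
      have h2 : χ l a = χ l b := congrFun hab ⟨l, hl⟩
      rw [map_div, h2, div_self'])
    exact div_eq_one.1 h1
  calc Nat.card A ≤ Nat.card (∀ l : T, C l.1) := Nat.card_le_card_of_injective F hF
    _ = ∏ l : T, Nat.card (C l.1) := Nat.card_pi
    _ = ∏ l ∈ T, Nat.card (C l) := Finset.prod_coe_sort T (fun l => Nat.card (C l))

theorem sum_le_prod {ι : Type*} (s : Finset ι) (n : ι → ℕ) (h : ∀ i ∈ s, 2 ≤ n i) :
    (∑ i ∈ s, n i ≤ ∏ i ∈ s, n i) ∧ (s = ∅ ∨ 2 ≤ ∏ i ∈ s, n i) := by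
  classical
  induction s using Finset.induction_on with
  | empty => simp
  | insert a s ha ih =>
    have h' : ∀ i ∈ s, 2 ≤ n i := fun i hi => h i (Finset.mem_insert_of_mem hi)
    have ha2 : 2 ≤ n a := h a (Finset.mem_insert_self a s)
    obtain ⟨ih1, ih2⟩ := ih h'
    rw [Finset.sum_insert ha, Finset.prod_insert ha]
    rcases ih2 with hs | ih2
    · subst hs
      simp [ha2]
    · constructor
      · calc n a + ∑ i ∈ s, n i ≤ n a + ∏ i ∈ s, n i := by omega
          _ ≤ n a * ∏ i ∈ s, n i := Nat.add_le_mul ha2 ih2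
      · right
        calc 2 ≤ 2 * 2 := by norm_num
          _ ≤ n a * ∏ i ∈ s, n i := Nat.mul_le_mul ha2 ih2

theorem exists_chars (B : Type*) [CommGroup B] [Finite B] :
    ∃ (ι : Type) (_ : Fintype ι) (n : ι → ℕ) (χ : ∀ i, B →* Multiplicative (ZMod (n i))),
      (∀ i, 0 < n i) ∧ (∀ b : B, (∀ i, χ i b = 1) → b = 1) ∧ ∑ i, n i ≤ Nat.card B := by
  obtain ⟨ι, hι, n, hn, ⟨e⟩⟩ := CommGroup.equiv_prod_multiplicative_zmod_of_finite B
  refine ⟨ι, hι, n,
    fun i => (Pi.evalMonoidHom (fun i => Multiplicative (ZMod (n i))) i).comp e.toMonoidHom,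
    fun i => by have := hn i; omega, ?_, ?_⟩
  · intro b hb
    have h1 : e b = 1 := funext fun i => hb i
    exact (EmbeddingLike.map_eq_one_iff (f := e)).1 h1
  · have h1 : Nat.card B = ∏ i, n i := by
      rw [Nat.card_congr e.toEquiv, Nat.card_pi]
      refine Finset.prod_congr rfl fun i _ => ?_
      rw [Nat.card_congr Multiplicative.toAdd, Nat.card_zmod]
    rw [h1]
    exact (sum_le_prod Finset.univ n (fun i _ => hn i)).1

theorem amgm {Λ : Type*} (T : Finset Λ) (x : Λ → ℕ) :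
    (∏ l ∈ T, x l) * T.card ^ T.card ≤ (∑ l ∈ T, x l) ^ T.card := by
  rcases T.eq_empty_or_nonempty with rfl | hne
  · simp
  have hk0 : T.card ≠ 0 := Finset.card_ne_zero.2 hne
  have hkpos : (0:ℝ) < T.card := by exact_mod_cast Nat.pos_of_ne_zero hk0
  have h := Real.geom_mean_le_arith_mean T (fun _ => (1:ℝ)) (fun l => (x l : ℝ))
    (fun _ _ => zero_le_one) (by simpa using hne) (fun _ _ => Nat.cast_nonneg _)
  have h' : (∏ l ∈ T, (x l : ℝ)) ^ ((T.card : ℝ)⁻¹) ≤ (∑ l ∈ T, (x l : ℝ)) / T.card := by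
    simpa using h
  have hprod : (0:ℝ) ≤ ∏ l ∈ T, (x l : ℝ) := Finset.prod_nonneg fun _ _ => Nat.cast_nonneg _
  have h2 := pow_le_pow_left₀ (Real.rpow_nonneg hprod _) h' T.card
  rw [Real.rpow_inv_natCast_pow hprod hk0, div_pow, le_div_iff₀ (pow_pos hkpos _)] at h2
  exact_mod_cast h2

theorem main_bound {Ω : Type*} [Fintype Ω] {A : Type*} [CommGroup A] [Finite A]
    (f : A →* Equiv.Perm Ω) (hf : Function.Injective f) (p : ℕ) [hp : Fact p.Prime]
    (hA : IsPGroup p A) (k : ℕ) (hk : Nat.card {x : A // x ^ p = 1} = p ^ k) :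
    Nat.card A * k ^ k ≤ Fintype.card Ω ^ k := by
  classical
  letI : MulAction A Ω := MulAction.compHom Ω f
  haveI : Fintype (MulAction.orbitRel.Quotient A Ω) := Fintype.ofFinite _
  have hcard : Fintype.card Ω
      = ∑ q : MulAction.orbitRel.Quotient A Ω,
          Nat.card (A ⧸ MulAction.stabilizer A (Quotient.out q)) := by
    rw [← Nat.card_eq_fintype_card, Nat.card_congr (MulAction.selfEquivSigmaOrbits A Ω),
      Nat.card_sigma]
    refine Finset.sum_congr rfl fun q _ => ?_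
    exact Nat.card_congr (MulAction.orbitEquivQuotientStabilizer A (Quotient.out q))
  choose ι hι n χ hpos hsep hsum using fun q : MulAction.orbitRel.Quotient A Ω =>
    exists_chars (A ⧸ MulAction.stabilizer A (Quotient.out q))
  haveI hfin : ∀ l : (Σ q, ι q), Finite (Multiplicative (ZMod (n l.1 l.2))) := fun l => by
    haveI : NeZero (n l.1 l.2) := ⟨(hpos l.1 l.2).ne'⟩
    infer_instance
  let X : ∀ l : (Σ q, ι q), A →* Multiplicative (ZMod (n l.1 l.2)) := fun l =>
    (χ l.1 l.2).comp (QuotientGroup.mk' (MulAction.stabilizer A (Quotient.out l.1)))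
  have hX : ∀ a : A, (∀ l, X l a = 1) → a = 1 := by
    intro a ha
    have hfix : ∀ q : MulAction.orbitRel.Quotient A Ω, a • Quotient.out q = Quotient.out q := by
      intro q
      have h1 : (QuotientGroup.mk a : A ⧸ MulAction.stabilizer A (Quotient.out q)) = 1 :=
        hsep q _ (fun i => ha ⟨q, i⟩)
      rw [QuotientGroup.eq_one_iff] at h1
      exact MulAction.mem_stabilizer_iff.1 h1
    apply hf
    rw [map_one]
    ext ω
    change a • ω = ω
    obtain ⟨b, hb⟩ : ∃ b : A,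
        b • ω = Quotient.out (Quotient.mk'' ω : MulAction.orbitRel.Quotient A Ω) := by
      have h2 := Quotient.mk_out' (s₁ := MulAction.orbitRel A Ω) ω
      exact MulAction.mem_orbit_iff.1 (MulAction.orbitRel_apply.1 h2)
    have h3 := hfix (Quotient.mk'' ω)
    rw [← hb, ← mul_smul, mul_comm, mul_smul] at h3
    exact MulAction.injective b h3
  obtain ⟨T, hT, hle⟩ := select (C := fun l : (Σ q, ι q) => Multiplicative (ZMod (n l.1 l.2)))
    p hA X hX k hk
  have hcardC : ∀ l : (Σ q, ι q), Nat.card (Multiplicative (ZMod (n l.1 l.2))) = n l.1 l.2 :=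
    fun l => by rw [Nat.card_congr Multiplicative.toAdd, Nat.card_zmod]
  have hle' : Nat.card A ≤ ∏ l ∈ T, n l.1 l.2 :=
    hle.trans (le_of_eq (Finset.prod_congr rfl fun l _ => hcardC l))
  have hsumT : ∑ l ∈ T, n l.1 l.2 ≤ Fintype.card Ω := by
    calc ∑ l ∈ T, n l.1 l.2 ≤ ∑ l : (Σ q, ι q), n l.1 l.2 :=
          Finset.sum_le_sum_of_subset (Finset.subset_univ T)
      _ = ∑ q, ∑ i, n q i := Fintype.sum_sigma' (fun q i => n q i)
      _ ≤ ∑ q, Nat.card (A ⧸ MulAction.stabilizer A (Quotient.out q)) :=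
          Finset.sum_le_sum fun q _ => hsum q
      _ = Fintype.card Ω := hcard.symm
  calc Nat.card A * k ^ k ≤ (∏ l ∈ T, n l.1 l.2) * k ^ k := Nat.mul_le_mul_right _ hle'
    _ = (∏ l ∈ T, n l.1 l.2) * T.card ^ T.card := by rw [hT]
    _ ≤ (∑ l ∈ T, n l.1 l.2) ^ T.card := amgm T _
    _ ≤ Fintype.card Ω ^ T.card := Nat.pow_le_pow_left hsumT _
    _ = Fintype.card Ω ^ k := by rw [hT]

/-- Let p be a prime, Ω a finite set with n ≥ p elements, and A an abelian p-subgroup of the symmetric group on Ω whose elements of order dividing p number p^k (so k is the rank of A). Then |A| · k^k ≤ n^k, that is, |A| ≤ (n/k)^k. -/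
theorem result {Ω : Type*} [Fintype Ω] [DecidableEq Ω]
    (p : ℕ) (hp : p.Prime) (hn : p ≤ Fintype.card Ω) (A : Subgroup (Equiv.Perm Ω)) (hA : IsPGroup p A) (hab : IsMulCommutative A)
    (k : ℕ) (hk : Nat.card {x : A // x ^ p = 1} = p ^ k) :
    Nat.card A * k ^ k ≤ Fintype.card Ω ^ k := by
  haveI : Fact p.Prime := ⟨hp⟩
  letI : CommGroup A :=
    { (inferInstance : Group A) with mul_comm := fun a b => hab.is_comm.comm a b }
  exact main_bound (A := A) A.subtype A.subtype_injective p hA k hk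

end Cfsg.Agent.S3696
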