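import Cfsg.Statements.S3703
import Cfsg.Agent.Lib.Helper20.FrobTrace
import Cfsg.Agent.Lib.Helper20.FrobQuot
import Cfsg.Agent.Lib.Helper1.CoprimeSylow
import Cfsg.Agent.Lib.Helper1.Frattini

set_option autoImplicit false
open Cfsg

namespace Cfsg.Agent.S3703

open Pointwise
open scoped commutatorElement
open Cfsg.Agent.Lib.Helper1
open Cfsg.Agent.Lib.Helper20.FrobTrace
open Cfsg.Agent.Lib.Helper20.FrobQuot

/-- The final step: from the configuration inside `G` to an element of order `p * m`. -/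
theorem exists_of_data {G : Type*} [Group G] [Finite G] (N : Subgroup G)
    (p r : ℕ) [hp : Fact p.Prime] [hr : Fact r.Prime] (hpr : p ≠ r)
    (Pt R₁ : Subgroup G) (hPN : Pt ≤ N) (hPp : IsPGroup p Pt) (hRr : IsPGroup r R₁)
    (hRP : R₁ ≤ Subgroup.normalizer (Pt : Set G))
    (hRC : ¬ R₁ ≤ Subgroup.centralizer (Pt : Set G))
    (y₁ : G) (hyP : y₁ ∈ Subgroup.normalizer (Pt : Set G))
    (hyR : y₁ ∈ Subgroup.normalizer (R₁ : Set G)) (m : ℕ) (hm : 0 < m)
    (hym : orderOf y₁ = m) (hyN : ∀ k : ℕ, y₁ ^ k ∈ N → y₁ ^ k = 1)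
    (hfrob : ∀ i, 0 < i → i < m → ∀ f ∈ R₁, y₁ ^ i * f * (y₁ ^ i)⁻¹ * f⁻¹ ∈ N → f = 1) :
    ∃ g : G, orderOf g = p * m := by
  classical
  set L : Subgroup G := Subgroup.normalizer (Pt : Set G) with hL
  set Φ : Subgroup G := (frattini ↥Pt).map Pt.subtype with hΦ
  have hΦP : Φ ≤ Pt := Subgroup.map_subtype_le _
  have hPL : Pt ≤ L := Subgroup.le_normalizer
  have hΦL : Φ ≤ L := hΦP.trans hPL
  have hLΦ : L ≤ Subgroup.normalizer (Φ : Set G) :=
    normalizer_le_normalizer_map_of_characteristic Pt (frattini ↥Pt)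
  haveI hΦn : (Φ.subgroupOf L).Normal := (Subgroup.normal_subgroupOf_iff_le_normalizer hΦL).mpr hLΦ
  let φ : ↥L →* ↥L ⧸ Φ.subgroupOf L := QuotientGroup.mk' (Φ.subgroupOf L)
  have hφs : Function.Surjective φ := QuotientGroup.mk'_surjective _
  have hφ1 : ∀ x : ↥L, φ x = 1 ↔ (x : G) ∈ Φ := by
    intro x
    change (QuotientGroup.mk x : ↥L ⧸ Φ.subgroupOf L) = 1 ↔ _
    rw [QuotientGroup.eq_one_iff, Subgroup.mem_subgroupOf]
  set V : Subgroup (↥L ⧸ Φ.subgroupOf L) := (Pt.subgroupOf L).map φ with hV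
  haveI hPLn : (Pt.subgroupOf L).Normal := Subgroup.normal_in_normalizer
  haveI hVn : V.Normal := Subgroup.Normal.map hPLn φ hφs
  set R : Subgroup (↥L ⧸ Φ.subgroupOf L) := (R₁.subgroupOf L).map φ with hR
  set y : ↥L ⧸ Φ.subgroupOf L := φ ⟨y₁, hyP⟩ with hy
  -- membership in the Frattini image
  have hcomm : ∀ a b : G, a ∈ Pt → b ∈ Pt → a * b * a⁻¹ * b⁻¹ ∈ Φ := by
    intro a b ha hb
    have h1 : ⁅(⟨a, ha⟩ : ↥Pt), ⟨b, hb⟩⁆ ∈ frattini ↥Pt := by
      apply IsPGroup.commutator_le_frattini hPp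
      rw [commutator_def]
      exact Subgroup.commutator_mem_commutator (Subgroup.mem_top _) (Subgroup.mem_top _)
    have h2 := Subgroup.mem_map_of_mem Pt.subtype h1
    rw [commutatorElement_def] at h2
    exact h2
  have hpowΦ : ∀ a : G, a ∈ Pt → a ^ p ∈ Φ := by
    intro a ha
    have h1 : (⟨a, ha⟩ : ↥Pt) ^ p ∈ frattini ↥Pt := IsPGroup.pow_mem_frattini hPp _
    have h2 := Subgroup.mem_map_of_mem Pt.subtype h1
    exact h2
  -- hypotheses of the trace lemma
  have hVc : ∀ a ∈ V, ∀ b ∈ V, a * b = b * a := by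
    rintro _ ⟨a, ha, rfl⟩ _ ⟨b, hb, rfl⟩
    replace ha : (a : G) ∈ Pt := ha
    replace hb : (b : G) ∈ Pt := hb
    rw [← map_mul, ← map_mul, ← mul_inv_eq_one, ← map_inv, ← map_mul, hφ1]
    have := hcomm a b ha hb
    simpa [mul_assoc] using this
  have hVp : ∀ a ∈ V, a ^ p = 1 := by
    rintro _ ⟨a, ha, rfl⟩
    replace ha : (a : G) ∈ Pt := ha
    rw [← map_pow, hφ1, Subgroup.coe_pow]
    exact hpowΦ a ha
  have hRr' : IsPGroup r R := (hRr.comap_subtype).map φ
  have hpR : ¬ p ∣ Nat.card R := by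
    obtain ⟨n, hn⟩ := hRr'.exists_card_eq
    rw [hn]
    intro h1
    have h2 := hp.out.dvd_of_dvd_pow h1
    exact hpr ((Nat.prime_dvd_prime_iff_eq hp.out hr.out).mp h2)
  have hyR' : y ∈ Subgroup.normalizer (R : Set (↥L ⧸ Φ.subgroupOf L)) := by
    apply Subgroup.le_normalizer_map φ
    refine Subgroup.mem_map_of_mem φ ?_
    rw [Subgroup.mem_normalizer_iff]
    intro h
    rw [Subgroup.mem_subgroupOf, Subgroup.mem_subgroupOf]
    exact Subgroup.mem_normalizer_iff.mp hyR h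
  have hy₁m : y₁ ^ m = 1 := by rw [← hym]; exact pow_orderOf_eq_one y₁
  have hypow : ∀ k : ℕ, y ^ k = φ ⟨y₁ ^ k, pow_mem hyP k⟩ := by
    intro k
    rw [hy, ← map_pow]
    rfl
  have hΦN : Φ ≤ N := hΦP.trans hPN
  have hyk : ∀ k : ℕ, y₁ ^ k ∈ N → y ^ k = 1 := by
    intro k hk
    rw [hypow, hφ1]
    show y₁ ^ k ∈ Φ
    rw [hyN k hk]
    exact one_mem _
  have hym' : orderOf y = m := by
    apply Nat.dvd_antisymm
    · apply orderOf_dvd_of_pow_eq_one
      apply hyk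
      rw [hy₁m]; exact one_mem _
    · rw [← hym]
      apply orderOf_dvd_of_pow_eq_one
      apply hyN
      have h1 : y ^ orderOf y = 1 := pow_orderOf_eq_one y
      rw [hypow, hφ1] at h1
      exact hΦN h1
  have hfrob' : ∀ i, 0 < i → i < m → ∀ f ∈ R, y ^ i * f * (y ^ i)⁻¹ = f → f = 1 := by
    rintro i hi0 him _ ⟨f, hf, rfl⟩ hc
    replace hf : (f : G) ∈ R₁ := hf
    rw [hypow, ← map_inv, ← map_mul, ← map_mul, ← mul_inv_eq_one, ← map_inv, ← map_mul, hφ1] at hc
    have h1 : y₁ ^ i * (f : G) * (y₁ ^ i)⁻¹ * (f : G)⁻¹ ∈ N := hΦN hc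
    have h2 := hfrob i hi0 him f hf h1
    have h3 : f = 1 := Subtype.ext h2
    rw [h3, map_one]
  have hnt : ∃ v ∈ V, ∃ s ∈ R, s * v * s⁻¹ ≠ v := by
    by_contra hall
    push Not at hall
    apply hRC
    apply le_centralizer_of_commutator_le_frattini R₁ Pt hRP
    · obtain ⟨a, ha⟩ := hRr.exists_card_eq
      obtain ⟨b, hb⟩ := (hPp.to_subgroup (frattini ↥Pt)).exists_card_eq
      rw [ha, hb]
      apply Nat.Coprime.pow
      exact (Nat.coprime_primes hr.out hp.out).mpr (Ne.symm hpr)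
    · intro a ha k hk
      have h1 := hall (φ ⟨k, hPL hk⟩)
        (Subgroup.mem_map_of_mem φ (Subgroup.mem_subgroupOf.mpr hk))
        (φ ⟨a, hRP ha⟩) (Subgroup.mem_map_of_mem φ (Subgroup.mem_subgroupOf.mpr ha))
      rw [← map_inv, ← map_mul, ← map_mul, ← mul_inv_eq_one, ← map_inv, ← map_mul, hφ1] at h1
      exact h1
  have hyV : ∀ k : ℕ, y ^ k ∈ V → y ^ k = 1 := by
    intro k hk
    apply hyk
    rw [hypow] at hk
    obtain ⟨u, hu, huk⟩ := hk
    replace hu : (u : G) ∈ Pt := hu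
    have h1 : φ (u⁻¹ * ⟨y₁ ^ k, pow_mem hyP k⟩) = 1 := by
      rw [map_mul, map_inv, huk, inv_mul_cancel]
    rw [hφ1] at h1
    have h2 : (u : G)⁻¹ * y₁ ^ k ∈ Pt := hΦP h1
    have h3 : y₁ ^ k = (u : G) * ((u : G)⁻¹ * y₁ ^ k) := by group
    rw [h3]
    exact hPN (mul_mem hu h2)
  obtain ⟨g, hg⟩ := exists_orderOf_eq_mul V R hVc p hp.out hVp hpR y hyR' m hm hym' hfrob' hnt hyV
  obtain ⟨g', rfl⟩ := hφs g
  have h1 : p * m ∣ orderOf (g' : G) := by
    rw [Subgroup.orderOf_coe, ← hg]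
    exact orderOf_map_dvd φ g'
  obtain ⟨t, ht⟩ := h1
  have ht0 : t ≠ 0 := by
    rintro rfl
    rw [mul_zero] at ht
    exact (orderOf_pos (g' : G)).ne' ht
  refine ⟨(g' : G) ^ t, ?_⟩
  rw [orderOf_pow_of_dvd ht0 ⟨p * m, by rw [ht, mul_comm]⟩, ht,
    Nat.mul_div_cancel _ (Nat.pos_of_ne_zero ht0)]

/-- Choice of the Sylow subgroup `R₁` of the preimage of `Fb`. -/
theorem exists_sylow_not_le {G : Type*} [Group G] [Finite G] (N : Subgroup G) [N.Normal]
    (Fb : Subgroup (G ⧸ N))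
    (hnot : ¬ Fb ≤ (Subgroup.centralizer (N : Set G)).map (QuotientGroup.mk' N)) :
    ∃ r : ℕ, ∃ _ : Fact r.Prime, r ∣ Nat.card Fb ∧
      ∃ P : Sylow r ↥(Fb.comap (QuotientGroup.mk' N)),
        ¬ (P : Subgroup ↥(Fb.comap (QuotientGroup.mk' N))).map
            (Fb.comap (QuotientGroup.mk' N)).subtype ≤ Subgroup.centralizer (N : Set G) := by
  classical
  by_contra hcon
  push Not at hcon
  apply hnot
  set Ft : Subgroup G := Fb.comap (QuotientGroup.mk' N) with hFt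
  have hNFt : N ≤ Ft := by
    intro n hn
    rw [hFt, Subgroup.mem_comap]
    have : (QuotientGroup.mk' N) n = 1 := (QuotientGroup.eq_one_iff n).mpr hn
    rw [this]; exact one_mem _
  have hrel : N.relIndex Ft = Nat.card Fb := by
    calc N.relIndex Ft = ((⊥ : Subgroup (G ⧸ N)).comap (QuotientGroup.mk' N)).relIndex Ft := by
          rw [MonoidHom.comap_bot, QuotientGroup.ker_mk']
      _ = Nat.card Fb := by
          rw [Subgroup.relIndex_comap, Subgroup.relIndex_bot_left, hFt,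
            Subgroup.map_comap_eq_self_of_surjective (QuotientGroup.mk'_surjective N)]
  have hFtcard : Nat.card Ft = Nat.card N * Nat.card Fb := by
    have h1 := Subgroup.relIndex_mul_relIndex ⊥ N Ft bot_le hNFt
    rw [Subgroup.relIndex_bot_left, Subgroup.relIndex_bot_left, hrel] at h1
    exact h1.symm
  set C : Subgroup G := Subgroup.centralizer (N : Set G) with hC
  set D : Subgroup G := (C ⊔ N) ⊓ Ft with hD
  have hDFt : D = Ft := by
    apply eq_of_forall_prime_pow_dvd inf_le_right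
    intro r hr
    by_cases hrF : r ∣ Nat.card Fb
    · haveI : Fact r.Prime := ⟨hr⟩
      obtain ⟨P⟩ : Nonempty (Sylow r ↥Ft) := inferInstance
      have h1 := hcon r ⟨hr⟩ hrF P
      have h2 : (P : Subgroup ↥Ft).map Ft.subtype ≤ D :=
        le_inf (h1.trans le_sup_left) (Subgroup.map_subtype_le _)
      have h3 := Subgroup.card_dvd_of_le h2
      rw [Subgroup.card_subtype, P.card_eq_multiplicity] at h3
      exact h3
    · have h1 : (Nat.card Ft).factorization r = (Nat.card N).factorization r := by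
        rw [hFtcard, Nat.factorization_mul Nat.card_pos.ne' Nat.card_pos.ne']
        simp [Nat.factorization_eq_zero_of_not_dvd hrF]
      rw [h1]
      have h2 : N ≤ D := le_inf le_sup_right hNFt
      exact dvd_trans (Nat.ordProj_dvd _ _) (Subgroup.card_dvd_of_le h2)
  intro xb hxb
  obtain ⟨x, rfl⟩ := QuotientGroup.mk'_surjective N xb
  have hx : x ∈ Ft := hxb
  rw [← hDFt] at hx
  have hx2 : x ∈ C ⊔ N := (Subgroup.mem_inf.mp hx).1
  obtain ⟨c, hc, n, hn, rfl⟩ := Subgroup.mem_sup_of_normal_right.mp hx2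
  refine ⟨c, hc, ?_⟩
  rw [map_mul]
  have : (QuotientGroup.mk' N) n = 1 := (QuotientGroup.eq_one_iff n).mpr hn
  rw [this, mul_one]

/-- Choice of the invariant Sylow subgroup `Pt` of `N`. -/
theorem exists_sylSet_not_le {G : Type*} [Group G] [Finite G] (R₁ N : Subgroup G)
    (h : CoprimeAct R₁ N) (hnc : ¬ R₁ ≤ Subgroup.centralizer (N : Set G)) :
    ∃ p : ℕ, ∃ _ : Fact p.Prime, ∃ Pt : SylSet p N,
      R₁ ≤ Subgroup.normalizer (Pt.1 : Set G) ∧ ¬ R₁ ≤ Subgroup.centralizer (Pt.1 : Set G) := by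
  classical
  by_contra hcon
  push Not at hcon
  apply hnc
  rw [Subgroup.le_centralizer_iff]
  set D : Subgroup G := Subgroup.centralizer (R₁ : Set G) ⊓ N with hD
  have hDN : D = N := by
    apply eq_of_forall_prime_pow_dvd inf_le_right
    intro p hp
    haveI : Fact p.Prime := ⟨hp⟩
    obtain ⟨Pt, hPt⟩ := h.exists_invariant_sylSet p
    have h1 := hcon p ⟨hp⟩ Pt hPt
    rw [Subgroup.le_centralizer_iff] at h1
    have h2 : Pt.1 ≤ D := le_inf h1 Pt.2.1
    have h3 := Subgroup.card_dvd_of_le h2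
    rw [Pt.2.2] at h3
    exact h3
  rw [← hDN]
  exact inf_le_left

/-- Let N be a normal subgroup of the finite group G such that G/N is a Frobenius group with kernel F and cyclic complement H, where the order of F is coprime to that of N and F is not contained in the image of C_G(N) in G/N. Then G has an element of order p·#H for some prime p dividing the order of N. (A standard tool in recognising groups by their element orders.) -/
theorem result {G : Type*} [Group G] [Finite G] (N : Subgroup G) [N.Normal]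
    (Fb Hb : Subgroup (G ⧸ N)) [Fb.Normal] (hHb : Cfsg.IsFrobeniusComplement Hb) (hker : Cfsg.frobeniusKernel Hb = (Fb : Set (G ⧸ N)))
    (hcyc : IsCyclic Hb) (hcop : (Nat.card Fb).Coprime (Nat.card N))
    (hnot : ¬ Fb ≤ (Subgroup.centralizer (N : Set G)).map (QuotientGroup.mk' N)) :
    ∃ p : ℕ, p.Prime ∧ p ∣ Nat.card N ∧ ∃ g : G, orderOf g = p * Nat.card Hb := by
  classical
  have hFD := frobData_of_ker Fb Hb hHb hker
  set m := Nat.card Hb with hm
  have hm0 : 0 < m := Nat.card_pos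
  have hm1 : m ≠ 1 := by
    intro h1
    exact hHb.1 (Subgroup.card_eq_one.mp h1)
  obtain ⟨hb', hhb'⟩ := hcyc.exists_generator
  have hgen : ∀ x ∈ Hb, x ∈ Subgroup.zpowers (hb' : G ⧸ N) := by
    intro x hx
    obtain ⟨k, hk⟩ := Subgroup.mem_zpowers_iff.mp (hhb' ⟨x, hx⟩)
    refine Subgroup.mem_zpowers_iff.mpr ⟨k, ?_⟩
    have := congrArg Subtype.val hk
    simpa using this
  -- the Sylow subgroup `R₁`
  set Ft : Subgroup G := Fb.comap (QuotientGroup.mk' N) with hFt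
  obtain ⟨r, hr, hrF, P, hPC⟩ := exists_sylow_not_le N Fb hnot
  set R₁ : Subgroup G := (P : Subgroup ↥Ft).map Ft.subtype with hR₁
  have hrN : ¬ r ∣ Nat.card N := by
    intro h1
    have h2 := Nat.dvd_gcd hrF h1
    rw [hcop.gcd_eq_one] at h2
    exact hr.out.one_lt.ne' (Nat.dvd_one.mp h2)
  have hR₁r : IsPGroup r R₁ := P.2.map Ft.subtype
  have hR₁Ft : R₁ ≤ Ft := Subgroup.map_subtype_le _
  have hact : CoprimeAct R₁ N := by
    refine ⟨?_, ?_, Or.inl ?_⟩
    · rw [Subgroup.normalizer_eq_top]; exact le_top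
    · obtain ⟨a, ha⟩ := hR₁r.exists_card_eq
      rw [ha]
      exact Nat.Coprime.pow_left _ ((Nat.Prime.coprime_iff_not_dvd hr.out).mpr hrN)
    · haveI := hR₁r.isNilpotent
      infer_instance
  have hR₁N : N ⊓ R₁ = ⊥ := hact.inf_eq_bot
  have hfr : Subgroup.normalizer (R₁ : Set G) ⊔ Ft = ⊤ := Sylow.normalizer_sup_eq_top P
  -- the invariant Sylow subgroup `Pt`
  obtain ⟨p, hp, Pt, hPtR, hPtC⟩ := exists_sylSet_not_le R₁ N hact hPC
  have hPtN : Pt.1 ≤ N := Pt.2.1
  have hPtp : IsPGroup p Pt.1 := IsPGroup.of_card Pt.2.2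
  have hpN : p ∣ Nat.card N := by
    by_contra h1
    apply hPtC
    have h2 : Nat.card Pt.1 = 1 := by
      rw [Pt.2.2, Nat.factorization_eq_zero_of_not_dvd h1, pow_zero]
    rw [Subgroup.card_eq_one.mp h2]
    intro a _
    rw [Subgroup.mem_centralizer_iff]
    intro x hx
    have hx1 : x = 1 := (Subgroup.mem_bot).mp hx
    rw [hx1, one_mul, mul_one]
  have hpr : p ≠ r := by
    rintro rfl
    exact hrN hpN
  -- the element `y₀`
  obtain ⟨g₀, hg₀⟩ := QuotientGroup.mk'_surjective N (hb' : G ⧸ N)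
  have hg₀' : g₀ ∈ Subgroup.normalizer (R₁ : Set G) ⊔ Ft := by rw [hfr]; trivial
  obtain ⟨y₀, hy₀, f, hf, hyf⟩ := Subgroup.mem_sup_of_normal_right.mp hg₀'
  -- adjust to normalize `Pt`
  have hQN : MulAut.conj y₀ • Pt.1 ≤ N := by
    rw [conj_smul_le_iff]
    intro x hx
    exact ‹N.Normal›.conj_mem x (hPtN hx) y₀
  let Qt : SylSet p N := ⟨MulAut.conj y₀ • Pt.1, hQN, by rw [card_conj_smul]; exact Pt.2.2⟩
  have hQR : R₁ ≤ Subgroup.normalizer (Qt.1 : Set G) := by
    intro a ha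
    rw [← conj_smul_eq_self_iff_mem_normalizer]
    show MulAut.conj a • MulAut.conj y₀ • Pt.1 = MulAut.conj y₀ • Pt.1
    have h1 : y₀⁻¹ * a * y₀ ∈ R₁ := by
      have := (Subgroup.mem_normalizer_iff.mp (inv_mem hy₀) a).mp ha
      rwa [inv_inv] at this
    have h2 : MulAut.conj (y₀⁻¹ * a * y₀) • Pt.1 = Pt.1 :=
      conj_smul_eq_self_iff_mem_normalizer.mpr (hPtR h1)
    have h3 : a * y₀ = y₀ * (y₀⁻¹ * a * y₀) := by group
    rw [← mul_smul, ← map_mul, h3, map_mul, mul_smul, h2]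
  obtain ⟨c, hc, hcPQ⟩ := hact.exists_conj_sylSet Pt Qt hPtR hQR
  obtain ⟨hcN, hcR⟩ := Subgroup.mem_inf.mp hc
  set y₁ : G := c⁻¹ * y₀ with hy₁
  have hy₁P : y₁ ∈ Subgroup.normalizer (Pt.1 : Set G) := by
    rw [← conj_smul_eq_self_iff_mem_normalizer, hy₁, map_mul, mul_smul]
    have h1 : MulAut.conj y₀ • Pt.1 = MulAut.conj c • Pt.1 := hcPQ.symm
    rw [h1, ← mul_smul, ← map_mul, inv_mul_cancel, map_one, one_smul]
  have hy₁R : y₁ ∈ Subgroup.normalizer (R₁ : Set G) := by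
    apply mul_mem _ hy₀
    apply inv_mem
    exact Subgroup.centralizer_le_normalizer _ hcR
  -- the image of `y₁`
  set yb : G ⧸ N := (QuotientGroup.mk' N) y₁ with hyb
  have hπc : (QuotientGroup.mk' N) c = 1 := (QuotientGroup.eq_one_iff c).mpr hcN
  have hyb2 : (hb' : G ⧸ N)⁻¹ * yb ∈ Fb := by
    have h1 : yb = (hb' : G ⧸ N) * ((QuotientGroup.mk' N) f)⁻¹ := by
      rw [hyb, hy₁, map_mul, map_inv, hπc, inv_one, one_mul, ← hg₀, ← hyf, map_mul]
      group
    rw [h1, inv_mul_cancel_left]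
    exact inv_mem hf
  have hb1 : ∀ i : ℕ, yb ^ i ∈ Fb → m ∣ i := fun i hi =>
    dvd_of_pow_mem hFD (hb' : G ⧸ N) hb'.2 hgen yb hyb2 i hi
  have hybF : yb ∉ Fb := by
    intro h1
    have h2 := hb1 1 (by rwa [pow_one])
    exact hm1 (Nat.dvd_one.mp h2)
  have hybm : yb ^ m = 1 := pow_card_eq_one_of_not_mem hFD hybF
  have hybord : orderOf yb = m := by
    apply Nat.dvd_antisymm (orderOf_dvd_of_pow_eq_one hybm)
    apply hb1
    rw [pow_orderOf_eq_one]
    exact one_mem _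
  have hmy : m ∣ orderOf y₁ := by
    rw [← hybord]
    exact orderOf_map_dvd (QuotientGroup.mk' N) y₁
  by_cases hord : orderOf y₁ = m
  · -- main case
    have hyN : ∀ k : ℕ, y₁ ^ k ∈ N → y₁ ^ k = 1 := by
      intro k hk
      have h1 : yb ^ k = 1 := by
        rw [hyb, ← map_pow]
        exact (QuotientGroup.eq_one_iff _).mpr hk
      have h2 : m ∣ k := hb1 k (by rw [h1]; exact one_mem _)
      rw [← hord] at h2
      exact orderOf_dvd_iff_pow_eq_one.mp h2
    have hfrob : ∀ i, 0 < i → i < m → ∀ f ∈ R₁,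
        y₁ ^ i * f * (y₁ ^ i)⁻¹ * f⁻¹ ∈ N → f = 1 := by
      intro i hi0 him f hf hN
      have h1 : (QuotientGroup.mk' N) (y₁ ^ i * f * (y₁ ^ i)⁻¹ * f⁻¹) = 1 :=
        (QuotientGroup.eq_one_iff _).mpr hN
      rw [map_mul, map_mul, map_mul, map_inv, map_inv, map_pow, ← hyb] at h1
      have h2 : yb ^ i * (QuotientGroup.mk' N) f = (QuotientGroup.mk' N) f * yb ^ i := by
        have h3 := mul_inv_eq_one.mp h1
        have h4 := mul_inv_eq_iff_eq_mul.mp h3
        exact h4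
      have h5 : yb ^ i ∉ Fb := by
        intro h6
        have h7 := hb1 i h6
        exact absurd (Nat.le_of_dvd hi0 h7) (by omega)
      have h8 : (QuotientGroup.mk' N) f ∈ Fb := hR₁Ft hf
      have h9 := eq_one_of_commute_of_not_mem hFD h5 h8 h2
      have h10 : f ∈ N ⊓ R₁ := Subgroup.mem_inf.mpr ⟨(QuotientGroup.eq_one_iff f).mp h9, hf⟩
      rwa [hR₁N, Subgroup.mem_bot] at h10
    obtain ⟨g, hg⟩ := exists_of_data N p r hpr Pt.1 R₁ hPtN hPtp hR₁r hPtR hPtC y₁ hy₁P hy₁R m hm0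
      hord hyN hfrob
    exact ⟨p, hp.out, hpN, g, hg⟩
  · -- powering case
    have hy₁m : y₁ ^ m ∈ N := by
      have h1 : (QuotientGroup.mk' N) (y₁ ^ m) = 1 := by rw [map_pow, ← hyb, hybm]
      exact (QuotientGroup.eq_one_iff _).mp h1
    have hM : orderOf y₁ / m ∣ Nat.card N := by
      rw [← orderOf_pow_of_dvd hm0.ne' hmy]
      exact Subgroup.orderOf_dvd_natCard N hy₁m
    exact exists_prime_orderOf_of_ne y₁ m (Nat.card N) hm0 (orderOf_pos y₁).ne' hmy hord hM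

end Cfsg.Agent.S3703
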