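import Cfsg.Statements.S3704
import Mathlib

set_option autoImplicit false
open Cfsg MulAction

namespace Cfsg.Agent.S3704

section cls

variable {G Ω : Type*} [Group G] [MulAction G Ω] (H : Subgroup G)

/-- the `H`-orbit class of `g⁻¹ • ω`, which depends only on the coset `gH` -/
noncomputable def cls (γ : G ⧸ H) (ω : Ω) : orbitRel.Quotient H Ω :=
  Quotient.liftOn' γ (fun g => (Quotient.mk'' (g⁻¹ • ω) : orbitRel.Quotient H Ω)) (by
    intro a b hab
    rw [QuotientGroup.leftRel_apply] at hab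
    apply Quotient.sound'
    show a⁻¹ • ω ∈ orbit H (b⁻¹ • ω)
    refine ⟨⟨a⁻¹ * b, hab⟩, ?_⟩
    show (a⁻¹ * b) • b⁻¹ • ω = a⁻¹ • ω
    rw [smul_smul]
    congr 1
    group)

theorem cls_mk (g : G) (ω : Ω) :
    cls H (g : G ⧸ H) ω = (Quotient.mk'' (g⁻¹ • ω) : orbitRel.Quotient H Ω) := rfl

theorem cls_smul (x : G) (γ : G ⧸ H) (ω : Ω) : cls H (x • γ) (x • ω) = cls H γ ω := by
  induction γ using QuotientGroup.induction_on with
  | H g =>
    have : x • (g : G ⧸ H) = ((x * g : G) : G ⧸ H) := rfl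
    rw [this, cls_mk, cls_mk]
    congr 1
    rw [mul_inv_rev, mul_smul, inv_smul_smul]

theorem cls_eq_iff (g : G) (ω : Ω) (i : orbitRel.Quotient H Ω) :
    cls H (g : G ⧸ H) ω = i ↔ cls H ((1 : G) : G ⧸ H) (g⁻¹ • ω) = i := by
  rw [cls_mk, cls_mk, inv_one, one_smul]

theorem exists_cls [IsPretransitive G Ω] (l : orbitRel.Quotient H Ω) (ω' : Ω) :
    ∃ γ : G ⧸ H, cls H γ ω' = l := by
  induction l using Quotient.inductionOn' with
  | h η =>
    obtain ⟨g, hg⟩ := exists_smul_eq G ω' η
    refine ⟨((g⁻¹ : G) : G ⧸ H), ?_⟩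
    rw [cls_mk, inv_inv, hg]

end cls

section count

open Classical

variable {G Ω : Type*} [Group G] [MulAction G Ω] [Fintype G] [Fintype Ω] (H : Subgroup G)

/-- indicator of the relation `R_i` -/
noncomputable def ind (i : orbitRel.Quotient H Ω) (γ : G ⧸ H) (ω : Ω) : ℚ :=
  if cls H γ ω = i then 1 else 0

theorem ind_smul (i : orbitRel.Quotient H Ω) (x : G) (γ : G ⧸ H) (ω : Ω) :
    ind H i (x • γ) (x • ω) = ind H i γ ω := by
  unfold ind; rw [cls_smul]

/-- size of the orbit `i` -/
noncomputable def kk (i : orbitRel.Quotient H Ω) : ℚ := ∑ ω : Ω, ind H i ((1 : G) : G ⧸ H) ω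

theorem sum_ind_right (i : orbitRel.Quotient H Ω) (γ : G ⧸ H) : ∑ ω : Ω, ind H i γ ω = kk H i := by
  induction γ using QuotientGroup.induction_on with
  | H g =>
    unfold kk
    apply Fintype.sum_bijective (fun ω => g⁻¹ • ω) (MulAction.bijective g⁻¹)
    intro ω
    unfold ind
    simp only [cls_eq_iff H g ω i]

theorem sum_ind_left [IsPretransitive G Ω] (hidx : H.index = Fintype.card Ω)
    (i : orbitRel.Quotient H Ω) (ω : Ω) : ∑ γ : G ⧸ H, ind H i γ ω = kk H i := by
  have hconst : ∀ ω' : Ω, ∑ γ : G ⧸ H, ind H i γ ω' = ∑ γ : G ⧸ H, ind H i γ ω := by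
    intro ω'
    obtain ⟨x, rfl⟩ := exists_smul_eq G ω' ω
    apply Fintype.sum_bijective (fun γ => x • γ) (MulAction.bijective x)
    intro γ
    rw [ind_smul]
  have h1 : ∑ ω' : Ω, ∑ γ : G ⧸ H, ind H i γ ω' = ∑ γ : G ⧸ H, ∑ ω' : Ω, ind H i γ ω' :=
    Finset.sum_comm
  rw [Finset.sum_congr rfl (fun ω' _ => hconst ω'), Finset.sum_const,
    Finset.sum_congr rfl (fun γ _ => sum_ind_right H i γ), Finset.sum_const] at h1
  simp only [Finset.card_univ, nsmul_eq_mul] at h1
  have hΓ : Fintype.card (G ⧸ H) = Fintype.card Ω := by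
    rw [← hidx, Subgroup.index_eq_card, Nat.card_eq_fintype_card]
  rw [hΓ] at h1
  have hpos : (Fintype.card Ω : ℚ) ≠ 0 := by
    haveI : Nonempty Ω := ⟨ω⟩
    exact_mod_cast (Fintype.card_pos (α := Ω)).ne'
  exact mul_left_cancel₀ hpos h1

/-- the Gram entries -/
noncomputable def gram (i j : orbitRel.Quotient H Ω) (ω ω' : Ω) : ℚ :=
  ∑ γ : G ⧸ H, ind H i γ ω * ind H j γ ω'

theorem gram_smul (i j : orbitRel.Quotient H Ω) (x : G) (ω ω' : Ω) :
    gram H i j (x • ω) (x • ω') = gram H i j ω ω' := by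
  unfold gram
  symm
  apply Fintype.sum_bijective (fun γ => x • γ) (MulAction.bijective x)
  intro γ
  rw [ind_smul, ind_smul]

theorem gram_self [IsPretransitive G Ω] (hidx : H.index = Fintype.card Ω)
    (i j : orbitRel.Quotient H Ω) (ω : Ω) :
    gram H i j ω ω = if i = j then kk H i else 0 := by
  unfold gram
  split_ifs with hij
  · subst hij
    rw [← sum_ind_left H hidx i ω]
    apply Finset.sum_congr rfl
    intro γ _
    unfold ind
    split_ifs <;> simp
  · apply Finset.sum_eq_zero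
    intro γ _
    unfold ind
    split_ifs with h1 h2
    · exact absurd (h1.symm.trans h2) hij
    · simp
    · simp
    · simp

theorem sum_gram [IsPretransitive G Ω] (hidx : H.index = Fintype.card Ω)
    (i j : orbitRel.Quotient H Ω) (ω : Ω) :
    ∑ ω' : Ω, gram H i j ω ω' = kk H i * kk H j := by
  unfold gram
  rw [Finset.sum_comm]
  simp_rw [← Finset.mul_sum, sum_ind_right, ← Finset.sum_mul, sum_ind_left H hidx]

theorem gram_ne [IsPretransitive G Ω] (h2 : IsMultiplyPretransitive G Ω 2)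
    (hidx : H.index = Fintype.card Ω) (i j : orbitRel.Quotient H Ω) {ω ω' : Ω} (hne : ω ≠ ω') :
    ((Fintype.card Ω : ℚ) - 1) * gram H i j ω ω' =
      kk H i * kk H j - (if i = j then kk H i else 0) := by
  rw [is_two_pretransitive_iff] at h2
  have hconst : ∀ η ∈ Finset.univ.erase ω, gram H i j ω η = gram H i j ω ω' := by
    intro η hη
    have hη' : ω ≠ η := (Finset.ne_of_mem_erase hη).symm
    obtain ⟨x, hx1, hx2⟩ := h2 hne hη'
    calc gram H i j ω η = gram H i j (x • ω) (x • ω') := by rw [hx1, hx2]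
      _ = gram H i j ω ω' := gram_smul H i j x ω ω'
  have h1 := sum_gram H hidx i j ω
  rw [← Finset.add_sum_erase Finset.univ _ (Finset.mem_univ ω), gram_self H hidx,
    Finset.sum_congr rfl hconst, Finset.sum_const, Finset.card_erase_of_mem (Finset.mem_univ ω),
    Finset.card_univ, nsmul_eq_mul] at h1
  have hpos : 1 ≤ Fintype.card Ω := by
    haveI : Nonempty Ω := ⟨ω⟩
    exact Fintype.card_pos
  rw [Nat.cast_sub hpos, Nat.cast_one] at h1
  linarith

/-- the constant off-diagonal Gram value -/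
noncomputable def lam (i j : orbitRel.Quotient H Ω) : ℚ :=
  (kk H i * kk H j - (if i = j then kk H i else 0)) / ((Fintype.card Ω : ℚ) - 1)

theorem gram_ne' [IsPretransitive G Ω] (h2 : IsMultiplyPretransitive G Ω 2)
    (hidx : H.index = Fintype.card Ω) (i j : orbitRel.Quotient H Ω) {ω ω' : Ω} (hne : ω ≠ ω') :
    gram H i j ω ω' = lam H i j := by
  have h := gram_ne H h2 hidx i j hne
  have hn : (Fintype.card Ω : ℚ) - 1 ≠ 0 := by
    have h1 : 1 < Fintype.card Ω := Fintype.one_lt_card_iff.mpr ⟨ω, ω', hne⟩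
    have h2 : (1:ℚ) < Fintype.card Ω := by exact_mod_cast h1
    linarith
  unfold lam
  rw [eq_div_iff hn, mul_comm]
  exact h

theorem eq_zero_of_sum_eq_zero [IsPretransitive G Ω] (h2 : IsMultiplyPretransitive G Ω 2)
    (hidx : H.index = Fintype.card Ω) (i : orbitRel.Quotient H Ω)
    (hk0 : kk H i ≠ 0) (hkn : kk H i ≠ Fintype.card Ω) (hcard : 1 < Fintype.card Ω)
    (y : G ⧸ H → ℚ) (hy : ∀ ω, ∑ γ, ind H i γ ω * y γ = 0) : y = 0 := by
  set A : Matrix Ω (G ⧸ H) ℚ := Matrix.of (fun ω γ => ind H i γ ω) with hA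
  set n : ℚ := (Fintype.card Ω : ℚ) with hn
  set k := kk H i with hk
  set l := lam H i i with hl
  have hn1 : n - 1 ≠ 0 := by
    have h2 : (1:ℚ) < Fintype.card Ω := by exact_mod_cast hcard
    rw [hn]
    linarith
  have hl' : (n - 1) * l = k * k - k := by
    rw [hl, lam, if_pos rfl, mul_div_cancel₀ _ hn1]
  have hμ : k - l ≠ 0 := by
    intro h
    have h3 : (n - 1) * (k - l) = k * (n - k) := by rw [mul_sub, hl']; ring
    rw [h, mul_zero] at h3
    rcases mul_eq_zero.mp h3.symm with h | h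
    · exact hk0 h
    · exact hkn (by linarith)
  have hμn : (k - l) + n * l ≠ 0 := by
    intro h
    have h3 : (n - 1) * ((k - l) + n * l) = k * k * (n - 1) := by
      have h4 : (n - 1) * ((k - l) + n * l) = (n - 1) * k + (n - 1) * ((n - 1) * l) := by ring
      rw [h4, hl']; ring
    rw [h, mul_zero] at h3
    rcases mul_eq_zero.mp h3.symm with h | h
    · rcases mul_eq_zero.mp h with h | h <;> exact hk0 h
    · exact hn1 h
  have hAAt : ∀ ω ω', (A * A.transpose) ω ω' = (if ω = ω' then k - l else 0) + l := by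
    intro ω ω'
    rw [Matrix.mul_apply]
    have h3 : ∑ γ, A ω γ * A.transpose γ ω' = gram H i i ω ω' := rfl
    rw [h3]
    split_ifs with h
    · subst h; rw [gram_self H hidx, if_pos rfl]; show k = k - l + l; ring
    · rw [gram_ne' H h2 hidx i i h]; show l = 0 + l; ring
  have hinj : Function.Injective (A * A.transpose).mulVecLin := by
    rw [← LinearMap.ker_eq_bot, LinearMap.ker_eq_bot']
    intro w hw
    have hw' : ∀ ω, (k - l) * w ω + l * ∑ ω', w ω' = 0 := by
      intro ω
      have h3 := congrFun hw ω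
      rw [Matrix.mulVecLin_apply, Matrix.mulVec, dotProduct] at h3
      simp only [hAAt, add_mul, Finset.sum_add_distrib, ite_mul, zero_mul, Finset.sum_ite_eq,
        Finset.mem_univ, if_true, ← Finset.mul_sum] at h3
      exact h3
    have hS : ∑ ω', w ω' = 0 := by
      have h3 : ∑ ω : Ω, ((k - l) * w ω + l * ∑ ω', w ω') = 0 :=
        Finset.sum_eq_zero (fun ω _ => hw' ω)
      rw [Finset.sum_add_distrib, ← Finset.mul_sum, Finset.sum_const, Finset.card_univ,
        nsmul_eq_mul] at h3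
      have h4 : ((k - l) + n * l) * ∑ ω', w ω' = 0 := by rw [← h3]; ring
      exact (mul_eq_zero.mp h4).resolve_left hμn
    funext ω
    have h3 := hw' ω
    rw [hS, mul_zero, add_zero] at h3
    exact (mul_eq_zero.mp h3).resolve_left hμ
  have hsurj : Function.Surjective (A * A.transpose).mulVecLin :=
    LinearMap.injective_iff_surjective.mp hinj
  have hsurjA : Function.Surjective A.mulVecLin := by
    intro z
    obtain ⟨w, hw⟩ := hsurj z
    refine ⟨A.transpose.mulVecLin w, ?_⟩
    rw [← hw]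
    simp [Matrix.mulVecLin_apply, Matrix.mulVec_mulVec]
  have hfr : Module.finrank ℚ (G ⧸ H → ℚ) = Module.finrank ℚ (Ω → ℚ) := by
    rw [Module.finrank_fintype_fun_eq_card, Module.finrank_fintype_fun_eq_card, ← hidx,
      Subgroup.index_eq_card, Nat.card_eq_fintype_card]
  have hinjA : Function.Injective A.mulVecLin :=
    (LinearMap.injective_iff_surjective_of_finrank_eq_finrank hfr).mpr hsurjA
  apply hinjA
  rw [map_zero]
  funext ω
  rw [Matrix.mulVecLin_apply]
  exact hy ω

theorem mu_ne_zero (i : orbitRel.Quotient H Ω)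
    (hk0 : kk H i ≠ 0) (hkn : kk H i ≠ Fintype.card Ω) (hcard : 1 < Fintype.card Ω) :
    kk H i - lam H i i ≠ 0 := by
  set n : ℚ := (Fintype.card Ω : ℚ) with hn
  set k := kk H i with hk
  set l := lam H i i with hl
  have hn1 : n - 1 ≠ 0 := by
    have h2 : (1:ℚ) < Fintype.card Ω := by exact_mod_cast hcard
    rw [hn]
    linarith
  have hl' : (n - 1) * l = k * k - k := by
    rw [hl, lam, if_pos rfl, mul_div_cancel₀ _ hn1]
  intro h
  have h3 : (n - 1) * (k - l) = k * (n - k) := by rw [mul_sub, hl']; ring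
  rw [h, mul_zero] at h3
  rcases mul_eq_zero.mp h3.symm with h | h
  · exact hk0 h
  · exact hkn (by linarith)

theorem kk_ne_zero (i : orbitRel.Quotient H Ω) : kk H i ≠ 0 := by
  induction i using Quotient.inductionOn' with
  | h η =>
    have h1 : ind H (Quotient.mk'' η) ((1 : G) : G ⧸ H) η = 1 := by
      unfold ind
      rw [cls_mk, inv_one, one_smul, if_pos rfl]
    have h2 : ind H (Quotient.mk'' η) ((1 : G) : G ⧸ H) η ≤ kk H (Quotient.mk'' η) := by
      unfold kk
      apply Finset.single_le_sum (f := fun ω => ind H (Quotient.mk'' η) ((1 : G) : G ⧸ H) ω)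
      · intro ω _
        unfold ind
        split_ifs <;> norm_num
      · exact Finset.mem_univ η
    rw [h1] at h2
    intro h3
    rw [h3] at h2
    norm_num at h2

theorem kk_ne_card (i j : orbitRel.Quotient H Ω) (hij : i ≠ j) :
    kk H i ≠ Fintype.card Ω := by
  intro h
  have hle : ∀ ω ∈ (Finset.univ : Finset Ω), ind H i ((1 : G) : G ⧸ H) ω ≤ (1 : ℚ) := by
    intro ω _
    unfold ind
    split_ifs <;> norm_num
  have hsum : ∑ ω : Ω, ind H i ((1 : G) : G ⧸ H) ω = ∑ _ω : Ω, (1 : ℚ) := by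
    rw [Finset.sum_const, Finset.card_univ, nsmul_eq_mul, mul_one]
    exact h
  have hall := (Finset.sum_eq_sum_iff_of_le hle).mp hsum
  induction j using Quotient.inductionOn' with
  | h η =>
    have h1 := hall η (Finset.mem_univ η)
    unfold ind at h1
    rw [cls_mk, inv_one, one_smul] at h1
    split_ifs at h1 with h2
    · exact hij h2.symm
    · norm_num at h1

theorem no_three [IsPretransitive G Ω] (h2 : IsMultiplyPretransitive G Ω 2)
    (hidx : H.index = Fintype.card Ω) (i j l : orbitRel.Quotient H Ω)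
    (hij : i ≠ j) (hil : i ≠ l) (hjl : j ≠ l) (hcard : 1 < Fintype.card Ω) : False := by
  have hk0 := kk_ne_zero H i
  have hkn := kk_ne_card H i j hij
  obtain ⟨ω'⟩ : Nonempty Ω := Fintype.card_pos_iff.mp (by omega)
  have hμ := mu_ne_zero H i hk0 hkn hcard
  set α : ℚ := lam H i j / (kk H i - lam H i i) with hα
  have hy := eq_zero_of_sum_eq_zero H h2 hidx i hk0 hkn hcard
    (fun γ => ind H j γ ω' - α * (1 - ind H i γ ω')) ?_
  · obtain ⟨γ1, h1⟩ := exists_cls H l ω'
    obtain ⟨γ2, h2⟩ := exists_cls H j ω'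
    have e1 := congrFun hy γ1
    have e2 := congrFun hy γ2
    simp only [ind, h1, h2, if_neg hjl.symm, if_neg hil.symm, if_neg hij.symm, if_pos rfl,
      Pi.zero_apply] at e1 e2
    norm_num at e1 e2
    rw [e1] at e2
    norm_num at e2
  · intro ω
    have h3 : ∑ γ, ind H i γ ω * (ind H j γ ω' - α * (1 - ind H i γ ω')) =
        gram H i j ω ω' - α * (∑ γ, ind H i γ ω - gram H i i ω ω') := by
      unfold gram
      rw [← Finset.sum_sub_distrib, Finset.mul_sum, ← Finset.sum_sub_distrib]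
      apply Finset.sum_congr rfl
      intro γ _
      ring
    rw [h3, sum_ind_left H hidx]
    by_cases h : ω = ω'
    · subst h
      rw [gram_self H hidx, gram_self H hidx, if_neg hij, if_pos rfl]
      ring
    · rw [gram_ne' H h2 hidx i j h, gram_ne' H h2 hidx i i h, hα, div_mul_cancel₀ _ hμ]
      ring

end count

theorem result {G Ω : Type*} [Group G] [Finite G] [MulAction G Ω] [FaithfulSMul G Ω] [Finite Ω] (h2 : MulAction.IsMultiplyPretransitive G Ω 2) (H : Subgroup G) (hidx : H.index = Nat.card Ω) (hnt : ¬ MulAction.IsPretransitive H Ω) (hfix : ∀ a : Ω, ∃ h : H, h • a ≠ a) : Nat.card (MulAction.orbitRel.Quotient H Ω) = 2 := by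
  classical
  haveI := Fintype.ofFinite G
  haveI := Fintype.ofFinite Ω
  haveI : IsPretransitive G Ω := MulAction.isPretransitive_of_is_two_pretransitive
  rw [Nat.card_eq_fintype_card] at hidx
  obtain ⟨a, b, hab⟩ : ∃ a b : Ω, ∀ h : H, h • a ≠ b := by
    by_contra hcon
    push Not at hcon
    exact hnt ⟨hcon⟩
  have hne : a ≠ b := fun h => hab 1 (by rw [one_smul, h])
  have hcard : 1 < Fintype.card Ω := Fintype.one_lt_card_iff.mpr ⟨a, b, hne⟩
  have hij : (Quotient.mk'' a : orbitRel.Quotient H Ω) ≠ Quotient.mk'' b := by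
    intro h
    have h1 : a ∈ orbit H b := Quotient.exact' h
    obtain ⟨x, hx⟩ := h1
    have h3 : x⁻¹ • a = b := by rw [← hx, inv_smul_smul]
    exact hab x⁻¹ h3
  rw [Nat.card_eq_two_iff]
  refine ⟨Quotient.mk'' a, Quotient.mk'' b, hij, ?_⟩
  ext l
  simp only [Set.mem_insert_iff, Set.mem_singleton_iff, Set.mem_univ, iff_true]
  by_contra hcon
  push Not at hcon
  exact no_three H h2 hidx _ _ l hij hcon.1.symm hcon.2.symm hcard


end Cfsg.Agent.S3704
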