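import Cfsg.Statements.S3733
import Mathlib

set_option autoImplicit false
open Cfsg
open scoped IsMulCommutative

namespace Cfsg.Agent.S3733

theorem result {G : Type*} [Group G] [Finite G] (A V : Subgroup G) (hVab : IsMulCommutative V) (hV : V ≠ ⊥) (hAV : A ≤ Subgroup.normalizer (V : Set G)) (𝒜 : Finset (Subgroup G)) (hne : 𝒜.Nonempty) (hprop : ∀ B ∈ 𝒜, B < A) (hpart : ∀ a ∈ A, a ≠ 1 → ∃! B, B ∈ 𝒜 ∧ a ∈ B) (hk : (𝒜.card - 1).Coprime (Nat.card V)) : ∃ B ∈ 𝒜, V ⊓ Subgroup.centralizer (B : Set G) ≠ ⊥ := by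
  classical
  by_contra hcon
  have hcon' : ∀ B ∈ 𝒜, V ⊓ Subgroup.centralizer (B : Set G) = ⊥ := by
    intro B hB
    by_contra h
    exact hcon ⟨B, hB, h⟩
  haveI := hVab
  letI := Fintype.ofFinite G
  let Φ := V.normalizerMonoidHom
  let S : Subgroup G → Finset (Subgroup.normalizer (V : Set G)) :=
    fun B => Finset.univ.filter (fun a => (a : G) ∈ B)
  have hΦ : ∀ (a : Subgroup.normalizer (V : Set G)) (w : V), ((Φ a w : V) : G) = (a : G) * w * (a : G)⁻¹ := by
    intro a w; rfl
  -- fixed point property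
  have hfix : ∀ (B : Subgroup G), B ≤ Subgroup.normalizer (V : Set G) → ∀ v : V,
      ((∏ a ∈ S B, Φ a v : V) : G) ∈ V ⊓ Subgroup.centralizer (B : Set G) := by
    intro B hB v
    refine ⟨(∏ a ∈ S B, Φ a v : V).2, ?_⟩
    change ((∏ a ∈ S B, Φ a v : V) : G) ∈ Subgroup.centralizer (B : Set G)
    rw [Subgroup.mem_centralizer_iff]
    intro b hb
    let b' : Subgroup.normalizer (V : Set G) := ⟨b, hB hb⟩
    have h1 : Φ b' (∏ a ∈ S B, Φ a v) = ∏ a ∈ S B, Φ a v := by
      rw [map_prod]
      have h2 : ∀ a, Φ b' (Φ a v) = Φ (b' * a) v := by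
        intro a; rw [map_mul]; rfl
      simp_rw [h2]
      apply Finset.prod_bij (fun a _ => b' * a)
      · intro a ha
        simp only [S, Finset.mem_filter, Finset.mem_univ, true_and] at ha ⊢
        exact B.mul_mem hb ha
      · intro a₁ _ a₂ _ h
        exact mul_left_cancel h
      · intro c hc
        simp only [S, Finset.mem_filter, Finset.mem_univ, true_and] at hc
        refine ⟨b'⁻¹ * c, ?_, by simp⟩
        simp only [S, Finset.mem_filter, Finset.mem_univ, true_and]
        exact B.mul_mem (B.inv_mem hb) hc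
      · intro a _; rfl
    have h3 := congrArg (Subtype.val) h1
    rw [hΦ] at h3
    have h4 : b * ((∏ a ∈ S B, Φ a v : V) : G) * b⁻¹ = ((∏ a ∈ S B, Φ a v : V) : G) := h3
    calc b * ((∏ a ∈ S B, Φ a v : V) : G) = (b * ((∏ a ∈ S B, Φ a v : V) : G) * b⁻¹) * b := by group
      _ = ((∏ a ∈ S B, Φ a v : V) : G) * b := by rw [h4]
  have hone : ∀ (B : Subgroup G), B ∈ 𝒜 → ∀ v : V, (∏ a ∈ S B, Φ a v : V) = 1 := by
    intro B hB v
    have := hfix B ((hprop B hB).le.trans hAV) v
    rw [hcon' B hB, Subgroup.mem_bot] at this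
    exact Subtype.ext this
  obtain ⟨B₀, hB₀⟩ := hne
  have honeA : ∀ v : V, (∏ a ∈ S A, Φ a v : V) = 1 := by
    intro v
    have h1 := hfix A hAV v
    have h2 : V ⊓ Subgroup.centralizer (A : Set G) ≤ V ⊓ Subgroup.centralizer (B₀ : Set G) :=
      inf_le_inf_left _ (Subgroup.centralizer_le (hprop B₀ hB₀).le)
    have h3 := h2 h1
    rw [hcon' B₀ hB₀, Subgroup.mem_bot] at h3
    exact Subtype.ext h3
  -- the counting identity
  have hcount : ∀ v : V, ∏ B ∈ 𝒜, ∏ a ∈ S B, Φ a v = (∏ a ∈ S A, Φ a v) * v ^ (𝒜.card - 1) := by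
    intro v
    have h1 : ∀ B ∈ 𝒜, ∏ a ∈ S B, Φ a v = ∏ a ∈ S A, if (a : G) ∈ B then Φ a v else 1 := by
      intro B hB
      rw [← Finset.prod_filter]
      congr 1
      ext a
      simp only [S, Finset.mem_filter, Finset.mem_univ, true_and]
      constructor
      · intro h; exact ⟨(hprop B hB).le h, h⟩
      · intro h; exact h.2
    rw [Finset.prod_congr rfl h1, Finset.prod_comm]
    have h2 : ∀ a ∈ S A, (∏ B ∈ 𝒜, if (a : G) ∈ B then Φ a v else 1) =
        Φ a v * (if a = 1 then v ^ (𝒜.card - 1) else 1) := by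
      intro a ha
      simp only [S, Finset.mem_filter, Finset.mem_univ, true_and] at ha
      rw [Finset.prod_ite, Finset.prod_const_one, mul_one, Finset.prod_const]
      by_cases h1a : a = 1
      · subst h1a
        have : 𝒜.filter (fun B => ((1 : Subgroup.normalizer (V : Set G)) : G) ∈ B) = 𝒜 := by
          apply Finset.filter_true_of_mem
          intro B _; exact B.one_mem
        rw [this, if_pos rfl]
        have hΦ1 : Φ 1 v = v := by rw [map_one]; rfl
        rw [hΦ1, ← pow_succ']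
        congr 1
        have := Finset.card_pos.mpr ⟨B₀, hB₀⟩
        omega
      · rw [if_neg h1a, mul_one]
        have hane : (a : G) ≠ 1 := by
          intro h; apply h1a; exact Subtype.ext h
        obtain ⟨B, ⟨hB, haB⟩, huniq⟩ := hpart (a : G) ha hane
        have : 𝒜.filter (fun B => (a : G) ∈ B) = {B} := by
          ext B'
          simp only [Finset.mem_filter, Finset.mem_singleton]
          constructor
          · intro h; exact huniq B' h
          · rintro rfl; exact ⟨hB, haB⟩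
        rw [this, Finset.card_singleton, pow_one]
    rw [Finset.prod_congr rfl h2, Finset.prod_mul_distrib]
    congr 1
    rw [Finset.prod_ite_eq']
    rw [if_pos]
    simp only [S, Finset.mem_filter, Finset.mem_univ, true_and]
    exact A.one_mem
  -- conclusion
  apply hV
  rw [eq_bot_iff]
  intro x hx
  rw [Subgroup.mem_bot]
  let v : V := ⟨x, hx⟩
  have h1 := hcount v
  rw [honeA v, one_mul, Finset.prod_congr rfl (fun B hB => hone B hB v), Finset.prod_const_one] at h1
  have h2 : orderOf v ∣ 𝒜.card - 1 := orderOf_dvd_of_pow_eq_one h1.symm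
  have h3 : orderOf v ∣ Nat.card V := orderOf_dvd_natCard v
  have h4 : orderOf v = 1 := Nat.eq_one_of_dvd_coprimes hk h2 h3
  have h5 : v = 1 := orderOf_eq_one_iff.mp h4
  exact congrArg Subtype.val h5

end Cfsg.Agent.S3733
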