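import Cfsg.Statements.S3735
import Mathlib
import Cfsg.Agent.Lib.Helper20.Subnormal

set_option autoImplicit false
open Cfsg

namespace Cfsg.Agent.S3735

open Cfsg.Agent.Lib.Helper20
open scoped Pointwise
open Subgroup

section aux

variable {G : Type*} [Group G]

/-- `S` is a minimal nontrivial `A`-invariant subgroup -/
def IsMinInv (A S : Subgroup G) : Prop :=
  S ≠ ⊥ ∧ A ≤ normalizer (S : Set G) ∧
    ∀ S₀ : Subgroup G, S₀ ≤ S → A ≤ normalizer (S₀ : Set G) → S₀ = ⊥ ∨ S₀ = S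

theorem exists_isMinInv_le [Finite G] {A N : Subgroup G}
    (hn : A ≤ normalizer (N : Set G)) (hne : N ≠ ⊥) :
    ∃ S : Subgroup G, IsMinInv A S ∧ S ≤ N := by
  obtain ⟨B, hB, hmin⟩ := exists_minimal_of_wellFoundedLT
    (fun B : Subgroup G => A ≤ normalizer (B : Set G) ∧ B ≠ ⊥ ∧ B ≤ N) ⟨N, hn, hne, le_rfl⟩
  refine ⟨B, ⟨hB.2.1, hB.1, ?_⟩, hB.2.2⟩
  intro B₀ hle hB₀
  by_cases h0 : B₀ = ⊥
  · exact Or.inl h0
  · right
    exact le_antisymm hle (hmin ⟨hB₀, h0, hle.trans hB.2.2⟩ hle)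

lemma conj_smul_normalizer_ge {A S : Subgroup G} {g : G} (hg : MulAut.conj g • A = A)
    (hS : A ≤ normalizer (S : Set G)) :
    A ≤ normalizer ((MulAut.conj g • S : Subgroup G) : Set G) := by
  rw [smul_normalizer_eq, ← hg]
  exact Subgroup.pointwise_smul_le_pointwise_smul_iff.mpr hS

theorem IsMinInv.smul {A S : Subgroup G} (h : IsMinInv A S) (g : G)
    (hg : MulAut.conj g • A = A) : IsMinInv A (MulAut.conj g • S) := by
  obtain ⟨hne, hn, hmin⟩ := h
  have hg' : MulAut.conj g⁻¹ • A = A := by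
    conv_lhs => rw [← hg]
    rw [← mul_smul, ← map_mul, inv_mul_cancel, map_one, one_smul]
  refine ⟨?_, conj_smul_normalizer_ge hg hn, ?_⟩
  · intro h0
    apply hne
    rwa [smul_eq_bot_iff'] at h0
  · intro S₀ hle hS₀
    have h1 : MulAut.conj g⁻¹ • S₀ ≤ S := by
      have := Subgroup.pointwise_smul_le_pointwise_smul_iff (a := MulAut.conj g⁻¹) |>.mpr hle
      rwa [← mul_smul, ← map_mul, inv_mul_cancel, map_one, one_smul] at this
    rcases hmin _ h1 (conj_smul_normalizer_ge hg' hS₀) with h2 | h2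
    · left
      rwa [smul_eq_bot_iff'] at h2
    · right
      rw [← h2, ← mul_smul, ← map_mul, mul_inv_cancel, map_one, one_smul]

lemma conj_smul_eq_of_mem_normalizer [Finite G] {A : Subgroup G} {g : G}
    (hg : g ∈ normalizer (A : Set G)) : MulAut.conj g • A = A := by
  apply Subgroup.eq_of_le_of_card_ge
  · intro x hx
    rw [Subgroup.mem_pointwise_smul_iff_inv_smul_mem] at hx
    have h1 := (Subgroup.mem_normalizer_iff.mp hg _).mp hx
    simp only [MulAut.smul_def, MulAut.conj_inv_apply] at h1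
    have : g * (g⁻¹ * x * g) * g⁻¹ = x := by group
    rwa [this] at h1
  · have : Nat.card (MulAut.conj g • A : Subgroup G) = Nat.card A :=
      Nat.card_congr ((A.equivMapOfInjective _ (MulAut.conj g).injective).symm.toEquiv)
    rw [this]

lemma mem_normalizer_of_conj_smul_le [Finite G] {T : Subgroup G} {g : G}
    (h : MulAut.conj g • T ≤ T) : g ∈ normalizer (T : Set G) := by
  have heq : MulAut.conj g • T = T := by
    apply Subgroup.eq_of_le_of_card_ge h
    have : Nat.card (MulAut.conj g • T : Subgroup G) = Nat.card T :=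
      Nat.card_congr ((T.equivMapOfInjective _ (MulAut.conj g).injective).symm.toEquiv)
    rw [this]
  rw [Subgroup.mem_normalizer_iff]
  intro x
  constructor
  · intro hx
    rw [← heq]
    exact ⟨x, hx, rfl⟩
  · intro hx
    rw [← heq] at hx
    obtain ⟨y, hy, hyx⟩ := hx
    have : y = x := by
      have h2 : g * y * g⁻¹ = g * x * g⁻¹ := hyx
      exact mul_left_cancel (mul_right_cancel h2)
    rwa [← this]

end aux

theorem result {G : Type*} [Group G] [Finite G] (H A V : Subgroup G) (hVab : IsMulCommutative V) (hHV : H ≤ Subgroup.normalizer (V : Set G)) (hAH : A ≤ H) (hAn : H ≤ Subgroup.normalizer (A : Set G)) (hss : ∀ U : Subgroup G, U ≤ V → H ≤ Subgroup.normalizer (U : Set G) → ∃ W : Subgroup G, W ≤ V ∧ H ≤ Subgroup.normalizer (W : Set G) ∧ U ⊓ W = ⊥ ∧ U ⊔ W = V) (U : Subgroup G) (hUV : U ≤ V) (hAU : A ≤ Subgroup.normalizer (U : Set G)) : ∃ W : Subgroup G, W ≤ V ∧ A ≤ Subgroup.normalizer (W : Set G) ∧ U ⊓ W = ⊥ ∧ U ⊔ W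 = V := by
  have hcommV : ∀ a ∈ V, ∀ b ∈ V, a * b = b * a := by
    intro a ha b hb
    exact congrArg Subtype.val (hVab.is_comm.comm ⟨a, ha⟩ ⟨b, hb⟩)
  -- the socle
  set T : Subgroup G := ⨆ S : {S : Subgroup G // IsMinInv A S ∧ S ≤ V}, S.1 with hT
  have hTV : T ≤ V := iSup_le fun S => S.2.2
  have hHT : H ≤ normalizer (T : Set G) := by
    intro h hh
    apply mem_normalizer_of_conj_smul_le
    have : MulAut.conj h • T = T.map (MulAut.conj h).toMonoidHom := rfl
    rw [this, hT, Subgroup.map_iSup]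
    apply iSup_le
    intro S
    have hA' : MulAut.conj h • A = A := conj_smul_eq_of_mem_normalizer (hAn hh)
    have hV' : MulAut.conj h • V = V := conj_smul_eq_of_mem_normalizer (hHV hh)
    have hS' : IsMinInv A (MulAut.conj h • S.1) := S.2.1.smul h hA'
    have hS'V : MulAut.conj h • S.1 ≤ V := by
      have h1 : MulAut.conj h • S.1 ≤ MulAut.conj h • V :=
        Subgroup.pointwise_smul_le_pointwise_smul_iff.mpr S.2.2
      exact h1.trans hV'.le
    exact le_iSup (fun S : {S : Subgroup G // IsMinInv A S ∧ S ≤ V} => S.1)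
      ⟨MulAut.conj h • S.1, hS', hS'V⟩
  obtain ⟨T', hT'V, hHT', hTT', hTT'V⟩ := hss T hTV hHT
  have hT'bot : T' = ⊥ := by
    by_contra hne
    obtain ⟨S, hS, hST'⟩ := exists_isMinInv_le (hAH.trans hHT') hne
    have hST : S ≤ T := le_iSup (fun S : {S : Subgroup G // IsMinInv A S ∧ S ≤ V} => S.1)
      ⟨S, hS, hST'.trans hT'V⟩
    apply hS.1
    rw [eq_bot_iff, ← hTT']
    exact le_inf hST hST'
  have hTeqV : T = V := by
    rw [← hTT'V, hT'bot, sup_bot_eq]
  -- a maximal invariant subgroup avoiding `U`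
  obtain ⟨W, hW, hmax⟩ := exists_maximal_of_wellFoundedGT
    (fun W : Subgroup G => W ≤ V ∧ A ≤ normalizer (W : Set G) ∧ U ⊓ W = ⊥)
    ⟨⊥, bot_le, by
      intro a _
      rw [Subgroup.mem_normalizer_iff]
      intro x
      simp, inf_bot_eq _⟩
  obtain ⟨hWV, hAW, hUW⟩ := hW
  refine ⟨W, hWV, hAW, hUW, ?_⟩
  apply le_antisymm (sup_le hUV hWV)
  rw [← hTeqV, hT]
  apply iSup_le
  rintro ⟨S, hS, hSV⟩
  show S ≤ U ⊔ W
  by_contra hnot
  have hUWinv : A ≤ normalizer ((U ⊔ W : Subgroup G) : Set G) :=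
    (le_inf hAU hAW).trans (Subgroup.normalizer_inf_normalizer_le_normalizer_sup U W)
  have hS0inv : A ≤ normalizer ((S ⊓ (U ⊔ W) : Subgroup G) : Set G) :=
    (le_inf hS.2.1 hUWinv).trans Subgroup.inf_normalizer_le_normalizer_inf
  have hS0 : S ⊓ (U ⊔ W) = ⊥ := by
    rcases hS.2.2 _ inf_le_left hS0inv with h | h
    · exact h
    · exfalso
      apply hnot
      rw [← h]; exact inf_le_right
  -- `W ⊔ S` contradicts maximality
  have hW'V : W ⊔ S ≤ V := sup_le hWV hSV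
  have hW'inv : A ≤ normalizer ((W ⊔ S : Subgroup G) : Set G) :=
    (le_inf hAW hS.2.1).trans (Subgroup.normalizer_inf_normalizer_le_normalizer_sup W S)
  have hUW' : U ⊓ (W ⊔ S) = ⊥ := by
    rw [eq_bot_iff]
    intro x hx
    obtain ⟨hxU, hxWS⟩ := Subgroup.mem_inf.mp hx
    -- x = w * s
    have hmem : ∀ y ∈ W ⊔ S, ∃ w ∈ W, ∃ s ∈ S, w * s = y := by
      intro y hy
      rw [Subgroup.sup_eq_closure] at hy
      refine Subgroup.closure_induction ?_ ?_ ?_ ?_ hy
      · rintro z (hz | hz)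
        · exact ⟨z, hz, 1, S.one_mem, mul_one z⟩
        · exact ⟨1, W.one_mem, z, hz, one_mul z⟩
      · exact ⟨1, W.one_mem, 1, S.one_mem, mul_one 1⟩
      · rintro _ _ _ _ ⟨w₁, hw₁, s₁, hs₁, rfl⟩ ⟨w₂, hw₂, s₂, hs₂, rfl⟩
        refine ⟨w₁ * w₂, W.mul_mem hw₁ hw₂, s₁ * s₂, S.mul_mem hs₁ hs₂, ?_⟩
        have := hcommV s₁ (hSV hs₁) w₂ (hWV hw₂)
        calc w₁ * w₂ * (s₁ * s₂) = w₁ * (w₂ * s₁) * s₂ := by group
          _ = w₁ * (s₁ * w₂) * s₂ := by rw [this]
          _ = w₁ * s₁ * (w₂ * s₂) := by group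
      · rintro _ _ ⟨w, hw, s, hs, rfl⟩
        refine ⟨w⁻¹, W.inv_mem hw, s⁻¹, S.inv_mem hs, ?_⟩
        have := hcommV w⁻¹ (hWV (W.inv_mem hw)) s⁻¹ (hSV (S.inv_mem hs))
        rw [this, mul_inv_rev]
    obtain ⟨w, hw, s, hs, hws⟩ := hmem x hxWS
    have hsUW : s ∈ S ⊓ (U ⊔ W) := by
      refine Subgroup.mem_inf.mpr ⟨hs, ?_⟩
      have : s = w⁻¹ * x := by rw [← hws]; group
      rw [this]
      exact (U ⊔ W).mul_mem (Subgroup.mem_sup_right (W.inv_mem hw)) (Subgroup.mem_sup_left hxU)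
    rw [hS0, Subgroup.mem_bot] at hsUW
    rw [hsUW, mul_one] at hws
    have : x ∈ U ⊓ W := Subgroup.mem_inf.mpr ⟨hxU, hws ▸ hw⟩
    rwa [hUW] at this
  have hle : W ⊔ S ≤ W := hmax ⟨hW'V, hW'inv, hUW'⟩ le_sup_left
  exact hnot ((le_sup_right.trans hle).trans le_sup_right)

end Cfsg.Agent.S3735
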