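import Cfsg.Statements.S3737
import Mathlib
import Cfsg.Agent.Lib.Helper20.Baer
import Cfsg.Agent.Lib.Helper1.Coprime

set_option autoImplicit false
open Cfsg

namespace Cfsg.Agent.S3737

open Cfsg.Agent.Lib.Helper20 Cfsg.Agent.Lib.Helper1
open scoped commutatorElement Pointwise
open Subgroup

variable {X : Type*} [Group X]

/-- conjugation by a normalizing element, as an endomorphism of `↥G` -/
def conjHom (G : Subgroup X) (a : X) (ha : a ∈ normalizer (G : Set X)) : ↥G →* ↥G where
  toFun x := ⟨a * x * a⁻¹, (Subgroup.mem_normalizer_iff.mp ha x).mp x.2⟩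
  map_one' := by
    apply Subtype.ext
    simp
  map_mul' x y := by
    apply Subtype.ext
    simp only [Subgroup.coe_mul]
    group

@[simp] lemma conjHom_coe (G : Subgroup X) (a : X) (ha : a ∈ normalizer (G : Set X)) (x : ↥G) :
    ((conjHom G a ha x : ↥G) : X) = a * x * a⁻¹ := rfl

variable [Finite X]

/-- the class two case, via the Baer trick -/
lemma class_two_case {p : ℕ} [hpp : Fact p.Prime] (hp : p ≠ 2) (P Q G : Subgroup X)
    (hP : IsPGroup p P) (hQ : (Nat.card Q).Coprime p)
    (hPQ : P ≤ normalizer (Q : Set X)) (hG : IsPGroup p G)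
    (hPG : P ≤ normalizer (G : Set X)) (hQG : Q ≤ normalizer (G : Set X))
    (hC : G ⊓ centralizer (P : Set X) ≤ centralizer (Q : Set X))
    (hcl : ⁅⁅G, G⁆, G⁆ = ⊥) : Q ≤ centralizer (G : Set X) := by
  classical
  obtain ⟨k, hk⟩ := IsPGroup.iff_card.mp hG
  set n := Nat.card G with hn
  have hnodd : Odd n := by
    rw [hk]
    exact Odd.pow (hpp.out.odd_of_ne_two hp)
  obtain ⟨h₀, hh₀⟩ := hnodd
  set h := h₀ + 1 with hh
  have hhalf : 2 * h = n + 1 := by rw [hh, hh₀]; ring
  have hyp : BaerHyp ↥G n h := by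
    refine ⟨?_, ?_, hhalf⟩
    · intro x y z
      have h1 : ⁅⁅(x : X), (y : X)⁆, (z : X)⁆ ∈ ⁅⁅G, G⁆, G⁆ :=
        Subgroup.commutator_mem_commutator (Subgroup.commutator_mem_commutator x.2 y.2) z.2
      rw [hcl, Subgroup.mem_bot, commutatorElement_eq_one_iff_mul_comm] at h1
      apply Subtype.ext
      exact h1
    · intro x
      exact pow_card_eq_one'
  haveI : Fact (BaerHyp ↥G n h) := ⟨hyp⟩
  -- the additive maps
  let α : ∀ (a : X), a ∈ normalizer (G : Set X) → (Baer ↥G n h →+ Baer ↥G n h) :=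
    fun a ha => Baer.map (conjHom G a ha)
  have hα_val : ∀ (a : X) (ha : a ∈ normalizer (G : Set X)) (v : Baer ↥G n h),
      (((α a ha v).val : ↥G) : X) = a * (v.val : X) * a⁻¹ := fun a ha v => rfl
  have hα_mul : ∀ (a b : X) (ha : a ∈ normalizer (G : Set X)) (hb : b ∈ normalizer (G : Set X))
      (hab : a * b ∈ normalizer (G : Set X)) (v : Baer ↥G n h),
      α a ha (α b hb v) = α (a * b) hab v := by
    intro a b ha hb hab v
    apply Baer.ext
    apply Subtype.ext
    rw [hα_val, hα_val, hα_val]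
    group
  haveI : Fintype ↥Q := Fintype.ofFinite _
  let τ : Baer ↥G n h →+ Baer ↥G n h := ∑ q : ↥Q, α q.1 (hQG q.2)
  have hτ : ∀ v, τ v = ∑ q : ↥Q, α q.1 (hQG q.2) v := by
    intro v
    simp only [τ, AddMonoidHom.finsetSum_apply]
  -- (i)
  have hτ_inv : ∀ (q₀ : ↥Q) (v : Baer ↥G n h), τ (α q₀.1 (hQG q₀.2) v) = τ v := by
    intro q₀ v
    rw [hτ, hτ]
    rw [← Equiv.sum_comp (Equiv.mulRight q₀) (fun q : ↥Q => α q.1 (hQG q.2) v)]
    apply Finset.sum_congr rfl
    intro q _
    exact hα_mul q.1 q₀.1 (hQG q.2) (hQG q₀.2) (hQG (q * q₀).2) v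
  -- (ii)
  have hτ_P : ∀ (a : X) (ha : a ∈ P) (v : Baer ↥G n h),
      α a (hPG ha) (τ v) = τ (α a (hPG ha) v) := by
    intro a ha v
    rw [hτ, hτ, map_sum]
    have hconj : ∀ q : ↥Q, a * q.1 * a⁻¹ ∈ Q := fun q =>
      (Subgroup.mem_normalizer_iff.mp (hPQ ha) q.1).mp q.2
    have hconj' : ∀ q : ↥Q, a⁻¹ * q.1 * a ∈ Q := fun q => by
      have := (Subgroup.mem_normalizer_iff.mp (Subgroup.inv_mem _ (hPQ ha)) q.1).mp q.2
      simpa using this
    let e : ↥Q ≃ ↥Q :=
      { toFun := fun q => ⟨a * q.1 * a⁻¹, hconj q⟩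
        invFun := fun q => ⟨a⁻¹ * q.1 * a, hconj' q⟩
        left_inv := fun q => by apply Subtype.ext; simp only; group
        right_inv := fun q => by apply Subtype.ext; simp only; group }
    rw [← Equiv.sum_comp e (fun q : ↥Q => α q.1 (hQG q.2) (α a (hPG ha) v))]
    apply Finset.sum_congr rfl
    intro q _
    apply Baer.ext
    apply Subtype.ext
    rw [hα_val, hα_val, hα_val, hα_val]
    show a * (q.1 * (v.val : X) * q.1⁻¹) * a⁻¹ = (a * q.1 * a⁻¹) * (a * (v.val : X) * a⁻¹) * (a * q.1 * a⁻¹)⁻¹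
    group
  -- (iii)
  have hτ_fix : ∀ v : Baer ↥G n h, (∀ q : ↥Q, α q.1 (hQG q.2) v = v) → τ v = Nat.card Q • v := by
    intro v hv
    rw [hτ, Finset.sum_congr rfl (fun q _ => hv q), Finset.sum_const, Finset.card_univ,
      Nat.card_eq_fintype_card]
  -- reformulate the goal
  suffices hgoal : ∀ (q : ↥Q) (v : Baer ↥G n h), α q.1 (hQG q.2) v = v by
    intro q hq
    rw [Subgroup.mem_centralizer_iff]
    intro g hg
    have := hgoal ⟨q, hq⟩ (Baer.mk ⟨g, hg⟩)
    have h2 := congrArg (fun w : Baer ↥G n h => ((w.val : ↥G) : X)) this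
    simp only [hα_val, Baer.val_mk] at h2
    -- q g q⁻¹ = g
    calc g * q = (q * g * q⁻¹)⁻¹⁻¹ * q := by rw [h2]; group
      _ = q * g := by group
  by_cases hker : τ.ker = ⊥
  · intro q v
    have h1 : τ (α q.1 (hQG q.2) v - v) = 0 := by
      rw [map_sub, hτ_inv, sub_self]
    have h2 : α q.1 (hQG q.2) v - v ∈ τ.ker := h1
    rw [hker, AddSubgroup.mem_bot, sub_eq_zero] at h2
    exact h2
  · exfalso
    -- `P` acts on the kernel
    letI : MulAction ↥P ↥τ.ker :=
      { smul := fun a w => ⟨α a.1 (hPG a.2) w.1, by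
          rw [AddMonoidHom.mem_ker, ← hτ_P a.1 a.2, (AddMonoidHom.mem_ker).mp w.2, map_zero]⟩
        one_smul := fun w => by
          apply Subtype.ext
          apply Baer.ext
          apply Subtype.ext
          show ((1 : ↥P) : X) * ((w.1.val : ↥G) : X) * ((1 : ↥P) : X)⁻¹ = _
          simp
        mul_smul := fun a b w => by
          apply Subtype.ext
          exact (hα_mul a.1 b.1 (hPG a.2) (hPG b.2) (hPG (a * b).2) w.1).symm }
    have hsmul : ∀ (a : ↥P) (w : ↥τ.ker), ((a • w : ↥τ.ker) : Baer ↥G n h) = α a.1 (hPG a.2) w.1 :=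
      fun a w => rfl
    have hcardB : Nat.card (Baer ↥G n h) = p ^ k := by rw [Baer.card_eq]; exact hk
    have hcardW : p ∣ Nat.card ↥τ.ker := by
      have h1 : Nat.card ↥τ.ker ∣ p ^ k := by
        rw [← hcardB]; exact AddSubgroup.card_addSubgroup_dvd_card _
      obtain ⟨j, -, hj⟩ := (Nat.dvd_prime_pow hpp.out).mp h1
      rcases Nat.eq_zero_or_pos j with rfl | hjpos
      · rw [pow_zero] at hj
        exact absurd (AddSubgroup.card_eq_one.mp hj) hker
      · rw [hj]; exact dvd_pow_self p hjpos.ne'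
    have hzero : (0 : ↥τ.ker) ∈ MulAction.fixedPoints ↥P ↥τ.ker := by
      intro a
      apply Subtype.ext
      rw [hsmul]
      simp
    obtain ⟨w, hwfix, hw0⟩ := hP.exists_fixed_point_of_prime_dvd_card_of_fixed_point ↥τ.ker hcardW hzero
    -- `w` is centralized by `P`
    have hwP : ((w.1.val : ↥G) : X) ∈ G ⊓ centralizer (P : Set X) := by
      refine Subgroup.mem_inf.mpr ⟨(w.1.val : ↥G).2, ?_⟩
      rw [Subgroup.mem_centralizer_iff]
      intro a ha
      have h1 := congrArg (fun u : ↥τ.ker => (((u : Baer ↥G n h).val : ↥G) : X)) (hwfix ⟨a, ha⟩)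
      simp only [hsmul, hα_val] at h1
      calc a * ((w.1.val : ↥G) : X) = (a * ((w.1.val : ↥G) : X) * a⁻¹) * a := by group
        _ = ((w.1.val : ↥G) : X) * a := by rw [h1]
    have hwQ := hC hwP
    have hwfixQ : ∀ q : ↥Q, α q.1 (hQG q.2) w.1 = w.1 := by
      intro q
      apply Baer.ext
      apply Subtype.ext
      rw [hα_val]
      have := (Subgroup.mem_centralizer_iff.mp hwQ) q.1 q.2
      rw [this]; group
    have h1 : Nat.card Q • w.1 = 0 := by
      rw [← hτ_fix w.1 hwfixQ]; exact w.2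
    have h2 : (p ^ k) • w.1 = 0 := by
      rw [← hcardB]; exact card_nsmul_eq_zero'
    have h3 : addOrderOf w.1 ∣ Nat.gcd (Nat.card Q) (p ^ k) :=
      Nat.dvd_gcd (addOrderOf_dvd_of_nsmul_eq_zero h1) (addOrderOf_dvd_of_nsmul_eq_zero h2)
    rw [Nat.Coprime.pow_right k hQ, Nat.dvd_one, AddMonoid.addOrderOf_eq_one_iff] at h3
    apply hw0
    apply Subtype.ext
    exact h3.symm

/-- conjugation by an element normalizing both factors normalizes the commutator -/
lemma mem_normalizer_commutator {A B : Subgroup X} {a : X} (hA : a ∈ normalizer (A : Set X))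
    (hB : a ∈ normalizer (B : Set X)) : a ∈ normalizer ((⁅A, B⁆ : Subgroup X) : Set X) := by
  rw [← conj_smul_eq_self_iff_mem_normalizer, conj_smul_eq_map, Subgroup.map_commutator,
    ← conj_smul_eq_map, ← conj_smul_eq_map,
    conj_smul_eq_self_iff_mem_normalizer.mpr hA, conj_smul_eq_self_iff_mem_normalizer.mpr hB]

lemma card_lt_of_lt {H K : Subgroup X} (h : H < K) : Nat.card H < Nat.card K :=
  lt_of_le_of_ne (Subgroup.card_le_of_le h.le)
    (fun heq => h.ne (Subgroup.eq_of_le_of_card_ge h.le heq.ge))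

theorem main_aux {p : ℕ} [hpp : Fact p.Prime] (hp : p ≠ 2) (P Q : Subgroup X)
    (hP : IsPGroup p P) (hQ : (Nat.card Q).Coprime p) (hPQ : P ≤ normalizer (Q : Set X)) :
    ∀ N : ℕ, ∀ G : Subgroup X, Nat.card G = N → IsPGroup p G →
      P ≤ normalizer (G : Set X) → Q ≤ normalizer (G : Set X) →
      G ⊓ centralizer (P : Set X) ≤ centralizer (Q : Set X) → Q ≤ centralizer (G : Set X) := by
  intro N
  induction N using Nat.strong_induction_on with
  | _ N ih =>
    intro G hN hG hPG hQG hC
    by_cases hG1 : G = ⊥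
    · subst hG1
      intro q _
      rw [Subgroup.mem_centralizer_iff]
      intro g hg
      rw [Subgroup.coe_bot, Set.mem_singleton_iff] at hg
      subst hg
      simp
    -- the commutator `[G, Q]`
    set K := ⁅G, Q⁆ with hK
    have hKG : K ≤ G := commutator_le_of_le_normalizer hQG
    have hQK : Q ≤ normalizer (K : Set X) := le_normalizer_commutator_right
    have hPK : P ≤ normalizer (K : Set X) := fun a ha =>
      mem_normalizer_commutator (hPG ha) (hPQ ha)
    obtain ⟨k, hk⟩ := IsPGroup.iff_card.mp hG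
    have hcop : CoprimeAct Q G := by
      refine ⟨hQG, ?_, Or.inr ?_⟩
      · rw [hk]; exact Nat.Coprime.pow_right k hQ
      · haveI : Group.IsNilpotent ↥G := hG.isNilpotent
        infer_instance
    have symm_cent : ∀ A B : Subgroup X, A ≤ centralizer (B : Set X) → B ≤ centralizer (A : Set X) := by
      intro A B hAB b hb
      rw [Subgroup.mem_centralizer_iff]
      intro a ha
      exact ((Subgroup.mem_centralizer_iff.mp (hAB ha)) b hb).symm
    by_cases hKlt : K = G
    · -- `G = [G, Q]`: class at most two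
      set D := ⁅G, G⁆ with hD
      have hDG : D ≤ G := Subgroup.commutator_le_self G
      have hDlt : D ≠ G := by
        intro hDG'
        haveI : Group.IsNilpotent ↥G := hG.isNilpotent
        haveI : Nontrivial ↥G := (Subgroup.nontrivial_iff_ne_bot G).mpr hG1
        have h1 : commutator ↥G < ⊤ := Group.IsSolvable.commutator_lt_top_of_nontrivial ↥G
        have h2 : (commutator ↥G).map G.subtype = D := by
          rw [commutator_def, Subgroup.map_commutator, ← MonoidHom.range_eq_map,
            Subgroup.range_subtype]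
        have h3 : (commutator ↥G).map G.subtype = (⊤ : Subgroup ↥G).map G.subtype := by
          rw [h2, hDG', ← MonoidHom.range_eq_map, Subgroup.range_subtype]
        exact h1.ne (Subgroup.map_injective G.subtype_injective h3)
      have hDcard : Nat.card D < N := by
        rw [← hN]
        exact card_lt_of_lt (lt_of_le_of_ne hDG hDlt)
      have hPD : P ≤ normalizer (D : Set X) := fun a ha =>
        mem_normalizer_commutator (hPG ha) (hPG ha)
      have hQD : Q ≤ normalizer (D : Set X) := fun a ha =>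
        mem_normalizer_commutator (hQG ha) (hQG ha)
      have hQcD : Q ≤ centralizer (D : Set X) :=
        ih _ hDcard D rfl (hG.to_le hDG) hPD hQD ((inf_le_inf hDG le_rfl).trans hC)
      have hDQ : ⁅D, Q⁆ = ⊥ :=
        Subgroup.commutator_eq_bot_iff_le_centralizer.mpr (symm_cent _ _ hQcD)
      have h1 : ⁅⁅G, D⁆, Q⁆ = ⊥ := by
        rw [eq_bot_iff, ← hDQ]
        exact Subgroup.commutator_mono (Subgroup.commutator_mono le_rfl hDG) le_rfl
      have h2 : ⁅⁅D, Q⁆, G⁆ = ⊥ := by
        rw [hDQ, Subgroup.commutator_bot_left]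
      have h3 : ⁅⁅Q, G⁆, D⁆ = ⊥ := Subgroup.commutator_commutator_eq_bot_of_rotate h1 h2
      rw [Subgroup.commutator_comm Q G, ← hK, hKlt, Subgroup.commutator_comm G D] at h3
      exact class_two_case hp P Q G hP hQ hPQ hG hPG hQG hC h3
    · -- `[G, Q] < G`
      have hKcard : Nat.card K < N := by
        rw [← hN]
        exact card_lt_of_lt (lt_of_le_of_ne hKG hKlt)
      have hQcK : Q ≤ centralizer (K : Set X) :=
        ih _ hKcard K rfl (hG.to_le hKG) hPK hQK ((inf_le_inf hKG le_rfl).trans hC)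
      have hKQ : ⁅K, Q⁆ = ⊥ :=
        Subgroup.commutator_eq_bot_iff_le_centralizer.mpr (symm_cent _ _ hQcK)
      have h1 : ⁅G, Q⁆ = ⊥ := by
        rw [← hcop.commutator_commutator_eq]
        exact hKQ
      exact symm_cent _ _ (Subgroup.commutator_eq_bot_iff_le_centralizer.mp h1)

/-- Thompson's strengthening of the P × Q lemma for odd primes. Let p be an odd prime and let P, Q and G be subgroups of a finite group with P a p-group, Q of order prime to p and normalized by P, and G a p-group normalized by both P and Q. If every element of G centralized by P is centralized by Q, then Q centralizes G. -/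
theorem result {X : Type*} [Group X] [Finite X] {p : ℕ} [Fact p.Prime] (hp : p ≠ 2) (P Q G : Subgroup X) (hP : IsPGroup p P) (hQ : (Nat.card Q).Coprime p) (hPQ : P ≤ Subgroup.normalizer (Q : Set X)) (hG : IsPGroup p G) (hPG : P ≤ Subgroup.normalizer (G : Set X)) (hQG : Q ≤ Subgroup.normalizer (G : Set X)) (hC : G ⊓ Subgroup.centralizer (P : Set X) ≤ Subgroup.centralizer (Q : Set X)) : Q ≤ Subgroup.centralizer (G : Set X) := by
  exact main_aux hp P Q hP hQ hPQ _ G rfl hG hPG hQG hC

end Cfsg.Agent.S3737
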