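import Cfsg.Statements.S3738
import Mathlib
import Cfsg.Agent.S3736
import Cfsg.Agent.S0538
import Cfsg.Agent.Lib.Helper1.Frattini
import Cfsg.Agent.Lib.Helper1.ClassTwo
import Cfsg.Agent.Lib.Helper17.SpecialRank

set_option autoImplicit false
open Cfsg

namespace Cfsg.Agent.S3738

open Subgroup Cfsg.Agent.Lib.Helper17
open scoped commutatorElement

/-- In a cyclic 3-group `⟨d⟩` of order `3 ^ n`, every nontrivial element has the element
`d ^ 3 ^ (n - 1)` of order three among its powers. -/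
theorem pow_mem_zpowers_of_ne_one {X : Type*} [Group X] [Finite X] (d : X) (n : ℕ) (hn : 1 ≤ n)
    (hd : orderOf d = 3 ^ n) (b : X) (hb : b ∈ zpowers d) (hb1 : b ≠ 1) :
    d ^ 3 ^ (n - 1) ∈ zpowers b := by
  obtain ⟨c, hcdef⟩ : ∃ c, c = d ^ 3 ^ (n - 1) := ⟨_, rfl⟩
  rw [← hcdef]
  have hoc : orderOf c = 3 := by
    rw [hcdef, orderOf_pow_of_dvd (by positivity) (by rw [hd]; exact pow_dvd_pow 3 (by omega)), hd,
      Nat.pow_div (by omega) (by norm_num)]
    have : n - (n - 1) = 1 := by omega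
    rw [this, pow_one]
  have hob : orderOf b ∣ 3 ^ n := hd ▸ orderOf_dvd_of_mem_zpowers hb
  obtain ⟨j, hjn, hj⟩ := (Nat.dvd_prime_pow Nat.prime_three).mp hob
  have hj1 : 1 ≤ j := by
    rcases Nat.eq_zero_or_pos j with rfl | h
    · rw [pow_zero, orderOf_eq_one_iff] at hj; exact absurd hj hb1
    · exact h
  obtain ⟨s, hsdef⟩ : ∃ s, s = b ^ 3 ^ (j - 1) := ⟨_, rfl⟩
  have hos : orderOf s = 3 := by
    rw [hsdef, orderOf_pow_of_dvd (by positivity) (by rw [hj]; exact pow_dvd_pow 3 (by omega)), hj,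
      Nat.pow_div (by omega) (by norm_num)]
    have : j - (j - 1) = 1 := by omega
    rw [this, pow_one]
  have hsd : s ∈ zpowers d := by rw [hsdef]; exact (zpowers d).pow_mem hb _
  obtain ⟨m, hm⟩ := hsd
  have hm' : d ^ m = s := hm
  have hs3 : s ^ 3 = 1 := by rw [← hos]; exact pow_orderOf_eq_one s
  have hdm : d ^ (m * 3) = 1 := by
    rw [zpow_mul, hm', show (3 : ℤ) = ((3 : ℕ) : ℤ) from rfl, zpow_natCast]; exact hs3
  have hdvd : ((3 ^ n : ℕ) : ℤ) ∣ m * 3 := by
    rw [← hd]; exact orderOf_dvd_iff_zpow_eq_one.mpr hdm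
  have hdvd' : ((3 ^ (n - 1) : ℕ) : ℤ) ∣ m := by
    have h3n : (3 ^ n : ℕ) = 3 ^ (n - 1) * 3 := by
      rw [← pow_succ]; congr 1; omega
    rw [h3n] at hdvd
    push_cast at hdvd ⊢
    exact Int.dvd_of_mul_dvd_mul_right (by norm_num) hdvd
  obtain ⟨t, ht⟩ := hdvd'
  have hsc : s ∈ zpowers c := by
    refine ⟨t, ?_⟩
    show c ^ t = s
    rw [← hm', ht, hcdef, zpow_mul, zpow_natCast]
  have heq : zpowers s = zpowers c := by
    apply Subgroup.eq_of_le_of_card_ge (zpowers_le.mpr hsc)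
    rw [Nat.card_zpowers, Nat.card_zpowers, hos, hoc]
  have h1 : c ∈ zpowers s := by rw [heq]; exact mem_zpowers c
  have h2 : zpowers s ≤ zpowers b := by
    rw [zpowers_le, hsdef]; exact (zpowers b).pow_mem (mem_zpowers b) _
  exact h2 h1

/-- A commutative subgroup of exponent two inside `P` has order at most four. -/
theorem card_le_four {X : Type*} [Group X] (P : Subgroup X)
    (hrank : ∀ V : Subgroup X, V ≤ P → IsMulCommutative V → Cfsg.PRankLE 2 2 V)
    (V : Subgroup X) (hVP : V ≤ P) (hcomm : ∀ a ∈ V, ∀ b ∈ V, a * b = b * a)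
    (hsq : ∀ a ∈ V, a ^ 2 = 1) : Nat.card V ≤ 4 := by
  have hi : IsMulCommutative ↥V := ⟨⟨fun a b => Subtype.ext (hcomm a.1 a.2 b.1 b.2)⟩⟩
  have h := hrank V hVP hi ⊤
    ⟨⟨fun a b => Subtype.ext (Subtype.ext (hcomm a.1.1 a.1.2 b.1.1 b.1.2))⟩⟩
    (fun a _ => Subtype.ext (by simpa using hsq a.1 a.2))
  rw [Subgroup.card_top] at h
  norm_num at h
  exact h

/-- The elements of `Q` outside `Z`. -/
abbrev Omega {X : Type*} [Group X] (Q Z : Subgroup X) : Type _ := {x : X // x ∈ Q ∧ x ∉ Z}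

/-- Conjugation action of a subgroup normalizing `Q` and `Z` on the elements of `Q` outside `Z`. -/
@[reducible] def omegaAction {X : Type*} [Group X] (B Q Z : Subgroup X)
    (hBQ : B ≤ normalizer (Q : Set X)) (hBZ : B ≤ normalizer (Z : Set X)) :
    MulAction ↥B (Omega Q Z) where
  smul b x := ⟨(b : X) * x.1 * (b : X)⁻¹,
    ⟨(mem_normalizer_iff.mp (hBQ b.2) x.1).mp x.2.1,
      fun h => x.2.2 ((mem_normalizer_iff.mp (hBZ b.2) x.1).mpr h)⟩⟩
  one_smul x := by
    apply Subtype.ext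
    show ((1 : ↥B) : X) * x.1 * ((1 : ↥B) : X)⁻¹ = x.1
    simp
  mul_smul b b' x := by
    apply Subtype.ext
    show ((b * b' : ↥B) : X) * x.1 * ((b * b' : ↥B) : X)⁻¹ =
      (b : X) * ((b' : X) * x.1 * (b' : X)⁻¹) * (b : X)⁻¹
    simp [mul_assoc]

theorem card_Omega {X : Type*} [Group X] [Finite X] (Q Z : Subgroup X) (hZQ : Z ≤ Q) :
    Nat.card (Omega Q Z) + Nat.card Z = Nat.card Q := by
  have h1 : Nat.card (Omega Q Z) = ((Q : Set X) \ (Z : Set X)).ncard := by
    rw [← Nat.card_coe_set_eq]; rfl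
  have h2 : Nat.card Z = (Z : Set X).ncard := (Nat.card_coe_set_eq _)
  have h3 : Nat.card Q = (Q : Set X).ncard := (Nat.card_coe_set_eq _)
  rw [h1, h2, h3]
  exact Set.ncard_sdiff_add_ncard_of_subset (by exact_mod_cast hZQ) (Set.toFinite _)

/-- Let d be a non-identity 3-element of a finite group and P a 2-subgroup normalized by d on which ⟨d⟩ acts faithfully (no non-identity power of d centralizes P) and without non-identity fixed points (C_P(d) = 1). If every abelian subgroup of P has 2-rank at most 2, then d has order 3. -/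
theorem result {X : Type*} [Group X] [Finite X] (d : X) (n : ℕ) (hn : 1 ≤ n) (hd : orderOf d = 3 ^ n) (P : Subgroup X) (hP : IsPGroup 2 P) (hdP : d ∈ Subgroup.normalizer (P : Set X)) (hfaith : Subgroup.zpowers d ⊓ Subgroup.centralizer (P : Set X) = ⊥) (hfpf : P ⊓ Subgroup.centralizer {d} = ⊥) (hrank : ∀ V : Subgroup X, V ≤ P → IsMulCommutative V → Cfsg.PRankLE 2 2 V) : orderOf d = 3 := by
  classical
  have : Fact (Nat.Prime 2) := ⟨Nat.prime_two⟩
  rcases Nat.lt_or_ge n 2 with hn2 | hn2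
  · have h1 : n = 1 := by omega
    rw [hd, h1, pow_one]
  exfalso
  obtain ⟨B, hBdef⟩ : ∃ B : Subgroup X, B = zpowers d := ⟨_, rfl⟩
  obtain ⟨c, hcdef⟩ : ∃ c, c = d ^ 3 ^ (n - 1) := ⟨_, rfl⟩
  have hoc : orderOf c = 3 := by
    rw [hcdef, orderOf_pow_of_dvd (by positivity) (by rw [hd]; exact pow_dvd_pow 3 (by omega)), hd,
      Nat.pow_div (by omega) (by norm_num)]
    have : n - (n - 1) = 1 := by omega
    rw [this, pow_one]
  have hdB : d ∈ B := hBdef ▸ mem_zpowers d
  have hcB : c ∈ B := by rw [hcdef]; exact B.pow_mem hdB _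
  have hc1 : c ≠ 1 := by
    intro h; rw [h, orderOf_one] at hoc; omega
  obtain ⟨A, hAdef⟩ : ∃ A : Subgroup X, A = zpowers c := ⟨_, rfl⟩
  have hcA : c ∈ A := hAdef ▸ mem_zpowers c
  have hAB : A ≤ B := by rw [hAdef]; exact zpowers_le.mpr hcB
  have hAcard : Nat.card A = 3 := by rw [hAdef, Nat.card_zpowers, hoc]
  have hBcard : Nat.card B = 3 ^ n := by rw [hBdef, Nat.card_zpowers, hd]
  have hBP : B ≤ normalizer (P : Set X) := by rw [hBdef]; exact zpowers_le.mpr hdP
  have hBcomm : ∀ b ∈ B, ∀ b' ∈ B, b * b' = b' * b := by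
    intro b hb b' hb'
    rw [hBdef] at hb hb'
    obtain ⟨i, rfl⟩ := hb
    obtain ⟨j, rfl⟩ := hb'
    exact Commute.zpow_zpow_self d i j
  have hBCA : B ≤ centralizer (A : Set X) := by
    intro b hb
    rw [mem_centralizer_iff]
    intro a ha
    exact hBcomm a (hAB ha) b hb
  have hAn : B ≤ normalizer (A : Set X) := by
    intro b hb
    rw [mem_normalizer_iff]
    intro h
    constructor
    · intro hh
      have h1 : b * h * b⁻¹ = h := by rw [hBcomm b hb h (hAB hh)]; group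
      rw [h1]; exact hh
    · intro hh
      have h1 := hBcomm b⁻¹ (B.inv_mem hb) _ (hAB hh)
      have h2 : h = b⁻¹ * (b * h * b⁻¹) * b := by group
      have h3 : b * h * b⁻¹ * b⁻¹ * b = b * h * b⁻¹ := by group
      rw [h2, h1, h3]; exact hh
  have hAp : (Nat.card A).Coprime 2 := by rw [hAcard]; norm_num
  have hcP : c ∉ centralizer (P : Set X) := by
    intro h
    have h1 : c ∈ zpowers d ⊓ centralizer (P : Set X) := ⟨hBdef ▸ hcB, h⟩
    rw [hfaith, mem_bot] at h1
    exact hc1 h1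
  have hnt : ⁅P, A⁆ ≠ ⊥ := by
    intro h
    rw [Subgroup.commutator_eq_bot_iff_le_centralizer] at h
    apply hcP
    rw [mem_centralizer_iff]
    intro y hy
    exact ((mem_centralizer_iff.mp (h hy)) c hcA).symm
  -- a minimal B-invariant subgroup on which A acts nontrivially
  obtain ⟨Q, ⟨hQP, hBQ, hntQ⟩, hQmin⟩ : ∃ Q : Subgroup X,
      (Q ≤ P ∧ B ≤ normalizer (Q : Set X) ∧ ⁅Q, A⁆ ≠ ⊥) ∧
      ∀ U : Subgroup X, (U ≤ P ∧ B ≤ normalizer (U : Set X) ∧ ⁅U, A⁆ ≠ ⊥) → ¬ U < Q := by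
    have hne : {U : Subgroup X | U ≤ P ∧ B ≤ normalizer (U : Set X) ∧ ⁅U, A⁆ ≠ ⊥}.Nonempty :=
      ⟨P, le_rfl, hBP, hnt⟩
    obtain ⟨Q, hQ, hmin⟩ := wellFounded_lt.has_min _ hne
    exact ⟨Q, hQ, fun U hU => hmin U hU⟩
  have hmin' : ∀ U : Subgroup X, U < Q → B ≤ normalizer (U : Set X) → ⁅U, A⁆ = ⊥ := by
    intro U hU hBU
    by_contra h
    exact hQmin U ⟨hU.le.trans hQP, hBU, h⟩ hU
  obtain ⟨hQA, hcase, hirr, -⟩ :=
    Cfsg.Agent.S3736.result (p := 2) B A Q (hP.to_le hQP) hBQ hAB hAn hAp hntQ hmin'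
  obtain ⟨Z, hZdef⟩ : ∃ Z : Subgroup X, Z = (frattini ↥Q).map Q.subtype := ⟨_, rfl⟩
  have hZQ : Z ≤ Q := by rw [hZdef]; exact map_subtype_le _
  have hQ1 : Q ≠ ⊥ := by
    rintro rfl; exact hntQ (commutator_bot_left _)
  have hQnt : Nontrivial ↥Q := (nontrivial_iff_ne_bot Q).mpr hQ1
  have hZne : Z ≠ Q := by
    intro h
    apply Cfsg.Agent.S3736.frattini_ne_top (K := ↥Q)
    rw [hZdef] at h
    rw [eq_top_iff]
    intro q _
    have hq : (q : X) ∈ (frattini ↥Q).map Q.subtype := by rw [h]; exact q.2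
    obtain ⟨q', hq', hqq⟩ := hq
    have h1 : q' = q := Subtype.ext hqq
    rw [← h1]; exact hq'
  have hZlt : Z < Q := lt_of_le_of_ne hZQ hZne
  have hBZ : B ≤ normalizer (Z : Set X) := by
    rw [hZdef]
    exact hBQ.trans
      (Cfsg.Agent.Lib.Helper1.normalizer_le_normalizer_map_of_characteristic Q (frattini ↥Q))
  have hZA : ⁅Z, A⁆ = ⊥ := hmin' Z hZlt hBZ
  -- the centralizer of A in Q lies in Z
  have hCQ : Q ⊓ centralizer (A : Set X) ≤ Z := by
    have hBCQ : B ≤ normalizer ((Q ⊓ centralizer (A : Set X) : Subgroup X) : Set X) := by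
      intro b hb
      rw [mem_normalizer_iff]
      intro h
      have h1 := (mem_normalizer_iff.mp (hBQ hb)) h
      have h2 := (mem_normalizer_iff.mp ((hBCA.trans le_normalizer) hb)) h
      rw [mem_inf, mem_inf, h1, h2]
    have hBU : B ≤ normalizer ((Z ⊔ (Q ⊓ centralizer (A : Set X)) : Subgroup X) : Set X) :=
      fun b hb => Cfsg.Agent.S0538.mem_normalizer_sup _ _ b (hBZ hb) (hBCQ hb)
    rcases hirr (Z ⊔ (Q ⊓ centralizer (A : Set X))) (by rw [← hZdef]; exact le_sup_left)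
      (sup_le hZQ inf_le_left) hBU with hU | hU
    · rw [hZdef]; rw [← hU]; exact le_sup_right
    · exfalso
      apply hntQ
      rw [Subgroup.commutator_eq_bot_iff_le_centralizer]
      rw [← hU]
      refine sup_le ?_ inf_le_right
      exact (Subgroup.commutator_eq_bot_iff_le_centralizer.mp hZA)
  -- B acts freely on the elements of Q outside Z
  let act : MulAction ↥B (Omega Q Z) := omegaAction B Q Z hBQ hBZ
  have hfree : ∀ (b : ↥B) (x : Omega Q Z), b • x = x → b = 1 := by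
    intro b x hbx
    by_contra hb1
    have hbx' : (b : X) * x.1 * (b : X)⁻¹ = x.1 := congrArg Subtype.val hbx
    have hcb : c ∈ zpowers (b : X) := by
      rw [hcdef]
      exact pow_mem_zpowers_of_ne_one d n hn hd b (hBdef ▸ b.2) (fun h => hb1 (Subtype.ext h))
    have hbcomm : Commute (b : X) x.1 := by
      unfold Commute SemiconjBy
      calc (b : X) * x.1 = (b : X) * x.1 * (b : X)⁻¹ * b := by group
        _ = x.1 * b := by rw [hbx']
    have hcx : Commute c x.1 := by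
      obtain ⟨k, hk⟩ := hcb
      have hk' : (b : X) ^ k = c := hk
      rw [← hk']
      exact hbcomm.zpow_left k
    apply x.2.2
    apply hCQ
    refine ⟨x.2.1, ?_⟩
    show x.1 ∈ centralizer (A : Set X)
    rw [mem_centralizer_iff]
    intro a ha
    rw [hAdef] at ha
    obtain ⟨j, rfl⟩ := ha
    exact hcx.zpow_left j
  have hdiv : 3 ^ n ∣ Nat.card (Omega Q Z) := by
    have h1 := @card_dvd_of_free_action ↥B (Omega Q Z) _ act _ (by unfold Omega; infer_instance) hfree
    rwa [hBcard] at h1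
  have hΩcard := card_Omega Q Z hZQ
  -- |Q : Z| ≥ 64
  have h64 : 64 * Nat.card Z ≤ Nat.card Q := by
    obtain ⟨q, hq⟩ := (hP.to_le hQP).exists_card_eq
    obtain ⟨z, hz⟩ := (hP.to_le (hZQ.trans hQP)).exists_card_eq
    have hlt : 2 * Nat.card Z ≤ Nat.card Q := two_mul_card_le_of_lt hZlt
    have hzq : z < q := by
      rw [hq, hz] at hlt
      apply (Nat.pow_lt_pow_iff_right (a := 2) (by norm_num)).mp
      have : 0 < 2 ^ z := by positivity
      omega
    obtain ⟨k, rfl⟩ : ∃ k, q = z + k := ⟨q - z, by omega⟩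
    have hk1 : 1 ≤ k := by omega
    have h9 : 9 ∣ Nat.card (Omega Q Z) := by
      refine Dvd.dvd.trans ?_ hdiv
      have h9' : (9 : ℕ) = 3 ^ 2 := by norm_num
      rw [h9']; exact pow_dvd_pow 3 hn2
    have hΩ : Nat.card (Omega Q Z) = 2 ^ z * (2 ^ k - 1) := by
      have h1 := hΩcard
      rw [hq, hz, pow_add] at h1
      rw [Nat.mul_sub_one]
      exact Nat.eq_sub_of_add_eq h1
    rw [hΩ] at h9
    have hcop : Nat.Coprime 9 (2 ^ z) := Nat.Coprime.pow_right z (by norm_num)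
    have h9k : 9 ∣ 2 ^ k - 1 := hcop.dvd_of_dvd_mul_left h9
    have hk6 : 6 ≤ k := by
      by_contra hlt6
      push Not at hlt6
      interval_cases k <;> omega
    rw [hq, hz, pow_add]
    have h2k : 2 ^ 6 ≤ 2 ^ k := Nat.pow_le_pow_right (by norm_num) hk6
    have hzpos : 0 < 2 ^ z := by positivity
    nlinarith
  have hZpos : 0 < Nat.card Z := Nat.card_pos
  rcases hcase with hel | hsp
  · -- Q elementary abelian
    have h4 := card_le_four P hrank Q hQP
      (fun a ha b hb => congrArg Subtype.val (hel.1.is_comm.comm ⟨a, ha⟩ ⟨b, hb⟩)) hel.2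
    omega
  · -- Q special
    obtain ⟨hQ2, hΦZ, hDZ⟩ := hsp
    have hc' : ∀ x y z : ↥Q, ⁅x, y⁆ * z = z * ⁅x, y⁆ := by
      intro x y z
      have h1 : ⁅x, y⁆ ∈ center ↥Q := by
        rw [← hDZ, _root_.commutator_def]
        exact Subgroup.commutator_mem_commutator (mem_top x) (mem_top y)
      exact (mem_center_iff.mp h1 z).symm
    have hsq' : ∀ x : ↥Q, x ^ 2 ∈ center ↥Q := by
      intro x; rw [← hΦZ]; exact Cfsg.Agent.S3736.pow_mem_frattini hQ2 x
    have hZ2' : ∀ z ∈ center ↥Q, z ^ 2 = 1 := fun z hz =>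
      Cfsg.Agent.Lib.Helper1.IsSpecial.pow_eq_one_of_mem_center ⟨hQ2, hΦZ, hDZ⟩ z hz
    have hZc : Nat.card (center ↥Q) = Nat.card Z := by
      rw [hZdef, hΦZ]
      exact (Nat.card_congr (Subgroup.equivMapOfInjective _ _ Q.subtype_injective).toEquiv)
    have hZmem : ∀ a ∈ Z, ∃ α : ↥Q, α ∈ center ↥Q ∧ (α : X) = a := by
      intro a ha
      rw [hZdef, hΦZ] at ha
      obtain ⟨α, hα, rfl⟩ := ha
      exact ⟨α, hα, rfl⟩
    have hZ4 : Nat.card (center ↥Q) ≤ 4 := by
      rw [hZc]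
      apply card_le_four P hrank Z (hZQ.trans hQP)
      · intro a ha b hb
        obtain ⟨α, hα, rfl⟩ := hZmem a ha
        obtain ⟨β, hβ, rfl⟩ := hZmem b hb
        exact congrArg Subtype.val (mem_center_iff.mp hα β).symm
      · intro a ha
        obtain ⟨α, hα, rfl⟩ := hZmem a ha
        have := congrArg Subtype.val (hZ2' α hα)
        simpa using this
    obtain ⟨E, hEc, hE2, hE8⟩ := exists_elemAb_card_ge_eight hc' hsq' hZ2' hZ4 (by rw [hZc]; exact h64)
    have hE' : Nat.card ↥(E.map Q.subtype) ≤ 4 := by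
      apply card_le_four P hrank (E.map Q.subtype) ((map_subtype_le E).trans hQP)
      · rintro a ⟨α, hα, rfl⟩ b ⟨β, hβ, rfl⟩
        have h := hEc.is_comm.comm ⟨α, hα⟩ ⟨β, hβ⟩
        have h' : α * β = β * α := congrArg Subtype.val h
        exact congrArg Subtype.val h'
      · rintro a ⟨α, hα, rfl⟩
        have := congrArg Subtype.val (hE2 α hα)
        simpa using this
    rw [Nat.card_congr (Subgroup.equivMapOfInjective _ _ Q.subtype_injective).symm.toEquiv] at hE'
    omega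

end Cfsg.Agent.S3738
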