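import Cfsg.Statements.S3739
import Mathlib
import Cfsg.Agent.S3738
import Cfsg.Agent.Lib.Helper1.Cores
import Cfsg.Agent.Lib.Helper10.Basic
import Cfsg.Agent.Lib.Helper10.UniqueOrderP
import Cfsg.Agent.Lib.Helper12.Generation

set_option autoImplicit false
set_option linter.style.haveILetI false
set_option linter.unusedVariables false
open Cfsg

namespace Cfsg.Agent.S3739

open Subgroup Cfsg.Agent.Lib.Helper1 Cfsg.Agent.Lib.Helper10 Cfsg.Agent.Lib.Helper12
open scoped Pointwise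

variable {G : Type*} [Group G]

theorem three_le_card [Finite G] (U : Subgroup G) {a b : G} (ha : a ∈ U) (hb : b ∈ U)
    (ha1 : a ≠ 1) (hb1 : b ≠ 1) (hab : a ≠ b) : 3 ≤ Nat.card U := by
  have h3 : ({1, ⟨a, ha⟩, ⟨b, hb⟩} : Set ↥U).ncard = 3 := by
    rw [Set.ncard_eq_three]
    refine ⟨1, ⟨a, ha⟩, ⟨b, hb⟩, ?_, ?_, ?_, rfl⟩
    · intro h1
      exact ha1 (congrArg Subtype.val h1).symm
    · intro h1
      exact hb1 (congrArg Subtype.val h1).symm
    · intro h1
      exact hab (congrArg Subtype.val h1)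
  have h4 := Set.ncard_le_card ({1, ⟨a, ha⟩, ⟨b, hb⟩} : Set ↥U)
  omega

theorem eq_of_three_le [Finite G] {U W : Subgroup G} (hUW : U ≤ W) (hW : Nat.card W = 4)
    (h3 : 3 ≤ Nat.card U) : U = W := by
  have hdvd : Nat.card U ∣ 4 := hW ▸ Subgroup.card_dvd_of_le hUW
  have hle : Nat.card U ≤ 4 := Nat.le_of_dvd (by norm_num) hdvd
  have h34 : Nat.card U = 3 ∨ Nat.card U = 4 := by omega
  rcases h34 with h | h
  · rw [h] at hdvd
    revert hdvd
    norm_num
  · exact Subgroup.eq_of_le_of_card_ge hUW (by rw [h, hW])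

/-- adjoining a commuting involution to an elementary abelian `2`-group -/
theorem exists_card_mul_two [Finite G] (V : Subgroup G) (hV : IsElementaryAbelian 2 V) (t : G)
    (ht2 : t * t = 1) (htV : t ∉ V) (hcomm : ∀ v ∈ V, t * v = v * t) :
    ∃ E : Subgroup G, IsElementaryAbelian 2 E ∧ Nat.card E = 2 * Nat.card V := by
  have ht1 : t ≠ 1 := fun h => htV (h ▸ V.one_mem)
  have ht2' : t ^ 2 = 1 := by rw [pow_two]; exact ht2
  have hzt : ∀ b ∈ zpowers t, b = 1 ∨ b = t := fun b hb =>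
    eq_one_or_eq_of_mem_zpowers_of_sq ht2' hb
  have hVc := isElementaryAbelian_comm hV
  have hc : ∀ a ∈ V, ∀ b ∈ zpowers t, a * b = b * a := by
    intro a ha b hb
    rcases hzt b hb with rfl | rfl
    · simp
    · exact (hcomm a ha).symm
  have hdisj : V ⊓ zpowers t = ⊥ := by
    rw [eq_bot_iff]
    rintro b ⟨hbV, hbt⟩
    rcases hzt b hbt with rfl | rfl
    · exact Subgroup.mem_bot.2 rfl
    · exact absurd hbV htV
  have hct : ∀ a ∈ zpowers t, ∀ b ∈ zpowers t, Commute a b := by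
    intro a ha b hb
    rcases hzt a ha with rfl | rfl
    · exact Commute.one_left _
    · rcases hzt b hb with rfl | rfl
      · exact Commute.one_right _
      · exact Commute.refl _
  refine ⟨V ⊔ zpowers t, ⟨?_, ?_⟩, ?_⟩
  · apply IsMulCommutative.of_setLike_mul_comm
    intro x hx y hy
    obtain ⟨a₁, ha₁, b₁, hb₁, rfl⟩ := (mem_sup_of_commute V (zpowers t) hc).1 hx
    obtain ⟨a₂, ha₂, b₂, hb₂, rfl⟩ := (mem_sup_of_commute V (zpowers t) hc).1 hy
    have c11 : Commute a₁ a₂ := hVc a₁ ha₁ a₂ ha₂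
    have c12 : Commute a₁ b₂ := hc a₁ ha₁ b₂ hb₂
    have c21 : Commute b₁ a₂ := (hc a₂ ha₂ b₁ hb₁).symm
    have c22 : Commute b₁ b₂ := hct b₁ hb₁ b₂ hb₂
    exact ((c11.mul_right c12).mul_left (c21.mul_right c22)).eq
  · intro x hx
    obtain ⟨a₁, ha₁, b₁, hb₁, rfl⟩ := (mem_sup_of_commute V (zpowers t) hc).1 hx
    have c : Commute a₁ b₁ := hc a₁ ha₁ b₁ hb₁
    rw [c.mul_pow, hV.2 a₁ ha₁, one_mul]
    rcases hzt b₁ hb₁ with rfl | rfl
    · exact one_pow 2
    · exact ht2'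
  · rw [card_sup_of_commute_of_disjoint V (zpowers t) hc hdisj, Nat.card_zpowers,
      orderOf_eq_prime ht2' ht1, mul_comm]

theorem card_le_four [Finite G]
    (hno : ∀ E : Subgroup G, IsElementaryAbelian 2 E → Nat.card E ≠ 8) (E : Subgroup G)
    (hE : IsElementaryAbelian 2 E) : Nat.card E ≤ 4 := by
  by_contra hlt
  push Not at hlt
  have hEp : IsPGroup 2 E := by
    intro x
    refine ⟨1, Subtype.ext ?_⟩
    have h := hE.2 x x.2
    simpa using h
  obtain ⟨k, hk⟩ := IsPGroup.iff_card.1 hEp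
  have hk3 : 3 ≤ k := by
    by_contra h
    push Not at h
    have h2 : 2 ^ k ≤ 2 ^ 2 := Nat.pow_le_pow_right (by norm_num) (by omega)
    omega
  have hdvd : 2 ^ 3 ∣ Nat.card E := hk ▸ pow_dvd_pow 2 hk3
  obtain ⟨K, hK⟩ := Sylow.exists_subgroup_card_pow_prime 2 hdvd
  have hEc := isElementaryAbelian_comm hE
  apply hno (K.map E.subtype)
  · constructor
    · apply IsMulCommutative.of_setLike_mul_comm
      intro a ha b hb
      exact hEc a (Subgroup.map_subtype_le K ha) b (Subgroup.map_subtype_le K hb)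
    · intro a ha
      exact hE.2 a (Subgroup.map_subtype_le K ha)
  · rw [Subgroup.card_map_of_injective E.subtype_injective, hK]
    norm_num

/-- a `p`-group normalizing a nontrivial `p`-group centralizes an element of order `p` in it -/
theorem exists_fixed_of_order [Finite G] {p : ℕ} [hp : Fact p.Prime] (P H : Subgroup G)
    (hP : IsPGroup p P) (hH : IsPGroup p H) (hH1 : H ≠ ⊥)
    (hPH : P ≤ normalizer (H : Set G)) :
    ∃ b ∈ H, orderOf b = p ∧ ∀ x ∈ P, x * b = b * x := by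
  letI : MulAction ↥P ↥H := MulAction.compHom ↥H (Subgroup.inclusion hPH)
  have hsmul : ∀ (x : P) (h : H), ((x • h : H) : G) = x * h * (x : G)⁻¹ := fun x h => rfl
  have hdvd : ∀ F : Subgroup G, IsPGroup p F → F ≠ ⊥ → p ∣ Nat.card F := by
    intro F hF hF1
    haveI : Nontrivial F := (Subgroup.nontrivial_iff_ne_bot F).2 hF1
    obtain ⟨n, hn0, hn⟩ := hF.nontrivial_iff_card.1 inferInstance
    rw [hn]
    exact dvd_pow_self p hn0.ne'
  have h1 : (1 : H) ∈ MulAction.fixedPoints ↥P ↥H := by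
    intro x
    apply Subtype.ext
    rw [hsmul]
    simp
  obtain ⟨b, hb, hb1⟩ :=
    hP.exists_fixed_point_of_prime_dvd_card_of_fixed_point ↥H (hdvd H hH hH1) h1
  have hbC : (b : G) ∈ centralizer (P : Set G) := by
    rw [mem_centralizer_iff]
    intro x hx
    have h2 := congrArg Subtype.val (hb ⟨x, hx⟩)
    rw [hsmul] at h2
    exact mul_inv_eq_iff_eq_mul.1 h2
  have hbF : (b : G) ∈ H ⊓ centralizer (P : Set G) := Subgroup.mem_inf.2 ⟨b.2, hbC⟩
  have hF1 : H ⊓ centralizer (P : Set G) ≠ ⊥ := by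
    intro h
    rw [h, Subgroup.mem_bot] at hbF
    exact hb1 (Subtype.ext hbF).symm
  have hFp : IsPGroup p ↥(H ⊓ centralizer (P : Set G)) := hH.to_le inf_le_left
  obtain ⟨y, hy⟩ := exists_prime_orderOf_dvd_card' p (hdvd _ hFp hF1)
  refine ⟨y, y.2.1, ?_, ?_⟩
  · rw [Subgroup.orderOf_coe, hy]
  · intro x hx
    exact (mem_centralizer_iff.1 y.2.2) x hx

/-- an element of order dividing three fixing a nonidentity element of a four-group
centralizes it -/
theorem centralizes_of_fix [Finite G] (W : Subgroup G) (hW : IsElementaryAbelian 2 W)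
    (h4 : Nat.card W = 4) (x : G) (hxW : ∀ w ∈ W, x * w * x⁻¹ ∈ W) (hx3 : x ^ 3 = 1) (c : G)
    (hc : c ∈ W) (hc1 : c ≠ 1) (hxc : x * c = c * x) : ∀ w ∈ W, x * w = w * x := by
  have hc2 : c ^ 2 = 1 := hW.2 c hc
  have hcc : c * c = 1 := by rw [← pow_two]; exact hc2
  have hc' : x * c * x⁻¹ = c := by rw [hxc, mul_inv_cancel_right]
  have hle : zpowers c ≤ W := zpowers_le.2 hc
  have hidx : ((zpowers c).subgroupOf W).index = 2 := by
    have h1 := card_mul_relIndex_of_le hle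
    rw [Nat.card_zpowers, orderOf_eq_prime hc2 hc1, h4] at h1
    have h2 : (zpowers c).relIndex W = 2 := by omega
    exact h2
  intro w hw
  by_cases hwU : w ∈ zpowers c
  · rcases eq_one_or_eq_of_mem_zpowers_of_sq hc2 hwU with rfl | rfl
    · simp
    · exact hxc
  · have hw'W : x * w * x⁻¹ ∈ W := hxW w hw
    have hw'U : x * w * x⁻¹ ∉ zpowers c := by
      intro h
      apply hwU
      rcases eq_one_or_eq_of_mem_zpowers_of_sq hc2 h with h1 | h1
      · have hw1 : w = 1 := by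
          have h2 := congrArg (fun z => x⁻¹ * z * x) h1
          simpa [mul_assoc] using h2
        rw [hw1]
        exact one_mem _
      · have hwc : w = c := by
          have h2 : x * w * x⁻¹ = x * c * x⁻¹ := h1.trans hc'.symm
          have h3 := congrArg (fun z => x⁻¹ * z * x) h2
          simpa [mul_assoc] using h3
        rw [hwc]
        exact mem_zpowers c
    have hprod : w * (x * w * x⁻¹) ∈ zpowers c := by
      have h1 : (⟨w, hw⟩ : W) * ⟨x * w * x⁻¹, hw'W⟩ ∈ (zpowers c).subgroupOf W := by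
        rw [Subgroup.mul_mem_iff_of_index_two hidx]
        constructor
        · intro h
          exact absurd (mem_subgroupOf.1 h) hwU
        · intro h
          exact absurd (mem_subgroupOf.1 h) hw'U
      exact mem_subgroupOf.1 h1
    have hww : w * w = 1 := by rw [← pow_two]; exact hW.2 w hw
    have hwinv : w⁻¹ = w := inv_eq_of_mul_eq_one_left hww
    rcases eq_one_or_eq_of_mem_zpowers_of_sq hc2 hprod with h1 | h1
    · have h2 : x * w * x⁻¹ = w⁻¹ := eq_inv_of_mul_eq_one_right h1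
      rw [hwinv] at h2
      exact mul_inv_eq_iff_eq_mul.1 h2
    · exfalso
      have hw' : x * w * x⁻¹ = w * c := by
        have h2 : x * w * x⁻¹ = w⁻¹ * c := by rw [← h1, inv_mul_cancel_left]
        rw [h2, hwinv]
      have h2 : x * (w * c) * x⁻¹ = w := by
        calc x * (w * c) * x⁻¹ = (x * w * x⁻¹) * (x * c * x⁻¹) := by group
          _ = w * c * c := by rw [hw', hc']
          _ = w := by rw [mul_assoc, hcc, mul_one]
      have h3 : x * (x * (x * w * x⁻¹) * x⁻¹) * x⁻¹ = w * c := by rw [hw', h2, hw']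
      have h4 : x * (x * (x * w * x⁻¹) * x⁻¹) * x⁻¹ = (x * x * x) * w * (x * x * x)⁻¹ := by
        group
      have hxxx : x * x * x = 1 := by rw [← hx3, pow_succ, pow_two]
      rw [h4, hxxx] at h3
      have h5 : c = 1 := by simpa using h3
      exact hc1 h5

theorem mem_zpowers_order_three {d a : G} (h3 : d ^ 3 = 1) (ha : a ∈ zpowers d) :
    a = 1 ∨ a = d ∨ a = d ^ 2 := by
  obtain ⟨k, rfl⟩ := mem_zpowers_iff.1 ha
  have h3' : d ^ (3 : ℤ) = 1 := by
    rw [← h3]
    exact zpow_ofNat d 3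
  have hk : d ^ k = d ^ (k % 3) := by
    have hk' : k = 3 * (k / 3) + k % 3 := by omega
    conv_lhs => rw [hk']
    rw [zpow_add, zpow_mul, h3', one_zpow, one_mul]
  have h0 : 0 ≤ k % 3 := Int.emod_nonneg k (by norm_num)
  have h1 : k % 3 < 3 := Int.emod_lt_of_pos k (by norm_num)
  have h012 : k % 3 = 0 ∨ k % 3 = 1 ∨ k % 3 = 2 := by omega
  rcases h012 with h | h | h
  · left
    rw [hk, h, zpow_zero]
  · right
    left
    rw [hk, h, zpow_one]
  · right
    right
    rw [hk, h]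
    exact zpow_ofNat d 2

theorem pow_three_of_mem_zpowers {d a : G} (h3 : d ^ 3 = 1) (ha : a ∈ zpowers d) : a ^ 3 = 1 := by
  rcases mem_zpowers_order_three h3 ha with rfl | rfl | rfl
  · exact one_pow 3
  · exact h3
  · rw [← pow_mul]
    show d ^ 6 = 1
    rw [show 6 = 3 * 2 from rfl, pow_mul, h3, one_pow]

theorem pow_two_pow_two {d : G} (h3 : d ^ 3 = 1) : (d ^ 2) ^ 2 = d := by
  rw [← pow_mul]
  show d ^ 4 = d
  rw [pow_succ, h3, one_mul]

/-- elements of order at most two in the centre of `Q` -/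
def omegaCenter (Q : Subgroup G) : Subgroup G where
  carrier := {z | z ∈ Q ∧ z ∈ centralizer (Q : Set G) ∧ z * z = 1}
  one_mem' := ⟨Q.one_mem, Subgroup.one_mem _, by simp⟩
  mul_mem' := by
    rintro a b ⟨haQ, haC, ha2⟩ ⟨hbQ, hbC, hb2⟩
    refine ⟨Q.mul_mem haQ hbQ, Subgroup.mul_mem _ haC hbC, ?_⟩
    have hab : a * b = b * a := (mem_centralizer_iff.1 hbC) a haQ
    calc a * b * (a * b) = a * (b * a) * b := by group
      _ = a * (a * b) * b := by rw [hab]
      _ = (a * a) * (b * b) := by group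
      _ = 1 := by rw [ha2, hb2, one_mul]
  inv_mem' := by
    rintro a ⟨haQ, haC, ha2⟩
    have h : a⁻¹ = a := inv_eq_of_mul_eq_one_left ha2
    rw [h]
    exact ⟨haQ, haC, ha2⟩

theorem omegaCenter_normal (Q : Subgroup G) [hQ : Q.Normal] : (omegaCenter Q).Normal := by
  constructor
  rintro z ⟨hzQ, hzC, hz2⟩ g
  refine ⟨hQ.conj_mem z hzQ g, ?_, ?_⟩
  · exact (inferInstance : (centralizer (Q : Set G)).Normal).conj_mem z hzC g
  · calc g * z * g⁻¹ * (g * z * g⁻¹) = g * (z * z) * g⁻¹ := by group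
      _ = 1 := by rw [hz2]; group

theorem omegaCenter_elem (Q : Subgroup G) : IsElementaryAbelian 2 (omegaCenter Q) := by
  constructor
  · apply IsMulCommutative.of_setLike_mul_comm
    rintro a ⟨haQ, haC, ha2⟩ b ⟨hbQ, hbC, hb2⟩
    exact mem_centralizer_iff.1 hbC a haQ
  · rintro a ⟨haQ, haC, ha2⟩
    rw [pow_two]
    exact ha2

theorem main_false [Finite G] (Q : Subgroup G) [hQn : Q.Normal] (hQ2 : IsPGroup 2 Q)
    (hchar : centralizer (Q : Set G) ≤ Q) (g : G) (hg : orderOf g = 6) (d : G) (hd1 : d ≠ 1)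
    (hd : IsPGroup 3 ↥(zpowers d)) (W : Subgroup G) (hW : IsElementaryAbelian 2 W)
    (hW1 : W ≠ ⊥) (hdW : d ∈ normalizer (W : Set G)) (hfpf : W ⊓ centralizer {d} = ⊥)
    (hno : ∀ E : Subgroup G, IsElementaryAbelian 2 E → Nat.card E ≠ 8) : False := by
  have hfpf' : ∀ w ∈ W, w * d = d * w → w = 1 := by
    intro w hw hwd
    have h : w ∈ W ⊓ centralizer {d} :=
      Subgroup.mem_inf.2 ⟨hw, mem_centralizer_singleton_iff.2 hwd⟩
    rw [hfpf, Subgroup.mem_bot] at h
    exact h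
  have hdW' : ∀ w ∈ W, d * w * d⁻¹ ∈ W := fun w hw => (mem_normalizer_iff.1 hdW w).1 hw
  have hW2 : IsPGroup 2 W := by
    intro x
    refine ⟨1, Subtype.ext ?_⟩
    have h := hW.2 x x.2
    simpa using h
  -- Step 1
  obtain ⟨w₀, hw₀W, hw₀1⟩ : ∃ w ∈ W, w ≠ 1 := by
    by_contra h
    push Not at h
    exact hW1 ((Subgroup.eq_bot_iff_forall W).2 h)
  have hconj_ne : ∀ w ∈ W, w ≠ 1 → d * w * d⁻¹ ≠ w := by
    intro w hw hw1 h
    exact hw1 (hfpf' w hw (mul_inv_eq_iff_eq_mul.1 h).symm)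
  have hconj_ne1 : ∀ y w : G, w ≠ 1 → y * w * y⁻¹ ≠ 1 := fun y w hw1 h =>
    hw1 (conj_eq_one_iff.1 h)
  have hW4 : Nat.card W = 4 := by
    have h3 : 3 ≤ Nat.card W := three_le_card W hw₀W (hdW' w₀ hw₀W) hw₀1
      (hconj_ne1 d w₀ hw₀1) (hconj_ne w₀ hw₀W hw₀1).symm
    have h4 := card_le_four hno W hW
    obtain ⟨k, hk⟩ := IsPGroup.iff_card.1 hW2
    have hk3 : k < 3 := by
      by_contra h
      push Not at h
      have h5 : 2 ^ 3 ≤ 2 ^ k := Nat.pow_le_pow_right (by norm_num) h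
      omega
    interval_cases k <;> omega
  -- Step 2
  have hQ1 : Q ≠ ⊥ := by
    intro h
    apply hd1
    have h1 : d ∈ centralizer (Q : Set G) := by
      rw [mem_centralizer_iff]
      intro q hq
      rw [h] at hq
      have h2 : q = 1 := Subgroup.mem_bot.1 hq
      rw [h2]
      simp
    have h2 := hchar h1
    rw [h] at h2
    exact Subgroup.mem_bot.1 h2
  -- Step 3
  obtain ⟨Z, hZdef⟩ : ∃ Z, Z = omegaCenter Q := ⟨_, rfl⟩
  have hZn : Z.Normal := by rw [hZdef]; exact omegaCenter_normal Q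
  have hZe : IsElementaryAbelian 2 Z := by rw [hZdef]; exact omegaCenter_elem Q
  have hZQ : Z ≤ Q := by rw [hZdef]; exact fun z hz => hz.1
  have hZC : Z ≤ centralizer (Q : Set G) := by rw [hZdef]; exact fun z hz => hz.2.1
  have hZ1 : Z ≠ ⊥ := by
    obtain ⟨b, hbQ, hb2, hbc⟩ := exists_fixed_of_order (p := 2) Q Q hQ2 hQ2 hQ1 le_normalizer
    intro h
    have hbZ : b ∈ Z := by
      rw [hZdef]
      refine ⟨hbQ, mem_centralizer_iff.2 hbc, ?_⟩
      rw [← pow_two, ← hb2]
      exact pow_orderOf_eq_one b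
    rw [h, Subgroup.mem_bot] at hbZ
    rw [hbZ, orderOf_one] at hb2
    omega
  have hZ2 : IsPGroup 2 Z := hQ2.to_le hZQ
  -- Step 4
  have hinvol : ∀ V : Subgroup G, IsElementaryAbelian 2 V → Nat.card V = 4 → ∀ u : G,
      u * u = 1 → (∀ v ∈ V, u * v = v * u) → u ∈ V := by
    intro V hV hV4 u hu2 huc
    by_contra huV
    obtain ⟨E, hE, hEc⟩ := exists_card_mul_two V hV u hu2 huV huc
    exact hno E hE (by rw [hEc, hV4])
  have hWZ : W ≤ Z := by
    haveI := hZn
    obtain ⟨b, hbZ, hb2, hbc⟩ := exists_fixed_of_order (p := 2) W Z hW2 hZ2 hZ1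
      (by rw [Subgroup.normalizer_eq_top]; exact le_top)
    have hb1 : b ≠ 1 := by
      intro h
      rw [h, orderOf_one] at hb2
      omega
    have hbb : b * b = 1 := by
      rw [← pow_two, ← hb2]
      exact pow_orderOf_eq_one b
    have hbW : b ∈ W := hinvol W hW hW4 b hbb (fun v hv => (hbc v hv).symm)
    have hb'W : d * b * d⁻¹ ∈ W := hdW' b hbW
    have hb'Z : d * b * d⁻¹ ∈ Z := hZn.conj_mem b hbZ d
    have h3 : 3 ≤ Nat.card ↥(W ⊓ Z) := three_le_card (W ⊓ Z) (Subgroup.mem_inf.2 ⟨hbW, hbZ⟩)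
      (Subgroup.mem_inf.2 ⟨hb'W, hb'Z⟩) hb1 (hconj_ne1 d b hb1) (hconj_ne b hbW hb1).symm
    have h4 : W ⊓ Z = W := eq_of_three_le inf_le_left hW4 h3
    rw [← h4]
    exact inf_le_right
  have hWZeq : W = Z :=
    Subgroup.eq_of_le_of_card_ge hWZ (by rw [hW4]; exact card_le_four hno Z hZe)
  have hWn : W.Normal := by rw [hWZeq]; exact hZn
  have hWC : W ≤ centralizer (Q : Set G) := hWZ.trans hZC
  have hinvW := hinvol W hW hW4
  -- Step 6
  have hfpfQ : ∀ e : G, (∀ w ∈ W, w * e = e * w → w = 1) → Q ⊓ centralizer {e} = ⊥ := by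
    intro e he
    by_contra hne
    have hFp : IsPGroup 2 ↥(Q ⊓ centralizer {e}) := hQ2.to_le inf_le_left
    haveI : Nontrivial ↥(Q ⊓ centralizer {e}) := (Subgroup.nontrivial_iff_ne_bot _).2 hne
    obtain ⟨n, hn0, hn⟩ := hFp.nontrivial_iff_card.1 inferInstance
    have h2 : 2 ∣ Nat.card ↥(Q ⊓ centralizer {e}) := by
      rw [hn]
      exact dvd_pow_self 2 hn0.ne'
    obtain ⟨u, hu⟩ := exists_prime_orderOf_dvd_card' 2 h2
    have huQ : (u : G) ∈ Q := (Subgroup.mem_inf.1 u.2).1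
    have hue : (u : G) * e = e * u := mem_centralizer_singleton_iff.1 (Subgroup.mem_inf.1 u.2).2
    have huo : orderOf (u : G) = 2 := by rw [Subgroup.orderOf_coe, hu]
    have huu : (u : G) * u = 1 := by
      rw [← pow_two, ← huo]
      exact pow_orderOf_eq_one _
    have huW : (u : G) ∈ W :=
      hinvW u huu (fun v hv => mem_centralizer_iff.1 (hWC hv) u huQ)
    have hu1 : (u : G) = 1 := he u huW hue
    rw [hu1, orderOf_one] at huo
    omega
  have hfpfQd : Q ⊓ centralizer {d} = ⊥ := hfpfQ d hfpf'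
  -- Step 7
  have hd3 : orderOf d = 3 := by
    obtain ⟨n, hn⟩ := IsPGroup.iff_card.1 hd
    rw [Nat.card_zpowers] at hn
    have hn1 : 1 ≤ n := by
      by_contra h
      have h0 : n = 0 := by omega
      rw [h0, pow_zero, orderOf_eq_one_iff] at hn
      exact hd1 hn
    apply Cfsg.Agent.S3738.result d n hn1 hn Q hQ2
      (by rw [Subgroup.normalizer_eq_top]; exact mem_top d) ?_ hfpfQd ?_
    · rw [eq_bot_iff]
      rintro z ⟨hzd, hzC⟩
      have hzQ : z ∈ Q := hchar hzC
      have hzd' : z * d = d * z := by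
        obtain ⟨k, rfl⟩ := mem_zpowers_iff.1 hzd
        exact ((Commute.refl d).zpow_left k).eq
      have h : z ∈ Q ⊓ centralizer {d} :=
        Subgroup.mem_inf.2 ⟨hzQ, mem_centralizer_singleton_iff.2 hzd'⟩
      rw [hfpfQd] at h
      exact h
    · intro V hVQ hVc A hA hexp
      have hE : IsElementaryAbelian 2 (A.map V.subtype) := by
        constructor
        · apply IsMulCommutative.of_setLike_mul_comm
          rintro _ ⟨a, ha, rfl⟩ _ ⟨b, hb, rfl⟩
          have h := setLike_mul_comm ha hb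
          rw [← map_mul, ← map_mul, h]
        · rintro _ ⟨a, ha, rfl⟩
          rw [← map_pow, hexp a ha, map_one]
      have h := card_le_four hno _ hE
      rw [Subgroup.card_map_of_injective V.subtype_injective] at h
      calc Nat.card A ≤ 4 := h
        _ = 2 ^ 2 := by norm_num
  have hd3' : d ^ 3 = 1 := by
    rw [← hd3]
    exact pow_orderOf_eq_one d
  -- Step 8
  obtain ⟨x, hx⟩ : ∃ x, x = g ^ 2 := ⟨_, rfl⟩
  obtain ⟨t, ht⟩ : ∃ t, t = g ^ 3 := ⟨_, rfl⟩
  have hg6 : g ^ 6 = 1 := by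
    rw [← hg]
    exact pow_orderOf_eq_one g
  have hx3 : x ^ 3 = 1 := by
    rw [hx, ← pow_mul]
    exact hg6
  have ht2 : t * t = 1 := by
    rw [ht, ← pow_add]
    exact hg6
  have hx1 : x ≠ 1 := by
    intro h
    rw [hx] at h
    have h2 := orderOf_dvd_of_pow_eq_one h
    rw [hg] at h2
    revert h2
    norm_num
  have ht1 : t ≠ 1 := by
    intro h
    rw [ht] at h
    have h2 := orderOf_dvd_of_pow_eq_one h
    rw [hg] at h2
    revert h2
    norm_num
  have hxt : Commute x t := by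
    rw [hx, ht]
    exact (Commute.refl g).pow_pow 2 3
  have hxnorm : ∀ w ∈ W, x * w * x⁻¹ ∈ W := fun w hw => hWn.conj_mem w hw x
  have hxW : ∀ w ∈ W, x * w = w * x := by
    haveI := hWn
    have ht2p : IsPGroup 2 ↥(zpowers t) := by
      apply IsPGroup.of_card (n := 1)
      rw [Nat.card_zpowers, pow_one]
      exact orderOf_eq_prime (by rw [pow_two]; exact ht2) ht1
    obtain ⟨b, hbW, hb2, hbc⟩ := exists_fixed_of_order (p := 2) (zpowers t) W ht2p hW2 hW1
      (by rw [Subgroup.normalizer_eq_top]; exact le_top)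
    have hb1 : b ≠ 1 := by
      intro h
      rw [h, orderOf_one] at hb2
      omega
    have htb : Commute t b := hbc t (mem_zpowers t)
    obtain ⟨c, hcW, hc1, hxc⟩ : ∃ c ∈ W, c ≠ 1 ∧ x * c = c * x := by
      by_cases hfix : x * b * x⁻¹ = b
      · exact ⟨b, hbW, hb1, mul_inv_eq_iff_eq_mul.1 hfix⟩
      · have hbF : b ∈ W ⊓ centralizer {t} :=
          Subgroup.mem_inf.2 ⟨hbW, mem_centralizer_singleton_iff.2 htb.symm.eq⟩
        have hb'F : x * b * x⁻¹ ∈ W ⊓ centralizer {t} := by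
          refine Subgroup.mem_inf.2 ⟨hxnorm b hbW, mem_centralizer_singleton_iff.2 ?_⟩
          exact ((hxt.mul_left htb.symm).mul_left hxt.inv_left).eq
        have h3 := three_le_card _ hbF hb'F hb1 (hconj_ne1 x b hb1) (Ne.symm hfix)
        have hFW : W ⊓ centralizer {t} = W := eq_of_three_le inf_le_left hW4 h3
        have htW : t ∈ W := hinvW t ht2 (fun v hv => by
          have h5 : v ∈ W ⊓ centralizer {t} := by rw [hFW]; exact hv
          exact (mem_centralizer_singleton_iff.1 (Subgroup.mem_inf.1 h5).2).symm)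
        exact ⟨t, htW, ht1, hxt.eq⟩
    exact centralizes_of_fix W hW hW4 x hxnorm hx3 c hcW hc1 hxc
  -- Step 9
  have hdC : d ∉ centralizer (W : Set G) := by
    intro h
    exact hw₀1 (hfpf' w₀ hw₀W (mem_centralizer_iff.1 h w₀ hw₀W))
  have hxC : x ∈ centralizer (W : Set G) := by
    rw [mem_centralizer_iff]
    intro w hw
    exact (hxW w hw).symm
  have hCn : (centralizer (W : Set G)).Normal := by
    haveI := hWn
    infer_instance
  -- Step 10
  obtain ⟨S, hdS⟩ := hd.exists_le_sylow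
  have hx3p : IsPGroup 3 ↥(zpowers x) := by
    apply IsPGroup.of_card (n := 1)
    rw [Nat.card_zpowers, pow_one]
    exact orderOf_eq_prime hx3 hx1
  obtain ⟨P', hxP'⟩ := hx3p.exists_le_sylow
  obtain ⟨h, hh⟩ := MulAction.exists_smul_eq G P' S
  have hx'S : h * x * h⁻¹ ∈ (S : Subgroup G) := by
    have h1 : MulAut.conj h • x ∈ MulAut.conj h • (P' : Subgroup G) :=
      Subgroup.smul_mem_pointwise_smul x (MulAut.conj h) (P' : Subgroup G)
        (hxP' (mem_zpowers x))
    rw [← Sylow.coe_subgroup_smul, hh] at h1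
    exact h1
  have hx'C : h * x * h⁻¹ ∈ centralizer (W : Set G) := hCn.conj_mem x hxC h
  have hN1 : (S : Subgroup G) ⊓ centralizer (W : Set G) ≠ ⊥ := by
    intro hbot
    have h1 : h * x * h⁻¹ ∈ (S : Subgroup G) ⊓ centralizer (W : Set G) :=
      Subgroup.mem_inf.2 ⟨hx'S, hx'C⟩
    rw [hbot, Subgroup.mem_bot] at h1
    exact hconj_ne1 h x hx1 h1
  have hNp : IsPGroup 3 ↥((S : Subgroup G) ⊓ centralizer (W : Set G)) := S.2.to_le inf_le_left
  have hSN : (S : Subgroup G) ≤
      normalizer (((S : Subgroup G) ⊓ centralizer (W : Set G) : Subgroup G) : Set G) := by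
    intro s hs
    rw [mem_normalizer_iff]
    intro n
    constructor
    · intro hn
      obtain ⟨hnS, hnC⟩ := Subgroup.mem_inf.1 hn
      exact Subgroup.mem_inf.2 ⟨mul_mem (mul_mem hs hnS) (inv_mem hs), hCn.conj_mem n hnC s⟩
    · intro hn
      obtain ⟨hnS, hnC⟩ := Subgroup.mem_inf.1 hn
      have e1 : n = s⁻¹ * (s * n * s⁻¹) * s⁻¹⁻¹ := by group
      rw [e1]
      exact Subgroup.mem_inf.2 ⟨mul_mem (mul_mem (inv_mem hs) hnS) (inv_mem (inv_mem hs)),
        hCn.conj_mem _ hnC s⁻¹⟩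
  obtain ⟨y, hyN, hy3, hyc⟩ :=
    exists_fixed_of_order (p := 3) (S : Subgroup G) _ S.2 hNp hN1 hSN
  have hyC : y ∈ centralizer (W : Set G) := (Subgroup.mem_inf.1 hyN).2
  have hdy : Commute d y := hyc d (hdS (mem_zpowers d))
  have hy1 : y ≠ 1 := by
    intro h
    rw [h, orderOf_one] at hy3
    omega
  have hy3' : y ^ 3 = 1 := by
    rw [← hy3]
    exact pow_orderOf_eq_one y
  -- Step 11
  have hc : ∀ a ∈ zpowers d, ∀ b ∈ zpowers y, a * b = b * a := by
    intro a ha b hb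
    obtain ⟨m, rfl⟩ := mem_zpowers_iff.1 ha
    obtain ⟨n, rfl⟩ := mem_zpowers_iff.1 hb
    exact (hdy.zpow_zpow m n).eq
  have hzyC : zpowers y ≤ centralizer (W : Set G) := zpowers_le.2 hyC
  have hAmem : ∀ a ∈ zpowers d ⊔ zpowers y, ∃ a₁ ∈ zpowers d, ∃ b₁ ∈ zpowers y, a = a₁ * b₁ :=
    fun a ha => (mem_sup_of_commute _ _ hc).1 ha
  have hzc : ∀ (e : G), ∀ a ∈ zpowers e, ∀ b ∈ zpowers e, Commute a b := by
    intro e a ha b hb
    obtain ⟨m, rfl⟩ := mem_zpowers_iff.1 ha
    obtain ⟨n, rfl⟩ := mem_zpowers_iff.1 hb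
    exact (Commute.refl e).zpow_zpow m n
  have hAcomm : ∀ a ∈ zpowers d ⊔ zpowers y, ∀ b ∈ zpowers d ⊔ zpowers y, a * b = b * a := by
    intro a ha b hb
    obtain ⟨a₁, ha₁, b₁, hb₁, rfl⟩ := hAmem a ha
    obtain ⟨a₂, ha₂, b₂, hb₂, rfl⟩ := hAmem b hb
    have c11 : Commute a₁ a₂ := hzc d a₁ ha₁ a₂ ha₂
    have c22 : Commute b₁ b₂ := hzc y b₁ hb₁ b₂ hb₂
    have c12 : Commute a₁ b₂ := hc a₁ ha₁ b₂ hb₂
    have c21 : Commute b₁ a₂ := (hc a₂ ha₂ b₁ hb₁).symm
    exact ((c11.mul_right c12).mul_left (c21.mul_right c22)).eq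
  have hAexp : ∀ a ∈ zpowers d ⊔ zpowers y, a ^ 3 = 1 := by
    intro a ha
    obtain ⟨a₁, ha₁, b₁, hb₁, rfl⟩ := hAmem a ha
    have c : Commute a₁ b₁ := hc a₁ ha₁ b₁ hb₁
    rw [c.mul_pow, pow_three_of_mem_zpowers hd3' ha₁, pow_three_of_mem_zpowers hy3' hb₁,
      one_mul]
  have hpK : ¬ 3 ∣ Nat.card Q := by
    obtain ⟨k, hk⟩ := IsPGroup.iff_card.1 hQ2
    rw [hk]
    intro h
    have h2 := Nat.Prime.dvd_of_dvd_pow Nat.prime_three h
    omega
  have hgen : Q ≤ genC (zpowers d ⊔ zpowers y) Q :=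
    le_genC_of_noncyclic (p := 3) hAcomm hAexp
      (by rw [Subgroup.normalizer_eq_top]; exact le_top) hpK
      (le_sup_left (a := zpowers d) (mem_zpowers d))
      (le_sup_right (b := zpowers y) (mem_zpowers y))
      (fun h => hdC (hzyC h)) hy1
  have hle : genC (zpowers d ⊔ zpowers y) Q ≤ Q ⊓ centralizer {y} := by
    unfold genC
    apply iSup_le
    rintro ⟨a, haA, ha1⟩
    show Q ⊓ centralizer {a} ≤ Q ⊓ centralizer {y}
    obtain ⟨a₁, ha₁, b₁, hb₁, rfl⟩ := hAmem a haA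
    have hb₁C := hzyC hb₁
    rcases mem_zpowers_order_three hd3' ha₁ with e1 | e1 | e1
    · rw [e1, one_mul] at ha1 ⊢
      rcases mem_zpowers_order_three hy3' hb₁ with e2 | e2 | e2
      · exact absurd e2 ha1
      · rw [e2]
      · rw [e2]
        intro q hq
        obtain ⟨hqQ, hqc⟩ := Subgroup.mem_inf.1 hq
        refine Subgroup.mem_inf.2 ⟨hqQ, mem_centralizer_singleton_iff.2 ?_⟩
        have h2 : Commute q (y ^ 2) := mem_centralizer_singleton_iff.1 hqc
        have h3 : Commute q ((y ^ 2) ^ 2) := h2.pow_right 2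
        rw [pow_two_pow_two hy3'] at h3
        exact h3.eq
    · rw [e1, hfpfQ (d * b₁) ?_]
      · exact bot_le
      · intro w hw hwa
        apply hfpf' w hw
        have hwb : Commute w b₁ := mem_centralizer_iff.1 hb₁C w hw
        have h1 : Commute w (d * b₁ * b₁⁻¹) :=
          (show Commute w (d * b₁) from hwa).mul_right hwb.inv_right
        rw [mul_inv_cancel_right] at h1
        exact h1.eq
    · rw [e1, hfpfQ (d ^ 2 * b₁) ?_]
      · exact bot_le
      · intro w hw hwa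
        apply hfpf' w hw
        have hwb : Commute w b₁ := mem_centralizer_iff.1 hb₁C w hw
        have h1 : Commute w (d ^ 2 * b₁ * b₁⁻¹) :=
          (show Commute w (d ^ 2 * b₁) from hwa).mul_right hwb.inv_right
        rw [mul_inv_cancel_right] at h1
        have h2 : Commute w ((d ^ 2) ^ 2) := h1.pow_right 2
        rw [pow_two_pow_two hd3'] at h2
        exact h2.eq
  have hQy : Q ≤ Q ⊓ centralizer {y} := hgen.trans hle
  have hyCQ : y ∈ centralizer (Q : Set G) := by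
    rw [mem_centralizer_iff]
    intro q hq
    exact mem_centralizer_singleton_iff.1 (Subgroup.mem_inf.1 (hQy hq)).2
  have hyQ : y ∈ Q := hchar hyCQ
  obtain ⟨k, hk⟩ := hQ2 ⟨y, hyQ⟩
  have hk' : y ^ 2 ^ k = 1 := by
    have h0 := congrArg Subtype.val hk
    simpa using h0
  have h3dvd : 3 ∣ 2 ^ k := by
    rw [← hy3]
    exact orderOf_dvd_of_pow_eq_one hk'
  have h32 := Nat.Prime.dvd_of_dvd_pow Nat.prime_three h3dvd
  omega

/-- Let G be a finite group with C_G(O₂(G)) ≤ O₂(G) containing an element of order 6, and let d be a non-identity 3-element of G normalizing a nontrivial elementary abelian 2-subgroup W with C_W(d) = 1. Then G has an elementary abelian subgroup of order 8. -/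
theorem result {G : Type*} [Group G] [Finite G] (hchar : Subgroup.centralizer (Cfsg.pCore 2 G : Set G) ≤ Cfsg.pCore 2 G) (hsix : ∃ g : G, orderOf g = 6) (d : G) (hd1 : d ≠ 1) (hd : IsPGroup 3 ↥(Subgroup.zpowers d)) (W : Subgroup G) (hW : Cfsg.IsElementaryAbelian 2 W) (hW1 : W ≠ ⊥) (hdW : d ∈ Subgroup.normalizer (W : Set G)) (hfpf : W ⊓ Subgroup.centralizer {d} = ⊥) : ∃ E : Subgroup G, Cfsg.IsElementaryAbelian 2 E ∧ Nat.card E = 8 := by
  by_contra hcon
  obtain ⟨g, hg⟩ := hsix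
  haveI : (pCore 2 G).Normal := Cfsg.Agent.Lib.Helper1.pCore_normal 2
  exact main_false (pCore 2 G) (pCore_isPGroup 2) hchar g hg d hd1 hd W hW hW1 hdW hfpf
    (fun E hE h8 => hcon ⟨E, hE, h8⟩)

end Cfsg.Agent.S3739
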