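import Mathlib
import Cfsg.Statements.S3740
import Cfsg.Agent.H5.SL2Q8

set_option autoImplicit false
open Cfsg

namespace Cfsg.Agent.S3740

/-- Let F be a finite field of odd characteristic p and let a be a p-element of SL₂(F) normalizing a subgroup R of order prime to p with [R, a] ≠ 1. Then p = 3, R is a quaternion group of order 8, and R⟨a⟩ is isomorphic to SL₂(3). -/
theorem result (F : Type) [Field F] [Fintype F] {p : ℕ} [Fact p.Prime] [CharP F p] (hp : p ≠ 2) (a : Matrix.SpecialLinearGroup (Fin 2) F) (ha : IsPGroup p ↥(Subgroup.zpowers a)) (R : Subgroup (Matrix.SpecialLinearGroup (Fin 2) F)) (hR : (Nat.card R).Coprime p) (haR : a ∈ Subgroup.normalizer (R : Set (Matrix.SpecialLinearGroup (Fin 2) F))) (hnt : ⁅R, Subgroup.zpowers a⁆ ≠ ⊥) : p = 3 ∧ Nonempty (↥R ≃* QuaternionGroup 2) ∧ Nonempty (↥(R ⊔ Subgroup.zpowers a) ≃* Matrix.SpecialLinearGroup (Fin 2) (ZMod 3)) := by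
  obtain ⟨j, hj⟩ := ha ⟨a, Subgroup.mem_zpowers a⟩
  have haj : a ^ (p ^ j) = 1 := by
    have := congrArg Subtype.val hj
    rwa [Subgroup.coe_pow] at this
  have hna : ∃ x ∈ R, a * x ≠ x * a := by
    by_contra hcon
    push Not at hcon
    apply hnt
    rw [Subgroup.commutator_eq_bot_iff_le_centralizer]
    intro x hx
    rw [Subgroup.mem_centralizer_iff]
    intro z hz
    rw [SetLike.mem_coe, Subgroup.mem_zpowers_iff] at hz
    obtain ⟨k, rfl⟩ := hz
    have hc : Commute a x := hcon x hx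
    exact (hc.zpow_left k).eq
  exact ⟨Cfsg.H5.SL2.p_eq_three hp R hR a j haj haR hna,
    Cfsg.H5.SL2.quaternion_of_coprime hp R hR a j haj haR hna,
    Cfsg.H5.SL2.sl23_of_coprime hp R hR a j haj haR hna⟩

end Cfsg.Agent.S3740
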