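import Cfsg.Statements.S3741
import Mathlib

set_option autoImplicit false
open Cfsg

namespace Cfsg.Agent.S3741


/-- centraliser counting in a `p`-group -/
lemma key_count {G : Type*} [Group G] [Finite G] {p : ℕ} [hp : Fact p.Prime] (hG : IsPGroup p G)
    (A B : Subgroup G) (hcard : Nat.card ↥⁅A, B⁆ ≤ p) (a : G) (ha : a ∈ A) :
    (a ∈ Subgroup.centralizer (B : Set G) → Nat.card {b : B // (b : G) * a = a * b} = Nat.card B) ∧
    (a ∉ Subgroup.centralizer (B : Set G) → p * Nat.card {b : B // (b : G) * a = a * b} = Nat.card B) := by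
  classical
  letI act : MulAction B G := MulAction.compHom G ((MulAut.conj : G →* MulAut G).comp B.subtype)
  have hsmul : ∀ (b : B) (x : G), b • x = (b : G) * x * (b : G)⁻¹ := fun b x => rfl
  -- the stabilizer
  have hstab : Nat.card {b : B // (b : G) * a = a * b} = Nat.card (MulAction.stabilizer B a) := by
    apply Nat.card_congr
    apply Equiv.subtypeEquivRight
    intro b
    rw [MulAction.mem_stabilizer_iff, hsmul]
    constructor
    · intro h; rw [h]; group
    · intro h
      calc (b : G) * a = ((b : G) * a * (b : G)⁻¹) * b := by group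
        _ = a * b := by rw [h]
  have hos : Nat.card (MulAction.stabilizer B a) * (MulAction.orbit B a).ncard = Nat.card B := by
    rw [← MulAction.index_stabilizer]
    exact Subgroup.card_mul_index _
  -- orbit size bounded by p
  have horb_le : (MulAction.orbit B a).ncard ≤ p := by
    refine le_trans ?_ hcard
    rw [← Nat.card_coe_set_eq, ]
    have : Nat.card ↥⁅A, B⁆ = Nat.card ((⁅A, B⁆ : Subgroup G) : Set G) := rfl
    rw [this, Nat.card_coe_set_eq, Nat.card_coe_set_eq]
    apply Set.ncard_le_ncard_of_injOn (fun x => x * a⁻¹)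
    · rintro _ ⟨b, rfl⟩
      show b • a * a⁻¹ ∈ ⁅A, B⁆
      rw [hsmul, Subgroup.commutator_comm]
      exact Subgroup.commutator_mem_commutator b.2 ha
    · intro x _ y _ h
      exact mul_right_cancel h
  have hBp : ∃ n, Nat.card B = p ^ n := IsPGroup.iff_card.mp (hG.to_subgroup B)
  obtain ⟨n, hn⟩ := hBp
  have hdvd : (MulAction.orbit B a).ncard ∣ p ^ n := by
    rw [← hn, ← hos]; exact Dvd.intro_left _ rfl
  obtain ⟨j, hj, hj'⟩ := (Nat.dvd_prime_pow hp.out).mp hdvd
  have hj1 : j ≤ 1 := by
    by_contra hcon
    have h2 : 2 ≤ j := by omega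
    have : p ^ 2 ≤ p ^ j := Nat.pow_le_pow_right hp.out.pos h2
    have hp2 := hp.out.two_le
    rw [hj'] at horb_le
    nlinarith
  have hcent : a ∈ Subgroup.centralizer (B : Set G) ↔ (MulAction.orbit B a).ncard = 1 := by
    rw [Set.ncard_eq_one]
    constructor
    · intro h
      refine ⟨a, ?_⟩
      ext x
      simp only [Set.mem_singleton_iff]
      constructor
      · rintro ⟨b, rfl⟩
        show b • a = a
        rw [hsmul]
        rw [Subgroup.mem_centralizer_iff] at h
        rw [h b b.2]; group
      · intro hxa; rw [hxa]; exact MulAction.mem_orbit_self a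
    · rintro ⟨x, hx⟩
      have hax : a = x := by
        have : a ∈ MulAction.orbit B a := MulAction.mem_orbit_self a
        rw [hx] at this; exact this
      rw [Subgroup.mem_centralizer_iff]
      intro b hb
      have : (⟨b, hb⟩ : B) • a ∈ MulAction.orbit B a := MulAction.mem_orbit a _
      rw [hx, Set.mem_singleton_iff, ← hax, hsmul] at this
      calc b * a = (b * a * b⁻¹) * b := by group
        _ = a * b := by rw [this]
  constructor
  · intro h
    rw [hstab, ← hos, hcent.mp h, mul_one]
  · intro h
    have hne : (MulAction.orbit B a).ncard ≠ 1 := fun h' => h (hcent.mpr h')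
    have hj1' : j = 1 := by
      rcases Nat.lt_or_ge j 1 with h0 | h0
      · exfalso; apply hne; rw [hj']; have : j = 0 := by omega
        rw [this, pow_zero]
      · omega
    rw [hj1', pow_one] at hj'
    rw [hstab, ← hos, hj', mul_comm]

lemma sum_side {G : Type*} [Group G] [Finite G] {p : ℕ} [hp : Fact p.Prime] (hG : IsPGroup p G)
    (A B : Subgroup G) (hcard : Nat.card ↥⁅A, B⁆ ≤ p) [Fintype A] :
    ∃ x x' : ℕ, x * (A ⊓ Subgroup.centralizer (B : Set G)).relIndex A = Nat.card A ∧ x + x' = Nat.card A ∧
      p * ∑ a : A, Nat.card {b : B // (b : G) * a = a * b} = x * (p * Nat.card B) + x' * Nat.card B := by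
  classical
  refine ⟨(Finset.univ.filter (fun a : A => (a : G) ∈ Subgroup.centralizer (B : Set G))).card,
    (Finset.univ.filter (fun a : A => ¬ (a : G) ∈ Subgroup.centralizer (B : Set G))).card, ?_, ?_, ?_⟩
  · have h1 : (Finset.univ.filter (fun a : A => (a : G) ∈ Subgroup.centralizer (B : Set G))).card =
        Nat.card ((A ⊓ Subgroup.centralizer (B : Set G)).subgroupOf A) := by
      rw [Nat.card_eq_fintype_card, ← Fintype.card_subtype]
      apply Fintype.card_congr
      apply Equiv.subtypeEquivRight
      intro a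
      rw [Subgroup.mem_subgroupOf, Subgroup.mem_inf]
      exact ⟨fun h => ⟨a.2, h⟩, fun h => h.2⟩
    rw [h1]
    exact Subgroup.card_mul_index _
  · rw [Finset.card_filter_add_card_filter_not, Finset.card_univ, Nat.card_eq_fintype_card]
  · rw [Finset.mul_sum]
    have h2 : ∀ a : A, p * Nat.card {b : B // (b : G) * a = a * b} =
        if (a : G) ∈ Subgroup.centralizer (B : Set G) then p * Nat.card B else Nat.card B := by
      intro a
      obtain ⟨k1, k2⟩ := key_count hG A B hcard (a : G) a.2
      split_ifs with h
      · rw [k1 h]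
      · exact k2 h
    rw [Finset.sum_congr rfl (fun a _ => h2 a), Finset.sum_ite, Finset.sum_const, Finset.sum_const]
    simp only [smul_eq_mul]

theorem result {G : Type*} [Group G] [Finite G] {p : ℕ} [Fact p.Prime] (hG : IsPGroup p G) (A B : Subgroup G) (hAB : ⁅A, B⁆ ≤ A ⊓ B) (hcard : Nat.card ↥⁅A, B⁆ ≤ p) : (A ⊓ Subgroup.centralizer (B : Set G)).relIndex A = (B ⊓ Subgroup.centralizer (A : Set G)).relIndex B := by
  classical
  letI : Fintype A := Fintype.ofFinite A
  letI : Fintype B := Fintype.ofFinite B
  obtain ⟨x, x', hx1, hx2, hx3⟩ := sum_side hG A B hcard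
  have hcard' : Nat.card ↥⁅B, A⁆ ≤ p := by rwa [Subgroup.commutator_comm]
  obtain ⟨y, y', hy1, hy2, hy3⟩ := sum_side hG B A hcard'
  have hdc : ∑ a : A, Nat.card {b : B // (b : G) * a = a * b} =
      ∑ b : B, Nat.card {a : A // (a : G) * b = b * a} := by
    have h1 : ∀ a : A, Nat.card {b : B // (b : G) * a = a * b} =
        ((Finset.univ : Finset B).bipartiteAbove (fun (a : A) (b : B) => (b : G) * a = a * b) a).card := by
      intro a
      rw [Nat.card_eq_fintype_card, Fintype.card_subtype]
      rfl
    have h2 : ∀ b : B, Nat.card {a : A // (a : G) * b = b * a} =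
        ((Finset.univ : Finset A).bipartiteBelow (fun (a : A) (b : B) => (b : G) * a = a * b) b).card := by
      intro b
      rw [Nat.card_eq_fintype_card, Fintype.card_subtype]
      unfold Finset.bipartiteBelow
      congr 1
      ext a
      simp only [Finset.mem_filter, Finset.mem_univ, true_and]
      exact eq_comm
    rw [Finset.sum_congr rfl (fun a _ => h1 a), Finset.sum_congr rfl (fun b _ => h2 b)]
    exact Finset.sum_card_bipartiteAbove_eq_sum_card_bipartiteBelow _
  rw [hdc, hy3] at hx3
  set α := Nat.card A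
  set β := Nat.card B
  set rA := (A ⊓ Subgroup.centralizer (B : Set G)).relIndex A
  set rB := (B ⊓ Subgroup.centralizer (A : Set G)).relIndex B
  have hp2 : 2 ≤ p := (Fact.out : p.Prime).two_le
  obtain ⟨q, rfl⟩ : ∃ q, p = q + 1 := ⟨p - 1, by omega⟩
  have hq : 0 < q := by omega
  -- x β = y α
  have hkey : x * β = y * α := by
    have e1 : q * (x * y') = q * (x' * y) := by
      have hα : α = x + x' := hx2.symm
      have hβ : β = y + y' := hy2.symm
      rw [hα, hβ] at hx3
      nlinarith
    have e2 : x * y' = x' * y := Nat.eq_of_mul_eq_mul_left hq e1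
    rw [← hx2, ← hy2]
    nlinarith
  have hαpos : 0 < α := Nat.card_pos
  have hβpos : 0 < β := Nat.card_pos
  have hxpos : 0 < x := by
    rcases Nat.eq_zero_or_pos x with h | h
    · rw [h, zero_mul] at hx1; omega
    · exact h
  have hypos : 0 < y := by
    rcases Nat.eq_zero_or_pos y with h | h
    · rw [h, zero_mul] at hy1; omega
    · exact h
  have : (x * y) * rA = (x * y) * rB := by
    calc (x * y) * rA = y * (x * rA) := by ring
      _ = y * α := by rw [hx1]
      _ = x * β := hkey.symm
      _ = x * (y * rB) := by rw [hy1]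
      _ = (x * y) * rB := by ring
  exact Nat.eq_of_mul_eq_mul_left (Nat.mul_pos hxpos hypos) this

end Cfsg.Agent.S3741
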