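import Cfsg.Statements.S3743
import Mathlib
import Cfsg.Agent.Lib.Helper1.Cores

set_option autoImplicit false
open Cfsg

namespace Cfsg.Agent.S3743

open Cfsg.Agent.Lib.Helper1

/-- the image in `G` of a characteristic subgroup of `↥H` is normalized by the normalizer of `H` -/
lemma normalizer_le_normalizer_map_char {G : Type*} [Group G] (H : Subgroup G) (R : Subgroup H)
    (hR : R.Characteristic) :
    Subgroup.normalizer (H : Set G) ≤ Subgroup.normalizer ((R.map H.subtype : Subgroup G) : Set G) := by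
  intro k hk
  -- it suffices to show conjugation by k and by k⁻¹ maps R' into R'
  have key : ∀ k' ∈ Subgroup.normalizer (H : Set G), ∀ x ∈ R.map H.subtype, k' * x * k'⁻¹ ∈ R.map H.subtype := by
    intro k' hk' x hx
    obtain ⟨y, hy, rfl⟩ := hx
    let φ : MulAut H := H.normalizerMonoidHom ⟨k', hk'⟩
    have h1 : R.map φ.toMonoidHom = R := Subgroup.characteristic_iff_map_eq.mp hR φ
    have h2 : φ y ∈ R := by
      rw [← h1]; exact Subgroup.mem_map_of_mem _ hy
    exact ⟨φ y, h2, rfl⟩
  rw [Subgroup.mem_normalizer_iff]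
  intro x
  constructor
  · exact key k hk x
  · intro hx
    have := key k⁻¹ (Subgroup.inv_mem _ hk) _ hx
    simpa [mul_assoc] using this

/-- generic induction step -/
lemma step_lemma {G : Type*} [Group G] (Pr : Subgroup G → Prop) (T : Subgroup G)
    (H K : Subgroup G) (hHK : H ≤ K) (hn : K ≤ Subgroup.normalizer (H : Set G))
    (R : Subgroup H) (hRchar : R.Characteristic) (hRP : Pr (R.map H.subtype))
    (hRmax : ∀ N : Subgroup G, N ≤ H → H ≤ Subgroup.normalizer (N : Set G) → Pr N → N ≤ R.map H.subtype)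
    (hK : ∀ N : Subgroup G, N ≤ K → K ≤ Subgroup.normalizer (N : Set G) → Pr N → N ≤ T) :
    ∀ N : Subgroup G, N ≤ H → H ≤ Subgroup.normalizer (N : Set G) → Pr N → N ≤ T := by
  intro N hNH hHN hN
  refine (hRmax N hNH hHN hN).trans ?_
  apply hK _ _ _ hRP
  · exact (Subgroup.map_subtype_le R).trans hHK
  · exact hn.trans (normalizer_le_normalizer_map_char H R hRchar)

lemma subnormal_induction {G : Type*} [Group G] (Pr : Subgroup G → Prop) (T : Subgroup G)
    (htop : ∀ N : Subgroup G, N.Normal → Pr N → N ≤ T)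
    (hrad : ∀ H : Subgroup G, ∃ R : Subgroup H, R.Characteristic ∧ Pr (R.map H.subtype) ∧
      ∀ N : Subgroup G, N ≤ H → H ≤ Subgroup.normalizer (N : Set G) → Pr N → N ≤ R.map H.subtype)
    (K : Subgroup G) (hK : K.IsSubnormal) :
    ∀ N : Subgroup G, N ≤ K → K ≤ Subgroup.normalizer (N : Set G) → Pr N → N ≤ T := by
  induction hK with
  | top =>
    intro N _ hN hP
    exact htop N (Subgroup.normalizer_eq_top_iff.mp (top_le_iff.mp hN)) hP
  | step H K hHK _ hnorm ih =>
    obtain ⟨R, hR1, hR2, hR3⟩ := hrad H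
    have hn : K ≤ Subgroup.normalizer (H : Set G) :=
      (Subgroup.normal_subgroupOf_iff_le_normalizer hHK).mp hnorm
    exact step_lemma Pr T H K hHK hn R hR1 hR2 hR3 ih

/-- the `π`-core is a `π`-group (finite case) -/
lemma piCore_pi {G : Type*} [Group G] [Finite G] (π : Set ℕ) :
    ∀ p : ℕ, p.Prime → p ∣ Nat.card (Cfsg.piCore π G) → p ∈ π := by
  have := sSup_induction_of_finite (G := G)
    (fun H => H.Normal ∧ ∀ p : ℕ, p.Prime → p ∣ Nat.card H → p ∈ π)
    ⟨inferInstance, by
      intro p hp hdvd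
      rw [Subgroup.card_bot] at hdvd
      exact absurd (Nat.dvd_one.mp hdvd) hp.one_lt.ne'⟩ ?_
    {N : Subgroup G | N.Normal ∧ ∀ p : ℕ, p.Prime → p ∣ Nat.card N → p ∈ π} (fun _ h => h)
  · exact this.2
  · rintro H K ⟨hH1, hH2⟩ ⟨hK1, hK2⟩
    refine ⟨inferInstance, ?_⟩
    intro p hp hdvd
    have h1 : p ∣ Nat.card H * Nat.card K := hdvd.trans (card_sup_dvd_of_normal H K)
    rcases (Nat.Prime.dvd_mul hp).mp h1 with h | h
    · exact hH2 p hp h
    · exact hK2 p hp h

lemma piCore_characteristic {G : Type*} [Group G] (π : Set ℕ) : (Cfsg.piCore π G).Characteristic := by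
  apply sSup_characteristic_of_stable
  rintro φ N ⟨hN1, hN2⟩
  refine ⟨Subgroup.Normal.map hN1 _ φ.surjective, ?_⟩
  intro p hp hdvd
  apply hN2 p hp
  rwa [Subgroup.card_map_of_injective φ.injective] at hdvd

theorem result {G : Type*} [Group G] [Finite G] (A : Subgroup G) (hA : A.IsSubnormal) : (Group.IsNilpotent A → A ≤ Cfsg.fittingSubgroup G) ∧ ∀ π : Set ℕ, (∀ p : ℕ, p.Prime → p ∣ Nat.card A → p ∈ π) → A ≤ Cfsg.piCore π G := by
  constructor
  · intro hnil
    refine subnormal_induction (fun N : Subgroup G => Group.IsNilpotent N) (Cfsg.fittingSubgroup G)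
      (fun N hN hP => le_fittingSubgroup hN hP) ?_ A hA A le_rfl Subgroup.le_normalizer hnil
    intro H
    refine ⟨Cfsg.fittingSubgroup H, fittingSubgroup_characteristic, ?_, ?_⟩
    · have : Group.IsNilpotent (Cfsg.fittingSubgroup H) := fittingSubgroup_isNilpotent
      exact Group.nilpotent_of_mulEquiv
        ((Cfsg.fittingSubgroup H).equivMapOfInjective H.subtype H.subtype_injective)
    · intro N hNH hHN hN
      have h1 : (N.subgroupOf H).Normal := (Subgroup.normal_subgroupOf_iff_le_normalizer hNH).mpr hHN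
      have h2 : Group.IsNilpotent (N.subgroupOf H) := by
        haveI := hN
        exact Group.nilpotent_of_mulEquiv (Subgroup.subgroupOfEquivOfLe hNH).symm
      have h3 : N.subgroupOf H ≤ Cfsg.fittingSubgroup H := le_fittingSubgroup h1 h2
      have h4 := Subgroup.map_mono (f := H.subtype) h3
      rwa [Subgroup.map_subgroupOf_eq_of_le hNH] at h4
  · intro π hπ
    refine subnormal_induction (fun N : Subgroup G => ∀ p : ℕ, p.Prime → p ∣ Nat.card N → p ∈ π)
      (Cfsg.piCore π G) (fun N hN hP => le_sSup ⟨hN, hP⟩) ?_ A hA A le_rfl Subgroup.le_normalizer hπ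
    intro H
    refine ⟨Cfsg.piCore π H, piCore_characteristic π, ?_, ?_⟩
    · intro p hp hdvd
      rw [Subgroup.card_map_of_injective H.subtype_injective] at hdvd
      exact piCore_pi π p hp hdvd
    · intro N hNH hHN hN
      have h1 : (N.subgroupOf H).Normal := (Subgroup.normal_subgroupOf_iff_le_normalizer hNH).mpr hHN
      have h2 : ∀ p : ℕ, p.Prime → p ∣ Nat.card (N.subgroupOf H) → p ∈ π := by
        intro p hp hdvd
        rw [Nat.card_congr (Subgroup.subgroupOfEquivOfLe hNH).toEquiv] at hdvd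
        exact hN p hp hdvd
      have h3 : N.subgroupOf H ≤ Cfsg.piCore π H := le_sSup ⟨h1, h2⟩
      have h4 := Subgroup.map_mono (f := H.subtype) h3
      rwa [Subgroup.map_subgroupOf_eq_of_le hNH] at h4

end Cfsg.Agent.S3743
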