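import Cfsg.Statements.S3744
import Mathlib
import Cfsg.Agent.Lib.Helper1.CoprimeSylow

set_option autoImplicit false
open Cfsg

namespace Cfsg.Agent.S3744

open Cfsg.Agent.Lib.Helper1
open scoped Pointwise

universe u

/-- `H` is a `p`-complement -/
def IsPC {G : Type*} [Group G] (p : ℕ) (H : Subgroup G) : Prop :=
  (Nat.card H).Coprime p ∧ ∃ n : ℕ, H.index = p ^ n

/-- the conclusion: `p`-complements exist and dominate `p'`-subgroups -/
def Good (p : ℕ) (G : Type*) [Group G] : Prop :=
  (∃ H : Subgroup G, IsPC p H) ∧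
  ∀ H U : Subgroup G, IsPC p H → (Nat.card U).Coprime p → ∃ g : G, MulAut.conj g • U ≤ H

section arith

lemma eq_one_of_dvd_pow_of_coprime {p a n : ℕ} (hp : p.Prime) (h1 : a ∣ p ^ n) (h2 : a.Coprime p) :
    a = 1 := by
  obtain ⟨k, -, rfl⟩ := (Nat.dvd_prime_pow hp).mp h1
  rcases Nat.eq_zero_or_pos k with rfl | hk
  · simp
  · exfalso
    have : p ∣ p ^ k := dvd_pow_self p hk.ne'
    have h3 : p ∣ Nat.gcd (p ^ k) p := Nat.dvd_gcd this dvd_rfl
    rw [h2] at h3
    exact hp.one_lt.ne' (Nat.dvd_one.mp h3)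

lemma coprime_pow_of_coprime {p a k : ℕ} (h : a.Coprime p) : a.Coprime (p ^ k) :=
  Nat.Coprime.pow_right k h

end arith

section steps

variable {G : Type u} [Group G] [Finite G] {p : ℕ} [hp : Fact p.Prime]

/-- `N ≤ H` for a normal `p'`-subgroup `N` and a `p`-complement `H` -/
lemma le_of_isPC_of_coprime {N H : Subgroup G} [N.Normal] (hN : (Nat.card N).Coprime p)
    (hH : IsPC p H) : N ≤ H := by
  obtain ⟨hHc, n, hn⟩ := hH
  have h1 : Nat.card (H ⊔ N : Subgroup G) ∣ Nat.card H * Nat.card N := card_sup_dvd_of_normal H N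
  have h2 : (Nat.card (H ⊔ N : Subgroup G)).Coprime p :=
    Nat.Coprime.coprime_dvd_left h1 (Nat.Coprime.mul_left hHc hN)
  have h3 : (H.relIndex (H ⊔ N)).Coprime p :=
    Nat.Coprime.coprime_dvd_left (Subgroup.relIndex_dvd_card H (H ⊔ N)) h2
  have h4 : H.relIndex (H ⊔ N) ∣ p ^ n := by
    rw [← hn, ← Subgroup.relIndex_mul_index (le_sup_left : H ≤ H ⊔ N)]
    exact dvd_mul_right _ _
  have h5 := eq_one_of_dvd_pow_of_coprime hp.out h4 h3
  rw [Subgroup.relIndex_eq_one] at h5
  exact le_sup_right.trans h5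

/-- step: normal `p'`-subgroup -/
lemma good_of_quotient_coprime (N : Subgroup G) [N.Normal] (hN : (Nat.card N).Coprime p)
    (hQ : Good p (G ⧸ N)) : Good p G := by
  have hπ : Function.Surjective (QuotientGroup.mk' N) := QuotientGroup.mk'_surjective N
  constructor
  · obtain ⟨Hb, hc, n, hn⟩ := hQ.1
    refine ⟨Hb.comap (QuotientGroup.mk' N), ?_, n, ?_⟩
    · rw [card_comap_mk]
      exact Nat.Coprime.mul_left hc hN
    · rw [Subgroup.index_comap_of_surjective Hb hπ, hn]
  · intro H U hH hU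
    have hNH : N ≤ H := le_of_isPC_of_coprime hN hH
    have hker : (QuotientGroup.mk' N).ker ≤ H := by rw [QuotientGroup.ker_mk']; exact hNH
    have hHb : IsPC p (H.map (QuotientGroup.mk' N)) := by
      refine ⟨Nat.Coprime.coprime_dvd_left (Subgroup.card_map_dvd H _) hH.1, ?_⟩
      obtain ⟨n, hn⟩ := hH.2
      exact ⟨n, by rw [Subgroup.index_map_eq H hπ hker, hn]⟩
    have hUb : (Nat.card (U.map (QuotientGroup.mk' N))).Coprime p :=
      Nat.Coprime.coprime_dvd_left (Subgroup.card_map_dvd U _) hU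
    obtain ⟨gb, hgb⟩ := hQ.2 _ _ hHb hUb
    obtain ⟨g, rfl⟩ := hπ gb
    refine ⟨g, ?_⟩
    rw [← map_conj_smul, Subgroup.map_le_map_iff, sup_of_le_left hker] at hgb
    exact hgb

/-- step: normal `p`-subgroup -/
lemma good_of_quotient_pgroup (N : Subgroup G) [N.Normal] (hN : IsPGroup p N)
    (hQ : Good p (G ⧸ N)) : Good p G := by
  have hπ : Function.Surjective (QuotientGroup.mk' N) := QuotientGroup.mk'_surjective N
  obtain ⟨k, hk⟩ := IsPGroup.iff_card.mp hN
  constructor
  · obtain ⟨Hb, hc, n, hn⟩ := hQ.1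
    set L := Hb.comap (QuotientGroup.mk' N) with hL
    have hNL : N ≤ L := by
      intro x hx
      rw [hL, Subgroup.mem_comap]
      have : (QuotientGroup.mk' N) x = 1 := (QuotientGroup.eq_one_iff x).mpr hx
      rw [this]; exact Hb.one_mem
    have hLcard : Nat.card L = Nat.card Hb * Nat.card N := card_comap_mk N Hb
    have hLidx : L.index = p ^ n := by rw [hL, Subgroup.index_comap_of_surjective Hb hπ, hn]
    have hN'card : Nat.card (N.subgroupOf L) = Nat.card N :=
      Nat.card_congr (Subgroup.subgroupOfEquivOfLe hNL).toEquiv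
    have hN'idx : (N.subgroupOf L).index = Nat.card Hb := by
      have h1 : Nat.card (N.subgroupOf L) * (N.subgroupOf L).index = Nat.card L :=
        Subgroup.card_mul_index _
      rw [hN'card, hLcard, mul_comm] at h1
      exact Nat.eq_of_mul_eq_mul_right Nat.card_pos h1
    have hcop : (Nat.card (N.subgroupOf L)).Coprime (N.subgroupOf L).index := by
      rw [hN'card, hN'idx, hk]
      exact (Nat.Coprime.pow_right k hc).symm
    obtain ⟨H', hH'⟩ := Subgroup.exists_right_complement'_of_coprime hcop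
    have hH'card : Nat.card H' = Nat.card Hb := by
      rw [← hN'idx]; exact hH'.symm.index_eq_card.symm
    refine ⟨H'.map L.subtype, ?_, k + n, ?_⟩
    · rw [← Nat.card_congr (H'.equivMapOfInjective _ L.subtype_injective).toEquiv, hH'card]
      exact hc
    · have h1 : Nat.card (H'.map L.subtype) = Nat.card Hb := by
        rw [← Nat.card_congr (H'.equivMapOfInjective _ L.subtype_injective).toEquiv, hH'card]
      have h2 : Nat.card (H'.map L.subtype) * (H'.map L.subtype).index = Nat.card G :=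
        Subgroup.card_mul_index _
      have h3 : Nat.card L * L.index = Nat.card G := Subgroup.card_mul_index _
      rw [h1, ← h3, hLcard, hLidx, hk, mul_assoc] at h2
      rw [Nat.eq_of_mul_eq_mul_left Nat.card_pos h2, pow_add]
  · intro H U hH hU
    obtain ⟨hHc, n, hn⟩ := hH
    have hHN : H ⊓ N = ⊥ := by
      have := Subgroup.disjoint_of_coprime_natCard (H := H) (K := N) (by rw [hk]; exact Nat.Coprime.pow_right k hHc)
      exact disjoint_iff.mp this
    have hHb : IsPC p (H.map (QuotientGroup.mk' N)) := by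
      refine ⟨Nat.Coprime.coprime_dvd_left (Subgroup.card_map_dvd H _) hHc, ?_⟩
      have h1 : (H.map (QuotientGroup.mk' N)).index ∣ p ^ n := by
        rw [← hn]; exact Subgroup.index_map_dvd H hπ
      obtain ⟨j, -, hj⟩ := (Nat.dvd_prime_pow hp.out).mp h1
      exact ⟨j, hj⟩
    have hUb : (Nat.card (U.map (QuotientGroup.mk' N))).Coprime p :=
      Nat.Coprime.coprime_dvd_left (Subgroup.card_map_dvd U _) hU
    obtain ⟨gb, hgb⟩ := hQ.2 _ _ hHb hUb
    obtain ⟨g, rfl⟩ := hπ gb
    rw [← map_conj_smul, Subgroup.map_le_map_iff, QuotientGroup.ker_mk'] at hgb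
    set U₁ := MulAut.conj g • U with hU₁
    have hU₁c : (Nat.card U₁).Coprime p := by rw [hU₁, card_conj_smul]; exact hU
    set S := U₁ ⊔ N with hS
    set H₁ := S ⊓ H with hH₁
    have hH₁c : (Nat.card H₁).Coprime p :=
      Nat.Coprime.coprime_dvd_left (Subgroup.card_dvd_of_le inf_le_right) hHc
    have hcop : CoprimeAct H₁ N := by
      refine ⟨?_, ?_, ?_⟩
      · rw [Subgroup.normalizer_eq_top]; exact le_top
      · rw [hk]; exact Nat.Coprime.pow_right k hH₁c
      · right
        haveI : Group.IsNilpotent ↥N := hN.isNilpotent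
        infer_instance
    have hU₁le : U₁ ≤ H₁ ⊔ N := by
      intro u hu
      have h1 : u ∈ H ⊔ N := hgb hu
      rw [Subgroup.mem_sup_of_normal_right] at h1
      obtain ⟨h, hh, m, hm, rfl⟩ := h1
      have hhS : h ∈ S := by
        have : h = (h * m) * m⁻¹ := by group
        rw [this]
        exact S.mul_mem (Subgroup.mem_sup_left hu) (Subgroup.mem_sup_right (N.inv_mem hm))
      exact Subgroup.mul_mem_sup (Subgroup.mem_inf.mpr ⟨hhS, hh⟩) hm
    have hS' : H₁ ⊔ N = S := by
      apply le_antisymm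
      · exact sup_le inf_le_left le_sup_right
      · exact sup_le hU₁le le_sup_right
    have hU₁N : U₁ ⊓ N = ⊥ := by
      have := Subgroup.disjoint_of_coprime_natCard (H := U₁) (K := N) (by rw [hk]; exact Nat.Coprime.pow_right k hU₁c)
      exact disjoint_iff.mp this
    have hH₁N : H₁ ⊓ N = ⊥ := by
      rw [eq_bot_iff, ← hHN]
      exact inf_le_inf inf_le_right le_rfl
    have hcard : Nat.card U₁ = Nat.card H₁ := by
      have e1 := card_sup_mul_card_inf U₁ N
      have e2 := card_sup_mul_card_inf H₁ N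
      rw [hU₁N, Subgroup.card_bot, mul_one] at e1
      rw [hH₁N, Subgroup.card_bot, mul_one, hS'] at e2
      rw [← hS, e2] at e1
      exact (Nat.eq_of_mul_eq_mul_right Nat.card_pos e1).symm
    obtain ⟨m, hm, hmU⟩ := hcop.exists_conj_eq U₁ hU₁le hcard
    refine ⟨m⁻¹ * g, ?_⟩
    rw [map_mul, mul_smul, ← hU₁, ← hmU, ← mul_smul, ← map_mul, inv_mul_cancel, map_one, one_smul]
    exact inf_le_right

end steps

section series

variable {p : ℕ} [hp : Fact p.Prime]

lemma relIndex_map_map {G : Type*} [Group G] (N : Subgroup G) [N.Normal] (A B : Subgroup G)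
    (hA : N ≤ A) :
    (A.map (QuotientGroup.mk' N)).relIndex (B.map (QuotientGroup.mk' N)) = A.relIndex B := by
  rw [← Subgroup.relIndex_comap, Subgroup.comap_map_eq, QuotientGroup.ker_mk', sup_of_le_left hA]

theorem good_of_series (n : ℕ) : ∀ (G : Type u) [Group G] [Finite G],
    (∃ H : Fin (n + 1) → Subgroup G,
      H 0 = ⊥ ∧ H (Fin.last n) = ⊤ ∧ Monotone H ∧ (∀ i, (H i).Normal) ∧
      ∀ i : Fin n, (∃ m : ℕ, (H i.castSucc).relIndex (H i.succ) = p ^ m) ∨
        ((H i.castSucc).relIndex (H i.succ)).Coprime p) → Good p G := by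
  induction n with
  | zero =>
    rintro G _ _ ⟨H, h0, hlast, -, -, -⟩
    have hbt : (⊥ : Subgroup G) = ⊤ := by
      rw [← h0, ← hlast]; rfl
    have hall : ∀ x : G, x = 1 := by
      intro x
      have : x ∈ (⊥ : Subgroup G) := by rw [hbt]; exact Subgroup.mem_top x
      exact Subgroup.mem_bot.mp this
    constructor
    · refine ⟨⊥, ?_, 0, ?_⟩
      · rw [Subgroup.card_bot]; exact Nat.coprime_one_left p
      · rw [hbt, Subgroup.index_top, pow_zero]
    · intro H U _ _
      refine ⟨1, ?_⟩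
      intro x _
      rw [hall x]; exact H.one_mem
  | succ n ih =>
    rintro G _ _ ⟨H, h0, hlast, hmono, hnorm, hfac⟩
    set N := H 1 with hN
    haveI : N.Normal := hnorm 1
    have hπ : Function.Surjective (QuotientGroup.mk' N) := QuotientGroup.mk'_surjective N
    -- the quotient series
    have hQ : Good p (G ⧸ N) := by
      apply ih (G ⧸ N)
      refine ⟨fun i => (H i.succ).map (QuotientGroup.mk' N), ?_, ?_, ?_, ?_, ?_⟩
      · show (H (0 : Fin (n + 1)).succ).map (QuotientGroup.mk' N) = ⊥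
        have : (0 : Fin (n + 1)).succ = 1 := rfl
        rw [this, ← hN, QuotientGroup.map_mk'_self]
      · show (H (Fin.last n).succ).map (QuotientGroup.mk' N) = ⊤
        rw [Fin.succ_last, hlast, ← MonoidHom.range_eq_map, MonoidHom.range_eq_top.mpr hπ]
      · intro i j hij
        exact Subgroup.map_mono (hmono (Fin.succ_le_succ_iff.mpr hij))
      · intro i
        exact Subgroup.Normal.map (hnorm i.succ) _ hπ
      · intro i
        have hle : N ≤ H i.castSucc.succ := by
          apply hmono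
          rw [Fin.le_def]
          simp
        have key : ((H i.castSucc.succ).map (QuotientGroup.mk' N)).relIndex
            ((H i.succ.succ).map (QuotientGroup.mk' N)) =
            (H i.succ.castSucc).relIndex (H i.succ.succ) := by
          rw [relIndex_map_map N _ _ hle, Fin.succ_castSucc]
        show (∃ m : ℕ, ((H i.castSucc.succ).map (QuotientGroup.mk' N)).relIndex
            ((H i.succ.succ).map (QuotientGroup.mk' N)) = p ^ m) ∨
          (((H i.castSucc.succ).map (QuotientGroup.mk' N)).relIndex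
            ((H i.succ.succ).map (QuotientGroup.mk' N))).Coprime p
        rw [key]
        exact hfac i.succ
    -- the bottom factor
    have hbot := hfac 0
    have e0 : (0 : Fin (n + 1)).castSucc = 0 := rfl
    have e1 : (0 : Fin (n + 1)).succ = 1 := rfl
    rw [e0, e1, h0, Subgroup.relIndex_bot_left, ← hN] at hbot
    rcases hbot with ⟨m, hm⟩ | hc
    · exact good_of_quotient_pgroup N (IsPGroup.of_card hm) hQ
    · exact good_of_quotient_coprime N hc hQ

end series

theorem result {G : Type*} [Group G] [Finite G] {p : ℕ} [Fact p.Prime] (hG : Cfsg.IsPSolvable p G) : (∃ H : Subgroup G, (Nat.card H).Coprime p ∧ ∃ n : ℕ, H.index = p ^ n) ∧ (∀ H₁ H₂ : Subgroup G, (Nat.card H₁).Coprime p → (∃ n : ℕ, H₁.index = p ^ n) → (Nat.card H₂).Coprime p → (∃ n : ℕ, H₂.index = p ^ n) → ∃ g : G, H₂ = H₁.map (MulAut.conj g).toMonoidHom) ∧ (∀ U : Subgroup G, (Nat.card U).Coprime p → ∃ H : Subgroup G, (Nat.card H).Coprime p ∧ (∃ n : ℕ, H.index = p ^ n) ∧ ∃ g : G, U.map (MulAut.conj g).toMonoidHom ≤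 H) := by
  have hp : p.Prime := Fact.out
  obtain ⟨n, H, hH⟩ := hG
  have hgood : Good p G := good_of_series n G ⟨H, hH⟩
  refine ⟨hgood.1, ?_, ?_⟩
  · intro H₁ H₂ h1c h1i h2c h2i
    obtain ⟨g, hg⟩ := hgood.2 H₂ H₁ ⟨h2c, h2i⟩ h1c
    refine ⟨g, ?_⟩
    rw [← conj_smul_eq_map]
    symm
    apply Subgroup.eq_of_le_of_card_ge hg
    rw [card_conj_smul]
    -- equal cardinalities
    obtain ⟨n1, hn1⟩ := h1i
    obtain ⟨n2, hn2⟩ := h2i
    have e1 := Subgroup.card_mul_index H₁
    have e2 := Subgroup.card_mul_index H₂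
    rw [hn1] at e1
    rw [hn2] at e2
    have d1 : Nat.card H₂ ∣ Nat.card H₁ * p ^ n1 := by rw [e1, ← e2]; exact dvd_mul_right _ _
    have d2 : Nat.card H₂ ∣ Nat.card H₁ :=
      (Nat.Coprime.dvd_mul_right (Nat.Coprime.pow_right n1 h2c)).mp d1
    exact Nat.le_of_dvd Nat.card_pos d2
  · intro U hU
    obtain ⟨H, hH⟩ := hgood.1
    obtain ⟨g, hg⟩ := hgood.2 H U hH hU
    exact ⟨H, hH.1, hH.2, g, hg⟩

end Cfsg.Agent.S3744
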