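import Cfsg.Statements.S3746
import Mathlib
import Cfsg.Agent.Lib.Helper9.Layer2

set_option autoImplicit false
open Cfsg

namespace Cfsg.Agent.S3746

open Cfsg.Agent.Lib.Helper9

/-- commutators are unchanged by adding a central subgroup -/
lemma commutator_sup_central_le {G : Type*} [Group G] (D Z : Subgroup G) (hZ : Z ≤ Subgroup.center G) :
    ⁅D ⊔ Z, D ⊔ Z⁆ ≤ ⁅D, D⁆ := by
  haveI : Z.Normal := by
    refine ⟨fun z hz g => ?_⟩
    have := (Subgroup.mem_center_iff.mp (hZ hz)) g
    have e : g * z * g⁻¹ = z := by rw [this]; group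
    rw [e]; exact hz
  rw [Subgroup.commutator_le]
  intro a ha b hb
  rw [Subgroup.mem_sup_of_normal_right] at ha hb
  obtain ⟨d₁, hd₁, z₁, hz₁, rfl⟩ := ha
  obtain ⟨d₂, hd₂, z₂, hz₂, rfl⟩ := hb
  rw [commutatorElement_mul_center_left (hZ hz₁), commutatorElement_mul_center_right (hZ hz₂)]
  exact Subgroup.commutator_mem_commutator hd₁ hd₂

theorem result {G : Type*} [Group G] [Finite G] (Z : Subgroup G) (hZ : Z ≤ Subgroup.center G) [Z.Normal] (E : Subgroup G) (hZE : Z ≤ E) (hE : Cfsg.IsComponent (E.map (QuotientGroup.mk' Z))) : Cfsg.IsComponent ⁅E, E⁆ := by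
  set π := QuotientGroup.mk' Z with hπ
  set Eb := E.map π with hEb
  set D := ⁅E, E⁆ with hD
  have hDE : D ≤ E := by
    rw [hD, Subgroup.commutator_le]
    intro a ha b hb
    exact E.mul_mem (E.mul_mem (E.mul_mem ha hb) (E.inv_mem ha)) (E.inv_mem hb)
  -- E is subnormal
  have hEsub : E.IsSubnormal := by
    have h1 : (Eb.comap π).IsSubnormal := hE.1.comap π
    rwa [hEb, QuotientGroup.comap_map_mk', sup_of_le_right hZE] at h1
  -- F1
  have hF1 : D.map π = Eb := by
    rw [hD, Subgroup.map_commutator]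
    exact comp_perfect hE
  -- F2
  have hF2 : E ≤ D ⊔ Z := by
    have h1 : E ≤ (E.map π).comap π := Subgroup.le_comap_map π E
    rw [← hEb, ← hF1, QuotientGroup.comap_map_mk', sup_comm] at h1
    exact h1
  -- F3
  have hF3 : ⁅D, D⁆ = D := by
    apply le_antisymm
    · rw [Subgroup.commutator_le]
      intro a ha b hb
      exact D.mul_mem (D.mul_mem (D.mul_mem ha hb) (D.inv_mem ha)) (D.inv_mem hb)
    · calc D = ⁅E, E⁆ := hD
        _ ≤ ⁅D ⊔ Z, D ⊔ Z⁆ := Subgroup.commutator_mono hF2 hF2
        _ ≤ ⁅D, D⁆ := commutator_sup_central_le D Z hZ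
  -- F4
  have hF4 : D ≠ ⊥ := by
    intro h0
    rw [h0, bot_sup_eq] at hF2
    apply comp_ne_bot hE
    rw [eq_bot_iff]
    rintro _ ⟨e, he, rfl⟩
    rw [Subgroup.mem_bot]
    exact (QuotientGroup.eq_one_iff e).mpr (hF2 he)
  -- F5: D normal in E
  have hDnE : E ≤ Subgroup.normalizer (D : Set G) := by
    intro e he
    rw [Subgroup.mem_normalizer_iff_map_conj_eq]
    show D.map (MulAut.conj e).toMonoidHom = D
    rw [hD, Subgroup.map_commutator]
    have : E.map (MulAut.conj e).toMonoidHom = E :=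
      Subgroup.mem_normalizer_iff_map_conj_eq.mp (Subgroup.le_normalizer he)
    rw [this]
  have hDsub : D.IsSubnormal :=
    Subgroup.IsSubnormal.step D E hDE hEsub ((Subgroup.normal_subgroupOf_iff_le_normalizer hDE).mpr hDnE)
  refine ⟨hDsub, ?_⟩
  apply qs_of_perfect_of_normal
  · -- perfect
    apply Subgroup.map_injective D.subtype_injective
    rw [commutator_def, Subgroup.map_commutator, ← MonoidHom.range_eq_map, Subgroup.range_subtype]
    exact hF3
  · exact (Subgroup.nontrivial_iff_ne_bot D).mpr hF4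
  · intro N hN
    set N' := N.map D.subtype with hN'
    have hN'D : N' ≤ D := Subgroup.map_subtype_le N
    have hDN' : ∀ d ∈ D, ∀ n ∈ N', d * n * d⁻¹ ∈ N' := by
      rintro d hd _ ⟨n, hn, rfl⟩
      exact ⟨⟨d, hd⟩ * n * ⟨d, hd⟩⁻¹, hN.conj_mem n hn ⟨d, hd⟩, rfl⟩
    have hNbE : N'.map π ≤ Eb := by
      rw [← hF1]; exact Subgroup.map_mono hN'D
    have hnormal : ((N'.map π).subgroupOf Eb).Normal := by
      rw [Subgroup.normal_subgroupOf_iff_le_normalizer hNbE, ← hF1, Subgroup.le_normalizer_iff]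
      rintro _ ⟨d, hd, rfl⟩ _ ⟨n, hn, rfl⟩
      exact ⟨d * n * d⁻¹, hDN' d hd n hn, by simp⟩
    rcases qs_normal_le_center_or_eq_top hE.2 ((N'.map π).subgroupOf Eb) with hc | ht
    · -- central case
      right
      have h1 : ⁅N', E⁆ ≤ Z := by
        rw [Subgroup.commutator_le]
        intro n hn e he
        rw [← QuotientGroup.eq_one_iff]
        have hnb : π n ∈ N'.map π := Subgroup.mem_map_of_mem π hn
        have hnbE : π n ∈ Eb := hNbE hnb
        have heb : π e ∈ Eb := Subgroup.mem_map_of_mem π he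
        have hcen : (⟨π n, hnbE⟩ : Eb) ∈ Subgroup.center Eb := hc (by
          rw [Subgroup.mem_subgroupOf]; exact hnb)
        have h2 := (Subgroup.mem_center_iff.mp hcen) ⟨π e, heb⟩
        have h3 : π e * π n = π n * π e := congrArg Subtype.val h2
        have h4 : π (n * e * n⁻¹ * e⁻¹) = π n * π e * (π n)⁻¹ * (π e)⁻¹ := by
          simp only [map_mul, map_inv]
        have h5 : π (n * e * n⁻¹ * e⁻¹) = 1 := by
          rw [h4, ← h3]; group
        rw [commutatorElement_def]
        exact h5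
      have hZc : ∀ K : Subgroup G, ⁅Z, K⁆ = ⊥ := by
        intro K
        rw [Subgroup.commutator_eq_bot_iff_le_centralizer]
        exact hZ.trans (Subgroup.center_le_centralizer _)
      have h5 : ⁅⁅E, N'⁆, E⁆ = ⊥ := by
        rw [eq_bot_iff, ← hZc E]
        rw [Subgroup.commutator_comm E N']
        exact Subgroup.commutator_mono h1 le_rfl
      have h6 : ⁅⁅N', E⁆, E⁆ = ⊥ := by
        rw [eq_bot_iff, ← hZc E]
        exact Subgroup.commutator_mono h1 le_rfl
      have h7 : ⁅⁅E, E⁆, N'⁆ = ⊥ := Subgroup.commutator_commutator_eq_bot_of_rotate h5 h6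
      rw [← hD, Subgroup.commutator_eq_bot_iff_le_centralizer] at h7
      intro n hn
      rw [Subgroup.mem_center_iff]
      intro d
      have hmem : (n : G) ∈ N' := ⟨n, hn, rfl⟩
      have := (Subgroup.mem_centralizer_iff.mp (h7 d.2)) n hmem
      apply Subtype.ext
      simp only [Subgroup.coe_mul]
      exact this.symm
    · -- whole case
      left
      have h1 : Eb ≤ N'.map π := Subgroup.subgroupOf_eq_top.mp ht
      have h2 : E ≤ N' ⊔ Z := by
        have h3 : E ≤ (E.map π).comap π := Subgroup.le_comap_map π E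
        have h4 : (E.map π).comap π ≤ (N'.map π).comap π := Subgroup.comap_mono h1
        have h5 := h3.trans h4
        rwa [QuotientGroup.comap_map_mk', sup_comm] at h5
      have h6 : D ≤ N' := by
        calc D = ⁅E, E⁆ := hD
          _ ≤ ⁅N' ⊔ Z, N' ⊔ Z⁆ := Subgroup.commutator_mono h2 h2
          _ ≤ ⁅N', N'⁆ := commutator_sup_central_le N' Z hZ
          _ ≤ N' := by
            rw [Subgroup.commutator_le]
            intro a ha b hb
            exact N'.mul_mem (N'.mul_mem (N'.mul_mem ha hb) (N'.inv_mem ha)) (N'.inv_mem hb)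
      rw [eq_top_iff]
      intro d _
      obtain ⟨n, hn, hnd⟩ := h6 d.2
      have : n = d := Subtype.ext hnd
      rwa [← this]

end Cfsg.Agent.S3746
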