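import Cfsg.Statements.S3747
import Mathlib
import Cfsg.Agent.Lib.Helper9.Layer3

set_option autoImplicit false
open Cfsg

namespace Cfsg.Agent.S3747

open Cfsg.Agent.Lib.Helper9

section aux

variable {G : Type*} [Group G]

/-- the join of all conjugates of `K` -/
def conjSup (K : Subgroup G) : Subgroup G := ⨆ g : G, K.map (MulAut.conj g).toMonoidHom

lemma conjSup_normal (K : Subgroup G) : (conjSup K).Normal := by
  constructor
  intro x hx h
  have : (conjSup K).map (MulAut.conj h).toMonoidHom ≤ conjSup K := by
    unfold conjSup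
    rw [Subgroup.map_iSup]
    apply iSup_le
    intro g
    rw [← conjMap_mul]
    exact le_iSup (fun g => K.map (MulAut.conj g).toMonoidHom) (h * g)
  exact this ⟨x, hx, rfl⟩

lemma le_conjSup (K : Subgroup G) : K ≤ conjSup K := by
  have := le_iSup (fun g => K.map (MulAut.conj g).toMonoidHom) (1 : G)
  rwa [conjMap_one] at this

lemma normalClosure_le_conjSup (K : Subgroup G) :
    Subgroup.normalClosure (K : Set G) ≤ conjSup K := by
  haveI := conjSup_normal K
  exact Subgroup.normalClosure_le_normal (le_conjSup K)

/-- a component with trivial centre: its conjugates meet their centralizers trivially -/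
lemma conj_inf_centralizer_eq_bot {K : Subgroup G} (hZ : Subgroup.center ↥K = ⊥) (g : G) :
    (K.map (MulAut.conj g).toMonoidHom) ⊓
      Subgroup.centralizer ((K.map (MulAut.conj g).toMonoidHom : Subgroup G) : Set G) = ⊥ := by
  rw [eq_bot_iff]
  rintro x ⟨⟨k, hk, rfl⟩, hx2⟩
  rw [Subgroup.mem_bot]
  have hkc : (⟨k, hk⟩ : K) ∈ Subgroup.center ↥K := by
    rw [Subgroup.mem_center_iff]
    intro y
    have h1 := (Subgroup.mem_centralizer_iff.mp hx2) (g * y * g⁻¹) (conj_mem_conjMap y.2)
    simp only [MulEquiv.coe_toMonoidHom, MulAut.conj_apply] at h1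
    apply Subtype.ext
    simp only [Subgroup.coe_mul]
    have h2 : g * (↑y * k) * g⁻¹ = g * (k * ↑y) * g⁻¹ := by
      calc g * (↑y * k) * g⁻¹ = g * ↑y * g⁻¹ * (g * k * g⁻¹) := by group
        _ = g * k * g⁻¹ * (g * ↑y * g⁻¹) := h1
        _ = g * (k * ↑y) * g⁻¹ := by group
    exact mul_left_cancel (mul_right_cancel h2)
  rw [hZ, Subgroup.mem_bot] at hkc
  have : k = 1 := congrArg Subtype.val hkc
  simp [this]

variable [Finite G]

/-- the centre of the normal closure of a centre-free component is trivial -/
lemma center_conjSup {K : Subgroup G} (hK : Cfsg.IsComponent K) (hZ : Subgroup.center ↥K = ⊥)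
    (z : G) (hz : z ∈ conjSup K) (hzc : ∀ y ∈ conjSup K, y * z = z * y) : z = 1 := by
  classical
  haveI : Fintype G := Fintype.ofFinite G
  set s : Finset (Subgroup G) :=
    Finset.univ.image (fun g : G => K.map (MulAut.conj g).toMonoidHom) with hs
  have hsup : s.sup id = conjSup K := by
    rw [hs, Finset.sup_image]
    simp only [Function.id_comp]
    rw [Finset.sup_univ_eq_iSup]
    rfl
  have hcomp : ∀ L ∈ s, Cfsg.IsComponent L := by
    intro L hL
    rw [hs, Finset.mem_image] at hL
    obtain ⟨g, -, rfl⟩ := hL
    exact isComponent_conj hK g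
  have h1 := center_sup_components_aux s hcomp z (hsup ▸ hz) (by rw [hsup]; exact hzc)
  have h2 : s.sup (fun L => L ⊓ Subgroup.centralizer (L : Set G)) = ⊥ := by
    rw [eq_bot_iff]
    apply Finset.sup_le
    intro L hL
    rw [hs, Finset.mem_image] at hL
    obtain ⟨g, -, rfl⟩ := hL
    rw [conj_inf_centralizer_eq_bot hZ g]
  rw [h2, Subgroup.mem_bot] at h1
  exact h1

lemma partA {K : Subgroup G} (hK : Cfsg.IsComponent K) (hZ : Subgroup.center ↥K = ⊥) :
    Subgroup.normalClosure (K : Set G) ≠ ⊥ ∧ ∀ N : Subgroup G, N.Normal →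
      N ≤ Subgroup.normalClosure (K : Set G) → N = ⊥ ∨ N = Subgroup.normalClosure (K : Set G) := by
  have hKle : K ≤ Subgroup.normalClosure (K : Set G) := Subgroup.le_normalClosure
  have hcs : conjSup K = Subgroup.normalClosure (K : Set G) := by
    apply le_antisymm
    · unfold conjSup
      apply iSup_le
      intro g
      rintro _ ⟨k, hk, rfl⟩
      exact Subgroup.normalClosure_normal.conj_mem k (hKle hk) g
    · exact normalClosure_le_conjSup K
  constructor
  · intro h
    apply comp_ne_bot hK
    rw [eq_bot_iff, ← h]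
    exact hKle
  · intro N hN hle
    rcases comp_le_or_commutator_eq_bot hK hN.isSubnormal with h | h
    · right
      exact le_antisymm hle (Subgroup.normalClosure_le_normal h)
    · left
      rw [Subgroup.commutator_eq_bot_iff_le_centralizer] at h
      -- K centralizes N, so the normal closure does
      haveI : (Subgroup.centralizer (N : Set G)).Normal := Subgroup.normal_centralizer
      have h2 : Subgroup.normalClosure (K : Set G) ≤ Subgroup.centralizer (N : Set G) :=
        Subgroup.normalClosure_le_normal h
      rw [eq_bot_iff]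
      intro n hn
      rw [Subgroup.mem_bot]
      apply center_conjSup hK hZ n (hcs ▸ hle hn)
      intro y hy
      rw [hcs] at hy
      exact ((Subgroup.mem_centralizer_iff.mp (h2 hy)) n hn).symm

end aux

theorem result {G : Type*} [Group G] [Finite G] : (∀ K : Subgroup G, Cfsg.IsComponent K → Subgroup.center ↥K = ⊥ → (Subgroup.normalClosure (K : Set G) ≠ ⊥ ∧ ∀ N : Subgroup G, N.Normal → N ≤ Subgroup.normalClosure (K : Set G) → N = ⊥ ∨ N = Subgroup.normalClosure (K : Set G))) ∧ (Cfsg.fittingSubgroup G = ⊥ → sSup {N : Subgroup G | N ≠ ⊥ ∧ N.Normal ∧ ∀ N' : Subgroup G, N'.Normal → N' ≤ N → N' = ⊥ ∨ N' = N} = Cfsg.layer G) := by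
  refine ⟨fun K hK hZ => partA hK hZ, ?_⟩
  intro hF
  have hgfs : Cfsg.generalizedFittingSubgroup G = Cfsg.layer G := by
    unfold Cfsg.generalizedFittingSubgroup
    rw [hF, sup_bot_eq]
  haveI hLn : (Cfsg.layer G).Normal := by
    haveI := layer_characteristic (G := G)
    infer_instance
  apply le_antisymm
  · apply sSup_le
    rintro N ⟨hN0, hNn, hNmin⟩
    haveI := hNn
    have hinf : (N ⊓ Cfsg.layer G).Normal := inferInstance
    rcases hNmin (N ⊓ Cfsg.layer G) hinf inf_le_left with h | h
    · exfalso
      apply hN0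
      have h1 : ⁅N, Cfsg.layer G⁆ ≤ N ⊓ Cfsg.layer G :=
        le_inf (Subgroup.commutator_le_left N _) (Subgroup.commutator_le_right N _)
      rw [h, le_bot_iff, Subgroup.commutator_eq_bot_iff_le_centralizer] at h1
      have h2 : N ≤ Cfsg.layer G := by
        have := centralizer_gfs_le (G := G)
        rw [hgfs] at this
        exact h1.trans this
      rw [eq_bot_iff, ← h]
      exact le_inf le_rfl h2
    · rw [← h]; exact inf_le_right
  · unfold Cfsg.layer
    apply sSup_le
    intro K hK
    have hZ : Subgroup.center ↥K = ⊥ := by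
      have h1 : ((Subgroup.center ↥K).map K.subtype).IsSubnormal := by
        have : (Subgroup.center ↥K).IsSubnormal :=
          (inferInstance : (Subgroup.center ↥K).Normal).isSubnormal
        exact this.trans' hK.1
      have h2 : Group.IsNilpotent ↥((Subgroup.center ↥K).map K.subtype) := by
        have e : ↥(Subgroup.center ↥K) ≃* ↥((Subgroup.center ↥K).map K.subtype) :=
          (Subgroup.center ↥K).equivMapOfInjective _ K.subtype_injective
        exact (Group.isNilpotent_congr e).mp isNilpotent_of_isMulCommutative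
      have h3 := subnormal_nilpotent_le_fitting h1 h2
      rw [hF, le_bot_iff] at h3
      exact (Subgroup.map_eq_bot_iff_of_injective _ K.subtype_injective).mp h3
    obtain ⟨h0, hmin⟩ := partA hK hZ
    exact (Subgroup.le_normalClosure).trans (le_sSup ⟨h0, Subgroup.normalClosure_normal, hmin⟩)

end Cfsg.Agent.S3747
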