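import Cfsg.Statements.S3748
import Mathlib
import Cfsg.Agent.Lib.Helper20.Subnormal
import Cfsg.Agent.Lib.Helper1.Cores

set_option autoImplicit false
open Cfsg

namespace Cfsg.Agent.S3748

open Cfsg.Agent.Lib.Helper20 Cfsg.Agent.Lib.Helper1

lemma conj_map_map {G : Type*} [Group G] (L : Subgroup G) (g h : G) :
    (L.map (MulAut.conj g).toMonoidHom).map (MulAut.conj h).toMonoidHom =
      L.map (MulAut.conj (h * g)).toMonoidHom := by
  rw [Subgroup.map_map]; congr 1; ext x; simp [MulAut.conj_apply, mul_assoc]

/-- every subgroup of a finite nilpotent group is subnormal -/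
lemma isSubnormal_of_isNilpotent {G : Type*} [Group G] [Finite G] [Group.IsNilpotent G] :
    ∀ (n : ℕ) (H : Subgroup G), H.index = n → H.IsSubnormal := by
  intro n
  induction n using Nat.strong_induction_on with
  | _ n ih =>
    intro H hn
    by_cases htop : H = ⊤
    · subst htop; exact Subgroup.IsSubnormal.top
    · have hlt : H < Subgroup.normalizer (H : Set G) :=
        Group.normalizerCondition_of_isNilpotent H (lt_top_iff_ne_top.mpr htop)
      have hidx : (Subgroup.normalizer (H : Set G)).index < n := by
        rw [← hn]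
        have h1 : H.relIndex (Subgroup.normalizer (H : Set G)) * (Subgroup.normalizer (H : Set G)).index = H.index :=
          Subgroup.relIndex_mul_index hlt.le
        have h2 : H.relIndex (Subgroup.normalizer (H : Set G)) ≠ 1 := by
          intro h
          have := Subgroup.relIndex_eq_one.mp h
          exact absurd (le_antisymm this hlt.le) hlt.ne'
        have h3 : H.relIndex (Subgroup.normalizer (H : Set G)) ≠ 0 := by
          intro h
          rw [h, zero_mul] at h1
          exact Subgroup.index_ne_zero_of_finite h1.symm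
        have h4 : (Subgroup.normalizer (H : Set G)).index ≠ 0 := Subgroup.index_ne_zero_of_finite
        have h5 : 2 ≤ H.relIndex (Subgroup.normalizer (H : Set G)) := by omega
        have h6 : 0 < (Subgroup.normalizer (H : Set G)).index := by omega
        nlinarith
      have hsub := ih _ hidx (Subgroup.normalizer (H : Set G)) rfl
      exact Subgroup.IsSubnormal.step H _ hlt.le hsub
        ((Subgroup.normal_subgroupOf_iff_le_normalizer hlt.le).mpr le_rfl)

theorem result {G : Type*} [Group G] [Finite G] (M : Subgroup G) (hM : M ≠ ⊤) (hprim : ∀ N : Subgroup G, N ≤ M → M ≤ Subgroup.normalizer (N : Set G) → N ≠ ⊥ → Subgroup.normalizer (N : Set G) = M) : (∀ L : Subgroup G, L.IsSubnormal → L ≤ M → L = ⊥) ∧ M ⊓ Cfsg.fittingSubgroup G = ⊥ := by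
  have part1 : ∀ L : Subgroup G, L.IsSubnormal → L ≤ M → L = ⊥ := by
    intro L hL hLM
    by_contra hne
    have htop : (⊤ : Subgroup G) ≠ ⊥ := by
      intro h
      apply hne
      rw [eq_bot_iff, ← h]; exact le_top
    obtain ⟨A, hA, -⟩ := exists_isMinNormal_le (N := (⊤ : Subgroup G)) inferInstance htop
    set LM : Subgroup G := ⨆ m : M, L.map (MulAut.conj (m : G)).toMonoidHom with hLM_def
    have h1 : LM ≤ M := by
      apply iSup_le
      rintro m _ ⟨x, hx, rfl⟩
      simp only [MulEquiv.coe_toMonoidHom, MulAut.conj_apply]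
      exact M.mul_mem (M.mul_mem m.2 (hLM hx)) (M.inv_mem m.2)
    have h2 : M ≤ Subgroup.normalizer (LM : Set G) := by
      intro m' hm'
      rw [Subgroup.mem_normalizer_iff_map_conj_eq]
      show LM.map (MulAut.conj m').toMonoidHom = LM
      rw [hLM_def, Subgroup.map_iSup]
      simp_rw [conj_map_map]
      apply le_antisymm
      · apply iSup_le
        intro m
        exact le_iSup (fun m : M => L.map (MulAut.conj (m : G)).toMonoidHom) (⟨m', hm'⟩ * m)
      · apply iSup_le
        intro m
        have := le_iSup (fun m : M => L.map (MulAut.conj (m' * (m : G))).toMonoidHom) (⟨m', hm'⟩⁻¹ * m)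
        simpa using this
    have h3 : LM ≠ ⊥ := by
      intro h
      apply hne
      rw [eq_bot_iff, ← h]
      have h31 := le_iSup (fun m : M => L.map (MulAut.conj (m : G)).toMonoidHom) 1
      have h32 : L.map (MulAut.conj ((1 : M) : G)).toMonoidHom = L := by
        have : (MulAut.conj ((1 : M) : G)).toMonoidHom = MonoidHom.id G := by
          ext x; simp
        rw [this, Subgroup.map_id]
      simp only [h32] at h31
      exact h31
    have h4 : Subgroup.normalizer (LM : Set G) = M := hprim LM h1 h2 h3
    have h5 : A ≤ Subgroup.normalizer (LM : Set G) := by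
      intro a ha
      rw [Subgroup.mem_normalizer_iff_map_conj_eq]
      show LM.map (MulAut.conj a).toMonoidHom = LM
      rw [hLM_def, Subgroup.map_iSup]
      congr 1
      ext m : 1
      have hsub : (L.map (MulAut.conj (m : G)).toMonoidHom).IsSubnormal :=
        hL.map (MulAut.conj (m : G)).surjective
      have := hA.le_normalizer_of_isSubnormal hsub ha
      rw [Subgroup.mem_normalizer_iff_map_conj_eq] at this
      exact this
    rw [h4] at h5
    have h6 : Subgroup.normalizer (A : Set G) = M :=
      hprim A h5 (by rw [Subgroup.normalizer_eq_top_iff.mpr hA.1]; exact le_top) hA.2.1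
    rw [Subgroup.normalizer_eq_top_iff.mpr hA.1] at h6
    exact hM h6.symm
  refine ⟨part1, ?_⟩
  apply part1 _ _ inf_le_left
  -- M ⊓ F(G) is subnormal
  have hFn : (Cfsg.fittingSubgroup G).Normal := fittingSubgroup_normal
  haveI : Group.IsNilpotent (Cfsg.fittingSubgroup G) := fittingSubgroup_isNilpotent
  have h1 : ((M ⊓ Cfsg.fittingSubgroup G).subgroupOf (Cfsg.fittingSubgroup G)).IsSubnormal :=
    isSubnormal_of_isNilpotent _ _ rfl
  exact Subgroup.IsSubnormal.trans inf_le_right h1 hFn.isSubnormal

end Cfsg.Agent.S3748
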