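import Cfsg.Statements.S3749
import Mathlib
import Cfsg.Agent.Lib.Helper1.CoprimeSylow

set_option autoImplicit false
open Cfsg

namespace Cfsg.Agent.S3749

open Cfsg.Agent.Lib.Helper1
open scoped Pointwise

section aux
universe u
variable {G : Type u} [Group G] [Finite G]

/-- if a `p`-group `P` has no nontrivial fixed points on the normal subgroup `N`,
then `p` does not divide `|N|` -/
lemma not_dvd_card_of_centralizer_trivial {p : ℕ} [Fact p.Prime] {P N : Subgroup G} [hN : N.Normal]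
    (hP : IsPGroup p P) (h : N ⊓ Subgroup.centralizer (P : Set G) = ⊥) : ¬ p ∣ Nat.card N := by
  have hp : p.Prime := Fact.out
  let φ : ↥P →* MulAut ↥N := (MulAut.conjNormal).comp P.subtype
  letI : MulAction ↥P ↥N := MulAction.compHom ↥N φ
  have hsmul : ∀ (g : ↥P) (n : ↥N), ((g • n : ↥N) : G) = g * n * (g : G)⁻¹ := by
    intro g n
    rfl
  have h1 := hP.card_modEq_card_fixedPoints (↥N)
  have h2 : MulAction.fixedPoints ↥P ↥N = {1} := by
    ext n
    rw [MulAction.mem_fixedPoints, Set.mem_singleton_iff]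
    constructor
    · intro hn
      have hmem : (n : G) ∈ N ⊓ Subgroup.centralizer (P : Set G) := by
        refine Subgroup.mem_inf.mpr ⟨n.2, ?_⟩
        rw [Subgroup.mem_centralizer_iff]
        intro g hg
        have := congrArg Subtype.val (hn ⟨g, hg⟩)
        rw [hsmul] at this
        simp only at this
        calc g * (n : G) = (g * n * g⁻¹) * g := by group
          _ = n * g := by rw [this]
      rw [h, Subgroup.mem_bot] at hmem
      exact Subtype.ext hmem
    · rintro rfl g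
      apply Subtype.ext
      rw [hsmul]
      simp
  rw [h2] at h1
  have h3 : Nat.card ({1} : Set ↥N) = 1 := by simp
  rw [h3] at h1
  intro hdvd
  have h4 : Nat.card ↥N ≡ 0 [MOD p] := (Nat.modEq_zero_iff_dvd).mpr hdvd
  have h5 : 1 ≡ 0 [MOD p] := h1.symm.trans h4
  rw [Nat.modEq_zero_iff_dvd] at h5
  exact hp.one_lt.ne' (Nat.dvd_one.mp h5)

end aux

theorem result {G : Type*} [Group G] [Finite G] (M : Subgroup G) (hM : M ≠ ⊤) (hprim : ∀ N : Subgroup G, N ≤ M → M ≤ Subgroup.normalizer (N : Set G) → N ≠ ⊥ → Subgroup.normalizer (N : Set G) = M) {p : ℕ} [Fact p.Prime] (hOp : Cfsg.pCore p ↥M ≠ ⊥) (N : Subgroup G) [N.Normal] (hMN : M ⊓ N = ⊥) : ¬ p ∣ Nat.card N ∧ (∀ q : ℕ, [Fact q.Prime] → ∃! Q : Sylow q ↥N, M ≤ Subgroup.normalizer ((Q : Subgroup ↥N).map N.subtype : Set G)) ∧ ((∃ q r : ℕ, q.Prime ∧ r.Prime ∧ q ≠ r ∧ q ∣ Nat.card N ∧ r ∣ Nat.card N) → ¬ IsCoatom M) := by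
  have hp : p.Prime := Fact.out
  set P₀ : Subgroup G := (Cfsg.pCore p ↥M).map M.subtype with hP₀
  have hP₀M : P₀ ≤ M := Subgroup.map_subtype_le _
  have hP₀ne : P₀ ≠ ⊥ := by
    rw [Ne, Subgroup.map_eq_bot_iff_of_injective _ M.subtype_injective]; exact hOp
  have hMP₀ : M ≤ Subgroup.normalizer (P₀ : Set G) := by
    haveI : (Cfsg.pCore p ↥M).Normal := pCore_normal (G := ↥M) p
    have h1 : (Subgroup.normalizer ((Cfsg.pCore p ↥M : Subgroup ↥M) : Set ↥M)).map M.subtype
        ≤ Subgroup.normalizer (P₀ : Set G) := Subgroup.le_normalizer_map _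
    rw [Subgroup.normalizer_eq_top, ← MonoidHom.range_eq_map, Subgroup.range_subtype] at h1
    exact h1
  have hNP₀ : Subgroup.normalizer (P₀ : Set G) = M := hprim P₀ hP₀M hMP₀ hP₀ne
  have hP₀p : IsPGroup p P₀ := (pCore_isPGroup (G := ↥M) p).map _
  have hcent : N ⊓ Subgroup.centralizer (P₀ : Set G) = ⊥ := by
    rw [eq_bot_iff, ← hMN, ← hNP₀]
    exact le_inf (inf_le_right.trans (Subgroup.centralizer_le_normalizer _)) inf_le_left
  have hndvd : ¬ p ∣ Nat.card N := not_dvd_card_of_centralizer_trivial hP₀p hcent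
  -- coprime action
  have hcop : CoprimeAct P₀ N := by
    refine ⟨?_, ?_, ?_⟩
    · rw [Subgroup.normalizer_eq_top]; exact le_top
    · obtain ⟨k, hk⟩ := IsPGroup.iff_card.mp hP₀p
      rw [hk]
      exact Nat.Coprime.pow_left k ((Nat.Prime.coprime_iff_not_dvd hp).mpr hndvd)
    · left
      haveI : Group.IsNilpotent ↥P₀ := hP₀p.isNilpotent
      infer_instance
  have hcentral_one : ∀ c : G, c ∈ N ⊓ Subgroup.centralizer (P₀ : Set G) → c = 1 := by
    intro c hc
    rw [hcent, Subgroup.mem_bot] at hc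
    exact hc
  -- invariant Sylows are unique
  have hsyl : ∀ q : ℕ, [Fact q.Prime] → ∃! Q : Sylow q ↥N,
      M ≤ Subgroup.normalizer ((Q : Subgroup ↥N).map N.subtype : Set G) := by
    intro q _
    obtain ⟨Q, hQ⟩ := hcop.exists_invariant_sylow q
    have huniq : ∀ Q' : SylSet q N, P₀ ≤ Subgroup.normalizer (Q'.1 : Set G) →
        Q'.1 = (SylSet.ofSylow Q).1 := by
      intro Q' hQ'
      obtain ⟨c, hc, hcQ⟩ := hcop.exists_conj_sylSet Q' (SylSet.ofSylow Q) hQ' hQ
      rw [hcentral_one c hc, map_one, one_smul] at hcQ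
      exact hcQ
    refine ⟨Q, ?_, ?_⟩
    · -- M normalizes Q
      show M ≤ Subgroup.normalizer ((Q : Subgroup ↥N).map N.subtype : Set G)
      intro m hm
      set Q₀ : Subgroup G := (Q : Subgroup ↥N).map N.subtype with hQ₀
      have hmN : m ∈ Subgroup.normalizer (N : Set G) := by
        rw [Subgroup.normalizer_eq_top]; exact Subgroup.mem_top m
      let Q' : SylSet q N := ⟨MulAut.conj m • Q₀,
        conj_smul_le_of_mem_normalizer hmN (SylSet.ofSylow Q).2.1, by
          rw [card_conj_smul]; exact (SylSet.ofSylow Q).2.2⟩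
      have hQ'inv : P₀ ≤ Subgroup.normalizer (Q'.1 : Set G) := by
        intro x hx
        show x ∈ Subgroup.normalizer ((MulAut.conj m • Q₀ : Subgroup G) : Set G)
        rw [← conj_smul_eq_self_iff_mem_normalizer, ← mul_smul]
        -- x m = m (m⁻¹ x m), and m⁻¹ x m ∈ P₀
        have hy : m⁻¹ * x * m ∈ P₀ := by
          have hminv : m⁻¹ ∈ Subgroup.normalizer (P₀ : Set G) := Subgroup.inv_mem _ (hMP₀ hm)
          have := (Subgroup.mem_normalizer_iff.mp hminv x).mp hx
          simpa using this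
        have hy2 : MulAut.conj (m⁻¹ * x * m) • Q₀ = Q₀ :=
          conj_smul_eq_self_iff_mem_normalizer.mpr (hQ hy)
        have e : MulAut.conj x * MulAut.conj m = MulAut.conj m * MulAut.conj (m⁻¹ * x * m) := by
          rw [← map_mul, ← map_mul]
          congr 1
          group
        rw [e, mul_smul, hy2]
      have := huniq Q' hQ'inv
      exact conj_smul_eq_self_iff_mem_normalizer.mp this
    · intro Q₂ hQ₂
      have h1 := huniq (SylSet.ofSylow Q₂) (hP₀M.trans hQ₂)
      apply Sylow.ext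
      apply Subgroup.map_injective N.subtype_injective
      exact h1
  refine ⟨hndvd, hsyl, ?_⟩
  rintro ⟨q, r, hq, hr, hqr, hqN, hrN⟩ hco
  haveI : Fact q.Prime := ⟨hq⟩
  obtain ⟨Q, hQ, -⟩ := hsyl q
  set Q₀ : Subgroup G := (Q : Subgroup ↥N).map N.subtype with hQ₀
  have hQ₀N : Q₀ ≤ N := Subgroup.map_subtype_le _
  have hQ₀card : Nat.card Q₀ = q ^ (Nat.card N).factorization q := (SylSet.ofSylow Q).2.2
  have hNpos : Nat.card N ≠ 0 := Nat.card_pos.ne'
  have hQ₀ne : Q₀ ≠ ⊥ := by
    intro h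
    rw [h, Subgroup.card_bot] at hQ₀card
    have : 0 < (Nat.card N).factorization q :=
      (hq.factorization_pos_of_dvd hNpos hqN)
    have h2 : 1 < q ^ (Nat.card N).factorization q := Nat.one_lt_pow this.ne' hq.one_lt
    omega
  -- M < M ⊔ Q₀
  have hlt : M < M ⊔ Q₀ := by
    refine lt_of_le_of_ne le_sup_left ?_
    intro h
    have hQM : Q₀ ≤ M := by rw [h]; exact le_sup_right
    apply hQ₀ne
    rw [eq_bot_iff, ← hMN]
    exact le_inf hQM hQ₀N
  -- M ⊔ Q₀ ≠ ⊤ by counting
  have hne_top : M ⊔ Q₀ ≠ ⊤ := by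
    intro htop
    have h1 : Nat.card (M ⊔ N : Subgroup G) * Nat.card (M ⊓ N : Subgroup G) = Nat.card M * Nat.card N :=
      card_sup_mul_card_inf M N
    rw [hMN, Subgroup.card_bot, mul_one] at h1
    have h2 : Nat.card (M ⊔ Q₀ : Subgroup G) ≤ Nat.card M * Nat.card Q₀ := by
      have hset : ((M ⊔ Q₀ : Subgroup G) : Set G) = (M : Set G) * (Q₀ : Set G) :=
        Subgroup.coe_mul_of_left_le_normalizer_right M Q₀ hQ
      have : Nat.card (M ⊔ Q₀ : Subgroup G) = Nat.card ((M : Set G) * (Q₀ : Set G) : Set G) := by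
        rw [← hset]; rfl
      rw [this]
      exact Set.natCard_mul_le
    have h3 : Nat.card (M ⊔ N : Subgroup G) ≤ Nat.card (M ⊔ Q₀ : Subgroup G) := by
      rw [htop]; exact Subgroup.card_le_of_le le_top
    have h4 : Nat.card Q₀ < Nat.card N := by
      have hdvd : Nat.card Q₀ ∣ Nat.card N := Subgroup.card_dvd_of_le hQ₀N
      have hle := Nat.le_of_dvd Nat.card_pos hdvd
      refine lt_of_le_of_ne hle ?_
      intro heq
      rw [← heq, hQ₀card] at hrN
      have := (Nat.prime_dvd_prime_iff_eq hr hq).mp (hr.dvd_of_dvd_pow hrN)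
      exact hqr this.symm
    have hMpos : 0 < Nat.card M := Nat.card_pos
    have : Nat.card M * Nat.card Q₀ < Nat.card M * Nat.card N :=
      Nat.mul_lt_mul_of_pos_left h4 hMpos
    omega
  rcases hco.2 (M ⊔ Q₀) hlt with h
  exact hne_top h

end Cfsg.Agent.S3749
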