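import Cfsg.Statements.S3750
import Cfsg.Agent.Lib.Helper10.Layer

set_option autoImplicit false
open Cfsg

namespace Cfsg.Agent.S3750

open Cfsg.Agent.Lib.Helper1 Cfsg.Agent.Lib.Helper9 Cfsg.Agent.Lib.Helper10

theorem lcs_normal' {G : Type*} [Group G] (N : Subgroup G) [hN : N.Normal] :
    ∀ k, (N.lowerCentralSeries k).Normal
  | 0 => hN
  | k + 1 => by
    have := lcs_normal' N k
    rw [Subgroup.lowerCentralSeries_succ]
    infer_instance

theorem result {G : Type*} [Group G] [Finite G] (M : Subgroup G) (hM : M ≠ ⊤) (hprim : ∀ N : Subgroup G, N ≤ M → M ≤ Subgroup.normalizer (N : Set G) → N ≠ ⊥ → Subgroup.normalizer (N : Set G) = M) (N : Subgroup G) [N.Normal] (hMF : M ⊓ (Cfsg.generalizedFittingSubgroup ↥N).map N.subtype ≠ ⊥) : Cfsg.fittingSubgroup G = ⊥ ∧ (Cfsg.generalizedFittingSubgroup ↥N).map N.subtype = Cfsg.generalizedFittingSubgroup G ∧ Cfsg.generalizedFittingSubgroup G = Cfsg.layer G ∧ ∀ K : Subgroup G, K.Normal → K ≠ ⊥ → (∀ K' : Subgroup G, K'.Normal → K' ≤ K → K' = ⊥ ∨ K' = K) → K ≤ N := by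
  have hNsn : N.IsSubnormal := Subgroup.Normal.isSubnormal inferInstance
  set FN := (Cfsg.generalizedFittingSubgroup ↥N).map N.subtype with hFN
  set EN := (Cfsg.layer ↥N).map N.subtype with hEN
  set FFN := (Cfsg.fittingSubgroup ↥N).map N.subtype with hFFN
  have hFNeq : FN = EN ⊔ FFN := by
    rw [hFN, hEN, hFFN]
    unfold Cfsg.generalizedFittingSubgroup
    rw [Subgroup.map_sup]
  haveI hFNn : FN.Normal := by
    haveI := gfs_characteristic (G := ↥N)
    exact ConjAct.normal_of_characteristic_of_normal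
  have hFNN : FN ≤ N := Subgroup.map_subtype_le _
  set A := M ⊓ FN with hA
  have hAM : A ≤ M := inf_le_left
  have hMA : M ≤ Subgroup.normalizer (A : Set G) := by
    intro m hm
    rw [Subgroup.mem_normalizer_iff]
    intro h
    constructor
    · rintro ⟨h1, h2⟩
      exact ⟨M.mul_mem (M.mul_mem hm h1) (M.inv_mem hm), hFNn.conj_mem h h2 m⟩
    · rintro ⟨h1, h2⟩
      constructor
      · have := M.mul_mem (M.mul_mem (M.inv_mem hm) h1) hm
        simpa [mul_assoc] using this
      · have := hFNn.conj_mem _ h2 m⁻¹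
        simpa [mul_assoc] using this
  have hNA : Subgroup.normalizer (A : Set G) = M := hprim A hAM hMA hMF
  -- no nontrivial normal subgroup of G lies in M
  have hcf : ∀ K : Subgroup G, K.Normal → K ≤ M → K = ⊥ := by
    intro K hK hKM
    by_contra hne
    have h1 : Subgroup.normalizer (K : Set G) = ⊤ := Subgroup.normalizer_eq_top_iff.mpr hK
    have h2 := hprim K hKM (h1 ▸ le_top) hne
    exact hM (h2 ▸ h1)
  have hcomm : ∀ K : Subgroup G, K.Normal → K ≤ Subgroup.centralizer (A : Set G) → K = ⊥ := by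
    intro K hK hKA
    apply hcf K hK
    rw [← hNA]
    exact hKA.trans (Subgroup.centralizer_le_normalizer _)
  have hENle : EN ≤ Cfsg.layer G := map_layer_le_of_subnormal hNsn
  have hFFNeq : FFN = Cfsg.fittingSubgroup G ⊓ N := map_fittingSubgroup_eq_of_subnormal hNsn
  -- F(G) = 1
  have hF : Cfsg.fittingSubgroup G = ⊥ := by
    by_contra hne
    haveI hFn : (Cfsg.fittingSubgroup G).Normal := fittingSubgroup_normal
    have hnil : Group.IsNilpotent ↥(Cfsg.fittingSubgroup G) := fittingSubgroup_isNilpotent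
    obtain ⟨c, hc⟩ := (Subgroup.isNilpotent_iff_lowerCentralSeries _).mp hnil
    -- least c
    classical
    have hex : ∃ c, (Cfsg.fittingSubgroup G).lowerCentralSeries c = ⊥ := ⟨c, hc⟩
    let c₀ := Nat.find hex
    have hc₀ : (Cfsg.fittingSubgroup G).lowerCentralSeries c₀ = ⊥ := Nat.find_spec hex
    have hc₀pos : c₀ ≠ 0 := by
      intro h0
      rw [h0] at hc₀
      exact hne hc₀
    obtain ⟨k, hk⟩ : ∃ k, c₀ = k + 1 := ⟨c₀ - 1, by omega⟩
    set K := (Cfsg.fittingSubgroup G).lowerCentralSeries k with hK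
    have hKne : K ≠ ⊥ := by
      have : k < c₀ := by omega
      exact Nat.find_min hex this
    haveI hKn : K.Normal := lcs_normal' _ k
    have hKF : K ≤ Cfsg.fittingSubgroup G := by
      have := Subgroup.lowerCentralSeries_antitone (Cfsg.fittingSubgroup G) (Nat.zero_le k)
      simpa using this
    have hKc : ⁅K, Cfsg.fittingSubgroup G⁆ = ⊥ := by
      rw [hK, ← Subgroup.lowerCentralSeries_succ, ← hk]
      exact hc₀
    -- F(G) ≤ C(K)
    have h1 : Cfsg.fittingSubgroup G ≤ Subgroup.centralizer (K : Set G) := by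
      rw [Subgroup.commutator_comm, Subgroup.commutator_eq_bot_iff_le_centralizer] at hKc
      exact hKc
    -- E(G) ≤ C(F(G)) ≤ C(K)
    have h2 : Cfsg.layer G ≤ Subgroup.centralizer (K : Set G) := by
      have := commutator_layer_fitting (G := G)
      rw [Subgroup.commutator_eq_bot_iff_le_centralizer] at this
      exact this.trans (Subgroup.centralizer_le hKF)
    have h3 : FN ≤ Subgroup.centralizer (K : Set G) := by
      rw [hFNeq]
      apply sup_le (hENle.trans h2)
      rw [hFFNeq]
      exact inf_le_left.trans h1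
    have h4 : K ≤ Subgroup.centralizer (A : Set G) := by
      rw [Subgroup.le_centralizer_iff]
      exact (inf_le_right : A ≤ FN).trans h3
    exact hKne (hcomm K hKn h4)
  have hgfs : Cfsg.generalizedFittingSubgroup G = Cfsg.layer G := by
    unfold Cfsg.generalizedFittingSubgroup
    rw [hF, sup_bot_eq]
  have hFFNbot : FFN = ⊥ := by rw [hFFNeq, hF, bot_inf_eq]
  have hFNEN : FN = EN := by rw [hFNeq, hFFNbot, sup_bot_eq]
  -- every component of G lies in N
  have hcompN : ∀ L : Subgroup G, Cfsg.IsComponent L → L ≤ N := by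
    intro L hL
    rcases comp_le_or_commutator_eq_bot hL hNsn with h | h
    · exact h
    · exfalso
      rw [Subgroup.commutator_eq_bot_iff_le_centralizer] at h
      have h1 : Subgroup.normalClosure (L : Set G) ≤ Subgroup.centralizer (N : Set G) :=
        Subgroup.normalClosure_le_normal h
      have h2 : Subgroup.normalClosure (L : Set G) ≤ Subgroup.centralizer (A : Set G) :=
        h1.trans (Subgroup.centralizer_le ((inf_le_right : A ≤ FN).trans hFNN))
      have h3 := hcomm _ Subgroup.normalClosure_normal h2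
      apply comp_ne_bot hL
      rw [eq_bot_iff, ← h3]
      exact Subgroup.le_normalClosure
  have hlayer : Cfsg.layer G ≤ EN := by
    rw [hEN, map_layer_eq_sSup hNsn]
    apply sSup_le
    intro L hL
    exact le_sSup ⟨hL, hcompN L hL⟩
  refine ⟨hF, ?_, hgfs, ?_⟩
  · rw [hgfs, hFNEN]
    exact le_antisymm hENle hlayer
  · intro K hK hKne hKmin
    have h1 : ¬ K ≤ Subgroup.centralizer (A : Set G) := fun h => hKne (hcomm K hK h)
    haveI := hK
    have h2 : (K ⊓ N).Normal := inferInstance
    rcases hKmin (K ⊓ N) h2 inf_le_left with h | h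
    · exfalso
      apply h1
      rw [← Subgroup.commutator_eq_bot_iff_le_centralizer, eq_bot_iff, ← h]
      apply le_inf
      · exact Subgroup.commutator_le_left K A
      · have : ⁅K, A⁆ ≤ ⁅K, N⁆ :=
          Subgroup.commutator_mono le_rfl ((inf_le_right : A ≤ FN).trans hFNN)
        exact this.trans (Subgroup.commutator_le_right K N)
    · rw [← h]; exact inf_le_right

end Cfsg.Agent.S3750
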