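import Cfsg.Statements.S3751
import Cfsg.Agent.Lib.Helper17.CharP

set_option autoImplicit false
open Cfsg
open Cfsg.Agent.Lib.Helper17

namespace Cfsg.Agent.S3751

variable {G : Type*} [Group G]

/-- `M` is a `p`-local subgroup. -/
def IsLoc (p : ℕ) (M : Subgroup G) : Prop :=
  ∃ T : Subgroup G, IsPGroup p T ∧ T ≠ ⊥ ∧ M = Subgroup.normalizer (T : Set G)

/-- `M` is a maximal `p`-local subgroup. -/
def IsMaxLoc (p : ℕ) (M : Subgroup G) : Prop :=
  IsLoc p M ∧ ∀ L : Subgroup G, IsLoc p L → M ≤ L → L = M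

theorem exists_maxLoc_ge [Finite G] {p : ℕ} {L : Subgroup G} (hL : IsLoc p L) :
    ∃ M : Subgroup G, IsMaxLoc p M ∧ L ≤ M := by
  obtain ⟨M, hLM, hM⟩ := Finite.exists_le_maximal (p := IsLoc (G := G) p) hL
  exact ⟨M, ⟨hM.1, fun L' hL' hML' => le_antisymm (hM.2 hL' hML') hML'⟩, hLM⟩

theorem map_conj_eq_of_mem_normalizer {T : Subgroup G} {x : G}
    (hx : x ∈ Subgroup.normalizer (T : Set G)) :
    T.map (MulAut.conj x).toMonoidHom = T := by
  rw [Subgroup.mem_normalizer_iff] at hx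
  ext y
  constructor
  · rintro ⟨t, ht, rfl⟩
    exact (hx t).mp ht
  · intro hy
    refine ⟨x⁻¹ * y * x, ?_, ?_⟩
    · show x⁻¹ * y * x ∈ T
      rw [hx]
      have : x * (x⁻¹ * y * x) * x⁻¹ = y := by group
      rw [this]; exact hy
    · simp only [MulEquiv.toMonoidHom_eq_coe, MonoidHom.coe_coe, MulAut.conj_apply]
      group

theorem mem_normalizer_of_map_conj_eq [Finite G] {T : Subgroup G} {x : G}
    (hx : T.map (MulAut.conj x).toMonoidHom = T) : x ∈ Subgroup.normalizer (T : Set G) := by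
  apply Subgroup.mem_normalizer_fintype
  intro t ht
  have : x * t * x⁻¹ ∈ T.map (MulAut.conj x).toMonoidHom := ⟨t, ht, rfl⟩
  rwa [hx] at this

theorem isLoc_map_conj {p : ℕ} {M : Subgroup G} (hM : IsLoc p M) (g : G) :
    IsLoc p (M.map (MulAut.conj g).toMonoidHom) := by
  obtain ⟨T, hT, hT1, rfl⟩ := hM
  refine ⟨T.map (MulAut.conj g).toMonoidHom, hT.map _, ?_, ?_⟩
  · intro h
    apply hT1
    exact (Subgroup.map_eq_bot_iff_of_injective _ (MulAut.conj g).injective).mp h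
  · exact Subgroup.map_equiv_normalizer_eq T (MulAut.conj g)

theorem map_conj_inv_map_conj (M : Subgroup G) (g : G) :
    (M.map (MulAut.conj g).toMonoidHom).map (MulAut.conj g⁻¹).toMonoidHom = M := by
  rw [Subgroup.map_map]
  have : (MulAut.conj g⁻¹).toMonoidHom.comp (MulAut.conj g).toMonoidHom = MonoidHom.id G := by
    ext y
    simp only [MulEquiv.toMonoidHom_eq_coe, MonoidHom.coe_comp, MonoidHom.coe_coe,
      Function.comp_apply, MulAut.conj_apply, MonoidHom.id_apply]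
    group
  rw [this, Subgroup.map_id]

theorem map_conj_map_conj_inv (M : Subgroup G) (g : G) :
    (M.map (MulAut.conj g⁻¹).toMonoidHom).map (MulAut.conj g).toMonoidHom = M := by
  have := map_conj_inv_map_conj M g⁻¹
  rwa [inv_inv] at this

theorem isMaxLoc_map_conj {p : ℕ} {M : Subgroup G} (hM : IsMaxLoc p M) (g : G) :
    IsMaxLoc p (M.map (MulAut.conj g).toMonoidHom) := by
  refine ⟨isLoc_map_conj hM.1 g, ?_⟩
  intro L hL hML
  have h1 : M ≤ L.map (MulAut.conj g⁻¹).toMonoidHom := by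
    have := Subgroup.map_mono (f := (MulAut.conj g⁻¹).toMonoidHom) hML
    rwa [map_conj_inv_map_conj] at this
  have h2 := hM.2 _ (isLoc_map_conj hL g⁻¹) h1
  rw [← h2, map_conj_map_conj_inv]

section main

variable [Finite G] {p : ℕ} [Fact p.Prime]

theorem isCharPSub_of_isLoc (hloc : IsOfLocalCharacteristic p G) {M : Subgroup G}
    (hM : IsLoc p M) : IsCharPSub p M := by
  obtain ⟨T, hT, hT1, rfl⟩ := hM
  exact (isCharPSub_iff _).mp (hloc.2 T hT hT1)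

theorem pCoreOf_ne_bot_of_isLoc {M : Subgroup G} (hM : IsLoc p M) : pCoreOf p M ≠ ⊥ := by
  obtain ⟨T, hT, hT1, rfl⟩ := hM
  intro h
  apply hT1
  have h1 : T ≤ pCoreOf p (Subgroup.normalizer (T : Set G)) :=
    le_pCoreOf Subgroup.le_normalizer le_rfl hT
  rw [h] at h1
  exact le_bot_iff.mp h1

theorem normalizer_pCoreOf_eq {M : Subgroup G} (hM : IsMaxLoc p M) :
    Subgroup.normalizer (pCoreOf p M : Set G) = M :=
  hM.2 _ ⟨pCoreOf p M, pCoreOf_isPGroup M, pCoreOf_ne_bot_of_isLoc hM.1, rfl⟩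
    (le_normalizer_pCoreOf M)

theorem normalizer_eq_self {M : Subgroup G} (hM : IsMaxLoc p M) :
    Subgroup.normalizer (M : Set G) = M :=
  le_antisymm ((normalizer_le_normalizer_pCoreOf M).trans (normalizer_pCoreOf_eq hM).le)
    Subgroup.le_normalizer

theorem normalizer_eq_of_normal (hloc : IsOfLocalCharacteristic p G) {M : Subgroup G}
    (hM : IsMaxLoc p M) {A : Subgroup G} (hA : A ≠ ⊥) (hAM : A ≤ M)
    (hMA : M ≤ Subgroup.normalizer (A : Set G)) : Subgroup.normalizer (A : Set G) = M := by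
  have hcA : IsCharPSub p A := isCharPSub_of_normal hAM hMA (isCharPSub_of_isLoc hloc hM.1)
  have hOA : pCoreOf p A ≠ ⊥ := by
    intro h
    apply hA
    unfold IsCharPSub at hcA
    rw [h] at hcA
    rw [eq_bot_iff]
    intro a ha
    apply hcA
    refine Subgroup.mem_inf.mpr ⟨ha, ?_⟩
    rw [Subgroup.mem_centralizer_iff]
    intro x hx
    have : x = 1 := by simpa using hx
    rw [this, one_mul, mul_one]
  have hL : IsLoc p (Subgroup.normalizer (pCoreOf p A : Set G)) :=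
    ⟨_, pCoreOf_isPGroup A, hOA, rfl⟩
  have h1 : Subgroup.normalizer (A : Set G) ≤ Subgroup.normalizer (pCoreOf p A : Set G) :=
    normalizer_le_normalizer_pCoreOf A
  have h2 := hM.2 _ hL (hMA.trans h1)
  exact le_antisymm (h2 ▸ h1) hMA

theorem pair (hloc : IsOfLocalCharacteristic p G) {M₁ M₂ : Subgroup G} (h1 : IsMaxLoc p M₁)
    (h2 : IsMaxLoc p M₂) (hne : M₁ ≠ M₂) (hO : pCoreOf p M₁ ⊔ pCoreOf p M₂ ≤ M₁ ⊓ M₂) :
    ∃ M₁ M₂ : Subgroup G, M₁ ≠ M₂ ∧ (∀ A : Subgroup G, A ≠ ⊥ → A ≤ M₁ ⊓ M₂ → (M₁ ≤ Subgroup.normalizer (A : Set G) → M₂ ⊓ Subgroup.normalizer (A : Set G) = M₁ ⊓ M₂) ∧ (M₂ ≤ Subgroup.normalizer (A : Set G) → M₁ ⊓ Subgroup.normalizer (A : Set G) = M₁ ⊓ M₂)) ∧ Subgroup.centralizer (Cfsg.pCore p ↥M₁ : Set ↥M₁) ≤ Cfsg.pCore p ↥M₁ ∧ Subgroup.centralizer (Cfsg.pCore p ↥M₂ : Set ↥M₂) ≤ Cfsg.pCore p ↥M₂ ∧ (Cfsg.pCore p ↥M₁).map M₁.subtype ⊔ (Cfsg.pCore p ↥M₂).map M₂.subtype ≤ M₁ ⊓ M₂ := by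
  refine ⟨M₁, M₂, hne, fun A hA hAM => ⟨fun hn => ?_, fun hn => ?_⟩,
    (isCharPSub_iff M₁).mpr (isCharPSub_of_isLoc hloc h1.1),
    (isCharPSub_iff M₂).mpr (isCharPSub_of_isLoc hloc h2.1), hO⟩
  · rw [normalizer_eq_of_normal hloc h1 hA (hAM.trans inf_le_left) hn, inf_comm]
  · rw [normalizer_eq_of_normal hloc h2 hA (hAM.trans inf_le_right) hn]

/-- Normalizers grow in `p`-groups. -/
theorem grow {T T' : Subgroup G} (hT' : IsPGroup p T') (hlt : T < T') :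
    ∃ T₂ : Subgroup G, T < T₂ ∧ T₂ ≤ T' ∧ T₂ ≤ Subgroup.normalizer (T : Set G) := by
  haveI : Group.IsNilpotent ↥T' := hT'.isNilpotent
  have hnc := Group.normalizerCondition_of_isNilpotent (G := ↥T')
  have hlt' : T.subgroupOf T' < ⊤ := by
    rw [lt_top_iff_ne_top]
    intro h
    rw [Subgroup.subgroupOf_eq_top] at h
    exact absurd (le_antisymm hlt.le h) hlt.ne
  have h1 := hnc _ hlt'
  obtain ⟨y, hyN, hyT⟩ := SetLike.exists_of_lt h1
  have hxT : (y : G) ∉ T := fun h => hyT (Subgroup.mem_subgroupOf.mpr h)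
  have hxN : (y : G) ∈ Subgroup.normalizer (T : Set G) := by
    apply Subgroup.mem_normalizer_fintype
    intro t ht
    rw [Subgroup.mem_normalizer_iff] at hyN
    have h2 := (hyN ⟨t, hlt.le ht⟩).mp (Subgroup.mem_subgroupOf.mpr ht)
    rw [Subgroup.mem_subgroupOf] at h2
    simpa using h2
  refine ⟨T ⊔ Subgroup.zpowers (y : G), ?_, ?_, ?_⟩
  · refine lt_of_le_of_ne le_sup_left ?_
    intro h
    apply hxT
    rw [h]
    exact (le_sup_right : Subgroup.zpowers (y : G) ≤ _) (Subgroup.mem_zpowers _)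
  · exact sup_le hlt.le (by rw [Subgroup.zpowers_le]; exact y.2)
  · exact sup_le Subgroup.le_normalizer (by rw [Subgroup.zpowers_le]; exact hxN)

/-- If `T` is a maximal `p`-subgroup of `M` then `O_p(M) ≤ T`. -/
theorem pCoreOf_le_of_max {M T : Subgroup G} (hT : IsPGroup p T) (hTM : T ≤ M)
    (hmax : ¬ ∃ T' : Subgroup G, IsPGroup p T' ∧ T' ≤ M ∧ T < T') : pCoreOf p M ≤ T := by
  by_contra hle
  apply hmax
  refine ⟨T ⊔ pCoreOf p M, ?_, sup_le hTM (pCoreOf_le M), ?_⟩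
  · exact hT.to_sup_of_normal_right' (pCoreOf_isPGroup M) (hTM.trans (le_normalizer_pCoreOf M))
  · refine lt_of_le_of_ne le_sup_left ?_
    intro h
    apply hle
    rw [h]
    exact le_sup_right

theorem pair_of_max {M₂ T T' : Subgroup G} (hM₂ : IsMaxLoc p M₂) (hT : IsPGroup p T)
    (hTM₂ : T ≤ M₂)
    (hmax : ¬ ∃ T' : Subgroup G, IsPGroup p T' ∧ T' ≤ M₂ ∧ T < T')
    (hT' : IsPGroup p T') (hlt : T < T') :
    ∃ M₁ M₂ : Subgroup G, IsMaxLoc p M₁ ∧ IsMaxLoc p M₂ ∧ M₁ ≠ M₂ ∧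
      pCoreOf p M₁ ⊔ pCoreOf p M₂ ≤ M₁ ⊓ M₂ := by
  obtain ⟨T₂, hlt₂, hT₂T', hT₂N⟩ := grow hT' hlt
  obtain ⟨x, hxT₂, hxT⟩ := SetLike.exists_of_lt hlt₂
  have hxN : x ∈ Subgroup.normalizer (T : Set G) := hT₂N hxT₂
  have hxM₂ : x ∉ M₂ := by
    intro hx
    apply hmax
    refine ⟨T ⊔ Subgroup.zpowers x, ?_, sup_le hTM₂ (by rw [Subgroup.zpowers_le]; exact hx), ?_⟩
    · exact hT'.to_le (sup_le hlt.le (by rw [Subgroup.zpowers_le]; exact hT₂T' hxT₂))
    · refine lt_of_le_of_ne le_sup_left ?_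
      intro h
      apply hxT
      rw [h]
      exact (le_sup_right : Subgroup.zpowers x ≤ _) (Subgroup.mem_zpowers _)
  have hne : M₂ ≠ M₂.map (MulAut.conj x).toMonoidHom := by
    intro h
    apply hxM₂
    have := mem_normalizer_of_map_conj_eq h.symm
    rwa [normalizer_eq_self hM₂] at this
  have hTx : T.map (MulAut.conj x).toMonoidHom = T := map_conj_eq_of_mem_normalizer hxN
  have hTx' : T.map (MulAut.conj x⁻¹).toMonoidHom = T :=
    map_conj_eq_of_mem_normalizer (inv_mem hxN)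
  have hTM₂' : T ≤ M₂.map (MulAut.conj x).toMonoidHom := by
    rw [← hTx]
    exact Subgroup.map_mono hTM₂
  have hmax' : ¬ ∃ T' : Subgroup G, IsPGroup p T' ∧ T' ≤ M₂.map (MulAut.conj x).toMonoidHom ∧ T < T' := by
    rintro ⟨T'', hT'', hT''M, hlt''⟩
    apply hmax
    refine ⟨T''.map (MulAut.conj x⁻¹).toMonoidHom, hT''.map _, ?_, ?_⟩
    · have := Subgroup.map_mono (f := (MulAut.conj x⁻¹).toMonoidHom) hT''M
      rwa [map_conj_inv_map_conj] at this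
    · refine lt_of_le_of_ne ?_ ?_
      · rw [← hTx']
        exact Subgroup.map_mono hlt''.le
      · intro h
        apply hlt''.ne
        have h2 := congrArg (Subgroup.map (MulAut.conj x).toMonoidHom) h
        rw [map_conj_map_conj_inv, hTx] at h2
        exact h2
  refine ⟨M₂, M₂.map (MulAut.conj x).toMonoidHom, hM₂, isMaxLoc_map_conj hM₂ x, hne, ?_⟩
  have h1 := pCoreOf_le_of_max hT hTM₂ hmax
  have h2 := pCoreOf_le_of_max hT hTM₂' hmax'
  exact sup_le (h1.trans (le_inf hTM₂ hTM₂')) (h2.trans (le_inf hTM₂ hTM₂'))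

theorem exists_pair
    (hex : ∃ M₁ M₂ : Subgroup G, IsMaxLoc p M₁ ∧ IsMaxLoc p M₂ ∧ M₁ ≠ M₂ ∧
      p ∣ Nat.card ↥(M₁ ⊓ M₂)) :
    ∃ M₁ M₂ : Subgroup G, IsMaxLoc p M₁ ∧ IsMaxLoc p M₂ ∧ M₁ ≠ M₂ ∧
      pCoreOf p M₁ ⊔ pCoreOf p M₂ ≤ M₁ ⊓ M₂ := by
  classical
  let S : Set (Subgroup G × Subgroup G × Subgroup G) :=
    {t | IsMaxLoc p t.1 ∧ IsMaxLoc p t.2.1 ∧ t.1 ≠ t.2.1 ∧ IsPGroup p t.2.2 ∧ t.2.2 ≤ t.1 ⊓ t.2.1}
  have hSfin : S.Finite := Set.toFinite S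
  obtain ⟨N₁, N₂, hN₁, hN₂, hN, hdvd⟩ := hex
  obtain ⟨g, hg⟩ := exists_prime_orderOf_dvd_card' (G := ↥(N₁ ⊓ N₂)) p hdvd
  have hT₀card : Nat.card (Subgroup.zpowers (g : G)) = p := by
    rw [Nat.card_zpowers, Subgroup.orderOf_coe, hg]
  have hT₀ : IsPGroup p (Subgroup.zpowers (g : G)) :=
    IsPGroup.of_card (n := 1) (by rw [hT₀card, pow_one])
  have hSne : S.Nonempty :=
    ⟨(N₁, N₂, Subgroup.zpowers (g : G)), hN₁, hN₂, hN, hT₀, by
      show Subgroup.zpowers (g : G) ≤ N₁ ⊓ N₂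
      rw [Subgroup.zpowers_le]; exact g.2⟩
  obtain ⟨⟨M₁, M₂, T⟩, hmem, hmax⟩ := hSfin.exists_maximalFor (fun t => Nat.card t.2.2) S hSne
  obtain ⟨hM₁, hM₂, hne, hT, hTM⟩ := hmem
  simp only at hM₁ hM₂ hne hT hTM
  have hmax' : ∀ N₁ N₂ T' : Subgroup G, IsMaxLoc p N₁ → IsMaxLoc p N₂ → N₁ ≠ N₂ → IsPGroup p T' →
      T' ≤ N₁ ⊓ N₂ → Nat.card T' ≤ Nat.card T := by
    intro N₁ N₂ T' h1 h2 h3 h4 h5
    rcases le_total (Nat.card T') (Nat.card T) with h | h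
    · exact h
    · exact hmax (j := (N₁, N₂, T')) ⟨h1, h2, h3, h4, h5⟩ h
  have hTcard : p ≤ Nat.card T := by
    have := hmax' N₁ N₂ _ hN₁ hN₂ hN hT₀ (by rw [Subgroup.zpowers_le]; exact g.2)
    rwa [hT₀card] at this
  have hT1 : T ≠ ⊥ := by
    intro h
    rw [h, Subgroup.card_bot] at hTcard
    exact absurd hTcard (by have := (Fact.out : p.Prime).two_le; omega)
  obtain ⟨L, hL, hNL⟩ := exists_maxLoc_ge (p := p) (L := Subgroup.normalizer (T : Set G))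
    ⟨T, hT, hT1, rfl⟩
  -- key claim
  have key : ∀ M M' : Subgroup G, IsMaxLoc p M → T ≤ M →
      (∃ T' : Subgroup G, IsPGroup p T' ∧ T' ≤ M ∧ T < T') → L = M := by
    rintro M M' hM hTM' ⟨T', hT', hT'M, hlt⟩
    by_contra hLM
    obtain ⟨T₂, hlt₂, hT₂T', hT₂N⟩ := grow hT' hlt
    have h1 := hmax' M L T₂ hM hL (Ne.symm hLM) (hT'.to_le hT₂T')
      (le_inf (hT₂T'.trans hT'M) (hT₂N.trans hNL))
    have h2 : Nat.card T < Nat.card T₂ :=
      Set.Finite.card_lt_card (Set.toFinite _) (SetLike.coe_ssubset_coe.mpr hlt₂)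
    omega
  by_cases h1 : ∃ T' : Subgroup G, IsPGroup p T' ∧ T' ≤ M₁ ∧ T < T'
  · by_cases h2 : ∃ T' : Subgroup G, IsPGroup p T' ∧ T' ≤ M₂ ∧ T < T'
    · exact absurd ((key M₁ M₁ hM₁ (hTM.trans inf_le_left) h1).symm.trans
        (key M₂ M₂ hM₂ (hTM.trans inf_le_right) h2)) hne
    · obtain ⟨T', hT', _, hlt⟩ := h1
      exact pair_of_max hM₂ hT (hTM.trans inf_le_right) h2 hT' hlt
  · by_cases h2 : ∃ T' : Subgroup G, IsPGroup p T' ∧ T' ≤ M₂ ∧ T < T'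
    · obtain ⟨T', hT', _, hlt⟩ := h2
      exact pair_of_max hM₁ hT (hTM.trans inf_le_left) h1 hT' hlt
    · refine ⟨M₁, M₂, hM₁, hM₂, hne, ?_⟩
      have h3 := pCoreOf_le_of_max hT (hTM.trans inf_le_left) h1
      have h4 := pCoreOf_le_of_max hT (hTM.trans inf_le_right) h2
      exact sup_le (h3.trans hTM) (h4.trans hTM)

end main

/-- Two distinct subgroups M₁, M₂ of G form a primitive pair when, for {i, j} = {1, 2}, every non-trivial normal subgroup A of M_i contained in M₁ ∩ M₂ satisfies N_{M_j}(A) = M₁ ∩ M₂; the pair has characteristic p when moreover C_{M_i}(O_p(M_i)) ≤ O_p(M_i) for both i and O_p(M₁)O_p(M₂) ≤ M₁ ∩ M₂. Let G be a finite group, p a prime dividing its order, with O_p(G) = 1 and every p-local subgroup of characteristic p. Then either G has a primitive pair of characteristic p, or every maximal p-local subgroup M of G is strongly p-embedded in G: M is a proper subgroup, p divides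 its order, and for every g ∉ M the order of M ∩ gMg⁻¹ is prime to p. -/
theorem result {G : Type*} [Group G] [Finite G] {p : ℕ} [Fact p.Prime] (hloc : Cfsg.IsOfLocalCharacteristic p G) (hOp : Cfsg.pCore p G = ⊥) : (∃ M₁ M₂ : Subgroup G, M₁ ≠ M₂ ∧ (∀ A : Subgroup G, A ≠ ⊥ → A ≤ M₁ ⊓ M₂ → (M₁ ≤ Subgroup.normalizer (A : Set G) → M₂ ⊓ Subgroup.normalizer (A : Set G) = M₁ ⊓ M₂) ∧ (M₂ ≤ Subgroup.normalizer (A : Set G) → M₁ ⊓ Subgroup.normalizer (A : Set G) = M₁ ⊓ M₂)) ∧ Subgroup.centralizer (Cfsg.pCore p ↥M₁ : Set ↥M₁) ≤ Cfsg.pCore p ↥M₁ ∧ Subgroup.centralizer (Cfsg.pCore p ↥M₂ : Set ↥M₂) ≤ Cfsg.pCore p ↥M₂ ∧ (Cfsg.pCore p ↥M₁).map M₁.subtype ⊔ (Cfsg.pCore p ↥M₂).map M₂.subtype ≤ M₁ ⊓ M₂) ∨ (∀ M : Subgroup G, (∃ T : Subgroup G, IsPGroup p T ∧ T ≠ ⊥ ∧ M = Subgroup.normalizer (T : Set G)) → (∀ L : Subgroup G, (∃ T : Subgroup G, IsPGroup p T ∧ T ≠ ⊥ ∧ L = Subgroup.normalizer (T : Set G)) → M ≤ L → L =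 M) → M ≠ ⊤ ∧ p ∣ Nat.card M ∧ ∀ g : G, g ∉ M → ¬ p ∣ Nat.card ↥(M ⊓ M.map (MulAut.conj g).toMonoidHom)) := by
  classical
  by_cases hex : ∃ M₁ M₂ : Subgroup G, IsMaxLoc p M₁ ∧ IsMaxLoc p M₂ ∧ M₁ ≠ M₂ ∧
      p ∣ Nat.card ↥(M₁ ⊓ M₂)
  · left
    obtain ⟨M₁, M₂, h1, h2, hne, hO⟩ := exists_pair hex
    exact pair hloc h1 h2 hne hO
  · right
    intro M hM hMmax
    have hML : IsMaxLoc p M := ⟨hM, hMmax⟩
    obtain ⟨T, hT, hT1, hMT⟩ := hM
    refine ⟨?_, ?_, ?_⟩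
    · intro h
      have hn : T.Normal := by
        rw [← Subgroup.normalizer_eq_top_iff, ← hMT, h]
      apply hT1
      have h2 := Cfsg.Agent.Lib.Helper17.le_pCore hn hT
      rw [hOp] at h2
      exact le_bot_iff.mp h2
    · have hTM : T ≤ M := by rw [hMT]; exact Subgroup.le_normalizer
      have h1 : p ∣ Nat.card T := by
        rcases hT.card_eq_or_dvd with h | h
        · exact absurd (Subgroup.card_eq_one.mp h) hT1
        · exact h
      exact h1.trans (Subgroup.card_dvd_of_le hTM)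
    · intro g hg hdvd
      apply hex
      refine ⟨M, M.map (MulAut.conj g).toMonoidHom, hML, isMaxLoc_map_conj hML g, ?_, hdvd⟩
      intro h
      apply hg
      have h2 := mem_normalizer_of_map_conj_eq h.symm
      rwa [normalizer_eq_self hML] at h2

end Cfsg.Agent.S3751
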