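import Cfsg.Statements.S3752
import Cfsg.Agent.Lib.Helper20.RelSub
import Cfsg.Agent.Lib.Helper17.CoprimeGen

set_option autoImplicit false
open Cfsg
open Cfsg.Agent.Lib.Helper20 Cfsg.Agent.Lib.Helper17

namespace Cfsg.Agent.S3752

variable {G : Type*} [Group G] [Finite G]

/-- Components of `M` and of `D` coincide when `F*(M) ≤ D ≤ M`. -/
theorem isComponentOf_iff_of_gfsOf_le {M D : Subgroup G} (hDM : D ≤ M) (hF : gfsOf M ≤ D)
    (L : Subgroup G) : IsComponentOf L M ↔ IsComponentOf L D := by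
  constructor
  · intro hL
    have hLD : L ≤ D := by
      refine (IsComponentOf.le_layerOf hL).trans (le_trans ?_ hF)
      rw [gfsOf_eq]; exact le_sup_left
    rw [isComponentOf_iff] at hL ⊢
    exact ⟨hL.1.restrict hLD hDM, hL.2⟩
  · intro hL
    have hFn : SnIn (gfsOf M) D := SnIn.of_normal hF (hDM.trans (le_normalizer_gfsOf M))
    have hLF : L ≤ gfsOf M := by
      rcases IsComponentOf.le_or_commutator_eq_bot hL hFn with h | h
      · exact h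
      · have h1 : L ≤ Subgroup.centralizer (gfsOf M : Set G) :=
          Subgroup.commutator_eq_bot_iff_le_centralizer.mp h
        exact (le_inf (hL.1.trans hDM) h1).trans (inf_centralizer_gfsOf_le M)
    rw [isComponentOf_iff] at hL ⊢
    refine ⟨?_, hL.2⟩
    exact (hL.1.restrict hLF hF).trans (SnIn.of_normal (gfsOf_le M) (le_normalizer_gfsOf M))

theorem layerOf_eq_of_gfsOf_le {M D : Subgroup G} (hDM : D ≤ M) (hF : gfsOf M ≤ D) :
    layerOf M = layerOf D := by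
  rw [layerOf_eq_sSup, layerOf_eq_sSup]
  congr 1
  ext L
  exact isComponentOf_iff_of_gfsOf_le hDM hF L

section fitting

open Subgroup
open scoped commutatorElement

variable {M₁ M₂ : Subgroup G}

/-- cores of `M₁`, `M₂` for different primes commute. -/
theorem cores_commute {p q : ℕ} [Fact p.Prime] [Fact q.Prime] (hpq : p ≠ q)
    (h1 : pCoreOf p M₁ ≤ M₂) (h2 : pCoreOf q M₂ ≤ M₁) :
    ∀ x ∈ pCoreOf p M₁, ∀ y ∈ pCoreOf q M₂, x * y = y * x := by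
  apply commute_of_le_normalizer_of_inf_eq_bot
  · exact h1.trans (le_normalizer_pCoreOf M₂)
  · exact h2.trans (le_normalizer_pCoreOf M₁)
  · exact (IsPGroup.disjoint_of_ne p q hpq _ _ (pCoreOf_isPGroup M₁) (pCoreOf_isPGroup M₂)).eq_bot

theorem pCoreOf_eq_bot_of (p : ℕ) [Fact p.Prime] (hD₁ : fitOf M₁ ≤ M₂) (hD₂ : fitOf M₂ ≤ M₁)
    (hC₂ : M₂ ⊓ centralizer (fitOf M₂ : Set G) ≤ fitOf M₂) (h : pCoreOf p M₂ = ⊥) :
    pCoreOf p M₁ = ⊥ := by
  have hP₁F : pCoreOf p M₁ ≤ fitOf M₁ := pCoreOf_le_fitOf M₁ p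
  have hcent : pCoreOf p M₁ ≤ centralizer (fitOf M₂ : Set G) := by
    rw [fitOf_eq_iSup]
    apply le_centralizer_iSup
    intro q
    haveI : Fact (q : ℕ).Prime := ⟨q.2⟩
    by_cases hq : (q : ℕ) = p
    · rw [hq, h]
      intro x _
      rw [mem_centralizer_iff]
      intro y hy
      have : y = 1 := by simpa using hy
      rw [this, one_mul, mul_one]
    · intro x hx
      rw [mem_centralizer_iff]
      intro y hy
      exact (cores_commute (Ne.symm hq) (hP₁F.trans hD₁) ((pCoreOf_le_fitOf M₂ q).trans hD₂)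
        x hx y hy).symm
  have h1 : pCoreOf p M₁ ≤ fitOf M₂ := (le_inf (hP₁F.trans hD₁) hcent).trans hC₂
  have h2 : pCoreOf p M₁ ≤ pCoreOf p (fitOf M₂) :=
    le_pCoreOf h1 (hD₂.trans (le_normalizer_pCoreOf M₁)) (pCoreOf_isPGroup M₁)
  have h3 : pCoreOf p (fitOf M₂) ≤ pCoreOf p M₂ :=
    le_pCoreOf ((pCoreOf_le _).trans (fitOf_le M₂))
      ((le_normalizer_fitOf M₂).trans (normalizer_le_normalizer_pCoreOf _)) (pCoreOf_isPGroup _)
  rw [h] at h3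
  exact le_bot_iff.mp (h2.trans h3)

theorem pCoreOf_le_of_ne {p q : ℕ} [Fact p.Prime] [Fact q.Prime] (hpq : p ≠ q)
    (hD₁ : fitOf M₁ ≤ M₂) (hD₂ : fitOf M₂ ≤ M₁)
    (hC₂ : M₂ ⊓ centralizer (fitOf M₂ : Set G) ≤ fitOf M₂)
    (hN : M₂ ⊓ normalizer (pCoreOf p M₁ : Set G) ≤ M₁) :
    pCoreOf q M₁ ≤ pCoreOf q M₂ := by
  set P₁ := pCoreOf p M₁ with hP₁
  set P₂ := pCoreOf p M₂ with hP₂
  set F₂ := fitOf M₂ with hF₂
  set Q₂ : Subgroup G := ⨆ r : {r : Nat.Primes // (r : ℕ) ≠ p}, pCoreOf ((r : Nat.Primes) : ℕ) M₂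
    with hQ₂
  set Z₂ := F₂ ⊓ centralizer (F₂ : Set G) with hZ₂
  set K₂ := M₂ ⊓ centralizer (P₂ : Set G) with hK₂
  set Y₂ := M₂ ⊓ centralizer (Q₂ : Set G) with hY₂
  have hP₁F : P₁ ≤ fitOf M₁ := pCoreOf_le_fitOf M₁ p
  have hP₁M₂ : P₁ ≤ M₂ := hP₁F.trans hD₁
  have hP₂F : P₂ ≤ F₂ := pCoreOf_le_fitOf M₂ p
  have hQ₂F : Q₂ ≤ F₂ := iSup_le fun r => by
    haveI : Fact ((r : Nat.Primes) : ℕ).Prime := ⟨r.1.2⟩
    exact pCoreOf_le_fitOf M₂ _
  have hF₂le : F₂ ≤ P₂ ⊔ Q₂ := by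
    rw [hF₂, fitOf_eq_iSup]
    apply iSup_le
    intro r
    by_cases hr : (r : ℕ) = p
    · rw [hr]; exact le_sup_left
    · exact le_trans (le_iSup (fun r : {r : Nat.Primes // (r : ℕ) ≠ p} =>
        pCoreOf ((r : Nat.Primes) : ℕ) M₂) ⟨r, hr⟩) le_sup_right
  have hKY : K₂ ⊓ Y₂ ≤ Z₂ := by
    intro x hx
    obtain ⟨hxK, hxY⟩ := mem_inf.mp hx
    obtain ⟨hxM, hxP⟩ := mem_inf.mp hxK
    obtain ⟨_, hxQ⟩ := mem_inf.mp hxY
    have hxF : x ∈ centralizer (F₂ : Set G) := by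
      have h1 : zpowers x ≤ centralizer ((P₂ ⊔ Q₂ : Subgroup G) : Set G) :=
        le_centralizer_sup (by rw [zpowers_le]; exact hxP) (by rw [zpowers_le]; exact hxQ)
      exact centralizer_le (by exact_mod_cast hF₂le) (h1 (mem_zpowers x))
    exact mem_inf.mpr ⟨hC₂ (mem_inf.mpr ⟨hxM, hxF⟩), hxF⟩
  have hM₂K : M₂ ≤ normalizer (K₂ : Set G) := fun m hm =>
    mem_normalizer_inf (le_normalizer hm)
      (normalizer_le_normalizer_centralizer _ (le_normalizer_pCoreOf M₂ hm))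
  have hM₂Q : M₂ ≤ normalizer (Q₂ : Set G) :=
    le_normalizer_iSup _ fun r => le_normalizer_pCoreOf M₂
  have hM₂Y : M₂ ≤ normalizer (Y₂ : Set G) := fun m hm =>
    mem_normalizer_inf (le_normalizer hm) (normalizer_le_normalizer_centralizer _ (hM₂Q hm))
  have hP₁Q : P₁ ≤ centralizer (Q₂ : Set G) := by
    apply le_centralizer_iSup
    intro r
    haveI : Fact ((r : Nat.Primes) : ℕ).Prime := ⟨r.1.2⟩
    intro x hx
    rw [mem_centralizer_iff]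
    intro y hy
    exact (cores_commute (Ne.symm r.2) hP₁M₂ ((pCoreOf_le_fitOf M₂ _).trans hD₂) x hx y hy).symm
  have hP₁Y : P₁ ≤ Y₂ := le_inf hP₁M₂ hP₁Q
  have hZ₂Y : Z₂ ≤ Y₂ := le_inf (inf_le_left.trans (fitOf_le M₂))
    (inf_le_right.trans (centralizer_le (by exact_mod_cast hQ₂F)))
  set W := P₁ ⊔ Z₂ with hW
  have hWY : W ≤ Y₂ := sup_le hP₁Y hZ₂Y
  have hWM₁ : W ≤ M₁ := sup_le (pCoreOf_le M₁) (inf_le_left.trans hD₂)
  have hcomm : ∀ y ∈ Y₂, ∀ k ∈ K₂, y * k * y⁻¹ * k⁻¹ ∈ Z₂ := by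
    intro y hy k hk
    apply hKY
    refine mem_inf.mpr ⟨?_, ?_⟩
    · have := (mem_normalizer_iff.mp (hM₂K (mem_inf.mp hy).1) k).mp hk
      exact K₂.mul_mem this (K₂.inv_mem hk)
    · have := (mem_normalizer_iff.mp (hM₂Y (mem_inf.mp hk).1) y⁻¹).mp (Y₂.inv_mem hy)
      have e : y * k * y⁻¹ * k⁻¹ = y * (k * y⁻¹ * k⁻¹) := by group
      rw [e]; exact Y₂.mul_mem hy this
  have hkW : ∀ k ∈ K₂, k ∈ normalizer (W : Set G) := by
    intro k hk
    apply mem_normalizer_fintype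
    intro w hw
    have h1 := hcomm w (hWY hw) k hk
    have e : k * w * k⁻¹ = (w * k * w⁻¹ * k⁻¹)⁻¹ * w := by group
    rw [e]
    exact W.mul_mem (W.inv_mem ((le_sup_right : Z₂ ≤ W) h1)) hw
  set R := pCoreOf p W with hR
  have hRp : IsPGroup p R := pCoreOf_isPGroup W
  have hP₁R : P₁ ≤ R :=
    le_pCoreOf le_sup_left (hWM₁.trans (le_normalizer_pCoreOf M₁)) (pCoreOf_isPGroup M₁)
  have hkR : ∀ k ∈ K₂, k ∈ normalizer (R : Set G) := fun k hk =>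
    normalizer_le_normalizer_pCoreOf W (hkW k hk)
  have hM₂Z : M₂ ≤ normalizer (Z₂ : Set G) := fun m hm =>
    mem_normalizer_inf (le_normalizer_fitOf M₂ hm)
      (normalizer_le_normalizer_centralizer _ (le_normalizer_fitOf M₂ hm))
  have hBP₂ : R ⊓ Z₂ ≤ P₂ := by
    have h1 : R ⊓ Z₂ ≤ pCoreOf p Z₂ := by
      apply le_pCoreOf inf_le_right _ (hRp.to_inf_left)
      intro z hz
      apply mem_normalizer_fintype
      intro b hb
      have hbF : b ∈ F₂ := (mem_inf.mp (mem_inf.mp hb).2).1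
      have hzC := (mem_inf.mp hz).2
      rw [mem_centralizer_iff] at hzC
      have h3 := hzC b hbF
      have e : z * b * z⁻¹ = b := by rw [← h3]; group
      rw [e]; exact hb
    have h2 : pCoreOf p Z₂ ≤ P₂ :=
      le_pCoreOf ((pCoreOf_le Z₂).trans (inf_le_left.trans (fitOf_le M₂)))
        (hM₂Z.trans (normalizer_le_normalizer_pCoreOf Z₂)) (pCoreOf_isPGroup Z₂)
    exact h1.trans h2
  have hkP₁ : ∀ k ∈ K₂, (orderOf k).Coprime p → k ∈ M₁ := by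
    intro k hk hcop
    have hcent : ∀ x ∈ R, k * x = x * k := by
      apply stability_centralizes hRp hcop (inf_le_left : R ⊓ Z₂ ≤ R)
      · intro x hx
        refine mem_inf.mpr ⟨?_, ?_⟩
        · have := (mem_normalizer_iff.mp (hkR k hk) x⁻¹).mp (R.inv_mem hx)
          rw [commutatorElement_def]
          have e : x * k * x⁻¹ * k⁻¹ = x * (k * x⁻¹ * k⁻¹) := by group
          rw [e]; exact R.mul_mem hx this
        · rw [commutatorElement_def]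
          exact hcomm x (hWY (pCoreOf_le W hx)) k hk
      · intro y hy
        have hyP₂ := hBP₂ hy
        have hkC := (mem_inf.mp hk).2
        rw [mem_centralizer_iff] at hkC
        exact (hkC y hyP₂).symm
    apply hN
    refine mem_inf.mpr ⟨(mem_inf.mp hk).1, ?_⟩
    apply centralizer_le_normalizer
    rw [mem_centralizer_iff]
    intro x hx
    exact (hcent x (hP₁R hx)).symm
  set A := closure {x : G | x ∈ K₂ ∧ (orderOf x).Coprime p} with hA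
  have hAM₁ : A ≤ M₁ := by
    rw [hA, closure_le]
    rintro x ⟨hxK, hxo⟩
    exact hkP₁ x hxK hxo
  have hAM₂ : A ≤ M₂ := by
    rw [hA, closure_le]
    rintro x ⟨hxK, _⟩
    exact (mem_inf.mp hxK).1
  have hM₂A : M₂ ≤ normalizer (A : Set G) :=
    hM₂K.trans (normalizer_le_normalizer_closure_coprime K₂)
  have hQA : pCoreOf q M₁ ≤ A := by
    intro x hx
    apply Subgroup.subset_closure
    refine ⟨mem_inf.mpr ⟨(pCoreOf_le_fitOf M₁ q).trans hD₁ hx, ?_⟩, ?_⟩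
    · rw [mem_centralizer_iff]
      intro y hy
      exact (cores_commute (Ne.symm hpq) ((pCoreOf_le_fitOf M₁ q).trans hD₁) (hP₂F.trans hD₂)
        x hx y hy).symm
    · obtain ⟨n, hn⟩ := (pCoreOf_isPGroup (p := q) M₁) ⟨x, hx⟩
      have h1 : x ^ q ^ n = 1 := by simpa using congrArg Subtype.val hn
      have hdvd : orderOf x ∣ q ^ n := orderOf_dvd_of_pow_eq_one h1
      have hqp : (q ^ n).Coprime p :=
        ((Nat.coprime_primes (Fact.out : q.Prime) (Fact.out : p.Prime)).mpr (Ne.symm hpq)).pow_left n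
      exact Nat.Coprime.coprime_dvd_left hdvd hqp
  have h1 : pCoreOf q M₁ ≤ pCoreOf q A :=
    le_pCoreOf hQA (hAM₁.trans (le_normalizer_pCoreOf M₁)) (pCoreOf_isPGroup M₁)
  have h2 : pCoreOf q A ≤ pCoreOf q M₂ :=
    le_pCoreOf ((pCoreOf_le A).trans hAM₂) (hM₂A.trans (normalizer_le_normalizer_pCoreOf A))
      (pCoreOf_isPGroup A)
  exact h1.trans h2

end fitting

/-- Bender's Theorem on primitive pairs. Two distinct subgroups M₁, M₂ of G form a primitive pair when, for {i, j} = {1, 2}, every non-trivial normal subgroup A of M_i contained in M₁ ∩ M₂ satisfies N_{M_j}(A) = M₁ ∩ M₂; the pair has characteristic p when moreover C_{M_i}(O_p(M_i)) ≤ O_p(M_i) for both i and O_p(M₁)O_p(M₂) ≤ M₁ ∩ M₂. If (M₁, M₂) is a primitive pair of the finite group G with F*(M₁) ≤ M₂ and F*(M₂) ≤ M₁, then for some prime p the pair has characteristic p. -/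
theorem result {G : Type*} [Group G] [Finite G] (M₁ M₂ : Subgroup G) (hne : M₁ ≠ M₂) (hP : ∀ A : Subgroup G, A ≠ ⊥ → A ≤ M₁ ⊓ M₂ → (M₁ ≤ Subgroup.normalizer (A : Set G) → M₂ ⊓ Subgroup.normalizer (A : Set G) = M₁ ⊓ M₂) ∧ (M₂ ≤ Subgroup.normalizer (A : Set G) → M₁ ⊓ Subgroup.normalizer (A : Set G) = M₁ ⊓ M₂)) (h₁ : (Cfsg.generalizedFittingSubgroup ↥M₁).map M₁.subtype ≤ M₂) (h₂ : (Cfsg.generalizedFittingSubgroup ↥M₂).map M₂.subtype ≤ M₁) : ∃ p : ℕ, p.Prime ∧ Subgroup.centralizer (Cfsg.pCore p ↥M₁ : Set ↥M₁) ≤ Cfsg.pCore p ↥M₁ ∧ Subgroup.centralizer (Cfsg.pCore p ↥M₂ : Set ↥M₂) ≤ Cfsg.pCore p ↥M₂ ∧ (Cfsg.pCore p ↥M₁).map M₁.subtype ⊔ (Cfsg.pCore p ↥M₂).map M₂.subtype ≤ M₁ ⊓ M₂ := by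
  classical
  have hPP : ∀ A : Subgroup G, A ≤ M₁ ⊓ M₂ → M₁ ≤ Subgroup.normalizer (A : Set G) →
      M₂ ≤ Subgroup.normalizer (A : Set G) → A = ⊥ := by
    intro A hA h1 h2
    by_contra hA0
    obtain ⟨e1, e2⟩ := hP A hA0 hA
    have e1' := e1 h1
    have e2' := e2 h2
    rw [inf_eq_left.mpr h2] at e1'
    rw [inf_eq_left.mpr h1] at e2'
    exact hne (e2'.trans e1'.symm)
  have h₁' : gfsOf M₁ ≤ M₂ := h₁
  have h₂' : gfsOf M₂ ≤ M₁ := h₂
  have hl₁ : layerOf M₁ = layerOf (M₁ ⊓ M₂) :=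
    layerOf_eq_of_gfsOf_le inf_le_left (le_inf (gfsOf_le M₁) h₁')
  have hl₂ : layerOf M₂ = layerOf (M₁ ⊓ M₂) :=
    layerOf_eq_of_gfsOf_le inf_le_right (le_inf h₂' (gfsOf_le M₂))
  have hE₁ : layerOf M₁ = ⊥ := by
    apply hPP
    · rw [hl₁]; exact layerOf_le _
    · exact le_normalizer_layerOf M₁
    · rw [hl₁, ← hl₂]; exact le_normalizer_layerOf M₂
  have hE₂ : layerOf M₂ = ⊥ := by rw [hl₂, ← hl₁]; exact hE₁
  have hg₁ : gfsOf M₁ = fitOf M₁ := by rw [gfsOf_eq, hE₁, bot_sup_eq]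
  have hg₂ : gfsOf M₂ = fitOf M₂ := by rw [gfsOf_eq, hE₂, bot_sup_eq]
  have hD₁ : fitOf M₁ ≤ M₂ := hg₁ ▸ h₁'
  have hD₂ : fitOf M₂ ≤ M₁ := hg₂ ▸ h₂'
  have hC₁ : M₁ ⊓ Subgroup.centralizer (fitOf M₁ : Set G) ≤ fitOf M₁ := by
    have := inf_centralizer_gfsOf_le M₁
    rwa [hg₁] at this
  have hC₂ : M₂ ⊓ Subgroup.centralizer (fitOf M₂ : Set G) ≤ fitOf M₂ := by
    have := inf_centralizer_gfsOf_le M₂
    rwa [hg₂] at this
  have hbot : ∀ M : Subgroup G, M ⊓ Subgroup.centralizer (fitOf M : Set G) ≤ fitOf M →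
      fitOf M = ⊥ → M = ⊥ := by
    intro M hC h
    rw [h] at hC
    rw [eq_bot_iff]
    intro x hx
    apply hC
    refine Subgroup.mem_inf.mpr ⟨hx, ?_⟩
    rw [Subgroup.mem_centralizer_iff]
    intro y hy
    have : y = 1 := by simpa using hy
    rw [this, one_mul, mul_one]
  have hF₁ : fitOf M₁ ≠ ⊥ := by
    intro h
    have hM₁ : M₁ = ⊥ := hbot M₁ hC₁ h
    have hF₂ : fitOf M₂ = ⊥ := by rw [eq_bot_iff, ← hM₁]; exact hD₂
    have hM₂ : M₂ = ⊥ := hbot M₂ hC₂ hF₂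
    exact hne (hM₁.trans hM₂.symm)
  obtain ⟨p, hp⟩ : ∃ p : Nat.Primes, pCoreOf (p : ℕ) M₁ ≠ ⊥ := by
    by_contra hcon
    push Not at hcon
    apply hF₁
    rw [fitOf_eq_iSup]
    simp [hcon]
  haveI : Fact (p : ℕ).Prime := ⟨p.2⟩
  have hp₂ : pCoreOf (p : ℕ) M₂ ≠ ⊥ := fun h => hp (pCoreOf_eq_bot_of (p : ℕ) hD₁ hD₂ hC₂ h)
  have hN₁ : M₂ ⊓ Subgroup.normalizer (pCoreOf (p : ℕ) M₁ : Set G) ≤ M₁ := by
    have := (hP _ hp (le_inf (pCoreOf_le M₁) ((pCoreOf_le_fitOf M₁ (p : ℕ)).trans hD₁))).1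
      (le_normalizer_pCoreOf M₁)
    rw [this]; exact inf_le_left
  have hN₂ : M₁ ⊓ Subgroup.normalizer (pCoreOf (p : ℕ) M₂ : Set G) ≤ M₂ := by
    have := (hP _ hp₂ (le_inf ((pCoreOf_le_fitOf M₂ (p : ℕ)).trans hD₂) (pCoreOf_le M₂))).2
      (le_normalizer_pCoreOf M₂)
    rw [this]; exact inf_le_right
  have hother : ∀ q : Nat.Primes, (q : ℕ) ≠ (p : ℕ) →
      pCoreOf (q : ℕ) M₁ = ⊥ ∧ pCoreOf (q : ℕ) M₂ = ⊥ := by
    intro q hq
    haveI : Fact (q : ℕ).Prime := ⟨q.2⟩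
    have e : pCoreOf (q : ℕ) M₁ = pCoreOf (q : ℕ) M₂ :=
      le_antisymm (pCoreOf_le_of_ne (Ne.symm hq) hD₁ hD₂ hC₂ hN₁)
        (pCoreOf_le_of_ne (Ne.symm hq) hD₂ hD₁ hC₁ hN₂)
    have h0 : pCoreOf (q : ℕ) M₁ = ⊥ := by
      apply hPP
      · exact le_inf (pCoreOf_le M₁) ((pCoreOf_le_fitOf M₁ (q : ℕ)).trans hD₁)
      · exact le_normalizer_pCoreOf M₁
      · rw [e]; exact le_normalizer_pCoreOf M₂
    exact ⟨h0, e ▸ h0⟩
  have hfit₁ : fitOf M₁ = pCoreOf (p : ℕ) M₁ := by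
    apply le_antisymm
    · rw [fitOf_eq_iSup]
      apply iSup_le
      intro q
      by_cases hq : (q : ℕ) = (p : ℕ)
      · rw [hq]
      · rw [(hother q hq).1]; exact bot_le
    · exact pCoreOf_le_fitOf M₁ (p : ℕ)
  have hfit₂ : fitOf M₂ = pCoreOf (p : ℕ) M₂ := by
    apply le_antisymm
    · rw [fitOf_eq_iSup]
      apply iSup_le
      intro q
      by_cases hq : (q : ℕ) = (p : ℕ)
      · rw [hq]
      · rw [(hother q hq).2]; exact bot_le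
    · exact pCoreOf_le_fitOf M₂ (p : ℕ)
  refine ⟨(p : ℕ), p.2, (isCharPSub_iff M₁).mpr ?_, (isCharPSub_iff M₂).mpr ?_, ?_⟩
  · unfold IsCharPSub
    rw [← hfit₁]; exact hC₁
  · unfold IsCharPSub
    rw [← hfit₂]; exact hC₂
  · exact sup_le (le_inf (pCoreOf_le M₁) ((pCoreOf_le_fitOf M₁ (p : ℕ)).trans hD₁))
      (le_inf ((pCoreOf_le_fitOf M₂ (p : ℕ)).trans hD₂) (pCoreOf_le M₂))

end Cfsg.Agent.S3752
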