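import Cfsg.Statements.S3753
import Cfsg.Agent.Lib.Helper18.PrimPairB

set_option autoImplicit false
open Cfsg

namespace Cfsg.Agent.S3753

/-- Two distinct subgroups M₁, M₂ of G form a primitive pair when, for {i, j} = {1, 2}, every non-trivial normal subgroup A of M_i contained in M₁ ∩ M₂ satisfies N_{M_j}(A) = M₁ ∩ M₂; the pair has characteristic p when moreover C_{M_i}(O_p(M_i)) ≤ O_p(M_i) for both i and O_p(M₁)O_p(M₂) ≤ M₁ ∩ M₂. If the finite group G has a primitive pair (M₁, M₂) of characteristic p for some prime p, then M₁ or M₂ has non-abelian Sylow 2-subgroups. In particular no group of odd order has a primitive pair of characteristic p. -/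
theorem result {G : Type*} [Group G] [Finite G] {p : ℕ} [Fact p.Prime] (M₁ M₂ : Subgroup G) (hne : M₁ ≠ M₂) (hP : ∀ A : Subgroup G, A ≠ ⊥ → A ≤ M₁ ⊓ M₂ → (M₁ ≤ Subgroup.normalizer (A : Set G) → M₂ ⊓ Subgroup.normalizer (A : Set G) = M₁ ⊓ M₂) ∧ (M₂ ≤ Subgroup.normalizer (A : Set G) → M₁ ⊓ Subgroup.normalizer (A : Set G) = M₁ ⊓ M₂)) (hc₁ : Subgroup.centralizer (Cfsg.pCore p ↥M₁ : Set ↥M₁) ≤ Cfsg.pCore p ↥M₁) (hc₂ : Subgroup.centralizer (Cfsg.pCore p ↥M₂ : Set ↥M₂) ≤ Cfsg.pCore p ↥M₂) (hO : (Cfsg.pCore p ↥M₁).map M₁.subtype ⊔ (Cfsg.pCore p ↥M₂).map M₂.subtype ≤ M₁ ⊓ M₂) : (∃ S : Sylow 2 ↥M₁, ¬ IsMulCommutative (S : Subgroup ↥M₁)) ∨ (∃ S : Sylow 2 ↥M₂, ¬ IsMulCommutative (S : Subgroup ↥M₂)) := by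
  classical
  by_contra hcon
  push Not at hcon
  obtain ⟨hs₁, hs₂⟩ := hcon
  have hab₁ : Cfsg.Agent.Lib.Helper18.PrimPair.TwoAb ↥M₁ :=
    Cfsg.Agent.Lib.Helper18.PrimPair.twoAb_of_sylow hs₁
  have hab₂ : Cfsg.Agent.Lib.Helper18.PrimPair.TwoAb ↥M₂ :=
    Cfsg.Agent.Lib.Helper18.PrimPair.twoAb_of_sylow hs₂
  -- closing argument: a common non-trivial normal subgroup inside `M₁ ⊓ M₂`
  have hclose : ∀ A : Subgroup G, A ≠ ⊥ → A ≤ M₁ ⊓ M₂ → M₁ ≤ Subgroup.normalizer (A : Set G) →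
      M₂ ≤ Subgroup.normalizer (A : Set G) → False := by
    intro A hA hAD hn₁ hn₂
    obtain ⟨h1, h2⟩ := hP A hA hAD
    have e1 := h1 hn₁
    have e2 := h2 hn₂
    rw [inf_of_le_left hn₂] at e1
    rw [inf_of_le_left hn₁] at e2
    apply hne
    apply le_antisymm
    · rw [e2]; exact inf_le_right
    · rw [e1]; exact inf_le_left
  have hQ₁D : (Cfsg.pCore p ↥M₁).map M₁.subtype ≤ M₁ ⊓ M₂ := le_sup_left.trans hO
  have hQ₂D : (Cfsg.pCore p ↥M₂).map M₂.subtype ≤ M₁ ⊓ M₂ := le_sup_right.trans hO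
  -- `O_p(M₁) ≠ 1`
  have hQ₁ne : (Cfsg.pCore p ↥M₁).map M₁.subtype ≠ ⊥ := by
    intro h
    have hM₁ : M₁ = ⊥ := Cfsg.Agent.Lib.Helper18.PrimPair.eq_bot_of_pCore_map_eq_bot M₁ hc₁ h
    have h2 : (Cfsg.pCore p ↥M₂).map M₂.subtype = ⊥ := by
      apply le_bot_iff.mp
      refine hQ₂D.trans ?_
      rw [hM₁]
      exact inf_le_left
    have hM₂ : M₂ = ⊥ := Cfsg.Agent.Lib.Helper18.PrimPair.eq_bot_of_pCore_map_eq_bot M₂ hc₂ h2
    exact hne (hM₁.trans hM₂.symm)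
  have hQ₁p : IsPGroup p ↥((Cfsg.pCore p ↥M₁).map M₁.subtype) :=
    (Cfsg.H5.pCore_isPGroup p ↥M₁).map _
  have hQ₂p : IsPGroup p ↥((Cfsg.pCore p ↥M₂).map M₂.subtype) :=
    (Cfsg.H5.pCore_isPGroup p ↥M₂).map _
  rcases eq_or_ne p 2 with rfl | hp
  · -- `p = 2`: `O_2(M₁) = O_2(M₂)`
    have h12 : (Cfsg.pCore 2 ↥M₁).map M₁.subtype ≤ (Cfsg.pCore 2 ↥M₂).map M₂.subtype :=
      Cfsg.Agent.Lib.Helper18.PrimPair.two_subgroup_le_pCore M₂ hab₂ hc₂ _ hQ₁p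
        (hQ₁D.trans inf_le_right)
    have h21 : (Cfsg.pCore 2 ↥M₂).map M₂.subtype ≤ (Cfsg.pCore 2 ↥M₁).map M₁.subtype :=
      Cfsg.Agent.Lib.Helper18.PrimPair.two_subgroup_le_pCore M₁ hab₁ hc₁ _ hQ₂p
        (hQ₂D.trans inf_le_left)
    have heq := le_antisymm h12 h21
    refine hclose _ hQ₁ne hQ₁D (Cfsg.Agent.Lib.Helper18.PrimPair.le_normalizer_pCore_map M₁) ?_
    rw [heq]
    exact Cfsg.Agent.Lib.Helper18.PrimPair.le_normalizer_pCore_map M₂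
  · -- `p` odd: the `K`-infinity subgroups of `O_p(M₁)` and `O_p(M₂)` coincide
    have hst₁ : Cfsg.H5.KI.Stab p ↥M₁ := Cfsg.Agent.Lib.Helper18.PrimPair.stab_of_twoAb hp hab₁
    have hst₂ : Cfsg.H5.KI.Stab p ↥M₂ := Cfsg.Agent.Lib.Helper18.PrimPair.stab_of_twoAb hp hab₂
    have e₁ := Cfsg.Agent.Lib.Helper18.PrimPair.kLow_eq_of_le_local M₁ hst₁ hc₁
      ((Cfsg.pCore p ↥M₁).map M₁.subtype ⊔ (Cfsg.pCore p ↥M₂).map M₂.subtype) le_sup_left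
      (hO.trans inf_le_left)
    have e₂ := Cfsg.Agent.Lib.Helper18.PrimPair.kLow_eq_of_le_local M₂ hst₂ hc₂
      ((Cfsg.pCore p ↥M₁).map M₁.subtype ⊔ (Cfsg.pCore p ↥M₂).map M₂.subtype) le_sup_right
      (hO.trans inf_le_right)
    refine hclose (Cfsg.H5.KI.kLow ((Cfsg.pCore p ↥M₁).map M₁.subtype))
      (Cfsg.Agent.Lib.Helper18.PrimPair.kLow_ne_bot hQ₁p hQ₁ne)
      ((Cfsg.H5.KI.kLow_le _).trans hQ₁D)
      (Cfsg.Agent.Lib.Helper18.PrimPair.le_normalizer_kLow_pCore M₁) ?_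
    rw [← e₁, e₂]
    exact Cfsg.Agent.Lib.Helper18.PrimPair.le_normalizer_kLow_pCore M₂

end Cfsg.Agent.S3753
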