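import Cfsg.Statements.S3754
import Cfsg.Agent.Lib.Helper12.Generation
import Cfsg.Agent.Lib.Helper17.CoprimeGen
import Cfsg.Agent.Lib.Helper17.PResidual
import Cfsg.Agent.Lib.Helper17.CharP
import Cfsg.Agent.H5.PSolvable2
import Cfsg.Agent.Lib.Helper1.Frattini
import Cfsg.Agent.Lib.Helper1.ThompsonNPC

set_option autoImplicit false
open Cfsg

namespace Cfsg.Agent.S3754

open Subgroup
open scoped commutatorElement

section partA

variable {G : Type*} [Group G] [Finite G] {p : ℕ} [hp : Fact p.Prime]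

omit [Finite G] hp in
/-- An element of `p`-power order in a `p'`-group is trivial. -/
theorem eq_one_of_pow_of_coprime {K : Subgroup G} (hK : (Nat.card K).Coprime p) {g : G}
    (hgK : g ∈ K) {n : ℕ} (hg : g ^ p ^ n = 1) : g = 1 := by
  have h1 : orderOf g ∣ p ^ n := orderOf_dvd_of_pow_eq_one hg
  have h2 : orderOf g ∣ Nat.card K := Subgroup.orderOf_dvd_natCard K hgK
  have h3 : (orderOf g).Coprime (orderOf g) :=
    Nat.Coprime.coprime_dvd_left h2 (Nat.Coprime.coprime_dvd_right h1 (hK.pow_right n))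
  rw [Nat.coprime_self] at h3
  exact orderOf_eq_one_iff.mp h3

/-- The hyperplane data: `E` elementary abelian acting faithfully on the `p'`-group `K`. -/
theorem exists_cohyper_data {K E : Subgroup G} [hKn : K.Normal] (hKp : (Nat.card K).Coprime p)
    (hCK : centralizer (K : Set G) ≤ K)
    (hcomm : ∀ x ∈ E, ∀ y ∈ E, x * y = y * x) (hexp : ∀ x ∈ E, x ^ p = 1) (hne : E ≠ ⊥) :
    ∃ D : Subgroup G, D ≤ E ∧ D.relIndex E = p ∧
      ∃ e ∈ E, ∃ y ∈ K, y ∈ centralizer (D : Set G) ∧ y * e ≠ e * y := by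
  have hEK : ∀ g ∈ E, g ∈ K → g = 1 := fun g hgE hgK =>
    eq_one_of_pow_of_coprime hKp hgK (n := 1) (by rw [pow_one]; exact hexp g hgE)
  have hnc : ¬ K ≤ centralizer (E : Set G) := by
    intro h
    apply hne
    rw [eq_bot_iff]
    intro g hg
    rw [Subgroup.mem_bot]
    apply hEK g hg
    apply hCK
    rw [Subgroup.mem_centralizer_iff]
    intro k hk
    exact ((Subgroup.mem_centralizer_iff.mp (h hk)) g hg).symm
  have hpK : ¬ p ∣ Nat.card K := fun h =>
    hp.out.ne_one (Nat.Coprime.eq_one_of_dvd hKp.symm h)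
  have hgen := Cfsg.Agent.Lib.Helper12.le_iSup_inf_centralizer_cohyper (p := p) hcomm hexp _ K rfl
    (by rw [Subgroup.normalizer_eq_top]; exact le_top) hpK
  have hex : ∃ D : {D : Subgroup G // Cfsg.Agent.Lib.Helper12.IsCohyper E D},
      ¬ (K ⊓ centralizer (D.1 : Set G) ≤ centralizer (E : Set G)) := by
    by_contra hcon
    push Not at hcon
    exact hnc (hgen.trans (iSup_le hcon))
  obtain ⟨⟨D, hDE, e, he, hsup⟩, hD⟩ := hex
  obtain ⟨y, hy, hyE⟩ := SetLike.not_le_iff_exists.mp hD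
  obtain ⟨hyK, hyD⟩ := Subgroup.mem_inf.mp hy
  have hyD' : ∀ d ∈ D, d * y = y * d := Subgroup.mem_centralizer_iff.mp hyD
  have hye : y * e ≠ e * y := by
    intro hcomm_ye
    apply hyE
    rw [Subgroup.mem_centralizer_iff]
    intro a ha
    have hle : E ≤ centralizer ({y} : Set G) := by
      rw [← hsup]
      refine sup_le ?_ ?_
      · intro d hd
        rw [Subgroup.mem_centralizer_singleton_iff]
        exact hyD' d hd
      · rw [Subgroup.zpowers_le, Subgroup.mem_centralizer_singleton_iff]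
        exact hcomm_ye.symm
    exact Subgroup.mem_centralizer_singleton_iff.mp (hle ha)
  have hidx_le : D.relIndex E ≤ p :=
    Cfsg.Agent.Lib.Helper12.relIndex_le_of_isCohyper hcomm hexp hp.out.pos ⟨hDE, e, he, hsup⟩
  have hidx_ne : D.relIndex E ≠ 1 := by
    intro h
    rw [Subgroup.relIndex_eq_one] at h
    exact hye (hyD' e (h he)).symm
  have hEp : IsPGroup p E := fun g =>
    ⟨1, by rw [pow_one]; exact Subtype.ext (by simpa using hexp g g.2)⟩
  obtain ⟨n, hn⟩ := IsPGroup.iff_card.mp hEp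
  have hdvd : D.relIndex E ∣ p ^ n := by rw [← hn]; exact Subgroup.relIndex_dvd_card D E
  obtain ⟨j, -, hj⟩ := (Nat.dvd_prime_pow hp.out).mp hdvd
  have hj1 : j = 1 := by
    rcases j with _ | _ | j
    · exact absurd (by rw [hj, pow_zero]) hidx_ne
    · rfl
    · exfalso
      rw [hj] at hidx_le
      have h1 : p ^ 2 ≤ p ^ (j + 1 + 1) := Nat.pow_le_pow_right hp.out.pos (by omega)
      have h2 : 2 ≤ p := hp.out.two_le
      nlinarith
  exact ⟨D, hDE, by rw [hj, hj1, pow_one], e, he, y, hyK, hyD, hye⟩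

end partA

section core

variable {M Mb : Type*} [Group M] [Group Mb] [Finite M] [Finite Mb] {p : ℕ} [hp : Fact p.Prime]

/-- The `p'`-part of a lift. -/
theorem exists_pow_coprime (π : M →* Mb) (hker : IsPGroup p π.ker) (c : M)
    (hc : (orderOf (π c)).Coprime p) :
    ∃ k : ℕ, (orderOf (c ^ k)).Coprime p ∧ π (c ^ k) = π c := by
  obtain ⟨r, hr⟩ := IsPGroup.iff_card.mp hker
  obtain ⟨m, hm⟩ : ∃ m, m = orderOf (π c) := ⟨_, rfl⟩
  have hcm : c ^ m ∈ π.ker := by
    rw [MonoidHom.mem_ker, map_pow, hm, pow_orderOf_eq_one]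
  have hcm' : (c ^ m) ^ (p ^ r) = 1 := by
    have h := pow_card_eq_one' (G := π.ker) (x := ⟨c ^ m, hcm⟩)
    rw [hr] at h
    have h2 := congrArg Subtype.val h
    simpa using h2
  rcases Nat.lt_or_ge 1 m with hlt | hle
  · have hcop : Nat.Coprime (p ^ r) m := by
      rw [hm]; exact (Nat.Coprime.pow_right r hc).symm
    obtain ⟨u, -, hu⟩ := Nat.exists_mul_mod_eq_one_of_coprime hcop hlt
    refine ⟨p ^ r * u, ?_, ?_⟩
    · have h1 : (c ^ (p ^ r * u)) ^ m = 1 := by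
        rw [← pow_mul, mul_comm (p ^ r * u) m, ← mul_assoc, pow_mul, pow_mul, hcm', one_pow]
      exact Nat.Coprime.coprime_dvd_left (orderOf_dvd_of_pow_eq_one h1) (hm ▸ hc)
    · rw [map_pow, ← pow_mod_orderOf, ← hm, hu, pow_one]
  · have hm1 : m = 1 := by
      have := orderOf_pos (π c)
      omega
    have hπc : π c = 1 := orderOf_eq_one_iff.mp (hm ▸ hm1)
    refine ⟨0, by simp, ?_⟩
    rw [pow_zero, map_one, hπc]

/-- `L_x = ⟨A, A^x⟩`. -/
def LL (A : Subgroup M) (x : M) : Subgroup M := A ⊔ A.map (MulAut.conj x).toMonoidHom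

omit [Finite M] in
theorem le_LL (A : Subgroup M) (x : M) : A ≤ LL A x := le_sup_left

omit [Finite M] in
theorem conj_mem_LL (A : Subgroup M) (x : M) {a : M} (ha : a ∈ A) : x * a * x⁻¹ ∈ LL A x :=
  (le_sup_right : A.map (MulAut.conj x).toMonoidHom ≤ LL A x) ⟨a, ha, rfl⟩

omit [Finite M] in
theorem LL_le {A H : Subgroup M} {x : M} (hA : A ≤ H) (hx : x ∈ H) : LL A x ≤ H := by
  refine sup_le hA ?_
  rintro _ ⟨a, ha, rfl⟩
  exact H.mul_mem (H.mul_mem hx (hA ha)) (H.inv_mem hx)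

/-- the admissible conjugators -/
def XX (π : M →* Mb) (K D : Subgroup Mb) (e : Mb) : Set M :=
  {x | π x ∈ K ∧ π x ∈ centralizer (D : Set Mb) ∧ π x * e ≠ e * π x}

theorem exists_good (π : M →* Mb) (hker : IsPGroup p π.ker) {K D : Subgroup Mb} [hKn : K.Normal]
    (hKp : (Nat.card K).Coprime p) {A : Subgroup M} {e : Mb} (he : e ∈ A.map π)
    (hep : e ^ p = 1) (hDe : e ∈ centralizer (D : Set Mb)) (hne : (XX π K D e).Nonempty) :
    ∃ y ∈ XX π K D e, y ∈ LL A y ∧ (orderOf y).Coprime p := by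
  obtain ⟨x, hxX, hxmin⟩ := Set.exists_min_image (XX π K D e) (fun x => Nat.card (LL A x))
    (Set.toFinite _) hne
  obtain ⟨e₀, he₀A, rfl⟩ := he
  obtain ⟨hxK, hxD, hxe⟩ := hxX
  obtain ⟨c, hc⟩ : ∃ c, c = x * e₀ * x⁻¹ * e₀⁻¹ := ⟨_, rfl⟩
  have hcL : c ∈ LL A x := by
    rw [hc]
    exact (LL A x).mul_mem (conj_mem_LL A x he₀A) ((LL A x).inv_mem (le_LL A x he₀A))
  have hπc : π c = π x * π e₀ * (π x)⁻¹ * (π e₀)⁻¹ := by
    rw [hc, map_mul, map_mul, map_mul, map_inv, map_inv]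
  have hcK : π c ∈ K := by
    rw [hπc]
    have h1 : π e₀ * (π x)⁻¹ * (π e₀)⁻¹ ∈ K := hKn.conj_mem _ (K.inv_mem hxK) _
    have h2 : π x * π e₀ * (π x)⁻¹ * (π e₀)⁻¹ = π x * (π e₀ * (π x)⁻¹ * (π e₀)⁻¹) := by group
    rw [h2]; exact K.mul_mem hxK h1
  have hcD : π c ∈ centralizer (D : Set Mb) := by
    rw [hπc]
    exact Subgroup.mul_mem _ (Subgroup.mul_mem _ (Subgroup.mul_mem _ hxD hDe)
      (Subgroup.inv_mem _ hxD)) (Subgroup.inv_mem _ hDe)
  have hce : π c * π e₀ ≠ π e₀ * π c := by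
    intro hcomm
    have h1 : π x * π e₀ * (π x)⁻¹ = π c * π e₀ := by rw [hπc]; group
    have h2 : (π c * π e₀) ^ p = (π c) ^ p := by
      rw [(show Commute (π c) (π e₀) from hcomm).mul_pow, hep, mul_one]
    have h3 : (π x * π e₀ * (π x)⁻¹) ^ p = 1 := by
      rw [conj_pow, hep, mul_one, mul_inv_cancel]
    rw [h1, h2] at h3
    have h4 : π c = 1 :=
      eq_one_of_pow_of_coprime hKp hcK (n := 1) (by rw [pow_one]; exact h3)
    apply hxe
    rw [hπc] at h4
    have h5 := mul_inv_eq_one.mp h4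
    exact mul_inv_eq_iff_eq_mul.mp h5
  have hcop : (orderOf (π c)).Coprime p :=
    Nat.Coprime.coprime_dvd_left (Subgroup.orderOf_dvd_natCard K hcK) hKp
  obtain ⟨k, hk1, hk2⟩ := exists_pow_coprime π hker c hcop
  have hyX : c ^ k ∈ XX π K D (π e₀) := by
    show π (c ^ k) ∈ K ∧ π (c ^ k) ∈ centralizer (D : Set Mb) ∧
      π (c ^ k) * π e₀ ≠ π e₀ * π (c ^ k)
    rw [hk2]
    exact ⟨hcK, hcD, hce⟩
  have hyLx : c ^ k ∈ LL A x := (LL A x).pow_mem hcL k
  have hle : LL A (c ^ k) ≤ LL A x := LL_le (le_LL A x) hyLx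
  have heq : LL A (c ^ k) = LL A x := Subgroup.eq_of_le_of_card_ge hle (hxmin _ hyX)
  exact ⟨c ^ k, hyX, by rw [heq]; exact hyLx, hk1⟩

omit [Finite M] hp in
theorem mem_res {L : Subgroup M} {g : M} (hg : g ∈ L) (hc : (orderOf g).Coprime p) :
    g ∈ (pResidual p ↥L).map L.subtype := by
  rw [Cfsg.Agent.Lib.Helper17.map_subtype_pResidual]
  exact Subgroup.subset_closure ⟨hg, hc⟩

theorem res_le {A L N : Subgroup M} (hA : IsPGroup p A) (hAN : A ≤ normalizer (N : Set M))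
    (hL : L ≤ N ⊔ A) : (pResidual p ↥L).map L.subtype ≤ N := by
  rw [Cfsg.Agent.Lib.Helper17.map_subtype_pResidual, Subgroup.closure_le]
  rintro g ⟨hgL, hgc⟩
  exact Cfsg.Agent.Lib.Helper17.mem_of_coprime_of_mem_sup_pgroup hA hAN (hL hgL) hgc

theorem res_comm {A : Subgroup M} (hA : IsPGroup p A) {y : M}
    (hy : y ∈ (pResidual p ↥(LL A y)).map (LL A y).subtype) :
    ⁅(pResidual p ↥(LL A y)).map (LL A y).subtype, A⁆ =
      (pResidual p ↥(LL A y)).map (LL A y).subtype := by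
  obtain ⟨L, hL⟩ : ∃ L, L = LL A y := ⟨_, rfl⟩
  rw [← hL] at hy ⊢
  obtain ⟨R, hR⟩ : ∃ R, R = (pResidual p ↥L).map L.subtype := ⟨_, rfl⟩
  rw [← hR] at hy ⊢
  have hAL : A ≤ L := hL ▸ le_LL A y
  have hnorm : L ≤ normalizer (R : Set M) := by
    rw [hR, Cfsg.Agent.Lib.Helper17.map_subtype_pResidual]
    exact Subgroup.le_normalizer.trans
      (Cfsg.Agent.Lib.Helper17.normalizer_le_normalizer_closure_coprime L)
  apply le_antisymm
  · rw [Subgroup.commutator_le]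
    intro r hr a ha
    have h1 : a * r⁻¹ * a⁻¹ ∈ R :=
      (Subgroup.mem_normalizer_iff.mp (hnorm (hAL ha)) r⁻¹).mp (R.inv_mem hr)
    have h2 : ⁅r, a⁆ = r * (a * r⁻¹ * a⁻¹) := by
      rw [commutatorElement_def]; group
    rw [h2]
    exact R.mul_mem hr h1
  · rw [hR]
    apply res_le hA (Cfsg.Agent.Lib.Helper17.le_normalizer_commutator_right _ A)
    rw [← hR, hL]
    refine sup_le le_sup_right ?_
    rintro _ ⟨a, ha, rfl⟩
    have h2 : (MulAut.conj y).toMonoidHom a = ⁅y, a⁆ * a := by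
      show y * a * y⁻¹ = ⁅y, a⁆ * a
      rw [commutatorElement_def]; group
    rw [h2]
    refine Subgroup.mul_mem _ (Subgroup.mem_sup_left ?_) (Subgroup.mem_sup_right ha)
    exact Subgroup.commutator_mem_commutator hy ha

omit [Finite Mb] in
theorem inf_pCoreOf_eq (π : M →* Mb) (hker : IsPGroup p π.ker) {K D : Subgroup Mb}
    [hKn : K.Normal] (hKp : (Nat.card K).Coprime p) {A : Subgroup M} {e : Mb}
    (hexp : ∀ x ∈ A.map π, x ^ p = 1)
    (hDE : D ≤ A.map π) (hidx : D.relIndex (A.map π) = p) (he : e ∈ A.map π)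
    {y : M} (hy : y ∈ XX π K D e) {L : Subgroup M} (hAL : A ≤ L) (hyL : y ∈ L)
    (hLC : L ≤ (centralizer (D : Set Mb)).comap π) :
    A ⊓ pCoreOf p L = A ⊓ D.comap π := by
  obtain ⟨hyK, hyD, hye⟩ := hy
  have hyD' : ∀ d ∈ D, d * π y = π y * d := Subgroup.mem_centralizer_iff.mp hyD
  apply le_antisymm
  · rintro a ⟨haA, haO⟩
    refine ⟨haA, ?_⟩
    show π a ∈ D
    by_contra hnD
    have haO' : a ∈ pCoreOf p L := haO
    -- `π a` commutes with `π y`
    have hcomm_ay : π a * π y = π y * π a := by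
      have hyN : y ∈ normalizer ((pCoreOf p L : Subgroup M) : Set M) :=
        Cfsg.Agent.Lib.Helper17.le_normalizer_pCoreOf L hyL
      have h1 : y * a⁻¹ * y⁻¹ ∈ pCoreOf p L :=
        (Subgroup.mem_normalizer_iff.mp hyN a⁻¹).mp (Subgroup.inv_mem _ haO')
      have h2 : ⁅a, y⁆ ∈ pCoreOf p L := by
        have h3 : ⁅a, y⁆ = a * (y * a⁻¹ * y⁻¹) := by
          rw [commutatorElement_def]; group
        rw [h3]; exact Subgroup.mul_mem _ haO' h1
      have hO : IsPGroup p (pCoreOf p L) := Cfsg.Agent.Lib.Helper17.pCoreOf_isPGroup L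
      obtain ⟨n, hn⟩ := hO ⟨⁅a, y⁆, h2⟩
      have hn' : ⁅a, y⁆ ^ p ^ n = 1 := by
        have := congrArg Subtype.val hn
        simpa using this
      have h4 : π ⁅a, y⁆ ∈ K := by
        rw [map_commutatorElement, commutatorElement_def]
        exact K.mul_mem (hKn.conj_mem _ hyK _) (K.inv_mem hyK)
      have h5 : π ⁅a, y⁆ = 1 :=
        eq_one_of_pow_of_coprime hKp h4 (n := n) (by rw [← map_pow, hn', map_one])
      rw [map_commutatorElement] at h5
      exact commutatorElement_eq_one_iff_mul_comm.mp h5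
    obtain ⟨F, hF⟩ : ∃ F, F = A.map π ⊓ centralizer ({π y} : Set Mb) := ⟨_, rfl⟩
    have hDF : D ≤ F := by
      rw [hF]
      refine le_inf hDE ?_
      intro d hd
      rw [Subgroup.mem_centralizer_singleton_iff]
      exact hyD' d hd
    have hFE : F ≤ A.map π := by rw [hF]; exact inf_le_left
    have haF : π a ∈ F := by
      rw [hF]
      exact Subgroup.mem_inf.mpr ⟨Subgroup.mem_map_of_mem π haA,
        Subgroup.mem_centralizer_singleton_iff.mpr hcomm_ay⟩
    have h1 : D.relIndex F * F.relIndex (A.map π) = p := by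
      rw [Subgroup.relIndex_mul_relIndex D F (A.map π) hDF hFE, hidx]
    have h2 : D.relIndex F ≠ 1 := by
      intro h
      rw [Subgroup.relIndex_eq_one] at h
      exact hnD (h haF)
    have h3 : D.relIndex F = p := by
      rcases (Nat.dvd_prime hp.out).mp (Dvd.intro _ h1) with h | h
      · exact absurd h h2
      · exact h
    have h4 : F.relIndex (A.map π) = 1 := by
      rw [h3] at h1
      have hp0 : 0 < p := hp.out.pos
      nlinarith
    rw [Subgroup.relIndex_eq_one] at h4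
    have heF : e ∈ F := h4 he
    rw [hF] at heF
    have h5 := Subgroup.mem_centralizer_singleton_iff.mp heF.2
    exact hye h5.symm
  · rintro b ⟨hbA, hbD⟩
    refine ⟨hbA, ?_⟩
    have hbD' : π b ∈ D := hbD
    obtain ⟨U, hU⟩ : ∃ U, U = L ⊓ D.comap π := ⟨_, rfl⟩
    have hUL : U ≤ L := by rw [hU]; exact inf_le_left
    have hLN : L ≤ normalizer (U : Set M) := by
      intro l hl
      apply Cfsg.Agent.Lib.Helper17.mem_normalizer_of_map_conj_le
      rintro _ ⟨u, hu, rfl⟩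
      rw [hU] at hu ⊢
      obtain ⟨huL, huD⟩ := hu
      have huD' : π u ∈ D := huD
      refine ⟨L.mul_mem (L.mul_mem hl huL) (L.inv_mem hl), ?_⟩
      show π (l * u * l⁻¹) ∈ D
      have hl' : π l ∈ centralizer (D : Set Mb) := hLC hl
      have h1 : π u * π l = π l * π u := Subgroup.mem_centralizer_iff.mp hl' (π u) huD'
      rw [map_mul, map_mul, map_inv, ← h1, mul_inv_cancel_right]
      exact huD'
    have hDp : IsPGroup p D := fun d =>
      ⟨1, by rw [pow_one]; exact Subtype.ext (by simpa using hexp d (hDE d.2))⟩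
    have hUp : IsPGroup p U := by
      rw [hU]
      exact (IsPGroup.comap_of_ker_isPGroup hDp π hker).to_le inf_le_right
    have hbU : b ∈ U := by rw [hU]; exact ⟨hAL hbA, hbD⟩
    exact Cfsg.Agent.Lib.Helper17.le_pCoreOf hUL hLN hUp hbU

theorem core (π : M →* Mb) (hπ : Function.Surjective π) (hker : IsPGroup p π.ker)
    (K : Subgroup Mb) [hKn : K.Normal] (hKp : (Nat.card K).Coprime p)
    (hCK : centralizer (K : Set Mb) ≤ K) (A : Subgroup M) (hA : IsPGroup p A)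
    (hcomm : ∀ a ∈ A, ∀ b ∈ A, π a * π b = π b * π a) (hexp : ∀ a ∈ A, π a ^ p = 1)
    (hne : ¬ A ≤ π.ker) :
    ∃ x, π x ∈ K ∧
      x ∈ (pResidual p ↥(LL A x)).map (LL A x).subtype ∧
      (pResidual p ↥(LL A x)).map (LL A x).subtype ≤ K.comap π ∧
      ⁅(pResidual p ↥(LL A x)).map (LL A x).subtype, A⁆ =
        (pResidual p ↥(LL A x)).map (LL A x).subtype ∧
      (A ⊓ (pCore p ↥(LL A x)).map (LL A x).subtype).relIndex A = p ∧
      ⁅A ⊓ (pCore p ↥(LL A x)).map (LL A x).subtype, LL A x⁆ ≤ π.ker := by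
  have hcommE : ∀ x ∈ A.map π, ∀ y ∈ A.map π, x * y = y * x := by
    rintro _ ⟨a, ha, rfl⟩ _ ⟨b, hb, rfl⟩
    exact hcomm a ha b hb
  have hexpE : ∀ x ∈ A.map π, x ^ p = 1 := by
    rintro _ ⟨a, ha, rfl⟩
    exact hexp a ha
  have hneE : A.map π ≠ ⊥ := by
    intro h
    exact hne ((Subgroup.map_eq_bot_iff A).mp h)
  obtain ⟨D, hDE, hidx, e, he, yb, hybK, hybD, hyne⟩ :=
    exists_cohyper_data hKp hCK hcommE hexpE hneE
  obtain ⟨x0, rfl⟩ := hπ yb
  have hne' : (XX π K D e).Nonempty := ⟨x0, hybK, hybD, hyne⟩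
  have hDe : e ∈ centralizer (D : Set Mb) := by
    rw [Subgroup.mem_centralizer_iff]
    intro d hd
    exact hcommE d (hDE hd) e he
  obtain ⟨y, hyX, hyL, hyc⟩ := exists_good π hker hKp he (hexpE e he) hDe hne'
  have hyK : π y ∈ K := hyX.1
  have hyD : π y ∈ centralizer (D : Set Mb) := hyX.2.1
  have hAC : A ≤ (centralizer (D : Set Mb)).comap π := by
    intro a ha
    show π a ∈ centralizer (D : Set Mb)
    rw [Subgroup.mem_centralizer_iff]
    intro d hd
    exact hcommE d (hDE hd) (π a) (Subgroup.mem_map_of_mem π ha)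
  have hLC : LL A y ≤ (centralizer (D : Set Mb)).comap π := LL_le hAC hyD
  have hres : y ∈ (pResidual p ↥(LL A y)).map (LL A y).subtype := mem_res hyL hyc
  have hEq : A ⊓ (pCore p ↥(LL A y)).map (LL A y).subtype = A ⊓ D.comap π :=
    inf_pCoreOf_eq π hker hKp hexpE hDE hidx he hyX (le_LL A y) hyL hLC
  refine ⟨y, hyK, hres, ?_, res_comm hA hres, ?_, ?_⟩
  · apply res_le hA
    · rw [Subgroup.normalizer_eq_top]; exact le_top
    · exact LL_le le_sup_right (Subgroup.mem_sup_left hyK)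
  · rw [hEq, Subgroup.inf_relIndex_left, Subgroup.relIndex_comap, hidx]
  · rw [hEq, Subgroup.commutator_le]
    rintro b ⟨hbA, hbD⟩ l hl
    have hbD' : π b ∈ D := hbD
    have hl' : π l ∈ centralizer (D : Set Mb) := hLC hl
    rw [MonoidHom.mem_ker, map_commutatorElement, commutatorElement_eq_one_iff_mul_comm]
    exact Subgroup.mem_centralizer_iff.mp hl' (π b) hbD'

end core

/-- Let M be a finite p-soluble group and A a p-subgroup of M with Φ(A) ≤ O_p(M) but A ≰ O_p(M). Then there is x ∈ O_{p,p'}(M) such that L = ⟨A, xAx⁻¹⟩ satisfies: x ∈ O^p(L) and O^p(L) ≤ O_{p,p'}(M); [O^p(L), A] = O^p(L); A ∩ O_p(L) has index p in A; and [A ∩ O_p(L), L] ≤ O_p(M). Here O^p(L) is the subgroup generated by the p'-elements of L and O_{p,p'}(M) the preimage of O_{p'}(M/O_p(M)). -/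
theorem result {M : Type*} [Group M] [Finite M] {p : ℕ} [Fact p.Prime] (hM : Cfsg.IsPSolvable p M) (A : Subgroup M) (hA : IsPGroup p A) (hΦ : (frattini ↥A).map A.subtype ≤ Cfsg.pCore p M) (hnot : ¬ A ≤ Cfsg.pCore p M) : ∃ x ∈ (Cfsg.pPrimeCore p (M ⧸ Cfsg.pCore p M)).comap (QuotientGroup.mk' (Cfsg.pCore p M)), x ∈ (Cfsg.pResidual p ↥(A ⊔ A.map (MulAut.conj x).toMonoidHom)).map (A ⊔ A.map (MulAut.conj x).toMonoidHom).subtype ∧ (Cfsg.pResidual p ↥(A ⊔ A.map (MulAut.conj x).toMonoidHom)).map (A ⊔ A.map (MulAut.conj x).toMonoidHom).subtype ≤ (Cfsg.pPrimeCore p (M ⧸ Cfsg.pCore p M)).comap (QuotientGroup.mk' (Cfsg.pCore p M)) ∧ ⁅(Cfsg.pResidual p ↥(A ⊔ A.map (MulAut.conj x).toMonoidHom)).map (A ⊔ A.map (MulAut.conj x).toMonoidHom).subtype, A⁆ = (Cfsg.pResidual p ↥(A ⊔ A.map (MulAut.conj x).toMonoidHom)).map (A ⊔ A.map (MulAut.conj x).toMonoidHom).subtype ∧ (A ⊓ (Cfsg.pCore p ↥(A ⊔ A.map (MulAut.conj x).toMonoidHom)).map (A ⊔ A.map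 (MulAut.conj x).toMonoidHom).subtype).relIndex A = p ∧ ⁅A ⊓ (Cfsg.pCore p ↥(A ⊔ A.map (MulAut.conj x).toMonoidHom)).map (A ⊔ A.map (MulAut.conj x).toMonoidHom).subtype, A ⊔ A.map (MulAut.conj x).toMonoidHom⁆ ≤ Cfsg.pCore p M := by
  have hπs : Function.Surjective (QuotientGroup.mk' (Cfsg.pCore p M)) :=
    QuotientGroup.mk'_surjective _
  have hkerEq : (QuotientGroup.mk' (Cfsg.pCore p M)).ker = Cfsg.pCore p M :=
    QuotientGroup.ker_mk' _
  have hker : IsPGroup p (QuotientGroup.mk' (Cfsg.pCore p M)).ker := by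
    rw [hkerEq]; exact Cfsg.H5.pCore_isPGroup p M
  have hKp : (Nat.card (Cfsg.pPrimeCore p (M ⧸ Cfsg.pCore p M))).Coprime p :=
    Cfsg.Agent.Lib.Helper1.pPrimeCore_coprime p
  have hCK : Subgroup.centralizer ((Cfsg.pPrimeCore p (M ⧸ Cfsg.pCore p M) :
      Subgroup (M ⧸ Cfsg.pCore p M)) : Set (M ⧸ Cfsg.pCore p M)) ≤
      Cfsg.pPrimeCore p (M ⧸ Cfsg.pCore p M) :=
    Cfsg.H5.centralizer_pPrimeCore_le_of_isPSolvable
      (Cfsg.H5.isPSolvable_quotient (Cfsg.pCore p M) hM)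
      Cfsg.Agent.Lib.Helper1.ThompsonNPC.pCore_quotient_pCore_eq_bot
  have hcomm : ∀ a ∈ A, ∀ b ∈ A, (QuotientGroup.mk' (Cfsg.pCore p M)) a *
      (QuotientGroup.mk' (Cfsg.pCore p M)) b =
      (QuotientGroup.mk' (Cfsg.pCore p M)) b * (QuotientGroup.mk' (Cfsg.pCore p M)) a := by
    intro a ha b hb
    have h1 : ⁅(⟨a, ha⟩ : ↥A), ⟨b, hb⟩⁆ ∈ frattini ↥A := by
      apply Cfsg.Agent.Lib.Helper1.IsPGroup.commutator_le_frattini hA
      rw [commutator_def]
      exact Subgroup.commutator_mem_commutator (Subgroup.mem_top _) (Subgroup.mem_top _)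
    have h2 : ⁅a, b⁆ ∈ Cfsg.pCore p M := hΦ ⟨_, h1, rfl⟩
    have h3 : (QuotientGroup.mk' (Cfsg.pCore p M)) ⁅a, b⁆ = 1 :=
      (QuotientGroup.eq_one_iff _).mpr h2
    rw [map_commutatorElement] at h3
    exact commutatorElement_eq_one_iff_mul_comm.mp h3
  have hexp : ∀ a ∈ A, (QuotientGroup.mk' (Cfsg.pCore p M)) a ^ p = 1 := by
    intro a ha
    have h1 : (⟨a, ha⟩ : ↥A) ^ p ∈ frattini ↥A :=
      Cfsg.Agent.Lib.Helper1.IsPGroup.pow_mem_frattini hA _
    have h2 : a ^ p ∈ Cfsg.pCore p M := hΦ ⟨_, h1, rfl⟩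
    rw [← map_pow]
    exact (QuotientGroup.eq_one_iff _).mpr h2
  have hne : ¬ A ≤ (QuotientGroup.mk' (Cfsg.pCore p M)).ker := by
    rw [hkerEq]; exact hnot
  obtain ⟨x, hxK, h1, h2, h3, h4, h5⟩ := core (QuotientGroup.mk' (Cfsg.pCore p M)) hπs hker
    (Cfsg.pPrimeCore p (M ⧸ Cfsg.pCore p M)) hKp hCK A hA hcomm hexp hne
  rw [hkerEq] at h5
  exact ⟨x, hxK, h1, h2, h3, h4, h5⟩

end Cfsg.Agent.S3754
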