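import Cfsg.Statements.S3755
import Cfsg.Agent.Lib.Helper18.OffenderTwoC
import Cfsg.Agent.Lib.Helper18.S3Section
import Cfsg.Agent.Lib.Helper18.MaxAbelian
import Cfsg.Agent.Lib.Helper1.Cores

set_option autoImplicit false
open Cfsg

namespace Cfsg.Agent.S3755

/-- Let M and V be subgroups of a finite group with V an elementary abelian 2-group, M normalizing V and acting faithfully on it (M ∩ C(V) = 1), and C_M(O_{2'}(M)) ≤ O_{2'}(M). If some elementary abelian 2-subgroup A of M satisfies |V : C_V(A)| < |A|², then M has a section isomorphic to the symmetric group of degree 3. -/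
theorem result {X : Type*} [Group X] [Finite X] (M V : Subgroup X) (hV : Cfsg.IsElementaryAbelian 2 V) (hMV : M ≤ Subgroup.normalizer (V : Set X)) (hfaith : M ⊓ Subgroup.centralizer (V : Set X) = ⊥) (hcon : Subgroup.centralizer (Cfsg.pPrimeCore 2 ↥M : Set ↥M) ≤ Cfsg.pPrimeCore 2 ↥M) (A : Subgroup X) (hAM : A ≤ M) (hA : Cfsg.IsElementaryAbelian 2 A) (hsmall : (V ⊓ Subgroup.centralizer (A : Set X)).relIndex V < Nat.card A ^ 2) : Cfsg.Involves (Equiv.Perm (Fin 3)) ↥M := by
  classical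
  obtain ⟨hVc, hV2'⟩ := hV
  obtain ⟨hAc, hA2'⟩ := hA
  have hVab : ∀ a ∈ V, ∀ b ∈ V, a * b = b * a :=
    (Cfsg.Agent.Lib.Helper18.isMulCommutative_iff_forall V).mp hVc
  have hAab : ∀ a ∈ A, ∀ b ∈ A, a * b = b * a :=
    (Cfsg.Agent.Lib.Helper18.isMulCommutative_iff_forall A).mp hAc
  let _ : CommGroup V :=
    { (inferInstance : Group V) with
      mul_comm := fun x y => Subtype.ext (hVab x x.2 y y.2) }
  let φ : ↥M →* MulAut ↥V := (Subgroup.normalizerMonoidHom V).comp (Subgroup.inclusion hMV)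
  have hφval : ∀ (g : M) (v : V), ((φ g v : V) : X) = (g : X) * (v : X) * (g : X)⁻¹ :=
    fun g v => rfl
  have hφ : ∀ g : M, φ g = 1 → g = 1 := by
    intro g hg
    have h1 : (g : X) ∈ M ⊓ Subgroup.centralizer (V : Set X) := by
      refine Subgroup.mem_inf.mpr ⟨g.2, ?_⟩
      rw [Subgroup.mem_centralizer_iff]
      intro v hv
      have h2 : φ g ⟨v, hv⟩ = ⟨v, hv⟩ := by rw [hg]; rfl
      have h3 := congrArg Subtype.val h2
      rw [hφval] at h3
      calc v * (g : X) = ((g : X) * v * (g : X)⁻¹) * g := by rw [h3]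
        _ = g * v := by group
    rw [hfaith, Subgroup.mem_bot] at h1
    exact Subtype.ext h1
  have hV2 : ∀ v : V, v ^ 2 = 1 := fun v =>
    Subtype.ext (by rw [Subgroup.coe_pow]; exact hV2' v v.2)
  -- the `2'`-core
  obtain ⟨K, hK⟩ : ∃ K : Subgroup M, K = Cfsg.pPrimeCore 2 ↥M := ⟨_, rfl⟩
  have hKn : K.Normal := by rw [hK]; exact Cfsg.Agent.Lib.Helper1.pPrimeCore_normal 2
  have hKcop : (Nat.card K).Coprime 2 := by
    rw [hK]; exact Cfsg.Agent.Lib.Helper1.pPrimeCore_coprime 2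
  have hCK : Subgroup.centralizer (K : Set M) ≤ K := by rw [hK]; exact hcon
  -- the offender
  obtain ⟨A', hA'⟩ : ∃ A' : Subgroup M, A' = A.subgroupOf M := ⟨_, rfl⟩
  have hA'mem : ∀ a : M, a ∈ A' ↔ (a : X) ∈ A := by
    intro a; rw [hA']; exact Subgroup.mem_subgroupOf
  have hA'ab : ∀ a ∈ A', ∀ b ∈ A', a * b = b * a := by
    intro a ha b hb
    exact Subtype.ext (hAab a ((hA'mem a).mp ha) b ((hA'mem b).mp hb))
  have hA'2 : ∀ a ∈ A', a ^ 2 = 1 := by
    intro a ha
    apply Subtype.ext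
    rw [Subgroup.coe_pow]
    exact hA2' a ((hA'mem a).mp ha)
  have hcardA : Nat.card A' = Nat.card A := by
    rw [hA']; exact Nat.card_congr (Subgroup.subgroupOfEquivOfLe hAM).toEquiv
  have hfix : Cfsg.Agent.Lib.Helper18.OffenderTwo.fixV φ A' =
      (V ⊓ Subgroup.centralizer (A : Set X)).subgroupOf V := by
    ext v
    rw [Cfsg.Agent.Lib.Helper18.OffenderTwo.mem_fixV, Subgroup.mem_subgroupOf]
    constructor
    · intro h
      refine Subgroup.mem_inf.mpr ⟨v.2, ?_⟩
      rw [Subgroup.mem_centralizer_iff]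
      intro a ha
      have h2 := h ⟨a, hAM ha⟩ ((hA'mem _).mpr ha)
      have h3 := congrArg Subtype.val h2
      rw [hφval] at h3
      calc a * (v : X) = (a * v * a⁻¹) * a := by group
        _ = v * a := by rw [h3]
    · intro h a ha
      apply Subtype.ext
      rw [hφval]
      have h2 := Subgroup.mem_centralizer_iff.mp (Subgroup.mem_inf.mp h).2 a ((hA'mem a).mp ha)
      rw [h2, mul_inv_cancel_right]
  have hsmall' : Nat.card V <
      Nat.card A' ^ 2 * Nat.card (Cfsg.Agent.Lib.Helper18.OffenderTwo.fixV φ A') := by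
    rw [hcardA, hfix]
    have h1 := Subgroup.card_mul_index ((V ⊓ Subgroup.centralizer (A : Set X)).subgroupOf V)
    have h2 : ((V ⊓ Subgroup.centralizer (A : Set X)).subgroupOf V).index =
        (V ⊓ Subgroup.centralizer (A : Set X)).relIndex V := rfl
    rw [h2] at h1
    rw [← h1]
    have hpos : 0 < Nat.card ((V ⊓ Subgroup.centralizer (A : Set X)).subgroupOf V) :=
      Nat.card_pos
    rw [mul_comm (Nat.card A ^ 2)]
    exact (Nat.mul_lt_mul_left hpos).mpr hsmall
  obtain ⟨e, z, he2, hz1, hz3, hinv⟩ :=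
    Cfsg.Agent.Lib.Helper18.OffenderTwoC.exists_inverted_three φ hφ hV2 K hKcop hCK A' hA'ab
      hA'2 hsmall'
  exact Cfsg.Agent.Lib.Helper18.S3Section.involves_s3_of_inverted e z he2 hz1 hz3 hinv

end Cfsg.Agent.S3755
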