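import Cfsg.Statements.S3760

set_option autoImplicit false
open Cfsg

namespace Cfsg.Agent.S3760

theorem result {G : Type*} [Group G] {X : Type*} [MulAction G X] (htrans : ∀ a b : X, ∃ g : G, g • a = b) (x : X) (K : Subgroup G) (hK : K ≤ MulAction.stabilizer G x) : (∀ a b : X, (∀ k ∈ K, k • a = a) → (∀ k ∈ K, k • b = b) → ∃ g ∈ Subgroup.normalizer (K : Set G), g • a = b) ↔ ∀ g : G, K.map (MulAut.conj g).toMonoidHom ≤ MulAction.stabilizer G x → ∃ h ∈ MulAction.stabilizer G x, K.map (MulAut.conj g).toMonoidHom = K.map (MulAut.conj h).toMonoidHom := by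
  constructor
  · intro H g hg
    -- K fixes x and g⁻¹ • x
    have hKx : ∀ k ∈ K, k • x = x := fun k hk => hK hk
    have hKgx : ∀ k ∈ K, k • (g⁻¹ • x) = g⁻¹ • x := by
      intro k hk
      have h1 : g * k * g⁻¹ ∈ MulAction.stabilizer G x := by
        apply hg
        exact ⟨k, hk, by simp [MulAut.conj_apply]⟩
      rw [MulAction.mem_stabilizer_iff] at h1
      have h2 : g • (k • (g⁻¹ • x)) = x := by
        rw [← mul_smul, ← mul_smul]; exact h1
      calc k • (g⁻¹ • x) = g⁻¹ • (g • (k • (g⁻¹ • x))) := by simp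
        _ = g⁻¹ • x := by rw [h2]
    obtain ⟨n, hn, hnx⟩ := H x (g⁻¹ • x) hKx hKgx
    refine ⟨g * n, ?_, ?_⟩
    · rw [MulAction.mem_stabilizer_iff, mul_smul, hnx]; simp
    · rw [Subgroup.mem_normalizer_iff_map_conj_eq] at hn
      conv_lhs => rw [← hn]
      rw [Subgroup.map_map]
      congr 1
      ext y
      simp [MulAut.conj_apply, mul_assoc]
  · intro H a b ha hb
    -- for any fixed point a of K, there is n ∈ N(K) with n • x = a
    have key : ∀ a : X, (∀ k ∈ K, k • a = a) → ∃ n ∈ Subgroup.normalizer (K : Set G), n • x = a := by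
      intro a ha
      obtain ⟨u, hu⟩ := htrans x a
      have h1 : K.map (MulAut.conj u⁻¹).toMonoidHom ≤ MulAction.stabilizer G x := by
        rintro y ⟨k, hk, rfl⟩
        rw [MulAction.mem_stabilizer_iff]
        simp only [MulEquiv.coe_toMonoidHom, MulAut.conj_apply, inv_inv, mul_smul]
        rw [hu, ha k hk, ← hu]; simp
      obtain ⟨h, hh, hEq⟩ := H u⁻¹ h1
      refine ⟨u * h, ?_, ?_⟩
      · rw [Subgroup.mem_normalizer_iff_map_conj_eq]
        have : K.map (MulAut.conj (u * h)).toMonoidHom = (K.map (MulAut.conj h).toMonoidHom).map (MulAut.conj u).toMonoidHom := by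
          rw [Subgroup.map_map]; congr 1; ext y; simp [MulAut.conj_apply, mul_assoc]
        have h2 : K.map (MulAut.conj (u * h)).toMonoidHom = K := by
          rw [this, ← hEq, Subgroup.map_map]
          have : ((MulAut.conj u).toMonoidHom.comp (MulAut.conj u⁻¹).toMonoidHom) = MonoidHom.id G := by
            ext y; simp [MulAut.conj_apply, mul_assoc]
          rw [this, Subgroup.map_id]
        exact h2
      · rw [mul_smul, MulAction.mem_stabilizer_iff.mp hh, hu]
    obtain ⟨na, hna, hnax⟩ := key a ha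
    obtain ⟨nb, hnb, hnbx⟩ := key b hb
    refine ⟨nb * na⁻¹, Subgroup.mul_mem _ hnb (Subgroup.inv_mem _ hna), ?_⟩
    rw [mul_smul, ← hnax]; simp [hnbx]

end Cfsg.Agent.S3760
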