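import Cfsg.Statements.S3764
import Cfsg.Agent.Lib.Helper10.XRepSub
import Cfsg.Agent.Lib.Helper10.XRepConj

set_option autoImplicit false
open Cfsg

namespace Cfsg.Agent.S3764

open Cfsg.Agent.Lib.Helper10 Cfsg.Agent.Lib.Helper10.XRep
open scoped commutatorElement

/-- the arithmetic at the end. -/
theorem arith {q r k : ℕ} (hq : q.Prime) (hr : r.Prime) (hcard : q ^ k = q * (r - 1) ^ 2)
    (hne : (r - 1) ^ 2 ≠ 1) : q = 2 ∧ ∃ n : ℕ, r = 2 ^ n + 1 ∧ q ^ k = 2 ^ (2 * n + 1) := by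
  have hk0 : k ≠ 0 := by
    rintro rfl
    rw [pow_zero] at hcard
    have := hq.two_le
    have h1 : q ∣ 1 := ⟨(r - 1) ^ 2, hcard⟩
    have := Nat.le_of_dvd one_pos h1
    omega
  obtain ⟨k', rfl⟩ : ∃ k', k = k' + 1 := ⟨k - 1, by omega⟩
  have h1 : (r - 1) ^ 2 = q ^ k' := by
    rw [pow_succ'] at hcard
    exact (Nat.eq_of_mul_eq_mul_left hq.pos hcard).symm
  have h2 : (r - 1) ∣ q ^ k' := ⟨r - 1, by rw [← h1, sq]⟩
  obtain ⟨m, -, hm⟩ := (Nat.dvd_prime_pow hq).mp h2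
  have h3 : 2 * m = k' := by
    apply Nat.pow_right_injective hq.two_le
    show q ^ (2 * m) = q ^ k'
    rw [← h1, hm, ← pow_mul, mul_comm]
  have hm0 : m ≠ 0 := by
    rintro rfl
    apply hne
    rw [hm, pow_zero, one_pow]
  have hr1 : r = q ^ m + 1 := by
    have := hr.one_lt
    omega
  have hq2 : q = 2 := by
    rcases hr.eq_two_or_odd' with h | h
    · exfalso
      rw [h] at hr1
      have h4 : q ^ m = 1 := by omega
      have h5 : q ≤ q ^ m := Nat.le_self_pow hm0 q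
      have := hq.two_le
      omega
    · rw [hr1] at h
      have h4 : Even (q ^ m) := by
        rcases Nat.even_or_odd (q ^ m) with h5 | h5
        · exact h5
        · exfalso
          have : Even (q ^ m + 1) := h5.add_one
          exact (Nat.not_even_iff_odd.mpr h) this
      have h5 : Even q := (Nat.even_pow.mp h4).1
      exact hq.even_iff.mp h5
  subst hq2
  exact ⟨rfl, m, hr1, by rw [← h3]⟩

theorem result {G : Type*} [Group G] [Finite G] {p q r : ℕ} (hp : p.Prime) (hq : q.Prime) (hr : r.Prime) (hpq : p ≠ q) (hpr : p ≠ r) (hqr : q ≠ r) (X Q V : Subgroup G) (hX : Nat.card X = r) (hQ : Cfsg.IsExtraspecial q ↥Q) (hXQ : X ≤ Subgroup.normalizer (Q : Set G)) (hCQ : Q ⊓ Subgroup.centralizer (X : Set G) = (Subgroup.center ↥Q).map Q.subtype) (hV : Cfsg.IsElementaryAbelian p V) (hXV : X ≤ Subgroup.normalizer (V : Set G)) (hQV : Q ≤ Subgroup.normalizer (V : Set G)) (hfaith : (X ⊔ Q) ⊓ Subgroup.centralizer (V : Set G) = ⊥) (hCV :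 V ⊓ Subgroup.centralizer (X : Set G) = ⊥) : q = 2 ∧ ∃ n : ℕ, r = 2 ^ n + 1 ∧ Nat.card Q = 2 ^ (2 * n + 1) := by
  classical
  have : Fact r.Prime := ⟨hr⟩
  have : Fact q.Prime := ⟨hq⟩
  -- a generator of X
  have hXcyc : IsCyclic X := isCyclic_of_prime_card hX
  obtain ⟨x, hx⟩ := hXcyc.exists_generator
  set x₀ : G := (x : G) with hx₀
  have hx₀X : x₀ ∈ X := x.2
  have hXz : ∀ y ∈ X, ∃ k : ℤ, x₀ ^ k = y := by
    intro y hy
    obtain ⟨k, hk⟩ := Subgroup.mem_zpowers_iff.mp (hx ⟨y, hy⟩)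
    refine ⟨k, ?_⟩
    have := congrArg Subtype.val hk
    rwa [Subgroup.coe_zpow] at this
  have hx₀r : x₀ ^ r = 1 := by
    have h1 : x ^ Nat.card X = 1 := pow_card_eq_one'
    rw [hX] at h1
    have := congrArg Subtype.val h1
    rwa [Subgroup.coe_pow] at this
  have hcentX : ∀ g : G, x₀ * g * x₀⁻¹ = g → g ∈ Subgroup.centralizer (X : Set G) := by
    intro g hg
    rw [Subgroup.mem_centralizer_iff]
    intro y hy
    obtain ⟨k, rfl⟩ := hXz y hy
    have h1 : Commute x₀ g := by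
      show x₀ * g = g * x₀
      calc x₀ * g = (x₀ * g * x₀⁻¹) * x₀ := by group
        _ = g * x₀ := by rw [hg]
    exact (h1.zpow_left k)
  have hcentX' : ∀ g : G, g ∈ Subgroup.centralizer (X : Set G) → x₀ * g * x₀⁻¹ = g := by
    intro g hg
    rw [Subgroup.mem_centralizer_iff] at hg
    rw [hg x₀ hx₀X, mul_inv_cancel_right]
  -- the representation
  set L : Subgroup G := X ⊔ Q with hL
  have hLV : L ≤ Subgroup.normalizer (V : Set G) := sup_le hXV hQV
  have hcommV : ∀ a ∈ V, ∀ b ∈ V, a * b = b * a := by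
    intro a ha b hb
    exact congrArg Subtype.val (hV.1.is_comm.comm ⟨a, ha⟩ ⟨b, hb⟩)
  obtain ⟨E, iF, iA, iC, n, ρL, h1, h2, -⟩ := exists_rep_subgroup hp V L hcommV hV.2 hLV
  have hqE : (q : E) ≠ 0 := by
    intro h
    rw [CharP.cast_eq_zero_iff E p q] at h
    exact hpq ((Nat.prime_dvd_prime_iff_eq hp hq).mp h)
  have hrE : (r : E) ≠ 0 := by
    intro h
    rw [CharP.cast_eq_zero_iff E p r] at h
    exact hpr ((Nat.prime_dvd_prime_iff_eq hp hr).mp h)
  let ιQ : Q →* L := Subgroup.inclusion le_sup_right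
  let xL : L := ⟨x₀, Subgroup.mem_sup_left hx₀X⟩
  let ρ : Q →* Module.End E (Fin n → E) := ρL.comp ιQ
  let T : Module.End E (Fin n → E) := ρL xL
  have hx₀N : x₀ ∈ Subgroup.normalizer (Q : Set G) := hXQ hx₀X
  let φ : Q ≃* Q := FrobAction.conjAut Q x₀ hx₀N
  -- hypotheses of the core theorem
  have hρ : ∀ g : Q, ρ g = 1 → g = 1 := by
    intro g hg
    have h3 := h1 (ιQ g) hg
    have h4 : (g : G) ∈ (X ⊔ Q) ⊓ Subgroup.centralizer (V : Set G) :=
      ⟨Subgroup.mem_sup_right g.2, h3⟩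
    rw [hfaith, Subgroup.mem_bot] at h4
    exact Subtype.ext h4
  have hcomm : ∀ g h : Q, ⁅g, h⁆ ∈ Subgroup.center Q := by
    intro g h
    rw [← hQ.1.2.2, commutator_def]
    exact Subgroup.commutator_mem_commutator (Subgroup.mem_top g) (Subgroup.mem_top h)
  have hcenter_iff : ∀ g : Q, g ∈ Subgroup.center Q ↔ (g : G) ∈ Subgroup.centralizer (X : Set G) := by
    intro g
    constructor
    · intro hg
      have h3 : (g : G) ∈ (Subgroup.center ↥Q).map Q.subtype := ⟨g, hg, rfl⟩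
      rw [← hCQ] at h3
      exact h3.2
    · intro hg
      have h3 : (g : G) ∈ Q ⊓ Subgroup.centralizer (X : Set G) := ⟨g.2, hg⟩
      rw [hCQ] at h3
      obtain ⟨g', hg', hgg'⟩ := h3
      have : g' = g := Subtype.ext hgg'
      rw [← this]
      exact hg'
  have hφZ : ∀ z ∈ Subgroup.center Q, φ z = z := by
    intro z hz
    apply Subtype.ext
    exact hcentX' _ ((hcenter_iff z).mp hz)
  have hφr : ∀ g, φ^[r] g = g := fun g => conjAut_iterate_eq Q x₀ hx₀N hx₀r g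
  have hord : orderOf x₀ = r := by
    have h3 : orderOf x₀ ∣ r := orderOf_dvd_of_pow_eq_one hx₀r
    rcases (Nat.dvd_prime hr).mp h3 with h4 | h4
    · exfalso
      rw [orderOf_eq_one_iff] at h4
      -- then X is trivial
      have h5 : Nat.card X = 1 := by
        rw [Nat.card_eq_one_iff_unique]
        refine ⟨⟨fun a b => ?_⟩, ⟨1⟩⟩
        obtain ⟨k, hk⟩ := hXz a a.2
        obtain ⟨k', hk'⟩ := hXz b b.2
        apply Subtype.ext
        rw [← hk, ← hk', h4, one_zpow, one_zpow]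
      rw [hX] at h5
      exact hr.one_lt.ne' h5
    · exact h4
  have hfpf : ∀ g, g⁻¹ * φ g ∈ Subgroup.center Q → g ∈ Subgroup.center Q := by
    apply fpf_mod_center Q x₀ hx₀N
    · rw [hord, hQ.2]
      exact (Nat.coprime_primes hr hq).mpr (Ne.symm hqr)
    · intro g hg
      exact (hcenter_iff g).mpr (hcentX _ hg)
  have hTr : T ^ r = 1 := by
    show ρL xL ^ r = 1
    rw [← map_pow]
    have : xL ^ r = 1 := by
      apply Subtype.ext
      rw [Subgroup.coe_pow]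
      exact hx₀r
    rw [this, map_one]
  have hT : ∀ g, T * ρ g = ρ (φ g) * T := by
    intro g
    show ρL xL * ρL (ιQ g) = ρL (ιQ (φ g)) * ρL xL
    rw [← map_mul, ← map_mul]
    congr 1
    apply Subtype.ext
    show x₀ * (g : G) = (x₀ * (g : G) * x₀⁻¹) * x₀
    group
  have hfix : ∀ u, T u = u → u = 0 := by
    intro u hu
    by_contra hu0
    obtain ⟨v, hvV, hv1, hv⟩ := h2 xL ⟨u, hu0, hu⟩
    have h3 : v ∈ V ⊓ Subgroup.centralizer (X : Set G) := ⟨hvV, hcentX v hv⟩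
    rw [hCV, Subgroup.mem_bot] at h3
    exact hv1 h3
  -- a generator of the centre
  have hZcard : Nat.card (Subgroup.center Q) = q := hQ.2
  have hZne : Subgroup.center Q ≠ ⊥ := by
    rw [← Subgroup.one_lt_card_iff_ne_bot, hZcard]
    exact hq.one_lt
  obtain ⟨z₀, hz₀1⟩ := (Subgroup.ne_bot_iff_exists_ne_one).mp hZne
  have hgen : ∀ c : Subgroup.center Q, c ≠ 1 → ∀ z : Subgroup.center Q, z ∈ Subgroup.zpowers c := by
    intro c hc z
    rw [zpowers_eq_top_of_prime_card hZcard hc]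
    exact Subgroup.mem_top z
  have hnd : ∀ g : Q, g ∉ Subgroup.center Q → ∀ Z₁ : Subgroup Q, Z₁ ≤ Subgroup.center Q →
      (z₀ : Q) ∉ Z₁ → ∃ h : Q, ⁅h, g⁆ ∉ Z₁ := by
    intro g hg Z₁ hZ₁ hz₀Z₁
    have h3 : ∃ h : Q, h * g ≠ g * h := by
      by_contra hcon
      push Not at hcon
      exact hg (Subgroup.mem_center_iff.mpr hcon)
    obtain ⟨h, hh⟩ := h3
    refine ⟨h, ?_⟩
    intro hmem
    have hc1 : ⁅h, g⁆ ≠ 1 := fun h4 => hh (commutatorElement_eq_one_iff_mul_comm.mp h4)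
    let c : Subgroup.center Q := ⟨⁅h, g⁆, hcomm h g⟩
    have hc : c ≠ 1 := fun h4 => hc1 (congrArg Subtype.val h4)
    obtain ⟨k, hk⟩ := Subgroup.mem_zpowers_iff.mp (hgen c hc z₀)
    apply hz₀Z₁
    have h5 : ((z₀ : Subgroup.center Q) : Q) = ⁅h, g⁆ ^ k := by
      rw [← hk]
      rfl
    rw [h5]
    exact Subgroup.zpow_mem _ hmem k
  have hQZ : ∃ g : Q, g ∉ Subgroup.center Q := by
    by_contra hcon
    push Not at hcon
    have htop : Subgroup.center Q = ⊤ := (Subgroup.eq_top_iff' _).mpr hcon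
    have h3 : commutator Q = ⊥ := by
      rw [commutator_def, Subgroup.commutator_eq_bot_iff_le_centralizer, Subgroup.coe_top,
        Subgroup.centralizer_univ, htop]
    rw [hQ.1.2.2] at h3
    exact hZne h3
  have hidx := coreGroup ρ hρ hq hr hQ.1.1 hqE hrE hcomm φ hφZ hφr hfpf T hTr hT hfix
    (z₀ : Q) z₀.2 (fun h => hz₀1 (Subtype.ext h)) hnd hQZ
  -- arithmetic
  have hcard : Nat.card Q = q * (r - 1) ^ 2 := by
    rw [← Subgroup.card_mul_index (Subgroup.center Q), hZcard, hidx]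
  obtain ⟨k, hk⟩ := IsPGroup.iff_card.mp hQ.1.1
  have hne : (r - 1) ^ 2 ≠ 1 := by
    intro h
    rw [h] at hidx
    obtain ⟨g, hg⟩ := hQZ
    apply hg
    rw [Subgroup.index_eq_one.mp hidx]
    exact Subgroup.mem_top g
  rw [hk]
  rw [hk] at hcard
  exact arith hq hr hcard hne

end Cfsg.Agent.S3764
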