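import Cfsg.Statements.S3765
import Cfsg.Agent.Lib.Helper10.XRepMin

set_option autoImplicit false
open Cfsg

namespace Cfsg.Agent.S3765

open Cfsg.Agent.Lib.Helper10 Cfsg.Agent.Lib.Helper10.XRep
open scoped commutatorElement

/-- Let p, q, r be distinct primes and let X, Q, V be subgroups of a finite group with X of order r normalizing the q-group Q and acting faithfully on it (X ∩ C(Q) = 1), and V a nontrivial elementary abelian p-group normalized by X and Q on which XQ acts faithfully. If q = 2 and r has the form 2^n + 1, assume in addition that Q is abelian. Then C_V(X) ≠ 1. -/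
theorem result {G : Type*} [Group G] [Finite G] {p q r : ℕ} (hp : p.Prime) (hq : q.Prime) (hr : r.Prime) (hpq : p ≠ q) (hpr : p ≠ r) (hqr : q ≠ r) (X Q V : Subgroup G) (hX : Nat.card X = r) (hQ : IsPGroup q Q) (hXQ : X ≤ Subgroup.normalizer (Q : Set G)) (hXfaith : X ⊓ Subgroup.centralizer (Q : Set G) = ⊥) (hV : Cfsg.IsElementaryAbelian p V) (hV1 : V ≠ ⊥) (hXV : X ≤ Subgroup.normalizer (V : Set G)) (hQV : Q ≤ Subgroup.normalizer (V : Set G)) (hfaith : (X ⊔ Q) ⊓ Subgroup.centralizer (V : Set G) = ⊥) (hexc : q = 2 → (∃ n : ℕ, r = 2 ^ n + 1) → IsMulCommutative Q) : V ⊓ Subgroup.centralizer (X : Set G) ≠ ⊥ := by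
  classical
  intro hCV
  have : Fact r.Prime := ⟨hr⟩
  -- a generator of X
  have hXcyc : IsCyclic X := isCyclic_of_prime_card hX
  obtain ⟨x, hx⟩ := hXcyc.exists_generator
  set x₀ : G := (x : G) with hx₀
  have hx₀X : x₀ ∈ X := x.2
  have hXz : ∀ y ∈ X, ∃ k : ℤ, x₀ ^ k = y := by
    intro y hy
    obtain ⟨k, hk⟩ := Subgroup.mem_zpowers_iff.mp (hx ⟨y, hy⟩)
    refine ⟨k, ?_⟩
    have := congrArg Subtype.val hk
    rwa [Subgroup.coe_zpow] at this
  have hx₀r : x₀ ^ r = 1 := by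
    have h1 : x ^ Nat.card X = 1 := pow_card_eq_one'
    rw [hX] at h1
    have := congrArg Subtype.val h1
    rwa [Subgroup.coe_pow] at this
  have hx₀1 : x₀ ≠ 1 := by
    intro h4
    have h5 : Nat.card X = 1 := by
      rw [Nat.card_eq_one_iff_unique]
      refine ⟨⟨fun a b => ?_⟩, ⟨1⟩⟩
      obtain ⟨k, hk⟩ := hXz a a.2
      obtain ⟨k', hk'⟩ := hXz b b.2
      apply Subtype.ext
      rw [← hk, ← hk', h4, one_zpow, one_zpow]
    rw [hX] at h5
    exact hr.one_lt.ne' h5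
  have hcentX : ∀ g : G, x₀ * g * x₀⁻¹ = g → g ∈ Subgroup.centralizer (X : Set G) := by
    intro g hg
    rw [Subgroup.mem_centralizer_iff]
    intro y hy
    obtain ⟨k, rfl⟩ := hXz y hy
    have h1 : Commute x₀ g := by
      show x₀ * g = g * x₀
      calc x₀ * g = (x₀ * g * x₀⁻¹) * x₀ := by group
        _ = g * x₀ := by rw [hg]
    exact (h1.zpow_left k)
  -- the representation
  set L : Subgroup G := X ⊔ Q with hL
  have hLV : L ≤ Subgroup.normalizer (V : Set G) := sup_le hXV hQV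
  have hcommV : ∀ a ∈ V, ∀ b ∈ V, a * b = b * a := by
    intro a ha b hb
    exact congrArg Subtype.val (hV.1.is_comm.comm ⟨a, ha⟩ ⟨b, hb⟩)
  obtain ⟨E, iF, iA, iC, n, ρL, h1, h2, -⟩ := exists_rep_subgroup hp V L hcommV hV.2 hLV
  have hqE : (q : E) ≠ 0 := by
    intro h
    rw [CharP.cast_eq_zero_iff E p q] at h
    exact hpq ((Nat.prime_dvd_prime_iff_eq hp hq).mp h)
  have hrE : (r : E) ≠ 0 := by
    intro h
    rw [CharP.cast_eq_zero_iff E p r] at h
    exact hpr ((Nat.prime_dvd_prime_iff_eq hp hr).mp h)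
  let xL : L := ⟨x₀, Subgroup.mem_sup_left hx₀X⟩
  have hρL : ∀ g : L, ρL g = 1 → g = 1 := by
    intro g hg
    have h3 := h1 g hg
    have h4 : (g : G) ∈ (X ⊔ Q) ⊓ Subgroup.centralizer (V : Set G) := ⟨g.2, h3⟩
    rw [hfaith, Subgroup.mem_bot] at h4
    exact Subtype.ext h4
  have hxLr : xL ^ r = 1 := by
    apply Subtype.ext
    rw [Subgroup.coe_pow]
    exact hx₀r
  have hfix : ∀ u, ρL xL u = u → u = 0 := by
    intro u hu
    by_contra hu0
    obtain ⟨v, hvV, hv1, hv⟩ := h2 xL ⟨u, hu0, hu⟩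
    have h3 : v ∈ V ⊓ Subgroup.centralizer (X : Set G) := ⟨hvV, hcentX v hv⟩
    rw [hCV, Subgroup.mem_bot] at h3
    exact hv1 h3
  have hQL : IsPGroup q (Q.subgroupOf L) := by
    intro g
    obtain ⟨k, hk⟩ := hQ ⟨(g : L), g.2⟩
    refine ⟨k, ?_⟩
    apply Subtype.ext
    apply Subtype.ext
    have := congrArg Subtype.val hk
    simpa using this
  have hxQL : ∀ g ∈ Q.subgroupOf L, xL * g * xL⁻¹ ∈ Q.subgroupOf L := by
    intro g hg
    rw [Subgroup.mem_subgroupOf] at hg ⊢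
    exact (Subgroup.mem_normalizer_iff.mp (hXQ hx₀X) _).mp hg
  have hexcL : q = 2 → (∃ n : ℕ, r = 2 ^ n + 1) →
      ∀ a ∈ Q.subgroupOf L, ∀ b ∈ Q.subgroupOf L, a * b = b * a := by
    intro h2' hf a ha b hb
    have hc := hexc h2' hf
    rw [Subgroup.mem_subgroupOf] at ha hb
    apply Subtype.ext
    show (a : G) * (b : G) = (b : G) * (a : G)
    exact congrArg (Subtype.val : ↥Q → G) (hc.is_comm.comm ⟨(a : G), ha⟩ ⟨(b : G), hb⟩)
  have hcen := linThm ρL hρL hq hr hqr hqE hrE xL hxLr hfix (Q.subgroupOf L) hQL hxQL hexcL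
  -- so x₀ centralizes Q
  have hx₀C : x₀ ∈ Subgroup.centralizer (Q : Set G) := by
    rw [Subgroup.mem_centralizer_iff]
    intro g hg
    have h3 := hcen ⟨g, Subgroup.mem_sup_right hg⟩ (by rw [Subgroup.mem_subgroupOf]; exact hg)
    exact (congrArg Subtype.val h3).symm
  have h4 : x₀ ∈ X ⊓ Subgroup.centralizer (Q : Set G) := ⟨hx₀X, hx₀C⟩
  rw [hXfaith, Subgroup.mem_bot] at h4
  exact hx₀1 h4

end Cfsg.Agent.S3765
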