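import Cfsg.Statements.S3767
import Cfsg.Agent.Lib.Helper10.SympCycLin
import Cfsg.Agent.Lib.Helper10.FrobSub
import Cfsg.Agent.Lib.Helper1.ExtraspecialOrder

set_option autoImplicit false
open Cfsg

namespace Cfsg.Agent.S3767

open scoped commutatorElement IsMulCommutative
open Cfsg.Agent.Lib.Helper10 Cfsg.Agent.Lib.Helper1

theorem comm_mul_left {P : Type*} [Group P] (hcl : ∀ a b : P, ⁅a, b⁆ ∈ Subgroup.center P)
    (a a' b : P) : ⁅a * a', b⁆ = ⁅a, b⁆ * ⁅a', b⁆ := by
  have h1 : ⁅a * a', b⁆ = a * ⁅a', b⁆ * a⁻¹ * ⁅a, b⁆ := by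
    simp only [commutatorElement_def]; group
  have h2 := (Subgroup.mem_center_iff.mp (hcl a' b)) a
  have h3 := (Subgroup.mem_center_iff.mp (hcl a' b)) ⁅a, b⁆
  rw [h1, h2, mul_inv_cancel_right, ← h3]

theorem pow_fix {Q : Type*} [Group Q] (e : MulAut Q) (q : Q) (h : e q = q) (k : ℕ) :
    (e ^ k) q = q := by
  induction k with
  | zero => simp
  | succ k ih => rw [pow_succ, MulAut.mul_apply, h, ih]

/-- Let P be an extraspecial p-group of order p^(2n+1) and H a cyclic group of order h prime to p acting on P (inside a common finite group: H normalizes P) so that C_P(x) = Z(P) for every non-identity x ∈ H. Then h divides p^n + 1 or h divides p^n − 1. -/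
theorem result {G : Type*} [Group G] [Finite G] {p : ℕ} [Fact p.Prime] (P H : Subgroup G) (hP : Cfsg.IsExtraspecial p ↥P) (n : ℕ) (hn : Nat.card P = p ^ (2 * n + 1)) (hH : IsCyclic H) (hcop : (Nat.card H).Coprime p) (hHP : H ≤ Subgroup.normalizer (P : Set G)) (hfix : ∀ x ∈ H, x ≠ 1 → P ⊓ Subgroup.centralizer {x} = (Subgroup.center ↥P).map P.subtype) : Nat.card H ∣ p ^ n + 1 ∨ Nat.card H ∣ p ^ n - 1 := by
  classical
  obtain ⟨⟨hPp, hfrat, hcomm⟩, hZcard⟩ := hP
  have hp : p.Prime := Fact.out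
  -- commutators are central
  have hcl : ∀ a b : ↥P, ⁅a, b⁆ ∈ Subgroup.center ↥P := by
    intro a b
    rw [← hcomm, commutator_def]
    exact Subgroup.commutator_mem_commutator (Subgroup.mem_top a) (Subgroup.mem_top b)
  -- the quotient is commutative
  let iQ : CommGroup (↥P ⧸ Subgroup.center ↥P) :=
    { (inferInstance : Group (↥P ⧸ Subgroup.center ↥P)) with
      mul_comm := by
        intro a b
        obtain ⟨a, rfl⟩ := QuotientGroup.mk_surjective a
        obtain ⟨b, rfl⟩ := QuotientGroup.mk_surjective b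
        rw [← QuotientGroup.mk_mul, ← QuotientGroup.mk_mul, QuotientGroup.eq]
        have h1 : (a * b)⁻¹ * (b * a) = ⁅b⁻¹, a⁻¹⁆ := by
          simp only [commutatorElement_def]; group
        rw [h1]
        exact hcl _ _ }
  -- the commutator pairing
  have hker : ∀ a : ↥P, Subgroup.center ↥P ≤ (commHom hcl a).ker := by
    intro a z hz
    rw [MonoidHom.mem_ker, commHom_eq_one_iff, Subgroup.mem_centralizer_singleton_iff]
    exact (Subgroup.mem_center_iff.mp hz a).symm
  let F : ↥P →* ((↥P ⧸ Subgroup.center ↥P) →* Subgroup.center ↥P) :=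
    { toFun := fun a => QuotientGroup.lift (Subgroup.center ↥P) (commHom hcl a) (hker a)
      map_one' := by
        apply MonoidHom.ext
        intro q
        obtain ⟨b, rfl⟩ := QuotientGroup.mk_surjective q
        apply Subtype.ext
        show ⁅(1 : ↥P), b⁆ = 1
        simp
      map_mul' := by
        intro a a'
        apply MonoidHom.ext
        intro q
        obtain ⟨b, rfl⟩ := QuotientGroup.mk_surjective q
        apply Subtype.ext
        show ⁅a * a', b⁆ = ⁅a, b⁆ * ⁅a', b⁆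
        exact comm_mul_left hcl a a' b }
  have hFker : Subgroup.center ↥P ≤ F.ker := by
    intro z hz
    rw [MonoidHom.mem_ker]
    apply MonoidHom.ext
    intro q
    obtain ⟨b, rfl⟩ := QuotientGroup.mk_surjective q
    apply Subtype.ext
    show ⁅z, b⁆ = 1
    rw [commutatorElement_eq_one_iff_mul_comm]
    exact ((Subgroup.mem_center_iff.mp hz) b).symm
  let K : (↥P ⧸ Subgroup.center ↥P) →* ((↥P ⧸ Subgroup.center ↥P) →* Subgroup.center ↥P) :=
    QuotientGroup.lift (Subgroup.center ↥P) F hFker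
  have hKmk : ∀ a b : ↥P, ((K (a : ↥P ⧸ Subgroup.center ↥P) (b : ↥P ⧸ Subgroup.center ↥P) :
      Subgroup.center ↥P) : ↥P) = ⁅a, b⁆ := fun a b => rfl
  -- the action
  let ψ : ↥H →* MulAut ↥P := FrobAction.conjHom P H hHP
  have hψ : ∀ (x : ↥H) (a : ↥P), ((ψ x a : ↥P) : G) = x * a * (x : G)⁻¹ := fun x a => rfl
  let ψq : ↥H →* MulAut (↥P ⧸ Subgroup.center ↥P) :=
    FrobAction.quoHom ψ (Subgroup.center ↥P) (FrobAction.invariant_center ψ)
  have hψq : ∀ (x : ↥H) (a : ↥P), ψq x (a : ↥P ⧸ Subgroup.center ↥P)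
      = ((ψ x a : ↥P) : ↥P ⧸ Subgroup.center ↥P) := fun x a => rfl
  -- the centre is centralized
  have hcent : ∀ (x : ↥H) (z : ↥P), z ∈ Subgroup.center ↥P → ψ x z = z := by
    intro x z hz
    by_cases hx : x = 1
    · rw [hx, map_one, MulAut.one_apply]
    · have hx' : (x : G) ≠ 1 := by
        intro h
        exact hx (Subtype.ext h)
      have h1 := hfix (x : G) x.2 hx'
      have h2 : (z : G) ∈ (Subgroup.center ↥P).map P.subtype := ⟨z, hz, rfl⟩
      rw [← h1] at h2
      have h3 := (Subgroup.mem_inf.mp h2).2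
      rw [Subgroup.mem_centralizer_singleton_iff] at h3
      apply Subtype.ext
      rw [hψ, ← h3, mul_inv_cancel_right]
  -- a generator
  obtain ⟨g₀, hg₀⟩ := hH.exists_generator
  have hord : orderOf g₀ = Nat.card ↥H := orderOf_eq_card_of_forall_mem_zpowers hg₀
  have hh : 0 < Nat.card ↥H := Nat.card_pos
  have hφh : (ψq g₀) ^ (Nat.card ↥H) = 1 := by
    rw [← map_pow, pow_card_eq_one', map_one]
  have hφκ : ∀ a b : ↥P ⧸ Subgroup.center ↥P, K (ψq g₀ a) (ψq g₀ b) = K a b := by
    intro a b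
    obtain ⟨a, rfl⟩ := QuotientGroup.mk_surjective a
    obtain ⟨b, rfl⟩ := QuotientGroup.mk_surjective b
    rw [hψq, hψq]
    apply Subtype.ext
    rw [hKmk, hKmk, ← map_commutatorElement]
    exact hcent g₀ _ (hcl a b)
  have hnd : ∀ a : ↥P ⧸ Subgroup.center ↥P, (∀ b, K a b = 1) → a = 1 := by
    intro a ha
    obtain ⟨a, rfl⟩ := QuotientGroup.mk_surjective a
    rw [QuotientGroup.eq_one_iff, Subgroup.mem_center_iff]
    intro b
    have h1 := congrArg Subtype.val (ha (b : ↥P ⧸ Subgroup.center ↥P))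
    rw [hKmk] at h1
    have h2 : ⁅a, b⁆ = 1 := h1
    rw [commutatorElement_eq_one_iff_mul_comm] at h2
    exact h2.symm
  have hexp : ∀ q : ↥P ⧸ Subgroup.center ↥P, q ^ p = 1 := by
    intro q
    obtain ⟨a, rfl⟩ := QuotientGroup.mk_surjective q
    rw [← QuotientGroup.mk_pow, QuotientGroup.eq_one_iff, ← hfrat]
    exact IsPGroup.pow_mem_frattini hPp a
  have hcard : Nat.card (↥P ⧸ Subgroup.center ↥P) = p ^ (2 * n) := by
    have h1 := Subgroup.card_eq_card_quotient_mul_card_subgroup (Subgroup.center ↥P)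
    rw [hn, hZcard, pow_succ] at h1
    exact (Nat.eq_of_mul_eq_mul_right hp.pos h1).symm
  have hfpf : ∀ j, 0 < j → j < Nat.card ↥H → ∀ a : ↥P ⧸ Subgroup.center ↥P,
      ((ψq g₀) ^ j) a = a → a = 1 := by
    intro j hj hjh a ha
    obtain ⟨a, rfl⟩ := QuotientGroup.mk_surjective a
    rw [← map_pow] at ha
    have hx1 : g₀ ^ j ≠ 1 := pow_ne_one_of_lt_orderOf (by omega) (by rw [hord]; exact hjh)
    have hx1' : ((g₀ ^ j : ↥H) : G) ≠ 1 := by
      intro h
      exact hx1 (Subtype.ext h)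
    -- all powers fix the coset
    have hall : ∀ y ∈ Subgroup.zpowers (g₀ ^ j), a⁻¹ * ψ y a ∈ Subgroup.center ↥P := by
      intro y hy
      rw [← mem_powers_iff_mem_zpowers] at hy
      obtain ⟨k, rfl⟩ := hy
      rw [← QuotientGroup.eq, ← hψq, map_pow, pow_fix _ _ ha]
    have hcop' : (Nat.card ↥(Subgroup.zpowers (g₀ ^ j))).Coprime
        (Nat.card ↥(Subgroup.center ↥P)) := by
      rw [hZcard]
      exact Nat.Coprime.coprime_dvd_left (Subgroup.card_subgroup_dvd_card _) hcop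
    obtain ⟨u, hu, hfixu⟩ := FrobAction.exists_fixed_in_coset ψ (Subgroup.zpowers (g₀ ^ j))
      (Subgroup.center ↥P)
      (fun x hx y _ => ((Subgroup.mem_center_iff.mp hx) y).symm)
      (FrobAction.invariant_center ψ) hcop' a hall
    have h1 := congrArg Subtype.val (hfixu (g₀ ^ j) (Subgroup.mem_zpowers _))
    rw [hψ] at h1
    have h2 : ((a * u : ↥P) : G) ∈ P ⊓ Subgroup.centralizer {((g₀ ^ j : ↥H) : G)} := by
      refine Subgroup.mem_inf.mpr ⟨(a * u).2, ?_⟩
      rw [Subgroup.mem_centralizer_singleton_iff]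
      symm
      calc ((g₀ ^ j : ↥H) : G) * ((a * u : ↥P) : G)
          = (((g₀ ^ j : ↥H) : G) * ((a * u : ↥P) : G) * ((g₀ ^ j : ↥H) : G)⁻¹)
            * ((g₀ ^ j : ↥H) : G) := by group
        _ = ((a * u : ↥P) : G) * ((g₀ ^ j : ↥H) : G) := by rw [h1]
    rw [hfix _ (g₀ ^ j).2 hx1'] at h2
    obtain ⟨z, hz, hzeq⟩ := h2
    have h3 : z = a * u := Subtype.ext hzeq
    rw [h3] at hz
    rw [QuotientGroup.eq_one_iff]
    have h4 : a = (a * u) * u⁻¹ := by group
    rw [h4]
    exact mul_mem hz (inv_mem hu)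
  exact @SympCyc.symp_cyclic_group p _ (↥P ⧸ Subgroup.center ↥P) iQ _ (Subgroup.center ↥P) _
    hexp hZcard (fun a b => K a b)
    (fun a a' b => by rw [map_mul, MonoidHom.mul_apply])
    (fun a b b' => map_mul (K a) b b') hnd (ψq g₀) hφκ (Nat.card ↥H) hh hcop hφh hfpf n hcard

end Cfsg.Agent.S3767
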