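import Cfsg.Statements.S3768
import Cfsg.Agent.Lib.Helper18.FrobeniusThm
import Cfsg.Agent.Lib.Helper1.Frobenius

set_option autoImplicit false
open Cfsg

namespace Cfsg.Agent.S3768

open Pointwise
open Cfsg.Agent.Lib.Helper1

/-- If `h` has no nontrivial fixed point in the finite normal subgroup `K`, then every element of
`K` is of the form `k⁻¹ h k h⁻¹`. -/
theorem surj_phi {G : Type*} [Group G] (K : Subgroup G) [K.Normal] [Finite K] (h : G)
    (hfpf : K ⊓ Subgroup.centralizer {h} = ⊥) :
    ∀ y ∈ K, ∃ k ∈ K, k⁻¹ * h * k * h⁻¹ = y := by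
  have hmem : ∀ k : K, (k : G)⁻¹ * h * k * h⁻¹ ∈ K := by
    intro k
    have h1 : h * (k : G) * h⁻¹ ∈ K := Subgroup.Normal.conj_mem inferInstance _ k.2 h
    have e : (k : G)⁻¹ * h * k * h⁻¹ = (k : G)⁻¹ * (h * (k : G) * h⁻¹) := by group
    rw [e]
    exact K.mul_mem (K.inv_mem k.2) h1
  let φ : K → K := fun k => ⟨(k : G)⁻¹ * h * k * h⁻¹, hmem k⟩
  have hinj : Function.Injective φ := by
    intro a b hab
    have h1 : (a : G)⁻¹ * h * a * h⁻¹ = (b : G)⁻¹ * h * b * h⁻¹ := congrArg Subtype.val hab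
    have h2 : (b : G) * (a : G)⁻¹ ∈ K ⊓ Subgroup.centralizer {h} := by
      refine Subgroup.mem_inf.mpr ⟨K.mul_mem b.2 (K.inv_mem a.2), ?_⟩
      rw [Subgroup.mem_centralizer_iff]
      intro y hy
      rw [Set.mem_singleton_iff] at hy
      subst hy
      have h3 : (a : G)⁻¹ * y * a = (b : G)⁻¹ * y * b := by
        have := congrArg (· * y) h1
        simpa [mul_assoc] using this
      calc y * ((b : G) * (a : G)⁻¹) = (b : G) * ((b : G)⁻¹ * y * b) * (a : G)⁻¹ := by group
        _ = (b : G) * ((a : G)⁻¹ * y * a) * (a : G)⁻¹ := by rw [h3]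
        _ = (b : G) * (a : G)⁻¹ * y := by group
    rw [hfpf, Subgroup.mem_bot, mul_inv_eq_one] at h2
    exact (Subtype.ext h2).symm
  have hsurj : Function.Surjective φ := Finite.injective_iff_surjective.mp hinj
  intro y hy
  obtain ⟨k, hk⟩ := hsurj ⟨y, hy⟩
  exact ⟨k, k.2, congrArg Subtype.val hk⟩

theorem result {G : Type*} [Group G] [Finite G] (R : Subgroup G) (hR : Cfsg.IsFrobeniusComplement R) (N : Subgroup G) [N.Normal] (hKN : ¬ Cfsg.frobeniusKernel R ⊆ N) : Cfsg.IsFrobeniusComplement (R.map (QuotientGroup.mk' N)) ∧ Cfsg.frobeniusKernel (R.map (QuotientGroup.mk' N)) = QuotientGroup.mk' N '' Cfsg.frobeniusKernel R := by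
  obtain ⟨K, hKset, hKn, hc⟩ := Cfsg.Agent.Lib.Helper18.frobenius_kernel_subgroup R hR
  haveI := hKn
  have hdis : K ⊓ R = ⊥ := hc.disjoint.eq_bot
  have hR1 : R ≠ ⊥ := hR.1
  have hK1 : K ≠ ⊥ := by
    intro hK
    apply hKN
    rw [← hKset, hK]
    intro x hx
    rw [SetLike.mem_coe, Subgroup.mem_bot] at hx
    rw [hx]; exact N.one_mem
  have hfpf := (isFrobeniusComplement_iff_fpf K R hc hK1 hR1).mp hR
  have hKmem : ∀ x, x ∈ K ↔ x ∈ Cfsg.frobeniusKernel R := by
    intro x; rw [← hKset]; rfl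
  -- N ≤ K
  have hNK : N ≤ K := by
    intro n hn
    by_contra hnK
    rw [hKmem] at hnK
    have hn1 : n ≠ 1 := fun h => hnK (Or.inl h)
    have hex : ∃ g : G, n ∈ MulAut.conj g • R := by
      by_contra hne
      push Not at hne
      exact hnK (Or.inr hne)
    obtain ⟨g, hg⟩ := hex
    rw [mem_conj_smul] at hg
    set x := g⁻¹ * n * g with hx
    have hxN : x ∈ N := by
      have := Subgroup.Normal.conj_mem (inferInstance : N.Normal) n hn g⁻¹
      simpa [hx] using this
    have hx1 : x ≠ 1 := by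
      intro h
      apply hn1
      have e : n = g * x * g⁻¹ := by rw [hx]; group
      rw [e, h]; group
    apply hKN
    intro y hy
    rw [← hKmem] at hy
    obtain ⟨k, hk, rfl⟩ := surj_phi K x (hfpf x hg hx1) y hy
    have h1 : k⁻¹ * x * k ∈ N := by
      have := Subgroup.Normal.conj_mem (inferInstance : N.Normal) x hxN k⁻¹
      simpa using this
    exact N.mul_mem h1 (N.inv_mem hxN)
  set π := QuotientGroup.mk' N with hπ
  have hπs : Function.Surjective π := QuotientGroup.mk'_surjective N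
  have hπ1 : ∀ x : G, π x = 1 ↔ x ∈ N := fun x => QuotientGroup.eq_one_iff x
  haveI : (K.map π).Normal := Subgroup.Normal.map hKn π hπs
  -- disjointness in the quotient
  have hdis' : Disjoint (K.map π) (R.map π) := by
    rw [Subgroup.disjoint_def]
    intro x hxK hxR
    obtain ⟨k, hk, rfl⟩ := Subgroup.mem_map.mp hxK
    obtain ⟨r, hr, hkr⟩ := Subgroup.mem_map.mp hxR
    have h1 : r⁻¹ * k ∈ N := by
      rw [← hπ1, map_mul, map_inv, hkr, inv_mul_cancel]
    have h2 : r ∈ K := by
      have := K.mul_mem hk (K.inv_mem (hNK h1))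
      simpa using this
    have h3 : r ∈ K ⊓ R := Subgroup.mem_inf.mpr ⟨h2, hr⟩
    rw [hdis, Subgroup.mem_bot] at h3
    rw [← hkr, h3, map_one]
  have hc' : Subgroup.IsComplement' (K.map π) (R.map π) := by
    apply Subgroup.isComplement'_of_disjoint_and_mul_eq_univ hdis'
    rw [Set.eq_univ_iff_forall]
    intro x
    obtain ⟨g, rfl⟩ := hπs x
    obtain ⟨k, hk, r, hr, rfl⟩ := Cfsg.Agent.Lib.Helper1.IsComplement'.exists_mul_eq hc g
    rw [map_mul]
    exact Set.mul_mem_mul (Subgroup.mem_map_of_mem π hk) (Subgroup.mem_map_of_mem π hr)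
  have hK1' : K.map π ≠ ⊥ := by
    intro h
    apply hKN
    intro y hy
    rw [← hKmem] at hy
    have : π y ∈ K.map π := Subgroup.mem_map_of_mem π hy
    rw [h, Subgroup.mem_bot, hπ1] at this
    exact this
  have hR1' : R.map π ≠ ⊥ := by
    intro h
    apply hR1
    rw [eq_bot_iff]
    intro r hr
    have : π r ∈ R.map π := Subgroup.mem_map_of_mem π hr
    rw [h, Subgroup.mem_bot, hπ1] at this
    have h3 : r ∈ K ⊓ R := Subgroup.mem_inf.mpr ⟨hNK this, hr⟩
    rwa [hdis] at h3
  constructor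
  · rw [isFrobeniusComplement_iff_fpf (K.map π) (R.map π) hc' hK1' hR1']
    intro hbar hhbar hhbar1
    obtain ⟨h, hh, rfl⟩ := Subgroup.mem_map.mp hhbar
    have hh1 : h ≠ 1 := by
      intro e; apply hhbar1; rw [e, map_one]
    -- surjectivity upstairs gives surjectivity downstairs
    have hsurj := surj_phi K h (hfpf h hh hh1)
    have hmem : ∀ x : K.map π, (x : G ⧸ N)⁻¹ * π h * x * (π h)⁻¹ ∈ K.map π := by
      intro x
      have h1 : π h * (x : G ⧸ N) * (π h)⁻¹ ∈ K.map π :=
        Subgroup.Normal.conj_mem inferInstance _ x.2 (π h)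
      have e : (x : G ⧸ N)⁻¹ * π h * x * (π h)⁻¹ = (x : G ⧸ N)⁻¹ * (π h * (x : G ⧸ N) * (π h)⁻¹) := by
        group
      rw [e]
      exact (K.map π).mul_mem ((K.map π).inv_mem x.2) h1
    let ψ : K.map π → K.map π := fun x => ⟨(x : G ⧸ N)⁻¹ * π h * x * (π h)⁻¹, hmem x⟩
    have hψs : Function.Surjective ψ := by
      rintro ⟨y, hy⟩
      obtain ⟨k', hk', rfl⟩ := Subgroup.mem_map.mp hy
      obtain ⟨k, hk, hkk⟩ := hsurj k' hk'
      refine ⟨⟨π k, Subgroup.mem_map_of_mem π hk⟩, ?_⟩
      apply Subtype.ext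
      change (π k)⁻¹ * π h * π k * (π h)⁻¹ = π k'
      rw [← hkk]
      simp only [map_mul, map_inv]
    have hψi : Function.Injective ψ := Finite.injective_iff_surjective.mpr hψs
    rw [eq_bot_iff]
    intro x hx
    obtain ⟨hxK, hxC⟩ := Subgroup.mem_inf.mp hx
    rw [Subgroup.mem_bot]
    have hcomm : π h * x = x * π h :=
      (Subgroup.mem_centralizer_iff.mp hxC) (π h) (Set.mem_singleton _)
    have h1 : ψ ⟨x, hxK⟩ = ψ 1 := by
      apply Subtype.ext
      change x⁻¹ * π h * x * (π h)⁻¹ = (1 : G ⧸ N)⁻¹ * π h * 1 * (π h)⁻¹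
      rw [mul_assoc x⁻¹, hcomm]
      group
    have := hψi h1
    exact congrArg Subtype.val this
  · ext xbar
    constructor
    · intro hx
      obtain ⟨x, rfl⟩ := hπs xbar
      obtain ⟨k, hk, r, hr, rfl⟩ := Cfsg.Agent.Lib.Helper1.IsComplement'.exists_mul_eq hc x
      by_cases hr1 : r = 1
      · refine ⟨k, (hKmem k).mp hk, ?_⟩
        rw [hr1, mul_one]
      · -- k * r ∉ K so it lies in a conjugate of R
        have hnK : k * r ∉ K := by
          intro hkr
          have : r ∈ K := by
            have := K.mul_mem (K.inv_mem hk) hkr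
            simpa using this
          have h3 : r ∈ K ⊓ R := Subgroup.mem_inf.mpr ⟨this, hr⟩
          rw [hdis, Subgroup.mem_bot] at h3
          exact hr1 h3
        rw [hKmem] at hnK
        have hex : ∃ g : G, k * r ∈ MulAut.conj g • R := by
          by_contra hne
          push Not at hne
          exact hnK (Or.inr hne)
        obtain ⟨g, hg⟩ := hex
        rw [mem_conj_smul] at hg
        rcases hx with hx | hx
        · exact ⟨1, Or.inl rfl, by rw [hx, map_one]⟩
        · exfalso
          apply hx (π g)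
          rw [mem_conj_smul]
          have : π (g⁻¹ * (k * r) * g) ∈ R.map π := Subgroup.mem_map_of_mem π hg
          simpa only [map_mul, map_inv] using this
    · rintro ⟨k, hk, rfl⟩
      rw [← hKmem] at hk
      by_cases hk1 : π k = 1
      · exact Or.inl hk1
      · right
        intro gbar hg
        obtain ⟨g, rfl⟩ := hπs gbar
        rw [mem_conj_smul] at hg
        have hg' : π (g⁻¹ * k * g) ∈ R.map π := by
          simpa only [map_mul, map_inv] using hg
        have hkK : π (g⁻¹ * k * g) ∈ K.map π := by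
          apply Subgroup.mem_map_of_mem
          have := Subgroup.Normal.conj_mem hKn k hk g⁻¹
          simpa using this
        have h1 := (Subgroup.disjoint_def.mp hdis') hkK hg'
        apply hk1
        have e : π k = π g * π (g⁻¹ * k * g) * (π g)⁻¹ := by
          simp only [map_mul, map_inv]; group
        rw [e, h1]; group

end Cfsg.Agent.S3768
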