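import Cfsg.Statements.S3769
import Cfsg.Agent.Lib.Helper10.XRepMin
import Cfsg.Agent.Lib.Helper1.CoprimeSylow

set_option autoImplicit false
open Cfsg

namespace Cfsg.Agent.S3769

open Cfsg.Agent.Lib.Helper10 Cfsg.Agent.Lib.Helper10.XRep
open scoped commutatorElement

/-- Let G and V be subgroups of a finite group with G solvable of odd order normalizing V, V an elementary abelian ℓ-group for a prime ℓ not dividing the order of G, and suppose G has a normal Hall subgroup K with a complement R of prime order. If C_V(R) = 1, then [R, K] centralizes V. -/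
theorem result {X : Type*} [Group X] [Finite X] (G : Subgroup X) (hsolv : Group.IsSolvable G) (hodd : Odd (Nat.card G)) (V : Subgroup X) {ℓ : ℕ} (hℓ : ℓ.Prime) (hV : Cfsg.IsElementaryAbelian ℓ V) (hℓG : ¬ ℓ ∣ Nat.card G) (hGV : G ≤ Subgroup.normalizer (V : Set X)) (K R : Subgroup X) (hKG : K ≤ G) (hKn : G ≤ Subgroup.normalizer (K : Set X)) (hHall : (Nat.card K).Coprime (K.relIndex G)) (hRG : R ≤ G) (hR : (Nat.card R).Prime) (hKR : K ⊓ R = ⊥) (hKRG : K ⊔ R = G) (hCV : V ⊓ Subgroup.centralizer (R : Set X) = ⊥) : ⁅R, K⁆ ≤ Subgroup.centralizer (V : Set X) := by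
  classical
  obtain ⟨r, hrdef⟩ : ∃ r, r = Nat.card R := ⟨_, rfl⟩
  have hr : r.Prime := hrdef ▸ hR
  have hFr : Fact r.Prime := ⟨hr⟩
  -- a generator of R
  have hRcyc : IsCyclic R := isCyclic_of_prime_card hrdef.symm
  obtain ⟨x, hx⟩ := hRcyc.exists_generator
  obtain ⟨x₀, hx₀⟩ : ∃ x₀ : X, x₀ = (x : X) := ⟨_, rfl⟩
  have hx₀R : x₀ ∈ R := hx₀ ▸ x.2
  have hRz : ∀ y ∈ R, ∃ k : ℤ, x₀ ^ k = y := by
    intro y hy
    obtain ⟨k, hk⟩ := Subgroup.mem_zpowers_iff.mp (hx ⟨y, hy⟩)
    refine ⟨k, ?_⟩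
    have := congrArg Subtype.val hk
    rw [Subgroup.coe_zpow] at this
    rw [hx₀]
    exact this
  have hx₀r : x₀ ^ r = 1 := by
    have h1 : x ^ Nat.card R = 1 := pow_card_eq_one'
    rw [← hrdef] at h1
    have := congrArg Subtype.val h1
    rw [Subgroup.coe_pow] at this
    rw [hx₀]
    exact this
  have hcentR : ∀ g : X, x₀ * g * x₀⁻¹ = g → g ∈ Subgroup.centralizer (R : Set X) := by
    intro g hg
    rw [Subgroup.mem_centralizer_iff]
    intro y hy
    obtain ⟨k, rfl⟩ := hRz y hy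
    have h1 : Commute x₀ g := by
      show x₀ * g = g * x₀
      calc x₀ * g = (x₀ * g * x₀⁻¹) * x₀ := by group
        _ = g * x₀ := by rw [hg]
    exact (h1.zpow_left k)
  -- the index of K
  have hrel : K.relIndex G = r := by
    have hn : (K.subgroupOf G).Normal := Subgroup.normal_subgroupOf_of_le_normalizer hKn
    have h1 : K.subgroupOf G ⊔ R.subgroupOf G = ⊤ := by
      rw [← Subgroup.subgroupOf_sup hKG hRG, hKRG, Subgroup.subgroupOf_self]
    have h2 := Subgroup.relIndex_sup_left (R.subgroupOf G) (K.subgroupOf G)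
    rw [h1, Subgroup.relIndex_top_right] at h2
    have h3 : (K.subgroupOf G).relIndex (R.subgroupOf G) = K.relIndex R :=
      Subgroup.relIndex_subgroupOf hRG
    rw [h3, ← Subgroup.inf_relIndex_right, hKR, Subgroup.relIndex_bot_left] at h2
    rw [hrdef, ← h2]
    rfl
  have hcop : (Nat.card K).Coprime r := hrel ▸ hHall
  -- the representation
  have hcommV : ∀ a ∈ V, ∀ b ∈ V, a * b = b * a := by
    intro a ha b hb
    exact congrArg Subtype.val (hV.1.is_comm.comm ⟨a, ha⟩ ⟨b, hb⟩)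
  obtain ⟨E, iF, iA, iC, n, ρ, h1, h2, -⟩ := exists_rep_subgroup hℓ V G hcommV hV.2 hGV
  have hprimeE : ∀ q : ℕ, q.Prime → q ∣ Nat.card G → (q : E) ≠ 0 := by
    intro q hq hqG h
    rw [CharP.cast_eq_zero_iff E ℓ q] at h
    rw [(Nat.prime_dvd_prime_iff_eq hℓ hq).mp h] at hℓG
    exact hℓG hqG
  have hrG : r ∣ Nat.card G := hrdef ▸ Subgroup.card_dvd_of_le hRG
  have hrE : (r : E) ≠ 0 := hprimeE r hr hrG
  let x' : G := ⟨x₀, hRG hx₀R⟩
  have hx'r : x' ^ r = 1 := by
    apply Subtype.ext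
    rw [Subgroup.coe_pow]
    exact hx₀r
  have hfix : ∀ u, ρ x' u = u → u = 0 := by
    intro u hu
    by_contra hu0
    obtain ⟨v, hvV, hv1, hv⟩ := h2 x' ⟨u, hu0, hu⟩
    have h3 : v ∈ V ⊓ Subgroup.centralizer (R : Set X) := ⟨hvV, hcentR v hv⟩
    rw [hCV, Subgroup.mem_bot] at h3
    exact hv1 h3
  -- natural-number generators
  have hRn : ∀ y ∈ R, ∃ m : ℕ, x₀ ^ m = y := by
    intro y hy
    obtain ⟨k, hk⟩ := hRz y hy
    have hfo : IsOfFinOrder x₀ := isOfFinOrder_of_finite x₀
    have h3 : y ∈ Submonoid.powers x₀ := by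
      rw [hfo.mem_powers_iff_mem_zpowers]
      exact ⟨k, hk⟩
    obtain ⟨m, hm⟩ := h3
    exact ⟨m, hm⟩
  -- the elements of `K` commuting with `x'` in the representation
  let DK : Subgroup K :=
    { carrier := {k : K | ρ x' * ρ (Subgroup.inclusion hKG k) = ρ (Subgroup.inclusion hKG k) * ρ x'}
      one_mem' := by
        show ρ x' * ρ (Subgroup.inclusion hKG 1) = ρ (Subgroup.inclusion hKG 1) * ρ x'
        rw [map_one, map_one, mul_one, one_mul]
      mul_mem' := by
        intro a b ha hb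
        have ha' : ρ x' * ρ (Subgroup.inclusion hKG a) = ρ (Subgroup.inclusion hKG a) * ρ x' := ha
        have hb' : ρ x' * ρ (Subgroup.inclusion hKG b) = ρ (Subgroup.inclusion hKG b) * ρ x' := hb
        show ρ x' * ρ (Subgroup.inclusion hKG (a * b)) = ρ (Subgroup.inclusion hKG (a * b)) * ρ x'
        rw [map_mul, map_mul, ← mul_assoc, ha', mul_assoc, hb', mul_assoc]
      inv_mem' := by
        intro a ha
        have ha' : ρ x' * ρ (Subgroup.inclusion hKG a) = ρ (Subgroup.inclusion hKG a) * ρ x' := ha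
        show ρ x' * ρ (Subgroup.inclusion hKG a⁻¹) = ρ (Subgroup.inclusion hKG a⁻¹) * ρ x'
        have e1 : ρ (Subgroup.inclusion hKG a⁻¹) * ρ (Subgroup.inclusion hKG a) = 1 := by
          rw [← map_mul, ← map_mul, inv_mul_cancel, map_one, map_one]
        have e2 : ρ (Subgroup.inclusion hKG a) * ρ (Subgroup.inclusion hKG a⁻¹) = 1 := by
          rw [← map_mul, ← map_mul, mul_inv_cancel, map_one, map_one]
        calc ρ x' * ρ (Subgroup.inclusion hKG a⁻¹)
            = (ρ (Subgroup.inclusion hKG a⁻¹) * ρ (Subgroup.inclusion hKG a)) *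
                (ρ x' * ρ (Subgroup.inclusion hKG a⁻¹)) := by rw [e1, one_mul]
          _ = ρ (Subgroup.inclusion hKG a⁻¹) * (ρ (Subgroup.inclusion hKG a) * ρ x') *
                ρ (Subgroup.inclusion hKG a⁻¹) := by simp only [mul_assoc]
          _ = ρ (Subgroup.inclusion hKG a⁻¹) * (ρ x' * ρ (Subgroup.inclusion hKG a)) *
                ρ (Subgroup.inclusion hKG a⁻¹) := by rw [ha']
          _ = ρ (Subgroup.inclusion hKG a⁻¹) * ρ x' *
                (ρ (Subgroup.inclusion hKG a) * ρ (Subgroup.inclusion hKG a⁻¹)) := by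
                  simp only [mul_assoc]
          _ = ρ (Subgroup.inclusion hKG a⁻¹) * ρ x' := by rw [e2, mul_one] }
  have hDKmem : ∀ k : K, k ∈ DK ↔
      ρ x' * ρ (Subgroup.inclusion hKG k) = ρ (Subgroup.inclusion hKG k) * ρ x' := fun k => Iff.rfl
  -- coprime action
  have hKsolv : Group.IsSolvable K :=
    Group.isSolvable_of_isSolvable_injective (Subgroup.inclusion_injective hKG)
  have hact : Cfsg.Agent.Lib.Helper1.CoprimeAct R K :=
    ⟨hRG.trans hKn, by rw [← hrdef]; exact hcop.symm, Or.inr hKsolv⟩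
  have hKodd : Odd (Nat.card K) := by
    obtain ⟨c, hc⟩ := Subgroup.card_dvd_of_le hKG
    rw [hc] at hodd
    exact (Nat.odd_mul.mp hodd).1
  have hsyl : ∀ q : ℕ, q.Prime → q ^ ((Nat.card K).factorization q) ∣ Nat.card DK := by
    intro q hq
    have hFq : Fact q.Prime := ⟨hq⟩
    by_cases hqK : q ∣ Nat.card K
    · obtain ⟨P, hP⟩ := hact.exists_invariant_sylow q
      have hq2 : q ≠ 2 := by
        rintro rfl
        exact (Nat.not_even_iff_odd.mpr hKodd) (even_iff_two_dvd.mpr hqK)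
      have hqr : q ≠ r := by
        rintro rfl
        have := Nat.Coprime.eq_one_of_dvd hcop.symm hqK
        exact hq.one_lt.ne' this
      have hqG : q ∣ Nat.card G := hqK.trans (Subgroup.card_dvd_of_le hKG)
      have hle : (P : Subgroup K) ≤ DK := by
        intro k hk
        rw [hDKmem]
        refine linThm' ρ hq hr hqr (hprimeE q hq hqG) hrE x' hx'r hfix
          ((P : Subgroup K).map (Subgroup.inclusion hKG)) (P.isPGroup'.map _) ?_ ?_
          (Subgroup.inclusion hKG k) ⟨k, hk, rfl⟩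
        · rintro _ ⟨k1, hk1, rfl⟩
          have h3 : x₀ ∈ Subgroup.normalizer (((P : Subgroup K).map K.subtype : Subgroup X) : Set X) :=
            hP hx₀R
          have h4 := (Subgroup.mem_normalizer_iff.mp h3 (k1 : X)).mp ⟨k1, hk1, rfl⟩
          obtain ⟨k2, hk2, hk2e⟩ := h4
          refine ⟨k2, hk2, ?_⟩
          apply Subtype.ext
          exact hk2e
        · intro h2
          exact absurd h2 hq2
      have h5 := Subgroup.card_dvd_of_le hle
      rw [Sylow.card_eq_multiplicity] at h5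
      exact h5
    · rw [Nat.factorization_eq_zero_of_not_dvd hqK, pow_zero]
      exact one_dvd _
  have hDKtop : DK = ⊤ := by
    have hKne : Nat.card K ≠ 0 := Nat.card_pos.ne'
    have hDne : Nat.card DK ≠ 0 := Nat.card_pos.ne'
    have hdvd : Nat.card K ∣ Nat.card DK := by
      rw [← Nat.factorization_prime_le_iff_dvd hKne hDne]
      intro q hq
      exact (hq.pow_dvd_iff_le_factorization hDne).mp (hsyl q hq)
    apply Subgroup.eq_top_of_card_eq
    exact Nat.dvd_antisymm (Subgroup.card_subgroup_dvd_card DK) hdvd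
  -- conclusion
  rw [Subgroup.commutator_le]
  intro y hy k hk
  obtain ⟨m, rfl⟩ := hRn y hy
  have hk1 : (⟨k, hk⟩ : K) ∈ DK := by rw [hDKtop]; exact Subgroup.mem_top _
  rw [hDKmem] at hk1
  let k' : G := Subgroup.inclusion hKG ⟨k, hk⟩
  have hk2 : ρ x' * ρ k' = ρ k' * ρ x' := hk1
  have hk3 : ρ (x' ^ m) * ρ k' = ρ k' * ρ (x' ^ m) := by
    rw [map_pow]
    exact (Commute.pow_left (show Commute (ρ x') (ρ k') from hk2) m)
  have hk4 : ρ ⁅x' ^ m, k'⁆ = 1 := by
    rw [commutatorElement_def]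
    have e : x' ^ m * k' * (x' ^ m)⁻¹ * k'⁻¹ = (x' ^ m * k') * (k' * x' ^ m)⁻¹ := by group
    rw [e, map_mul, map_mul, hk3, ← map_mul, ← map_mul, mul_inv_cancel, map_one]
  have hk5 := h1 _ hk4
  have e2 : ((⁅x' ^ m, k'⁆ : G) : X) = ⁅x₀ ^ m, k⁆ := by
    rw [commutatorElement_def, commutatorElement_def]
    simp only [Subgroup.coe_mul, Subgroup.coe_inv, Subgroup.coe_pow]
    rfl
  rw [e2] at hk5
  exact hk5

end Cfsg.Agent.S3769
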