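import Cfsg.Statements.S3770
import Cfsg.Agent.Lib.Helper10.FrobSub
import Cfsg.Agent.S0042

set_option autoImplicit false
open Cfsg

namespace Cfsg.Agent.S3770

open Cfsg.Agent.Lib.Helper10.FrobAction
open scoped Pointwise

/-- Let G and V be subgroups of a finite group with G a Frobenius group with complement R of prime order and kernel K, G normalizing V, and V an elementary abelian ℓ-group for a prime ℓ not dividing the order of G. If C_V(R) has order ℓ, then the derived subgroup of K centralizes V. -/
theorem result {X : Type*} [Group X] [Finite X] (G : Subgroup X) (V : Subgroup X) {ℓ : ℕ} (hℓ : ℓ.Prime) (hV : Cfsg.IsElementaryAbelian ℓ V) (hℓG : ¬ ℓ ∣ Nat.card G) (hGV : G ≤ Subgroup.normalizer (V : Set X)) (R : Subgroup ↥G) (hR : Cfsg.IsFrobeniusComplement R) (hRp : (Nat.card R).Prime) (hCV : Nat.card ↥(V ⊓ Subgroup.centralizer ((R.map G.subtype : Subgroup X) : Set X)) = ℓ) : ⁅Subgroup.closure (Subtype.val '' Cfsg.frobeniusKernel R), Subgroup.closure (Subtype.val '' Cfsg.frobeniusKernel R)⁆ ≤ Subgroup.centralizer (V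 : Set X) := by
  classical
  obtain ⟨N, hNset, hNn, hNnil⟩ := Cfsg.Agent.S0042.result R hR
  haveI := hNn
  haveI : Fact ℓ.Prime := ⟨hℓ⟩
  have hclosure : Subgroup.closure (Subtype.val '' Cfsg.frobeniusKernel R)
      = N.map G.subtype := by
    rw [← hNset]
    have h1 : (Subtype.val '' (N : Set ↥G)) = ((N.map G.subtype : Subgroup X) : Set X) := by
      rw [Subgroup.coe_map]
      rfl
    rw [h1, Subgroup.closure_eq]
  rw [hclosure]
  -- the Frobenius condition
  have hfpf : ∀ r ∈ R, r ≠ 1 → ∀ k ∈ N, r * k = k * r → k = 1 := by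
    intro r hr hr1 k hk hrk
    by_contra hk1
    have hkK : k ∈ Cfsg.frobeniusKernel R := by
      rw [← hNset]
      exact hk
    rcases hkK with h | h
    · exact hk1 h
    · have hkR : k ∉ R := by
        intro hkR
        apply h 1
        rw [map_one, one_smul]
        exact hkR
      have h1 := hR.2.2 k hkR
      have h2 : r ∈ R ⊓ MulAut.conj k • R := by
        refine Subgroup.mem_inf.mpr ⟨hr, ?_⟩
        have h3 : MulAut.conj k • r ∈ MulAut.conj k • R :=
          Subgroup.smul_mem_pointwise_smul r (MulAut.conj k) R hr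
        have h4 : MulAut.conj k • r = r := by
          rw [MulAut.smul_def, MulAut.conj_apply, ← hrk, mul_inv_cancel_right]
        rwa [h4] at h3
      rw [h1, Subgroup.mem_bot] at h2
      exact hr1 h2
  -- `V` is a nilpotent group of order prime to `|G|`
  have hVp : IsPGroup ℓ V := by
    intro v
    refine ⟨1, ?_⟩
    rw [pow_one]
    apply Subtype.ext
    rw [Subgroup.coe_pow]
    exact hV.2 v v.2
  have hVnil : Group.IsNilpotent V := hVp.isNilpotent
  have hcop : (Nat.card G).Coprime (Nat.card V) := by
    obtain ⟨n, hn⟩ := hVp.exists_card_eq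
    rw [hn]
    exact Nat.Coprime.pow_right n ((Nat.Prime.coprime_iff_not_dvd hℓ).mpr hℓG).symm
  have hcyc : IsCyclic ↥(V ⊓ Subgroup.centralizer ((R.map G.subtype : Subgroup X) : Set X)) :=
    isCyclic_of_prime_card (p := ℓ) hCV
  exact commutator_le_centralizer_of_isCyclic V G hGV N R hNnil hfpf hVnil hcop hcyc

end Cfsg.Agent.S3770
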