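import Cfsg.Statements.S3771
import Mathlib

set_option autoImplicit false
open Cfsg

namespace Cfsg.Agent.S3771

lemma card_lt_of_lt' {G : Type*} [Group G] [Finite G] {H K : Subgroup G} (h : H < K) :
    Nat.card H < Nat.card K := by
  have h1 : Nat.card H ∣ Nat.card K := Subgroup.card_dvd_of_le h.le
  have h2 : Nat.card H ≤ Nat.card K := Nat.le_of_dvd Nat.card_pos h1
  rcases Nat.lt_or_ge (Nat.card H) (Nat.card K) with h3 | h3
  · exact h3
  · exfalso
    exact h.ne (Subgroup.eq_of_le_of_card_ge h.le h3)

/-- index of the centralizer of `y` is at most the size of any set containing all conjugates of `y` -/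
lemma index_centralizer_le {G : Type*} [Group G] [Finite G] (y : G) (T : Set G)
    (hT : ∀ g : G, g * y * g⁻¹ ∈ T) : (Subgroup.centralizer ({y} : Set G)).index ≤ T.ncard := by
  classical
  letI act : MulAction G G := MulAction.compHom G (MulAut.conj : G →* MulAut G)
  have hsmul : ∀ (b x : G), (act.toSMul.smul b x) = b * x * b⁻¹ := fun b x => rfl
  have hstab : @MulAction.stabilizer G G _ act y = Subgroup.centralizer ({y} : Set G) := by
    ext b
    rw [@MulAction.mem_stabilizer_iff G G _ act, Subgroup.mem_centralizer_iff]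
    simp only [Set.mem_singleton_iff, forall_eq]
    change b * y * b⁻¹ = y ↔ y * b = b * y
    constructor
    · intro h
      calc y * b = (b * y * b⁻¹) * b := by rw [h]
        _ = b * y := by group
    · intro h
      rw [← h]; group
  rw [← hstab, @MulAction.index_stabilizer G G _ act]
  apply Set.ncard_le_ncard _ (Set.toFinite T)
  rintro _ ⟨b, rfl⟩
  exact hT b

theorem result {R : Type*} [Group R] [Finite R] {p : ℕ} [Fact p.Prime] (hR : IsPGroup p R) (hrank : Cfsg.PRankLE p 2 R) (hexp : ∀ x : R, x ^ p = 1) : Nat.card R ≤ p ^ 3 := by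
  by_contra hcon
  have hp : p.Prime := Fact.out
  have hbig : p ^ 3 < Nat.card R := by omega
  obtain ⟨n, hn⟩ := IsPGroup.iff_card.mp hR
  have hn4 : 4 ≤ n := by
    by_contra h
    have : n ≤ 3 := by omega
    have := Nat.pow_le_pow_right hp.pos this
    omega
  haveI : Nontrivial R := by
    rw [← Finite.one_lt_card_iff_nontrivial]
    have : 1 ≤ p ^ 3 := Nat.one_le_pow _ _ hp.pos
    omega
  -- central element z
  haveI hcn : Nontrivial (Subgroup.center R) := hR.center_nontrivial
  obtain ⟨⟨z, hzc⟩, hz1⟩ := exists_ne (1 : Subgroup.center R)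
  have hz1' : z ≠ 1 := fun h => hz1 (Subtype.ext h)
  have hzn : (Subgroup.zpowers z).Normal := by
    refine ⟨fun w hw g => ?_⟩
    have hwc : w ∈ Subgroup.center R := by
      obtain ⟨k, rfl⟩ := hw
      exact Subgroup.zpow_mem _ hzc k
    rw [Subgroup.mem_center_iff] at hwc
    have : g * w * g⁻¹ = w := by rw [hwc g]; group
    rw [this]; exact hw
  have hzcard : Nat.card (Subgroup.zpowers z) = p := by
    rw [Nat.card_zpowers]
    have h1 : orderOf z ∣ p := orderOf_dvd_of_pow_eq_one (hexp z)
    rcases (Nat.dvd_prime hp).mp h1 with h | h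
    · exact absurd (orderOf_eq_one_iff.mp h) hz1'
    · exact h
  -- the quotient is a nontrivial p-group
  have hztop : Subgroup.zpowers z ≠ ⊤ := by
    intro h
    have : Nat.card (Subgroup.zpowers z) = Nat.card R := by rw [h, Subgroup.card_top]
    rw [hzcard] at this
    have : p ≤ p ^ 3 := by
      calc p = p ^ 1 := (pow_one p).symm
        _ ≤ p ^ 3 := Nat.pow_le_pow_right hp.pos (by norm_num)
    omega
  haveI : Nontrivial (R ⧸ Subgroup.zpowers z) := by
    rw [QuotientGroup.nontrivial_iff]; exact hztop
  have hQ : IsPGroup p (R ⧸ Subgroup.zpowers z) := hR.to_quotient _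
  haveI hcn2 : Nontrivial (Subgroup.center (R ⧸ Subgroup.zpowers z)) := hQ.center_nontrivial
  obtain ⟨⟨yb, hybc⟩, hyb1⟩ := exists_ne (1 : Subgroup.center (R ⧸ Subgroup.zpowers z))
  obtain ⟨y, rfl⟩ := QuotientGroup.mk_surjective yb
  have hy_notin : y ∉ Subgroup.zpowers z := by
    intro h
    apply hyb1
    apply Subtype.ext
    exact (QuotientGroup.eq_one_iff y).mpr h
  have hy_comm : ∀ g : R, g * y * g⁻¹ * y⁻¹ ∈ Subgroup.zpowers z := by
    intro g
    rw [← QuotientGroup.eq_one_iff]
    rw [Subgroup.mem_center_iff] at hybc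
    have := hybc (g : R ⧸ Subgroup.zpowers z)
    have h2 : ((g * y * g⁻¹ * y⁻¹ : R) : R ⧸ Subgroup.zpowers z) =
        (g : R ⧸ Subgroup.zpowers z) * (y : R ⧸ Subgroup.zpowers z) * (g : R ⧸ Subgroup.zpowers z)⁻¹ * (y : R ⧸ Subgroup.zpowers z)⁻¹ := by
      simp
    rw [h2, this]; group
  -- index of centralizer of y is at most p
  have hidx : (Subgroup.centralizer ({y} : Set R)).index ≤ p := by
    have h1 := index_centralizer_le y ((fun w => w * y) '' (Subgroup.zpowers z : Set R)) (by
      intro g
      exact ⟨g * y * g⁻¹ * y⁻¹, hy_comm g, by group⟩)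
    refine h1.trans ?_
    refine (Set.ncard_image_le (Set.toFinite _)).trans ?_
    rw [← Nat.card_coe_set_eq]
    exact hzcard.le
  -- |C(y)| ≥ p^3
  have hCcard : p ^ 3 ≤ Nat.card (Subgroup.centralizer ({y} : Set R)) := by
    have h1 := Subgroup.card_mul_index (Subgroup.centralizer ({y} : Set R))
    have hpos : 0 < (Subgroup.centralizer ({y} : Set R)).index := Nat.pos_of_ne_zero Subgroup.index_ne_zero_of_finite
    by_contra hlt
    have h3 : Nat.card (Subgroup.centralizer ({y} : Set R)) * (Subgroup.centralizer ({y} : Set R)).index < p ^ 3 * p := by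
      calc _ ≤ Nat.card (Subgroup.centralizer ({y} : Set R)) * p := Nat.mul_le_mul_left _ hidx
        _ < p ^ 3 * p := Nat.mul_lt_mul_of_pos_right (by omega) hp.pos
    rw [h1, hn] at h3
    have : p ^ 4 ≤ p ^ n := Nat.pow_le_pow_right hp.pos hn4
    have e : p ^ 3 * p = p ^ 4 := by ring
    omega
  -- the subgroup N = ⟨y, z⟩
  have hyz : y * z = z * y := ((Subgroup.mem_center_iff.mp hzc) y)
  set N := Subgroup.closure ({y, z} : Set R) with hN
  have hNab : IsMulCommutative N := by
    apply Subgroup.isMulCommutative_closure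
    intro a ha b hb
    simp only [Set.mem_insert_iff, Set.mem_singleton_iff] at ha hb
    rcases ha with rfl | rfl <;> rcases hb with rfl | rfl
    · rfl
    · exact hyz
    · exact hyz.symm
    · rfl
  have hNcard : Nat.card N ≤ p ^ 2 := hrank N hNab (fun a _ => hexp a)
  -- x in C(y) outside N
  have hex : ∃ x ∈ Subgroup.centralizer ({y} : Set R), x ∉ N := by
    by_contra hcon2
    have hle : Subgroup.centralizer ({y} : Set R) ≤ N := by
      intro x hx
      by_contra hxN
      exact hcon2 ⟨x, hx, hxN⟩
    have := Nat.le_of_dvd Nat.card_pos (Subgroup.card_dvd_of_le hle)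
    have : p ^ 2 < p ^ 3 := Nat.pow_lt_pow_right hp.one_lt (by norm_num)
    omega
  obtain ⟨x, hxC, hxN⟩ := hex
  have hxy : x * y = y * x := by
    rw [Subgroup.mem_centralizer_iff] at hxC
    exact (hxC y rfl).symm
  have hxz : x * z = z * x := ((Subgroup.mem_center_iff.mp hzc) x)
  set E := Subgroup.closure ({x, y, z} : Set R) with hE
  have hEab : IsMulCommutative E := by
    apply Subgroup.isMulCommutative_closure
    intro a ha b hb
    simp only [Set.mem_insert_iff, Set.mem_singleton_iff] at ha hb
    rcases ha with rfl | rfl | rfl <;> rcases hb with rfl | rfl | rfl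
    · rfl
    · exact hxy
    · exact hxz
    · exact hxy.symm
    · rfl
    · exact hyz
    · exact hxz.symm
    · exact hyz.symm
    · rfl
  have hEcard : Nat.card E ≤ p ^ 2 := hrank E hEab (fun a _ => hexp a)
  -- chain ⊥ < ⟨z⟩ < N < E
  have hzN : Subgroup.zpowers z < N := by
    refine lt_of_le_of_ne ?_ ?_
    · rw [Subgroup.zpowers_le]
      exact Subgroup.subset_closure (by simp)
    · intro h
      apply hy_notin
      rw [h]
      exact Subgroup.subset_closure (by simp)
  have hNE : N < E := by
    refine lt_of_le_of_ne ?_ ?_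
    · apply Subgroup.closure_mono
      intro a ha
      simp only [Set.mem_insert_iff, Set.mem_singleton_iff] at ha ⊢
      tauto
    · intro h
      apply hxN
      rw [h]
      exact Subgroup.subset_closure (by simp)
  have c1 := card_lt_of_lt' hzN
  have c2 := card_lt_of_lt' hNE
  rw [hzcard] at c1
  obtain ⟨b, hb⟩ := IsPGroup.iff_card.mp (hR.to_subgroup N)
  obtain ⟨c, hc⟩ := IsPGroup.iff_card.mp (hR.to_subgroup E)
  rw [hb] at c1 c2
  rw [hc] at c2 hEcard
  have hb2 : 2 ≤ b := by
    by_contra h
    have : b ≤ 1 := by omega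
    have := Nat.pow_le_pow_right hp.pos this
    rw [pow_one] at this
    omega
  have hbc : b < c := (Nat.pow_lt_pow_iff_right hp.one_lt).mp c2
  have hc2 : c ≤ 2 := (Nat.pow_le_pow_iff_right hp.one_lt).mp hEcard
  omega

end Cfsg.Agent.S3771
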