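import Cfsg.Statements.S3772
import Cfsg.Agent.Lib.Helper20.GaussTwo
import Cfsg.Agent.Lib.Helper1.Frattini
import Cfsg.Agent.Lib.Helper10.PGroup

set_option autoImplicit false
open Cfsg

namespace Cfsg.Agent.S3772

open Cfsg.Agent.Lib.Helper20.GaussTwo
open scoped commutatorElement

section

variable {G : Type*} [Group G] [Finite G]

/-- a normal subgroup of prime order of a `p`-group is central -/
theorem le_center_of_card_prime {p : ℕ} [Fact p.Prime] (hG : IsPGroup p G) (N : Subgroup G)
    [N.Normal] (hN : Nat.card N = p) : N ≤ Subgroup.center G := by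
  have hp : p.Prime := Fact.out
  have hne : N ≠ ⊥ := by
    intro h
    rw [h, Subgroup.card_bot] at hN
    exact hp.one_lt.ne hN
  have h1 := Cfsg.Agent.Lib.Helper10.normal_inf_center_ne_bot hG N hne
  have h2 : Nat.card (N ⊓ Subgroup.center G : Subgroup G) ∣ p :=
    hN ▸ Subgroup.card_dvd_of_le inf_le_left
  rcases (Nat.dvd_prime hp).mp h2 with h3 | h3
  · exact absurd (Subgroup.card_eq_one.mp h3) h1
  · have h4 : N ⊓ Subgroup.center G = N :=
      Subgroup.eq_of_le_of_card_ge inf_le_left (by rw [h3, hN])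
    rw [← h4]; exact inf_le_right

/-- a group of exponent two has trivial Frattini subgroup -/
theorem frattini_eq_bot_of_sq (hsq : ∀ x : G, x ^ 2 = 1) : frattini G = ⊥ := by
  have hcomm : commutator G ≤ ⊥ := by
    rw [commutator_def, Subgroup.commutator_le]
    intro x _ y _
    rw [Subgroup.mem_bot, commutatorElement_def]
    have hx : x⁻¹ = x := by
      rw [inv_eq_iff_mul_eq_one, ← pow_two]; exact hsq x
    have hy : y⁻¹ = y := by
      rw [inv_eq_iff_mul_eq_one, ← pow_two]; exact hsq y
    rw [hx, hy]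
    have h := hsq (x * y)
    rw [pow_two] at h
    rw [← h]; group
  have h := Cfsg.Agent.Lib.Helper1.frattini_le_of_commutator_le_of_pow_mem (p := 2) (⊥ : Subgroup G)
    hcomm (fun x => by rw [Subgroup.mem_bot]; exact hsq x)
  exact le_bot_iff.mp h

/-- the Gauss sum dichotomy for a 2-group with Frattini subgroup of order two -/
theorem gauss_core (hG : IsPGroup 2 G) (hΦ : Nat.card (frattini G) = 2) :
    2 * (Nat.card {x : G // x ^ 2 = 1} : ℤ) - (Nat.card G : ℤ) = 0 ∨
    (2 * (Nat.card {x : G // x ^ 2 = 1} : ℤ) - (Nat.card G : ℤ)) ^ 2 =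
      (Nat.card G : ℤ) * (Nat.card (Subgroup.center G) : ℤ) := by
  classical
  haveI : Fintype G := Fintype.ofFinite G
  haveI : (frattini G).Normal := inferInstance
  have hM : frattini G ≤ Subgroup.center G := le_center_of_card_prime hG (frattini G) hΦ
  have hsq : ∀ x : G, x ^ 2 ∈ frattini G :=
    fun x => Cfsg.Agent.Lib.Helper1.IsPGroup.pow_mem_frattini hG x
  have hcomm : ∀ x y : G, ⁅x, y⁆ ∈ frattini G := fun x y =>
    Cfsg.Agent.Lib.Helper1.IsPGroup.commutator_le_frattini hG
      (Subgroup.commutator_mem_commutator (Subgroup.mem_top x) (Subgroup.mem_top y))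
  have hU : Nat.card ℤˣ = 2 := by rw [Nat.card_eq_fintype_card]; rfl
  let e : frattini G ≃* ℤˣ := mulEquivOfPrimeCardEq (p := 2) hΦ hU
  let χ : frattini G →* ℤˣ := e.toMonoidHom
  have hχ : Function.Injective χ := e.injective
  have hσ : ∀ x : G, ((sqChar (frattini G) hsq χ x : ℤˣ) : ℤ) = if x ^ 2 = 1 then 1 else -1 := by
    intro x
    unfold sqChar
    split_ifs with h
    · have h1 : (⟨x ^ 2, hsq x⟩ : frattini G) = 1 := Subtype.ext h
      rw [h1, map_one]; rfl
    · have h1 : χ ⟨x ^ 2, hsq x⟩ ≠ 1 := by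
        intro h2
        rw [← map_one χ] at h2
        exact h (congrArg Subtype.val (hχ h2))
      rcases Int.units_eq_one_or (χ ⟨x ^ 2, hsq x⟩) with h2 | h2
      · exact absurd h2 h1
      · rw [h2]; rfl
  have hsum : ∑ x : G, ((sqChar (frattini G) hsq χ x : ℤˣ) : ℤ) =
      2 * (Nat.card {x : G // x ^ 2 = 1} : ℤ) - (Nat.card G : ℤ) := by
    simp only [hσ]
    rw [Finset.sum_ite, Finset.sum_const, Finset.sum_const, Nat.card_eq_fintype_card,
      Nat.card_eq_fintype_card, Fintype.card_subtype]
    have h1 := Finset.card_filter_add_card_filter_not (s := (Finset.univ : Finset G))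
      (fun x : G => x ^ 2 = 1)
    rw [Finset.card_univ] at h1
    rw [← h1]
    push_cast
    simp only [nsmul_eq_mul, mul_one, mul_neg]
    ring
  have hcases := gauss_sq_cases (sqChar (frattini G) hsq χ) (commChar (frattini G) hM hcomm χ)
    (sqChar_mul (frattini G) hM hsq hcomm χ) (commChar_self (frattini G) hM hcomm χ)
  rw [hsum, rad_eq_center_of_injective (frattini G) hM hcomm χ hχ] at hcases
  rcases hcases with h | ⟨h, -⟩
  · left; exact h
  · right
    rw [h, Nat.card_eq_fintype_card (α := G)]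

end

/-- Let G be a finite 2-group whose Frattini subgroup Φ(G) has order 2, with |G : Φ(G)| = 2^d, and let j be the number of elements x of G with x² = 1. Then j = 2^d, or j = 2^d + 2^(d−r) or j = 2^d − 2^(d−r) for some positive integer r with 2r ≤ d. Moreover if d = 2r and j is 2^d + 2^r or 2^d − 2^r, then G is extraspecial. -/
theorem result {G : Type*} [Group G] [Finite G] (hG : IsPGroup 2 G) (hΦ : Nat.card (frattini G) = 2) (d : ℕ) (hd : (frattini G).index = 2 ^ d) : (Nat.card {x : G // x ^ 2 = 1} = 2 ^ d ∨ ∃ r : ℕ, 1 ≤ r ∧ 2 * r ≤ d ∧ (Nat.card {x : G // x ^ 2 = 1} = 2 ^ d + 2 ^ (d - r) ∨ Nat.card {x : G // x ^ 2 = 1} + 2 ^ (d - r) = 2 ^ d)) ∧ (∀ r : ℕ, d = 2 * r → (Nat.card {x : G // x ^ 2 = 1} = 2 ^ d + 2 ^ r ∨ Nat.card {x : G // x ^ 2 = 1} + 2 ^ r = 2 ^ d) → Cfsg.IsExtraspecial 2 G) := by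
  classical
  have h2 : Nat.Prime 2 := Nat.prime_two
  have hcore := gauss_core hG hΦ
  set j := Nat.card {x : G // x ^ 2 = 1} with hj
  haveI : (frattini G).Normal := inferInstance
  have hM : frattini G ≤ Subgroup.center G := le_center_of_card_prime hG (frattini G) hΦ
  -- orders
  have hcardG : Nat.card G = 2 * 2 ^ d := by
    rw [← Subgroup.card_mul_index (frattini G), hΦ, hd]
  obtain ⟨ρ, hρ⟩ := (hG.to_subgroup (Subgroup.center G)).exists_card_eq
  have hρ1 : 1 ≤ ρ := by
    have h3 : 2 ∣ 2 ^ ρ := by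
      rw [← hρ, ← hΦ]; exact Subgroup.card_dvd_of_le hM
    by_contra h4
    have h5 : ρ = 0 := by omega
    rw [h5] at h3
    norm_num at h3
  have hρd : ρ ≤ d + 1 := by
    have h3 : 2 ^ ρ ∣ 2 ^ (d + 1) := by
      rw [← hρ, pow_succ, mul_comm, ← hcardG]
      exact Subgroup.card_subgroup_dvd_card _
    exact (Nat.pow_dvd_pow_iff_le_right (by norm_num)).mp h3
  have hjpos : 1 ≤ j := by
    rw [hj]
    haveI : Nonempty {x : G // x ^ 2 = 1} := ⟨⟨1, one_pow 2⟩⟩
    exact Nat.card_pos
  -- if all squares are trivial we get a contradiction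
  have hnotall : j ≠ Nat.card G := by
    intro hall
    haveI : Fintype G := Fintype.ofFinite G
    have h3 : ∀ x : G, x ^ 2 = 1 := by
      rw [hj, Nat.card_eq_fintype_card, Nat.card_eq_fintype_card, Fintype.card_subtype,
        ← Finset.card_univ] at hall
      intro x
      exact Finset.filter_card_eq hall x (Finset.mem_univ x)
    have h4 := frattini_eq_bot_of_sq h3
    rw [h4, Subgroup.card_bot] at hΦ
    norm_num at hΦ
  -- analysis of the nonzero case
  have hB : (2 * (j : ℤ) - (Nat.card G : ℤ)) ≠ 0 →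
      ∃ e : ℕ, 1 ≤ e ∧ 2 * e = d + 1 + ρ ∧ ρ ≤ d ∧
        (2 * (j : ℤ) - (Nat.card G : ℤ) = 2 ^ e ∨ 2 * (j : ℤ) - (Nat.card G : ℤ) = -2 ^ e) := by
    intro hne
    rcases hcore with h | h
    · exact absurd h hne
    · set g : ℤ := 2 * (j : ℤ) - (Nat.card G : ℤ) with hg
      have h3 : g.natAbs ^ 2 = 2 ^ (d + 1 + ρ) := by
        have h4 := congrArg Int.natAbs h
        rw [Int.natAbs_pow, Int.natAbs_mul, Int.natAbs_natCast, Int.natAbs_natCast, hcardG,
          hρ] at h4
        rw [h4]; ring
      have h5 : g.natAbs ∣ 2 ^ (d + 1 + ρ) := by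
        rw [← h3]; exact dvd_pow_self _ (by norm_num)
      obtain ⟨e, -, he⟩ := (Nat.dvd_prime_pow h2).mp h5
      have h6 : 2 * e = d + 1 + ρ := by
        rw [he, ← pow_mul] at h3
        have := Nat.pow_right_injective (le_refl 2) h3
        omega
      have hge : g = 2 ^ e ∨ g = -2 ^ e := by
        rcases Int.natAbs_eq g with h7 | h7
        · left; rw [h7, he]; push_cast; rfl
        · right; rw [h7, he]; push_cast; rfl
      have hρd' : ρ ≤ d := by
        by_contra h7
        have h8 : ρ = d + 1 := by omega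
        have h9 : e = d + 1 := by omega
        have h10 : (Nat.card G : ℤ) = 2 ^ e := by
          rw [hcardG, h9, pow_succ]; push_cast; ring
        rcases hge with h11 | h11
        · have h12 : (j : ℤ) = (Nat.card G : ℤ) := by
            rw [hg] at h11; linarith
          exact hnotall (by exact_mod_cast h12)
        · have h12 : (j : ℤ) = 0 := by
            rw [hg] at h11; linarith
          have h13 : j = 0 := by exact_mod_cast h12
          omega
      exact ⟨e, by omega, h6, hρd', hge⟩
  constructor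
  · by_cases hz : 2 * (j : ℤ) - (Nat.card G : ℤ) = 0
    · left
      have h3 : (2 * j : ℤ) = ((2 * 2 ^ d : ℕ) : ℤ) := by
        rw [← hcardG]; linarith
      have h4 : 2 * j = 2 * 2 ^ d := by exact_mod_cast h3
      omega
    · right
      obtain ⟨e, he1, he2, hρd', hge⟩ := hB hz
      refine ⟨d + 1 - e, by omega, by omega, ?_⟩
      have hde : d - (d + 1 - e) = e - 1 := by omega
      rw [hde]
      have hpe : (2 : ℤ) ^ e = 2 * 2 ^ (e - 1) := by
        rw [← pow_succ']; congr 1; omega
      have hG' : (Nat.card G : ℤ) = 2 * 2 ^ d := by rw [hcardG]; push_cast; ring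
      rcases hge with h3 | h3
      · left
        have h4 : (j : ℤ) = 2 ^ d + 2 ^ (e - 1) := by
          rw [hpe, hG'] at h3; linarith
        exact_mod_cast h4
      · right
        have h4 : (j : ℤ) + 2 ^ (e - 1) = 2 ^ d := by
          rw [hpe, hG'] at h3; linarith
        exact_mod_cast h4
  · intro r hdr hjr
    have hG' : (Nat.card G : ℤ) = 2 * 2 ^ d := by rw [hcardG]; push_cast; ring
    have hpos : (0 : ℤ) < 2 ^ r := by positivity
    have hg : 2 * (j : ℤ) - (Nat.card G : ℤ) = 2 * 2 ^ r ∨
        2 * (j : ℤ) - (Nat.card G : ℤ) = -(2 * 2 ^ r) := by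
      rcases hjr with h3 | h3
      · left
        have h4 : (j : ℤ) = 2 ^ d + 2 ^ r := by exact_mod_cast h3
        rw [h4, hG']; ring
      · right
        have h4 : (j : ℤ) + 2 ^ r = 2 ^ d := by exact_mod_cast h3
        rw [hG']; linarith
    have hz : 2 * (j : ℤ) - (Nat.card G : ℤ) ≠ 0 := by
      rcases hg with h3 | h3 <;> rw [h3] <;> intro h4 <;> linarith
    obtain ⟨e, he1, he2, hρd', hge⟩ := hB hz
    have her : e = r + 1 := by
      have h3 : (2 : ℤ) ^ e = 2 ^ (r + 1) := by
        rw [pow_succ']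
        rcases hg with h3 | h3 <;> rcases hge with h4 | h4 <;> rw [h3] at h4
        · exact h4.symm
        · exfalso
          have : (0 : ℤ) < 2 ^ e := by positivity
          linarith
        · exfalso
          have : (0 : ℤ) < 2 ^ e := by positivity
          linarith
        · linarith
      have h4 : (2 : ℕ) ^ e = 2 ^ (r + 1) := by exact_mod_cast h3
      exact Nat.pow_right_injective (le_refl 2) h4
    have hρ1' : ρ = 1 := by omega
    have hZcard : Nat.card (Subgroup.center G) = 2 := by rw [hρ, hρ1', pow_one]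
    have hΦZ : frattini G = Subgroup.center G :=
      Subgroup.eq_of_le_of_card_ge hM (by rw [hZcard, hΦ])
    have hcommle : commutator G ≤ Subgroup.center G := by
      rw [← hΦZ]
      exact Cfsg.Agent.Lib.Helper1.IsPGroup.commutator_le_frattini hG
    have hcommne : commutator G ≠ ⊥ := by
      intro h3
      have h4 : Subgroup.center G = ⊤ := by
        rw [eq_top_iff]
        intro x _
        rw [Subgroup.mem_center_iff]
        intro y
        have h5 : ⁅y, x⁆ ∈ commutator G :=
          Subgroup.commutator_mem_commutator (Subgroup.mem_top y) (Subgroup.mem_top x)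
        rw [h3, Subgroup.mem_bot] at h5
        exact commutatorElement_eq_one_iff_mul_comm.mp h5
      rw [h4, Subgroup.card_top, hcardG] at hZcard
      have h5 : 2 ^ d = 1 := by omega
      have h6 : d = 0 := by
        by_contra h7
        have : 2 ≤ 2 ^ d := by
          calc 2 = 2 ^ 1 := by norm_num
            _ ≤ 2 ^ d := Nat.pow_le_pow_right (by norm_num) (by omega)
        omega
      omega
    have hcommZ : commutator G = Subgroup.center G := by
      apply Subgroup.eq_of_le_of_card_ge hcommle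
      rw [hZcard]
      have h3 : Nat.card (commutator G) ∣ 2 := hZcard ▸ Subgroup.card_dvd_of_le hcommle
      rcases (Nat.dvd_prime h2).mp h3 with h4 | h4
      · exact absurd (Subgroup.card_eq_one.mp h4) hcommne
      · rw [h4]
    exact ⟨⟨hG, hΦZ, hcommZ⟩, hZcard⟩

end Cfsg.Agent.S3772
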