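import Cfsg.Statements.S3773
import Cfsg.Agent.Lib.Helper20.GaussTwoChar
import Cfsg.Agent.Lib.Helper1.Frattini

set_option autoImplicit false
open Cfsg

namespace Cfsg.Agent.S3773

open Cfsg.Agent.Lib.Helper20.GaussTwo
open scoped commutatorElement

section basics

variable {G : Type*} [Group G]

/-- class at most two: commutators are central -/
theorem comm_central (hcl : (⊤ : Subgroup G).lowerCentralSeries 2 = ⊥) (x y : G) :
    ⁅x, y⁆ ∈ Subgroup.center G := by
  rw [Subgroup.mem_center_iff]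
  intro z
  have h1 : ⁅⁅x, y⁆, z⁆ ∈ (⊤ : Subgroup G).lowerCentralSeries 2 := by
    show ⁅⁅x, y⁆, z⁆ ∈ ⁅⁅(⊤ : Subgroup G), ⊤⁆, ⊤⁆
    exact Subgroup.commutator_mem_commutator (Subgroup.commutator_mem_commutator
      (Subgroup.mem_top x) (Subgroup.mem_top y)) (Subgroup.mem_top z)
  rw [hcl, Subgroup.mem_bot, commutatorElement_eq_one_iff_mul_comm] at h1
  exact h1.symm

variable (hc : ∀ x y : G, ⁅x, y⁆ ∈ Subgroup.center G)

include hc in
theorem comm_pow_right (a g : G) (n : ℕ) : ⁅a, g ^ n⁆ = ⁅a, g⁆ ^ n := by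
  induction n with
  | zero => simp
  | succ n ih => rw [pow_succ, comm_mul_right le_rfl hc, ih, pow_succ]

include hc in
theorem comm_pow_left (a g : G) (n : ℕ) : ⁅a ^ n, g⁆ = ⁅a, g⁆ ^ n := by
  induction n with
  | zero => simp
  | succ n ih => rw [pow_succ, comm_mul_left le_rfl hc, ih, pow_succ]

include hc in
/-- exponent four and class two: commutators have order at most two -/
theorem comm_sq_eq_one (hexp : ∀ x : G, x ^ 4 = 1) (x y : G) : ⁅y, x⁆ ^ 2 = 1 := by
  have hc4 : ⁅y, x⁆ ^ 4 = 1 := by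
    rw [← comm_pow_right hc, hexp, commutatorElement_one_right]
  have hu : (x ^ 2 * y ^ 2) ^ 2 = 1 := by
    rw [sq_mul le_rfl hc (x ^ 2) (y ^ 2), ← pow_mul, ← pow_mul, hexp, hexp, mul_one, mul_one,
      comm_pow_left hc, comm_pow_right hc, ← pow_mul]
    exact hc4
  have hcom : Commute ⁅y, x⁆ (x ^ 2 * y ^ 2) :=
    (Subgroup.mem_center_iff.mp (hc y x) (x ^ 2 * y ^ 2)).symm
  have h4 : (x * y) ^ 4 = ⁅y, x⁆ ^ 2 * (x ^ 2 * y ^ 2) ^ 2 := by
    rw [show 4 = 2 * 2 from rfl, pow_mul, sq_mul le_rfl hc x y, mul_assoc, hcom.mul_pow]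
  rw [hexp, hu, mul_one] at h4
  exact h4.symm

/-- the elements of order at most two of the centre -/
def omegaZ (G : Type*) [Group G] : Subgroup G where
  carrier := {z | z ∈ Subgroup.center G ∧ z ^ 2 = 1}
  one_mem' := ⟨one_mem _, one_pow 2⟩
  mul_mem' := by
    rintro a b ⟨ha, ha2⟩ ⟨hb, hb2⟩
    refine ⟨mul_mem ha hb, ?_⟩
    have hcomm : Commute a b := Subgroup.mem_center_iff.mp hb a
    rw [hcomm.mul_pow, ha2, hb2, one_mul]
  inv_mem' := by
    rintro a ⟨ha, ha2⟩
    exact ⟨inv_mem ha, by rw [inv_pow, ha2, inv_one]⟩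

theorem mem_omegaZ {z : G} : z ∈ omegaZ G ↔ z ∈ Subgroup.center G ∧ z ^ 2 = 1 := Iff.rfl

theorem omegaZ_le_center : omegaZ G ≤ Subgroup.center G := fun _ h => h.1

include hc in
theorem sq_mem_omegaZ (hexp : ∀ x : G, x ^ 4 = 1) (x : G) : x ^ 2 ∈ omegaZ G := by
  refine ⟨?_, by rw [← pow_mul]; exact hexp x⟩
  rw [Subgroup.mem_center_iff]
  intro g
  have h1 : ⁅g, x ^ 2⁆ = 1 := by
    rw [comm_pow_right hc]; exact comm_sq_eq_one hc hexp x g
  exact commutatorElement_eq_one_iff_mul_comm.mp h1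

include hc in
theorem comm_mem_omegaZ (hexp : ∀ x : G, x ^ 4 = 1) (x y : G) : ⁅x, y⁆ ∈ omegaZ G :=
  ⟨hc x y, comm_sq_eq_one hc hexp y x⟩

end basics

section special

open scoped IsMulCommutative

variable {G : Type*} [Group G] [Finite G]

/-- in the extremal case the derived subgroup is the whole centre -/
theorem commutator_eq_center (hG : IsPGroup 2 G)
    (hc : ∀ x y : G, ⁅x, y⁆ ∈ Subgroup.center G)
    (hZ2 : ∀ z ∈ Subgroup.center G, z ^ 2 = 1) (hsqZ : ∀ x : G, x ^ 2 ∈ Subgroup.center G)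
    (hΦ : frattini G = Subgroup.center G) (j : ℕ) (hj : Nat.card {x : G // x ^ 2 = 1} = j)
    (hcardG : Nat.card G = j ^ 3) (hcardZ : Nat.card (Subgroup.center G) = j) :
    commutator G = Subgroup.center G := by
  classical
  have hDZ : commutator G ≤ Subgroup.center G := by
    rw [commutator_def, Subgroup.commutator_le]
    intro x _ y _
    exact hc x y
  by_contra hne
  obtain ⟨a, haZ, haD⟩ : ∃ a ∈ Subgroup.center G, a ∉ commutator G := by
    by_contra hcon
    push Not at hcon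
    exact hne (le_antisymm hDZ hcon)
  have hA : ∀ z : Subgroup.center G, z ^ 2 = 1 := fun z => Subtype.ext (hZ2 z z.2)
  haveI := hasEnough_of_sq (Subgroup.center G) hA
  -- a character killing the derived subgroup but not `a`
  obtain ⟨χ, hχD, hχa⟩ : ∃ χ : Subgroup.center G →* ℤˣ,
      (∀ y ∈ (commutator G).subgroupOf (Subgroup.center G), χ y = 1) ∧ χ ⟨a, haZ⟩ ≠ 1 := by
    by_contra hcon
    push Not at hcon
    have h1 := (CommGroup.forall_monoidHom_apply_eq_one_iff ℤ
      ((commutator G).subgroupOf (Subgroup.center G)) ⟨a, haZ⟩).mp hcon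
    exact haD (Subgroup.mem_subgroupOf.mp h1)
  have hcommD : ∀ x y : G, χ ⟨⁅x, y⁆, hc x y⟩ = 1 := fun x y =>
    hχD _ (Subgroup.mem_subgroupOf.mpr
      (Subgroup.commutator_mem_commutator (Subgroup.mem_top x) (Subgroup.mem_top y)))
  -- squaring followed by `χ` is a homomorphism
  let s : G →* ℤˣ := MonoidHom.mk' (sqChar (Subgroup.center G) hsqZ χ) (by
    intro x y
    rw [sqChar_mul (Subgroup.center G) le_rfl hsqZ hc χ, commChar_apply, hcommD, mul_one])
  have hs : ∀ x : G, s x = χ ⟨x ^ 2, hsqZ x⟩ := fun x => rfl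
  set K' : Subgroup G := (χ.ker).map (Subgroup.center G).subtype with hK'
  have hK'Z : K' ≤ Subgroup.center G := Subgroup.map_subtype_le _
  have hmemK' : ∀ (g : G) (hg : g ∈ Subgroup.center G), χ ⟨g, hg⟩ = 1 → g ∈ K' := by
    intro g hg h
    exact Subgroup.mem_map.mpr ⟨⟨g, hg⟩, MonoidHom.mem_ker.mpr h, rfl⟩
  have hs1 : s ≠ 1 := by
    intro h
    have hsq : ∀ x : G, x ^ 2 ∈ K' := by
      intro x
      apply hmemK' _ (hsqZ x)
      rw [← hs, h]; rfl
    have hcm : commutator G ≤ K' := by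
      rw [commutator_def, Subgroup.commutator_le]
      intro x _ y _
      exact hmemK' _ (hc x y) (hcommD x y)
    have hle := Cfsg.Agent.Lib.Helper1.frattini_le_of_commutator_le_of_pow_mem (p := 2) K' hcm hsq
    rw [hΦ] at hle
    obtain ⟨z, hz, hza⟩ := Subgroup.mem_map.mp (hle haZ)
    apply hχa
    have hz' : z = ⟨a, haZ⟩ := Subtype.ext hza
    rw [← hz']
    exact MonoidHom.mem_ker.mp hz
  have hU : Nat.card ℤˣ = 2 := by rw [Nat.card_eq_fintype_card]; rfl
  have hrange : ∀ {H : Type _} [Group H] (f : H →* ℤˣ), f ≠ 1 → Nat.card f.range = 2 := by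
    intro H _ f hf
    have h1 : Nat.card f.range ∣ 2 := hU ▸ Subgroup.card_subgroup_dvd_card f.range
    rcases (Nat.dvd_prime Nat.prime_two).mp h1 with h2 | h2
    · exact absurd (MonoidHom.range_eq_bot_iff.mp (Subgroup.card_eq_one.mp h2)) hf
    · exact h2
  have hχ1 : χ ≠ 1 := by
    intro h
    apply hχa
    rw [h]; rfl
  -- cardinalities
  have hG0 : Nat.card s.ker * 2 = j ^ 3 := by
    rw [← hcardG, ← Subgroup.card_mul_index s.ker, Subgroup.index_ker, hrange s hs1]
  have hk : Nat.card χ.ker * 2 = j := by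
    rw [← hcardZ, ← Subgroup.card_mul_index χ.ker, Subgroup.index_ker, hrange χ hχ1]
  have hK'card : Nat.card K' = Nat.card χ.ker :=
    Subgroup.card_map_of_injective (Subgroup.center G).subtype_injective
  -- the centre lies in the kernel of `s`
  have hZG0 : Subgroup.center G ≤ s.ker := by
    intro z hz
    rw [MonoidHom.mem_ker, hs]
    have h1 : (⟨z ^ 2, hsqZ z⟩ : Subgroup.center G) = 1 := Subtype.ext (hZ2 z hz)
    rw [h1, map_one]
  -- apply the Gauss sum inequality to the kernel of `s`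
  have key := gs_ineq (T := s.ker) (hG.to_subgroup s.ker) (K'.subgroupOf s.ker)
    (by
      intro m hm
      rw [Subgroup.mem_subgroupOf] at hm
      rw [Subgroup.mem_center_iff]
      intro g
      apply Subtype.ext
      show (g : G) * (m : G) = (m : G) * (g : G)
      exact Subgroup.mem_center_iff.mp (hK'Z hm) g)
    (by
      intro m hm
      rw [Subgroup.mem_subgroupOf] at hm
      apply Subtype.ext
      show (m : G) ^ 2 = 1
      exact hZ2 _ (hK'Z hm))
    (by
      intro x
      rw [Subgroup.mem_subgroupOf]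
      show (x : G) ^ 2 ∈ K'
      apply hmemK' _ (hsqZ x)
      rw [← hs]
      exact MonoidHom.mem_ker.mp x.2)
    (by
      intro x y
      rw [Subgroup.mem_subgroupOf]
      show ⁅(x : G), (y : G)⁆ ∈ K'
      exact hmemK' _ (hc x y) (hcommD x y))
  -- bounds for the four quantities
  have hb1 : Nat.card (K'.subgroupOf s.ker) ≤ Nat.card χ.ker := by
    rw [← hK'card]
    exact Nat.card_le_card_of_injective
      (fun x : K'.subgroupOf s.ker => (⟨(x : s.ker), Subgroup.mem_subgroupOf.mp x.2⟩ : K'))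
      (by
        intro x y h
        have h0 := congrArg Subtype.val h
        have h1 : ((x : s.ker) : G) = ((y : s.ker) : G) := h0
        exact Subtype.ext (Subtype.ext h1))
  have hb2 : Nat.card {x : s.ker // x ^ 2 = 1} ≤ j := by
    rw [← hj]
    exact Nat.card_le_card_of_injective
      (fun x : {x : s.ker // x ^ 2 = 1} =>
        (⟨((x : s.ker) : G), by
          have h1 := congrArg Subtype.val x.2
          simpa using h1⟩ : {x : G // x ^ 2 = 1}))
      (by
        intro x y h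
        have h0 := congrArg Subtype.val h
        have h1 : (((x : s.ker) : G)) = (((y : s.ker) : G)) := h0
        exact Subtype.ext (Subtype.ext h1))
  have hb3 : j ≤ Nat.card (Subgroup.center s.ker) := by
    rw [← hcardZ]
    have h1 : (Subgroup.center G).subgroupOf s.ker ≤ Subgroup.center s.ker := by
      intro m hm
      rw [Subgroup.mem_subgroupOf] at hm
      rw [Subgroup.mem_center_iff]
      intro g
      apply Subtype.ext
      show (g : G) * (m : G) = (m : G) * (g : G)
      exact Subgroup.mem_center_iff.mp hm g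
    calc Nat.card (Subgroup.center G)
        = Nat.card ((Subgroup.center G).subgroupOf s.ker) :=
          (Nat.card_congr (Subgroup.subgroupOfEquivOfLe hZG0).toEquiv).symm
      _ ≤ Nat.card (Subgroup.center s.ker) := Subgroup.card_le_of_le h1
  -- arithmetic
  set k := Nat.card χ.ker with hkdef
  set g₀ := Nat.card s.ker with hg₀
  have hkpos : 0 < k := Nat.card_pos
  have hg₀' : g₀ = 4 * k ^ 3 := by
    have h1 : g₀ * 2 = (4 * k ^ 3) * 2 := by rw [hG0, ← hk]; ring
    exact Nat.eq_of_mul_eq_mul_right (by norm_num) h1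
  have h1 : g₀ * j ≤ (k * j) ^ 2 := by
    calc g₀ * j ≤ g₀ * Nat.card (Subgroup.center s.ker) := Nat.mul_le_mul_left _ hb3
      _ ≤ (Nat.card (K'.subgroupOf s.ker) * Nat.card {x : s.ker // x ^ 2 = 1}) ^ 2 := key
      _ ≤ (k * j) ^ 2 := Nat.pow_le_pow_left (Nat.mul_le_mul hb1 hb2) 2
  rw [hg₀', ← hk] at h1
  have h2 : 8 * k ^ 4 ≤ 4 * k ^ 4 := by
    calc 8 * k ^ 4 = 4 * k ^ 3 * (k * 2) := by ring
      _ ≤ (k * (k * 2)) ^ 2 := h1
      _ = 4 * k ^ 4 := by ring
  have h3 : 0 < k ^ 4 := pow_pos hkpos 4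
  omega

end special

/-- Let G be a finite 2-group of nilpotency class at most 2 and exponent dividing 4 in which the elements x with x² = 1 form a subgroup N. Then |G| ≤ |N|³, and |G| < |N|³ unless G is special. -/
theorem result {G : Type*} [Group G] [Finite G] (hG : IsPGroup 2 G) (hcl : (⊤ : Subgroup G).lowerCentralSeries 2 = ⊥) (hexp : ∀ x : G, x ^ 4 = 1) (hN : ∀ x y : G, x ^ 2 = 1 → y ^ 2 = 1 → (x * y) ^ 2 = 1) : Nat.card G ≤ Nat.card {x : G // x ^ 2 = 1} ^ 3 ∧ (¬ Cfsg.IsSpecial 2 G → Nat.card G < Nat.card {x : G // x ^ 2 = 1} ^ 3) := by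
  classical
  have hc := comm_central hcl
  set j := Nat.card {x : G // x ^ 2 = 1} with hj
  have hjpos : 0 < j := by
    haveI : Nonempty {x : G // x ^ 2 = 1} := ⟨⟨1, one_pow 2⟩⟩
    exact Nat.card_pos
  have hMZ : omegaZ G ≤ Subgroup.center G := omegaZ_le_center
  have hM2 : ∀ m ∈ omegaZ G, m ^ 2 = 1 := fun m hm => hm.2
  have hsq : ∀ x : G, x ^ 2 ∈ omegaZ G := sq_mem_omegaZ hc hexp
  have hcomm : ∀ x y : G, ⁅x, y⁆ ∈ omegaZ G := comm_mem_omegaZ hc hexp
  have key := gs_ineq hG (omegaZ G) hMZ hM2 hsq hcomm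
  rw [← hj] at key
  have hMcardZ : Nat.card (omegaZ G) ≤ Nat.card (Subgroup.center G) := Subgroup.card_le_of_le hMZ
  have hMj : Nat.card (omegaZ G) ≤ j := by
    rw [hj]
    exact Nat.card_le_card_of_injective
      (fun m : omegaZ G => (⟨(m : G), m.2.2⟩ : {x : G // x ^ 2 = 1}))
      (by
        intro x y h
        have h0 := congrArg Subtype.val h
        exact Subtype.ext h0)
  have hMpos : 0 < Nat.card (omegaZ G) := Nat.card_pos
  set μ := Nat.card (omegaZ G) with hμ
  set ζ := Nat.card (Subgroup.center G) with hζ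
  set γ := Nat.card G with hγ
  have hfirst : γ ≤ μ * j ^ 2 := by
    have h1 : γ * μ ≤ (μ * j ^ 2) * μ := by
      calc γ * μ ≤ γ * ζ := Nat.mul_le_mul_left _ hMcardZ
        _ ≤ (μ * j) ^ 2 := key
        _ = (μ * j ^ 2) * μ := by ring
    exact Nat.le_of_mul_le_mul_right h1 hMpos
  constructor
  · calc γ ≤ μ * j ^ 2 := hfirst
      _ ≤ j * j ^ 2 := Nat.mul_le_mul_right _ hMj
      _ = j ^ 3 := by ring
  · intro hns
    by_contra hlt
    push Not at hlt
    apply hns
    have hγ3 : γ = j ^ 3 := by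
      apply le_antisymm _ hlt
      calc γ ≤ μ * j ^ 2 := hfirst
        _ ≤ j * j ^ 2 := Nat.mul_le_mul_right _ hMj
        _ = j ^ 3 := by ring
    -- `μ = j`
    have hμj : μ = j := by
      apply le_antisymm hMj
      have h1 : j * j ^ 2 ≤ μ * j ^ 2 := by
        calc j * j ^ 2 = j ^ 3 := by ring
          _ = γ := hγ3.symm
          _ ≤ μ * j ^ 2 := hfirst
      exact Nat.le_of_mul_le_mul_right h1 (pow_pos hjpos 2)
    -- `ζ = j`
    have hζj : ζ = j := by
      apply le_antisymm _ (hμj ▸ hMcardZ)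
      have h1 : ζ * j ^ 3 ≤ j * j ^ 3 := by
        calc ζ * j ^ 3 = γ * ζ := by rw [hγ3]; ring
          _ ≤ (μ * j) ^ 2 := key
          _ = j * j ^ 3 := by rw [hμj]; ring
      exact Nat.le_of_mul_le_mul_right h1 (pow_pos hjpos 3)
    have hMeqZ : omegaZ G = Subgroup.center G :=
      Subgroup.eq_of_le_of_card_ge hMZ (by rw [← hμ, ← hζ, hμj, hζj])
    have hZ2 : ∀ z ∈ Subgroup.center G, z ^ 2 = 1 := by
      intro z hz
      rw [← hMeqZ] at hz
      exact hz.2
    have hsqZ : ∀ x : G, x ^ 2 ∈ Subgroup.center G := fun x => hMZ (hsq x)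
    -- the Frattini subgroup
    have hΦM : frattini G ≤ omegaZ G := by
      apply Cfsg.Agent.Lib.Helper1.frattini_le_of_commutator_le_of_pow_mem (p := 2) (omegaZ G) _ hsq
      rw [commutator_def, Subgroup.commutator_le]
      intro x _ y _
      exact hcomm x y
    have key2 := gs_ineq hG (frattini G) (hΦM.trans hMZ) (fun m hm => (hΦM hm).2)
      (fun x => Cfsg.Agent.Lib.Helper1.IsPGroup.pow_mem_frattini hG x)
      (fun x y => Cfsg.Agent.Lib.Helper1.IsPGroup.commutator_le_frattini hG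
        (Subgroup.commutator_mem_commutator (Subgroup.mem_top x) (Subgroup.mem_top y)))
    rw [← hj, ← hγ, ← hζ, hγ3, hζj] at key2
    have hΦj : j ≤ Nat.card (frattini G) := by
      have h1 : (j * j) ^ 2 ≤ (Nat.card (frattini G) * j) ^ 2 := by
        calc (j * j) ^ 2 = j ^ 3 * j := by ring
          _ ≤ (Nat.card (frattini G) * j) ^ 2 := key2
      have h2 := (Nat.pow_le_pow_iff_left (by norm_num : 2 ≠ 0)).mp h1
      exact Nat.le_of_mul_le_mul_right h2 hjpos
    have hΦeq : frattini G = omegaZ G :=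
      Subgroup.eq_of_le_of_card_ge hΦM (by rw [← hμ, hμj]; exact hΦj)
    have hΦZ : frattini G = Subgroup.center G := hΦeq.trans hMeqZ
    have hDZ := commutator_eq_center hG hc hZ2 hsqZ hΦZ j hj.symm hγ3 hζj
    exact ⟨hG, hΦZ, hDZ⟩

end Cfsg.Agent.S3773
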