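import Cfsg.Statements.S3774

set_option autoImplicit false
open Cfsg

namespace Cfsg.Agent.S3774

theorem dvd_of_pow_sub_one_dvd {a b : ℕ} (_ha : 1 ≤ a) (h : 2 ^ a - 1 ∣ 2 ^ b - 1) : a ∣ b := by
  have h1 := Nat.pow_sub_one_mod_pow_sub_one 2 a b
  rw [Nat.mod_eq_zero_of_dvd h] at h1
  have h2 : 2 ^ (b % a) ≤ 1 := by omega
  have h3 : b % a = 0 := by
    by_contra hne
    have : 2 ^ 1 ≤ 2 ^ (b % a) := Nat.pow_le_pow_right (by norm_num) (by omega)
    omega
  exact Nat.dvd_of_mod_eq_zero h3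

theorem card_subtype_ne_one' (X : Type*) [Finite X] (a : X) :
    Nat.card {b : X // b ≠ a} + 1 = Nat.card X := by
  classical
  rw [← Nat.card_congr (Equiv.optionSubtypeNe a), Finite.card_option]

theorem result {G : Type*} [Group G] [Finite G] [Nontrivial G] (hG : IsPGroup 2 G) (htrans : ∀ x y : G, x ≠ 1 → x ^ 2 = 1 → y ≠ 1 → y ^ 2 = 1 → ∃ a : MulAut G, a x = y) : (∀ x : G, x ^ 2 = 1 → x ∈ Subgroup.center G) ∧ ∃ m : ℕ, Nat.card G = Nat.card {z : G // z ^ 2 = 1} ^ m := by
  classical
  haveI : Fact (Nat.Prime 2) := ⟨Nat.prime_two⟩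
  -- a central involution
  haveI hZnt : Nontrivial (Subgroup.center G) := hG.center_nontrivial
  have hZ2 : 2 ∣ Nat.card (Subgroup.center G) := by
    obtain ⟨c, hc⟩ := (hG.to_subgroup (Subgroup.center G)).exists_card_eq
    have hc0 : c ≠ 0 := by
      intro h0
      rw [h0, pow_zero] at hc
      have : Subsingleton (Subgroup.center G) := (Nat.card_eq_one_iff_unique.mp hc).1
      exact not_subsingleton _ this
    rw [hc]; exact dvd_pow_self 2 hc0
  obtain ⟨z, hz⟩ := exists_prime_orderOf_dvd_card' 2 hZ2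
  have hzo : orderOf (z : G) = 2 := by rw [Subgroup.orderOf_coe]; exact hz
  have hz1 : (z : G) ≠ 1 := by
    intro h
    rw [h, orderOf_one] at hzo
    omega
  have hz2 : (z : G) ^ 2 = 1 := by rw [← hzo]; exact pow_orderOf_eq_one _
  -- Part 1
  have hcen : ∀ x : G, x ^ 2 = 1 → x ∈ Subgroup.center G := by
    intro x hx
    by_cases hx1 : x = 1
    · rw [hx1]; exact Subgroup.one_mem _
    · obtain ⟨a, ha⟩ := htrans (z : G) x hz1 hz2 hx1 hx
      rw [Subgroup.mem_center_iff]
      intro g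
      have hzc := Subgroup.mem_center_iff.mp z.2 (a⁻¹ g)
      have h1 : a (a⁻¹ g) = g := a.apply_symm_apply g
      calc g * x = a (a⁻¹ g) * a (z : G) := by rw [h1, ha]
        _ = a (a⁻¹ g * (z : G)) := (map_mul a _ _).symm
        _ = a ((z : G) * a⁻¹ g) := by rw [hzc]
        _ = a (z : G) * a (a⁻¹ g) := map_mul a _ _
        _ = x * g := by rw [h1, ha]
  refine ⟨hcen, ?_⟩
  -- the subgroup of involutions
  let Ω : Subgroup G :=
    { carrier := {x | x ^ 2 = 1}
      one_mem' := one_pow 2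
      mul_mem' := by
        intro x y hx hy
        have hxc := Subgroup.mem_center_iff.mp (hcen x hx)
        change (x * y) ^ 2 = 1
        have hcomm : Commute x y := (hxc y).symm
        rw [hcomm.mul_pow, show x ^ 2 = 1 from hx, show y ^ 2 = 1 from hy, one_mul]
      inv_mem' := by
        intro x hx
        change (x⁻¹) ^ 2 = 1
        rw [inv_pow, show x ^ 2 = 1 from hx, inv_one] }
  have hΩcard : Nat.card Ω = Nat.card {z : G // z ^ 2 = 1} := rfl
  obtain ⟨a, ha⟩ := (hG.to_subgroup Ω).exists_card_eq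
  obtain ⟨b, hb⟩ := hG.exists_card_eq
  have ha1 : 1 ≤ a := by
    by_contra h0
    have h0' : a = 0 := by omega
    rw [h0', pow_zero] at ha
    have hsub : Subsingleton Ω := (Nat.card_eq_one_iff_unique.mp ha).1
    have : (⟨(z : G), hz2⟩ : Ω) = 1 := Subsingleton.elim _ _
    exact hz1 (congrArg Subtype.val this)
  -- the map to involutions
  have hord : ∀ x : G, x ≠ 1 → ∃ j, orderOf x = 2 ^ (j + 1) := by
    intro x hx
    obtain ⟨j, hj⟩ := hG.exists_orderOf_eq_pow x
    rcases Nat.eq_zero_or_pos j with h0 | hpos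
    · rw [h0, pow_zero, orderOf_eq_one_iff] at hj
      exact (hx hj).elim
    · exact ⟨j - 1, by rw [hj]; congr 1; omega⟩
  let X := {x : G // x ≠ 1}
  let T := {t : G // t ≠ 1 ∧ t ^ 2 = 1}
  have hfmem : ∀ x : X, (x : G) ^ (orderOf (x : G) / 2) ≠ 1 ∧ ((x : G) ^ (orderOf (x : G) / 2)) ^ 2 = 1 := by
    intro x
    obtain ⟨j, hj⟩ := hord x x.2
    have hdiv : orderOf (x : G) / 2 = 2 ^ j := by
      rw [hj, pow_succ, Nat.mul_div_cancel _ (by norm_num : 0 < 2)]
    rw [hdiv]
    constructor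
    · apply pow_ne_one_of_lt_orderOf (by positivity)
      rw [hj, pow_succ]
      have : 0 < 2 ^ j := by positivity
      omega
    · rw [← pow_mul, ← pow_succ, ← hj, pow_orderOf_eq_one]
  let f : X → T := fun x => ⟨(x : G) ^ (orderOf (x : G) / 2), hfmem x⟩
  have hfequiv : ∀ (a : MulAut G) (x : X) (hax : a (x : G) ≠ 1),
      (f ⟨a (x : G), hax⟩ : G) = a (f x : G) := by
    intro a x hax
    change (a (x : G)) ^ (orderOf (a (x : G)) / 2) = a ((x : G) ^ (orderOf (x : G) / 2))
    rw [MulEquiv.orderOf_eq, map_pow]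
  -- all fibers have the same size
  have hfib : ∀ t t' : T, Nat.card {x : X // f x = t} = Nat.card {x : X // f x = t'} := by
    intro t t'
    obtain ⟨a, ha⟩ := htrans (t : G) (t' : G) t.2.1 t.2.2 t'.2.1 t'.2.2
    have hne : ∀ (b : MulAut G) (x : X), b (x : G) ≠ 1 := by
      intro b x h
      apply x.2
      have := congrArg b.symm h
      rw [MulEquiv.symm_apply_apply, map_one] at this
      exact this
    have hainv : a.symm (t' : G) = (t : G) := by
      rw [← ha, MulEquiv.symm_apply_apply]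
    apply Nat.card_congr
    refine
      { toFun := fun x => ⟨⟨a ((x : X) : G), hne a x⟩, ?_⟩
        invFun := fun x => ⟨⟨a.symm ((x : X) : G), hne a.symm x⟩, ?_⟩
        left_inv := ?_
        right_inv := ?_ }
    · apply Subtype.ext
      rw [hfequiv a (x : X) (hne a x), x.2, ha]
    · apply Subtype.ext
      rw [hfequiv a.symm (x : X) (hne a.symm x), x.2, hainv]
    · intro x
      apply Subtype.ext
      apply Subtype.ext
      exact a.symm_apply_apply _
    · intro x
      apply Subtype.ext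
      apply Subtype.ext
      exact a.apply_symm_apply _
  let t0 : T := ⟨(z : G), hz1, hz2⟩
  haveI : Fintype T := Fintype.ofFinite T
  have hcount : Nat.card X = Nat.card T * Nat.card {x : X // f x = t0} := by
    rw [← Nat.card_congr (Equiv.sigmaFiberEquiv f), Nat.card_sigma]
    rw [Finset.sum_congr rfl (fun t _ => hfib t t0), Finset.sum_const, Finset.card_univ,
      smul_eq_mul, Nat.card_eq_fintype_card (α := T)]
  have hX : Nat.card X + 1 = Nat.card G := Cfsg.Agent.S3774.card_subtype_ne_one' G 1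
  have hT : Nat.card T + 1 = Nat.card Ω := by
    rw [← Cfsg.Agent.S3774.card_subtype_ne_one' Ω 1]
    congr 1
    apply Nat.card_congr
    refine
      { toFun := fun t => ⟨⟨(t : G), t.2.2⟩, fun h => t.2.1 (congrArg Subtype.val h)⟩
        invFun := fun w => ⟨((w : Ω) : G), fun h => w.2 (Subtype.ext h), (w : Ω).2⟩
        left_inv := fun t => rfl
        right_inv := fun w => rfl }
  -- number theory
  have hdvd : 2 ^ a - 1 ∣ 2 ^ b - 1 := by
    refine ⟨Nat.card {x : X // f x = t0}, ?_⟩
    rw [← ha, ← hb]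
    rw [← hX, ← hT, Nat.add_sub_cancel, Nat.add_sub_cancel]
    exact hcount
  obtain ⟨m, hm⟩ := dvd_of_pow_sub_one_dvd ha1 hdvd
  refine ⟨m, ?_⟩
  rw [← hΩcard, ha, hb, hm, pow_mul]

end Cfsg.Agent.S3774
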