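import Cfsg.Statements.S3775
import Cfsg.Agent.Lib.Helper20.SectionMaschke

set_option autoImplicit false
open Cfsg

namespace Cfsg.Agent.S3775

open Cfsg.Agent.Lib.Helper20.SectionMaschke

variable {A : Type*} [CommGroup A]

/-- Elementwise invariance. -/
def Inv (X : Subgroup (MulAut A)) (B : Subgroup A) : Prop := ∀ x ∈ X, ∀ b ∈ B, x b ∈ B

theorem inv_iff (X : Subgroup (MulAut A)) (B : Subgroup A) :
    (∀ x ∈ X, B.map x.toMonoidHom = B) ↔ Inv X B := by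
  constructor
  · intro h x hx b hb
    rw [← h x hx]
    exact Subgroup.mem_map_of_mem _ hb
  · intro h x hx
    apply le_antisymm
    · rintro _ ⟨b, hb, rfl⟩
      exact h x hx b hb
    · intro b hb
      refine ⟨x⁻¹ b, h x⁻¹ (inv_mem hx) b hb, ?_⟩
      show x (x⁻¹ b) = b
      rw [← MulAut.mul_apply, mul_inv_cancel, MulAut.one_apply]

theorem Inv.map_pow {X : Subgroup (MulAut A)} {B : Subgroup A} (h : Inv X B) (k : ℕ) :
    Inv X (B.map (powMonoidHom k)) := by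
  rintro x hx _ ⟨b, hb, rfl⟩
  refine ⟨x b, h x hx b hb, ?_⟩
  rw [powMonoidHom_apply, powMonoidHom_apply, _root_.map_pow]

theorem Inv.comap_pow {X : Subgroup (MulAut A)} {C : Subgroup A} (h : Inv X C) (k : ℕ) :
    Inv X (C.comap (powMonoidHom k)) := by
  intro x hx a ha
  rw [Subgroup.mem_comap, powMonoidHom_apply] at ha ⊢
  rw [← _root_.map_pow]
  exact h x hx _ ha

theorem inv_ker_pow (X : Subgroup (MulAut A)) (k : ℕ) :
    Inv X (powMonoidHom k : A →* A).ker := by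
  intro x hx a ha
  rw [MonoidHom.mem_ker, powMonoidHom_apply] at ha ⊢
  rw [← map_pow, ha, map_one]

theorem Inv.inf {X : Subgroup (MulAut A)} {B C : Subgroup A} (h : Inv X B) (h' : Inv X C) :
    Inv X (B ⊓ C) := fun x hx d hd => ⟨h x hx d hd.1, h' x hx d hd.2⟩

theorem Inv.sup {X : Subgroup (MulAut A)} {B C : Subgroup A} (h : Inv X B) (h' : Inv X C) :
    Inv X (B ⊔ C) := by
  intro x hx d hd
  obtain ⟨b, hb, c, hc, rfl⟩ := Subgroup.mem_sup.mp hd
  rw [map_mul]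
  exact Subgroup.mul_mem_sup (h x hx b hb) (h' x hx c hc)

theorem inv_bot (X : Subgroup (MulAut A)) : Inv X (⊥ : Subgroup A) := by
  intro x _ b hb
  rw [Subgroup.mem_bot] at hb ⊢
  rw [hb, map_one]

theorem inv_top (X : Subgroup (MulAut A)) : Inv X (⊤ : Subgroup A) := fun _ _ _ _ => trivial

/-- (iii) implies (ii). -/
theorem omega_of_irred [Finite A] {p : ℕ} [Fact p.Prime] (hA : IsPGroup p A)
    (X : Subgroup (MulAut A))
    (hirr : ∀ B : Subgroup A, Inv X B → (∀ b ∈ B, b ^ p = 1) → B = ⊥ ∨ ∀ a : A, a ∈ B ↔ a ^ p = 1)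
    (B : Subgroup A) (hB : Inv X B) : ∃ i : ℕ, ∀ a : A, a ∈ B ↔ a ^ p ^ i = 1 := by
  classical
  have hex : ∃ i : ℕ, ∀ b ∈ B, b ^ p ^ i = 1 := by
    obtain ⟨n, hn⟩ := hA.exists_card_eq
    exact ⟨n, fun a _ => by rw [← hn]; exact pow_card_eq_one'⟩
  set i := Nat.find hex with hi
  have hii : ∀ b ∈ B, b ^ p ^ i = 1 := Nat.find_spec hex
  refine ⟨i, fun a => ⟨hii a, ?_⟩⟩
  rcases Nat.eq_zero_or_pos i with h0 | hpos
  · intro ha
    rw [h0, pow_zero, pow_one] at ha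
    rw [ha]; exact one_mem _
  obtain ⟨i', hi'⟩ : ∃ i', i = i' + 1 := ⟨i - 1, by omega⟩
  have hmin : ¬ ∀ b ∈ B, b ^ p ^ i' = 1 := Nat.find_min hex (by omega)
  push Not at hmin
  obtain ⟨b₀, hb₀, hb₀1⟩ := hmin
  set T : Subgroup A := B.map (powMonoidHom (p ^ i')) with hT
  have hTinv : Inv X T := hB.map_pow _
  have hTp : ∀ t ∈ T, t ^ p = 1 := by
    rintro _ ⟨b, hb, rfl⟩
    rw [powMonoidHom_apply, ← pow_mul, ← pow_succ, ← hi']
    exact hii b hb
  have hTne : T ≠ ⊥ := by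
    intro h
    apply hb₀1
    have : b₀ ^ p ^ i' ∈ T := ⟨b₀, hb₀, rfl⟩
    rwa [h, Subgroup.mem_bot] at this
  have hTΩ : ∀ a : A, a ∈ T ↔ a ^ p = 1 := (hirr T hTinv hTp).resolve_left hTne
  have key : ∀ j : ℕ, j ≤ i → ∀ a : A, a ^ p ^ j = 1 → a ∈ B := by
    intro j
    induction j with
    | zero =>
      intro _ a ha
      rw [pow_zero, pow_one] at ha
      rw [ha]; exact one_mem _
    | succ j ih =>
      intro hj a ha
      have h1 : (a ^ p ^ j) ^ p = 1 := by rw [← pow_mul, ← pow_succ]; exact ha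
      obtain ⟨b, hb, hba⟩ := (hTΩ _).mpr h1
      rw [powMonoidHom_apply] at hba
      have hji : i' = (i' - j) + j := by omega
      set b' := b ^ p ^ (i' - j) with hb'
      have hb'B : b' ∈ B := pow_mem hb _
      have h2 : b' ^ p ^ j = a ^ p ^ j := by
        rw [hb', ← pow_mul, ← pow_add, ← hji]
        exact hba
      have h3 : (a * b'⁻¹) ^ p ^ j = 1 := by
        rw [mul_pow, inv_pow, h2, mul_inv_cancel]
      have h4 := ih (by omega) _ h3
      have h5 : a = (a * b'⁻¹) * b' := by rw [inv_mul_cancel_right]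
      rw [h5]
      exact mul_mem h4 hb'B
  exact key i le_rfl a

/-- (ii) implies (iii). -/
theorem irred_of_omega {p : ℕ} [Fact p.Prime] (X : Subgroup (MulAut A))
    (hom : ∀ B : Subgroup A, Inv X B → ∃ i : ℕ, ∀ a : A, a ∈ B ↔ a ^ p ^ i = 1)
    (B : Subgroup A) (hB : Inv X B) (hBp : ∀ b ∈ B, b ^ p = 1) :
    B = ⊥ ∨ ∀ a : A, a ∈ B ↔ a ^ p = 1 := by
  obtain ⟨i, hi⟩ := hom B hB
  rcases Nat.eq_zero_or_pos i with h0 | hpos
  · left
    rw [eq_bot_iff]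
    intro b hb
    have := (hi b).mp hb
    rw [h0, pow_zero, pow_one] at this
    rw [Subgroup.mem_bot]; exact this
  · right
    intro a
    refine ⟨hBp a, fun ha => (hi a).mpr ?_⟩
    obtain ⟨i', rfl⟩ : ∃ i', i = i' + 1 := ⟨i - 1, by omega⟩
    rw [pow_succ', pow_mul, ha, one_pow]

/-- (ii) implies (i). -/
theorem indec_of_omega {p : ℕ} (X : Subgroup (MulAut A))
    (hom : ∀ B : Subgroup A, Inv X B → ∃ i : ℕ, ∀ a : A, a ∈ B ↔ a ^ p ^ i = 1) :
    ¬ ∃ B C : Subgroup A, B ≠ ⊥ ∧ C ≠ ⊥ ∧ Inv X B ∧ Inv X C ∧ B ⊓ C = ⊥ ∧ B ⊔ C = ⊤ := by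
  rintro ⟨B, C, hB, hC, hBi, hCi, hBC, -⟩
  obtain ⟨i, hi⟩ := hom B hBi
  obtain ⟨j, hj⟩ := hom C hCi
  have hmono : ∀ (s t : ℕ) (a : A), s ≤ t → a ^ p ^ s = 1 → a ^ p ^ t = 1 := by
    intro s t a hst ha
    obtain ⟨k, rfl⟩ := Nat.exists_eq_add_of_le hst
    rw [pow_add, pow_mul, ha, one_pow]
  rcases le_total i j with hij | hij
  · apply hB
    rw [eq_bot_iff, ← hBC]
    intro b hb
    exact ⟨hb, (hj b).mpr (hmono i j b hij ((hi b).mp hb))⟩
  · apply hC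
    rw [eq_bot_iff, ← hBC]
    intro b hb
    exact ⟨(hi b).mpr (hmono j i b hij ((hj b).mp hb)), hb⟩

/-- (i) implies (iii). -/
theorem irred_of_indec [Finite A] {p : ℕ} [Fact p.Prime] (hA : IsPGroup p A)
    (X : Subgroup (MulAut A)) (hX : (Nat.card X).Coprime p)
    (hindec : ¬ ∃ B C : Subgroup A, B ≠ ⊥ ∧ C ≠ ⊥ ∧ Inv X B ∧ Inv X C ∧ B ⊓ C = ⊥ ∧ B ⊔ C = ⊤)
    (B₀ : Subgroup A) (hB₀ : Inv X B₀) (hB₀p : ∀ b ∈ B₀, b ^ p = 1) :
    B₀ = ⊥ ∨ ∀ a : A, a ∈ B₀ ↔ a ^ p = 1 := by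
  classical
  by_cases hbot : B₀ = ⊥
  · exact Or.inl hbot
  right
  -- the exponent
  have hex : ∃ e : ℕ, ∀ a : A, a ^ p ^ e = 1 := by
    obtain ⟨n, hn⟩ := hA.exists_card_eq
    exact ⟨n, fun a => by rw [← hn]; exact pow_card_eq_one'⟩
  set e := Nat.find hex with he
  have hee : ∀ a : A, a ^ p ^ e = 1 := Nat.find_spec hex
  have he0 : e ≠ 0 := by
    intro h0
    apply hbot
    rw [eq_bot_iff]
    intro b _
    have := hee b
    rw [h0, pow_zero, pow_one] at this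
    rw [Subgroup.mem_bot]; exact this
  obtain ⟨e', he'⟩ : ∃ e', e = e' + 1 := ⟨e - 1, by omega⟩
  have hmin : ¬ ∀ a : A, a ^ p ^ e' = 1 := Nat.find_min hex (by omega)
  push Not at hmin
  obtain ⟨a₀, ha₀⟩ := hmin
  set Pe : A →* A := powMonoidHom (p ^ e') with hPe
  have hPe_app : ∀ a, Pe a = a ^ p ^ e' := fun a => rfl
  have hPeP : ∀ a : A, (Pe a) ^ p = 1 := by
    intro a
    rw [hPe_app, ← pow_mul, ← pow_succ, ← he']
    exact hee a
  set T : Subgroup A := (⊤ : Subgroup A).map Pe with hT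
  have hTinv : Inv X T := (inv_top X).map_pow _
  have hTne : T ≠ ⊥ := by
    intro h
    apply ha₀
    have : a₀ ^ p ^ e' ∈ T := ⟨a₀, trivial, rfl⟩
    rwa [h, Subgroup.mem_bot] at this
  have hTp : ∀ t ∈ T, t ^ p = 1 := by
    rintro _ ⟨a, -, rfl⟩
    exact hPeP a
  -- a minimal invariant subgroup `U₁` of `T`
  obtain ⟨U₁, ⟨hU₁inv, hU₁ne, hU₁T⟩, hU₁min⟩ := WellFounded.has_min
    (wellFounded_lt (α := Subgroup A)) {U | Inv X U ∧ U ≠ ⊥ ∧ U ≤ T} ⟨T, hTinv, hTne, le_rfl⟩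
  -- a minimal invariant `B` with `U₁ ≤ Pe B`
  obtain ⟨B, ⟨hBinv, hBU⟩, hBmin⟩ := WellFounded.has_min
    (wellFounded_lt (α := Subgroup A)) {B | Inv X B ∧ U₁ ≤ B.map Pe}
    ⟨⊤, inv_top X, hU₁T⟩
  have hBmin' : ∀ B' : Subgroup A, Inv X B' → U₁ ≤ B'.map Pe → B' ≤ B → B' = B := by
    intro B' h1 h2 h3
    by_contra hne
    exact hBmin B' ⟨h1, h2⟩ (lt_of_le_of_ne h3 hne)
  -- (a)
  have hBU' : B.map Pe = U₁ := by
    apply le_antisymm _ hBU
    have h1 : B ⊓ U₁.comap Pe = B := by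
      apply hBmin' _ (hBinv.inf (hU₁inv.comap_pow _)) _ inf_le_left
      intro u hu
      obtain ⟨b, hb, rfl⟩ := hBU hu
      exact ⟨b, ⟨hb, hu⟩, rfl⟩
    rw [Subgroup.map_le_iff_le_comap, ← h1]
    exact inf_le_right
  -- (b)
  have hb : ∀ b ∈ B, b ^ p ^ e' = 1 → ∃ c ∈ B, c ^ p = b := by
    set K : Subgroup A := B ⊓ Pe.ker with hK
    set C₁ : Subgroup A := B.map (powMonoidHom p) with hC₁
    have hC₁K : C₁ ≤ K := by
      rintro _ ⟨b, hb, rfl⟩
      refine ⟨pow_mem hb p, ?_⟩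
      show (powMonoidHom p) b ∈ Pe.ker
      rw [MonoidHom.mem_ker, hPe_app, powMonoidHom_apply, ← pow_mul, ← pow_succ', ← he']
      exact hee b
    obtain ⟨E, hEinv, hC₁E, hEB, hEK, hEK'⟩ := exists_invariant_section_complement hA X hX
      C₁ K B hC₁K inf_le_left (hBinv.map_pow p) (hBinv.inf (inv_ker_pow X _)) hBinv
      (fun d hd => ⟨d, hd, rfl⟩)
    have hEB' : E = B := by
      apply hBmin' E hEinv _ hEB
      intro u hu
      obtain ⟨b, hb, rfl⟩ := hBU hu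
      have hb' : b ∈ E ⊔ K := by rw [hEK']; exact hb
      obtain ⟨ε, hε, k, hk, rfl⟩ := Subgroup.mem_sup.mp hb'
      refine ⟨ε, hε, ?_⟩
      rw [map_mul, MonoidHom.mem_ker.mp hk.2, mul_one]
    intro b hbB hb1
    have h1 : b ∈ E ⊓ K := by
      rw [hEB']
      exact ⟨hbB, hbB, MonoidHom.mem_ker.mpr hb1⟩
    rw [hEK] at h1
    obtain ⟨c, hc, hcb⟩ := h1
    exact ⟨c, hc, hcb⟩
  -- (c)
  have hQ : ∀ t s : ℕ, t + s = e → ∀ b ∈ B, b ^ p ^ s = 1 → ∃ c ∈ B, c ^ p ^ t = b := by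
    intro t
    induction t with
    | zero =>
      intro s _ b hbB _
      exact ⟨b, hbB, by rw [pow_zero, pow_one]⟩
    | succ t ih =>
      intro s hts b hbB hbs
      have h1 : b ^ p ^ (s + 1) = 1 := by rw [pow_succ, pow_mul, hbs, one_pow]
      obtain ⟨c, hc, hcb⟩ := ih (s + 1) (by omega) b hbB h1
      have h2 : c ^ p ^ e' = 1 := by
        have h3 : e' = t + s := by omega
        rw [h3, pow_add, pow_mul, hcb, hbs]
      obtain ⟨d, hd, hdc⟩ := hb c hc h2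
      refine ⟨d, hd, ?_⟩
      rw [pow_succ', pow_mul, hdc, hcb]
  have hc : ∀ b ∈ B, b ^ p = 1 → b ∈ U₁ := by
    intro b hbB hbp
    obtain ⟨c, hc, hcb⟩ := hQ e' 1 he'.symm b hbB (by rw [pow_one]; exact hbp)
    rw [← hBU']
    exact ⟨c, hc, hcb⟩
  have hU₁B : U₁ ≤ B := by
    rw [← hBU']
    rintro _ ⟨b, hb, rfl⟩
    exact pow_mem hb _
  have hBne : B ≠ ⊥ := by
    intro h
    apply hU₁ne
    rw [eq_bot_iff, ← h]
    exact hU₁B
  -- (d): a maximal invariant `C` with `B ⊓ C = ⊥`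
  obtain ⟨C, ⟨hCinv, hBC⟩, hCmax⟩ := WellFounded.has_min
    (wellFounded_gt (α := Subgroup A)) {C | Inv X C ∧ B ⊓ C = ⊥}
    ⟨⊥, inv_bot X, inf_bot_eq _⟩
  have hCmax' : ∀ C' : Subgroup A, Inv X C' → B ⊓ C' = ⊥ → C ≤ C' → C' = C := by
    intro C' h1 h2 h3
    by_contra hne
    exact hCmax C' ⟨h1, h2⟩ (lt_of_le_of_ne h3 (Ne.symm hne))
  set D₁ : Subgroup A := C.comap (powMonoidHom p) with hD₁
  have hU₁p : ∀ u ∈ U₁, u ^ p = 1 := fun u hu => hTp u (hU₁T hu)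
  have hMD : U₁ ⊔ C ≤ D₁ := by
    apply sup_le
    · intro u hu
      rw [hD₁, Subgroup.mem_comap, powMonoidHom_apply, hU₁p u hu]
      exact one_mem _
    · intro c hc
      rw [hD₁, Subgroup.mem_comap, powMonoidHom_apply]
      exact pow_mem hc _
  obtain ⟨E, hEinv, hCE, hED, hEM, hEM'⟩ := exists_invariant_section_complement hA X hX
    C (U₁ ⊔ C) D₁ le_sup_right hMD hCinv (hU₁inv.sup hCinv) (hCinv.comap_pow p)
    (fun d hd => hd)
  have hEB : B ⊓ E = ⊥ := by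
    rw [eq_bot_iff]
    rintro x ⟨hxB, hxE⟩
    have h1 : x ^ p ∈ B ⊓ C := ⟨pow_mem hxB _, hED hxE⟩
    rw [hBC, Subgroup.mem_bot] at h1
    have h2 : x ∈ U₁ := hc x hxB h1
    have h3 : x ∈ E ⊓ (U₁ ⊔ C) := ⟨hxE, Subgroup.mem_sup_left h2⟩
    rw [hEM] at h3
    have h4 : x ∈ B ⊓ C := ⟨hxB, h3⟩
    rwa [hBC] at h4
  have hEC : E = C := hCmax' E hEinv hEB hCE
  have hD₁eq : D₁ = U₁ ⊔ C := by
    rw [← hEM', hEC]
    simp
  have hR : ∀ j : ℕ, ∀ a : A, a ^ p ^ j ∈ C → a ∈ B ⊔ C := by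
    intro j
    induction j with
    | zero =>
      intro a ha
      rw [pow_zero, pow_one] at ha
      exact Subgroup.mem_sup_right ha
    | succ j ih =>
      intro a ha
      by_cases hj : j ≤ e'
      · have h1 : a ^ p ^ j ∈ D₁ := by
          rw [hD₁, Subgroup.mem_comap, powMonoidHom_apply, ← pow_mul, ← pow_succ]
          exact ha
        rw [hD₁eq] at h1
        obtain ⟨u, hu, c, hc', huc⟩ := Subgroup.mem_sup.mp h1
        rw [← hBU'] at hu
        obtain ⟨b, hbB, hbu⟩ := hu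
        rw [hPe_app] at hbu
        set b' := b ^ p ^ (e' - j) with hb'
        have hb'B : b' ∈ B := pow_mem hbB _
        have h2 : b' ^ p ^ j = u := by
          have h3 : e' = (e' - j) + j := by omega
          rw [hb', ← pow_mul, ← pow_add, ← h3]
          exact hbu
        have h4 : (a * b'⁻¹) ^ p ^ j = c := by
          rw [mul_pow, inv_pow, h2, ← huc]
          rw [mul_comm u c, mul_inv_cancel_right]
        have h5 := ih (a * b'⁻¹) (by rw [h4]; exact hc')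
        have h6 : a = (a * b'⁻¹) * b' := by rw [inv_mul_cancel_right]
        rw [h6]
        exact mul_mem h5 (Subgroup.mem_sup_left hb'B)
      · apply ih
        have h1 : a ^ p ^ j = 1 := by
          obtain ⟨k, hk⟩ := Nat.exists_eq_add_of_le (show e ≤ j by omega)
          rw [hk, pow_add, pow_mul, hee a, one_pow]
        rw [h1]; exact one_mem _
  have hBCtop : B ⊔ C = ⊤ := by
    rw [eq_top_iff]
    intro a _
    apply hR e a
    rw [hee a]; exact one_mem _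
  have hCbot : C = ⊥ := by
    by_contra hne
    exact hindec ⟨B, C, hBne, hne, hBinv, hCinv, hBC, hBCtop⟩
  have hBtop : B = ⊤ := by rw [← hBCtop, hCbot, sup_bot_eq]
  have hΩ : ∀ a : A, a ^ p = 1 → a ∈ U₁ := fun a ha => hc a (by rw [hBtop]; trivial) ha
  have hB₀U : B₀ = U₁ := by
    have h1 : B₀ ≤ U₁ := fun b hb => hΩ b (hB₀p b hb)
    by_contra hne
    exact hU₁min B₀ ⟨hB₀, hbot, h1.trans hU₁T⟩ (lt_of_le_of_ne h1 hne)
  intro a
  refine ⟨hB₀p a, fun ha => ?_⟩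
  rw [hB₀U]
  exact hΩ a ha

/-- Let A be a finite abelian p-group and X a group of automorphisms of A of order prime to p. Call a subgroup of A invariant when every element of X maps it onto itself. Then the following are equivalent: (i) A is not the direct product of two nontrivial invariant subgroups; (ii) every invariant subgroup of A is one of the subgroups Ω_i(A) = {a : a^(p^i) = 1}; (iii) the subgroup Ω₁(A) of elements of order dividing p has no invariant subgroups other than 1 and itself. -/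
theorem result {A : Type*} [CommGroup A] [Finite A] {p : ℕ} [Fact p.Prime] (hA : IsPGroup p A) (X : Subgroup (MulAut A)) (hX : (Nat.card X).Coprime p) : ((¬ ∃ B C : Subgroup A, B ≠ ⊥ ∧ C ≠ ⊥ ∧ (∀ x ∈ X, B.map x.toMonoidHom = B) ∧ (∀ x ∈ X, C.map x.toMonoidHom = C) ∧ B ⊓ C = ⊥ ∧ B ⊔ C = ⊤) ↔ (∀ B : Subgroup A, (∀ x ∈ X, B.map x.toMonoidHom = B) → ∃ i : ℕ, ∀ a : A, a ∈ B ↔ a ^ p ^ i = 1)) ∧ ((∀ B : Subgroup A, (∀ x ∈ X, B.map x.toMonoidHom = B) → ∃ i : ℕ, ∀ a : A, a ∈ B ↔ a ^ p ^ i = 1) ↔ (∀ B : Subgroup A, (∀ x ∈ X, B.map x.toMonoidHom = B) → (∀ b ∈ B, b ^ p = 1) → B = ⊥ ∨ ∀ a : A, a ∈ B ↔ a ^ p = 1)) := by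
  simp only [inv_iff]
  have h32 : (∀ B : Subgroup A, Inv X B → (∀ b ∈ B, b ^ p = 1) →
      B = ⊥ ∨ ∀ a : A, a ∈ B ↔ a ^ p = 1) →
      (∀ B : Subgroup A, Inv X B → ∃ i : ℕ, ∀ a : A, a ∈ B ↔ a ^ p ^ i = 1) :=
    fun h B hB => omega_of_irred hA X h B hB
  refine ⟨⟨fun h => h32 (fun B hB hBp => irred_of_indec hA X hX h B hB hBp),
    fun h => indec_of_omega X h⟩, ⟨fun h B hB hBp => irred_of_omega X h B hB hBp, h32⟩⟩

end Cfsg.Agent.S3775
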