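import Cfsg.Statements.S3780

set_option autoImplicit false
open Cfsg

namespace Cfsg.Agent.S3780

section gen

variable {V : Type*} [CommGroup V] [Finite V] {p : ℕ} [hp : Fact p.Prime]

/-- Greedy generation above a subgroup containing the `p`-th powers. -/
theorem exists_gen_above (hV : IsPGroup p V) :
    ∀ (k : ℕ) (H : Subgroup V), H.index = k →
      ∃ S : Finset V, p ^ S.card ≤ H.index ∧ H ⊔ Subgroup.closure (S : Set V) = ⊤ := by
  classical
  intro k
  induction k using Nat.strong_induction_on with
  | _ k ih =>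
    intro H hk
    by_cases hH : H = ⊤
    · refine ⟨∅, ?_, ?_⟩
      · simp [hH]
      · rw [hH]; simp
    · obtain ⟨x, hx⟩ : ∃ x, x ∉ H := by
        by_contra hne
        push Not at hne
        exact hH (Subgroup.eq_top_iff' H |>.mpr hne)
      set H' := H ⊔ Subgroup.zpowers x with hH'
      have hle : H ≤ H' := le_sup_left
      have hxH' : x ∈ H' := (le_sup_right : Subgroup.zpowers x ≤ H') (Subgroup.mem_zpowers x)
      have hrel : H.relIndex H' * H'.index = H.index := Subgroup.relIndex_mul_index hle
      have hrel1 : H.relIndex H' ≠ 1 := by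
        intro h1
        rw [Subgroup.relIndex_eq_one] at h1
        exact hx (h1 hxH')
      have hrelp : p ≤ H.relIndex H' := by
        obtain ⟨c, hc⟩ := (hV.to_subgroup H').exists_card_eq
        have hdvd : H.relIndex H' ∣ p ^ c := hc ▸ Subgroup.relIndex_dvd_card H H'
        obtain ⟨e, -, he⟩ := (Nat.dvd_prime_pow hp.out).mp hdvd
        rw [he]
        rcases Nat.eq_zero_or_pos e with h0 | hpos
        · rw [he, h0, pow_zero] at hrel1; exact (hrel1 rfl).elim
        · calc p = p ^ 1 := (pow_one p).symm
            _ ≤ p ^ e := Nat.pow_le_pow_right hp.out.pos hpos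
      have hidx_pos : 0 < H'.index := Nat.pos_of_ne_zero Subgroup.index_ne_zero_of_finite
      have hlt : H'.index < k := by
        rw [← hk, ← hrel]
        have : 2 ≤ H.relIndex H' := le_trans hp.out.two_le hrelp
        nlinarith
      obtain ⟨S', hS'1, hS'2⟩ := ih _ hlt H' rfl
      refine ⟨insert x S', ?_, ?_⟩
      · calc p ^ (insert x S').card ≤ p ^ (S'.card + 1) :=
              Nat.pow_le_pow_right hp.out.pos (Finset.card_insert_le x S')
          _ = p * p ^ S'.card := by ring
          _ ≤ H.relIndex H' * H'.index := Nat.mul_le_mul hrelp hS'1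
          _ = H.index := hrel
      · rw [Finset.coe_insert, Set.insert_eq, Subgroup.closure_union, ← Subgroup.zpowers_eq_closure,
          ← sup_assoc]
        exact hS'2

/-- `p`-th powers are non-generators in a finite abelian `p`-group. -/
theorem eq_top_of_sup_pow_eq_top (hV : IsPGroup p V) (K : Subgroup V)
    (h : (powMonoidHom p : V →* V).range ⊔ K = ⊤) : K = ⊤ := by
  by_contra hK
  -- the quotient V ⧸ K is a nontrivial p-group on which the p-power map is onto
  have hQ : IsPGroup p (V ⧸ K) := hV.to_quotient K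
  let f : (V ⧸ K) →* (V ⧸ K) := powMonoidHom p
  have hsurj : Function.Surjective f := by
    intro q
    obtain ⟨v, rfl⟩ := QuotientGroup.mk_surjective q
    have hv : v ∈ (powMonoidHom p : V →* V).range ⊔ K := h ▸ Subgroup.mem_top v
    obtain ⟨y, ⟨w, rfl⟩, z, hz, rfl⟩ := Subgroup.mem_sup.mp hv
    refine ⟨(w : V ⧸ K), ?_⟩
    change ((w : V ⧸ K)) ^ p = _
    rw [QuotientGroup.mk_mul, (QuotientGroup.eq_one_iff z).mpr hz, mul_one]
    rfl
  have hinj : Function.Injective f := Finite.injective_iff_surjective.mpr hsurj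
  have hnt : Nontrivial (V ⧸ K) := by
    rw [← not_subsingleton_iff_nontrivial]
    intro hs
    apply hK
    exact QuotientGroup.subgroup_eq_top_of_subsingleton K hs
  obtain ⟨c, hc⟩ := hQ.exists_card_eq
  have hc0 : c ≠ 0 := by
    intro h0
    rw [h0, pow_zero] at hc
    have : Subsingleton (V ⧸ K) := (Nat.card_eq_one_iff_unique.mp hc).1
    exact not_subsingleton (V ⧸ K) this
  have hdvd : p ∣ Nat.card (V ⧸ K) := by
    rw [hc]; exact dvd_pow_self p hc0
  obtain ⟨q, hq⟩ := exists_prime_orderOf_dvd_card' p hdvd
  have hq1 : f q = f 1 := by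
    change q ^ p = 1 ^ p
    rw [one_pow, ← hq, pow_orderOf_eq_one]
  have := hinj hq1
  rw [this, orderOf_one] at hq
  exact hp.out.one_lt.ne hq

/-- A finite abelian `p`-group is generated by `log_p |Ω₁|` elements. -/
theorem exists_gen (hV : IsPGroup p V) :
    ∃ S : Finset V, p ^ S.card ≤ Nat.card (powMonoidHom p : V →* V).ker ∧
      Subgroup.closure (S : Set V) = ⊤ := by
  obtain ⟨S, hS1, hS2⟩ := exists_gen_above hV _ (powMonoidHom p : V →* V).range rfl
  refine ⟨S, ?_, eq_top_of_sup_pow_eq_top hV _ hS2⟩
  have h1 := Subgroup.card_mul_index (powMonoidHom p : V →* V).ker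
  have h2 := Subgroup.index_ker (powMonoidHom p : V →* V)
  have h3 := Subgroup.card_mul_index (powMonoidHom p : V →* V).range
  have hpos : 0 < Nat.card (powMonoidHom p : V →* V).range := Nat.card_pos
  have : (powMonoidHom p : V →* V).range.index = Nat.card (powMonoidHom p : V →* V).ker := by
    rw [h2] at h1
    have h4 : Nat.card (powMonoidHom p : V →* V).range * (powMonoidHom p : V →* V).range.index =
        Nat.card (powMonoidHom p : V →* V).range * Nat.card (powMonoidHom p : V →* V).ker := by
      rw [h3, mul_comm, h1]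
    exact Nat.eq_of_mul_eq_mul_left hpos h4
  rw [← this]
  exact hS1

end gen

section chain

variable {M : Type*} [AddCommGroup M] [Finite M]

/-- Kernel of an endomorphism. -/
def kerE (T : AddMonoid.End M) : AddSubgroup M where
  carrier := {m | T m = 0}
  zero_mem' := map_zero T
  add_mem' := by
    intro x y hx hy
    change T (x + y) = 0
    rw [map_add, show T x = 0 from hx, show T y = 0 from hy, add_zero]
  neg_mem' := by
    intro x hx
    change T (-x) = 0
    rw [map_neg, show T x = 0 from hx, neg_zero]

omit [Finite M] in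
theorem mem_kerE (T : AddMonoid.End M) (m : M) : m ∈ kerE T ↔ T m = 0 := Iff.rfl

theorem card_ker_pow_succ_le (T : AddMonoid.End M) (j : ℕ) :
    Nat.card (kerE (T ^ (j + 1))) ≤ Nat.card (kerE (T ^ j)) * Nat.card (kerE T) := by
  set K' := kerE (T ^ (j + 1)) with hK'
  set K := kerE (T ^ j) with hK
  let T' : M →+ M := T
  let f : K' →+ M := T'.comp K'.subtype
  have hf : ∀ x : K', f x = T (x : M) := fun x => rfl
  have h1 := AddSubgroup.card_mul_index f.ker
  have h2 := AddSubgroup.index_ker f
  rw [h2] at h1
  have hrange : Nat.card f.range ≤ Nat.card K := by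
    have hle : f.range ≤ K := by
      rintro _ ⟨x, rfl⟩
      rw [hK, mem_kerE, hf]
      have hx : (T ^ (j + 1) : AddMonoid.End M) (x : M) = 0 := x.2
      rw [pow_succ] at hx
      exact hx
    exact Nat.card_le_card_of_injective (AddSubgroup.inclusion hle)
      (AddSubgroup.inclusion_injective hle)
  have hker : Nat.card f.ker ≤ Nat.card (kerE T) := by
    let g : f.ker → kerE T := fun x => ⟨((x : K') : M), by
      have := x.2
      rw [AddMonoidHom.mem_ker, hf] at this
      exact this⟩
    have hg : Function.Injective g := by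
      intro x y hxy
      apply Subtype.ext
      apply Subtype.ext
      exact congrArg (fun z : kerE T => (z : M)) hxy
    exact Nat.card_le_card_of_injective g hg
  calc Nat.card K' = Nat.card f.ker * Nat.card f.range := h1.symm
    _ ≤ Nat.card (kerE T) * Nat.card K := Nat.mul_le_mul hker hrange
    _ = Nat.card K * Nat.card (kerE T) := mul_comm _ _

theorem card_ker_pow_le (T : AddMonoid.End M) (j : ℕ) :
    Nat.card (kerE (T ^ j)) ≤ Nat.card (kerE T) ^ j := by
  induction j with
  | zero =>
    rw [pow_zero, pow_zero]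
    have : kerE (1 : AddMonoid.End M) = ⊥ := by
      ext x
      rw [mem_kerE, AddSubgroup.mem_bot]
      rfl
    rw [this]
    simp
  | succ j ih =>
    calc Nat.card (kerE (T ^ (j + 1)))
        ≤ Nat.card (kerE (T ^ j)) * Nat.card (kerE T) := card_ker_pow_succ_le T j
      _ ≤ Nat.card (kerE T) ^ j * Nat.card (kerE T) := Nat.mul_le_mul_right _ ih
      _ = Nat.card (kerE T) ^ (j + 1) := (pow_succ _ _).symm

/-- If `a ^ p = 1` in the endomorphism ring of a finite abelian group of exponent `p`, then the group
has order at most `|ker (a - 1)| ^ p`. -/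
theorem card_le_of_pow_eq_one {p : ℕ} [hp : Fact p.Prime] (hM : ∀ m : M, p • m = 0)
    (a : AddMonoid.End M) (ha : a ^ p = 1) :
    Nat.card M ≤ Nat.card (kerE (a - 1)) ^ p := by
  by_cases hnt : Nontrivial M
  · haveI : Nontrivial (AddMonoid.End M) := by
      obtain ⟨m, hm⟩ := exists_ne (0 : M)
      refine ⟨⟨0, 1, ?_⟩⟩
      intro h
      apply hm
      have := DFunLike.congr_fun h m
      exact this.symm
    have hp0 : ((p : ℕ) : AddMonoid.End M) = 0 := by
      ext m
      rw [AddMonoid.End.natCast_apply, hM]
      rfl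
    haveI : CharP (AddMonoid.End M) p := (CharP.charP_iff_prime_eq_zero hp.out).mpr hp0
    have hT : (a - 1) ^ p = 0 := by
      rw [sub_pow_char_of_commute p (Commute.one_right a), ha, one_pow, sub_self]
    have htop : kerE ((a - 1) ^ p) = ⊤ := by
      rw [hT]
      ext x
      rw [mem_kerE]
      simp
    have h1 := card_ker_pow_le (a - 1) p
    rw [htop] at h1
    have h2 : Nat.card (⊤ : AddSubgroup M) = Nat.card M := AddSubgroup.card_top
    rw [h2] at h1
    exact h1
  · rw [not_nontrivial_iff_subsingleton] at hnt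
    have h1 : Nat.card M = 1 := Nat.card_eq_one_iff_unique.mpr ⟨hnt, ⟨0⟩⟩
    rw [h1]
    exact Nat.one_le_pow _ _ Nat.card_pos

end chain

theorem result {V : Type*} [CommGroup V] [Finite V] {p : ℕ} [Fact p.Prime] (hV : IsPGroup p V) (α : MulAut V) (hα : orderOf α = p) (n : ℕ) (hfix : Nat.card {v : V // α v = v} = p ^ n) : ∃ S : Finset V, S.card ≤ p * n ∧ Subgroup.closure (S : Set V) = ⊤ := by
  have hp : p.Prime := Fact.out
  obtain ⟨S, hS1, hS2⟩ := exists_gen hV
  refine ⟨S, ?_, hS2⟩
  set Ω : Subgroup V := (powMonoidHom p : V →* V).ker with hΩ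
  have hΩmem : ∀ v : V, v ∈ Ω ↔ v ^ p = 1 := by
    intro v
    rw [hΩ, MonoidHom.mem_ker, powMonoidHom_apply]
  have hαΩ : ∀ w : Ω, α (w : V) ∈ Ω := by
    intro w
    rw [hΩmem, ← map_pow, (hΩmem _).mp w.2, map_one]
  let αΩ : Ω →* Ω :=
    { toFun := fun w => ⟨α (w : V), hαΩ w⟩
      map_one' := by
        apply Subtype.ext
        change α ((1 : Ω) : V) = ((1 : Ω) : V)
        rw [Subgroup.coe_one, map_one]
      map_mul' := by
        intro x y
        apply Subtype.ext
        change α ((x * y : Ω) : V) = α (x : V) * α (y : V)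
        rw [Subgroup.coe_mul, map_mul] }
  let a : AddMonoid.End (Additive Ω) := MonoidHom.toAdditive αΩ
  have ha_apply : ∀ m : Additive Ω, ((a m).toMul : V) = α (m.toMul : V) := fun m => rfl
  have hapow : ∀ (k : ℕ) (m : Additive Ω), (((a ^ k) m).toMul : V) = (α ^ k) (m.toMul : V) := by
    intro k
    induction k with
    | zero => intro m; rfl
    | succ k ih =>
      intro m
      rw [pow_succ, pow_succ]
      change (((a ^ k) (a m)).toMul : V) = (α ^ k) (α (m.toMul : V))
      rw [ih, ha_apply]
  have ha : a ^ p = 1 := by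
    refine DFunLike.ext _ _ fun m => ?_
    apply Additive.toMul.injective
    apply Subtype.ext
    rw [hapow, ← hα, pow_orderOf_eq_one]
    rfl
  have hM : ∀ m : Additive Ω, p • m = 0 := by
    intro m
    apply Additive.toMul.injective
    apply Subtype.ext
    change ((m.toMul ^ p : Ω) : V) = 1
    rw [Subgroup.coe_pow]
    exact (hΩmem _).mp m.toMul.2
  have h1 := card_le_of_pow_eq_one hM a ha
  have h2 : Nat.card (kerE (a - 1)) ≤ p ^ n := by
    rw [← hfix]
    let g : kerE (a - 1) → {v : V // α v = v} := fun m => ⟨((m : Additive Ω).toMul : V), by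
      have hm : (a - 1) (m : Additive Ω) = 0 := m.2
      have hm' : a (m : Additive Ω) = (m : Additive Ω) := by
        have : (a - 1) (m : Additive Ω) = a (m : Additive Ω) - (m : Additive Ω) := rfl
        rw [this, sub_eq_zero] at hm
        exact hm
      rw [← ha_apply, hm']⟩
    have hg : Function.Injective g := by
      intro x y hxy
      apply Subtype.ext
      apply Additive.toMul.injective
      apply Subtype.ext
      exact congrArg (fun z : {v : V // α v = v} => (z : V)) hxy
    exact Nat.card_le_card_of_injective g hg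
  have h3 : Nat.card (Additive Ω) = Nat.card Ω := Nat.card_congr Additive.toMul
  have h4 : p ^ S.card ≤ p ^ (n * p) := by
    calc p ^ S.card ≤ Nat.card Ω := hS1
      _ = Nat.card (Additive Ω) := h3.symm
      _ ≤ Nat.card (kerE (a - 1)) ^ p := h1
      _ ≤ (p ^ n) ^ p := Nat.pow_le_pow_left h2 p
      _ = p ^ (n * p) := (pow_mul p n p).symm
  have h5 := (Nat.pow_le_pow_iff_right hp.one_lt).mp h4
  rw [mul_comm]
  exact h5

end Cfsg.Agent.S3780
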