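import Cfsg.Statements.S3781
import Cfsg.Agent.S4206

set_option autoImplicit false
open Cfsg

namespace Cfsg.Agent.S3781

section

variable {G : Type*} [Group G]

/-- Iterated commutator with the whole group. -/
def iter (A : Subgroup G) : ℕ → Subgroup G
  | 0 => A
  | j + 1 => ⁅iter A j, (⊤ : Subgroup G)⁆

theorem iter_zero (A : Subgroup G) : iter A 0 = A := rfl

theorem iter_succ (A : Subgroup G) (j : ℕ) : iter A (j + 1) = ⁅iter A j, (⊤ : Subgroup G)⁆ := rfl

theorem iter_normal (A : Subgroup G) [hA : A.Normal] : ∀ j, (iter A j).Normal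
  | 0 => hA
  | j + 1 => by
    have := iter_normal A j
    rw [iter_succ]
    infer_instance

theorem iter_succ_le (A : Subgroup G) [A.Normal] (j : ℕ) : iter A (j + 1) ≤ iter A j := by
  have := iter_normal A j
  rw [iter_succ]
  exact Subgroup.commutator_le_left (iter A j) ⊤

theorem iter_antitone (A : Subgroup G) [A.Normal] : Antitone (iter A) :=
  antitone_nat_of_succ_le (iter_succ_le A)

theorem lcs_normal (N : Subgroup G) [hN : N.Normal] : ∀ k, (N.lowerCentralSeries k).Normal
  | 0 => hN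
  | k + 1 => by
    have := lcs_normal N k
    rw [Subgroup.lowerCentralSeries_succ]
    infer_instance

/-- In a nilpotent group, `Y ≤ [Y, G]` forces `Y = 1`. -/
theorem eq_bot_of_le_commutator [Group.IsNilpotent G] (Y : Subgroup G)
    (h : Y ≤ ⁅Y, (⊤ : Subgroup G)⁆) : Y = ⊥ := by
  have key : ∀ k, Y ≤ (⊤ : Subgroup G).lowerCentralSeries k := by
    intro k
    induction k with
    | zero => exact le_top
    | succ k ih =>
      rw [Subgroup.lowerCentralSeries_succ]
      exact h.trans (Subgroup.commutator_mono ih le_rfl)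
  obtain ⟨n, hn⟩ := Subgroup.nilpotent_iff_lowerCentralSeries.mp (inferInstance : Group.IsNilpotent G)
  rw [eq_bot_iff, ← hn]
  exact key n

/-- In a nilpotent group, `X ≤ [X, G] B` with `B` normal forces `X ≤ B`. -/
theorem le_of_le_commutator_sup [Group.IsNilpotent G] (X B : Subgroup G) [B.Normal]
    (h : X ≤ ⁅X, (⊤ : Subgroup G)⁆ ⊔ B) : X ≤ B := by
  have h1 : X.map (QuotientGroup.mk' B) ≤ ⁅X.map (QuotientGroup.mk' B), (⊤ : Subgroup (G ⧸ B))⁆ := by
    have h2 := Subgroup.map_mono (f := QuotientGroup.mk' B) h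
    rw [Subgroup.map_sup, Subgroup.map_commutator] at h2
    have h3 : B.map (QuotientGroup.mk' B) = ⊥ := by
      rw [Subgroup.map_eq_bot_iff, QuotientGroup.ker_mk']
    have h4 : (⊤ : Subgroup G).map (QuotientGroup.mk' B) = ⊤ := by
      rw [← MonoidHom.range_eq_map, MonoidHom.range_eq_top]
      exact QuotientGroup.mk'_surjective B
    rw [h3, h4, sup_bot_eq] at h2
    exact h2
  have h5 := eq_bot_of_le_commutator _ h1
  rw [Subgroup.map_eq_bot_iff, QuotientGroup.ker_mk'] at h5
  exact h5

theorem card_mul_le_of_lt [Finite G] {p : ℕ} [Fact p.Prime] (hG : IsPGroup p G) {K K' : Subgroup G}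
    (h : K < K') : p * Nat.card K ≤ Nat.card K' := by
  obtain ⟨a, ha⟩ := (hG.to_subgroup K).exists_card_eq
  obtain ⟨b, hb⟩ := (hG.to_subgroup K').exists_card_eq
  have hp : 1 < p := (Fact.out : p.Prime).one_lt
  have hdvd := Subgroup.card_dvd_of_le h.le
  rw [ha, hb] at hdvd
  have hab : a ≤ b := (Nat.pow_dvd_pow_iff_le_right hp).mp hdvd
  have hne : a ≠ b := by
    intro e
    apply h.ne
    apply Subgroup.eq_of_le_of_card_ge h.le
    rw [ha, hb, e]
  rw [ha, hb, ← pow_succ']
  exact Nat.pow_le_pow_right hp.le (by omega)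

end

theorem result {G : Type*} [Group G] [Finite G] {p : ℕ} [Fact p.Prime] (hG : IsPGroup p G) (n : ℕ) (hn : 1 ≤ n) (N : Subgroup G) [N.Normal] (hN : N ≤ (⊤ : Subgroup G).lowerCentralSeries (n - 1)) (i : ℕ) (hi : 1 < i) (hne : N.lowerCentralSeries i ≠ ⊥) : p ^ n ≤ (N.lowerCentralSeries i).relIndex (N.lowerCentralSeries (i - 1)) := by
  haveI : Group.IsNilpotent G := hG.isNilpotent
  set A := N.lowerCentralSeries (i - 1) with hA
  set B := N.lowerCentralSeries i with hB
  haveI hAn : A.Normal := lcs_normal N (i - 1)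
  haveI hBn : B.Normal := lcs_normal N i
  have hBA : B = ⁅A, N⁆ := by
    rw [hB, hA]
    obtain ⟨k, rfl⟩ : ∃ k, i = k + 1 := ⟨i - 1, by omega⟩
    rw [Subgroup.lowerCentralSeries_succ]
    rfl
  have hBleA : B ≤ A := by
    rw [hBA]; exact Subgroup.commutator_le_left A N
  -- B ≤ iter A n
  have hBn' : B ≤ iter A n := by
    have h1 := Cfsg.Agent.S4206.result (iter A) (iter_normal A) (iter_succ_le A) ⊤
      (fun j => le_of_eq (iter_succ A j).symm) 0 (n - 1)
    rw [iter_zero] at h1
    have e : 0 + (n - 1) + 1 = n := by omega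
    rw [e] at h1
    rw [hBA]
    exact (Subgroup.commutator_mono le_rfl hN).trans h1
  -- iter A (n-1) is not inside B
  have hnot : ¬ iter A (n - 1) ≤ B := by
    intro hle
    apply hne
    apply eq_bot_of_le_commutator
    have e : n = (n - 1) + 1 := by omega
    calc B ≤ iter A n := hBn'
      _ = ⁅iter A (n - 1), (⊤ : Subgroup G)⁆ := by rw [e, iter_succ]; simp
      _ ≤ ⁅B, (⊤ : Subgroup G)⁆ := Subgroup.commutator_mono hle le_rfl
  have hnotj : ∀ j, j ≤ n - 1 → ¬ iter A j ≤ B := fun j hj hle =>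
    hnot ((iter_antitone A hj).trans hle)
  have hstrict : ∀ j, j ≤ n - 1 → iter A (j + 1) ⊔ B < iter A j ⊔ B := by
    intro j hj
    refine lt_of_le_of_ne (sup_le_sup_right (iter_succ_le A j) B) ?_
    intro heq
    apply hnotj j hj
    apply le_of_le_commutator_sup
    rw [← iter_succ, heq]
    exact le_sup_left
  have hcount : ∀ j, j ≤ n → p ^ j * Nat.card ↥(iter A j ⊔ B) ≤ Nat.card A := by
    intro j
    induction j with
    | zero =>
      intro _
      rw [iter_zero, pow_zero, one_mul, sup_eq_left.mpr hBleA]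
    | succ j ih =>
      intro hj
      have h1 := ih (by omega)
      have h2 := card_mul_le_of_lt hG (hstrict j (by omega))
      calc p ^ (j + 1) * Nat.card ↥(iter A (j + 1) ⊔ B)
          = p ^ j * (p * Nat.card ↥(iter A (j + 1) ⊔ B)) := by ring
        _ ≤ p ^ j * Nat.card ↥(iter A j ⊔ B) := Nat.mul_le_mul_left _ h2
        _ ≤ Nat.card A := h1
  have h3 := hcount n le_rfl
  have h4 : Nat.card B ≤ Nat.card ↥(iter A n ⊔ B) :=
    Nat.le_of_dvd Nat.card_pos (Subgroup.card_dvd_of_le le_sup_right)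
  have h5 : B.relIndex A * Nat.card B = Nat.card A := by
    have := Subgroup.relIndex_mul_relIndex ⊥ B A (bot_le : (⊥ : Subgroup G) ≤ B) hBleA
    rw [Subgroup.relIndex_bot_left, Subgroup.relIndex_bot_left] at this
    rw [mul_comm]; exact this
  have h6 : p ^ n * Nat.card B ≤ B.relIndex A * Nat.card B := by
    rw [h5]
    exact (Nat.mul_le_mul_left _ h4).trans h3
  exact Nat.le_of_mul_le_mul_right h6 Nat.card_pos

end Cfsg.Agent.S3781
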