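import Cfsg.Statements.S3784
import Mathlib

set_option autoImplicit false
open Cfsg

namespace Cfsg.Agent.S3784

/-- for odd `q` and odd exponent, the cofactor of `q+1` in `q^b+1` is odd -/
lemma odd_cofactor (q : ℕ) (hq : Odd q) (k : ℕ) :
    ∃ m : ℕ, Odd m ∧ q ^ (2 * k + 1) + 1 = (q + 1) * m := by
  induction k with
  | zero => exact ⟨1, odd_one, by simp⟩
  | succ k ih =>
    obtain ⟨m, hm, hEq⟩ := ih
    obtain ⟨r, rfl⟩ : ∃ r, q = r + 1 := ⟨q - 1, by have := hq.pos; omega⟩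
    have hmpos : 0 < m := hm.pos
    have hle : r ≤ (r + 1) ^ 2 * m := by nlinarith
    refine ⟨(r + 1) ^ 2 * m - r, ?_, ?_⟩
    · have hr : Even r := by
        rcases hq with ⟨t, ht⟩
        exact ⟨t, by omega⟩
      have : Odd ((r + 1) ^ 2 * m) := (hq.pow).mul hm
      exact Nat.Odd.sub_even hle this hr
    · have h1 : (r + 1 + 1) * ((r + 1) ^ 2 * m - r) + (r + 1 + 1) * r = (r + 1 + 1) * ((r + 1) ^ 2 * m) := by
        rw [← mul_add, Nat.sub_add_cancel hle]
      have h2 : (r + 1) ^ (2 * (k + 1) + 1) = (r + 1) ^ 2 * (r + 1) ^ (2 * k + 1) := by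
        rw [← pow_add]; congr 1; ring
      have h3 : (r + 1 + 1) * ((r + 1) ^ 2 * m) = (r + 1) ^ 2 * ((r + 1) ^ (2 * k + 1) + 1) := by
        rw [hEq]; ring
      have h4 : (r + 1) ^ 2 * ((r + 1) ^ (2 * k + 1) + 1) = (r + 1) ^ (2 * (k + 1) + 1) + 1 + (r + 1 + 1) * r := by
        rw [h2]; ring
      omega

lemma odd_dvd_two_pow {m a : ℕ} (hm : Odd m) (hd : m ∣ 2 ^ a) : m = 1 := by
  obtain ⟨j, -, rfl⟩ := (Nat.dvd_prime_pow Nat.prime_two).mp hd
  rcases Nat.eq_zero_or_pos j with rfl | hj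
  · simp
  · exfalso
    have : Even (2 ^ j) := (Nat.even_pow).mpr ⟨even_two, hj.ne'⟩
    exact (Nat.not_odd_iff_even.mpr this) hm

/-- case `p = 2` -/
lemma case_two_left (q a b : ℕ) (hq : q.Prime) (hb : 1 ≤ b) (h : 2 ^ a = q ^ b + 1) :
    b = 1 ∧ a.Prime ∧ q + 1 = 2 ^ a := by
  have hq2 : q ≠ 2 := by
    rintro rfl
    have h1 : Even (2 ^ b) := (Nat.even_pow).mpr ⟨even_two, by omega⟩
    have h2 : Odd (2 ^ b + 1) := h1.add_one
    rw [← h] at h2
    rcases Nat.eq_zero_or_pos a with rfl | ha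
    · have h0 : 0 < 2 ^ b := by positivity
      rw [pow_zero] at h; omega
    · exact (Nat.not_odd_iff_even.mpr ((Nat.even_pow).mpr ⟨even_two, ha.ne'⟩)) h2
  have hqodd : Odd q := hq.odd_of_ne_two hq2
  have hq3 : 3 ≤ q := by
    have := hq.two_le
    omega
  have hqb : 3 ≤ q ^ b := by
    calc 3 ≤ q := hq3
      _ = q ^ 1 := (pow_one q).symm
      _ ≤ q ^ b := Nat.pow_le_pow_right (by omega) hb
  have ha2 : 2 ≤ a := by
    by_contra hlt
    have : a = 0 ∨ a = 1 := by omega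
    rcases this with rfl | rfl <;> simp at h <;> omega
  have hbodd : Odd b := by
    by_contra hne
    rw [Nat.not_odd_iff_even] at hne
    obtain ⟨k, rfl⟩ := hne
    have h4 : 4 ∣ 2 ^ a := by
      obtain ⟨c, rfl⟩ : ∃ c, a = 2 + c := ⟨a - 2, by omega⟩
      rw [pow_add]; exact Dvd.intro _ rfl
    rw [h] at h4
    have hsq : q ^ (k + k) = (q ^ k) ^ 2 := by rw [← pow_mul]; congr 1; ring
    rw [hsq] at h4
    have : ∀ x : ℕ, ¬ 4 ∣ x ^ 2 + 1 := by
      intro x hx
      have h5 : (x ^ 2 + 1) % 4 = 0 := Nat.mod_eq_zero_of_dvd hx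
      have hx4 : x % 4 < 4 := Nat.mod_lt _ (by norm_num)
      rw [Nat.add_mod, Nat.pow_mod] at h5
      interval_cases (x % 4) <;> simp at h5
    exact this _ h4
  obtain ⟨k, rfl⟩ := hbodd
  obtain ⟨m, hm, hEq⟩ := odd_cofactor q hqodd k
  have hmd : m ∣ 2 ^ a := by rw [h, hEq]; exact Dvd.intro_left _ rfl
  have hm1 : m = 1 := odd_dvd_two_pow hm hmd
  subst hm1
  have hk : k = 0 := by
    by_contra hk
    have : q ^ 1 < q ^ (2 * k + 1) := Nat.pow_lt_pow_right (by omega) (by omega)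
    simp at this
    omega
  subst hk
  simp only [mul_zero, zero_add, pow_one] at h hEq ⊢
  refine ⟨trivial, ?_, h.symm⟩
  have hP : (2 ^ a - 1).Prime := by
    have : 2 ^ a - 1 = q := by omega
    rw [this]; exact hq
  have ha1 : a ≠ 1 := by omega
  exact (Nat.prime_of_pow_sub_one_prime ha1 hP).2

/-- case `q = 2` -/
lemma case_two_right (p a b : ℕ) (hp : p.Prime) (ha : 1 ≤ a) (hb : 1 ≤ b) (h : p ^ a = 2 ^ b + 1) :
    (a = 1 ∧ (∃ m : ℕ, b = 2 ^ m) ∧ p = 2 ^ b + 1) ∨ (p ^ a = 9 ∧ 2 ^ b = 8) := by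
  have hbe : Even (2 ^ b) := (Nat.even_pow).mpr ⟨even_two, by omega⟩
  have hpa_odd : Odd (p ^ a) := by rw [h]; exact hbe.add_one
  have hp2 : p ≠ 2 := by
    rintro rfl
    exact (Nat.not_odd_iff_even.mpr ((Nat.even_pow).mpr ⟨even_two, by omega⟩)) hpa_odd
  have hpodd : Odd p := hp.odd_of_ne_two hp2
  have hp3 : 3 ≤ p := by have := hp.two_le; omega
  rcases Nat.lt_or_ge a 2 with ha1 | ha2
  · left
    have : a = 1 := by omega
    subst this
    simp only [pow_one] at h
    refine ⟨rfl, ?_, h⟩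
    have hP : (2 ^ b + 1).Prime := by rw [← h]; exact hp
    exact Nat.pow_of_pow_add_prime (by norm_num) (by omega) hP
  · right
    rcases Nat.even_or_odd a with hae | hao
    · obtain ⟨k, rfl⟩ := hae
      have hk : 1 ≤ k := by omega
      obtain ⟨x, hx⟩ : ∃ x, x = p ^ k := ⟨_, rfl⟩
      have hxx : p ^ (k + k) = x * x := by rw [hx, ← pow_add]
      have hx3 : 3 ≤ x := by
        rw [hx]
        calc 3 ≤ p := hp3
          _ = p ^ 1 := (pow_one p).symm
          _ ≤ p ^ k := Nat.pow_le_pow_right (by omega) hk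
      have hfac : (x - 1) * (x + 1) = 2 ^ b := by
        obtain ⟨y, rfl⟩ : ∃ y, x = y + 1 := ⟨x - 1, by omega⟩
        have : (y + 1) * (y + 1) = 2 ^ b + 1 := by rw [← hxx]; exact h
        simp only [Nat.add_sub_cancel]
        nlinarith
      have hd1 : (x - 1) ∣ 2 ^ b := Dvd.intro _ hfac
      have hd2 : (x + 1) ∣ 2 ^ b := Dvd.intro_left _ hfac
      obtain ⟨i, hi, hi'⟩ := (Nat.dvd_prime_pow Nat.prime_two).mp hd1
      obtain ⟨j, hj, hj'⟩ := (Nat.dvd_prime_pow Nat.prime_two).mp hd2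
      have hij : 2 ^ j = 2 ^ i + 2 := by omega
      have hi1 : 1 ≤ i := by
        by_contra hcon
        have : i = 0 := by omega
        subst this
        simp at hi'
        omega
      have hij' : i < j := by
        by_contra hcon
        have hcon' : j ≤ i := by omega
        have : 2 ^ j ≤ 2 ^ i := Nat.pow_le_pow_right (by norm_num) hcon'
        omega
      -- 2^i * (2^(j-i) - 1) = 2, so i = 1
      have hi_eq : i = 1 := by
        by_contra hcon
        have hi2 : 2 ≤ i := by omega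
        have h4i : 4 ∣ 2 ^ i := by
          obtain ⟨c, rfl⟩ : ∃ c, i = 2 + c := ⟨i - 2, by omega⟩
          rw [pow_add]; exact Dvd.intro _ rfl
        have h4j : 4 ∣ 2 ^ j := by
          obtain ⟨c, rfl⟩ : ∃ c, j = 2 + c := ⟨j - 2, by omega⟩
          rw [pow_add]; exact Dvd.intro _ rfl
        omega
      subst hi_eq
      have hx_eq : x = 3 := by simp at hi'; omega
      have hpa : p ^ (k + k) = 9 := by rw [hxx, hx_eq]
      exact ⟨hpa, by omega⟩
    · exfalso
      -- a odd, a ≥ 3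
      obtain ⟨y, hy⟩ : ∃ y, p = y + 1 := ⟨p - 1, by omega⟩
      have hgs := geom_sum_mul_add y a
      rw [← hy] at hgs
      set S := ∑ i ∈ Finset.range a, p ^ i with hS
      have hSy : S * y = 2 ^ b := by omega
      have hSodd : Odd S := by
        rw [hS, Finset.odd_sum_iff_odd_card_odd]
        have : (Finset.range a).filter (fun i => Odd (p ^ i)) = Finset.range a := by
          apply Finset.filter_true_of_mem
          intro i _
          exact hpodd.pow
        rw [this, Finset.card_range]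
        exact hao
      have hS1 : S = 1 := odd_dvd_two_pow hSodd (Dvd.intro _ hSy)
      have hSgt : 1 < S := by
        rw [hS]
        obtain ⟨c, rfl⟩ : ∃ c, a = c + 2 := ⟨a - 2, by omega⟩
        rw [Finset.sum_range_succ, Finset.sum_range_succ]
        have : 0 < p ^ (c + 1) := pow_pos (by omega) _
        have : 0 < p ^ c := pow_pos (by omega) _
        have hc1 : p ≤ p ^ (c + 1) := by
          calc p = p ^ 1 := (pow_one p).symm
            _ ≤ p ^ (c + 1) := Nat.pow_le_pow_right (by omega) (by omega)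
        omega
      omega

theorem result (p q a b : ℕ) (hp : p.Prime) (hq : q.Prime) (ha : 1 ≤ a) (hb : 1 ≤ b) (h : p ^ a = q ^ b + 1) : (p = 2 ∧ b = 1 ∧ a.Prime ∧ q + 1 = 2 ^ a) ∨ (q = 2 ∧ a = 1 ∧ (∃ m : ℕ, b = 2 ^ m) ∧ p = 2 ^ b + 1) ∨ (p ^ a = 9 ∧ q ^ b = 8) := by
  by_cases hp2 : p = 2
  · subst hp2
    left
    exact ⟨rfl, case_two_left q a b hq hb h⟩
  · by_cases hq2 : q = 2
    · subst hq2
      right
      rcases case_two_right p a b hp ha hb h with ⟨h1, h2, h3⟩ | ⟨h1, h2⟩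
      · left; exact ⟨rfl, h1, h2, h3⟩
      · right; exact ⟨h1, h2⟩
    · exfalso
      have hpo : Odd (p ^ a) := (hp.odd_of_ne_two hp2).pow
      have hqo : Odd (q ^ b) := (hq.odd_of_ne_two hq2).pow
      rw [h] at hpo
      have : Even (q ^ b + 1) := hqo.add_one
      exact (Nat.not_odd_iff_even.mpr this) hpo

end Cfsg.Agent.S3784
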