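import Mathlib
import Cfsg.Statements.S3785
import Cfsg.Agent.S3736
import Cfsg.Agent.Lib.Helper1.Basic
import Cfsg.Agent.Lib.Helper1.Cores
import Cfsg.Agent.Lib.Helper10.Layer

set_option autoImplicit false
open Cfsg

namespace Cfsg.Agent.S3785

open Subgroup Cfsg.Agent.Lib.Helper1
open scoped commutatorElement

universe u

/-- For `p` odd, a `p'`-group acting on a `p`-group and centralizing all elements of order `p`
acts trivially. -/
theorem commutator_eq_bot_of_centralizes_order_p {X : Type*} [Group X] [Finite X] {p : ℕ}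
    [Fact p.Prime] (hp2 : p ≠ 2) (P A : Subgroup X) (hP : IsPGroup p P)
    (hAP : A ≤ normalizer (P : Set X)) (hAp : (Nat.card A).Coprime p)
    (hc : ∀ x ∈ P, orderOf x = p → ∀ a ∈ A, a * x = x * a) : ⁅P, A⁆ = ⊥ := by
  by_contra hne
  let S : Set (Subgroup X) := {U | U ≤ P ∧ A ≤ normalizer (U : Set X) ∧ ⁅U, A⁆ ≠ ⊥}
  have hfin : S.Finite := Set.toFinite _
  have hne' : S.Nonempty := ⟨P, le_rfl, hAP, hne⟩
  obtain ⟨P₀, ⟨hP₀P, hAP₀, hP₀ne⟩, hmin⟩ := hfin.exists_minimal hne'
  have hminU : ∀ U : Subgroup X, U < P₀ → A ≤ normalizer (U : Set X) → ⁅U, A⁆ = ⊥ := by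
    intro U hU hAU
    by_contra hU'
    have h1 : P₀ ≤ U := hmin ⟨hU.le.trans hP₀P, hAU, hU'⟩ hU.le
    exact absurd h1 (not_le_of_gt hU)
  have hres := Cfsg.Agent.S3736.result (p := p) A A P₀ (hP.to_le hP₀P) hAP₀ le_rfl le_normalizer
    hAp hP₀ne hminU
  obtain ⟨-, -, -, hexp⟩ := hres
  apply hP₀ne
  rw [commutator_eq_bot_iff_le_centralizer]
  intro x hx
  rw [mem_centralizer_iff]
  intro a ha
  by_cases hx1 : x = 1
  · subst hx1; simp
  · have h2 : orderOf x = p := orderOf_eq_prime (hexp hp2 x hx) hx1
    exact hc x (hP₀P hx) h2 a ha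

theorem nilpotent_aux (n : ℕ) : ∀ (G : Type u) [Group G] [Finite G], Group.IsSolvable G →
    Odd (Nat.card (Cfsg.fittingSubgroup G)) →
    (∀ x ∈ Cfsg.fittingSubgroup G, (orderOf x).Prime → x ∈ center G) → Nat.card G = n →
    Cfsg.fittingSubgroup G = ⊤ := by
  induction n using Nat.strong_induction_on with
  | _ n ih =>
  intro G _ _ hsolv hodd hcen hn
  haveI := hsolv
  by_contra hF
  have hFn : (Cfsg.fittingSubgroup G).Normal := fittingSubgroup_normal
  -- proper normal subgroups lie in `F`
  have hprop : ∀ M : Subgroup G, M.Normal → M ≠ ⊤ → M ≤ Cfsg.fittingSubgroup G := by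
    intro M hMn hM
    have hlt : Nat.card M < n := by
      have := card_lt_of_lt (lt_top_iff_ne_top.mpr hM)
      rwa [Subgroup.card_top, hn] at this
    have hmap := Cfsg.Agent.Lib.Helper10.map_fittingSubgroup_eq_of_subnormal (hMn.isSubnormal)
    have hsolvM : Group.IsSolvable ↥M := inferInstance
    have h1 : Cfsg.fittingSubgroup ↥M = ⊤ := by
      apply ih (Nat.card M) hlt ↥M hsolvM ?_ ?_ rfl
      · have hc : Nat.card (Cfsg.fittingSubgroup ↥M) =
            Nat.card ((Cfsg.fittingSubgroup ↥M).map M.subtype) := (Subgroup.card_subtype _ _).symm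
        rw [hc, hmap]
        exact Odd.of_dvd_nat hodd (Subgroup.card_dvd_of_le inf_le_left)
      · intro x hx hxp
        have hxF : (x : G) ∈ Cfsg.fittingSubgroup G := by
          have h2 : (x : G) ∈ (Cfsg.fittingSubgroup ↥M).map M.subtype :=
            Subgroup.mem_map_of_mem M.subtype hx
          rw [hmap] at h2
          exact (mem_inf.mp h2).1
        have h3 := hcen x hxF (by rwa [Subgroup.orderOf_coe])
        rw [mem_center_iff] at h3 ⊢
        intro y
        exact Subtype.ext (h3 y)
    have hnil : Group.IsNilpotent ↥M := by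
      have h2 := fittingSubgroup_isNilpotent (G := ↥M)
      rw [h1] at h2
      exact Group.isNilpotent_top.mp h2
    exact le_fittingSubgroup hMn hnil
  haveI hGnt : Nontrivial G := by
    by_contra h
    rw [not_nontrivial_iff_subsingleton] at h
    exact hF (Subsingleton.elim _ _)
  have hcomm : commutator G ≤ Cfsg.fittingSubgroup G :=
    hprop _ inferInstance (Group.IsSolvable.commutator_lt_top_of_nontrivial G).ne
  -- an element of prime power order outside `F`
  obtain ⟨q, hq, x, hxq, hxF⟩ : ∃ q : ℕ, q.Prime ∧ ∃ x : G, IsPGroup q (zpowers x) ∧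
      x ∉ Cfsg.fittingSubgroup G := by
    by_contra hall
    push Not at hall
    apply hF
    apply Subgroup.eq_top_of_le_card
    apply Nat.le_of_dvd Nat.card_pos
    rw [← Nat.factorization_prime_le_iff_dvd Nat.card_pos.ne' Nat.card_pos.ne']
    intro p hp
    haveI := Fact.mk hp
    obtain ⟨P⟩ : Nonempty (Sylow p G) := inferInstance
    have hPF : (P : Subgroup G) ≤ Cfsg.fittingSubgroup G := by
      intro y hy
      exact hall p hp y (P.2.to_le (zpowers_le.mpr hy))
    have h1 := Subgroup.card_dvd_of_le hPF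
    rw [P.card_eq_multiplicity] at h1
    exact (hp.pow_dvd_iff_le_factorization Nat.card_pos.ne').mp h1
  haveI := Fact.mk hq
  -- `F ⊔ ⟨x⟩ = ⊤`
  have hMtop : Cfsg.fittingSubgroup G ⊔ zpowers x = ⊤ := by
    by_contra hM
    have hMn : (Cfsg.fittingSubgroup G ⊔ zpowers x).Normal := by
      refine ⟨fun h hh t => ?_⟩
      have h1 : t * h * t⁻¹ = ⁅t, h⁆ * h := by rw [commutatorElement_def]; group
      rw [h1]
      refine mul_mem (mem_sup_left (hcomm ?_)) hh
      exact Subgroup.commutator_mem_commutator (mem_top t) (mem_top h)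
    exact hxF (hprop _ hMn hM (mem_sup_right (mem_zpowers x)))
  -- `x` centralizes the other cores
  have hcent : ∀ p : ℕ, p.Prime → p ≠ q → ⁅Cfsg.pCore p G, zpowers x⁆ = ⊥ := by
    intro p hp hpq
    haveI := Fact.mk hp
    by_cases hcore : Cfsg.pCore p G = ⊥
    · rw [hcore]; exact commutator_bot_left _
    have hp2 : p ≠ 2 := by
      rintro rfl
      have h2 : 2 ∣ Nat.card (Cfsg.pCore 2 G) := by
        obtain ⟨k, hk⟩ := (pCore_isPGroup 2 (G := G)).exists_card_eq
        have hk0 : k ≠ 0 := by
          rintro rfl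
          apply hcore
          rw [← Subgroup.card_eq_one]
          simpa using hk
        rw [hk]; exact dvd_pow_self 2 hk0
      have h3 := h2.trans (Subgroup.card_dvd_of_le (pCore_le_fittingSubgroup 2))
      exact (Nat.not_even_iff_odd.mpr hodd) (even_iff_two_dvd.mpr h3)
    have hnorm : zpowers x ≤ normalizer ((Cfsg.pCore p G : Subgroup G) : Set G) := by
      have := (Cfsg.Agent.Lib.Helper1.pCore_normal p (G := G))
      rw [normalizer_eq_top_iff.mpr this]
      exact le_top
    have hcop : (Nat.card (zpowers x)).Coprime p := by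
      obtain ⟨k, hk⟩ := hxq.exists_card_eq
      rw [hk]
      exact Nat.Coprime.pow_left k ((Nat.coprime_primes hq hp).mpr hpq.symm)
    apply commutator_eq_bot_of_centralizes_order_p hp2 _ _ (pCore_isPGroup p) hnorm hcop
    intro y hy hyp a _
    have hyF : y ∈ Cfsg.fittingSubgroup G := pCore_le_fittingSubgroup p hy
    have h4 := hcen y hyF (hyp ▸ hp)
    exact (mem_center_iff.mp h4 a)
  -- the `q`-group `Q = O_q(G)⟨x⟩` is normal
  haveI hqn : (Cfsg.pCore q G).Normal := Cfsg.Agent.Lib.Helper1.pCore_normal q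
  have hQp : IsPGroup q ↥(Cfsg.pCore q G ⊔ zpowers x) :=
    IsPGroup.to_sup_of_normal_left (pCore_isPGroup q) hxq
  have hQn : (Cfsg.pCore q G ⊔ zpowers x).Normal := by
    rw [← normalizer_eq_top_iff, eq_top_iff, ← hMtop]
    refine sup_le ?_ ((le_sup_right).trans le_normalizer)
    rw [fittingSubgroup_eq_iSup_primes]
    refine iSup_le fun p => ?_
    haveI : Fact (p : ℕ).Prime := ⟨p.2⟩
    by_cases hpq : (p : ℕ) = q
    · rw [hpq]; exact le_sup_left.trans le_normalizer
    · refine le_trans ?_ (centralizer_le_normalizer _)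
      rw [le_centralizer_iff]
      refine sup_le ?_ ?_
      · rw [← commutator_eq_bot_iff_le_centralizer, eq_bot_iff]
        haveI : (Cfsg.pCore (p : ℕ) G).Normal := Cfsg.Agent.Lib.Helper1.pCore_normal _
        refine (commutator_le_inf _ _).trans ?_
        have hdis : Disjoint (Cfsg.pCore q G) (Cfsg.pCore (p : ℕ) G) :=
          IsPGroup.disjoint_of_ne _ _ (Ne.symm hpq) _ _ (pCore_isPGroup _) (pCore_isPGroup _)
        exact hdis.le_bot
      · rw [← le_centralizer_iff, ← commutator_eq_bot_iff_le_centralizer]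
        exact hcent p p.2 hpq
  have hQF : Cfsg.pCore q G ⊔ zpowers x ≤ Cfsg.fittingSubgroup G :=
    le_fittingSubgroup hQn hQp.isNilpotent
  exact hxF (hQF (mem_sup_right (mem_zpowers x)))

/-- Let G be a finite solvable group whose Fitting subgroup F(G) has odd order. If an element g of G commutes with every element of prime order of F(G), then g ∈ F(G). -/
theorem result {G : Type*} [Group G] [Finite G] (hG : Group.IsSolvable G) (hodd : Odd (Nat.card (Cfsg.fittingSubgroup G))) (g : G) (hg : ∀ x ∈ Cfsg.fittingSubgroup G, (orderOf x).Prime → g * x = x * g) : g ∈ Cfsg.fittingSubgroup G := by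
  haveI := hG
  have hFn : (Cfsg.fittingSubgroup G).Normal := fittingSubgroup_normal
  set S : Set G := {x | x ∈ Cfsg.fittingSubgroup G ∧ (orderOf x).Prime} with hS
  have hgC : g ∈ centralizer S := by
    rw [mem_centralizer_iff]
    intro x hx
    exact (hg x hx.1 hx.2).symm
  have hCn : (centralizer S).Normal := by
    refine ⟨fun c hc t => ?_⟩
    rw [mem_centralizer_iff] at hc ⊢
    intro x hx
    have hx' : t⁻¹ * x * t ∈ S := by
      refine ⟨?_, ?_⟩
      · have := hFn.conj_mem x hx.1 t⁻¹
        simpa using this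
      · have h1 : orderOf (t⁻¹ * x * t) = orderOf x := by
          have := orderOf_injective (MulAut.conj t⁻¹).toMonoidHom (MulAut.conj t⁻¹).injective x
          simpa using this
        rw [h1]; exact hx.2
    have h2 := hc _ hx'
    calc x * (t * c * t⁻¹) = t * ((t⁻¹ * x * t) * c) * t⁻¹ := by group
      _ = t * (c * (t⁻¹ * x * t)) * t⁻¹ := by rw [h2]
      _ = t * c * t⁻¹ * x := by group
  have hmap := Cfsg.Agent.Lib.Helper10.map_fittingSubgroup_eq_of_subnormal (hCn.isSubnormal)
  have hsolvC : Group.IsSolvable ↥(centralizer S) := inferInstance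
  have h1 : Cfsg.fittingSubgroup ↥(centralizer S) = ⊤ := by
    apply nilpotent_aux _ ↥(centralizer S) hsolvC ?_ ?_ rfl
    · have hc : Nat.card (Cfsg.fittingSubgroup ↥(centralizer S)) =
          Nat.card ((Cfsg.fittingSubgroup ↥(centralizer S)).map (centralizer S).subtype) :=
        (Subgroup.card_subtype _ _).symm
      rw [hc, hmap]
      exact Odd.of_dvd_nat hodd (Subgroup.card_dvd_of_le inf_le_left)
    · intro x hx hxp
      have hxF : (x : G) ∈ Cfsg.fittingSubgroup G := by
        have h2 : (x : G) ∈ (Cfsg.fittingSubgroup ↥(centralizer S)).map (centralizer S).subtype :=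
          Subgroup.mem_map_of_mem (centralizer S).subtype hx
        rw [hmap] at h2
        exact (mem_inf.mp h2).1
      have hxS : (x : G) ∈ S := ⟨hxF, by rwa [Subgroup.orderOf_coe]⟩
      rw [mem_center_iff]
      intro y
      have h3 := mem_centralizer_iff.mp y.2 _ hxS
      exact Subtype.ext h3.symm
  have hnil : Group.IsNilpotent ↥(centralizer S) := by
    have h2 := fittingSubgroup_isNilpotent (G := ↥(centralizer S))
    rw [h1] at h2
    exact Group.isNilpotent_top.mp h2
  exact le_fittingSubgroup hCn hnil hgC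

end Cfsg.Agent.S3785
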