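import Cfsg.Statements.S3787
import Cfsg.Agent.Lib.Helper23.WrMain

set_option autoImplicit false
open Cfsg

namespace Cfsg.Agent.S3787

/-- Let G be a finite p-soluble group, p an odd prime not of the form 2^k + 1, and suppose the wreath product C_p ≀ C_p (of order p^(p+1)) is not involved in a Sylow p-subgroup of G: no section of a Sylow p-subgroup is isomorphic to it. Then G has p-length at most 1. -/
theorem result {G : Type*} [Group G] [Finite G] {p : ℕ} [Fact p.Prime] (hp2 : p ≠ 2) (hnf : (¬ ∃ k : ℕ, p = 2 ^ k + 1)) (hG : Cfsg.IsPSolvable p G) (P : Sylow p G) (hwr : ∀ (W : Type) [Group W] [Finite W], (∃ (B : Subgroup W) (t : W), B.Normal ∧ IsMulCommutative B ∧ (∀ b ∈ B, b ^ p = 1) ∧ Nat.card B = p ^ p ∧ orderOf t = p ∧ t ∉ B ∧ Nat.card W = p ^ (p + 1) ∧ Nat.card ↥(B ⊓ Subgroup.centralizer ({t} : Set W)) = p) → ¬ Cfsg.Involves W ↥(P : Subgroup G)) : Cfsg.PLengthLE p 1 G := by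
  have hp : p.Prime := Fact.out
  apply Cfsg.Agent.Lib.Helper23.Wr.pLengthLE_one_of_wr_free hp2 hnf hG
  intro W' _ hW' hinv
  have hcard : Nat.card W' = p ^ (p + 1) := by
    obtain ⟨B, t, -, -, -, -, -, -, hW, -⟩ := hW'
    exact hW
  have hpg : IsPGroup p W' := IsPGroup.of_card hcard
  have hfin : Finite W' :=
    Nat.finite_of_card_ne_zero (by rw [hcard]; exact pow_ne_zero _ hp.ne_zero)
  have hinvP : Cfsg.Involves W' ↥(P : Subgroup G) :=
    Cfsg.Agent.Lib.Helper27.involves_sylow_of_isPGroup hpg P hinv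
  obtain ⟨W, hWg, hWf, hW, hWinv⟩ := hW'.exists_small hinvP
  exact hwr W hW hWinv

end Cfsg.Agent.S3787
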