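import Cfsg.Statements.S3788
import Cfsg.Agent.H5.PSolvable
import Cfsg.Agent.H5.PSolvable2
import Cfsg.Agent.H5.Cores
import Cfsg.Agent.Lib.Helper1.Basic
import Cfsg.Agent.Lib.Helper1.Cores
import Cfsg.Agent.Lib.Helper1.Coprime
import Cfsg.Agent.Lib.Helper1.Frattini
import Cfsg.Agent.Lib.Helper1.ThompsonNPC
import Cfsg.Agent.Lib.Helper10.PComponent
import Cfsg.Agent.Lib.Helper27.Involves
import Cfsg.Agent.Lib.Helper18.OffenderTwoB
import Cfsg.Agent.Lib.Helper18.OffenderTwoC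
import Cfsg.Agent.Lib.Helper18.S3Section
import Cfsg.Agent.S2759

set_option autoImplicit false
open Cfsg

namespace Cfsg.Agent.S3788

open scoped commutatorElement Pointwise

/-- If `t = a w a⁻¹ w⁻¹` commutes with `a` and `w`, then `(w a)^n = w^n t^{n(n-1)/2} a^n`. -/
theorem mul_pow_of_comm {M : Type*} [Group M] (a w t : M) (hta : t * a = a * t)
    (htw : t * w = w * t) (haw : a * w = t * w * a) (n : ℕ) :
    (w * a) ^ n = w ^ n * t ^ (∑ i ∈ Finset.range n, i) * a ^ n := by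
  have hc : Commute t a := hta
  have hcw : Commute t w := htw
  have hpow : ∀ n : ℕ, a ^ n * w = t ^ n * w * a ^ n := by
    intro n
    induction n with
    | zero => simp
    | succ n ih =>
      calc a ^ (n + 1) * w = a * (a ^ n * w) := by rw [pow_succ', mul_assoc]
        _ = a * (t ^ n * w * a ^ n) := by rw [ih]
        _ = (a * t ^ n) * w * a ^ n := by simp only [mul_assoc]
        _ = (t ^ n * a) * w * a ^ n := by rw [(hc.pow_left n).eq]
        _ = t ^ n * (a * w) * a ^ n := by simp only [mul_assoc]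
        _ = t ^ n * (t * w * a) * a ^ n := by rw [haw]
        _ = t ^ (n + 1) * w * a ^ (n + 1) := by
            rw [pow_succ t n, pow_succ' a n]; simp only [mul_assoc]
  induction n with
  | zero => simp
  | succ n ih =>
    rw [Finset.sum_range_succ, pow_succ (w * a) n, ih]
    calc w ^ n * t ^ (∑ i ∈ Finset.range n, i) * a ^ n * (w * a)
        = w ^ n * t ^ (∑ i ∈ Finset.range n, i) * (a ^ n * w) * a := by simp only [mul_assoc]
      _ = w ^ n * t ^ (∑ i ∈ Finset.range n, i) * (t ^ n * w * a ^ n) * a := by rw [hpow]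
      _ = w ^ n * (t ^ (∑ i ∈ Finset.range n, i) * t ^ n * w) * (a ^ n * a) := by
          simp only [mul_assoc]
      _ = w ^ n * (w * (t ^ (∑ i ∈ Finset.range n, i) * t ^ n)) * (a ^ n * a) := by
          rw [← pow_add, (hcw.pow_left _).eq]
      _ = w ^ (n + 1) * t ^ (∑ i ∈ Finset.range n, i + n) * a ^ (n + 1) := by
          rw [pow_succ w n, pow_succ a n, pow_add]; simp only [mul_assoc]

/-- A `p'`-element acting on `v` by multiplication with a fixed `p`-element fixes `v`. -/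
theorem eq_one_of_chain {M : Type*} [Group M] {p : ℕ} (s : M) (hs : (orderOf s).Coprime p)
    (v β : M) (hβp : β ^ p = 1) (hsβ : s * β = β * s) (hv : s * v * s⁻¹ = v * β) : β = 1 := by
  have hcomm : Commute s β := hsβ
  have key : ∀ n : ℕ, s ^ n * v * (s ^ n)⁻¹ = v * β ^ n := by
    intro n
    induction n with
    | zero => simp
    | succ n ih =>
      have h1 : s ^ (n + 1) * v * (s ^ (n + 1))⁻¹ = s * (s ^ n * v * (s ^ n)⁻¹) * s⁻¹ := by
        rw [pow_succ' s n]; group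
      rw [h1, ih]
      have h2 : s * (v * β ^ n) * s⁻¹ = (s * v * s⁻¹) * (s * β ^ n * s⁻¹) := by group
      rw [h2, hv, (hcomm.pow_right n).eq, mul_inv_cancel_right, pow_succ' β n, mul_assoc]
  have h1 := key (orderOf s)
  rw [pow_orderOf_eq_one, one_mul, inv_one, mul_one] at h1
  have h2 : β ^ orderOf s = 1 := by
    have := congrArg (fun x => v⁻¹ * x) h1
    simpa using this.symm
  have h3 : orderOf β ∣ Nat.gcd (orderOf s) p :=
    Nat.dvd_gcd (orderOf_dvd_of_pow_eq_one h2) (orderOf_dvd_of_pow_eq_one hβp)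
  rw [Nat.Coprime.gcd_eq_one hs, Nat.dvd_one] at h3
  exact orderOf_eq_one_iff.mp h3

theorem eq_one_of_pow_eq_one_of_mem {G : Type*} [Group G] [Finite G] {p : ℕ} (K : Subgroup G)
    (hK : (Nat.card K).Coprime p) (x : G) (hx : x ∈ K) (hxp : x ^ p = 1) : x = 1 := by
  have h1 : orderOf x ∣ p := orderOf_dvd_of_pow_eq_one hxp
  have h2 : orderOf x ∣ Nat.card K := Subgroup.orderOf_dvd_natCard K hx
  have h3 : orderOf x ∣ Nat.gcd (Nat.card K) p := Nat.dvd_gcd h2 h1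
  rw [Nat.Coprime.gcd_eq_one hK, Nat.dvd_one] at h3
  exact orderOf_eq_one_iff.mp h3

/-- The odd case of the core lemma. -/
theorem core_odd {M : Type*} [Group M] [Finite M] {p : ℕ} [hp : Fact p.Prime] (hp2 : p ≠ 2)
    (hM : Cfsg.IsPSolvable p M)
    (hVc : ∀ x ∈ Cfsg.pCore p M, ∀ y ∈ Cfsg.pCore p M, x * y = y * x)
    (hVp : ∀ x ∈ Cfsg.pCore p M, x ^ p = 1)
    (hCV : Subgroup.centralizer (Cfsg.pCore p M : Set M) ≤ Cfsg.pCore p M)
    (a : M) (hap : a ^ p ∈ Cfsg.pCore p M)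
    (hcomm : ∀ v ∈ Cfsg.pCore p M, a * v * a⁻¹ * v⁻¹ ∈ Subgroup.zpowers (a ^ p)) :
    a ∈ Cfsg.pCore p M := by
  classical
  have hO : Cfsg.pCore p (M ⧸ Cfsg.pCore p M) = ⊥ :=
    Cfsg.Agent.Lib.Helper1.ThompsonNPC.pCore_quotient_pCore_eq_bot
  obtain ⟨V, hV⟩ : ∃ V : Subgroup M, V = Cfsg.pCore p M := ⟨_, rfl⟩
  have hVn : V.Normal := by rw [hV]; exact Cfsg.H5.pCore_normal p M
  have hVpg : IsPGroup p V := by rw [hV]; exact Cfsg.H5.pCore_isPGroup p M
  have hO' : Cfsg.pCore p (M ⧸ V) = ⊥ := by subst hV; exact hO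
  clear hO
  rw [← hV] at hVc hVp hCV hap hcomm ⊢
  obtain ⟨π, hπ⟩ : ∃ π : M →* M ⧸ V, π = QuotientGroup.mk' V := ⟨_, rfl⟩
  have hπs : Function.Surjective π := by rw [hπ]; exact QuotientGroup.mk'_surjective V
  have hπ1 : ∀ g : M, π g = 1 ↔ g ∈ V := by
    intro g; rw [hπ, QuotientGroup.mk'_apply, QuotientGroup.eq_one_iff]
  have hΓsol : Cfsg.IsPSolvable p (M ⧸ V) := Cfsg.H5.isPSolvable_quotient V hM
  obtain ⟨Kb, hKb⟩ : ∃ Kb : Subgroup (M ⧸ V), Kb = Cfsg.pPrimeCore p (M ⧸ V) := ⟨_, rfl⟩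
  have hKbn : Kb.Normal := by rw [hKb]; exact Cfsg.H5.pPrimeCore_normal p _
  have hKbcop : (Nat.card Kb).Coprime p := by
    rw [hKb]; exact Cfsg.H5.coprime_card_pPrimeCore p _
  have hCKb : Subgroup.centralizer (Kb : Set (M ⧸ V)) ≤ Kb := by
    rw [hKb]; exact Cfsg.H5.centralizer_pPrimeCore_le_of_isPSolvable hΓsol hO'
  obtain ⟨K, hK⟩ : ∃ K : Subgroup M, K = Kb.comap π := ⟨_, rfl⟩
  have hKn : K.Normal := by rw [hK]; exact hKbn.comap π
  have hKmem : ∀ g : M, g ∈ K ↔ π g ∈ Kb := by intro g; rw [hK, Subgroup.mem_comap]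
  have hVK : V ≤ K := by
    intro v hv; rw [hKmem, (hπ1 v).mpr hv]; exact one_mem _
  -- a complement `R` of `V` in `K`
  have hNcard : Nat.card (V.subgroupOf K) = Nat.card V :=
    Nat.card_congr (Subgroup.subgroupOfEquivOfLe hVK).toEquiv
  have hNidx : (V.subgroupOf K).index = Nat.card Kb := by
    have h1 : K.map π = Kb := by
      rw [hK]; exact Subgroup.map_comap_eq_self_of_surjective hπs Kb
    rw [← h1, hπ, Cfsg.H5.card_map_mk']
    rfl
  obtain ⟨pk, hpk⟩ := IsPGroup.iff_card.mp hVpg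
  have hcopN : (Nat.card (V.subgroupOf K)).Coprime (V.subgroupOf K).index := by
    rw [hNcard, hNidx, hpk]; exact (Nat.Coprime.pow_right pk hKbcop).symm
  obtain ⟨H, hH⟩ := Subgroup.exists_right_complement'_of_coprime hcopN
  obtain ⟨R, hR⟩ : ∃ R : Subgroup M, R = H.map K.subtype := ⟨_, rfl⟩
  have hRK : R ≤ K := by rw [hR]; exact Subgroup.map_subtype_le H
  have hRcard : Nat.card R = Nat.card Kb := by
    rw [hR, Subgroup.card_map_of_injective K.subtype_injective, ← hNidx]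
    exact hH.symm.index_eq_card.symm
  have hRVcop : (Nat.card R).Coprime (Nat.card V) := by
    rw [hRcard, hpk]; exact Nat.Coprime.pow_right pk hKbcop
  have hRcop : (Nat.card R).Coprime p := by rw [hRcard]; exact hKbcop
  have hVsolv : Group.IsSolvable V :=
    Group.isSolvable_of_comm (fun x y => Subtype.ext (hVc x x.2 y y.2))
  have hact : Cfsg.Agent.Lib.Helper1.CoprimeAct R V :=
    ⟨by rw [Subgroup.normalizer_eq_top]; exact le_top, hRVcop, Or.inr hVsolv⟩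
  have hRV : V ⊓ R = ⊥ := hact.inf_eq_bot
  have hsup : R ⊔ V = K := by
    apply le_antisymm (sup_le hRK hVK)
    intro k hk
    obtain ⟨n, hn, h', hh', hnh⟩ :=
      Cfsg.Agent.Lib.Helper1.IsComplement'.exists_mul_eq hH ⟨k, hk⟩
    have e : k = (n : M) * (h' : M) := by rw [← Subgroup.coe_mul, hnh]
    rw [e]
    exact mul_mem (Subgroup.mem_sup_right (Subgroup.mem_subgroupOf.mp hn))
      (Subgroup.mem_sup_left (by rw [hR]; exact Subgroup.mem_map_of_mem K.subtype hh'))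
  -- Frattini argument: some `a₁ ∈ V a` normalizes `R`
  have hB : MulAut.conj a • R ≤ R ⊔ V := by
    rw [hsup, Cfsg.Agent.Lib.Helper1.conj_smul_le_iff]
    intro r hr
    exact hKn.conj_mem r (hRK hr) a
  obtain ⟨k, hkV, hk⟩ := hact.exists_conj_eq (MulAut.conj a • R) hB
    (Cfsg.Agent.Lib.Helper1.card_conj_smul a R)
  obtain ⟨w, hw⟩ : ∃ w : M, w = k⁻¹ := ⟨_, rfl⟩
  have hwV : w ∈ V := by rw [hw]; exact inv_mem hkV
  obtain ⟨a₁, ha₁⟩ : ∃ a₁ : M, a₁ = w * a := ⟨_, rfl⟩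
  have ha₁R : MulAut.conj a₁ • R = R := by
    rw [ha₁, hw, map_mul, mul_smul, ← hk, ← mul_smul, ← map_mul, inv_mul_cancel, map_one,
      one_smul]
  have ha₁N : a₁ ∈ Subgroup.normalizer (R : Set M) :=
    Cfsg.Agent.Lib.Helper1.conj_smul_eq_self_iff_mem_normalizer.mp ha₁R
  -- the `p`-th power of `a₁`
  obtain ⟨b, hb⟩ : ∃ b : M, b = a ^ p := ⟨_, rfl⟩
  rw [← hb] at hap hcomm
  have hBV : Subgroup.zpowers b ≤ V := by rw [Subgroup.zpowers_le]; exact hap
  have hba : Commute b a := by rw [hb]; exact (Commute.refl a).pow_left p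
  have hzb : ∀ g : M, g * b = b * g → ∀ x ∈ Subgroup.zpowers b, g * x = x * g := by
    intro g hg x hx
    obtain ⟨j, rfl⟩ := Subgroup.mem_zpowers_iff.mp hx
    exact ((show Commute g b from hg).zpow_right j).eq
  have ha₁p : a₁ ^ p = b := by
    obtain ⟨t, ht⟩ : ∃ t : M, t = a * w * a⁻¹ * w⁻¹ := ⟨_, rfl⟩
    have htB : t ∈ Subgroup.zpowers b := by rw [ht]; exact hcomm w hwV
    have htV : t ∈ V := hBV htB
    have hta : t * a = a * t := (hzb a hba.eq.symm t htB).symm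
    have htw : t * w = w * t := hVc t htV w hwV
    have haw : a * w = t * w * a := by rw [ht]; group
    have h1 := mul_pow_of_comm a w t hta htw haw p
    have h2 : p ∣ ∑ i ∈ Finset.range p, i := by
      have h3 := Finset.sum_range_id_mul_two p
      have h4 : p ∣ (∑ i ∈ Finset.range p, i) * 2 := by rw [h3]; exact dvd_mul_right p _
      exact Nat.Coprime.dvd_of_dvd_mul_right
        ((Nat.coprime_primes hp.out Nat.prime_two).mpr hp2) h4
    obtain ⟨c, hc⟩ := h2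
    rw [ha₁, h1, hVp w hwV, hc, pow_mul, hVp t htV, one_pow, one_mul, one_mul, hb]
  have hbR : b ∈ Subgroup.centralizer (R : Set M) := by
    apply hact.mem_centralizer_of_mem_normalizer hap
    rw [← ha₁p]
    exact pow_mem ha₁N p
  have hbr : ∀ r ∈ R, r * b = b * r := fun r hr => Subgroup.mem_centralizer_iff.mp hbR r hr
  have hba₁ : a₁ * b = b * a₁ := by
    rw [← ha₁p]; exact ((Commute.refl a₁).pow_right p).eq
  have hcomm₁ : ∀ v ∈ V, a₁ * v * a₁⁻¹ * v⁻¹ ∈ Subgroup.zpowers b := by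
    intro v hv
    have hu : a * v * a⁻¹ ∈ V := hVn.conj_mem v hv a
    have e : a₁ * v * a₁⁻¹ * v⁻¹ = a * v * a⁻¹ * v⁻¹ := by
      have h1 : a₁ * v * a₁⁻¹ * v⁻¹ = w * (a * v * a⁻¹) * w⁻¹ * v⁻¹ := by rw [ha₁]; group
      rw [h1, hVc w hwV _ hu, mul_inv_cancel_right]
    rw [e]; exact hcomm v hv
  -- the stability group of the chain `V ≥ ⟨b⟩ ≥ 1`
  have hT1 : ∀ g h : M, g * b = b * g → (∀ v ∈ V, g * v * g⁻¹ * v⁻¹ ∈ Subgroup.zpowers b) →
      (∀ v ∈ V, h * v * h⁻¹ * v⁻¹ ∈ Subgroup.zpowers b) →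
      ∀ v ∈ V, (g * h) * v * (g * h)⁻¹ * v⁻¹ ∈ Subgroup.zpowers b := by
    intro g h hg hg2 hh2 v hv
    have e : g * h * v * (g * h)⁻¹ * v⁻¹ =
        g * (h * v * h⁻¹ * v⁻¹) * g⁻¹ * (g * v * g⁻¹ * v⁻¹) := by group
    rw [e]
    refine mul_mem ?_ (hg2 v hv)
    rw [hzb g hg _ (hh2 v hv), mul_inv_cancel_right]
    exact hh2 v hv
  have hT2 : ∀ g : M, (∀ v ∈ V, g * v * g⁻¹ * v⁻¹ ∈ Subgroup.zpowers b) →
      ∀ v ∈ V, g⁻¹ * v * g⁻¹⁻¹ * v⁻¹ ∈ Subgroup.zpowers b := by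
    intro g hg2 v hv
    have hv' : g⁻¹ * v * g ∈ V := by simpa using hVn.conj_mem v hv g⁻¹
    have e : g⁻¹ * v * g⁻¹⁻¹ * v⁻¹ = (g * (g⁻¹ * v * g) * g⁻¹ * (g⁻¹ * v * g)⁻¹)⁻¹ := by group
    rw [e]
    exact inv_mem (hg2 _ hv')
  have hT3 : ∀ r g : M, r * b = b * r → (∀ v ∈ V, g * v * g⁻¹ * v⁻¹ ∈ Subgroup.zpowers b) →
      ∀ v ∈ V, (r * g * r⁻¹) * v * (r * g * r⁻¹)⁻¹ * v⁻¹ ∈ Subgroup.zpowers b := by
    intro r g hr hg2 v hv
    have hv' : r⁻¹ * v * r ∈ V := by simpa using hVn.conj_mem v hv r⁻¹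
    have e : (r * g * r⁻¹) * v * (r * g * r⁻¹)⁻¹ * v⁻¹ =
        r * (g * (r⁻¹ * v * r) * g⁻¹ * (r⁻¹ * v * r)⁻¹) * r⁻¹ := by group
    rw [e, hzb r hr _ (hg2 _ hv'), mul_inv_cancel_right]
    exact hg2 _ hv'
  -- `a₁` centralizes `R`
  have hcent : ∀ r ∈ R, r * a₁ = a₁ * r := by
    intro r hr
    obtain ⟨s, hs⟩ : ∃ s : M, s = (r * a₁ * r⁻¹) * a₁⁻¹ := ⟨_, rfl⟩
    have hsR : s ∈ R := by
      have h1 : a₁ * r⁻¹ * a₁⁻¹ ∈ R :=
        (Subgroup.mem_normalizer_iff.mp ha₁N r⁻¹).mp (inv_mem hr)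
      have e : s = r * (a₁ * r⁻¹ * a₁⁻¹) := by rw [hs]; group
      rw [e]; exact mul_mem hr h1
    have hsb : s * b = b * s := by
      have h1 : Commute r b := hbr r hr
      have h2 : Commute a₁ b := hba₁
      rw [hs]
      exact (((h1.mul_left h2).mul_left h1.inv_left).mul_left h2.inv_left).eq
    have hs2 : ∀ v ∈ V, s * v * s⁻¹ * v⁻¹ ∈ Subgroup.zpowers b := by
      rw [hs]
      exact hT1 _ _ (((show Commute r b from hbr r hr).mul_left hba₁).mul_left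
        (show Commute r b from hbr r hr).inv_left).eq
        (hT3 r a₁ (hbr r hr) hcomm₁) (hT2 a₁ hcomm₁)
    have hsord : (orderOf s).Coprime p :=
      Nat.Coprime.coprime_dvd_left (Subgroup.orderOf_dvd_natCard R hsR) hRcop
    have hsC : s ∈ Subgroup.centralizer (V : Set M) := by
      rw [Subgroup.mem_centralizer_iff]
      intro v hv
      have hβ := hs2 v hv
      have hβV := hBV hβ
      have h1 : s * v * s⁻¹ = v * (s * v * s⁻¹ * v⁻¹) := by
        rw [hVc v hv _ hβV]; group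
      have h2 := eq_one_of_chain s hsord v _ (hVp _ hβV) (hzb s hsb _ hβ) h1
      have h3 : s * v * s⁻¹ * v⁻¹ * (v * s) = v * s := by rw [h2, one_mul]
      rw [← h3]; group
    have hs1 : s = 1 := by
      have := hRV.le (Subgroup.mem_inf.mpr ⟨hCV hsC, hsR⟩)
      exact Subgroup.mem_bot.mp this
    have h4 : r * a₁ * r⁻¹ * a₁⁻¹ * (a₁ * r) = a₁ * r := by rw [← hs, hs1, one_mul]
    rw [← h4]; group
  -- hence the image of `a₁` centralizes `O_{p'}(M/V)`
  have hπa₁ : π a₁ ∈ Subgroup.centralizer (Kb : Set (M ⧸ V)) := by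
    rw [Subgroup.mem_centralizer_iff]
    intro x hx
    obtain ⟨g, rfl⟩ := hπs x
    have hgK : g ∈ R ⊔ V := by rw [hsup, hKmem]; exact hx
    obtain ⟨r, hr, v, hv, rfl⟩ := Subgroup.mem_sup_of_normal_right.mp hgK
    rw [map_mul, (hπ1 v).mpr hv, mul_one, ← map_mul, ← map_mul, hcent r hr]
  have hπa₁1 : π a₁ = 1 := by
    apply eq_one_of_pow_eq_one_of_mem Kb hKbcop _ (hCKb hπa₁)
    rw [← map_pow, ha₁p, (hπ1 b).mpr hap]
  have ha₁V : a₁ ∈ V := (hπ1 a₁).mp hπa₁1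
  have e : a = w⁻¹ * a₁ := by rw [ha₁]; group
  rw [e]
  exact mul_mem (inv_mem hwV) ha₁V


/-- The case `p = 2` of the core lemma. -/
theorem core_two {M : Type*} [Group M] [Finite M]
    (hM : Cfsg.IsPSolvable 2 M)
    (hVc : ∀ x ∈ Cfsg.pCore 2 M, ∀ y ∈ Cfsg.pCore 2 M, x * y = y * x)
    (hVp : ∀ x ∈ Cfsg.pCore 2 M, x ^ 2 = 1)
    (hCV : Subgroup.centralizer (Cfsg.pCore 2 M : Set M) ≤ Cfsg.pCore 2 M)
    (hS4 : ¬ Cfsg.Involves (Equiv.Perm (Fin 4)) M)
    (a : M) (hap : a ^ 2 ∈ Cfsg.pCore 2 M)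
    (hcomm : ∀ v ∈ Cfsg.pCore 2 M, a * v * a⁻¹ * v⁻¹ ∈ Subgroup.zpowers (a ^ 2)) :
    a ∈ Cfsg.pCore 2 M := by
  classical
  have hp2 : Fact (Nat.Prime 2) := ⟨Nat.prime_two⟩
  by_contra haV
  have hO : Cfsg.pCore 2 (M ⧸ Cfsg.pCore 2 M) = ⊥ :=
    Cfsg.Agent.Lib.Helper1.ThompsonNPC.pCore_quotient_pCore_eq_bot
  obtain ⟨V, hV⟩ : ∃ V : Subgroup M, V = Cfsg.pCore 2 M := ⟨_, rfl⟩
  have hVn : V.Normal := by rw [hV]; exact Cfsg.H5.pCore_normal 2 M
  have hVpg : IsPGroup 2 V := by rw [hV]; exact Cfsg.H5.pCore_isPGroup 2 M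
  have hO' : Cfsg.pCore 2 (M ⧸ V) = ⊥ := by subst hV; exact hO
  clear hO
  rw [← hV] at hVc hVp hCV hap hcomm haV
  obtain ⟨π, hπ⟩ : ∃ π : M →* M ⧸ V, π = QuotientGroup.mk' V := ⟨_, rfl⟩
  have hπs : Function.Surjective π := by rw [hπ]; exact QuotientGroup.mk'_surjective V
  have hπ1 : ∀ g : M, π g = 1 ↔ g ∈ V := by
    intro g; rw [hπ, QuotientGroup.mk'_apply, QuotientGroup.eq_one_iff]
  have hΓsol : Cfsg.IsPSolvable 2 (M ⧸ V) := Cfsg.H5.isPSolvable_quotient V hM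
  obtain ⟨Kb, hKb⟩ : ∃ Kb : Subgroup (M ⧸ V), Kb = Cfsg.pPrimeCore 2 (M ⧸ V) := ⟨_, rfl⟩
  have hKbn : Kb.Normal := by rw [hKb]; exact Cfsg.H5.pPrimeCore_normal 2 _
  have hKbcop : (Nat.card Kb).Coprime 2 := by
    rw [hKb]; exact Cfsg.H5.coprime_card_pPrimeCore 2 _
  have hCKb : Subgroup.centralizer (Kb : Set (M ⧸ V)) ≤ Kb := by
    rw [hKb]; exact Cfsg.H5.centralizer_pPrimeCore_le_of_isPSolvable hΓsol hO'
  -- the action of `M ⧸ V` on `V`
  let _ : CommGroup V :=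
    { (inferInstance : Group V) with
      mul_comm := fun x y => Subtype.ext (hVc x x.2 y y.2) }
  let φ₀ : M →* MulAut ↥V := MulAut.conjNormal
  have hφ₀val : ∀ (g : M) (v : V), ((φ₀ g v : V) : M) = g * (v : M) * g⁻¹ := fun g v => rfl
  have hker : V ≤ φ₀.ker := by
    intro x hx
    rw [MonoidHom.mem_ker]
    ext v
    rw [hφ₀val, MulAut.one_apply, hVc x hx v v.2, mul_inv_cancel_right]
  let φ : M ⧸ V →* MulAut ↥V := QuotientGroup.lift V φ₀ hker
  have hφπ : ∀ g : M, φ (π g) = φ₀ g := by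
    intro g; rw [hπ]; rfl
  have hφ : ∀ x : M ⧸ V, φ x = 1 → x = 1 := by
    intro x hx
    obtain ⟨g, rfl⟩ := hπs x
    rw [hφπ] at hx
    rw [hπ1]
    apply hCV
    rw [Subgroup.mem_centralizer_iff]
    intro v hv
    have h2 : φ₀ g ⟨v, hv⟩ = ⟨v, hv⟩ := by rw [hx]; rfl
    have h3 := congrArg Subtype.val h2
    rw [hφ₀val] at h3
    calc v * g = (g * v * g⁻¹) * g := by rw [h3]
      _ = g * v := by group
  have hV2 : ∀ v : V, v ^ 2 = 1 := fun v =>
    Subtype.ext (by rw [Subgroup.coe_pow]; exact hVp v v.2)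
  -- the offender
  have hπa1 : π a ≠ 1 := fun h => haV ((hπ1 a).mp h)
  have hπa2 : π a * π a = 1 := by
    rw [← map_mul, ← pow_two, (hπ1 _).mpr hap]
  obtain ⟨A, hA⟩ : ∃ A : Subgroup (M ⧸ V), A = Subgroup.zpowers (π a) := ⟨_, rfl⟩
  have hAmem : ∀ y ∈ A, y = 1 ∨ y = π a := by
    intro y hy
    rw [hA] at hy
    exact Cfsg.Agent.Lib.Helper18.OffenderTwoB.mem_zpowers_of_mul_self' hπa2 hy
  have hAab : ∀ x ∈ A, ∀ y ∈ A, x * y = y * x := by
    intro x hx y hy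
    rcases hAmem x hx with rfl | rfl <;> rcases hAmem y hy with rfl | rfl <;> simp
  have hA2 : ∀ x ∈ A, x ^ 2 = 1 := by
    intro x hx
    rcases hAmem x hx with rfl | rfl
    · exact one_pow 2
    · rw [pow_two]; exact hπa2
  have hAcard : Nat.card A = 2 := by
    rw [hA, Nat.card_zpowers]
    exact orderOf_eq_prime (by rw [pow_two]; exact hπa2) hπa1
  -- the commutator map
  obtain ⟨b', hb'⟩ : ∃ b' : V, b' = ⟨a ^ 2, hap⟩ := ⟨_, rfl⟩
  let θ : ↥V →* ↥V :=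
    { toFun := fun v => φ₀ a v * v⁻¹
      map_one' := by rw [map_one, inv_one, mul_one]
      map_mul' := by
        intro x y
        rw [map_mul, mul_inv]
        exact mul_mul_mul_comm _ _ _ _ }
  have hθval : ∀ v : V, θ v = φ₀ a v * v⁻¹ := fun v => rfl
  have hker2 : θ.ker ≤ Cfsg.Agent.Lib.Helper18.OffenderTwo.fixV φ A := by
    intro v hv
    rw [MonoidHom.mem_ker, hθval, mul_inv_eq_one] at hv
    rw [Cfsg.Agent.Lib.Helper18.OffenderTwo.mem_fixV]
    intro y hy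
    rcases hAmem y hy with rfl | rfl
    · rw [map_one, MulAut.one_apply]
    · rw [hφπ, hv]
  have hrange : θ.range ≤ Subgroup.zpowers b' := by
    rintro _ ⟨v, rfl⟩
    obtain ⟨j, hj⟩ := Subgroup.mem_zpowers_iff.mp (hcomm v v.2)
    rw [Subgroup.mem_zpowers_iff]
    refine ⟨j, ?_⟩
    apply Subtype.ext
    rw [hθval, Subgroup.coe_mul, Subgroup.coe_inv, hφ₀val, Subgroup.coe_zpow, hb', hj]
  have hb'card : Nat.card (Subgroup.zpowers b') ≤ 2 := by
    rw [Nat.card_zpowers]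
    apply Nat.le_of_dvd (by norm_num)
    apply orderOf_dvd_of_pow_eq_one
    exact hV2 b'
  have hcardV : Nat.card V ≤ Nat.card (Cfsg.Agent.Lib.Helper18.OffenderTwo.fixV φ A) * 2 := by
    have h1 := Subgroup.card_mul_index θ.ker
    rw [Subgroup.index_ker] at h1
    rw [← h1]
    exact Nat.mul_le_mul (Subgroup.card_le_of_le hker2)
      ((Subgroup.card_le_of_le hrange).trans hb'card)
  have hsmall : Nat.card V <
      Nat.card A ^ 2 * Nat.card (Cfsg.Agent.Lib.Helper18.OffenderTwo.fixV φ A) := by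
    rw [hAcard]
    have hpos : 0 < Nat.card (Cfsg.Agent.Lib.Helper18.OffenderTwo.fixV φ A) := Nat.card_pos
    omega
  obtain ⟨e, z, he2, hz1, hz3, hinv⟩ :=
    Cfsg.Agent.Lib.Helper18.OffenderTwoC.exists_inverted_three φ hφ hV2 Kb hKbcop hCKb A hAab
      hA2 hsmall
  have h3 : Cfsg.Involves (Equiv.Perm (Fin 3)) (M ⧸ V) :=
    Cfsg.Agent.Lib.Helper18.S3Section.involves_s3_of_inverted e z he2 hz1 hz3 hinv
  -- transfer to `N(V)/C(V)`
  have hNtop : Subgroup.normalizer (V : Set M) = ⊤ := Subgroup.normalizer_eq_top V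
  have hkerf : (Subgroup.centralizer (V : Set M)).subgroupOf (Subgroup.normalizer (V : Set M)) ≤
      (π.comp (Subgroup.normalizer (V : Set M)).subtype).ker := by
    intro x hx
    rw [Subgroup.mem_subgroupOf] at hx
    rw [MonoidHom.mem_ker, MonoidHom.comp_apply, Subgroup.coe_subtype, hπ1]
    exact hCV hx
  have hfs : Function.Surjective (QuotientGroup.lift _ _ hkerf) := by
    intro y
    obtain ⟨g, rfl⟩ := hπs y
    refine ⟨QuotientGroup.mk' _ ⟨g, by rw [hNtop]; exact Subgroup.mem_top g⟩, ?_⟩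
    rfl
  have h4 : Cfsg.Involves (Equiv.Perm (Fin 3)) (↥(Subgroup.normalizer (V : Set M)) ⧸
      (Subgroup.centralizer (V : Set M)).subgroupOf (Subgroup.normalizer (V : Set M))) :=
    Cfsg.Agent.Lib.Helper27.involves_trans h3
      (Cfsg.Agent.Lib.Helper27.involves_of_surjective _ hfs)
  exact hS4 (Cfsg.Agent.S2759.backward V hVpg h4)


/-- The core lemma, both cases. -/
theorem core {M : Type*} [Group M] [Finite M] {p : ℕ} [hp : Fact p.Prime]
    (h : p ≠ 2 ∨ ¬ Cfsg.Involves (Equiv.Perm (Fin 4)) M)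
    (hM : Cfsg.IsPSolvable p M)
    (hVc : ∀ x ∈ Cfsg.pCore p M, ∀ y ∈ Cfsg.pCore p M, x * y = y * x)
    (hVp : ∀ x ∈ Cfsg.pCore p M, x ^ p = 1)
    (hCV : Subgroup.centralizer (Cfsg.pCore p M : Set M) ≤ Cfsg.pCore p M)
    (a : M) (hap : a ^ p ∈ Cfsg.pCore p M)
    (hcomm : ∀ v ∈ Cfsg.pCore p M, a * v * a⁻¹ * v⁻¹ ∈ Subgroup.zpowers (a ^ p)) :
    a ∈ Cfsg.pCore p M := by
  rcases eq_or_ne p 2 with rfl | hp2
  · rcases h with h | h
    · exact absurd rfl h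
    · exact core_two hM hVc hVp hCV h a hap hcomm
  · exact core_odd hp2 hM hVc hVp hCV a hap hcomm

/-- Reduction to the case `Φ(O_p(M)) = 1`. -/
theorem reduction {M : Type*} [Group M] [Finite M] {p : ℕ} [hp : Fact p.Prime]
    (hM : Cfsg.IsPSolvable p M) (hO : Cfsg.pPrimeCore p M = ⊥)
    (h : p ≠ 2 ∨ ¬ Cfsg.Involves (Equiv.Perm (Fin 4)) M)
    (a : M) (hap : a ^ p ∈ Cfsg.pCore p M)
    (hcomm : ∀ v ∈ Cfsg.pCore p M, a * v * a⁻¹ * v⁻¹ ∈ Subgroup.zpowers (a ^ p)) :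
    a ∈ Cfsg.pCore p M := by
  classical
  have hCQ0 := Cfsg.H5.centralizer_pCore_le_of_isPSolvable hM hO
  obtain ⟨Q, hQ⟩ : ∃ Q : Subgroup M, Q = Cfsg.pCore p M := ⟨_, rfl⟩
  rw [← hQ] at hap hcomm hCQ0 ⊢
  have hQn : Q.Normal := by rw [hQ]; exact Cfsg.H5.pCore_normal p M
  have hQp : IsPGroup p Q := by rw [hQ]; exact Cfsg.H5.pCore_isPGroup p M
  have hQtop : Subgroup.normalizer (Q : Set M) = ⊤ := Subgroup.normalizer_eq_top Q
  obtain ⟨Φ, hΦ⟩ : ∃ Φ : Subgroup M, Φ = (frattini ↥Q).map Q.subtype := ⟨_, rfl⟩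
  have hΦQ : Φ ≤ Q := by rw [hΦ]; exact Subgroup.map_subtype_le _
  have hΦn : Φ.Normal := by
    have h1 := Cfsg.Agent.Lib.Helper1.normalizer_le_normalizer_map_of_characteristic Q
      (frattini ↥Q)
    rw [← hΦ, hQtop] at h1
    constructor
    intro n hn g
    exact (Subgroup.mem_normalizer_iff.mp (h1 (Subgroup.mem_top g)) n).mp hn
  have hΦp : IsPGroup p Φ := hQp.to_le hΦQ
  have hcommΦ : ∀ u ∈ Q, ∀ v ∈ Q, u * v * u⁻¹ * v⁻¹ ∈ Φ := by
    intro u hu v hv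
    have h1 : ⁅(⟨u, hu⟩ : Q), ⟨v, hv⟩⁆ ∈ frattini ↥Q :=
      Cfsg.Agent.Lib.Helper1.IsPGroup.commutator_le_frattini hQp
        (by rw [commutator_def]
            exact Subgroup.commutator_mem_commutator (Subgroup.mem_top _) (Subgroup.mem_top _))
    rw [hΦ]
    exact ⟨_, h1, by simp [commutatorElement_def]⟩
  have hpowΦ : ∀ u ∈ Q, u ^ p ∈ Φ := by
    intro u hu
    have h1 := Cfsg.Agent.Lib.Helper1.IsPGroup.pow_mem_frattini hQp (⟨u, hu⟩ : Q)
    rw [hΦ]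
    exact ⟨_, h1, by simp⟩
  obtain ⟨π, hπ⟩ : ∃ π : M →* M ⧸ Φ, π = QuotientGroup.mk' Φ := ⟨_, rfl⟩
  have hπs : Function.Surjective π := by rw [hπ]; exact QuotientGroup.mk'_surjective Φ
  have hπ1 : ∀ g : M, π g = 1 ↔ g ∈ Φ := by
    intro g; rw [hπ, QuotientGroup.mk'_apply, QuotientGroup.eq_one_iff]
  have hπker : π.ker = Φ := by rw [hπ, QuotientGroup.ker_mk']
  have hQbn : (Q.map π).Normal := hQn.map π hπs
  -- `O_p(M/Φ) = Q/Φ`
  have hQb : Cfsg.pCore p (M ⧸ Φ) = Q.map π := by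
    apply le_antisymm
    · have h1 : IsPGroup p ((Cfsg.pCore p (M ⧸ Φ)).comap π) := by
        apply (Cfsg.H5.pCore_isPGroup p (M ⧸ Φ)).comap_of_ker_isPGroup
        rw [hπker]; exact hΦp
      have h2 : (Cfsg.pCore p (M ⧸ Φ)).comap π ≤ Q := by
        rw [hQ]
        exact Cfsg.H5.le_pCore ((Cfsg.H5.pCore_normal p (M ⧸ Φ)).comap π) h1
      rw [← Subgroup.map_comap_eq_self_of_surjective hπs (Cfsg.pCore p (M ⧸ Φ))]
      exact Subgroup.map_mono h2
    · exact Cfsg.H5.le_pCore hQbn (hQp.map π)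
  -- `C(Q/Φ) ≤ Q/Φ`
  have hCQb : Subgroup.centralizer ((Q.map π : Subgroup (M ⧸ Φ)) : Set (M ⧸ Φ)) ≤ Q.map π := by
    obtain ⟨C, hC⟩ : ∃ C : Subgroup M,
      C = (Subgroup.centralizer ((Q.map π : Subgroup (M ⧸ Φ)) : Set (M ⧸ Φ))).comap π := ⟨_, rfl⟩
    have hCn : C.Normal := by
      rw [hC]
      exact (inferInstance : (Subgroup.centralizer
        ((Q.map π : Subgroup (M ⧸ Φ)) : Set (M ⧸ Φ))).Normal).comap π
    have hCmem : ∀ g ∈ C, ∀ k ∈ Q, g * k * g⁻¹ * k⁻¹ ∈ Φ := by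
      intro g hg k hk
      rw [hC, Subgroup.mem_comap, Subgroup.mem_centralizer_iff] at hg
      have h1 := hg (π k) (Subgroup.mem_map_of_mem π hk)
      rw [← hπ1, map_mul, map_mul, map_mul, map_inv, map_inv, ← h1]
      group
    have hCp : IsPGroup p C := by
      rintro ⟨g, hg⟩
      obtain ⟨e, n', hn', hn⟩ := Nat.exists_eq_pow_mul_and_not_dvd
        (orderOf_pos g).ne' p hp.out.ne_one
      refine ⟨e, Subtype.ext ?_⟩
      rw [Subgroup.coe_pow, Subgroup.coe_one]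
      obtain ⟨g', hg'⟩ : ∃ g' : M, g' = g ^ p ^ e := ⟨_, rfl⟩
      rw [← hg']
      have hg'C : g' ∈ C := by rw [hg']; exact pow_mem hg _
      have hg'n : g' ^ n' = 1 := by rw [hg', ← pow_mul, ← hn, pow_orderOf_eq_one]
      have hg'ord : (orderOf g').Coprime p :=
        Nat.Coprime.coprime_dvd_left (orderOf_dvd_of_pow_eq_one hg'n)
          ((Nat.Prime.coprime_iff_not_dvd hp.out).mpr hn').symm
      have hAQ : Subgroup.zpowers g' ≤ Subgroup.centralizer (Q : Set M) := by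
        apply Cfsg.Agent.Lib.Helper1.le_centralizer_of_commutator_le_frattini
        · rw [hQtop]; exact le_top
        · rw [Nat.card_zpowers]
          obtain ⟨j, hj⟩ := IsPGroup.iff_card.mp (hQp.to_subgroup (frattini ↥Q))
          rw [hj]
          exact Nat.Coprime.pow_right j hg'ord
        · intro x hx k hk
          rw [← hΦ]
          exact hCmem x ((Subgroup.zpowers_le.mpr hg'C) hx) k hk
      have hg'Q : g' ∈ Q := hCQ0 (hAQ (Subgroup.mem_zpowers g'))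
      exact Cfsg.H5.eq_one_of_coprime_of_mem_pgroup hg'ord hQp hg'Q
    have hCQ : C ≤ Q := by rw [hQ]; exact Cfsg.H5.le_pCore hCn hCp
    intro x hx
    obtain ⟨g, rfl⟩ := hπs x
    exact Subgroup.mem_map_of_mem π (hCQ (by rw [hC, Subgroup.mem_comap]; exact hx))
  -- apply the core lemma in `M/Φ`
  have h' : p ≠ 2 ∨ ¬ Cfsg.Involves (Equiv.Perm (Fin 4)) (M ⧸ Φ) := by
    rcases h with h | h
    · exact Or.inl h
    · right
      intro h4
      exact h (Cfsg.Agent.Lib.Helper27.involves_trans h4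
        (Cfsg.Agent.Lib.Helper27.involves_of_surjective π hπs))
  have hmain : π a ∈ Cfsg.pCore p (M ⧸ Φ) := by
    apply core h' (Cfsg.H5.isPSolvable_quotient Φ hM)
    · rw [hQb]
      rintro _ ⟨u, hu, rfl⟩ _ ⟨v, hv, rfl⟩
      have h1 := (hπ1 _).mpr (hcommΦ u hu v hv)
      rw [map_mul, map_mul, map_mul, map_inv, map_inv] at h1
      calc π u * π v = (π u * π v * (π u)⁻¹ * (π v)⁻¹) * (π v * π u) := by group
        _ = π v * π u := by rw [h1, one_mul]
    · rw [hQb]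
      rintro _ ⟨u, hu, rfl⟩
      rw [← map_pow]
      exact (hπ1 _).mpr (hpowΦ u hu)
    · rw [hQb]; exact hCQb
    · rw [hQb, ← map_pow]; exact Subgroup.mem_map_of_mem π hap
    · rw [hQb]
      rintro _ ⟨v, hv, rfl⟩
      obtain ⟨j, hj⟩ := Subgroup.mem_zpowers_iff.mp (hcomm v hv)
      rw [Subgroup.mem_zpowers_iff]
      refine ⟨j, ?_⟩
      rw [← map_pow, ← map_zpow, hj, map_mul, map_mul, map_mul, map_inv, map_inv]
  rw [hQb] at hmain
  obtain ⟨u, hu, hua⟩ := hmain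
  have h1 : π (u⁻¹ * a) = 1 := by rw [map_mul, map_inv, hua, inv_mul_cancel]
  have h2 : u⁻¹ * a ∈ Q := hΦQ ((hπ1 _).mp h1)
  have e : a = u * (u⁻¹ * a) := by group
  rw [e]
  exact mul_mem hu h2

/-- With `O_{p'}(M) = 1`: a cyclic `p`-subgroup normalized by `O_p(M)` lies in `O_p(M)`. -/
theorem cyclic_le_pCore {M : Type*} [Group M] [Finite M] {p : ℕ} [hp : Fact p.Prime]
    (hM : Cfsg.IsPSolvable p M) (hO : Cfsg.pPrimeCore p M = ⊥)
    (h : p ≠ 2 ∨ ¬ Cfsg.Involves (Equiv.Perm (Fin 4)) M)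
    (A : Subgroup M) (hA : IsCyclic A) (hAp : IsPGroup p A)
    (hQA : Cfsg.pCore p M ≤ Subgroup.normalizer (A : Set M)) :
    A ≤ Cfsg.pCore p M := by
  classical
  obtain ⟨g, hg⟩ := hA.exists_generator
  have key : ∀ n : ℕ, ∀ x ∈ A, x ^ (p ^ n) = 1 → x ∈ Cfsg.pCore p M := by
    intro n
    induction n with
    | zero =>
      intro x _ hx
      rw [pow_zero, pow_one] at hx
      rw [hx]; exact one_mem _
    | succ n ih =>
      intro x hxA hx
      have hxp : x ^ p ∈ Cfsg.pCore p M :=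
        ih (x ^ p) (pow_mem hxA p) (by rw [← pow_mul, ← pow_succ']; exact hx)
      by_contra hxQ
      apply hxQ
      apply reduction hM hO h x hxp
      intro v hv
      obtain ⟨i, hi⟩ : ∃ i : ℤ, (g : M) ^ i = x := by
        obtain ⟨i, hi⟩ := Subgroup.mem_zpowers_iff.mp (hg ⟨x, hxA⟩)
        refine ⟨i, ?_⟩
        have := congrArg Subtype.val hi
        simpa using this
      have hvg : v * g * v⁻¹ ∈ A := (Subgroup.mem_normalizer_iff.mp (hQA hv) g).mp g.2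
      obtain ⟨m, hm⟩ : ∃ m : ℤ, (g : M) ^ m = v * g * v⁻¹ := by
        obtain ⟨m, hm⟩ := Subgroup.mem_zpowers_iff.mp (hg ⟨_, hvg⟩)
        refine ⟨m, ?_⟩
        have := congrArg Subtype.val hm
        simpa using this
      have hvx : v * x * v⁻¹ = x ^ m := by
        rw [← hi, ← conj_zpow, ← hm, ← zpow_mul, ← zpow_mul, mul_comm m i]
      have e : x * v * x⁻¹ * v⁻¹ = x ^ (1 - m) := by
        have h1 : x * v * x⁻¹ * v⁻¹ = x * (v * x * v⁻¹)⁻¹ := by group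
        rw [h1, hvx, zpow_sub, zpow_one]
      have hmem : x ^ (1 - m) ∈ Cfsg.pCore p M := by
        rw [← e]
        exact mul_mem ((Cfsg.H5.pCore_normal p M).conj_mem v hv x) (inv_mem hv)
      rw [e]
      by_cases hdvd : (p : ℤ) ∣ 1 - m
      · obtain ⟨j, hj⟩ := hdvd
        rw [hj, zpow_mul, zpow_natCast]
        exact Subgroup.zpow_mem_zpowers _ j
      · exfalso
        have hcop : IsCoprime (p : ℤ) (1 - m) :=
          ((Nat.prime_iff_prime_int.mp hp.out).irreducible.coprime_iff_not_dvd).mpr hdvd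
        obtain ⟨s, t, hst⟩ := hcop
        apply hxQ
        have e2 : x = (x ^ p) ^ s * (x ^ (1 - m)) ^ t := by
          rw [← zpow_natCast x p, ← zpow_mul, ← zpow_mul, ← zpow_add, mul_comm (p : ℤ) s,
            mul_comm (1 - m) t, hst, zpow_one]
        rw [e2]
        exact mul_mem (zpow_mem hxp s) (zpow_mem hmem t)
  intro x hxA
  obtain ⟨n, hn⟩ := hAp ⟨x, hxA⟩
  refine key n x hxA ?_
  have := congrArg Subtype.val hn
  simpa using this

/-- Let G be a finite p-soluble group, P a Sylow p-subgroup of G and A a cyclic normal subgroup of P. If p is odd, or if no section of G is isomorphic to the symmetric group of degree 4, then A ≤ O_{p',p}(G). -/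
theorem result {G : Type*} [Group G] [Finite G] {p : ℕ} [Fact p.Prime] (hG : Cfsg.IsPSolvable p G) (P : Sylow p G) (A : Subgroup G) (hAP : A ≤ (P : Subgroup G)) (hAn : (P : Subgroup G) ≤ Subgroup.normalizer (A : Set G)) (hA : IsCyclic A) (h : p ≠ 2 ∨ ¬ Cfsg.Involves (Equiv.Perm (Fin 4)) G) : A ≤ Cfsg.pPrimePCore p G := by
  classical
  obtain ⟨π, hπ⟩ : ∃ π : G →* G ⧸ Cfsg.pPrimeCore p G,
    π = QuotientGroup.mk' (Cfsg.pPrimeCore p G) := ⟨_, rfl⟩
  have hπs : Function.Surjective π := by rw [hπ]; exact QuotientGroup.mk'_surjective _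
  have hMsol : Cfsg.IsPSolvable p (G ⧸ Cfsg.pPrimeCore p G) :=
    Cfsg.H5.isPSolvable_quotient _ hG
  have hMO : Cfsg.pPrimeCore p (G ⧸ Cfsg.pPrimeCore p G) = ⊥ :=
    Cfsg.Agent.Lib.Helper10.pPrimeCore_quotient_eq_bot p
  have hM4 : p ≠ 2 ∨ ¬ Cfsg.Involves (Equiv.Perm (Fin 4)) (G ⧸ Cfsg.pPrimeCore p G) := by
    rcases h with h | h
    · exact Or.inl h
    · right
      intro h4
      exact h (Cfsg.Agent.Lib.Helper27.involves_trans h4
        (Cfsg.Agent.Lib.Helper27.involves_of_surjective π hπs))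
  have hAbar : A.map π ≤ Cfsg.pCore p (G ⧸ Cfsg.pPrimeCore p G) := by
    apply cyclic_le_pCore hMsol hMO hM4 (A.map π)
    · have := hA
      exact isCyclic_of_surjective (π.subgroupMap A) (π.subgroupMap_surjective A)
    · exact (P.2.to_le hAP).map π
    · calc Cfsg.pCore p (G ⧸ Cfsg.pPrimeCore p G)
          ≤ ((P.mapSurjective hπs : Sylow p (G ⧸ Cfsg.pPrimeCore p G)) :
              Subgroup (G ⧸ Cfsg.pPrimeCore p G)) :=
            Cfsg.Agent.Lib.Helper1.pCore_le_sylow _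
        _ = (P : Subgroup G).map π := Sylow.coe_mapSurjective hπs P
        _ ≤ (Subgroup.normalizer (A : Set G)).map π := Subgroup.map_mono hAn
        _ ≤ Subgroup.normalizer ((A.map π : Subgroup (G ⧸ Cfsg.pPrimeCore p G)) :
              Set (G ⧸ Cfsg.pPrimeCore p G)) := Subgroup.le_normalizer_map π
  intro x hx
  have h1 : π x ∈ Cfsg.pCore p (G ⧸ Cfsg.pPrimeCore p G) := hAbar (Subgroup.mem_map_of_mem π hx)
  rw [hπ] at h1
  exact h1

end Cfsg.Agent.S3788
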