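import Cfsg.Statements.S3790
import Cfsg.Agent.Lib.Helper20.PLen

set_option autoImplicit false
open Cfsg
open Cfsg.Agent.Lib.Helper20.PLen

namespace Cfsg.Agent.S3790

universe u

theorem main (p : ℕ) [Fact p.Prime] : ∀ (r : ℕ) (G : Type u) [Group G] [Finite G]
    (q : Fin r → ℕ) (l : Fin r → ℕ), (∀ i, (q i).Prime ∧ q i ≠ p) →
    (∀ s : ℕ, s.Prime → s ∣ Nat.card G → s ≠ p → ∃ i, q i = s) →
    (∀ i, PLengthLE (q i) (l i) G) → PLengthLE p (Finset.univ.prod fun i => 1 + l i) G := by
  intro r
  induction r with
  | zero =>
    intro G _ _ q l _ hcover _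
    rw [Finset.univ_eq_empty, Finset.prod_empty]
    apply pLengthLE_one_of_isPGroup
    have hcard : Nat.card G = p ^ (Nat.card G).primeFactorsList.length := by
      apply Nat.eq_prime_pow_of_unique_prime_dvd Nat.card_pos.ne'
      intro d hd hdvd
      by_contra hne
      obtain ⟨i, _⟩ := hcover d hd hdvd hne
      exact i.elim0
    exact IsPGroup.of_card hcard
  | succ r ih =>
    intro G _ _ q l hq hcover hl
    set Q := q (Fin.last r) with hQ
    set L := l (Fin.last r) with hL
    haveI : Fact Q.Prime := ⟨(hq (Fin.last r)).1⟩
    have hQp : Q ≠ p := (hq (Fin.last r)).2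
    set m := Finset.univ.prod (fun i : Fin r => 1 + l (Fin.castSucc i)) with hm
    have key : ∀ j : ℕ, PLengthLE p (m * ((j + 1) / 2)) ↥(U Q G j) := by
      intro j
      induction j with
      | zero =>
        rw [U_zero]
        apply pLengthLE_mono (Nat.zero_le _)
        rw [pLengthLE_zero_iff]
        simp
      | succ j ihj =>
        have hle : U Q G j ≤ U Q G (j + 1) := U_le_succ Q j
        haveI hNn : ((U Q G j).subgroupOf (U Q G (j + 1))).Normal :=
          Subgroup.Normal.subgroupOf inferInstance _
        have hN : PLengthLE p (m * ((j + 1) / 2)) ↥((U Q G j).subgroupOf (U Q G (j + 1))) :=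
          pLengthLE_of_mulEquiv (Subgroup.subgroupOfEquivOfLe hle).symm ihj
        have hcardX : Nat.card (↥(U Q G (j + 1)) ⧸ (U Q G j).subgroupOf (U Q G (j + 1))) =
            (U Q G j).relIndex (U Q G (j + 1)) := rfl
        by_cases hj : Even j
        · -- a Q'-factor: use the outer induction hypothesis
          have hcop : (Nat.card (↥(U Q G (j + 1)) ⧸ (U Q G j).subgroupOf (U Q G (j + 1)))).Coprime Q := by
            rw [hcardX]; exact relIndex_U_even j hj
          have hX : PLengthLE p m (↥(U Q G (j + 1)) ⧸ (U Q G j).subgroupOf (U Q G (j + 1))) := by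
            apply ih _ (fun i => q (Fin.castSucc i)) (fun i => l (Fin.castSucc i))
            · intro i; exact hq _
            · intro s hs hsd hsp
              have hsG : s ∣ Nat.card G := by
                rw [hcardX] at hsd
                exact hsd.trans ((Subgroup.relIndex_dvd_card _ _).trans (Subgroup.card_subgroup_dvd_card _))
              obtain ⟨i, hi⟩ := hcover s hs hsG hsp
              rcases Fin.eq_castSucc_or_eq_last i with ⟨i', rfl⟩ | rfl
              · exact ⟨i', hi⟩
              · exfalso
                have hsQ : s = Q := hi.symm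
                rw [hsQ] at hsd
                have := Nat.Coprime.eq_one_of_dvd hcop.symm hsd
                exact (Fact.out : Q.Prime).one_lt.ne' this
            · intro i
              haveI : Fact (q (Fin.castSucc i)).Prime := ⟨(hq _).1⟩
              exact pLengthLE_quotient _ (pLengthLE_subgroup _ (hl _))
          have h2 := pLengthLE_of_extension _ hN hX
          have e : m * ((j + 1 + 1) / 2) = m * ((j + 1) / 2) + m := by
            obtain ⟨t, rfl⟩ := hj
            have h1 : (t + t + 1 + 1) / 2 = t + 1 := by omega
            have h3 : (t + t + 1) / 2 = t := by omega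
            rw [h1, h3]; ring
          rw [e]; exact h2
        · -- a Q-factor: a p'-group
          have hX : PLengthLE p 0 (↥(U Q G (j + 1)) ⧸ (U Q G j).subgroupOf (U Q G (j + 1))) := by
            rw [pLengthLE_zero_iff, hcardX]
            obtain ⟨t, ht⟩ := relIndex_U_odd (G := G) (p := Q) j hj
            rw [ht]
            exact Nat.Coprime.pow_left t
              ((Nat.coprime_primes (Fact.out : Q.Prime) (Fact.out : p.Prime)).mpr hQp)
          have h2 := pLengthLE_of_extension _ hN hX
          have e : m * ((j + 1 + 1) / 2) = m * ((j + 1) / 2) + 0 := by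
            obtain ⟨t, rfl⟩ := Nat.not_even_iff_odd.mp hj
            have h1 : (2 * t + 1 + 1 + 1) / 2 = t + 1 := by omega
            have h3 : (2 * t + 1 + 1) / 2 = t + 1 := by omega
            rw [h1, h3]; ring
          rw [e]; exact h2
    have htop : U Q G (2 * L + 1) = ⊤ := (pLengthLE_iff Q L).mp (hl (Fin.last r))
    have h1 := key (2 * L + 1)
    rw [htop] at h1
    have h2 : PLengthLE p (m * ((2 * L + 1 + 1) / 2)) G :=
      pLengthLE_of_mulEquiv Subgroup.topEquiv h1
    have e : Finset.univ.prod (fun i : Fin (r + 1) => 1 + l i) = m * ((2 * L + 1 + 1) / 2) := by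
      rw [Fin.prod_univ_castSucc]
      have : (2 * L + 1 + 1) / 2 = 1 + L := by omega
      rw [this]
    rw [e]; exact h2

/-- Let G be a finite solvable group and p a prime. Suppose p₁, …, p_r are distinct primes, all different from p, that include every prime dividing the order of G other than p, and that G has p_i-length at most l_i for each i. Then G has p-length at most the product of the numbers 1 + l_i. -/
theorem result {G : Type*} [Group G] [Finite G] (hG : Group.IsSolvable G) (p : ℕ) [Fact p.Prime] (r : ℕ) (q : Fin r → ℕ) (hq : ∀ i, (q i).Prime ∧ q i ≠ p) (hinj : Function.Injective q) (hcover : ∀ s : ℕ, s.Prime → s ∣ Nat.card G → s ≠ p → ∃ i, q i = s) (l : Fin r → ℕ) (hl : ∀ i, Cfsg.PLengthLE (q i) (l i) G) : Cfsg.PLengthLE p (Finset.univ.prod fun i => 1 + l i) G := by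
  exact main p r G q l hq hcover hl

end Cfsg.Agent.S3790
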