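import Cfsg.Statements.S3791
import Cfsg.Agent.Lib.Helper20.PLen
import Cfsg.Agent.Lib.Helper1.Fitting

set_option autoImplicit false
open Cfsg
open Cfsg.Agent.Lib.Helper20.PLen

namespace Cfsg.Agent.S3791

universe u

section derived

variable {H K : Type*} [Group H] [Group K]

theorem ds_eq_bot_of_injective (f : H →* K) (hf : Function.Injective f) {n : ℕ}
    (h : derivedSeries K n = ⊥) : derivedSeries H n = ⊥ := by
  have h1 : (derivedSeries H n).map f ≤ derivedSeries K n := map_derivedSeries_le_derivedSeries f n
  rw [h, le_bot_iff] at h1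
  exact (Subgroup.map_eq_bot_iff_of_injective _ hf).mp h1

theorem ds_eq_bot_of_surjective (f : H →* K) (hf : Function.Surjective f) {n : ℕ}
    (h : derivedSeries H n = ⊥) : derivedSeries K n = ⊥ := by
  rw [← map_derivedSeries_eq hf n, h, Subgroup.map_bot]

theorem ds_eq_bot_of_le {n m : ℕ} (hnm : n ≤ m) (h : derivedSeries H n = ⊥) :
    derivedSeries H m = ⊥ :=
  le_bot_iff.mp (h ▸ derivedSeries_antitone H hnm)

theorem ds_le_of_quotient (N : Subgroup H) [N.Normal] {b : ℕ}
    (h : derivedSeries (H ⧸ N) b = ⊥) : derivedSeries H b ≤ N := by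
  have h1 : (derivedSeries H b).map (QuotientGroup.mk' N) = ⊥ := by
    rw [map_derivedSeries_eq (QuotientGroup.mk'_surjective N), h]
  rw [Subgroup.map_eq_bot_iff, QuotientGroup.ker_mk'] at h1
  exact h1

theorem ds_extension (N : Subgroup H) [N.Normal] {a b : ℕ} (ha : derivedSeries ↥N a = ⊥)
    (hb : derivedSeries (H ⧸ N) b = ⊥) : derivedSeries H (b + a) = ⊥ := by
  have key : ∀ a, derivedSeries H (b + a) ≤ (derivedSeries ↥N a).map N.subtype := by
    intro a
    induction a with
    | zero =>
      rw [derivedSeries_zero, ← MonoidHom.range_eq_map, Subgroup.range_subtype]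
      exact ds_le_of_quotient N hb
    | succ a ih =>
      rw [← add_assoc, derivedSeries_succ, derivedSeries_succ, Subgroup.map_commutator]
      exact Subgroup.commutator_mono ih ih
  have := key a
  rw [ha, Subgroup.map_bot] at this
  exact le_bot_iff.mp this

end derived

theorem main (r : ℕ) (q : Fin r → ℕ) (hq : ∀ i, (q i).Prime) (d : Fin r → ℕ) :
    ∀ (n : ℕ) (G : Type u) [Group G] [Finite G], Nat.card G = n → Group.IsSolvable G →
    (∀ s : ℕ, s.Prime → s ∣ Nat.card G → ∃ i, q i = s) →
    (∀ i, ∀ P : Subgroup G, IsPGroup (q i) P → derivedSeries ↥P (d i) = ⊥) →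
    ∀ l : Fin r → ℕ, (∀ i, PLengthLE (q i) (l i) G) →
      derivedSeries G (Finset.univ.sum fun i => d i * l i) = ⊥ := by
  intro n
  induction n using Nat.strong_induction_on with
  | _ n ih =>
    intro G _ _ hcard hsol hcover hd l hl
    haveI := hsol
    have hquot : ∀ (N : Subgroup G) [N.Normal], N ≠ ⊥ → ∀ l' : Fin r → ℕ,
        (∀ i, PLengthLE (q i) (l' i) (G ⧸ N)) →
        derivedSeries (G ⧸ N) (Finset.univ.sum fun i => d i * l' i) = ⊥ := by
      intro N _ hN l' hl'
      apply ih (Nat.card (G ⧸ N))
        (by rw [← hcard]; exact Cfsg.Agent.Lib.Helper1.card_quotient_lt_of_ne_bot hN) (G ⧸ N) rfl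
      · infer_instance
      · intro s hs hsd
        apply hcover s hs
        rw [← Subgroup.index_eq_card] at hsd
        exact hsd.trans (Subgroup.index_dvd_card N)
      · intro i P hP
        haveI : Fact (q i).Prime := ⟨hq i⟩
        obtain ⟨Sb, hPS⟩ := hP.exists_le_sylow
        obtain ⟨S, rfl⟩ := Sylow.mapSurjective_surjective (QuotientGroup.mk'_surjective N) (q i) Sb
        have h1 : derivedSeries ↥(S : Subgroup G) (d i) = ⊥ := hd i S S.2
        have h2 : derivedSeries ↥((S : Subgroup G).map (QuotientGroup.mk' N)) (d i) = ⊥ :=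
          ds_eq_bot_of_surjective ((QuotientGroup.mk' N).subgroupMap S)
            ((QuotientGroup.mk' N).subgroupMap_surjective S) h1
        rw [Sylow.coe_mapSurjective] at hPS
        exact ds_eq_bot_of_injective (Subgroup.inclusion hPS) (Subgroup.inclusion_injective hPS) h2
      · exact hl'
    by_cases hex : ∃ N₁ N₂ : Subgroup G, N₁.Normal ∧ N₂.Normal ∧ N₁ ≠ ⊥ ∧ N₂ ≠ ⊥ ∧ N₁ ⊓ N₂ = ⊥
    · obtain ⟨N₁, N₂, hn1, hn2, h1, h2, hinf⟩ := hex
      haveI := hn1
      haveI := hn2
      have e1 := ds_le_of_quotient N₁ (hquot N₁ h1 l (fun i => by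
        haveI : Fact (q i).Prime := ⟨hq i⟩
        exact pLengthLE_quotient N₁ (hl i)))
      have e2 := ds_le_of_quotient N₂ (hquot N₂ h2 l (fun i => by
        haveI : Fact (q i).Prime := ⟨hq i⟩
        exact pLengthLE_quotient N₂ (hl i)))
      exact le_bot_iff.mp (hinf ▸ le_inf e1 e2)
    · by_cases htriv : Subsingleton G
      · exact Subgroup.eq_bot_of_subsingleton _
      · rw [not_subsingleton_iff_nontrivial] at htriv
        have hF : fittingSubgroup G ≠ ⊥ := by
          intro h
          have h1 := Cfsg.Agent.Lib.Helper1.centralizer_fittingSubgroup_le (G := G)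
          rw [h] at h1
          obtain ⟨x, hx⟩ := exists_ne (1 : G)
          apply hx
          have : x ∈ Subgroup.centralizer ((⊥ : Subgroup G) : Set G) := by
            rw [Subgroup.mem_centralizer_iff]
            intro y hy
            have : y = 1 := by simpa using hy
            rw [this, one_mul, mul_one]
          simpa using h1 this
        obtain ⟨p, hp⟩ : ∃ p : Nat.Primes, pCore (p : ℕ) G ≠ ⊥ := by
          by_contra hcon
          push Not at hcon
          apply hF
          rw [Cfsg.Agent.Lib.Helper1.fittingSubgroup_eq_iSup_primes]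
          simp [hcon]
        haveI : Fact (p : ℕ).Prime := ⟨p.2⟩
        have hOp : IsPGroup (p : ℕ) (pCore (p : ℕ) G) := Cfsg.Agent.Lib.Helper1.pCore_isPGroup _
        have hOn : (pCore (p : ℕ) G).Normal := Cfsg.Agent.Lib.Helper1.pCore_normal _
        have hpG : (p : ℕ) ∣ Nat.card G := by
          rcases hOp.card_eq_or_dvd with h | h
          · exact absurd (Subgroup.card_eq_one.mp h) hp
          · exact h.trans (Subgroup.card_subgroup_dvd_card _)
        obtain ⟨j, hj⟩ := hcover p p.2 hpG
        have hU1 : U (p : ℕ) G 1 = ⊥ := by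
          by_contra hne
          apply hex
          refine ⟨U (p : ℕ) G 1, pCore (p : ℕ) G, inferInstance, hOn, hne, hp, ?_⟩
          apply Disjoint.eq_bot
          apply Subgroup.disjoint_of_coprime_natCard
          obtain ⟨k, hk⟩ := (IsPGroup.iff_card).mp hOp
          rw [hk]
          exact Nat.Coprime.pow_right k card_U_one_coprime
        have hT : IsPGroup (p : ℕ) (U (p : ℕ) G 2) := U_two_isPGroup hU1
        have hTne : U (p : ℕ) G 2 ≠ ⊥ := by
          have hle : pCore (p : ℕ) G ≤ U (p : ℕ) G 2 := by
            apply le_U_succ_odd 1 (by decide) hOn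
            rw [hU1, Subgroup.relIndex_bot_left]
            exact (IsPGroup.iff_card).mp hOp
          intro h
          rw [h] at hle
          exact hp (le_bot_iff.mp hle)
        have hlp : PLengthLE (p : ℕ) (l j) G := by
          have := hl j
          rwa [hj] at this
        have hlj : 1 ≤ l j := by
          by_contra hlt
          have h0 : l j = 0 := by omega
          rw [h0, pLengthLE_zero_iff] at hlp
          exact ((Nat.Prime.coprime_iff_not_dvd p.2).mp hlp.symm) hpG
        have hshift : PLengthLE (p : ℕ) (l j - 1) (G ⧸ U (p : ℕ) G 2) := by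
          apply pLengthLE_quotient_U_two
          rw [Nat.sub_add_cancel hlj]
          exact hlp
        have hquotT := hquot (U (p : ℕ) G 2) hTne (Function.update l j (l j - 1)) (by
          intro i
          by_cases hi : i = j
          · subst hi
            rw [Function.update_self, hj]
            exact hshift
          · rw [Function.update_of_ne hi]
            haveI : Fact (q i).Prime := ⟨hq i⟩
            exact pLengthLE_quotient _ (hl i))
        have hdT : derivedSeries ↥(U (p : ℕ) G 2) (d j) = ⊥ := hd j _ (hj ▸ hT)
        have hext := ds_extension (U (p : ℕ) G 2) hdT hquotT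
        have hsum : (Finset.univ.sum fun i => d i * Function.update l j (l j - 1) i) + d j =
            Finset.univ.sum fun i => d i * l i := by
          have h1 : ∀ i, d i * l i = d i * Function.update l j (l j - 1) i +
              (if i = j then d j else 0) := by
            intro i
            by_cases hi : i = j
            · subst hi
              rw [Function.update_self, if_pos rfl]
              have : l i = (l i - 1) + 1 := by omega
              conv_lhs => rw [this]
              ring
            · rw [Function.update_of_ne hi, if_neg hi, add_zero]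
          rw [Finset.sum_congr rfl (fun i _ => h1 i), Finset.sum_add_distrib,
            Finset.sum_ite_eq' Finset.univ j (fun _ => d j)]
          simp
        rw [← hsum]
        exact hext

/-- The Hall–Higman bound on derived length: let G be a finite solvable group, let p₁, …, p_r be distinct primes that include every prime dividing the order of G, and suppose that for each i the Sylow p_i-subgroups of G have derived length at most d_i and G has p_i-length at most l_i. Then G has derived length at most Σ d_i l_i. -/
theorem result {G : Type*} [Group G] [Finite G] (hG : Group.IsSolvable G) (r : ℕ) (q : Fin r → ℕ) (hq : ∀ i, (q i).Prime) (hinj : Function.Injective q) (hcover : ∀ s : ℕ, s.Prime → s ∣ Nat.card G → ∃ i, q i = s) (d l : Fin r → ℕ) (hd : ∀ i, ∀ P : Subgroup G, (haveI := Fact.mk (hq i); ∃ S : Sylow (q i) G, (S : Subgroup G) = P) → derivedSeries ↥P (d i) = ⊥) (hl : ∀ i, Cfsg.PLengthLE (q i) (l i) G) : derivedSeries G (Finset.univ.sum fun i => d i * l i) = ⊥ := by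
  apply main r q hq d (Nat.card G) G rfl hG hcover _ l hl
  intro i P hP
  haveI : Fact (q i).Prime := ⟨hq i⟩
  obtain ⟨S, hPS⟩ := hP.exists_le_sylow
  have h1 : derivedSeries ↥(S : Subgroup G) (d i) = ⊥ := hd i S ⟨S, rfl⟩
  exact ds_eq_bot_of_injective (Subgroup.inclusion hPS) (Subgroup.inclusion_injective hPS) h1

end Cfsg.Agent.S3791
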