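import Cfsg.Statements.S3793
import Cfsg.Agent.Lib.Helper23.GrossMain

set_option autoImplicit false
open Cfsg

namespace Cfsg.Agent.S3793

/-- The Shult–Gross Theorem: let p be an odd prime and G a finite solvable group with an automorphism σ of order p^n fixing only the identity. Then G has Fitting height at most n: G has Fitting height at most m when there is a chain of normal subgroups 1 = F₀ ≤ F₁ ≤ ⋯ ≤ F_m = G with each F_{i+1}/F_i nilpotent. -/
theorem result {G : Type*} [Group G] [Finite G] (hG : Group.IsSolvable G) {p : ℕ} (hp : p.Prime) (hp2 : p ≠ 2) (σ : MulAut G) (n : ℕ) (hσ : orderOf σ = p ^ n) (hfpf : ∀ g : G, σ g = g → g = 1) : ∃ F : Fin (n + 1) → Subgroup G, F 0 = ⊥ ∧ F (Fin.last n) = ⊤ ∧ Monotone F ∧ (∀ i, (F i).Normal) ∧ ∀ i : Fin n, ∃ k : ℕ, (F i.succ).lowerCentralSeries k ≤ F i.castSucc := by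
  classical
  haveI : Fact p.Prime := ⟨hp⟩
  have hσpow : σ ^ (p ^ n) = 1 := by rw [← hσ]; exact pow_orderOf_eq_one σ
  -- the cyclic group generated by `σ`
  let A : Subgroup (MulAut G) := Subgroup.zpowers σ
  have hAcard : Nat.card A = p ^ n := by rw [Nat.card_zpowers, hσ]
  have hAp : IsPGroup p A := IsPGroup.of_card hAcard
  -- `p ∤ |G|`
  have hpG : ¬ p ∣ Nat.card G := by
    intro hdvd
    have h1 : (1 : G) ∈ MulAction.fixedPoints A G := by
      intro a
      show (a : MulAut G) (1 : G) = 1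
      exact map_one _
    obtain ⟨b, hb, hb1⟩ := hAp.exists_fixed_point_of_prime_dvd_card_of_fixed_point G hdvd h1
    apply hb1
    symm
    apply hfpf
    exact hb ⟨σ, Subgroup.mem_zpowers σ⟩
  -- the semidirect product
  let X := G ⋊[A.subtype] A
  haveI : Finite X := Finite.of_equiv _ SemidirectProduct.equivProd.symm
  let inl' : G →* X := SemidirectProduct.inl
  let inr' : A →* X := SemidirectProduct.inr
  have hinl : Function.Injective inl' := SemidirectProduct.inl_injective
  set N : Subgroup X := inl'.range with hN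
  let s : A := ⟨σ, Subgroup.mem_zpowers σ⟩
  set a : X := inr' s with ha
  haveI hNn : N.Normal := by
    rw [hN, SemidirectProduct.range_inl_eq_ker_rightHom]; infer_instance
  have hstop : Subgroup.zpowers s = ⊤ := by
    rw [eq_top_iff]
    rintro ⟨x, hx⟩ _
    obtain ⟨j, hj⟩ := Subgroup.mem_zpowers_iff.mp hx
    rw [Subgroup.mem_zpowers_iff]
    refine ⟨j, ?_⟩
    apply Subtype.ext
    rw [Subgroup.coe_zpow]
    exact hj
  have hNa : N ⊔ Subgroup.zpowers a = ⊤ := by
    rw [eq_top_iff]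
    intro x _
    rw [← SemidirectProduct.inl_left_mul_inr_right x]
    refine mul_mem (Subgroup.mem_sup_left ⟨_, rfl⟩) (Subgroup.mem_sup_right ?_)
    rw [ha, ← MonoidHom.map_zpowers, hstop]
    exact ⟨_, Subgroup.mem_top _, rfl⟩
  have hNsolv : Group.IsSolvable N :=
    haveI := hG
    Group.isSolvable_of_surjective (f := inl'.rangeRestrict) inl'.rangeRestrict_surjective
  have hapow : a ^ (p ^ n) = 1 := by
    rw [ha, ← map_pow]
    have : s ^ (p ^ n) = 1 := by
      apply Subtype.ext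
      rw [Subgroup.coe_pow]
      exact hσpow
    rw [this, map_one]
  have hNcard : Nat.card N = Nat.card G :=
    Nat.card_congr (MonoidHom.ofInjective hinl).toEquiv.symm
  have hpN : ¬ p ∣ Nat.card N := by rw [hNcard]; exact hpG
  have hfix : ∀ g ∈ N, a * g * a⁻¹ = g → g = 1 := by
    rintro _ ⟨g, rfl⟩ h
    have h2 := SemidirectProduct.inl_aut (φ := A.subtype) s g
    have h4 : (SemidirectProduct.inl ((A.subtype s) g) : X) = inl' g := by
      rw [h2, map_inv]; exact h
    have h5 : σ g = g := hinl h4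
    rw [hfpf g h5, map_one]
  obtain ⟨ks, hks, hksbot⟩ := Cfsg.Agent.Lib.Helper23.Gross.gross_aux p hp hp2 (Nat.card X) X N a n
    rfl hNa hNsolv (fun g _ => by rw [hapow, one_mul, mul_one]) hpN hfix
  have hks' : Cfsg.Agent.Lib.Helper23.Gross.nest ks (⊤ : Subgroup G) = ⊥ := by
    have h1 : N = (⊤ : Subgroup G).map inl' := by rw [hN, MonoidHom.range_eq_map]
    rw [h1, ← Cfsg.Agent.Lib.Helper23.Gross.nest_map,
      Subgroup.map_eq_bot_iff_of_injective _ hinl] at hksbot
    exact hksbot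
  -- the chain
  have hstep : ∀ i : ℕ, (hi : i < n) →
      Cfsg.Agent.Lib.Helper23.Gross.nest (ks.drop i) (⊤ : Subgroup G) =
      (Cfsg.Agent.Lib.Helper23.Gross.nest (ks.drop (i + 1)) (⊤ : Subgroup G)).lowerCentralSeries
        (ks[i]'(hks ▸ hi)) := by
    intro i hi
    rw [List.drop_eq_getElem_cons (hks ▸ hi)]
    rfl
  refine ⟨fun i => Cfsg.Agent.Lib.Helper23.Gross.nest (ks.drop i.val) (⊤ : Subgroup G), ?_, ?_, ?_,
    ?_, ?_⟩
  · show Cfsg.Agent.Lib.Helper23.Gross.nest (ks.drop 0) (⊤ : Subgroup G) = ⊥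
    rw [List.drop_zero, hks']
  · show Cfsg.Agent.Lib.Helper23.Gross.nest (ks.drop n) (⊤ : Subgroup G) = ⊤
    rw [← hks, List.drop_length]
    rfl
  · rw [Fin.monotone_iff_le_succ]
    intro i
    show Cfsg.Agent.Lib.Helper23.Gross.nest (ks.drop i.val) (⊤ : Subgroup G) ≤
      Cfsg.Agent.Lib.Helper23.Gross.nest (ks.drop (i.val + 1)) (⊤ : Subgroup G)
    rw [hstep i.val i.2]
    exact Subgroup.lowerCentralSeries_le_self _ _
  · intro i
    exact Cfsg.Agent.Lib.Helper23.Gross.nest_normal _ _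
  · intro i
    refine ⟨ks[i.val]'(hks ▸ i.2), ?_⟩
    show (Cfsg.Agent.Lib.Helper23.Gross.nest (ks.drop (i.val + 1)) (⊤ : Subgroup G)).lowerCentralSeries
      _ ≤ Cfsg.Agent.Lib.Helper23.Gross.nest (ks.drop i.val) (⊤ : Subgroup G)
    rw [hstep i.val i.2]

end Cfsg.Agent.S3793
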