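import Cfsg.Statements.S3796
import Cfsg.Agent.Lib.Helper23.WardMain

set_option autoImplicit false
open Cfsg

namespace Cfsg.Agent.S3796

/-- Ward's Theorem: let G be a finite solvable group and A an elementary abelian group of automorphisms of G of order p² (p a prime) with no non-identity common fixed point. Then G has Fitting height at most 2: G has Fitting height at most m when there is a chain of normal subgroups 1 = F₀ ≤ F₁ ≤ ⋯ ≤ F_m = G with each F_{i+1}/F_i nilpotent. -/
theorem result {G : Type*} [Group G] [Finite G] (hG : Group.IsSolvable G) {p : ℕ} (hp : p.Prime) (A : Subgroup (MulAut G)) (hA : Cfsg.IsElementaryAbelian p A) (hcard : Nat.card A = p ^ 2) (hfpf : ∀ g : G, (∀ a ∈ A, a g = g) → g = 1) : ∃ F : Fin (2 + 1) → Subgroup G, F 0 = ⊥ ∧ F (Fin.last 2) = ⊤ ∧ Monotone F ∧ (∀ i, (F i).Normal) ∧ ∀ i : Fin 2, ∃ k : ℕ, (F i.succ).lowerCentralSeries k ≤ F i.castSucc := by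
  classical
  obtain ⟨hAcomm, hAexp⟩ := hA
  haveI : Fact p.Prime := ⟨hp⟩
  -- `p ∤ |G|`
  have hpG : ¬ p ∣ Nat.card G := by
    intro hdvd
    have hAp : IsPGroup p A := by
      intro a
      refine ⟨1, ?_⟩
      apply Subtype.ext
      rw [pow_one]
      simpa using hAexp a a.2
    have h1 : (1 : G) ∈ MulAction.fixedPoints A G := by
      intro a
      show (a : MulAut G) (1 : G) = 1
      exact map_one _
    obtain ⟨b, hb, hb1⟩ := hAp.exists_fixed_point_of_prime_dvd_card_of_fixed_point G hdvd h1
    apply hb1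
    symm
    apply hfpf
    intro a ha
    exact hb ⟨a, ha⟩
  -- the semidirect product
  let X := G ⋊[A.subtype] A
  haveI : Finite X := Finite.of_equiv _ SemidirectProduct.equivProd.symm
  let inl' : G →* X := SemidirectProduct.inl
  let inr' : A →* X := SemidirectProduct.inr
  have hinl : Function.Injective inl' := SemidirectProduct.inl_injective
  have hinr : Function.Injective inr' := SemidirectProduct.inr_injective
  set N : Subgroup X := inl'.range with hN
  set B : Subgroup X := inr'.range with hB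
  haveI hNn : N.Normal := by
    rw [hN, SemidirectProduct.range_inl_eq_ker_rightHom]; infer_instance
  have hNB : N ⊔ B = ⊤ := by
    rw [eq_top_iff]
    intro x _
    rw [← SemidirectProduct.inl_left_mul_inr_right x]
    exact mul_mem (Subgroup.mem_sup_left ⟨_, rfl⟩) (Subgroup.mem_sup_right ⟨_, rfl⟩)
  have hNsolv : Group.IsSolvable N :=
    Group.isSolvable_of_surjective (f := inl'.rangeRestrict) inl'.rangeRestrict_surjective
  have hBc : ∀ x ∈ B, ∀ y ∈ B, x * y = y * x := by
    rintro _ ⟨a, rfl⟩ _ ⟨b, rfl⟩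
    rw [← map_mul, ← map_mul, hAcomm.is_comm.comm a b]
  have hBe : ∀ x ∈ B, x ^ p = 1 := by
    rintro _ ⟨a, rfl⟩
    rw [← map_pow]
    have : a ^ p = 1 := by
      apply Subtype.ext
      simpa using hAexp a a.2
    rw [this, map_one]
  have hBcard : Nat.card B = p ^ 2 := by
    rw [← hcard]
    exact Nat.card_congr (MonoidHom.ofInjective hinr).toEquiv.symm
  have hNcard : Nat.card N = Nat.card G :=
    Nat.card_congr (MonoidHom.ofInjective hinl).toEquiv.symm
  have hpN : ¬ p ∣ Nat.card N := by rw [hNcard]; exact hpG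
  have hfix : N ⊓ Subgroup.centralizer (B : Set X) = ⊥ := by
    rw [eq_bot_iff]
    rintro x hx
    obtain ⟨⟨g, rfl⟩, hxC⟩ := Subgroup.mem_inf.mp hx
    rw [Subgroup.mem_bot]
    have hg : g = 1 := by
      apply hfpf
      intro a ha
      have h1 : inr' ⟨a, ha⟩ * inl' g = inl' g * inr' ⟨a, ha⟩ :=
        Subgroup.mem_centralizer_iff.mp hxC _ ⟨⟨a, ha⟩, rfl⟩
      have h2 := SemidirectProduct.inl_aut (φ := A.subtype) (⟨a, ha⟩ : A) g
      have h3 : inr' ⟨a, ha⟩ * inl' g * inr' (⟨a, ha⟩ : A)⁻¹ = inl' g := by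
        rw [h1, map_inv]; group
      have h4 : (SemidirectProduct.inl ((A.subtype ⟨a, ha⟩) g) : X) = inl' g := by
        rw [h2]; exact h3
      exact hinl h4
    rw [hg, map_one]
  obtain ⟨k, m, hkm⟩ := Cfsg.Agent.Lib.Helper23.Ward.ward_aux p hp (Nat.card X) X N B rfl hNB
    hNsolv hBc hBe hBcard hpN hfix
  have hkm' : ((⊤ : Subgroup G).lowerCentralSeries k).lowerCentralSeries m = ⊥ := by
    have h1 : N = (⊤ : Subgroup G).map inl' := by rw [hN, MonoidHom.range_eq_map]
    rw [h1, ← Subgroup.map_lowerCentralSeries, ← Subgroup.map_lowerCentralSeries,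
      Subgroup.map_eq_bot_iff_of_injective _ hinl] at hkm
    exact hkm
  refine ⟨![⊥, (⊤ : Subgroup G).lowerCentralSeries k, ⊤], rfl, rfl, ?_, ?_, ?_⟩
  · rw [Fin.monotone_iff_le_succ]
    intro i
    fin_cases i
    · exact bot_le
    · exact le_top
  · intro i
    fin_cases i
    · show (⊥ : Subgroup G).Normal
      infer_instance
    · show ((⊤ : Subgroup G).lowerCentralSeries k).Normal
      infer_instance
    · show (⊤ : Subgroup G).Normal
      infer_instance
  · intro i
    fin_cases i
    · refine ⟨m, ?_⟩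
      show ((⊤ : Subgroup G).lowerCentralSeries k).lowerCentralSeries m ≤ ⊥
      rw [hkm']
    · refine ⟨k, ?_⟩
      show (⊤ : Subgroup G).lowerCentralSeries k ≤ (⊤ : Subgroup G).lowerCentralSeries k
      exact le_rfl

end Cfsg.Agent.S3796
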