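import Mathlib
import Cfsg.Statements.S3799
import Cfsg.Agent.Lib.Helper19.HeisN

set_option autoImplicit false
open Cfsg

namespace Cfsg.Agent.S3799

open Cfsg.Agent.Lib.Helper19.HeisN

theorem result (p : ℕ) [Fact p.Prime] (hp : p ≠ 2) (n : ℕ) (hn : 1 ≤ n) : ∃ E : Subgroup (Matrix.GeneralLinearGroup (Fin (n + 2)) (ZMod p)), Cfsg.IsExtraspecial p ↥E ∧ Nat.card E = p ^ (1 + 2 * n) ∧ ∀ x ∈ E, x ^ p = 1 := by
  obtain ⟨h1, h2, h3⟩ := (heisCoord (ZMod p) n).isExtraspecial hn p hp (Nat.card_zmod p)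
  refine ⟨heisSub (ZMod p) n, h1, ?_, ?_⟩
  · rw [h2, add_comm]
  · intro x hx
    have := h3 ⟨x, hx⟩
    exact congrArg Subtype.val this

end Cfsg.Agent.S3799
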