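import Cfsg.Statements.S3800
import Mathlib

set_option autoImplicit false
open Cfsg
open scoped Pointwise

namespace Cfsg.Agent.S3800


lemma relIndex_sup_of_coprime {G : Type*} [Group G] [Finite G] {p : ℕ} [Fact p.Prime]
    (N : Subgroup G) [N.Normal] (hN : (Nat.card N).Coprime p) (P : Subgroup G) (hP : IsPGroup p P) :
    P ⊓ N = ⊥ ∧ P.relIndex (P ⊔ N) = Nat.card N := by
  have hcop : (Nat.card P).Coprime (Nat.card N) := by
    obtain ⟨n, hn⟩ := IsPGroup.iff_card.mp hP
    rw [hn]
    exact (Nat.Coprime.pow_left n hN.symm)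
  have hinf : P ⊓ N = ⊥ := (Subgroup.disjoint_of_coprime_natCard hcop).eq_bot
  refine ⟨hinf, ?_⟩
  have h1 : N.relIndex (P ⊔ N) = N.relIndex P := Subgroup.relIndex_sup_right P N
  have h2 : N.relIndex P = Nat.card P := by
    rw [← Subgroup.inf_relIndex_right, inf_comm, hinf, Subgroup.relIndex_bot_left]
  have h3 : N.relIndex (P ⊔ N) * Nat.card N = Nat.card (P ⊔ N : Subgroup G) := by
    rw [mul_comm]
    have := Subgroup.card_mul_index (N.subgroupOf (P ⊔ N))
    rw [Nat.card_congr (Subgroup.subgroupOfEquivOfLe (le_sup_right : N ≤ P ⊔ N)).toEquiv] at this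
    exact this
  have h4 : Nat.card P * P.relIndex (P ⊔ N) = Nat.card (P ⊔ N : Subgroup G) := by
    have := Subgroup.card_mul_index (P.subgroupOf (P ⊔ N))
    rw [Nat.card_congr (Subgroup.subgroupOfEquivOfLe (le_sup_left : P ≤ P ⊔ N)).toEquiv] at this
    exact this
  rw [h1, h2] at h3
  have hPpos : 0 < Nat.card P := Nat.card_pos
  have := h4.trans h3.symm
  exact Nat.eq_of_mul_eq_mul_left hPpos this

lemma exists_conj_of_le_sup {G : Type*} [Group G] [Finite G] {p : ℕ} [Fact p.Prime]
    (N : Subgroup G) [N.Normal] (hN : (Nat.card N).Coprime p) (P Q : Subgroup G) (hP : IsPGroup p P)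
    (hQ : IsPGroup p Q) (hQK : Q ≤ P ⊔ N) (hcard : Nat.card Q = Nat.card P) :
    ∃ k ∈ P ⊔ N, Q = P.map (MulAut.conj k).toMonoidHom := by
  obtain ⟨hinf, hrel⟩ := relIndex_sup_of_coprime N hN P hP
  set K := P ⊔ N with hK
  have hPK : P ≤ K := le_sup_left
  have hPk : IsPGroup p (P.subgroupOf K) := hP.comap_subtype
  have hidx : ¬ p ∣ (P.subgroupOf K).index := by
    change ¬ p ∣ P.relIndex K
    rw [hrel]
    intro hdvd
    have := Nat.Coprime.eq_one_of_dvd hN.symm hdvd
    exact (Fact.out : p.Prime).one_lt.ne' this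
  let SP : Sylow p K := hPk.toSylow hidx
  have hQk : IsPGroup p (Q.subgroupOf K) := hQ.comap_subtype
  obtain ⟨S, hS⟩ := hQk.exists_le_sylow
  obtain ⟨k, hk⟩ := MulAction.exists_smul_eq K SP S
  have hcardS : Nat.card S = Nat.card (P.subgroupOf K) := by
    rw [← hk]
    have : ((k • SP : Sylow p K) : Subgroup K) = MulAut.conj k • (SP : Subgroup K) := rfl
    rw [this]
    exact (Nat.card_congr (Subgroup.equivSMul (MulAut.conj k) (P.subgroupOf K)).toEquiv).symm
  have hQS : Q.subgroupOf K = S := by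
    apply Subgroup.eq_of_le_of_card_ge hS
    rw [hcardS, Nat.card_congr (Subgroup.subgroupOfEquivOfLe hQK).toEquiv,
      Nat.card_congr (Subgroup.subgroupOfEquivOfLe hPK).toEquiv, hcard]
  refine ⟨k, k.2, ?_⟩
  have h1 : Q = (Q.subgroupOf K).map K.subtype := by
    rw [Subgroup.map_subgroupOf_eq_of_le hQK]
  rw [h1, hQS, ← hk]
  have : ((k • SP : Sylow p K) : Subgroup K) = MulAut.conj k • (P.subgroupOf K) := rfl
  rw [this]
  ext y
  simp only [Subgroup.mem_map, Subgroup.mem_pointwise_smul_iff_inv_smul_mem]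
  constructor
  · rintro ⟨z, hz, rfl⟩
    simp only [MulAut.smul_def, MulAut.conj_inv_apply, Subgroup.mem_subgroupOf] at hz
    refine ⟨_, hz, ?_⟩
    simp [MulAut.conj_apply, mul_assoc]
  · rintro ⟨z, hz, rfl⟩
    have hzK : (k : G) * z * (k : G)⁻¹ ∈ K := K.mul_mem (K.mul_mem k.2 (hPK hz)) (K.inv_mem k.2)
    refine ⟨⟨(k : G) * z * (k : G)⁻¹, hzK⟩, ?_, ?_⟩
    · simp only [MulAut.smul_def, MulAut.conj_inv_apply, Subgroup.mem_subgroupOf]
      simpa [mul_assoc] using hz
    · simp [MulAut.conj_apply]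

theorem result {G : Type*} [Group G] [Finite G] {p : ℕ} [Fact p.Prime] (N : Subgroup G) [N.Normal] (hN : (Nat.card N).Coprime p) (P : Subgroup G) (hP : IsPGroup p P) : Subgroup.normalizer ((P.map (QuotientGroup.mk' N)) : Set (G ⧸ N)) = (Subgroup.normalizer (P : Set G)).map (QuotientGroup.mk' N) ∧ Subgroup.centralizer ((P.map (QuotientGroup.mk' N)) : Set (G ⧸ N)) = (Subgroup.centralizer (P : Set G)).map (QuotientGroup.mk' N) := by
  obtain ⟨hinf, -⟩ := relIndex_sup_of_coprime N hN P hP
  have part1 : Subgroup.normalizer ((P.map (QuotientGroup.mk' N)) : Set (G ⧸ N)) = (Subgroup.normalizer (P : Set G)).map (QuotientGroup.mk' N) := by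
    apply le_antisymm
    · intro xb hxb
      obtain ⟨x, rfl⟩ := QuotientGroup.mk'_surjective N xb
      set Q := P.map (MulAut.conj x).toMonoidHom with hQdef
      have hQK : Q ≤ P ⊔ N := by
        rintro _ ⟨u, hu, rfl⟩
        have h1 : (QuotientGroup.mk' N) ((MulAut.conj x) u) ∈ P.map (QuotientGroup.mk' N) := by
          rw [Subgroup.mem_normalizer_iff] at hxb
          have := (hxb ((QuotientGroup.mk' N) u)).mp (Subgroup.mem_map_of_mem _ hu)
          simpa [MulAut.conj_apply] using this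
        have h2 : (MulAut.conj x) u ∈ (P.map (QuotientGroup.mk' N)).comap (QuotientGroup.mk' N) := h1
        rw [QuotientGroup.comap_map_mk', sup_comm] at h2
        exact h2
      have hQ : IsPGroup p Q := hP.map _
      have hcard : Nat.card Q = Nat.card P :=
        Subgroup.card_map_of_injective (MulAut.conj x).injective
      obtain ⟨k, hk, hkQ⟩ := exists_conj_of_le_sup N hN P Q hP hQ hQK hcard
      have hy : k⁻¹ * x ∈ Subgroup.normalizer (P : Set G) := by
        rw [Subgroup.mem_normalizer_iff_map_conj_eq]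
        have : P.map (MulAut.conj (k⁻¹ * x)).toMonoidHom = (P.map (MulAut.conj x).toMonoidHom).map (MulAut.conj k⁻¹).toMonoidHom := by
          rw [Subgroup.map_map]; congr 1; ext z; simp [MulAut.conj_apply, mul_assoc]
        have h3 : P.map (MulAut.conj (k⁻¹ * x)).toMonoidHom = P := by
          rw [this, ← hQdef, hkQ, Subgroup.map_map]
          have : ((MulAut.conj k⁻¹).toMonoidHom.comp (MulAut.conj k).toMonoidHom) = MonoidHom.id G := by
            ext z; simp [MulAut.conj_apply, mul_assoc]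
          rw [this, Subgroup.map_id]
        exact h3
      have hπk : (QuotientGroup.mk' N) k ∈ P.map (QuotientGroup.mk' N) := by
        have := Subgroup.mem_map_of_mem (QuotientGroup.mk' N) hk
        rw [Subgroup.map_sup] at this
        have hNb : N.map (QuotientGroup.mk' N) = ⊥ := by
          rw [eq_bot_iff]
          rintro _ ⟨n, hn, rfl⟩
          rw [Subgroup.mem_bot]
          exact (QuotientGroup.eq_one_iff n).mpr hn
        rw [hNb, sup_bot_eq] at this
        exact this
      obtain ⟨u, hu, huk⟩ := hπk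
      refine ⟨u * (k⁻¹ * x), Subgroup.mul_mem _ (Subgroup.le_normalizer hu) hy, ?_⟩
      rw [map_mul, huk, ← map_mul]
      congr 1
      group
    · exact Subgroup.le_normalizer_map _
  refine ⟨part1, ?_⟩
  apply le_antisymm
  · intro xb hxb
    have hxn : xb ∈ Subgroup.normalizer ((P.map (QuotientGroup.mk' N)) : Set (G ⧸ N)) :=
      Subgroup.centralizer_le_normalizer _ hxb
    rw [part1] at hxn
    obtain ⟨y, hy, rfl⟩ := hxn
    refine ⟨y, ?_, rfl⟩
    change y ∈ Subgroup.centralizer (P : Set G)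
    rw [Subgroup.mem_centralizer_iff]
    intro u hu
    have hy : y ∈ Subgroup.normalizer (P : Set G) := hy
    have hc1 : y * u * y⁻¹ * u⁻¹ ∈ P := by
      rw [Subgroup.mem_normalizer_iff] at hy
      exact P.mul_mem ((hy u).mp hu) (P.inv_mem hu)
    have hc2 : y * u * y⁻¹ * u⁻¹ ∈ N := by
      rw [← QuotientGroup.eq_one_iff]
      rw [Subgroup.mem_centralizer_iff] at hxb
      have := hxb ((QuotientGroup.mk' N) u) (Subgroup.mem_map_of_mem _ hu)
      have h5 : ((y * u * y⁻¹ * u⁻¹ : G) : G ⧸ N) = (QuotientGroup.mk' N y) * (QuotientGroup.mk' N u) * (QuotientGroup.mk' N y)⁻¹ * (QuotientGroup.mk' N u)⁻¹ := by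
        simp
      rw [h5, ← this]
      group
    have hc : y * u * y⁻¹ * u⁻¹ ∈ P ⊓ N := ⟨hc1, hc2⟩
    rw [hinf, Subgroup.mem_bot] at hc
    have : y * u = u * y := by
      have h6 : y * u * y⁻¹ * u⁻¹ * (u * y) = u * y := by rw [hc, one_mul]
      rw [← h6]; group
    exact this.symm
  · rintro _ ⟨y, hy, rfl⟩
    rw [Subgroup.mem_centralizer_iff]
    rintro _ ⟨u, hu, rfl⟩
    have hy' := Subgroup.mem_centralizer_iff.mp hy
    rw [← map_mul, ← map_mul, hy' u hu]

end Cfsg.Agent.S3800
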