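import Cfsg.Statements.S3802
import Mathlib
import Cfsg.Agent.Lib.Helper20.Subnormal

set_option autoImplicit false
open Cfsg

namespace Cfsg.Agent.S3802

open Cfsg.Agent.Lib.Helper20

theorem result {G : Type*} [Group G] [Finite G] (M N : Subgroup G) (hM : IsCoatom M) (hN : N.IsSubnormal) (hNM : N ≤ M) :
    N ≤ Subgroup.normalCore M := by
  set C := Subgroup.normalCore M with hC
  have hCM : C ≤ M := Subgroup.normalCore_le M
  -- a normal subgroup minimal subject to not lying in M
  obtain ⟨A, hA, hAmin⟩ := exists_minimal_of_wellFoundedLT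
    (fun A : Subgroup G => A.Normal ∧ ¬ A ≤ M) ⟨⊤, inferInstance, fun h => hM.1 (top_le_iff.mp h)⟩
  obtain ⟨hAn, hAM⟩ := hA
  haveI := hAn
  let π := QuotientGroup.mk' C
  have hπs : Function.Surjective π := QuotientGroup.mk'_surjective C
  -- the image of A is a minimal normal subgroup of the quotient
  have hA' : IsMinNormal (A.map π) := by
    refine ⟨Subgroup.Normal.map hAn π hπs, ?_, ?_⟩
    · intro h0
      apply hAM
      refine le_trans ?_ hCM
      intro a ha
      have : π a ∈ A.map π := Subgroup.mem_map_of_mem π ha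
      rw [h0, Subgroup.mem_bot] at this
      exact (QuotientGroup.eq_one_iff a).mp this
    · intro B' hB' hle
      have hB₁n : (B'.comap π ⊓ A).Normal := by
        haveI := hB'
        infer_instance
      by_cases hB₁ : B'.comap π ⊓ A ≤ M
      · left
        have hB₁C : B'.comap π ⊓ A ≤ C := (Subgroup.normal_le_normalCore).mpr hB₁
        rw [eq_bot_iff]
        intro y hy
        obtain ⟨a, ha, rfl⟩ := hle hy
        have : a ∈ B'.comap π ⊓ A := ⟨hy, ha⟩
        rw [Subgroup.mem_bot]
        exact (QuotientGroup.eq_one_iff a).mpr (hB₁C this)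
      · right
        have hAle : A ≤ B'.comap π ⊓ A := hAmin ⟨hB₁n, hB₁⟩ inf_le_right
        apply le_antisymm hle
        rw [Subgroup.map_le_iff_le_comap]
        exact hAle.trans inf_le_left
  have hN' : (N.map π).IsSubnormal := hN.map hπs
  have hW := hA'.le_normalizer_of_isSubnormal hN'
  -- pull back
  have hAD : A ≤ Subgroup.normalizer ((C ⊔ N : Subgroup G) : Set G) := by
    have h1 : A ≤ (Subgroup.normalizer ((N.map π : Subgroup (G ⧸ C)) : Set (G ⧸ C))).comap π := by
      rw [← Subgroup.map_le_iff_le_comap]; exact hW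
    have h2 := h1.trans (Subgroup.le_normalizer_comap π)
    rwa [QuotientGroup.comap_map_mk'] at h2
  have hDM : C ⊔ N ≤ M := sup_le hCM hNM
  have htop : M ⊔ A = ⊤ := by
    have : M < M ⊔ A := by
      apply lt_of_le_of_ne le_sup_left
      intro h
      apply hAM
      rw [h]; exact le_sup_right
    exact hM.2 _ this
  refine le_trans le_sup_right (?_ : C ⊔ N ≤ C)
  intro d hd
  change ∀ g : G, g * d * g⁻¹ ∈ M
  intro g
  have hg : g ∈ M ⊔ A := by rw [htop]; trivial
  rw [Subgroup.mem_sup_of_normal_right] at hg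
  obtain ⟨m, hm, a, ha, rfl⟩ := hg
  have h1 : a * d * a⁻¹ ∈ C ⊔ N := by
    have := hAD ha
    rw [Subgroup.mem_normalizer_iff] at this
    exact (this d).mp hd
  have h2 : m * a * d * (m * a)⁻¹ = m * (a * d * a⁻¹) * m⁻¹ := by group
  rw [h2]
  exact M.mul_mem (M.mul_mem hm (hDM h1)) (M.inv_mem hm)

end Cfsg.Agent.S3802
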