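import Cfsg.Statements.S3803
import Cfsg.Agent.Lib.Helper20.OmegaTwo

set_option autoImplicit false
open Cfsg

namespace Cfsg.Agent.S3803

open Pointwise
open Cfsg.Agent.Lib.Helper1
open Cfsg.Agent.Lib.Helper20.OmegaTwo

section aux

variable {X : Type*} [Group X] [Finite X]

/-- An odd-order group normalizing a cyclic 2-group centralizes it. -/
theorem le_centralizer_of_cyclic (A E : Subgroup X) (hA : Odd (Nat.card A))
    (hE : IsPGroup 2 E) (hcyc : IsCyclic E) (hAE : A ≤ Subgroup.normalizer (E : Set X)) :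
    A ≤ Subgroup.centralizer (E : Set X) := by
  haveI : Fact (Nat.Prime 2) := ⟨Nat.prime_two⟩
  set ρ := conjHomOn A E hAE with hρ
  have h1 : Nat.card ρ.range ∣ Nat.card A := Subgroup.card_range_dvd ρ
  have h2 : Nat.card ρ.range ∣ Nat.card (MulAut ↥E) := Subgroup.card_subgroup_dvd_card _
  obtain ⟨k, hk⟩ := hE.exists_card_eq
  have h3 : Nat.card (MulAut ↥E) ∣ 2 ^ k := by
    rw [IsCyclic.card_mulAut, hk]
    rcases Nat.eq_zero_or_pos k with h0 | h0
    · rw [h0, pow_zero, Nat.totient_one]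
    · rw [Nat.totient_prime_pow Nat.prime_two h0]
      simp only [Nat.add_one_sub_one, mul_one]
      exact pow_dvd_pow 2 (Nat.sub_le k 1)
  have h4 : Nat.card ρ.range = 1 := by
    have h5 : (Nat.card A).Coprime (2 ^ k) := Nat.Coprime.pow_right k (Nat.coprime_two_right.mpr hA)
    exact Nat.eq_one_of_dvd_coprimes h5 h1 (h2.trans h3)
  have h6 : ρ.range = ⊥ := Subgroup.card_eq_one.mp h4
  intro a ha
  rw [Subgroup.mem_centralizer_iff]
  intro e he
  have h7 : ρ ⟨a, ha⟩ ∈ ρ.range := ⟨_, rfl⟩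
  rw [h6, Subgroup.mem_bot] at h7
  have h8 : ((ρ ⟨a, ha⟩) ⟨e, he⟩ : X) = e := by rw [h7]; rfl
  rw [hρ, conjHomOn_apply] at h8
  have h9 : a * e = e * a := by
    calc a * e = a * e * a⁻¹ * a := by group
      _ = e * a := by rw [h8]
  exact h9.symm

omit [Finite X] in
theorem le_normalizer_sup {A U V : Subgroup X} (hU : A ≤ Subgroup.normalizer (U : Set X))
    (hV : A ≤ Subgroup.normalizer (V : Set X)) :
    A ≤ Subgroup.normalizer ((U ⊔ V : Subgroup X) : Set X) := by
  intro a ha
  rw [← conj_smul_eq_self_iff_mem_normalizer, Subgroup.smul_sup,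
    conj_smul_eq_self_iff_mem_normalizer.mpr (hU ha),
    conj_smul_eq_self_iff_mem_normalizer.mpr (hV ha)]

/-- An odd-order group normalizing all maximal subgroups of a non-cyclic 2-group centralizes
it. -/
theorem le_centralizer_of_noncyclic (A Q : Subgroup X) (hA : Odd (Nat.card A))
    (hQ : IsPGroup 2 Q) (hnc : ¬ IsCyclic Q)
    (hmax : ∀ M : Subgroup X, M ≤ Q → 2 * Nat.card M = Nat.card Q →
      A ≤ Subgroup.normalizer (M : Set X)) :
    A ≤ Subgroup.centralizer (Q : Set X) := by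
  haveI : Fact (Nat.Prime 2) := ⟨Nat.prime_two⟩
  -- images of coatoms are normalized
  have hco : ∀ M : Subgroup ↥Q, IsCoatom M →
      A ≤ Subgroup.normalizer ((M.map Q.subtype : Subgroup X) : Set X) := by
    intro M hM
    apply hmax _ (Subgroup.map_subtype_le _)
    have h1 := IsPGroup.index_of_isCoatom hQ hM
    have h2 := Subgroup.card_mul_index M
    rw [h1] at h2
    rw [Subgroup.card_subtype, mul_comm]
    exact h2
  -- `A` normalizes `Q`
  have hAQ : A ≤ Subgroup.normalizer (Q : Set X) := by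
    have hne : (⊤ : Subgroup ↥Q) ≠ ⊥ := by
      intro h
      apply hnc
      have : Subsingleton ↥Q := Subgroup.subsingleton_iff.mp (by
        constructor
        intro a b
        have : ∀ c : Subgroup ↥Q, c = ⊤ := by
          intro c
          rw [h]
          exact le_antisymm (by rw [← h]; exact le_top) bot_le
        rw [this a, this b])
      infer_instance
    obtain ⟨M₁, hM₁⟩ : ∃ M : Subgroup ↥Q, IsCoatom M := by
      rcases eq_top_or_exists_le_coatom (⊥ : Subgroup ↥Q) with h | ⟨M, hM, -⟩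
      · exact absurd h.symm hne
      · exact ⟨M, hM⟩
    obtain ⟨x, hx⟩ : ∃ x : ↥Q, x ∉ M₁ := by
      by_contra hcon
      push Not at hcon
      exact hM₁.1 (eq_top_iff.mpr (fun y _ => hcon y))
    have hxtop : Subgroup.zpowers x ≠ ⊤ := by
      intro h
      apply hnc
      exact isCyclic_iff_exists_zpowers_eq_top.mpr ⟨x, h⟩
    obtain ⟨M₂, hM₂, hxM₂⟩ : ∃ M : Subgroup ↥Q, IsCoatom M ∧ Subgroup.zpowers x ≤ M := by
      rcases eq_top_or_exists_le_coatom (Subgroup.zpowers x) with h | ⟨M, hM, hle⟩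
      · exact absurd h hxtop
      · exact ⟨M, hM, hle⟩
    have hsup : M₁ ⊔ M₂ = ⊤ := by
      apply hM₁.2
      refine lt_of_le_of_ne le_sup_left ?_
      intro h
      apply hx
      rw [h]
      exact Subgroup.mem_sup_right (hxM₂ (Subgroup.mem_zpowers x))
    have h1 := le_normalizer_sup (hco M₁ hM₁) (hco M₂ hM₂)
    rw [← Subgroup.map_sup, hsup, ← MonoidHom.range_eq_map, Subgroup.range_subtype] at h1
    exact h1
  have hcop : (Nat.card A).Coprime (Nat.card (frattini ↥Q)) := by
    obtain ⟨k, hk⟩ := (hQ.to_subgroup (frattini ↥Q)).exists_card_eq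
    rw [hk]
    exact Nat.Coprime.pow_right k (Nat.coprime_two_right.mpr hA)
  apply le_centralizer_of_commutator_le_frattini A Q hAQ hcop
  intro a ha q hq
  have haq : a * q * a⁻¹ ∈ Q := (Subgroup.mem_normalizer_iff.mp (hAQ ha) q).mp hq
  have hmemΦ : ∀ c : ↥Q, (∀ M : Subgroup ↥Q, IsCoatom M → c ∈ M) → c ∈ frattini ↥Q := by
    intro c hc
    unfold frattini Order.radical
    simp only [Subgroup.mem_iInf]
    intro M hM
    exact hc M hM
  refine ⟨⟨a * q * a⁻¹, haq⟩ * ⟨q, hq⟩⁻¹, hmemΦ _ ?_, rfl⟩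
  intro M hM
  have hidx : M.index = 2 := IsPGroup.index_of_isCoatom hQ hM
  rw [Subgroup.mul_mem_iff_of_index_two hidx, inv_mem_iff]
  have hN := hco M hM ha
  rw [Subgroup.mem_normalizer_iff] at hN
  constructor
  · intro h
    have h1 : a * q * a⁻¹ ∈ M.map Q.subtype := ⟨_, h, rfl⟩
    obtain ⟨q', hq', hqq'⟩ := (hN q).mpr h1
    have : q' = ⟨q, hq⟩ := Subtype.ext hqq'
    rwa [this] at hq'
  · intro h
    have h1 : q ∈ M.map Q.subtype := ⟨_, h, rfl⟩
    obtain ⟨q', hq', hqq'⟩ := (hN q).mp h1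
    have : q' = ⟨a * q * a⁻¹, haq⟩ := Subtype.ext hqq'
    rwa [this] at hq'

/-- Intermediate subgroups of prescribed order in a 2-group. -/
theorem exists_between (P Z : Subgroup X) (n j m : ℕ) (hP : Nat.card P = 2 ^ n) (hZP : Z ≤ P)
    (hZ : Nat.card Z = 2 ^ j) (hjm : j ≤ m) (hmn : m ≤ n) :
    ∃ E : Subgroup X, Z ≤ E ∧ E ≤ P ∧ Nat.card E = 2 ^ m := by
  haveI : Fact (Nat.Prime 2) := ⟨Nat.prime_two⟩
  have h1 : Nat.card (Z.subgroupOf P) = 2 ^ j := by
    rw [Nat.card_congr (Subgroup.subgroupOfEquivOfLe hZP).toEquiv, hZ]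
  obtain ⟨K, hK, hHK⟩ := Sylow.exists_subgroup_card_pow_prime_le 2
    (show 2 ^ m ∣ Nat.card ↥P by rw [hP]; exact pow_dvd_pow 2 hmn) (Z.subgroupOf P) h1 hjm
  refine ⟨K.map P.subtype, ?_, Subgroup.map_subtype_le _, by rw [Subgroup.card_subtype, hK]⟩
  intro z hz
  exact ⟨⟨z, hZP hz⟩, hHK (Subgroup.mem_subgroupOf.mpr hz), rfl⟩

end aux

/-- Let P be a 2-subgroup and A a subgroup of odd order of a finite group, with A normalizing P. Let D ≤ P with 1 < |D| < |P|. If every subgroup of P of order |D|, and also every subgroup of P of order 4 in case |D| = 2, is normalized by A, then A centralizes P. -/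
theorem result {X : Type*} [Group X] [Finite X] (P A D : Subgroup X) (hP : IsPGroup 2 P) (hA : Odd (Nat.card A))
    (hAP : A ≤ Subgroup.normalizer (P : Set X)) (hDP : D ≤ P) (hD1 : 1 < Nat.card D) (hD2 : Nat.card D < Nat.card P)
    (hinv : ∀ E : Subgroup X, E ≤ P → (Nat.card E = Nat.card D ∨ (Nat.card D = 2 ∧ Nat.card E = 4)) → A ≤ Subgroup.normalizer (E : Set X)) :
    A ≤ Subgroup.centralizer (P : Set X) := by
  haveI : Fact (Nat.Prime 2) := ⟨Nat.prime_two⟩
  obtain ⟨n, hn⟩ := hP.exists_card_eq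
  obtain ⟨k, hk⟩ := (hP.to_le hDP).exists_card_eq
  have hk1 : 1 ≤ k := by
    rcases Nat.eq_zero_or_pos k with h0 | h0
    · rw [h0, pow_zero] at hk; omega
    · exact h0
  have hkn : k < n := by
    rw [hk, hn] at hD2
    exact (Nat.pow_lt_pow_iff_right (by norm_num)).mp hD2
  apply le_centralizer_of_centralizes_pow_four A hA (Nat.card P) P rfl hP hAP
  intro x hx hx4 a ha
  -- the cyclic group generated by `x`
  have hZP : Subgroup.zpowers x ≤ P := (Subgroup.zpowers_le).mpr hx
  have hZ2 : IsPGroup 2 (Subgroup.zpowers x) := hP.to_le hZP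
  obtain ⟨j, hj⟩ := hZ2.exists_card_eq
  have hj2 : j ≤ 2 := by
    have h1 : orderOf x ∣ 2 ^ 2 := orderOf_dvd_of_pow_eq_one (by norm_num; exact hx4)
    rw [← Nat.card_zpowers, hj] at h1
    exact (Nat.pow_dvd_pow_iff_le_right (by norm_num)).mp h1
  have hxZ : x ∈ Subgroup.zpowers x := Subgroup.mem_zpowers x
  have hcomm : ∀ E : Subgroup X, x ∈ E → A ≤ Subgroup.centralizer (E : Set X) → a * x = x * a := by
    intro E hxE hE
    exact (Subgroup.mem_centralizer_iff.mp (hE ha) x hxE).symm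
  by_cases hjk : j ≤ k
  · obtain ⟨E, hZE, hEP, hEcard⟩ := exists_between P (Subgroup.zpowers x) n j k hn hZP hj hjk hkn.le
    have hAE : A ≤ Subgroup.normalizer (E : Set X) := hinv E hEP (Or.inl (by rw [hEcard, hk]))
    by_cases hEc : IsCyclic E
    · exact hcomm E (hZE hxZ) (le_centralizer_of_cyclic A E hA (hP.to_le hEP) hEc hAE)
    · obtain ⟨Q, hEQ, hQP, hQcard⟩ := exists_between P E n k (k + 1) hn hEP hEcard (by omega)
        (by omega)
      have hQnc : ¬ IsCyclic Q := by
        intro hQc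
        apply hEc
        haveI := hQc
        have h1 : IsCyclic (E.subgroupOf Q) := inferInstance
        exact isCyclic_of_surjective (Subgroup.subgroupOfEquivOfLe hEQ).toMonoidHom
          (Subgroup.subgroupOfEquivOfLe hEQ).surjective
      apply hcomm Q (hEQ (hZE hxZ))
      apply le_centralizer_of_noncyclic A Q hA (hP.to_le hQP) hQnc
      intro M hMQ hMcard
      apply hinv M (hMQ.trans hQP)
      left
      rw [hQcard, pow_succ] at hMcard
      rw [hk]
      omega
  · have hk' : k = 1 := by omega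
    have hj' : j = 2 := by omega
    have hAZ : A ≤ Subgroup.normalizer ((Subgroup.zpowers x : Subgroup X) : Set X) :=
      hinv _ hZP (Or.inr ⟨by rw [hk, hk']; norm_num, by rw [hj, hj']; norm_num⟩)
    exact hcomm _ hxZ (le_centralizer_of_cyclic A _ hA hZ2 inferInstance hAZ)

end Cfsg.Agent.S3803
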