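import Cfsg.Statements.S3804
import Mathlib
import Cfsg.Agent.Lib.Helper18.ProductFormula

set_option autoImplicit false
open Cfsg

namespace Cfsg.Agent.S3804

open Cfsg.Agent.Lib.Helper18
open scoped Pointwise

section aux
variable {X : Type*} [Group X]

lemma centralizer_sup_eq (A B : Subgroup X) :
    Subgroup.centralizer ((A ⊔ B : Subgroup X) : Set X) =
      Subgroup.centralizer (A : Set X) ⊓ Subgroup.centralizer (B : Set X) := by
  apply le_antisymm
  · exact le_inf (Subgroup.centralizer_le (SetLike.coe_subset_coe.mpr le_sup_left))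
      (Subgroup.centralizer_le (SetLike.coe_subset_coe.mpr le_sup_right))
  · intro x hx
    rw [Subgroup.mem_centralizer_iff]
    intro g hg
    have h1 : A ⊔ B ≤ Subgroup.centralizer ({x} : Set X) := by
      apply sup_le
      · intro a ha
        rw [Subgroup.mem_centralizer_singleton_iff]
        exact (Subgroup.mem_centralizer_iff.mp hx.1) a ha
      · intro b hb
        rw [Subgroup.mem_centralizer_singleton_iff]
        exact (Subgroup.mem_centralizer_iff.mp hx.2) b hb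
    have := h1 hg
    rw [Subgroup.mem_centralizer_singleton_iff] at this
    exact this

lemma centralizer_bot_eq : Subgroup.centralizer ((⊥ : Subgroup X) : Set X) = ⊤ := by
  rw [eq_top_iff]
  intro x _
  rw [Subgroup.mem_centralizer_iff]
  intro h hh
  rw [Subgroup.coe_bot, Set.mem_singleton_iff] at hh
  subst hh
  simp

/-- real arithmetic: if `a ≤ a'`, `c ≤ c'`, all positive, and `a' * c' ≤ a * c`, equalities hold -/
lemma eq_of_mul_le {a a' c c' : ℝ} (ha : 0 < a) (hc : 0 < c) (h1 : a ≤ a') (h2 : c ≤ c')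
    (h : a' * c' ≤ a * c) : a = a' ∧ c = c' := by
  have ha' : 0 < a' := lt_of_lt_of_le ha h1
  have hc' : 0 < c' := lt_of_lt_of_le hc h2
  constructor
  · by_contra hne
    have hlt : a < a' := lt_of_le_of_ne h1 hne
    have : a * c < a' * c' := by
      calc a * c < a' * c := by exact mul_lt_mul_of_pos_right hlt hc
        _ ≤ a' * c' := by exact mul_le_mul_of_nonneg_left h2 ha'.le
    linarith
  · by_contra hne
    have hlt : c < c' := lt_of_le_of_ne h2 hne
    have : a * c < a' * c' := by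
      calc a * c < a * c' := by exact mul_lt_mul_of_pos_left hlt ha
        _ ≤ a' * c' := by exact mul_le_mul_of_nonneg_right h1 hc'.le
    linarith

end aux

/-- Let G and H be subgroups of a finite group with G normalizing H, fix a real number α > 0, and for a subgroup A of G put m(A) = |A|^α · |C_H(A)|. Let A and B be nontrivial subgroups of G at which m attains its maximum over all nontrivial subgroups of G, and assume that A ∩ B ≠ 1 or that this maximum is at least |H|. Then AB = BA is a subgroup at which m is again maximal, C_H(A ∩ B) = C_H(A) C_H(B), and if A ∩ B ≠ 1 then m is maximal at A ∩ B as well. -/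
theorem result {X : Type*} [Group X] [Finite X] (G H : Subgroup X) (hGH : G ≤ Subgroup.normalizer (H : Set X)) (α : ℝ) (hα : 0 < α)
    (A B : Subgroup X) (hA : A ≤ G) (hB : B ≤ G) (hA1 : A ≠ ⊥) (hB1 : B ≠ ⊥)
    (hAmax : ∀ A' : Subgroup X, A' ≤ G → A' ≠ ⊥ → (fun A : Subgroup X => ((Nat.card A : ℝ) ^ α) * (Nat.card ↥(H ⊓ Subgroup.centralizer (A : Set X)) : ℝ)) A' ≤ (fun A : Subgroup X => ((Nat.card A : ℝ) ^ α) * (Nat.card ↥(H ⊓ Subgroup.centralizer (A : Set X)) : ℝ)) A)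
    (hBmax : ∀ A' : Subgroup X, A' ≤ G → A' ≠ ⊥ → (fun A : Subgroup X => ((Nat.card A : ℝ) ^ α) * (Nat.card ↥(H ⊓ Subgroup.centralizer (A : Set X)) : ℝ)) A' ≤ (fun A : Subgroup X => ((Nat.card A : ℝ) ^ α) * (Nat.card ↥(H ⊓ Subgroup.centralizer (A : Set X)) : ℝ)) B)
    (hcase : A ⊓ B ≠ ⊥ ∨ (Nat.card H : ℝ) ≤ (fun A : Subgroup X => ((Nat.card A : ℝ) ^ α) * (Nat.card ↥(H ⊓ Subgroup.centralizer (A : Set X)) : ℝ)) A) :
    (∀ a ∈ A, ∀ b ∈ B, ∃ b' ∈ B, ∃ a' ∈ A, a * b = b' * a') ∧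
    (∀ A' : Subgroup X, A' ≤ G → A' ≠ ⊥ → (fun A : Subgroup X => ((Nat.card A : ℝ) ^ α) * (Nat.card ↥(H ⊓ Subgroup.centralizer (A : Set X)) : ℝ)) A' ≤ (fun A : Subgroup X => ((Nat.card A : ℝ) ^ α) * (Nat.card ↥(H ⊓ Subgroup.centralizer (A : Set X)) : ℝ)) (A ⊔ B)) ∧
    (∀ h ∈ H ⊓ Subgroup.centralizer ((A ⊓ B : Subgroup X) : Set X), ∃ u ∈ H ⊓ Subgroup.centralizer (A : Set X), ∃ v ∈ H ⊓ Subgroup.centralizer (B : Set X), h = u * v) ∧
    (A ⊓ B ≠ ⊥ → ∀ A' : Subgroup X, A' ≤ G → A' ≠ ⊥ → (fun A : Subgroup X => ((Nat.card A : ℝ) ^ α) * (Nat.card ↥(H ⊓ Subgroup.centralizer (A : Set X)) : ℝ)) A' ≤ (fun A : Subgroup X => ((Nat.card A : ℝ) ^ α) * (Nat.card ↥(H ⊓ Subgroup.centralizer (A : Set X)) : ℝ)) (A ⊓ B)) := by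
  classical
  -- notation
  set m : Subgroup X → ℝ := fun A : Subgroup X => ((Nat.card A : ℝ) ^ α) *
    (Nat.card ↥(H ⊓ Subgroup.centralizer (A : Set X)) : ℝ) with hm
  change ∀ A' : Subgroup X, A' ≤ G → A' ≠ ⊥ → m A' ≤ m A at hAmax
  change ∀ A' : Subgroup X, A' ≤ G → A' ≠ ⊥ → m A' ≤ m B at hBmax
  change A ⊓ B ≠ ⊥ ∨ (Nat.card H : ℝ) ≤ m A at hcase
  show (∀ a ∈ A, ∀ b ∈ B, ∃ b' ∈ B, ∃ a' ∈ A, a * b = b' * a') ∧
    (∀ A' : Subgroup X, A' ≤ G → A' ≠ ⊥ → m A' ≤ m (A ⊔ B)) ∧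
    (∀ h ∈ H ⊓ Subgroup.centralizer ((A ⊓ B : Subgroup X) : Set X),
      ∃ u ∈ H ⊓ Subgroup.centralizer (A : Set X), ∃ v ∈ H ⊓ Subgroup.centralizer (B : Set X), h = u * v) ∧
    (A ⊓ B ≠ ⊥ → ∀ A' : Subgroup X, A' ≤ G → A' ≠ ⊥ → m A' ≤ m (A ⊓ B))
  set J := A ⊔ B with hJ
  set D := A ⊓ B with hD
  set U := H ⊓ Subgroup.centralizer (A : Set X) with hU
  set V := H ⊓ Subgroup.centralizer (B : Set X) with hV
  set W := H ⊓ Subgroup.centralizer (D : Set X) with hW
  set Y := H ⊓ Subgroup.centralizer (J : Set X) with hY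
  have hmAB : m A = m B := le_antisymm (hBmax A hA hA1) (hAmax B hB hB1)
  have hJG : J ≤ G := sup_le hA hB
  have hJ1 : J ≠ ⊥ := by
    intro h
    apply hA1
    rw [eq_bot_iff, ← h]; exact le_sup_left
  have hmJ : m J ≤ m A := hAmax J hJG hJ1
  -- m D ≤ m A
  have hmD : m D ≤ m A := by
    rcases hcase with h | h
    · exact hAmax D (inf_le_left.trans hA) h
    · by_cases hD1 : D = ⊥
      · have : m D = (Nat.card H : ℝ) := by
          simp only [hm]
          rw [hD1, centralizer_bot_eq, inf_top_eq, Subgroup.card_bot]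
          simp
        rw [this]; exact h
      · exact hAmax D (inf_le_left.trans hA) hD1
  -- positivity
  have posc : ∀ K : Subgroup X, (0 : ℝ) < (Nat.card K : ℝ) := fun K => by
    exact_mod_cast Nat.card_pos
  have posm : ∀ K : Subgroup X, 0 < m K := fun K =>
    mul_pos (Real.rpow_pos_of_pos (posc K) α) (posc _)
  -- the two product inequalities
  have hUV : U ⊓ V = Y := by
    rw [hU, hV, hY, hJ, centralizer_sup_eq]
    ext x; simp only [Subgroup.mem_inf]; tauto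
  have hUVW : U ⊔ V ≤ W := by
    apply sup_le
    · exact inf_le_inf le_rfl (Subgroup.centralizer_le (SetLike.coe_subset_coe.mpr inf_le_left))
    · exact inf_le_inf le_rfl (Subgroup.centralizer_le (SetLike.coe_subset_coe.mpr inf_le_right))
  have hc1 : Nat.card U * Nat.card V ≤ Nat.card ↥(U ⊔ V) * Nat.card Y := by
    rw [← hUV]; exact card_mul_card_le_card_sup_mul_card_inf U V
  have hc2 : Nat.card ↥(U ⊔ V) ≤ Nat.card W := Subgroup.card_le_of_le hUVW
  have hc : Nat.card U * Nat.card V ≤ Nat.card W * Nat.card Y :=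
    hc1.trans (Nat.mul_le_mul_right _ hc2)
  have ha : Nat.card A * Nat.card B ≤ Nat.card J * Nat.card D :=
    card_mul_card_le_card_sup_mul_card_inf A B
  -- real versions
  have hcR : (Nat.card U : ℝ) * (Nat.card V : ℝ) ≤ (Nat.card W : ℝ) * (Nat.card Y : ℝ) := by
    exact_mod_cast hc
  have haR : ((Nat.card A : ℝ) * (Nat.card B : ℝ)) ≤ ((Nat.card J : ℝ) * (Nat.card D : ℝ)) := by
    exact_mod_cast ha
  have haR' : ((Nat.card A : ℝ) * (Nat.card B : ℝ)) ^ α ≤ ((Nat.card J : ℝ) * (Nat.card D : ℝ)) ^ α :=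
    Real.rpow_le_rpow (mul_pos (posc A) (posc B)).le haR hα.le
  have hprodA : m A * m B = ((Nat.card A : ℝ) * (Nat.card B : ℝ)) ^ α *
      ((Nat.card U : ℝ) * (Nat.card V : ℝ)) := by
    simp only [hm]
    rw [Real.mul_rpow (posc A).le (posc B).le]
    ring
  have hprodJ : m J * m D = ((Nat.card J : ℝ) * (Nat.card D : ℝ)) ^ α *
      ((Nat.card W : ℝ) * (Nat.card Y : ℝ)) := by
    simp only [hm]
    rw [Real.mul_rpow (posc J).le (posc D).le]
    ring
  have hJD_le : m J * m D ≤ m A * m B := by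
    rw [← hmAB]
    exact mul_le_mul hmJ hmD (posm D).le (posm A).le
  have hpa : 0 < ((Nat.card A : ℝ) * (Nat.card B : ℝ)) ^ α :=
    Real.rpow_pos_of_pos (mul_pos (posc A) (posc B)) α
  have hpc : 0 < (Nat.card U : ℝ) * (Nat.card V : ℝ) := mul_pos (posc U) (posc V)
  obtain ⟨heq1, heq2⟩ := eq_of_mul_le hpa hpc haR' hcR (by rw [← hprodA, ← hprodJ]; exact hJD_le)
  -- m J = m A and m D = m A
  have hJDeq : m J * m D = m A * m A := by
    rw [hprodJ, ← heq1, ← heq2, ← hprodA, hmAB]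
  obtain ⟨hmJeq, hmDeq⟩ := eq_of_mul_le (posm J) (posm D) hmJ hmD (by rw [hJDeq])
  -- cardinal equalities
  have hcardAB : Nat.card A * Nat.card B = Nat.card J * Nat.card D := by
    by_contra hne
    have hlt : Nat.card A * Nat.card B < Nat.card J * Nat.card D := lt_of_le_of_ne ha hne
    have hltR : ((Nat.card A : ℝ) * (Nat.card B : ℝ)) < ((Nat.card J : ℝ) * (Nat.card D : ℝ)) := by
      exact_mod_cast hlt
    have := Real.rpow_lt_rpow (mul_pos (posc A) (posc B)).le hltR hα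
    rw [heq1] at this
    exact lt_irrefl _ this
  have hcardUV : Nat.card U * Nat.card V = Nat.card W * Nat.card Y := by
    exact_mod_cast heq2
  have hYpos : 0 < Nat.card Y := Nat.card_pos
  have hcardW : Nat.card ↥(U ⊔ V) = Nat.card W := by
    apply le_antisymm hc2
    by_contra hlt
    rw [not_le] at hlt
    have : Nat.card ↥(U ⊔ V) * Nat.card Y < Nat.card W * Nat.card Y :=
      Nat.mul_lt_mul_of_pos_right hlt hYpos
    omega
  have hUVeqW : U ⊔ V = W := Subgroup.eq_of_le_of_card_ge hUVW hcardW.ge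
  have hUVset : ((U ⊔ V : Subgroup X) : Set X) = (U : Set X) * (V : Set X) := by
    apply coe_sup_eq_mul_of_card_eq
    rw [hUV, hcardW]; exact hcardUV
  have hABset : ((A ⊔ B : Subgroup X) : Set X) = (A : Set X) * (B : Set X) :=
    coe_sup_eq_mul_of_card_eq A B hcardAB
  refine ⟨?_, ?_, ?_, ?_⟩
  · intro a ha b hb
    have h1 : (a * b)⁻¹ ∈ ((A ⊔ B : Subgroup X) : Set X) :=
      (A ⊔ B).inv_mem (Subgroup.mul_mem_sup ha hb)
    rw [hABset] at h1
    obtain ⟨a₁, ha₁, b₁, hb₁, he⟩ := h1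
    refine ⟨b₁⁻¹, B.inv_mem hb₁, a₁⁻¹, A.inv_mem ha₁, ?_⟩
    have : a * b = (a₁ * b₁)⁻¹ := by
      simp only at he
      rw [he, inv_inv]
    rw [this, mul_inv_rev]
  · intro A' hA' hA'1
    rw [hmJeq]; exact hAmax A' hA' hA'1
  · intro h hh
    have h1 : h ∈ ((U ⊔ V : Subgroup X) : Set X) := by
      rw [hUVeqW]; exact hh
    rw [hUVset] at h1
    obtain ⟨u, hu, v, hv, he⟩ := h1
    exact ⟨u, hu, v, hv, he.symm⟩
  · intro _ A' hA' hA'1
    rw [hmDeq]; exact hAmax A' hA' hA'1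

end Cfsg.Agent.S3804
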