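import Cfsg.Statements.S3807
import Mathlib

set_option autoImplicit false
open Cfsg

namespace Cfsg.Agent.S3807
open scoped commutatorElement

section general
variable {S : Type*} [Group S] [Finite S]

/-- index-p subgroups of p-groups are normal -/
lemma normal_of_index_eq_p {p : ℕ} [Fact p.Prime] (hS : IsPGroup p S) {A : Subgroup S}
    (hAi : A.index = p) : A.Normal := by
  have hp : p.Prime := Fact.out
  apply Subgroup.normal_of_index_eq_minFac_card
  obtain ⟨n, hn⟩ := IsPGroup.iff_card.mp hS
  have hn0 : n ≠ 0 := by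
    rintro rfl
    rw [pow_zero] at hn
    have h1 : A.index ∣ Nat.card S := Subgroup.index_dvd_card A
    rw [hn, hAi] at h1
    exact hp.one_lt.ne' (Nat.dvd_one.mp h1)
  rw [hAi, hn, Nat.Prime.pow_minFac hp hn0]

/-- subgroups of prime index are maximal -/
lemma eq_top_of_lt_of_index_prime {p : ℕ} (hp : p.Prime) {A K : Subgroup S} (hAi : A.index = p)
    (hlt : A < K) : K = ⊤ := by
  have h1 : K.index ∣ A.index := Subgroup.index_dvd_of_le hlt.le
  rw [hAi] at h1
  rcases (Nat.dvd_prime hp).mp h1 with h | h
  · exact Subgroup.index_eq_one.mp h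
  · exfalso
    have h2 := Subgroup.relIndex_mul_index hlt.le
    rw [h, hAi] at h2
    have h3 : A.relIndex K = 1 := by
      have := hp.pos
      exact Nat.eq_of_mul_eq_mul_right this (by rw [h2, one_mul])
    rw [Subgroup.relIndex_eq_one] at h3
    exact hlt.not_ge h3

/-- if `A` is abelian and `A ⊔ K = ⊤` with `K` central, the group is abelian -/
lemma comm_of_sup_center_eq_top {A : Subgroup S} (hA : IsMulCommutative ↥A)
    (h : A ⊔ Subgroup.center S = ⊤) : IsMulCommutative S := by
  have h1 : A ≤ Subgroup.center S := by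
    intro a ha
    have h2 : A ⊔ Subgroup.center S ≤ Subgroup.centralizer ({a} : Set S) := by
      apply sup_le
      · intro b hb
        rw [Subgroup.mem_centralizer_singleton_iff]
        have := hA.is_comm.comm ⟨b, hb⟩ ⟨a, ha⟩
        exact congrArg Subtype.val this
      · exact Subgroup.center_le_centralizer _
    rw [h] at h2
    rw [Subgroup.mem_center_iff]
    intro g
    have := h2 (Subgroup.mem_top g)
    rw [Subgroup.mem_centralizer_singleton_iff] at this
    exact this
  have h3 : Subgroup.center S = ⊤ := by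
    rw [← h]; exact (sup_of_le_right h1).symm
  refine ⟨⟨fun a b => ?_⟩⟩
  have : a ∈ Subgroup.center S := by rw [h3]; exact Subgroup.mem_top a
  exact (Subgroup.mem_center_iff.mp this b).symm

/-- in a nonabelian group, abelian subgroups of prime index contain the centre -/
lemma center_le_of_abelian_index_prime {p : ℕ} (hp : p.Prime) (hna : ¬ IsMulCommutative S)
    {A : Subgroup S} (hA : IsMulCommutative ↥A) (hAi : A.index = p) : Subgroup.center S ≤ A := by
  by_contra hle
  have hlt : A < A ⊔ Subgroup.center S := by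
    refine lt_of_le_of_ne le_sup_left ?_
    intro h
    apply hle
    rw [h]; exact le_sup_right
  exact hna (comm_of_sup_center_eq_top hA (eq_top_of_lt_of_index_prime hp hAi hlt))

end general


section comm
variable {S : Type*} [Group S]

/-- the commutator map `a ↦ [a, x]` on an abelian normal subgroup is a homomorphism -/
def commHom (A : Subgroup S) [hAn : A.Normal] (hA : IsMulCommutative ↥A) (x : S) : ↥A →* ↥A where
  toFun a := ⟨a * x * (a : S)⁻¹ * x⁻¹, by
    have : (a : S) * x * (a:S)⁻¹ * x⁻¹ = a * (x * (a:S)⁻¹ * x⁻¹) := by group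
    rw [this]; exact A.mul_mem a.2 (hAn.conj_mem _ (A.inv_mem a.2) x)⟩
  map_one' := by ext; simp
  map_mul' a b := by
    apply Subtype.ext
    simp only [Subgroup.coe_mul]
    have hu : (b : S) * x * (b : S)⁻¹ * x⁻¹ ∈ A := by
      have : (b : S) * x * (b:S)⁻¹ * x⁻¹ = b * (x * (b:S)⁻¹ * x⁻¹) := by group
      rw [this]; exact A.mul_mem b.2 (hAn.conj_mem _ (A.inv_mem b.2) x)
    have hv : x * (a : S)⁻¹ * x⁻¹ ∈ A := hAn.conj_mem _ (A.inv_mem a.2) x
    have huv : ((b : S) * x * (b : S)⁻¹ * x⁻¹) * (x * (a : S)⁻¹ * x⁻¹)
        = (x * (a : S)⁻¹ * x⁻¹) * ((b : S) * x * (b : S)⁻¹ * x⁻¹) :=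
      congrArg Subtype.val (hA.is_comm.comm ⟨_, hu⟩ ⟨_, hv⟩)
    calc (a : S) * b * x * ((a : S) * b)⁻¹ * x⁻¹
        = a * (((b : S) * x * (b : S)⁻¹ * x⁻¹) * (x * (a : S)⁻¹ * x⁻¹)) := by group
      _ = a * ((x * (a : S)⁻¹ * x⁻¹) * ((b : S) * x * (b : S)⁻¹ * x⁻¹)) := by rw [huv]
      _ = (a : S) * x * (a : S)⁻¹ * x⁻¹ * ((b : S) * x * (b : S)⁻¹ * x⁻¹) := by group

lemma commHom_apply (A : Subgroup S) [hAn : A.Normal] (hA : IsMulCommutative ↥A) (x : S) (a : A) :
    ((commHom A hA x a : A) : S) = a * x * (a : S)⁻¹ * x⁻¹ := rfl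

/-- if `A ⊔ ⟨x⟩ = ⊤` and `a ∈ A` (abelian) commutes with `x`, then `a` is central -/
lemma mem_center_of_comm {A : Subgroup S} (hA : IsMulCommutative ↥A) {x : S}
    (htop : A ⊔ Subgroup.zpowers x = ⊤) {a : S} (ha : a ∈ A) (hax : a * x = x * a) :
    a ∈ Subgroup.center S := by
  have h2 : A ⊔ Subgroup.zpowers x ≤ Subgroup.centralizer ({a} : Set S) := by
    apply sup_le
    · intro b hb
      rw [Subgroup.mem_centralizer_singleton_iff]
      exact congrArg Subtype.val (hA.is_comm.comm ⟨b, hb⟩ ⟨a, ha⟩)
    · rw [Subgroup.zpowers_le, Subgroup.mem_centralizer_singleton_iff]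
      exact hax.symm
  rw [htop] at h2
  rw [Subgroup.mem_center_iff]
  intro g
  have := h2 (Subgroup.mem_top g)
  rw [Subgroup.mem_centralizer_singleton_iff] at this
  exact this

lemma commHom_ker (A : Subgroup S) [hAn : A.Normal] (hA : IsMulCommutative ↥A) (x : S)
    (htop : A ⊔ Subgroup.zpowers x = ⊤) :
    (commHom A hA x).ker = (Subgroup.center S).subgroupOf A := by
  ext a
  rw [MonoidHom.mem_ker, Subgroup.mem_subgroupOf]
  constructor
  · intro h
    have h1 : (a : S) * x * (a : S)⁻¹ * x⁻¹ = 1 := by
      rw [← commHom_apply A hA x a, h]; rfl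
    apply mem_center_of_comm hA htop a.2
    calc (a : S) * x = ((a : S) * x * (a : S)⁻¹ * x⁻¹) * (x * a) := by group
      _ = x * a := by rw [h1, one_mul]
  · intro h
    apply Subtype.ext
    rw [commHom_apply]
    have := (Subgroup.mem_center_iff.mp h) x
    -- x * a = a * x
    calc (a : S) * x * (a : S)⁻¹ * x⁻¹ = (x * a) * (a : S)⁻¹ * x⁻¹ := by rw [this]
      _ = 1 := by group

/-- the image of the commutator map, as a subgroup of `S` -/
def commRange (A : Subgroup S) [hAn : A.Normal] (hA : IsMulCommutative ↥A) (x : S) : Subgroup S :=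
  (commHom A hA x).range.map A.subtype

lemma mem_commRange (A : Subgroup S) [hAn : A.Normal] (hA : IsMulCommutative ↥A) (x : S) (r : S) :
    r ∈ commRange A hA x ↔ ∃ a ∈ A, a * x * a⁻¹ * x⁻¹ = r := by
  unfold commRange
  constructor
  · rintro ⟨_, ⟨a, rfl⟩, rfl⟩
    exact ⟨a, a.2, rfl⟩
  · rintro ⟨a, ha, rfl⟩
    exact ⟨commHom A hA x ⟨a, ha⟩, ⟨⟨a, ha⟩, rfl⟩, rfl⟩

lemma commRange_le (A : Subgroup S) [hAn : A.Normal] (hA : IsMulCommutative ↥A) (x : S) :
    commRange A hA x ≤ A := by
  unfold commRange
  exact Subgroup.map_subtype_le _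

lemma commRange_le_commutator (A : Subgroup S) [hAn : A.Normal] (hA : IsMulCommutative ↥A) (x : S) :
    commRange A hA x ≤ commutator S := by
  intro r hr
  rw [mem_commRange] at hr
  obtain ⟨a, -, rfl⟩ := hr
  rw [commutator_def]
  exact Subgroup.commutator_mem_commutator (Subgroup.mem_top a) (Subgroup.mem_top x)

lemma commRange_normal (A : Subgroup S) [hAn : A.Normal] (hA : IsMulCommutative ↥A) (x : S)
    (htop : A ⊔ Subgroup.zpowers x = ⊤) : (commRange A hA x).Normal := by
  rw [← Subgroup.normalizer_eq_top_iff, eq_top_iff, ← htop]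
  apply sup_le
  · intro b hb
    rw [Subgroup.mem_normalizer_iff]
    intro h
    have key : ∀ h ∈ A, b * h * b⁻¹ = h := by
      intro h hh
      have := congrArg Subtype.val (hA.is_comm.comm ⟨b, hb⟩ ⟨h, hh⟩)
      simp only [Subgroup.coe_mul] at this
      rw [this]; group
    constructor
    · intro hh
      rw [key h (commRange_le A hA x hh)]; exact hh
    · intro hh
      have h1 : b * h * b⁻¹ ∈ A := commRange_le A hA x hh
      have h2 : h ∈ A := by
        have := A.mul_mem (A.mul_mem (A.inv_mem hb) h1) hb
        have e : b⁻¹ * (b * h * b⁻¹) * b = h := by group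
        rwa [e] at this
      rw [key h h2] at hh; exact hh
  · rw [Subgroup.zpowers_le, Subgroup.mem_normalizer_iff]
    intro h
    constructor
    · intro hh
      rw [mem_commRange] at hh ⊢
      obtain ⟨a, ha, rfl⟩ := hh
      refine ⟨x * a * x⁻¹, hAn.conj_mem a ha x, by group⟩
    · intro hh
      rw [mem_commRange] at hh ⊢
      obtain ⟨a, ha, he⟩ := hh
      refine ⟨x⁻¹ * a * x, ?_, ?_⟩
      · have := hAn.conj_mem a ha x⁻¹
        rwa [inv_inv] at this
      · have : h = x⁻¹ * (x * h * x⁻¹) * x := by group
        rw [this, ← he]; group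

lemma commutator_le_commRange (A : Subgroup S) [hAn : A.Normal] (hA : IsMulCommutative ↥A) (x : S)
    (htop : A ⊔ Subgroup.zpowers x = ⊤) : commutator S ≤ commRange A hA x := by
  haveI := commRange_normal A hA x htop
  set R := commRange A hA x with hR
  set π := QuotientGroup.mk' R with hπ
  -- everything is central mod R
  have hxa : ∀ a ∈ A, π a * π x = π x * π a := by
    intro a ha
    have h1 : a * x * a⁻¹ * x⁻¹ ∈ R := (mem_commRange A hA x _).mpr ⟨a, ha, rfl⟩
    have h2 : π (a * x * a⁻¹ * x⁻¹) = 1 := (QuotientGroup.eq_one_iff _).mpr h1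
    simp only [map_mul, map_inv] at h2
    calc π a * π x = (π a * π x * (π a)⁻¹ * (π x)⁻¹) * (π x * π a) := by group
      _ = π x * π a := by rw [h2, one_mul]
  have hcen : ∀ g : S, (∀ a ∈ A, π a * π g = π g * π a) → π x * π g = π g * π x →
      π g ∈ Subgroup.center (S ⧸ R) := by
    intro g h1 h2
    have h3 : A ⊔ Subgroup.zpowers x ≤ (Subgroup.centralizer ({π g} : Set (S ⧸ R))).comap π := by
      apply sup_le
      · intro a ha
        rw [Subgroup.mem_comap, Subgroup.mem_centralizer_singleton_iff]
        exact h1 a ha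
      · rw [Subgroup.zpowers_le, Subgroup.mem_comap, Subgroup.mem_centralizer_singleton_iff]
        exact h2
    rw [htop] at h3
    rw [Subgroup.mem_center_iff]
    intro t
    obtain ⟨s, rfl⟩ := QuotientGroup.mk'_surjective R t
    have := h3 (Subgroup.mem_top s)
    rw [Subgroup.mem_comap, Subgroup.mem_centralizer_singleton_iff] at this
    exact this
  have hA_cen : ∀ a ∈ A, π a ∈ Subgroup.center (S ⧸ R) := by
    intro a ha
    apply hcen
    · intro b hb
      have := congrArg Subtype.val (hA.is_comm.comm ⟨b, hb⟩ ⟨a, ha⟩)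
      simp only [Subgroup.coe_mul] at this
      rw [← map_mul, ← map_mul, this]
    · exact (hxa a ha).symm
  have hx_cen : π x ∈ Subgroup.center (S ⧸ R) := by
    apply hcen
    · exact hxa
    · rfl
  have hall : ⊤ ≤ (Subgroup.center (S ⧸ R)).comap π := by
    rw [← htop]
    apply sup_le
    · intro a ha; exact hA_cen a ha
    · rw [Subgroup.zpowers_le]; exact hx_cen
  rw [commutator_def, Subgroup.commutator_le]
  intro g _ h _
  rw [← QuotientGroup.eq_one_iff]
  have hg : π g ∈ Subgroup.center (S ⧸ R) := hall (Subgroup.mem_top g)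
  have : π ⁅g, h⁆ = 1 := by
    rw [map_commutatorElement, commutatorElement_eq_one_iff_mul_comm]
    exact ((Subgroup.mem_center_iff.mp hg) (π h)).symm
  exact this

lemma commRange_eq_commutator (A : Subgroup S) [hAn : A.Normal] (hA : IsMulCommutative ↥A) (x : S)
    (htop : A ⊔ Subgroup.zpowers x = ⊤) : commRange A hA x = commutator S :=
  le_antisymm (commRange_le_commutator A hA x) (commutator_le_commRange A hA x htop)

/-- `[A : A ∩ Z(S)] = |S'|` -/
lemma relIndex_center_eq_card_commutator [Finite S] (A : Subgroup S) [hAn : A.Normal]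
    (hA : IsMulCommutative ↥A) (x : S)
    (htop : A ⊔ Subgroup.zpowers x = ⊤) :
    (Subgroup.center S).relIndex A = Nat.card (commutator S) := by
  rw [← commRange_eq_commutator A hA x htop]
  unfold Subgroup.relIndex
  rw [← commHom_ker A hA x htop, Subgroup.index_ker]
  unfold commRange
  exact Nat.card_congr ((commHom A hA x).range.equivMapOfInjective _ A.subtype_injective).toEquiv

end comm


/-- a group of order `p²` and exponent `p` has exactly `p + 1` subgroups of order `p` -/
lemma card_subgroups_of_order_p {T : Type*} [Group T] [Finite T] {p : ℕ} [hp : Fact p.Prime]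
    (hcard : Nat.card T = p ^ 2) (hexp : ∀ t : T, t ^ p = 1) :
    Nat.card {C : Subgroup T // Nat.card C = p} = p + 1 := by
  classical
  haveI : Fintype T := Fintype.ofFinite T
  haveI : Fintype (Subgroup T) := Fintype.ofFinite _
  set s : Finset T := Finset.univ.filter (fun t => t ≠ 1) with hs
  set u : Finset (Subgroup T) := Finset.univ.filter (fun C => Nat.card C = p) with hu
  have hmaps : Set.MapsTo (fun t : T => Subgroup.zpowers t) s u := by
    intro t ht
    simp only [hs, Finset.coe_filter, Finset.mem_univ, true_and, Set.mem_setOf_eq] at ht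
    simp only [hu, Finset.coe_filter, Finset.mem_univ, true_and, Set.mem_setOf_eq]
    rw [Nat.card_zpowers]
    exact orderOf_eq_prime (hexp t) ht
  have h1 := Finset.card_eq_sum_card_fiberwise hmaps
  have hfib : ∀ C ∈ u, (s.filter (fun t => Subgroup.zpowers t = C)).card = p - 1 := by
    intro C hC
    simp only [hu, Finset.mem_filter, Finset.mem_univ, true_and] at hC
    have heq : s.filter (fun t => Subgroup.zpowers t = C)
        = (Finset.univ.filter (fun t => t ∈ C)).erase 1 := by
      ext t
      simp only [hs, Finset.mem_filter, Finset.mem_univ, true_and, Finset.mem_erase]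
      constructor
      · rintro ⟨h1, h2⟩
        exact ⟨h1, h2 ▸ Subgroup.mem_zpowers t⟩
      · rintro ⟨h1, h2⟩
        refine ⟨h1, ?_⟩
        apply Subgroup.eq_of_le_of_card_ge
        · rw [Subgroup.zpowers_le]; exact h2
        · rw [Nat.card_zpowers, orderOf_eq_prime (hexp t) h1, hC]
    rw [heq, Finset.card_erase_of_mem (by simp [C.one_mem])]
    congr 1
    rw [← hC, Nat.card_eq_fintype_card, Fintype.card_subtype]
  rw [Finset.sum_congr rfl hfib, Finset.sum_const, smul_eq_mul] at h1
  have hscard : s.card = p ^ 2 - 1 := by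
    rw [hs, Finset.filter_ne' , Finset.card_erase_of_mem (Finset.mem_univ _), Finset.card_univ,
      ← Nat.card_eq_fintype_card, hcard]
  have hN : Nat.card {C : Subgroup T // Nat.card C = p} = u.card := by
    rw [Nat.card_eq_fintype_card, Fintype.card_subtype]
  rw [hN]
  rw [hscard] at h1
  obtain ⟨q, hq⟩ : ∃ q, p = q + 2 := ⟨p - 2, by have := hp.out.two_le; omega⟩
  subst hq
  have h2 : (q + 2) ^ 2 - 1 = (q + 3) * (q + 2 - 1) := by
    have : (q + 2) ^ 2 = (q + 3) * (q + 1) + 1 := by ring
    rw [this]; simp
  rw [h2] at h1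
  have h3 : 0 < q + 2 - 1 := by omega
  have := Nat.eq_of_mul_eq_mul_right h3 h1
  omega


/-- quotient by centre of order `p²` in a nonabelian group has exponent `p` -/
lemma exp_quot {S : Type*} [Group S] [Finite S] {p : ℕ} [hp : Fact p.Prime]
    (hna : ¬ IsMulCommutative S) (hcard : Nat.card (S ⧸ Subgroup.center S) = p ^ 2)
    (t : S ⧸ Subgroup.center S) : t ^ p = 1 := by
  have h1 : orderOf t ∣ p ^ 2 := hcard ▸ orderOf_dvd_natCard t
  obtain ⟨k, hk, hk2⟩ := (Nat.dvd_prime_pow hp.out).mp h1
  have hk1 : k ≠ 2 := by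
    rintro rfl
    apply hna
    haveI : IsCyclic (S ⧸ Subgroup.center S) :=
      isCyclic_of_orderOf_eq_card t (by rw [hk2, hcard])
    exact isMulCommutative_of_isCyclic_quotient_center_self S
  have hk3 : k ≤ 1 := by omega
  apply orderOf_dvd_iff_pow_eq_one.mp
  rw [hk2]
  calc p ^ k ∣ p ^ 1 := pow_dvd_pow p hk3
    _ = p := pow_one p

/-- preimages of subgroups of order `p` under the quotient by the centre are abelian -/
lemma comap_comm {S : Type*} [Group S] [Finite S] {p : ℕ} [hp : Fact p.Prime]
    (C : Subgroup (S ⧸ Subgroup.center S)) (hC : Nat.card C = p) :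
    IsMulCommutative ↥(C.comap (QuotientGroup.mk' (Subgroup.center S))) := by
  haveI : IsCyclic ↥C := isCyclic_of_prime_card hC
  set f := (QuotientGroup.mk' (Subgroup.center S)).subgroupComap C with hf
  apply f.isMulCommutative_of_isCyclic_of_ker_le_center
  intro b hb
  rw [MonoidHom.mem_ker] at hb
  have h1 : (QuotientGroup.mk' (Subgroup.center S)) (b : S) = 1 := by
    have := congrArg Subtype.val hb
    exact this
  have h2 : (b : S) ∈ Subgroup.center S := (QuotientGroup.eq_one_iff _).mp h1
  rw [Subgroup.mem_center_iff]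
  intro c
  apply Subtype.ext
  simp only [Subgroup.coe_mul]
  exact (Subgroup.mem_center_iff.mp h2) c

/-- Let S be a non-abelian finite p-group with an abelian subgroup A of index p. Then [S : Z(S)] = p·#[S,S], and either [S,S] has order p, S/Z(S) is elementary abelian of order p², and S has exactly p + 1 abelian subgroups of index p; or [S,S] has order at least p² and A is the only abelian subgroup of index p in S. -/
theorem result {S : Type*} [Group S] [Finite S] (p : ℕ) [Fact p.Prime] (hS : IsPGroup p S) (hna : ¬ IsMulCommutative S)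
    (A : Subgroup S) (hA : IsMulCommutative ↥A) (hAi : A.index = p) :
    (Subgroup.center S).index = p * Nat.card (commutator S) ∧
      ((Nat.card (commutator S) = p ∧ Cfsg.IsElementaryAbelian p (⊤ : Subgroup (S ⧸ Subgroup.center S)) ∧
          Nat.card (S ⧸ Subgroup.center S) = p ^ 2 ∧
          Nat.card {B : Subgroup S // IsMulCommutative ↥B ∧ B.index = p} = p + 1) ∨
        (p ^ 2 ≤ Nat.card (commutator S) ∧ ∀ B : Subgroup S, IsMulCommutative ↥B → B.index = p → B = A)) := by
  have hp : p.Prime := Fact.out
  haveI hAn : A.Normal := normal_of_index_eq_p hS hAi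
  -- pick x outside A
  obtain ⟨x, hx⟩ : ∃ x, x ∉ A := by
    by_contra h
    have h' : ∀ x, x ∈ A := by
      intro x
      by_contra hx
      exact h ⟨x, hx⟩
    have : A = ⊤ := (Subgroup.eq_top_iff' A).mpr h'
    rw [this, Subgroup.index_top] at hAi
    exact hp.one_lt.ne hAi
  have htop : A ⊔ Subgroup.zpowers x = ⊤ := by
    apply eq_top_of_lt_of_index_prime hp hAi
    refine lt_of_le_of_ne le_sup_left ?_
    intro h
    apply hx
    rw [h]
    exact (le_sup_right : Subgroup.zpowers x ≤ A ⊔ Subgroup.zpowers x) (Subgroup.mem_zpowers x)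
  have hZle : ∀ B : Subgroup S, IsMulCommutative ↥B → B.index = p → Subgroup.center S ≤ B :=
    fun B hB hBi => center_le_of_abelian_index_prime hp hna hB hBi
  have hZA : Subgroup.center S ≤ A := hZle A hA hAi
  have h1 : (Subgroup.center S).relIndex A = Nat.card (commutator S) :=
    relIndex_center_eq_card_commutator A hA x htop
  have hidx : (Subgroup.center S).index = p * Nat.card (commutator S) := by
    rw [← h1, ← hAi, mul_comm]
    exact (Subgroup.relIndex_mul_index hZA).symm
  refine ⟨hidx, ?_⟩
  -- a second abelian subgroup of index p forces index p²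
  have hsecond : ∀ B : Subgroup S, IsMulCommutative ↥B → B.index = p → B ≠ A →
      (Subgroup.center S).index = p ^ 2 := by
    intro B hB hBi hne
    haveI hBn : B.Normal := normal_of_index_eq_p hS hBi
    have hnle : ¬ B ≤ A := by
      intro hle
      apply hne
      apply Subgroup.eq_of_le_of_card_ge hle
      have e1 := Subgroup.card_mul_index A
      have e2 := Subgroup.card_mul_index B
      rw [hAi] at e1
      rw [hBi, ← e1] at e2
      exact (Nat.eq_of_mul_eq_mul_right hp.pos e2).ge
    have hAB : A ⊔ B = ⊤ := by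
      apply eq_top_of_lt_of_index_prime hp hAi
      refine lt_of_le_of_ne le_sup_left ?_
      intro h
      apply hnle
      rw [h]; exact le_sup_right
    have hinf : A ⊓ B = Subgroup.center S := by
      apply le_antisymm
      · intro g hg
        have h2 : A ⊔ B ≤ Subgroup.centralizer ({g} : Set S) := by
          apply sup_le
          · intro b hb
            rw [Subgroup.mem_centralizer_singleton_iff]
            exact congrArg Subtype.val (hA.is_comm.comm ⟨b, hb⟩ ⟨g, hg.1⟩)
          · intro b hb
            rw [Subgroup.mem_centralizer_singleton_iff]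
            exact congrArg Subtype.val (hB.is_comm.comm ⟨b, hb⟩ ⟨g, hg.2⟩)
        rw [hAB] at h2
        rw [Subgroup.mem_center_iff]
        intro s
        have := h2 (Subgroup.mem_top s)
        rw [Subgroup.mem_centralizer_singleton_iff] at this
        exact this
      · exact le_inf hZA (hZle B hB hBi)
    have h3 : B.relIndex A = p := by
      have := Subgroup.relIndex_sup_left (K := B) (H := A)
      rw [sup_comm, hAB, Subgroup.relIndex_top_right, hBi] at this
      exact this.symm
    have h4 : (A ⊓ B).relIndex A = p := by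
      rw [inf_comm, Subgroup.inf_relIndex_right, h3]
    rw [← hinf, ← Subgroup.relIndex_mul_index (inf_le_left : A ⊓ B ≤ A), h4, hAi, sq]
  -- the order of the commutator subgroup
  obtain ⟨k, hk⟩ := IsPGroup.iff_card.mp (hS.to_subgroup (commutator S))
  have hk0 : k ≠ 0 := by
    rintro rfl
    rw [pow_zero, Subgroup.card_eq_one, commutator_eq_bot_iff_center_eq_top] at hk
    apply hna
    refine ⟨⟨fun a b => ?_⟩⟩
    have : a ∈ Subgroup.center S := by rw [hk]; exact Subgroup.mem_top a
    exact (Subgroup.mem_center_iff.mp this b).symm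
  by_cases hk1 : k = 1
  · left
    subst hk1
    rw [pow_one] at hk
    have hcardT : Nat.card (S ⧸ Subgroup.center S) = p ^ 2 := by
      have : Nat.card (S ⧸ Subgroup.center S) = (Subgroup.center S).index := rfl
      rw [this, hidx, hk, sq]
    refine ⟨hk, ⟨?_, ?_⟩, hcardT, ?_⟩
    · haveI : IsMulCommutative (S ⧸ Subgroup.center S) :=
        IsPGroup.isMulCommutative_of_card_eq_prime_sq hcardT
      infer_instance
    · intro a _
      exact exp_quot hna hcardT a
    · rw [← card_subgroups_of_order_p hcardT (exp_quot hna hcardT)]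
      set π := QuotientGroup.mk' (Subgroup.center S) with hπ
      have hπs : Function.Surjective π := QuotientGroup.mk'_surjective _
      have hker : π.ker = Subgroup.center S := QuotientGroup.ker_mk' _
      have hcard_of_index : ∀ C : Subgroup (S ⧸ Subgroup.center S), C.index = p ↔ Nat.card C = p := by
        intro C
        have e := Subgroup.card_mul_index C
        rw [hcardT, sq] at e
        constructor
        · intro h
          rw [h] at e
          exact Nat.eq_of_mul_eq_mul_right hp.pos e
        · intro h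
          rw [h] at e
          exact Nat.eq_of_mul_eq_mul_left hp.pos e
      refine Nat.card_congr
        { toFun := fun B => ⟨B.1.map π, ?_⟩
          invFun := fun C => ⟨C.1.comap π, comap_comm C.1 C.2, ?_⟩
          left_inv := ?_
          right_inv := ?_ }
      · rw [← hcard_of_index]
        have hle : π.ker ≤ B.1 := by rw [hker]; exact hZle B.1 B.2.1 B.2.2
        have := Subgroup.index_map_eq (H := B.1) hπs hle
        rw [this]
        exact B.2.2
      · have := Subgroup.index_comap_of_surjective C.1 hπs
        rw [this, hcard_of_index]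
        exact C.2
      · intro B
        apply Subtype.ext
        show (B.1.map π).comap π = B.1
        rw [Subgroup.comap_map_eq, hker, sup_of_le_left (hZle B.1 B.2.1 B.2.2)]
      · intro C
        apply Subtype.ext
        show (C.1.comap π).map π = C.1
        exact Subgroup.map_comap_eq_self_of_surjective hπs C.1
  · right
    have hk2 : 2 ≤ k := by omega
    have hle : p ^ 2 ≤ Nat.card (commutator S) := by
      rw [hk]; exact Nat.pow_le_pow_right hp.pos hk2
    refine ⟨hle, ?_⟩
    intro B hB hBi
    by_contra hne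
    have := hsecond B hB hBi hne
    rw [hidx, sq] at this
    have h5 : Nat.card (commutator S) = p := Nat.eq_of_mul_eq_mul_left hp.pos this
    rw [h5] at hle
    have : p < p ^ 2 := by
      rw [sq]; exact lt_mul_self hp.one_lt
    omega

end Cfsg.Agent.S3807
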