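import Cfsg.Statements.S3808
import Mathlib
import Cfsg.Agent.Lib.Helper10.PGroup
import Cfsg.Agent.Lib.Helper9.Layer2

set_option autoImplicit false
open Cfsg

namespace Cfsg.Agent.S3808

/-- a subgroup of a group of prime order is trivial or everything (stated via cardinalities) -/
lemma eq_of_le_of_card_prime {G : Type*} [Group G] [Finite G] {p : ℕ} (hp : p.Prime)
    {A B : Subgroup G} (hAB : A ≤ B) (hA : A ≠ ⊥) (hB : Nat.card B = p) : A = B := by
  have h1 : Nat.card A ∣ Nat.card B := Subgroup.card_dvd_of_le hAB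
  rw [hB] at h1
  rcases (Nat.dvd_prime hp).mp h1 with h | h
  · exact absurd (Subgroup.card_eq_one.mp h) hA
  · exact Subgroup.eq_of_le_of_card_ge hAB (by rw [h, hB])

theorem result {S : Type*} [Group S] [Finite S] (p : ℕ) [Fact p.Prime] (hS : IsPGroup p S) (Q : Subgroup S) (hQ : Cfsg.IsExtraspecial p ↥Q) (hQi : Q.index = p) :
    Subgroup.center S = (Subgroup.center ↥Q).map Q.subtype ∨
      (Q ⊔ Subgroup.center S = ⊤ ∧ Nat.card (Subgroup.center S) = p ^ 2) := by
  have hp : p.Prime := Fact.out
  -- Q normal
  haveI hQn : Q.Normal := by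
    apply Subgroup.normal_of_index_eq_minFac_card
    obtain ⟨n, hn⟩ := IsPGroup.iff_card.mp hS
    have hn0 : n ≠ 0 := by
      rintro rfl
      rw [pow_zero] at hn
      have h1 : Q.index ∣ Nat.card S := Subgroup.index_dvd_card Q
      rw [hn, hQi] at h1
      exact hp.one_lt.ne' (Nat.dvd_one.mp h1)
    rw [hQi, hn, Nat.Prime.pow_minFac hp hn0]
  set ZQ := (Subgroup.center ↥Q).map Q.subtype with hZQ
  have hZQeq : ZQ = Q ⊓ Subgroup.centralizer (Q : Set S) :=
    Cfsg.Agent.Lib.Helper9.map_center_eq_inf_centralizer Q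
  have hZQcard : Nat.card ZQ = p := by
    rw [hZQ, ← hQ.2]
    exact (Nat.card_congr ((Subgroup.center ↥Q).equivMapOfInjective _ Q.subtype_injective).toEquiv).symm
  haveI hZQn : ZQ.Normal := by
    rw [hZQeq]
    haveI : (Subgroup.centralizer (Q : Set S)).Normal := Subgroup.normal_centralizer
    infer_instance
  have hZQne : ZQ ≠ ⊥ := by
    intro h
    rw [h, Subgroup.card_bot] at hZQcard
    exact hp.one_lt.ne hZQcard
  -- ZQ central in S
  have hZQle : ZQ ≤ Subgroup.center S := by
    have h1 := Cfsg.Agent.Lib.Helper10.normal_inf_center_ne_bot hS ZQ hZQne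
    have h2 : ZQ ⊓ Subgroup.center S = ZQ := eq_of_le_of_card_prime hp inf_le_left h1 hZQcard
    rw [← h2]; exact inf_le_right
  -- Z(S) ∩ Q = ZQ
  have hinf : Q ⊓ Subgroup.center S = ZQ := by
    apply le_antisymm
    · rw [hZQeq]
      exact inf_le_inf le_rfl (Subgroup.center_le_centralizer _)
    · refine le_inf ?_ hZQle
      rw [hZQeq]; exact inf_le_left
  by_cases hle : Subgroup.center S ≤ Q
  · left
    rw [← hinf]
    exact (inf_of_le_right hle).symm
  · right
    have hlt : Q < Q ⊔ Subgroup.center S := by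
      refine lt_of_le_of_ne le_sup_left ?_
      intro h
      apply hle
      rw [h]; exact le_sup_right
    have htop : Q ⊔ Subgroup.center S = ⊤ := by
      -- index of the join divides p and is not p
      have h1 : (Q ⊔ Subgroup.center S).index ∣ Q.index := Subgroup.index_dvd_of_le le_sup_left
      rw [hQi] at h1
      rcases (Nat.dvd_prime hp).mp h1 with h | h
      · exact Subgroup.index_eq_one.mp h
      · exfalso
        have h2 := Subgroup.relIndex_mul_index (le_sup_left : Q ≤ Q ⊔ Subgroup.center S)
        rw [h, hQi] at h2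
        have h3 : Q.relIndex (Q ⊔ Subgroup.center S) = 1 := by
          have := hp.pos
          exact Nat.eq_of_mul_eq_mul_right this (by rw [h2, one_mul])
        rw [Subgroup.relIndex_eq_one] at h3
        exact hlt.not_ge h3
    refine ⟨htop, ?_⟩
    -- |Z(S)| = |Z(S) : Z(S) ∩ Q| * |Z(S) ∩ Q|
    have h1 : Q.relIndex (Subgroup.center S) = p := by
      have := Subgroup.relIndex_sup_left (K := Q) (H := Subgroup.center S)
      rw [← this, htop, Subgroup.relIndex_top_right, hQi]
    have h2 : (Q ⊓ Subgroup.center S).relIndex (Subgroup.center S) * Nat.card ↥(Q ⊓ Subgroup.center S)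
        = Nat.card (Subgroup.center S) := by
      have := Subgroup.relIndex_mul_relIndex ⊥ (Q ⊓ Subgroup.center S) (Subgroup.center S)
        bot_le inf_le_right
      rw [Subgroup.relIndex_bot_left, Subgroup.relIndex_bot_left] at this
      rw [mul_comm]
      exact this
    rw [Subgroup.inf_relIndex_right, h1, hinf, hZQcard] at h2
    rw [← h2, sq]

end Cfsg.Agent.S3808
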