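import Cfsg.Statements.S3809
import Cfsg.Agent.Lib.Helper1.ExtraspecialOrder
import Cfsg.Agent.Lib.Helper1.ClassTwo

set_option autoImplicit false
open Cfsg

namespace Cfsg.Agent.S3809

variable {S : Type*} [Group S] [Finite S]

theorem card_eq (p : ℕ) [Fact p.Prime] (Q : Subgroup S) (hQ : Cfsg.IsExtraspecial p ↥Q)
    (hQi : Q.index = p) : ∃ n : ℕ, 1 ≤ n ∧ Nat.card S = p ^ (2 + 2 * n) := by
  obtain ⟨n, hn1, hQcard⟩ := Cfsg.Agent.Lib.Helper1.IsExtraspecial.card_eq hQ
  refine ⟨n, hn1, ?_⟩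
  rw [← Subgroup.card_mul_index Q, hQi, hQcard]
  ring

theorem normal_of_index (p : ℕ) [Fact p.Prime] (Q : Subgroup S) (hQ : Cfsg.IsExtraspecial p ↥Q)
    (hQi : Q.index = p) : Q.Normal := by
  obtain ⟨n, _, hcard⟩ := card_eq p Q hQ hQi
  apply Subgroup.normal_of_index_eq_minFac_card
  rw [hQi, hcard, Nat.Prime.pow_minFac (Fact.out : p.Prime) (by omega)]

theorem commutator_le (p : ℕ) [Fact p.Prime] (Q : Subgroup S) (hQ : Cfsg.IsExtraspecial p ↥Q)
    (hQi : Q.index = p) : commutator S ≤ Q := by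
  haveI := normal_of_index p Q hQ hQi
  apply Subgroup.Normal.quotient_commutative_iff_commutator_le.mp
  have hc : Nat.card (S ⧸ Q) = p := by rw [← Subgroup.index_eq_card]; exact hQi
  haveI : IsCyclic (S ⧸ Q) := isCyclic_of_prime_card hc
  exact ⟨⟨IsCyclic.commGroup.mul_comm⟩⟩

theorem pow_mem (p : ℕ) [Fact p.Prime] (Q : Subgroup S) (hQ : Cfsg.IsExtraspecial p ↥Q)
    (hQi : Q.index = p) (x : S) : x ^ p ∈ Q := by
  haveI := normal_of_index p Q hQ hQi
  have hc : Nat.card (S ⧸ Q) = p := by rw [← Subgroup.index_eq_card]; exact hQi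
  have h1 : (QuotientGroup.mk' Q x) ^ p = 1 := by
    rw [← hc]; exact pow_card_eq_one'
  rw [← map_pow] at h1
  exact (QuotientGroup.eq_one_iff _).mp h1

/-- Let S be a finite p-group with an extraspecial subgroup of index p. Then S has order p^(2+2n) for some n ≥ 1, derived length at most 3, and exponent dividing p³. -/
theorem result {S : Type*} [Group S] [Finite S] (p : ℕ) [Fact p.Prime] (hS : IsPGroup p S) (Q : Subgroup S) (hQ : Cfsg.IsExtraspecial p ↥Q) (hQi : Q.index = p) :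
    (∃ n : ℕ, 1 ≤ n ∧ Nat.card S = p ^ (2 + 2 * n)) ∧ derivedSeries S 3 = ⊥ ∧ ∀ x : S, x ^ (p ^ 3) = 1 := by
  refine ⟨card_eq p Q hQ hQi, ?_, ?_⟩
  · -- derived length
    have h1 : derivedSeries S 1 ≤ Q := by
      rw [derivedSeries_succ, derivedSeries_zero, ← commutator_def]
      exact commutator_le p Q hQ hQi
    have hZ : ⁅Q, Q⁆ = (Subgroup.center ↥Q).map Q.subtype := by
      have := Subgroup.map_commutator (⊤ : Subgroup ↥Q) ⊤ Q.subtype
      rw [← MonoidHom.range_eq_map, Subgroup.range_subtype, ← commutator_def, hQ.1.2.2] at this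
      exact this.symm
    have h2 : derivedSeries S 2 ≤ (Subgroup.center ↥Q).map Q.subtype := by
      rw [derivedSeries_succ, ← hZ]
      exact Subgroup.commutator_mono h1 h1
    have h3 : derivedSeries S 3 ≤ ⁅(Subgroup.center ↥Q).map Q.subtype,
        (Subgroup.center ↥Q).map Q.subtype⁆ := by
      rw [derivedSeries_succ]
      exact Subgroup.commutator_mono h2 h2
    have h4 : ⁅(Subgroup.center ↥Q).map Q.subtype, (Subgroup.center ↥Q).map Q.subtype⁆ = ⊥ := by
      rw [← Subgroup.map_commutator, Subgroup.commutator_eq_bot_iff_le_centralizer.mpr, Subgroup.map_bot]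
      intro z hz
      rw [Subgroup.mem_centralizer_iff]
      intro y _
      exact (Subgroup.mem_center_iff.mp hz y)
    rw [h4] at h3
    exact le_bot_iff.mp h3
  · intro x
    have hx : x ^ p ∈ Q := pow_mem p Q hQ hQi x
    have h1 : (⟨x ^ p, hx⟩ : ↥Q) ^ p ∈ Subgroup.center ↥Q := by
      rw [← hQ.1.2.1]
      exact Cfsg.Agent.Lib.Helper1.IsPGroup.pow_mem_frattini hQ.1.1 _
    have h2 := Cfsg.Agent.Lib.Helper1.IsSpecial.pow_eq_one_of_mem_center hQ.1 _ h1
    have h3 := congrArg Subtype.val h2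
    simp only [Subgroup.coe_pow, Subgroup.coe_one] at h3
    rw [show p ^ 3 = p * p * p by ring, pow_mul, pow_mul]
    exact h3

end Cfsg.Agent.S3809
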