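import Cfsg.Statements.S3810
import Cfsg.Agent.S3809
import Cfsg.Agent.Lib.Helper10.PGroup

set_option autoImplicit false
open Cfsg

namespace Cfsg.Agent.S3810

open scoped commutatorElement

theorem eq_top_of_lt_of_index_prime {G : Type*} [Group G] {p : ℕ} (hp : p.Prime)
    {H K : Subgroup G} (hHK : H < K) (hH : H.index = p) : K = ⊤ := by
  have h1 : K.index ∣ p := hH ▸ Subgroup.index_dvd_of_le hHK.le
  rcases (Nat.dvd_prime hp).mp h1 with h | h
  · exact Subgroup.index_eq_one.mp h
  · exfalso
    have h2 := Subgroup.relIndex_mul_index hHK.le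
    rw [h, hH] at h2
    have h3 : H.relIndex K = 1 :=
      Nat.eq_of_mul_eq_mul_right hp.pos (by rw [h2, one_mul])
    exact hHK.not_ge (Subgroup.relIndex_eq_one.mp h3)

/-- an extraspecial group with an abelian subgroup of index dividing `p` has order at most `p³` -/
theorem card_le_of_abelian_index {P : Type*} [Group P] [Finite P] (p : ℕ) [Fact p.Prime]
    (hP : Cfsg.IsExtraspecial p P) (B : Subgroup P) (hB : ∀ x ∈ B, ∀ y ∈ B, x * y = y * x)
    (hBi : B.index ∣ p) : Nat.card P ≤ p ^ 3 := by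
  have hp : p.Prime := Fact.out
  obtain ⟨⟨hPp, hΦ, hD⟩, hZ⟩ := hP
  have hcl : ∀ a b : P, ⁅a, b⁆ ∈ Subgroup.center P := by
    intro a b
    rw [← hD]
    exact Subgroup.commutator_mem_commutator (Subgroup.mem_top a) (Subgroup.mem_top b)
  rcases (Nat.dvd_prime hp).mp hBi with h1 | h1
  · exfalso
    have hBtop : B = ⊤ := Subgroup.index_eq_one.mp h1
    have hcomm : commutator P = ⊥ := by
      rw [commutator_def, Subgroup.commutator_eq_bot_iff_le_centralizer]
      intro x _
      rw [Subgroup.mem_centralizer_iff]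
      intro y _
      exact hB y (hBtop ▸ Subgroup.mem_top y) x (hBtop ▸ Subgroup.mem_top x)
    rw [hD] at hcomm
    rw [hcomm, Subgroup.card_bot] at hZ
    exact hp.one_lt.ne hZ
  · have hne : B ≠ ⊤ := by
      intro h; rw [h, Subgroup.index_top] at h1; exact hp.one_lt.ne h1
    obtain ⟨g₀, hg₀⟩ : ∃ g₀ : P, g₀ ∉ B := by
      by_contra hcon
      push Not at hcon
      exact hne (eq_top_iff.mpr fun x _ => hcon x)
    have hstar : B ⊓ Subgroup.centralizer {g₀} ≤ Subgroup.center P := by
      intro z hz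
      obtain ⟨hzB, hzg⟩ := Subgroup.mem_inf.mp hz
      have hlt : B < Subgroup.centralizer {z} := by
        refine lt_of_le_of_ne ?_ ?_
        · intro b hb
          rw [Subgroup.mem_centralizer_singleton_iff]
          exact hB b hb z hzB
        · intro h
          apply hg₀
          rw [h, Subgroup.mem_centralizer_singleton_iff]
          exact (Subgroup.mem_centralizer_singleton_iff.mp hzg).symm
      have htop := eq_top_of_lt_of_index_prime hp hlt h1
      rw [Subgroup.mem_center_iff]
      intro g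
      have hg : g ∈ Subgroup.centralizer {z} := htop ▸ Subgroup.mem_top g
      exact Subgroup.mem_centralizer_singleton_iff.mp hg
    have hcard1 : Nat.card (B ⊓ Subgroup.centralizer {g₀} : Subgroup P) ∣ p :=
      hZ ▸ Subgroup.card_dvd_of_le hstar
    have hle1 : Nat.card (B ⊓ Subgroup.centralizer {g₀} : Subgroup P) ≤ p :=
      Nat.le_of_dvd hp.pos hcard1
    have hBcard : Nat.card B ≤ p ^ 2 := by
      by_cases hex : ∃ b ∈ B, ⁅g₀, b⁆ ≠ 1
      · obtain ⟨b, hb, hgb⟩ := hex
        obtain ⟨h2, -⟩ :=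
          Cfsg.Agent.Lib.Helper1.card_eq_mul_card_inf_centralizer hcl hZ B g₀ b hb hgb
        rw [h2, pow_two]
        exact Nat.mul_le_mul_left p hle1
      · push Not at hex
        have hBle : B ≤ B ⊓ Subgroup.centralizer {g₀} := by
          intro b hb
          refine Subgroup.mem_inf.mpr ⟨hb, ?_⟩
          rw [Subgroup.mem_centralizer_singleton_iff]
          exact ((commutatorElement_eq_one_iff_mul_comm).mp (hex b hb)).symm
        calc Nat.card B ≤ Nat.card (B ⊓ Subgroup.centralizer {g₀} : Subgroup P) :=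
              Subgroup.card_le_of_le hBle
          _ ≤ p := hle1
          _ ≤ p ^ 2 := by nlinarith [hp.pos]
    rw [← Subgroup.card_mul_index B, h1]
    calc Nat.card B * p ≤ p ^ 2 * p := Nat.mul_le_mul_right p hBcard
      _ = p ^ 3 := by ring

theorem forward {S : Type*} [Group S] [Finite S] (p : ℕ) [Fact p.Prime] (Q : Subgroup S)
    (hQ : Cfsg.IsExtraspecial p ↥Q) (hQi : Q.index = p) (A : Subgroup S)
    (hA : IsMulCommutative ↥A) (hAi : A.index = p) : Nat.card S = p ^ 4 := by
  have hp : p.Prime := Fact.out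
  obtain ⟨n, hn1, hcard⟩ := Cfsg.Agent.S3809.card_eq p Q hQ hQi
  haveI hAn : A.Normal := by
    apply Subgroup.normal_of_index_eq_minFac_card
    rw [hAi, hcard, Nat.Prime.pow_minFac hp (by omega)]
  have hBi : (A.subgroupOf Q).index ∣ p := by
    have h0 : (A.subgroupOf Q).index = A.relIndex Q := rfl
    rw [h0, ← hAi]
    exact Subgroup.relIndex_dvd_index_of_normal A Q
  have hB : ∀ x ∈ A.subgroupOf Q, ∀ y ∈ A.subgroupOf Q, x * y = y * x := by
    intro x hx y hy
    rw [Subgroup.mem_subgroupOf] at hx hy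
    have h0 := hA.is_comm.comm (⟨x, hx⟩ : A) ⟨y, hy⟩
    have h1 : (x : S) * (y : S) = (y : S) * (x : S) := congrArg Subtype.val h0
    exact Subtype.ext h1
  have hle := card_le_of_abelian_index p hQ (A.subgroupOf Q) hB hBi
  obtain ⟨m, hm1, hQcard⟩ := Cfsg.Agent.Lib.Helper1.IsExtraspecial.card_eq hQ
  rw [hQcard] at hle
  have h3 : 2 * m + 1 ≤ 3 := (Nat.pow_le_pow_iff_right hp.one_lt).mp hle
  have hm : m = 1 := by omega
  rw [← Subgroup.card_mul_index Q, hQi, hQcard, hm]
  ring

theorem backward {S : Type*} [Group S] [Finite S] (p : ℕ) [Fact p.Prime] (hS : IsPGroup p S)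
    (Q : Subgroup S) (hQ : Cfsg.IsExtraspecial p ↥Q) (hQi : Q.index = p)
    (hcard : Nat.card S = p ^ 4) : ∃ A : Subgroup S, IsMulCommutative ↥A ∧ A.index = p := by
  have hp : p.Prime := Fact.out
  haveI hQn : Q.Normal := Cfsg.Agent.S3809.normal_of_index p Q hQ hQi
  have hQcard : Nat.card Q = p ^ 3 := by
    have h0 := Subgroup.card_mul_index Q
    rw [hQi, hcard] at h0
    exact Nat.eq_of_mul_eq_mul_right hp.pos (by rw [h0]; ring)
  set Zs : Subgroup S := (Subgroup.center ↥Q).map Q.subtype with hZs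
  have hZcard : Nat.card Zs = p := by
    rw [hZs, Subgroup.card_map_of_injective Q.subtype_injective]
    exact hQ.2
  have hZle : Zs ≤ Q := Subgroup.map_subtype_le _
  haveI hZn : Zs.Normal := by
    constructor
    intro z hz g
    obtain ⟨z', hz', rfl⟩ := Subgroup.mem_map.mp hz
    have hmem : g * (z' : S) * g⁻¹ ∈ Q := hQn.conj_mem _ z'.2 g
    refine Subgroup.mem_map.mpr ⟨⟨_, hmem⟩, ?_, rfl⟩
    rw [Subgroup.mem_center_iff]
    intro q
    apply Subtype.ext
    show (q : S) * (g * z' * g⁻¹) = (g * z' * g⁻¹) * q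
    have hq' : g⁻¹ * (q : S) * g ∈ Q := by
      have h0 := hQn.conj_mem _ q.2 g⁻¹
      rwa [inv_inv] at h0
    have h1 := Subgroup.mem_center_iff.mp hz' ⟨_, hq'⟩
    have h2 : g⁻¹ * (q : S) * g * (z' : S) = (z' : S) * (g⁻¹ * (q : S) * g) :=
      congrArg Subtype.val h1
    calc (q : S) * (g * z' * g⁻¹) = g * ((g⁻¹ * q * g) * z') * g⁻¹ := by group
      _ = g * (z' * (g⁻¹ * q * g)) * g⁻¹ := by rw [h2]
      _ = (g * z' * g⁻¹) * q := by group
  have hZc : Zs ≤ Subgroup.center S := by
    have hne : Zs ≠ ⊥ := by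
      intro h
      rw [h, Subgroup.card_bot] at hZcard
      exact hp.one_lt.ne hZcard
    have h1 := Cfsg.Agent.Lib.Helper10.normal_inf_center_ne_bot hS Zs hne
    have h2 : Nat.card (Zs ⊓ Subgroup.center S : Subgroup S) ∣ p :=
      hZcard ▸ Subgroup.card_dvd_of_le inf_le_left
    rcases (Nat.dvd_prime hp).mp h2 with h3 | h3
    · exact absurd (Subgroup.card_eq_one.mp h3) h1
    · have h4 : Zs ⊓ Subgroup.center S = Zs :=
        Subgroup.eq_of_le_of_card_ge inf_le_left (by rw [h3, hZcard])
      rw [← h4]; exact inf_le_right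
  obtain ⟨a, haQ, haZ, hacomm⟩ : ∃ a ∈ Q, a ∉ Zs ∧ ∀ g : S, ⁅g, a⁆ ∈ Zs := by
    haveI : (Q.map (QuotientGroup.mk' Zs)).Normal :=
      Subgroup.Normal.map hQn _ (QuotientGroup.mk'_surjective Zs)
    have hne : Q.map (QuotientGroup.mk' Zs) ≠ ⊥ := by
      intro h
      rw [Subgroup.map_eq_bot_iff, QuotientGroup.ker_mk'] at h
      have h0 := Subgroup.card_le_of_le h
      rw [hQcard, hZcard] at h0
      have h1 : p ^ 3 ≤ p ^ 1 := by simpa using h0
      have h2 := (Nat.pow_le_pow_iff_right hp.one_lt).mp h1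
      omega
    have h1 := Cfsg.Agent.Lib.Helper10.normal_inf_center_ne_bot (hS.to_quotient Zs)
      (Q.map (QuotientGroup.mk' Zs)) hne
    obtain ⟨x, hx, hx1⟩ : ∃ x ∈ Q.map (QuotientGroup.mk' Zs) ⊓ Subgroup.center (S ⧸ Zs),
        x ≠ 1 := by
      by_contra hcon
      push Not at hcon
      exact h1 ((Subgroup.eq_bot_iff_forall _).mpr hcon)
    obtain ⟨hxQ, hxc⟩ := Subgroup.mem_inf.mp hx
    obtain ⟨a, haQ, rfl⟩ := Subgroup.mem_map.mp hxQ
    refine ⟨a, haQ, ?_, ?_⟩
    · intro ha
      apply hx1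
      exact (QuotientGroup.eq_one_iff a).mpr ha
    · intro g
      rw [← QuotientGroup.eq_one_iff]
      show QuotientGroup.mk' Zs ⁅g, a⁆ = 1
      rw [map_commutatorElement, commutatorElement_eq_one_iff_mul_comm]
      exact Subgroup.mem_center_iff.mp hxc _
  let κ : S →* Zs :=
    { toFun := fun g => ⟨⁅g, a⁆, hacomm g⟩
      map_one' := by apply Subtype.ext; simp
      map_mul' := by
        intro g h
        apply Subtype.ext
        show ⁅g * h, a⁆ = ⁅g, a⁆ * ⁅h, a⁆
        have hc := Subgroup.mem_center_iff.mp (hZc (hacomm h))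
        have e : ⁅g * h, a⁆ = g * ⁅h, a⁆ * g⁻¹ * ⁅g, a⁆ := by
          simp only [commutatorElement_def]; group
        rw [e, hc g, mul_inv_cancel_right]
        exact (hc _).symm }
  have hker : κ.ker = Subgroup.centralizer {a} := by
    ext g
    rw [MonoidHom.mem_ker, Subgroup.mem_centralizer_singleton_iff]
    have h0 : κ g = 1 ↔ ⁅g, a⁆ = 1 :=
      ⟨fun h => congrArg Subtype.val h, fun h => Subtype.ext h⟩
    rw [h0, commutatorElement_eq_one_iff_mul_comm]
  set A : Subgroup S := Subgroup.centralizer ({a} : Set S) with hA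
  have hAidx : A.index ∣ p := by
    rw [← hker, Subgroup.index_ker, ← hZcard]
    exact Subgroup.card_subgroup_dvd_card _
  have hAne : A ≠ ⊤ := by
    intro h
    apply haZ
    refine Subgroup.mem_map.mpr ⟨⟨a, haQ⟩, ?_, rfl⟩
    rw [Subgroup.mem_center_iff]
    intro q
    apply Subtype.ext
    show (q : S) * a = a * q
    have hq : (q : S) ∈ A := h ▸ Subgroup.mem_top _
    exact Subgroup.mem_centralizer_singleton_iff.mp hq
  have hAi : A.index = p := by
    rcases (Nat.dvd_prime hp).mp hAidx with h | h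
    · exact absurd (Subgroup.index_eq_one.mp h) hAne
    · exact h
  have hAcard : Nat.card A = p ^ 3 := by
    have h0 := Subgroup.card_mul_index A
    rw [hAi, hcard] at h0
    exact Nat.eq_of_mul_eq_mul_right hp.pos (by rw [h0]; ring)
  refine ⟨A, ?_, hAi⟩
  -- the central subgroup `N = Zs ⊔ ⟨a⟩` of `A`
  set N : Subgroup S := Zs ⊔ Subgroup.zpowers a with hN
  have haA : a ∈ A := Subgroup.mem_centralizer_singleton_iff.mpr rfl
  have hNA : N ≤ A := by
    apply sup_le
    · intro z hz
      rw [hA, Subgroup.mem_centralizer_singleton_iff]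
      exact (Subgroup.mem_center_iff.mp (hZc hz) a).symm
    · rw [Subgroup.zpowers_le]; exact haA
  have hNc : N ≤ Subgroup.centralizer (A : Set S) := by
    apply sup_le
    · intro z hz
      rw [Subgroup.mem_centralizer_iff]
      intro x _
      exact Subgroup.mem_center_iff.mp (hZc hz) x
    · rw [Subgroup.zpowers_le, Subgroup.mem_centralizer_iff]
      intro x hx
      exact Subgroup.mem_centralizer_singleton_iff.mp hx
  have hNcard : p ^ 2 ∣ Nat.card N := by
    obtain ⟨k, hk⟩ := (hS.to_subgroup N).exists_card_eq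
    have hk2 : 2 ≤ k := by
      by_contra hlt
      have hk1 : k ≤ 1 := by omega
      have h0 : Nat.card N ≤ p := by
        rw [hk]
        calc p ^ k ≤ p ^ 1 := Nat.pow_le_pow_right hp.pos hk1
          _ = p := pow_one p
      have h1 : Zs = N := Subgroup.eq_of_le_of_card_ge le_sup_left (by rw [hZcard]; exact h0)
      apply haZ
      rw [h1]
      exact (le_sup_right : Subgroup.zpowers a ≤ N) (Subgroup.mem_zpowers a)
    rw [hk]
    exact pow_dvd_pow p hk2
  have hle : N.subgroupOf A ≤ Subgroup.center ↥A := by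
    intro x hx
    rw [Subgroup.mem_subgroupOf] at hx
    rw [Subgroup.mem_center_iff]
    intro y
    apply Subtype.ext
    show (y : S) * x = x * y
    exact Subgroup.mem_centralizer_iff.mp (hNc hx) y y.2
  have hcc : p ^ 2 ∣ Nat.card (Subgroup.center ↥A) := by
    have h0 : Nat.card (N.subgroupOf A) = Nat.card N :=
      Nat.card_congr (Subgroup.subgroupOfEquivOfLe hNA).toEquiv
    exact dvd_trans (h0 ▸ hNcard) (Subgroup.card_dvd_of_le hle)
  have hqi : (Subgroup.center ↥A).index ∣ p := by
    obtain ⟨t, ht⟩ := hcc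
    have h0 := Subgroup.card_mul_index (Subgroup.center ↥A)
    rw [hAcard, ht] at h0
    have h1 : p ^ 2 * (t * (Subgroup.center ↥A).index) = p ^ 2 * p := by
      rw [← mul_assoc, h0]; ring
    have h2 := Nat.eq_of_mul_eq_mul_left (pow_pos hp.pos 2) h1
    exact Dvd.intro_left t h2
  have hcomm : ∀ x y : ↥A, x * y = y * x := by
    rcases (Nat.dvd_prime hp).mp hqi with h | h
    · have htop := Subgroup.index_eq_one.mp h
      intro x y
      have hy : y ∈ Subgroup.center ↥A := htop ▸ Subgroup.mem_top y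
      exact Subgroup.mem_center_iff.mp hy x
    · haveI : IsCyclic (↥A ⧸ Subgroup.center ↥A) := by
        apply isCyclic_of_prime_card (p := p)
        rw [← Subgroup.index_eq_card]; exact h
      exact (MonoidHom.isMulCommutative_of_isCyclic_of_ker_le_center
        (QuotientGroup.mk' (Subgroup.center ↥A)) (by rw [QuotientGroup.ker_mk'])).is_comm.comm
  exact ⟨⟨hcomm⟩⟩

/-- Let S be a finite p-group with an extraspecial subgroup of index p. Then S has an abelian subgroup of index p if and only if S has order p⁴. -/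
theorem result {S : Type*} [Group S] [Finite S] (p : ℕ) [Fact p.Prime] (hS : IsPGroup p S) (Q : Subgroup S) (hQ : Cfsg.IsExtraspecial p ↥Q) (hQi : Q.index = p) :
    (∃ A : Subgroup S, IsMulCommutative ↥A ∧ A.index = p) ↔ Nat.card S = p ^ 4 := by
  constructor
  · rintro ⟨A, hA, hAi⟩
    exact forward p Q hQ hQi A hA hAi
  · intro hcard
    exact backward p hS Q hQ hQi hcard

end Cfsg.Agent.S3810
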