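import Cfsg.Statements.S3815
import Mathlib
import Cfsg.Agent.Lib.Helper1.Cores

set_option autoImplicit false
open Cfsg

namespace Cfsg.Agent.S3815

theorem orderOf_conj' {G : Type*} [Group G] (k x : G) : orderOf (k * x * k⁻¹) = orderOf x := by
  rw [← MulAut.conj_apply, MulEquiv.orderOf_eq]

/-- the subgroup of elements `x` with `x * g` a `p'`-element for all `p'`-elements `g`. -/
def stab {G : Type*} [Group G] [Finite G] (p : ℕ) : Subgroup G where
  carrier := {x | ∀ g : G, (orderOf g).Coprime p → (orderOf (x * g)).Coprime p}
  one_mem' := by intro g hg; simpa using hg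
  mul_mem' := by
    intro x y hx hy g hg
    rw [mul_assoc]
    exact hx _ (hy _ hg)
  inv_mem' := by
    intro x hx
    have hpow : ∀ n : ℕ, ∀ g : G, (orderOf g).Coprime p → (orderOf (x ^ n * g)).Coprime p := by
      intro n
      induction n with
      | zero => intro g hg; simpa using hg
      | succ n ih =>
        intro g hg
        rw [pow_succ, mul_assoc]
        exact ih _ (hx _ hg)
    have hinv : x⁻¹ = x ^ (orderOf x - 1) := by
      have hpos : 0 < orderOf x := orderOf_pos x
      apply inv_eq_of_mul_eq_one_right
      rw [← pow_succ', Nat.sub_add_cancel hpos, pow_orderOf_eq_one]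
    intro g hg
    rw [hinv]
    exact hpow _ g hg

/-- Let G be a finite group, p a prime and d ∈ G an element of order prime to p. If dg has order prime to p for every element g ∈ G of order prime to p, then d ∈ O_{p'}(G). -/
theorem result {G : Type*} [Group G] [Finite G] {p : ℕ} [Fact p.Prime]
    (d : G) (hd : (orderOf d).Coprime p)
    (h : ∀ g : G, (orderOf g).Coprime p → (orderOf (d * g)).Coprime p) :
    d ∈ Cfsg.pPrimeCore p G := by
  have hp : p.Prime := Fact.out
  have hnorm : (stab (G := G) p).Normal := by
    constructor
    intro x hx k g hg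
    have h1 : (orderOf (k⁻¹ * g * k)).Coprime p := by
      have := orderOf_conj' k⁻¹ g
      rw [inv_inv] at this
      rw [this]; exact hg
    have h2 := hx _ h1
    have h3 : k * x * k⁻¹ * g = k * (x * (k⁻¹ * g * k)) * k⁻¹ := by group
    rw [h3, orderOf_conj']
    exact h2
  have hcop : (Nat.card (stab (G := G) p)).Coprime p := by
    rw [Nat.coprime_comm, Nat.Prime.coprime_iff_not_dvd hp]
    intro hdvd
    obtain ⟨x, hx⟩ := exists_prime_orderOf_dvd_card' p hdvd
    have h1 : (orderOf (x : G)).Coprime p := by
      have := x.2 1 (by simp)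
      simpa using this
    rw [Subgroup.orderOf_coe, hx] at h1
    exact hp.one_lt.ne' ((Nat.coprime_self p).mp h1)
  have hle := Cfsg.Agent.Lib.Helper1.le_pPrimeCore hnorm hcop
  exact hle h

end Cfsg.Agent.S3815
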