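import Cfsg.Statements.S3820
import Mathlib
import Cfsg.Agent.Lib.Helper21.Pronormal

set_option autoImplicit false
open Cfsg

namespace Cfsg.Agent.S3820

open Cfsg.Agent.Lib.Helper21

/-- Call a subgroup H of G pronormal if H and gHg⁻¹ are conjugate inside ⟨H, gHg⁻¹⟩ for every g ∈ G. Let S ≤ H ≤ G be subgroups of a finite group with S pronormal in G (for instance S a Sylow subgroup). Then H is pronormal in G if and only if H and gHg⁻¹ are conjugate inside ⟨H, gHg⁻¹⟩ for every g ∈ N_G(S). In particular H is pronormal whenever N_G(S) ≤ H. -/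
theorem result {G : Type*} [Group G] [Finite G] (S H : Subgroup G) (hSH : S ≤ H)
    (hS : Cfsg.IsPronormal S) :
    Cfsg.IsPronormal H ↔
      ∀ g ∈ Subgroup.normalizer (S : Set G), ∃ w ∈ H ⊔ H.map (MulAut.conj g).toMonoidHom,
        H.map (MulAut.conj g).toMonoidHom = H.map (MulAut.conj w).toMonoidHom := by
  constructor
  · intro h g _
    exact h g
  · intro h g
    obtain ⟨x, hx, hgx⟩ := hS g
    have hJ : S ⊔ cj g S ≤ H ⊔ cj g H := sup_le_sup hSH (cj_mono hSH)
    have hxJ : x ∈ H ⊔ cj g H := hJ hx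
    have hn : x⁻¹ * g ∈ Subgroup.normalizer (S : Set G) := cj_eq_cj_iff.mp hgx
    obtain ⟨w, hw, hnw⟩ := h _ hn
    have hwJ : w ∈ H ⊔ cj g H := by
      have : H ⊔ cj (x⁻¹ * g) H ≤ H ⊔ cj g H := by
        apply sup_le le_sup_left
        rw [cj_mul]
        exact cj_le_of_mem (inv_mem hxJ) le_sup_right
      exact this hw
    refine ⟨x * w, mul_mem hxJ hwJ, ?_⟩
    change cj g H = cj (x * w) H
    rw [cj_mul x w, ← show cj (x⁻¹ * g) H = cj w H from hnw, ← cj_mul]
    congr 1; group

end Cfsg.Agent.S3820
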