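import Cfsg.Statements.S3821
import Mathlib
import Cfsg.Agent.Lib.Helper21.Pronormal

set_option autoImplicit false
open Cfsg

namespace Cfsg.Agent.S3821

open Cfsg.Agent.Lib.Helper21

theorem map_subtype_cj {G : Type*} [Group G] (A : Subgroup G) (a : A) (K : Subgroup A) :
    (cj a K).map A.subtype = cj (a : G) (K.map A.subtype) := by
  ext x
  constructor
  · rintro ⟨y, hy, rfl⟩
    rw [SetLike.mem_coe] at hy
    rw [mem_cj] at hy ⊢
    exact ⟨a⁻¹ * y * a, hy, by simp⟩
  · intro hx
    rw [mem_cj] at hx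
    obtain ⟨y, hy, hyx⟩ := hx
    have hxA : x ∈ A := by
      have : x = (a : G) * (y : G) * (a : G)⁻¹ := by
        have h1 : (y : G) = (a : G)⁻¹ * x * a := hyx
        rw [h1]; group
      rw [this]
      exact mul_mem (mul_mem a.2 y.2) (inv_mem a.2)
    refine ⟨⟨x, hxA⟩, ?_, rfl⟩
    rw [SetLike.mem_coe, mem_cj]
    have : a⁻¹ * ⟨x, hxA⟩ * a = y := by
      apply Subtype.ext
      simp only [Subgroup.coe_mul, Subgroup.coe_inv]
      exact hyx.symm
    rw [this]; exact hy

/-- Let A be a normal subgroup of the finite group G and H a subgroup of A. Then H is pronormal in G (H and gHg⁻¹ conjugate inside ⟨H, gHg⁻¹⟩ for every g ∈ G) if and only if H is pronormal in A and G = A · N_G(H). -/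
theorem result {G : Type*} [Group G] [Finite G] (A H : Subgroup G) [A.Normal] (hHA : H ≤ A) :
    Cfsg.IsPronormal H ↔ (Cfsg.IsPronormal (H.subgroupOf A) ∧ A ⊔ Subgroup.normalizer (H : Set G) = ⊤) := by
  have hmapH : (H.subgroupOf A).map A.subtype = H := by
    rw [Subgroup.map_subgroupOf_eq_of_le hHA]
  have hinj : Function.Injective (Subgroup.map A.subtype) :=
    Subgroup.map_injective A.subtype_injective
  constructor
  · intro h
    refine ⟨?_, IsPronormal.sup_normalizer_eq_top h hHA⟩
    intro a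
    obtain ⟨x, hx, hax⟩ := h (a : G)
    have hle : H ⊔ cj (a : G) H ≤ A := sup_le hHA (cj_le_of_mem a.2 hHA)
    refine ⟨⟨x, hle hx⟩, ?_, ?_⟩
    · have : (H.subgroupOf A ⊔ cj a (H.subgroupOf A)).map A.subtype = H ⊔ cj (a : G) H := by
        rw [Subgroup.map_sup, map_subtype_cj, hmapH]
      have hx' : x ∈ (H.subgroupOf A ⊔ cj a (H.subgroupOf A)).map A.subtype := by
        rw [this]; exact hx
      obtain ⟨y, hy, hyx⟩ := hx'
      have : (⟨x, hle hx⟩ : A) = y := Subtype.ext hyx.symm
      rw [this]; exact hy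
    · apply hinj
      change (cj a (H.subgroupOf A)).map A.subtype = (cj (⟨x, hle hx⟩ : A) (H.subgroupOf A)).map A.subtype
      rw [map_subtype_cj, map_subtype_cj, hmapH]
      exact hax
  · rintro ⟨hA, hsup⟩ g
    have hg : g ∈ A ⊔ Subgroup.normalizer (H : Set G) := by rw [hsup]; trivial
    obtain ⟨a, ha, n, hn, rfl⟩ := Subgroup.mem_sup_of_normal_left.mp hg
    obtain ⟨x, hx, hax⟩ := hA ⟨a, ha⟩
    have hcj : cj (a * n) H = cj a H := by
      rw [cj_mul, cj_eq_self_of_mem_normalizer hn]
    have h1 : (H.subgroupOf A ⊔ cj (⟨a, ha⟩ : A) (H.subgroupOf A)).map A.subtype = H ⊔ cj a H := by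
      rw [Subgroup.map_sup, map_subtype_cj, hmapH]
    refine ⟨(x : G), ?_, ?_⟩
    · change (x : G) ∈ H ⊔ cj (a * n) H
      rw [hcj, ← h1]
      exact ⟨x, hx, rfl⟩
    · change cj (a * n) H = cj (x : G) H
      rw [hcj]
      have := congrArg (Subgroup.map A.subtype) hax
      change (cj (⟨a, ha⟩ : A) (H.subgroupOf A)).map A.subtype = (cj x (H.subgroupOf A)).map A.subtype at this
      rw [map_subtype_cj, map_subtype_cj, hmapH] at this
      exact this

end Cfsg.Agent.S3821
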