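import Cfsg.Statements.S3824
import Mathlib
import Cfsg.Agent.Lib.Helper2.BurnsidePQ

set_option autoImplicit false
open Cfsg

namespace Cfsg.Agent.S3824

universe u

theorem card_mul_relIndex' {G : Type*} [Group G] {K L : Subgroup G} (h : K ≤ L) :
    Nat.card K * K.relIndex L = Nat.card L := by
  have := Subgroup.relIndex_mul_relIndex (⊥ : Subgroup G) K L bot_le h
  rwa [Subgroup.relIndex_bot_left, Subgroup.relIndex_bot_left] at this

theorem relIndex_sup_of_normal' {G : Type*} [Group G] [Finite G] (A N : Subgroup G) [N.Normal] :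
    A.relIndex (A ⊔ N) = A.relIndex N := by
  have h1 := card_mul_relIndex' (inf_le_left : A ⊓ N ≤ A)
  have h2 := card_mul_relIndex' (inf_le_right : A ⊓ N ≤ N)
  have h3 := card_mul_relIndex' (le_sup_right : N ≤ A ⊔ N)
  have h4 := card_mul_relIndex' (le_sup_left : A ≤ A ⊔ N)
  rw [Subgroup.inf_relIndex_left] at h1
  rw [Subgroup.inf_relIndex_right] at h2
  rw [Subgroup.relIndex_sup_right] at h3
  have hpos : 0 < Nat.card A := Nat.card_pos
  have hpos2 : 0 < Nat.card (A ⊓ N : Subgroup G) := Nat.card_pos
  have : Nat.card A * A.relIndex (A ⊔ N) = Nat.card A * A.relIndex N := by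
    rw [h4, ← h3, ← h2, ← h1]; ring
  exact Nat.eq_of_mul_eq_mul_left hpos this

theorem relIndex_dvd_index_of_normal' {G : Type*} [Group G] [Finite G] (A N : Subgroup G) [N.Normal] :
    A.relIndex N ∣ A.index := by
  rw [← relIndex_sup_of_normal']
  exact Subgroup.relIndex_dvd_index_of_le le_sup_left

theorem aux (n : ℕ) : ∀ (G : Type u) [Group G] [Finite G], Nat.card G = n →
    ∀ (A : Subgroup G), IsMulCommutative A → (∃ k : ℕ, A.index = 2 ^ k) → Group.IsSolvable G := by
  induction n using Nat.strong_induction_on with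
  | _ n ih =>
  intro G _ _ hn A hA ⟨k, hk⟩
  classical
  by_cases hnorm : ∃ N : Subgroup G, N.Normal ∧ N ≠ ⊥ ∧ N ≠ ⊤
  · obtain ⟨N, hN, hNbot, hNtop⟩ := hnorm
    have hcardN : Nat.card N < n := by
      rw [← hn]
      apply lt_of_le_of_ne (Subgroup.card_le_card_group N)
      intro h
      exact hNtop ((Subgroup.card_eq_iff_eq_top N).mp h)
    have hcardQ : Nat.card (G ⧸ N) < n := by
      rw [← hn, Subgroup.card_eq_card_quotient_mul_card_subgroup N]
      have h1 : 1 < Nat.card N := by
        rw [Subgroup.one_lt_card_iff_ne_bot]; exact hNbot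
      have h2 : 0 < Nat.card (G ⧸ N) := Nat.card_pos
      nlinarith
    have : Group.IsSolvable N := by
      refine ih _ hcardN N rfl (A.subgroupOf N) ?_ ?_
      · refine ⟨⟨fun a b => ?_⟩⟩
        have := hA.is_comm.comm ⟨a.1.1, a.2⟩ ⟨b.1.1, b.2⟩
        apply Subtype.ext; apply Subtype.ext
        have h2 := congrArg (fun x : A => (x : G)) this
        simpa using h2
      · have hd : A.relIndex N ∣ 2 ^ k := by
          rw [← hk]; exact relIndex_dvd_index_of_normal' A N
        obtain ⟨j, _, hj⟩ := (Nat.dvd_prime_pow Nat.prime_two).mp hd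
        exact ⟨j, hj⟩
    have : Group.IsSolvable (G ⧸ N) := by
      refine ih _ hcardQ (G ⧸ N) rfl (A.map (QuotientGroup.mk' N)) ?_ ?_
      · refine ⟨⟨fun a b => ?_⟩⟩
        obtain ⟨a, ha⟩ := a
        obtain ⟨b, hb⟩ := b
        obtain ⟨x, hx, rfl⟩ := ha
        obtain ⟨y, hy, rfl⟩ := hb
        apply Subtype.ext
        have := hA.is_comm.comm ⟨x, hx⟩ ⟨y, hy⟩
        have h2 := congrArg (fun x : A => (QuotientGroup.mk' N (x : G))) this
        simpa using h2
      · have hd : (A.map (QuotientGroup.mk' N)).index ∣ 2 ^ k := by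
          rw [← hk]
          exact Subgroup.index_map_dvd A (QuotientGroup.mk'_surjective N)
        obtain ⟨j, _, hj⟩ := (Nat.dvd_prime_pow Nat.prime_two).mp hd
        exact ⟨j, hj⟩
    apply Group.isSolvable_of_ker_le_range N.subtype (QuotientGroup.mk' N)
    rw [QuotientGroup.ker_mk', Subgroup.range_subtype]
  · rcases subsingleton_or_nontrivial G with hG | hG
    · infer_instance
    · have : IsSimpleGroup G := ⟨fun H hH => by
        by_contra hcon
        rw [not_or] at hcon
        exact hnorm ⟨H, hH, hcon.1, hcon.2⟩⟩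
      have : Fintype G := Fintype.ofFinite G
      by_cases hAbot : A = ⊥
      · -- G is a 2-group
        have hc : Nat.card G = 2 ^ k := by
          rw [← hk, hAbot, Subgroup.index_bot]
        exact Cfsg.Agent.Lib.Helper2.isSolvable_of_card_prime_pow 2 k Nat.prime_two hc
      · obtain ⟨a, haA, ha1⟩ := (Subgroup.ne_bot_iff_exists_ne_one).mp hAbot |>.imp
          (fun a h => h) |> fun ⟨a, h⟩ => (⟨a.1, a.2, fun h1 => h (Subtype.ext h1)⟩ : ∃ a : G, a ∈ A ∧ a ≠ 1)
        have hle : A ≤ Subgroup.centralizer ({a} : Set G) := by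
          intro x hx
          rw [Subgroup.mem_centralizer_iff]
          intro y hy
          rw [Set.mem_singleton_iff] at hy
          subst hy
          have := hA.is_comm.comm ⟨y, haA⟩ ⟨x, hx⟩
          exact congrArg (fun x : A => (x : G)) this
        have hd : (Subgroup.centralizer ({a} : Set G)).index ∣ 2 ^ k := by
          rw [← hk]; exact Subgroup.index_dvd_of_le hle
        obtain ⟨j, _, hj⟩ := (Nat.dvd_prime_pow Nat.prime_two).mp hd
        have hprime := Cfsg.Agent.Lib.Helper2.prime_card_of_prime_pow_class 2 j Nat.prime_two a ha1 hj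
        have : Fact (Nat.card G).Prime := ⟨hprime⟩
        have : IsCyclic G := isCyclic_of_prime_card rfl
        let _ : CommGroup G := IsCyclic.commGroup
        infer_instance

/-- Every finite group having an abelian subgroup whose index is a power of 2 is solvable. -/
theorem result {G : Type*} [Group G] [Finite G]
    (A : Subgroup G) (hA : IsMulCommutative A) (hidx : ∃ k : ℕ, A.index = 2 ^ k) : Group.IsSolvable G := by
  exact aux _ G rfl A hA hidx

end Cfsg.Agent.S3824
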