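import Cfsg.Statements.S3825
import Mathlib

set_option autoImplicit false
open Cfsg

namespace Cfsg.Agent.S3825

open scoped commutatorElement

/-- conjugation by `t` restricted to `Q` -/
def conjHom {G : Type*} [Group G] (Q : Subgroup G) (t : G) (ht : ∀ x ∈ Q, t * x * t⁻¹ ∈ Q) :
    ↥Q →* ↥Q where
  toFun x := ⟨t * x * t⁻¹, ht x x.2⟩
  map_one' := by ext; simp
  map_mul' x y := by ext; simp

theorem isCyclic_of_card_le_three {G : Type*} [Group G] [Finite G] (h : Nat.card G ≤ 3) :
    IsCyclic G := by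
  have hpos : 0 < Nat.card G := Nat.card_pos
  interval_cases hc : Nat.card G
  · haveI : Subsingleton G := (Nat.card_eq_one_iff_unique.mp hc).1
    exact isCyclic_of_subsingleton
  · haveI : Fact (Nat.Prime 2) := ⟨Nat.prime_two⟩
    exact isCyclic_of_prime_card hc
  · haveI : Fact (Nat.Prime 3) := ⟨Nat.prime_three⟩
    exact isCyclic_of_prime_card hc

theorem card_le_of_subset_finset {H : Type*} [Group H] (V : Subgroup H) (s : Finset H)
    (h : (V : Set H) ⊆ (s : Set H)) : Nat.card ↥V ≤ s.card := by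
  calc Nat.card ↥V = (V : Set H).ncard := rfl
    _ ≤ (s : Set H).ncard := Set.ncard_le_ncard h (Finset.finite_toSet _)
    _ = s.card := Set.ncard_coe_finset _

/-- Let U be a subgroup of a finite group H and w an involution of H normalizing U and commuting with exactly two elements of U, the identity and y. If V is a non-cyclic elementary abelian 2-subgroup of U containing y which is normal in U and invariant under w, then V is a Sylow 2-subgroup of U, V has order 4, and U/V is abelian. -/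
theorem result {H : Type*} [Group H] [Finite H] (U : Subgroup H) (w : H) (hw : orderOf w = 2)
    (hwU : w ∈ Subgroup.normalizer (U : Set H)) (y : H) (hy : y ≠ 1) (hyU : y ∈ U)
    (hfix : ∀ u ∈ U, w * u * w⁻¹ = u ↔ (u = 1 ∨ u = y))
    (V : Subgroup H) (hVU : V ≤ U) (hVn : (V.subgroupOf U).Normal) (hVw : ∀ v ∈ V, w * v * w⁻¹ ∈ V)
    (hVe : Cfsg.IsElementaryAbelian 2 V) (hVc : ¬ IsCyclic ↥V) (hyV : y ∈ V) :
    ¬ 2 ∣ V.relIndex U ∧ Nat.card ↥V = 4 ∧ ⁅U, U⁆ ≤ V := by
  classical
  obtain ⟨hVcomm, hVsq⟩ := hVe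
  have hw2 : w * w = 1 := by
    have := pow_orderOf_eq_one w
    rwa [hw, sq] at this
  have hwinv : w⁻¹ = w := inv_eq_of_mul_eq_one_left hw2
  have hcomm : ∀ a ∈ V, ∀ b ∈ V, a * b = b * a := by
    intro a ha b hb
    have := hVcomm.is_comm.comm ⟨a, ha⟩ ⟨b, hb⟩
    exact congrArg Subtype.val this
  have hinvV : ∀ a ∈ V, a⁻¹ = a := by
    intro a ha
    have := hVsq a ha
    rw [sq] at this
    exact inv_eq_of_mul_eq_one_left this
  have hwU' : ∀ u ∈ U, w * u * w⁻¹ ∈ U := fun u hu =>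
    (Subgroup.mem_normalizer_iff.mp hwU u).mp hu
  have hcc : ∀ a : H, w * (w * a * w⁻¹) * w⁻¹ = a := by
    intro a; rw [hwinv]
    calc w * (w * a * w) * w = (w * w) * a * (w * w) := by group
      _ = a := by rw [hw2]; simp
  have hf_fix : ∀ v ∈ V, v * (w * v * w⁻¹) = 1 ∨ v * (w * v * w⁻¹) = y := by
    intro v hv
    have hcv := hVw v hv
    apply (hfix _ (hVU (V.mul_mem hv hcv))).mp
    calc w * (v * (w * v * w⁻¹)) * w⁻¹ = (w * v * w⁻¹) * (w * (w * v * w⁻¹) * w⁻¹) := by group
      _ = (w * v * w⁻¹) * v := by rw [hcc]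
      _ = v * (w * v * w⁻¹) := hcomm _ hcv _ hv
  have hf_one : ∀ v ∈ V, v * (w * v * w⁻¹) = 1 → v = 1 ∨ v = y := by
    intro v hv h
    apply (hfix v (hVU hv)).mp
    have : w * v * w⁻¹ = v⁻¹ := eq_inv_of_mul_eq_one_right h
    rw [this, hinvV v hv]
  have hyy : y * y = 1 := by
    have := hVsq y hyV
    rwa [sq] at this
  -- existence of `v₀`
  have hex : ∃ v₀ ∈ V, v₀ * (w * v₀ * w⁻¹) = y := by
    by_contra hno
    push Not at hno
    have hsub : (V : Set H) ⊆ (({1, y} : Finset H) : Set H) := by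
      intro v hv
      rcases hf_fix v hv with h | h
      · rcases hf_one v hv h with h' | h' <;> simp [h']
      · exact absurd h (hno v hv)
    have hcard : Nat.card ↥V ≤ 2 :=
      (card_le_of_subset_finset V _ hsub).trans Finset.card_le_two
    exact hVc (isCyclic_of_card_le_three (by omega))
  obtain ⟨v₀, hv₀, hv₀y⟩ := hex
  have hcv₀ : w * v₀ * w⁻¹ = v₀ * y := by
    have : w * v₀ * w⁻¹ = v₀⁻¹ * y := by rw [← hv₀y]; group
    rw [this, hinvV v₀ hv₀]
  have hcardV : Nat.card ↥V = 4 := by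
    have hsub : (V : Set H) ⊆ (({1, y, v₀, v₀ * y} : Finset H) : Set H) := by
      intro v hv
      rcases hf_fix v hv with h | h
      · rcases hf_one v hv h with h' | h' <;> simp [h']
      · have hcv := hVw v hv
        have h1 : (v₀ * v) * (w * (v₀ * v) * w⁻¹) = 1 := by
          calc (v₀ * v) * (w * (v₀ * v) * w⁻¹) = v₀ * (v * (w * v₀ * w⁻¹)) * (w * v * w⁻¹) := by group
            _ = v₀ * ((w * v₀ * w⁻¹) * v) * (w * v * w⁻¹) := by
                rw [hcomm v hv _ (hVw v₀ hv₀)]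
            _ = (v₀ * (w * v₀ * w⁻¹)) * (v * (w * v * w⁻¹)) := by group
            _ = 1 := by rw [hv₀y, h, hyy]
        rcases hf_one _ (V.mul_mem hv₀ hv) h1 with h' | h'
        · have : v = v₀ := by
            have := eq_inv_of_mul_eq_one_right h'
            rw [this, hinvV v₀ hv₀]
          simp [this]
        · have : v = v₀ * y := by
            have : v = v₀⁻¹ * y := by rw [← h']; group
            rw [this, hinvV v₀ hv₀]
          simp [this]
    have hcard : Nat.card ↥V ≤ 4 :=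
      (card_le_of_subset_finset V _ hsub).trans Finset.card_le_four
    by_contra hne
    exact hVc (isCyclic_of_card_le_three (by omega))
  -- key: fixed-point-freeness modulo `V`
  have hkey : ∀ u ∈ U, u⁻¹ * (w * u * w⁻¹) ∈ V → u ∈ V := by
    intro u hu h
    have h1 : w * (u⁻¹ * (w * u * w⁻¹)) * w⁻¹ = u⁻¹ * (w * u * w⁻¹) := by
      calc w * (u⁻¹ * (w * u * w⁻¹)) * w⁻¹ = (w * u * w⁻¹)⁻¹ * (w * (w * u * w⁻¹) * w⁻¹) := by group
        _ = (w * u * w⁻¹)⁻¹ * u := by rw [hcc]
        _ = (u⁻¹ * (w * u * w⁻¹))⁻¹ := by group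
        _ = u⁻¹ * (w * u * w⁻¹) := hinvV _ h
    rcases (hfix _ (hVU h)).mp h1 with h2 | h2
    · have h3 : w * u * w⁻¹ = u := (inv_mul_eq_one.mp h2).symm
      rcases (hfix u hu).mp h3 with h4 | h4
      · rw [h4]; exact V.one_mem
      · rw [h4]; exact hyV
    · have h3 : w * u * w⁻¹ = u * y := inv_mul_eq_iff_eq_mul.mp h2
      have h4 : w * (u * v₀) * w⁻¹ = u * v₀ := by
        calc w * (u * v₀) * w⁻¹ = (w * u * w⁻¹) * (w * v₀ * w⁻¹) := by group
          _ = u * y * (v₀ * y) := by rw [h3, hcv₀]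
          _ = u * ((y * v₀) * y) := by group
          _ = u * ((v₀ * y) * y) := by rw [hcomm y hyV v₀ hv₀]
          _ = u * v₀ * (y * y) := by group
          _ = u * v₀ := by rw [hyy, mul_one]
      rcases (hfix _ (U.mul_mem hu (hVU hv₀))).mp h4 with h5 | h5
      · have : u = v₀⁻¹ := eq_inv_of_mul_eq_one_left h5
        rw [this]; exact V.inv_mem hv₀
      · have : u = y * v₀⁻¹ := by rw [← h5]; group
        rw [this]; exact V.mul_mem hyV (V.inv_mem hv₀)
  -- the induced automorphism of the quotient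
  have hle : V.subgroupOf U ≤ (V.subgroupOf U).comap (conjHom U w hwU') := by
    intro x hx
    rw [Subgroup.mem_comap, Subgroup.mem_subgroupOf]
    exact hVw _ (Subgroup.mem_subgroupOf.mp hx)
  obtain ⟨ψ, hψ⟩ : ∃ ψ : (↥U ⧸ V.subgroupOf U) →* (↥U ⧸ V.subgroupOf U),
      ψ = QuotientGroup.map (V.subgroupOf U) (V.subgroupOf U) (conjHom U w hwU') hle := ⟨_, rfl⟩
  have hψmk : ∀ u : ↥U, ψ (QuotientGroup.mk u) = QuotientGroup.mk (conjHom U w hwU' u) := by
    intro u; rw [hψ]; exact QuotientGroup.map_mk _ _ _ _ u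
  have hfpf : MonoidHom.FixedPointFree ψ := by
    intro ubar h
    obtain ⟨u, rfl⟩ := QuotientGroup.mk_surjective ubar
    rw [hψmk] at h
    have h1 := QuotientGroup.eq.mp h
    rw [Subgroup.mem_subgroupOf] at h1
    have h2 : (u : H)⁻¹ * (w * u * w⁻¹) ∈ V := by
      have := V.inv_mem h1
      have e : ((↑((conjHom U w hwU' u)⁻¹ * u) : H))⁻¹ = (u : H)⁻¹ * (w * u * w⁻¹) := by
        simp [conjHom]
      rw [e] at this
      exact this
    have h3 := hkey u u.2 h2
    exact (QuotientGroup.eq_one_iff u).mpr (Subgroup.mem_subgroupOf.mpr h3)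
  have hinvol : Function.Involutive ψ := by
    intro ubar
    obtain ⟨u, rfl⟩ := QuotientGroup.mk_surjective ubar
    rw [hψmk, hψmk]
    congr 1
    apply Subtype.ext
    exact hcc u
  refine ⟨?_, hcardV, ?_⟩
  · have hodd := hfpf.odd_card_of_involutive hinvol
    have : V.relIndex U = Nat.card (↥U ⧸ V.subgroupOf U) := Subgroup.index_eq_card _
    rw [this]
    intro h2
    exact (Nat.not_even_iff_odd.mpr hodd) (even_iff_two_dvd.mpr h2)
  · rw [Subgroup.commutator_le]
    intro a ha b hb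
    have hc := hfpf.commute_all_of_involutive hinvol (QuotientGroup.mk ⟨a, ha⟩) (QuotientGroup.mk ⟨b, hb⟩)
    have h1 : (QuotientGroup.mk (⁅(⟨a, ha⟩ : ↥U), ⟨b, hb⟩⁆) : ↥U ⧸ V.subgroupOf U) = 1 := by
      rw [commutatorElement_def, QuotientGroup.mk_mul, QuotientGroup.mk_mul, QuotientGroup.mk_mul,
        QuotientGroup.mk_inv, QuotientGroup.mk_inv, hc.eq]
      group
    have h2 := (QuotientGroup.eq_one_iff _).mp h1
    rw [Subgroup.mem_subgroupOf] at h2
    simpa [commutatorElement_def] using h2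

end Cfsg.Agent.S3825
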