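import Cfsg.Statements.S3835
import Mathlib
import Cfsg.Agent.S2231
import Cfsg.Agent.Lib.Helper16.Qd
import Cfsg.Agent.Lib.Helper15.SLNormal
import Cfsg.Agent.Lib.Helper27.Involves

set_option autoImplicit false
open Cfsg

namespace Cfsg.Agent.S3835

open Cfsg.Agent.Lib.Helper16 Cfsg.Agent.S2231
open scoped commutatorElement

/-- in a finite `p`-group a subgroup of index less than `p²` contains all commutators -/
theorem commutator_mem_of_index_lt {p : ℕ} [Fact p.Prime] {Q : Type*} [Group Q] [Finite Q]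
    (hQ : IsPGroup p Q) (H : Subgroup Q) (hH : H.index < p ^ 2) (a b : Q) : ⁅a, b⁆ ∈ H := by
  have hp : p.Prime := Fact.out
  obtain ⟨k, hk⟩ := hQ.index H
  rw [hk] at hH
  have hk2 : k < 2 := (Nat.pow_lt_pow_iff_right hp.one_lt).mp hH
  interval_cases k
  · rw [pow_zero, Subgroup.index_eq_one] at hk
    rw [hk]; trivial
  · rw [pow_one] at hk
    obtain ⟨m, hm⟩ := hQ.exists_card_eq
    have hm0 : m ≠ 0 := by
      rintro rfl
      rw [pow_zero] at hm
      have h1 : H.index ∣ Nat.card Q := Subgroup.index_dvd_card H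
      rw [hm, hk] at h1
      exact hp.one_lt.ne' (Nat.dvd_one.mp h1)
    haveI hn : H.Normal := Subgroup.normal_of_index_eq_minFac_card (by
      rw [hm, hp.pow_minFac hm0, hk])
    have hc : Nat.card (Q ⧸ H) = p := by rw [← Subgroup.index_eq_card, hk]
    haveI : IsCyclic (Q ⧸ H) := isCyclic_of_prime_card hc
    have h1 : (QuotientGroup.mk' H) ⁅a, b⁆ = 1 := by
      rw [map_commutatorElement, commutatorElement_eq_one_iff_mul_comm]
      exact IsCyclic.commGroup.mul_comm _ _
    rwa [QuotientGroup.mk'_apply, QuotientGroup.eq_one_iff] at h1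

theorem abP_perm {p : ℕ} [Fact p.Prime] {n : ℕ} (hn : n < p ^ 2) :
    AbP p (Equiv.Perm (Fin n)) := by
  intro Q hQ a ha b hb
  have key : ∀ x : Fin n, (⁅a, b⁆ : Equiv.Perm (Fin n)) x = x := by
    intro x
    have hidx : (MulAction.stabilizer Q x).index < p ^ 2 := by
      rw [MulAction.index_stabilizer]
      calc (MulAction.orbit Q x).ncard ≤ Nat.card (Fin n) := Set.ncard_le_card _
        _ = n := by rw [Nat.card_eq_fintype_card, Fintype.card_fin]
        _ < p ^ 2 := hn
    have h := commutator_mem_of_index_lt hQ (MulAction.stabilizer Q x) hidx ⟨a, ha⟩ ⟨b, hb⟩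
    rw [MulAction.mem_stabilizer_iff] at h
    exact h
  have h1 : ⁅a, b⁆ = 1 := Equiv.ext key
  exact commutatorElement_eq_one_iff_mul_comm.mp h1

/-- `SL₂ → affSL3` -/
noncomputable def linEmb (R : Type*) [CommRing R] :
    Matrix.SpecialLinearGroup (Fin 2) R →* affSL3 R where
  toFun A := affMk A 0
  map_one' := by
    apply aff_ext
    · rw [affLin_affMk, map_one]
    · rw [affTr_affMk, affTr_one]
  map_mul' A B := by
    apply aff_ext
    · rw [affLin_affMk, map_mul, affLin_affMk, affLin_affMk]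
    · rw [affTr_affMk, affTr_mul, affTr_affMk, affTr_affMk, Matrix.mulVec_zero, add_zero]

theorem linEmb_apply {R : Type*} [CommRing R] (A : Matrix.SpecialLinearGroup (Fin 2) R) :
    linEmb R A = affMk A 0 := rfl

theorem aff_decomp {R : Type*} [CommRing R] (M : affSL3 R) :
    M = affMk 1 (affTr M) * linEmb R (affLin M) := by
  apply aff_ext
  · rw [map_mul, affLin_affMk, linEmb_apply, affLin_affMk, one_mul]
  · rw [affTr_mul, affLin_affMk, linEmb_apply, affTr_affMk, affTr_affMk, Matrix.mulVec_zero,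
      zero_add]

theorem hom_units_trivial {p : ℕ} [Fact p.Prime] (hp2 : p ≠ 2) (φ : affSL3 (ZMod p) →* ℤˣ)
    (M : affSL3 (ZMod p)) : φ M = 1 := by
  have hp : p.Prime := Fact.out
  have h2 : (2 : ZMod p) ≠ 0 := by
    intro h
    have h3 : ((2 : ℕ) : ZMod p) = 0 := by exact_mod_cast h
    rw [ZMod.natCast_eq_zero_iff] at h3
    exact hp2 ((Nat.prime_dvd_prime_iff_eq hp Nat.prime_two).mp h3)
  have hsq : ∀ X : affSL3 (ZMod p), φ (X * X) = 1 := fun X => by
    rw [map_mul, Int.units_mul_self]
  have htr : ∀ t : Fin 2 → ZMod p, φ (affMk 1 t) = 1 := by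
    intro t
    have h3 : affMk 1 t = affMk 1 ((2 : ZMod p)⁻¹ • t) * affMk 1 ((2 : ZMod p)⁻¹ • t) := by
      apply aff_ext
      · rw [map_mul, affLin_affMk, affLin_affMk, one_mul]
      · rw [affTr_mul, affLin_affMk, affTr_affMk, affTr_affMk, Matrix.SpecialLinearGroup.coe_one,
          Matrix.one_mulVec, ← add_smul]
        have h4 : (2 : ZMod p)⁻¹ + (2 : ZMod p)⁻¹ = 1 := by
          rw [← two_mul, mul_inv_cancel₀ h2]
        rw [h4, one_smul]
    rw [h3]; exact hsq _
  have hlin : ∀ A : Matrix.SpecialLinearGroup (Fin 2) (ZMod p), φ (linEmb (ZMod p) A) = 1 := by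
    intro A
    refine Cfsg.Agent.Lib.Helper15.SLn_transvection_induction
      (fun A => φ (linEmb (ZMod p) A) = 1) ?_ ?_ A
    · intro i j h c
      have h3 : Matrix.SpecialLinearGroup.transvection h c =
          Matrix.SpecialLinearGroup.transvection h (c * 2⁻¹) *
            Matrix.SpecialLinearGroup.transvection h (c * 2⁻¹) := by
        apply Subtype.ext
        show Matrix.transvection i j c =
          Matrix.transvection i j (c * 2⁻¹) * Matrix.transvection i j (c * 2⁻¹)
        rw [Matrix.transvection_mul_transvection_same i j h]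
        congr 1
        rw [← mul_add, ← two_mul, mul_inv_cancel₀ h2, mul_one]
      show φ (linEmb (ZMod p) (Matrix.SpecialLinearGroup.transvection h c)) = 1
      rw [h3, map_mul]; exact hsq _
    · intro A B hA hB
      show φ (linEmb (ZMod p) (A * B)) = 1
      rw [map_mul, map_mul, hA, hB, one_mul]
  rw [aff_decomp M, map_mul, htr, hlin, one_mul]

theorem exists_embedding {p : ℕ} [Fact p.Prime] (hp2 : p ≠ 2) {n : ℕ} (hn : p ^ 2 ≤ n) :
    ∃ H : Subgroup (alternatingGroup (Fin n)), Nonempty (↥H ≃* ↥(Cfsg.qd p)) := by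
  haveI : NeZero p := ⟨(Fact.out : p.Prime).ne_zero⟩
  have hcard : Fintype.card (Fin 2 → ZMod p) ≤ Fintype.card (Fin n) := by
    rw [Fintype.card_fun, ZMod.card, Fintype.card_fin, Fintype.card_fin]; exact hn
  obtain ⟨ι⟩ := Function.Embedding.nonempty_of_card_le hcard
  set f : affSL3 (ZMod p) →* Equiv.Perm (Fin n) :=
    (Equiv.Perm.viaEmbeddingHom ι).comp (affPerm (ZMod p)) with hf
  have hfinj : Function.Injective f :=
    (Equiv.Perm.viaEmbeddingHom_injective ι).comp (affPerm_injective (R := ZMod p))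
  have hmem : ∀ M, f M ∈ alternatingGroup (Fin n) := by
    intro M
    rw [Equiv.Perm.mem_alternatingGroup]
    exact hom_units_trivial hp2 (Equiv.Perm.sign.comp f) M
  set g : affSL3 (ZMod p) →* alternatingGroup (Fin n) := f.codRestrict _ hmem with hg
  have hginj : Function.Injective g := by
    intro a b hab
    apply hfinj
    exact congrArg Subtype.val hab
  refine ⟨g.range, ⟨?_⟩⟩
  exact (MonoidHom.ofInjective hginj).symm.trans (MulEquiv.subgroupCongr (qd_eq_affSL3 p)).symm

/-- Let p be an odd prime and n a natural number. The alternating group of degree n has a subgroup isomorphic to Qd(p) (the natural semidirect product of an elementary abelian group of order p² by SL₂(p)) if and only if n ≥ p²; and if n < p² then Qd(p) is not even involved in it. -/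
theorem result {p : ℕ} [Fact p.Prime] (hp : p ≠ 2) (n : ℕ) : ((∃ H : Subgroup (alternatingGroup (Fin n)), Nonempty (↥H ≃* ↥(Cfsg.qd p))) ↔ p ^ 2 ≤ n) ∧ (n < p ^ 2 → ¬ Cfsg.Involves ↥(Cfsg.qd p) ↥(alternatingGroup (Fin n))) := by
  have hno : n < p ^ 2 → ¬ Cfsg.Involves ↥(Cfsg.qd p) ↥(alternatingGroup (Fin n)) := by
    intro hn hI
    have h1 : AbP p (Equiv.Perm (Fin n)) := abP_perm hn
    have h2 : AbP p ↥(alternatingGroup (Fin n)) :=
      h1.of_injective (alternatingGroup (Fin n)).subtype (Subgroup.subtype_injective _)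
    exact not_abP_qd p hp (h2.of_involves hI)
  refine ⟨⟨?_, exists_embedding hp⟩, hno⟩
  rintro ⟨H, ⟨e⟩⟩
  by_contra hlt
  push Not at hlt
  apply hno hlt
  rw [Cfsg.Agent.Lib.Helper27.involves_iff]
  exact ⟨H, e.toMonoidHom, e.surjective⟩

end Cfsg.Agent.S3835
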