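import Cfsg.Statements.S3836
import Mathlib
import Cfsg.Agent.Lib.Helper1.Cores

set_option autoImplicit false
open Cfsg

namespace Cfsg.Agent.S3836

/-- Let G be a finite group that is p-stable in the normalizer form: for every p-subgroup Q and every x ∈ N_G(Q) with [Q, x, x] = 1, the image of x in N_G(Q)/C_G(Q) lies in O_p(N_G(Q)/C_G(Q)). Then every subgroup of G is p-stable in the same sense. -/
theorem result {G : Type*} [Group G] [Finite G] {p : ℕ} [Fact p.Prime] (hst : Cfsg.IsNormalizerPStable p G) (H : Subgroup G) : Cfsg.IsNormalizerPStable p ↥H := by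
  intro P hP g hg hcomm
  set P' : Subgroup G := P.map H.subtype with hP'
  have hP'p : IsPGroup p P' := hP.map _
  have hmemP' : ∀ x : H, (x : G) ∈ P' ↔ x ∈ P := by
    intro x
    constructor
    · rintro ⟨y, hy, hyx⟩
      have : y = x := Subtype.ext hyx
      rw [← this]; exact hy
    · intro hx; exact ⟨x, hx, rfl⟩
  have hP'H : P' ≤ H := Subgroup.map_subtype_le _
  -- normalizer elements map to normalizer elements
  have hnorm : ∀ h : H, h ∈ Subgroup.normalizer (P : Set H) → (h : G) ∈ Subgroup.normalizer (P' : Set G) := by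
    intro h hh
    rw [Subgroup.mem_normalizer_iff] at hh ⊢
    intro x
    constructor
    · intro hx
      have hxH : x ∈ H := hP'H hx
      have := (hh ⟨x, hxH⟩).mp ((hmemP' ⟨x, hxH⟩).mp hx)
      exact (hmemP' _).mpr this
    · intro hx
      have hxH : x ∈ H := by
        have h1 : (h : G) * x * (h : G)⁻¹ ∈ H := hP'H hx
        have : x = (h : G)⁻¹ * ((h : G) * x * (h : G)⁻¹) * (h : G) := by group
        rw [this]
        exact H.mul_mem (H.mul_mem (H.inv_mem h.2) h1) h.2
      have h2 : h * ⟨x, hxH⟩ * h⁻¹ ∈ P := (hmemP' (h * ⟨x, hxH⟩ * h⁻¹)).mp hx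
      exact (hmemP' ⟨x, hxH⟩).mpr ((hh ⟨x, hxH⟩).mpr h2)
  have hcent : ∀ h : H, h ∈ Subgroup.centralizer (P : Set H) ↔ (h : G) ∈ Subgroup.centralizer (P' : Set G) := by
    intro h
    rw [Subgroup.mem_centralizer_iff, Subgroup.mem_centralizer_iff]
    constructor
    · intro hh x hx
      have hxH : x ∈ H := hP'H hx
      have := hh ⟨x, hxH⟩ ((hmemP' ⟨x, hxH⟩).mp hx)
      exact congrArg Subtype.val this
    · intro hh x hx
      apply Subtype.ext
      exact hh x ((hmemP' x).mpr hx)
  have hg' : (g : G) ∈ Subgroup.normalizer (P' : Set G) := hnorm g hg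
  have hcomm' : ⁅⁅P', Subgroup.zpowers (g : G)⁆, Subgroup.zpowers (g : G)⁆ = ⊥ := by
    have hz : Subgroup.zpowers (g : G) = (Subgroup.zpowers g).map H.subtype := by
      rw [MonoidHom.map_zpowers]; rfl
    rw [hz, hP', ← Subgroup.map_commutator, ← Subgroup.map_commutator, hcomm, Subgroup.map_bot]
  have key := hst P' hP'p (g : G) hg' hcomm'
  -- the induced map on quotients
  set NH := Subgroup.normalizer (P : Set H) with hNH
  set NG := Subgroup.normalizer (P' : Set G) with hNG
  let φ : NH →* NG := MonoidHom.codRestrict (H.subtype.comp NH.subtype) NG (fun h => hnorm h.1 h.2)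
  set CH := (Subgroup.centralizer (P : Set H)).subgroupOf NH with hCH
  set CG := (Subgroup.centralizer (P' : Set G)).subgroupOf NG with hCG
  have hle : CH ≤ CG.comap φ := by
    intro h hh
    rw [hCH, Subgroup.mem_subgroupOf] at hh
    rw [Subgroup.mem_comap, hCG, Subgroup.mem_subgroupOf]
    exact (hcent h.1).mp hh
  let φb : NH ⧸ CH →* NG ⧸ CG := QuotientGroup.map CH CG φ hle
  have hinj : Function.Injective φb := by
    rw [injective_iff_map_eq_one]
    intro x hx
    obtain ⟨h, rfl⟩ := QuotientGroup.mk_surjective x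
    have h1 : φb (QuotientGroup.mk h) = QuotientGroup.mk (φ h) := rfl
    rw [h1, QuotientGroup.eq_one_iff, hCG, Subgroup.mem_subgroupOf] at hx
    rw [QuotientGroup.eq_one_iff, hCH, Subgroup.mem_subgroupOf]
    exact (hcent h.1).mpr hx
  have hpc : (pCore p (NG ⧸ CG)).comap φb ≤ pCore p (NH ⧸ CH) := by
    apply Cfsg.Agent.Lib.Helper1.le_pCore
    · haveI := Cfsg.Agent.Lib.Helper1.pCore_normal (G := NG ⧸ CG) p
      infer_instance
    · exact (Cfsg.Agent.Lib.Helper1.pCore_isPGroup (G := NG ⧸ CG) p).comap_of_injective φb hinj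
  apply hpc
  rw [Subgroup.mem_comap]
  exact key

end Cfsg.Agent.S3836
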