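import Cfsg.Statements.S3838
import Mathlib
import Cfsg.Agent.Lib.Lead.Tate
import Cfsg.Agent.Lib.Helper13.PNilpotent
import Cfsg.Agent.Lib.Helper17.PResidual
import Cfsg.Agent.Lib.Helper21.IrrCyclic

set_option autoImplicit false
open Cfsg

namespace Cfsg.Agent.S3838

open Cfsg Cfsg.Agent.Lib.Helper21 Cfsg.Agent.Lib.Lead
open scoped commutatorElement

theorem lemmaA {K : Type*} [Group K] [Finite K] {p : ℕ} [Fact p.Prime] (P : Sylow p K)
    (Q : Subgroup K) [hQn : Q.Normal] (hQP : Q ≤ (P : Subgroup K))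
    (hQF : Q ≤ (frattiniP p ↥(P : Subgroup K)).map (P : Subgroup K).subtype)
    (hF : ∀ u ∈ Subgroup.normalizer ((P : Subgroup K) : Set K), ∀ b ∈ (P : Subgroup K),
      u * b * u⁻¹ * b⁻¹ ∈ Q) :
    HasNormalPComplement p K := by
  classical
  have hp : p.Prime := Fact.out
  obtain ⟨π, hπ⟩ : ∃ π : K →* K ⧸ Q, π = QuotientGroup.mk' Q := ⟨_, rfl⟩
  have hsurj : Function.Surjective π := by rw [hπ]; exact QuotientGroup.mk'_surjective Q
  have hker : π.ker = Q := by rw [hπ]; exact QuotientGroup.ker_mk' Q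
  have hone : ∀ x, π x = 1 ↔ x ∈ Q := by
    intro x; rw [← MonoidHom.mem_ker, hker]
  obtain ⟨Pbar, hPbar⟩ : ∃ Pbar : Sylow p (K ⧸ Q), Pbar = P.mapSurjective hsurj := ⟨_, rfl⟩
  have hPbarc : (Pbar : Subgroup (K ⧸ Q)) = (P : Subgroup K).map π := by
    rw [hPbar]; exact Sylow.coe_mapSurjective hsurj P
  have hcomap : (Pbar : Subgroup (K ⧸ Q)).comap π = (P : Subgroup K) := by
    rw [hPbarc, Subgroup.comap_map_eq, hker]
    exact sup_eq_left.mpr hQP
  have hNC : Subgroup.normalizer ((Pbar : Subgroup (K ⧸ Q)) : Set (K ⧸ Q)) ≤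
      Subgroup.centralizer ((Pbar : Subgroup (K ⧸ Q)) : Set (K ⧸ Q)) := by
    intro ubar hubar
    obtain ⟨u, rfl⟩ := hsurj ubar
    have hu : u ∈ Subgroup.normalizer ((P : Subgroup K) : Set K) := by
      have : u ∈ (Subgroup.normalizer ((Pbar : Subgroup (K ⧸ Q)) : Set (K ⧸ Q))).comap π := hubar
      rw [Subgroup.comap_normalizer_eq_of_surjective _ hsurj, hcomap] at this
      exact this
    rw [Subgroup.mem_centralizer_iff]
    intro bbar hbbar
    have hbbar' : bbar ∈ (P : Subgroup K).map π := by rw [← hPbarc]; exact hbbar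
    obtain ⟨b, hb, rfl⟩ := hbbar'
    have h1 := hF u hu b hb
    have h2 : π (u * b * u⁻¹ * b⁻¹) = 1 := (hone _).mpr h1
    rw [map_mul, map_mul, map_mul, map_inv, map_inv] at h2
    have h3 := mul_inv_eq_one.mp h2
    rw [mul_inv_eq_iff_eq_mul] at h3
    exact h3.symm
  have hcompl := MonoidHom.ker_transferSylow_isComplement' Pbar hNC
  obtain ⟨Mbar, hMbar⟩ : ∃ Mbar : Subgroup (K ⧸ Q), Mbar = (MonoidHom.transferSylow Pbar hNC).ker :=
    ⟨_, rfl⟩
  rw [← hMbar] at hcompl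
  have hMbarn : Mbar.Normal := by rw [hMbar]; infer_instance
  obtain ⟨M, hM⟩ : ∃ M : Subgroup K, M = Mbar.comap π := ⟨_, rfl⟩
  haveI : M.Normal := by rw [hM]; infer_instance
  have hMP : M ⊔ (P : Subgroup K) = ⊤ := by
    rw [eq_top_iff]
    intro k _
    obtain ⟨⟨⟨m, hm⟩, ⟨b', hb'⟩⟩, hmb, -⟩ :=
      (Subgroup.isComplement'_def.mp hcompl).existsUnique (π k)
    simp only at hmb
    have hb'' : b' ∈ (P : Subgroup K).map π := by rw [← hPbarc]; exact hb'
    obtain ⟨b, hb, rfl⟩ := hb''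
    have hkb : k * b⁻¹ ∈ M := by
      rw [hM, Subgroup.mem_comap, map_mul, map_inv, ← hmb, mul_inv_cancel_right]
      exact hm
    have h2 : k = (k * b⁻¹) * b := by group
    rw [h2]
    exact Subgroup.mul_mem _ (Subgroup.mem_sup_left hkb) (Subgroup.mem_sup_right hb)
  have hMPQ : M ⊓ (P : Subgroup K) ≤ Q := by
    rintro x ⟨hxM, hxP⟩
    have h1 : π x ∈ Mbar := by rw [hM] at hxM; exact hxM
    have h2 : π x ∈ (Pbar : Subgroup (K ⧸ Q)) := by
      rw [hPbarc]; exact Subgroup.mem_map_of_mem _ hxP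
    have h3 : π x ∈ (⊥ : Subgroup (K ⧸ Q)) := hcompl.disjoint.le_bot ⟨h1, h2⟩
    exact (hone x).mp (Subgroup.mem_bot.mp h3)
  obtain ⟨-, hcop⟩ := tate_sup_eq_top P M hMP (hMPQ.trans hQF)
  rw [Cfsg.Agent.Lib.Helper13.hasNormalPComplement_iff_exists]
  refine ⟨pResidual p K, Cfsg.Agent.Lib.Helper17.pResidual_normal, hcop, ?_⟩
  have hpg : IsPGroup p (K ⧸ pResidual p K) :=
    Cfsg.Agent.Lib.Helper17.quotient_pResidual_isPGroup
  obtain ⟨n, hn⟩ := IsPGroup.iff_card.mp hpg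
  exact ⟨n, by rw [Subgroup.index_eq_card]; exact hn⟩

/-- Let G be a finite group with Sylow p-subgroup P such that N_G(P) has a normal p-complement. Then N_G(Q) has a normal p-complement for every subgroup Q with [P, P] ≤ Q ≤ Φ(P). -/
theorem result {G : Type*} [Group G] [Finite G] {p : ℕ} [Fact p.Prime] (P : Sylow p G) (hN : Cfsg.HasNormalPComplement p ↥(Subgroup.normalizer ((P : Subgroup G) : Set G))) (Q : Subgroup G) (h1 : (commutator ↥(P : Subgroup G)).map (P : Subgroup G).subtype ≤ Q) (h2 : Q ≤ (frattini ↥(P : Subgroup G)).map (P : Subgroup G).subtype) : Cfsg.HasNormalPComplement p ↥(Subgroup.normalizer (Q : Set G)) := by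
  classical
  have hp : p.Prime := Fact.out
  have hQP : Q ≤ (P : Subgroup G) := h2.trans (Subgroup.map_subtype_le _)
  have hcomm : ∀ a ∈ (P : Subgroup G), ∀ b ∈ (P : Subgroup G), a * b * a⁻¹ * b⁻¹ ∈ Q := by
    intro a ha b hb
    apply h1
    refine ⟨⁅(⟨a, ha⟩ : ↥(P : Subgroup G)), ⟨b, hb⟩⁆, ?_, ?_⟩
    · exact Subgroup.commutator_mem_commutator (Subgroup.mem_top _) (Subgroup.mem_top _)
    · simp [commutatorElement_def]
  have hPK : (P : Subgroup G) ≤ Subgroup.normalizer (Q : Set G) := by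
    intro b hb
    apply mem_normalizer_of_conj_mem_finite
    intro x hx
    have := hcomm b hb x (hQP hx)
    have h3 : b * x * b⁻¹ = (b * x * b⁻¹ * x⁻¹) * x := by group
    rw [h3]
    exact Q.mul_mem this hx
  have hF : ∀ u ∈ Subgroup.normalizer ((P : Subgroup G) : Set G), ∀ b ∈ (P : Subgroup G),
      u * b * u⁻¹ * b⁻¹ ∈ Q := by
    obtain ⟨NP, hNP⟩ : ∃ NP : Subgroup G, NP = Subgroup.normalizer ((P : Subgroup G) : Set G) :=
      ⟨_, rfl⟩
    rw [← hNP] at hN ⊢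
    obtain ⟨L, hLn, hLcop, k, hk⟩ :=
      Cfsg.Agent.Lib.Helper13.hasNormalPComplement_iff_exists.mp hN
    have hPle : (P : Subgroup G) ≤ NP := by rw [hNP]; exact Subgroup.le_normalizer
    obtain ⟨PN, hPN⟩ : ∃ PN : Sylow p ↥NP, PN = P.subtype hPle := ⟨_, rfl⟩
    have hPNc : (PN : Subgroup ↥NP) = (P : Subgroup G).subgroupOf NP := by
      rw [hPN]; exact Sylow.coe_subtype P hPle
    have hcompl :=
      Cfsg.Agent.Lib.Helper13.isComplement'_sylow_of_coprime_of_index_pow L hLcop hk PN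
    have hPNn : (PN : Subgroup ↥NP).Normal := by
      rw [hPNc]; subst hNP; exact Subgroup.normal_in_normalizer
    intro u hu b hb
    obtain ⟨⟨⟨l, hl⟩, ⟨b', hb'⟩⟩, hlb, -⟩ :=
      (Subgroup.isComplement'_def.mp hcompl).existsUnique (⟨u, hu⟩ : ↥NP)
    simp only at hlb
    have hb'P : (b' : G) ∈ (P : Subgroup G) := by
      rw [hPNc] at hb'; exact Subgroup.mem_subgroupOf.mp hb'
    have hcommute : ∀ y ∈ (PN : Subgroup ↥NP), Commute l y := fun y hy =>
      Subgroup.commute_of_normal_of_disjoint L PN hLn hPNn hcompl.disjoint l y hl hy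
    obtain ⟨bb, hbbdef⟩ : ∃ bb : ↥NP, bb = ⟨b, hPle hb⟩ := ⟨_, rfl⟩
    have hbb : bb ∈ (PN : Subgroup ↥NP) := by
      rw [hPNc, hbbdef]; exact Subgroup.mem_subgroupOf.mpr hb
    have hy : b' * bb * b'⁻¹ ∈ (PN : Subgroup ↥NP) :=
      (PN : Subgroup ↥NP).mul_mem ((PN : Subgroup ↥NP).mul_mem hb' hbb)
        ((PN : Subgroup ↥NP).inv_mem hb')
    have hc := hcommute _ hy
    have h5 : (⟨u, hu⟩ : ↥NP) * bb * (⟨u, hu⟩ : ↥NP)⁻¹ * bb⁻¹ = b' * bb * b'⁻¹ * bb⁻¹ := by
      rw [← hlb]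
      have : l * b' * bb * (l * b')⁻¹ = l * (b' * bb * b'⁻¹) * l⁻¹ := by group
      rw [this, hc.eq, mul_inv_cancel_right]
    have h6 := congrArg (Subtype.val) h5
    simp only [Subgroup.coe_mul, Subgroup.coe_inv, hbbdef] at h6
    rw [h6]
    exact hcomm _ hb'P b hb
  obtain ⟨K, hK⟩ : ∃ K : Subgroup G, K = Subgroup.normalizer (Q : Set G) := ⟨_, rfl⟩
  rw [← hK] at hPK ⊢
  obtain ⟨PK, hPKdef⟩ : ∃ PK : Sylow p ↥K, PK = P.subtype hPK := ⟨_, rfl⟩
  have hPKc : (PK : Subgroup ↥K) = (P : Subgroup G).subgroupOf K := by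
    rw [hPKdef]; exact Sylow.coe_subtype P hPK
  haveI hQKn : (Q.subgroupOf K).Normal := by subst hK; exact Subgroup.normal_in_normalizer
  apply lemmaA PK (Q.subgroupOf K)
  · rw [hPKc]; intro x hx
    exact Subgroup.mem_subgroupOf.mpr (hQP (Subgroup.mem_subgroupOf.mp hx))
  · intro x hx
    have hxQ : (x : G) ∈ Q := Subgroup.mem_subgroupOf.mp hx
    have hxP : x ∈ (PK : Subgroup ↥K) := by
      rw [hPKc]; exact Subgroup.mem_subgroupOf.mpr (hQP hxQ)
    obtain ⟨f, hf, hfx⟩ := h2 hxQ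
    have hf' : f ∈ frattiniP p (P : Subgroup G) := frattini_le_frattiniP hf
    subst hPKdef
    let e : (P : Subgroup G) ≃* ((P : Subgroup G).subgroupOf K) :=
      (Subgroup.subgroupOfEquivOfLe hPK).symm
    have h1' : e f ∈ (frattiniP p (P : Subgroup G)).map e.toMonoidHom :=
      Subgroup.mem_map_of_mem _ hf'
    have h2' := map_frattiniP_le (p := p) e.toMonoidHom h1'
    have hex : ((e f : (P : Subgroup G).subgroupOf K) : K) = x := by
      apply Subtype.ext
      have : (((e f : (P : Subgroup G).subgroupOf K) : K) : G) = (f : G) := by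
        have h3 : ((Subgroup.subgroupOfEquivOfLe hPK (e f) : (P : Subgroup G)) : G) = (f : G) := by
          rw [(Subgroup.subgroupOfEquivOfLe hPK).apply_symm_apply f]
        exact h3
      rw [this]; exact hfx
    refine ⟨⟨x, hxP⟩, ?_, rfl⟩
    have : (⟨x, hxP⟩ : ((P.subtype hPK : Sylow p ↥K) : Subgroup ↥K)) = e f :=
      Subtype.ext hex.symm
    rw [this]
    exact h2'
  · intro u hu b hb
    rw [hPKc] at hb
    have hbP : (b : G) ∈ (P : Subgroup G) := Subgroup.mem_subgroupOf.mp hb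
    have huN : (u : G) ∈ Subgroup.normalizer ((P : Subgroup G) : Set G) := by
      apply mem_normalizer_of_conj_mem_finite
      intro x hx
      have hxK : x ∈ K := hPK hx
      have h3 : (⟨x, hxK⟩ : ↥K) ∈ (PK : Subgroup ↥K) := by
        rw [hPKc]; exact Subgroup.mem_subgroupOf.mpr hx
      have h4 : u * ⟨x, hxK⟩ * u⁻¹ ∈ (PK : Subgroup ↥K) := by
        have := (Subgroup.mem_normalizer_iff.mp hu ⟨x, hxK⟩).mp h3
        exact this
      rw [hPKc] at h4
      exact Subgroup.mem_subgroupOf.mp h4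
    have := hF u huN b hbP
    exact Subgroup.mem_subgroupOf.mpr this

end Cfsg.Agent.S3838
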