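import Mathlib
import Cfsg.Statements.S3839
import Cfsg.Agent.Lib.Helper13.Frobenius
import Cfsg.Agent.Lib.Helper18.FusionCR

set_option autoImplicit false
open Cfsg

namespace Cfsg.Agent.S3839

open Cfsg.Agent.Lib.Helper13 Cfsg.Agent.Lib.Helper18.FusionCR

section aux

variable {G : Type*} [Group G]

/-- the chain `U ≥ U ⊓ D ≥ 1 ≥ …` -/
def chainD (U D : Subgroup G) : ℕ → Subgroup G
  | 0 => U
  | 1 => U ⊓ D
  | _ + 2 => ⊥

theorem chainD_le (U D : Subgroup G) : ∀ j, chainD U D j ≤ U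
  | 0 => le_rfl
  | 1 => inf_le_left
  | _ + 2 => bot_le

/-- `S` normalizes a strongly closed `D`, elementwise -/
theorem conj_mem_of_stronglyClosed {D S : Subgroup G} (hD : Cfsg.IsStronglyClosed D S) {s d : G}
    (hs : s ∈ S) (hd : d ∈ D) : s * d * s⁻¹ ∈ D :=
  hD.2 d hd s (S.mul_mem (S.mul_mem hs (hD.1 hd)) (S.inv_mem hs))

/-- `LocalCentral` of a subgroup `M`, read inside `G` -/
theorem mem_centralizer_of_localCentral_subgroup {p : ℕ} (M : Subgroup G) (h : LocalCentral p ↥M)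
    (Q : Subgroup G) (hQM : Q ≤ M) (hQ : IsPGroup p Q) {g : G} (hgM : g ∈ M)
    (hg : g ∈ Subgroup.normalizer (Q : Set G)) (hcop : Nat.Coprime (orderOf g) p) :
    g ∈ Subgroup.centralizer (Q : Set G) := by
  have hN : (⟨g, hgM⟩ : M) ∈ Subgroup.normalizer ((Q.subgroupOf M : Subgroup M) : Set M) := by
    rw [Subgroup.mem_normalizer_iff]
    intro y
    rw [Subgroup.mem_subgroupOf, Subgroup.mem_subgroupOf]
    exact Subgroup.mem_normalizer_iff.mp hg (y : G)
  have h1 := h (Q.subgroupOf M) hQ.comap_subtype ⟨g, hgM⟩ hN (by rwa [Subgroup.orderOf_mk])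
  rw [Subgroup.mem_centralizer_iff] at h1 ⊢
  intro q hq
  have := h1 ⟨q, hQM hq⟩ (by rw [SetLike.mem_coe, Subgroup.mem_subgroupOf]; exact hq)
  exact congrArg Subtype.val this

variable [Finite G] {p : ℕ} [Fact p.Prime]

/-- for a centric radical `U ≤ S`, the intersection `U ⊓ D` is `D`-centric -/
theorem centric_inf (S : Sylow p G) {D U : Subgroup G}
    (hD : Cfsg.IsStronglyClosed D (S : Subgroup G)) (hUS : U ≤ (S : Subgroup G))
    (hCR : IsCR p (S : Subgroup G) U) :
    D ⊓ Subgroup.centralizer ((U ⊓ D : Subgroup G) : Set G) ≤ U ⊓ D := by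
  have hUp : IsPGroup p U := S.isPGroup'.to_le hUS
  obtain ⟨C, hCdef⟩ : ∃ C : Subgroup G,
      C = D ⊓ Subgroup.centralizer ((U ⊓ D : Subgroup G) : Set G) := ⟨_, rfl⟩
  rw [← hCdef]
  have hCD : C ≤ D := by rw [hCdef]; exact inf_le_left
  have hCS : C ≤ (S : Subgroup G) := hCD.trans hD.1
  have hCcent : ∀ c ∈ C, ∀ w ∈ U ⊓ D, w * c = c * w := by
    intro c hc w hw
    rw [hCdef] at hc
    exact Subgroup.mem_centralizer_iff.mp (Subgroup.mem_inf.mp hc).2 w hw
  -- the chain stabilizer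
  have hinv : ∀ x ∈ Subgroup.normalizer (U : Set G), ∀ j, ∀ u ∈ chainD U D j,
      x * u * x⁻¹ ∈ chainD U D j := by
    intro x hx j u hu
    match j, hu with
    | 0, hu => exact (Subgroup.mem_normalizer_iff.mp hx u).mp hu
    | 1, hu =>
      have hu' : u ∈ U ⊓ D := hu
      have h1 : x * u * x⁻¹ ∈ U :=
        (Subgroup.mem_normalizer_iff.mp hx u).mp (Subgroup.mem_inf.mp hu').1
      exact Subgroup.mem_inf.mpr ⟨h1, hD.2 u (Subgroup.mem_inf.mp hu').2 x (hUS h1)⟩
    | (n + 2), hu =>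
      have hu' : u ∈ (⊥ : Subgroup G) := hu
      rw [Subgroup.mem_bot] at hu'
      subst hu'
      have e : x * 1 * x⁻¹ = 1 := by group
      rw [e]; exact Subgroup.one_mem _
  have hPO : IsPOver p U (chainStab U (chainD U D)) :=
    isPOver_chainStab hUp (chainD U D) rfl (chainD_le U D) (c := 2) rfl hinv
  have hSK : (S : Subgroup G) ⊓ chainStab U (chainD U D) ≤ U := hCR _ hPO
  -- `N_C(U) ≤ U`
  have hNC : ∀ c ∈ C, c ∈ Subgroup.normalizer (U : Set G) → c ∈ U := by
    intro c hc hcN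
    apply hSK
    refine Subgroup.mem_inf.mpr ⟨hCS hc, ?_⟩
    rw [mem_chainStab]
    refine ⟨hcN, ?_⟩
    intro j u hu
    match j, hu with
    | 0, hu =>
      have huU : u ∈ U := hu
      have h1 : c * u * c⁻¹ ∈ U := (Subgroup.mem_normalizer_iff.mp hcN u).mp huU
      have h2 : c⁻¹ * u * c ∈ U := by
        have := (Subgroup.mem_normalizer_iff.mp (Subgroup.inv_mem _ hcN) u).mp huU
        simpa using this
      have h3 : u * c⁻¹ * u⁻¹ ∈ D :=
        conj_mem_of_stronglyClosed hD (hUS huU) (D.inv_mem (hCD hc))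
      have h4 : u * c * u⁻¹ ∈ D := conj_mem_of_stronglyClosed hD (hUS huU) (hCD hc)
      refine ⟨⟨h1, h2⟩, ⟨?_, ?_⟩⟩
      · show c * u * c⁻¹ * u⁻¹ ∈ U ⊓ D
        refine Subgroup.mem_inf.mpr ⟨U.mul_mem h1 (U.inv_mem huU), ?_⟩
        have e : c * u * c⁻¹ * u⁻¹ = c * (u * c⁻¹ * u⁻¹) := by group
        rw [e]; exact D.mul_mem (hCD hc) h3
      · show c⁻¹ * u * c * u⁻¹ ∈ U ⊓ D
        refine Subgroup.mem_inf.mpr ⟨U.mul_mem h2 (U.inv_mem huU), ?_⟩
        have e : c⁻¹ * u * c * u⁻¹ = c⁻¹ * (u * c * u⁻¹) := by group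
        rw [e]; exact D.mul_mem (D.inv_mem (hCD hc)) h4
    | 1, hu =>
      have hu' : u ∈ U ⊓ D := hu
      have hcomm : u * c = c * u := hCcent c hc u hu'
      have e1 : c * u * c⁻¹ = u := by rw [← hcomm]; group
      have e2 : c⁻¹ * u * c = u := by rw [mul_assoc, hcomm]; group
      rw [e1, e2]
      refine ⟨⟨hu, hu⟩, ⟨?_, ?_⟩⟩
      · rw [mul_inv_cancel]; exact Subgroup.one_mem _
      · rw [mul_inv_cancel]; exact Subgroup.one_mem _
    | (n + 2), hu =>
      have hu' : u ∈ (⊥ : Subgroup G) := hu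
      rw [Subgroup.mem_bot] at hu'
      subst hu'
      have e1 : c * 1 * c⁻¹ = 1 := by group
      have e2 : c⁻¹ * 1 * c = 1 := by group
      rw [e1, e2]
      refine ⟨⟨Subgroup.one_mem _, Subgroup.one_mem _⟩, ⟨?_, ?_⟩⟩
      · rw [mul_inv_cancel]; exact Subgroup.one_mem _
      · rw [mul_inv_cancel]; exact Subgroup.one_mem _
  -- `U` normalizes `C`
  have hUN : U ≤ Subgroup.normalizer (C : Set G) := by
    intro u hu
    apply mem_normalizer_of_conj_mem
    intro c hc
    rw [hCdef]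
    refine Subgroup.mem_inf.mpr ⟨conj_mem_of_stronglyClosed hD (hUS hu) (hCD hc), ?_⟩
    rw [Subgroup.mem_centralizer_iff]
    intro w hw
    have hw' : u⁻¹ * w * u ∈ U ⊓ D := by
      obtain ⟨hwU, hwD⟩ := Subgroup.mem_inf.mp hw
      refine Subgroup.mem_inf.mpr ⟨U.mul_mem (U.mul_mem (U.inv_mem hu) hwU) hu, ?_⟩
      have := conj_mem_of_stronglyClosed hD (Subgroup.inv_mem _ (hUS hu)) hwD
      simpa using this
    have h1 := hCcent c hc _ hw'
    calc w * (u * c * u⁻¹) = u * ((u⁻¹ * w * u) * c) * u⁻¹ := by group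
      _ = u * (c * (u⁻¹ * w * u)) * u⁻¹ := by rw [h1]
      _ = u * c * u⁻¹ * w := by group
  have hCU : C ≤ U := by
    by_contra hne
    have hlt : U < U ⊔ C := by
      refine lt_of_le_of_ne le_sup_left ?_
      intro heq
      exact hne ((le_sup_right : C ≤ U ⊔ C).trans (le_of_eq heq.symm))
    have hUCp : IsPGroup p (U ⊔ C : Subgroup G) := S.isPGroup'.to_le (sup_le hUS hCS)
    have hlt2 := lt_inf_normalizer_of_lt (U ⊔ C) U hUCp hlt
    obtain ⟨y, hy, hyU⟩ := SetLike.exists_of_lt hlt2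
    obtain ⟨hyUC, hyN⟩ := Subgroup.mem_inf.mp hy
    have hmem : y ∈ ((C ⊔ U : Subgroup G) : Set G) := by rw [sup_comm]; exact hyUC
    rw [Subgroup.coe_mul_of_right_le_normalizer_left C U hUN] at hmem
    obtain ⟨c, hc, u, hu, rfl⟩ := hmem
    apply hyU
    have hcN : c ∈ Subgroup.normalizer (U : Set G) := by
      have : c = (c * u) * u⁻¹ := by group
      rw [this]
      exact Subgroup.mul_mem _ hyN (Subgroup.inv_mem _ (Subgroup.le_normalizer hu))
    exact U.mul_mem (hNC c hc hcN) hu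
  exact le_inf hCU hCD

/-- under the local hypothesis, `S` induces all of `Aut_G(U)` on fully normalized centric radical `U` -/
theorem induces (S : Sylow p G) {D : Subgroup G}
    (hD : Cfsg.IsStronglyClosed D (S : Subgroup G))
    (hyp : ∀ U : Subgroup G, U ≤ D → D ⊓ Subgroup.centralizer (U : Set G) ≤ U →
      Cfsg.HasNormalPComplement p ↥(Subgroup.normalizer (U : Set G)))
    (U : Subgroup G) (hUS : U ≤ (S : Subgroup G)) (hFN : IsFN p (S : Subgroup G) U)
    (hCR : IsCR p (S : Subgroup G) U) (x : G) (hx : x ∈ Subgroup.normalizer (U : Set G)) :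
    ∃ m ∈ (S : Subgroup G), ∀ u ∈ U, m * u * m⁻¹ = x * u * x⁻¹ := by
  have hp : p.Prime := Fact.out
  have hUp : IsPGroup p U := S.isPGroup'.to_le hUS
  have hcen := centric_inf S hD hUS hCR
  obtain ⟨PN, KN, hKNn, hKN⟩ := hyp (U ⊓ D) inf_le_right hcen
  have hLC : LocalCentral p ↥(Subgroup.normalizer ((U ⊓ D : Subgroup G) : Set G)) :=
    localCentral_of_normal_complement PN KN hKN
  have hNN : Subgroup.normalizer (U : Set G) ≤
      Subgroup.normalizer ((U ⊓ D : Subgroup G) : Set G) := by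
    intro y hy
    apply mem_normalizer_of_conj_mem
    intro u hu
    obtain ⟨huU, huD⟩ := Subgroup.mem_inf.mp hu
    have h1 : y * u * y⁻¹ ∈ U := (Subgroup.mem_normalizer_iff.mp hy u).mp huU
    exact Subgroup.mem_inf.mpr ⟨h1, hD.2 u huD y (hUS h1)⟩
  have hPO : IsPOver p U (Subgroup.normalizer (U : Set G)) := by
    refine ⟨Subgroup.centralizer_le_normalizer _, le_rfl, Subgroup.le_normalizer, ?_⟩
    intro k hk
    have hn0 : orderOf k ≠ 0 := (orderOf_pos k).ne'
    obtain ⟨a, m, hpm, hnm⟩ := Nat.exists_eq_pow_mul_and_not_dvd hn0 p hp.ne_one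
    refine ⟨a, ?_⟩
    have hym : (k ^ p ^ a) ^ m = 1 := by
      rw [← pow_mul, ← hnm]; exact pow_orderOf_eq_one k
    have hcop : Nat.Coprime (orderOf (k ^ p ^ a)) p := by
      have h1 : orderOf (k ^ p ^ a) ∣ m := orderOf_dvd_of_pow_eq_one hym
      have h2 : Nat.Coprime m p := ((Nat.Prime.coprime_iff_not_dvd hp).mpr hpm).symm
      exact Nat.Coprime.coprime_dvd_left h1 h2
    have hkN : k ^ p ^ a ∈ Subgroup.normalizer (U : Set G) := Subgroup.pow_mem _ hk _
    exact mem_centralizer_of_localCentral_subgroup _ hLC U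
      ((Subgroup.le_normalizer).trans hNN) hUp (hNN hkN) hkN hcop
  obtain ⟨c, hc, r, hr, hxcr⟩ := pover_eq S hFN hPO hx
  obtain ⟨hrS, hrN⟩ := Subgroup.mem_inf.mp hr
  refine ⟨r, hrS, ?_⟩
  intro u hu
  have hru : r * u * r⁻¹ ∈ U := (Subgroup.mem_normalizer_iff.mp hrN u).mp hu
  have h1 := Subgroup.mem_centralizer_iff.mp hc _ hru
  rw [hxcr]
  calc r * u * r⁻¹ = (r * u * r⁻¹) * c * c⁻¹ := by group
    _ = c * (r * u * r⁻¹) * c⁻¹ := by rw [h1]
    _ = c * r * u * (c * r)⁻¹ := by group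

end aux

/-- A Frobenius normal p-complement criterion relative to a strongly closed subgroup. Let G be a finite group, S a Sylow p-subgroup and D a subgroup of S strongly closed in S with respect to G. Then G has a normal p-complement if and only if N_G(U) has a normal p-complement for every subgroup U of D with C_D(U) ≤ U. -/
theorem result {G : Type*} [Group G] [Finite G] {p : ℕ} [Fact p.Prime] (S : Sylow p G) (D : Subgroup G) (hD : Cfsg.IsStronglyClosed D (S : Subgroup G)) : Cfsg.HasNormalPComplement p G ↔ ∀ U : Subgroup G, U ≤ D → D ⊓ Subgroup.centralizer (U : Set G) ≤ U → Cfsg.HasNormalPComplement p ↥(Subgroup.normalizer (U : Set G)) := by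
  constructor
  · intro h U _ _
    exact hasNormalPComplement_subgroup h _
  · intro hyp
    have hfus := agp S (S : Subgroup G)
      (fun U hUS hFN hCR x hx => induces S hD hyp U hUS hFN hCR x hx)
    have hLC : LocalCentral p G := by
      apply localCentral_of_sylow S
      intro Q hQS g hg hcop
      have hconj : ∀ t ∈ Q, g * t * g⁻¹ ∈ Q :=
        fun t ht => (Subgroup.mem_normalizer_iff.mp hg t).mp ht
      obtain ⟨m, hmS, hm⟩ := hfus Q g hQS (fun t ht => hQS (hconj t ht))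
      have hpow : ∀ j : ℕ, ∀ t ∈ Q, g ^ j * t * (g ^ j)⁻¹ ∈ Q ∧
          m ^ j * t * (m ^ j)⁻¹ = g ^ j * t * (g ^ j)⁻¹ := by
        intro j
        induction j with
        | zero => intro t ht; simp [ht]
        | succ j ih =>
          intro t ht
          obtain ⟨h1, h2⟩ := ih t ht
          have e1 : g ^ (j + 1) * t * (g ^ (j + 1))⁻¹ = g * (g ^ j * t * (g ^ j)⁻¹) * g⁻¹ := by
            rw [pow_succ']; group
          have e2 : m ^ (j + 1) * t * (m ^ (j + 1))⁻¹ = m * (m ^ j * t * (m ^ j)⁻¹) * m⁻¹ := by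
            rw [pow_succ']; group
          refine ⟨?_, ?_⟩
          · rw [e1]; exact hconj _ h1
          · rw [e2, e1, h2]; exact hm _ h1
      obtain ⟨b, hb⟩ := (IsPGroup.iff_orderOf.mp S.isPGroup') ⟨m, hmS⟩
      rw [Subgroup.orderOf_mk] at hb
      have hcop' : Nat.Coprime (orderOf g) (orderOf m) := by
        rw [hb]; exact Nat.Coprime.pow_right b hcop
      obtain ⟨a, ha⟩ := exists_pow_eq_self_of_coprime hcop'
      rw [Subgroup.mem_centralizer_iff]
      intro t ht
      have h1 := (hpow (orderOf g * a) t ht).2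
      rw [pow_mul, pow_mul, ha, pow_orderOf_eq_one, one_pow] at h1
      have h2 : m * t * m⁻¹ = t := by simpa using h1
      have h3 : g * t * g⁻¹ = t := by rw [← hm t ht, h2]
      calc t * g = (g * t * g⁻¹) * g := by rw [h3]
        _ = g * t := by group
    obtain ⟨K, hKn, hK⟩ := exists_normal_complement_of_localCentral hLC S
    exact ⟨S, K, hKn, hK⟩

end Cfsg.Agent.S3839
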