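import Cfsg.Statements.S3857
import Mathlib
import Cfsg.Agent.Lib.Helper1.Hall
import Cfsg.Agent.Lib.Helper1.SZ
import Cfsg.Agent.Lib.Helper22.Frobenius
import Cfsg.Agent.Lib.Helper10.FrobComplement

set_option autoImplicit false
open Cfsg

namespace Cfsg.Agent.S3857

open Cfsg.Agent.Lib.Helper1 Cfsg.Agent.Lib.Helper10 Cfsg.Agent.Lib.Helper22
open scoped Pointwise

/-- all prime divisors of `n` lie in `A` -/
def IsA (A : Set ℕ) (n : ℕ) : Prop := ∀ p : ℕ, p.Prime → p ∣ n → p ∈ A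

theorem IsA.of_dvd {A : Set ℕ} {m n : ℕ} (h : IsA A n) (hd : m ∣ n) : IsA A m :=
  fun p hp hpm => h p hp (hpm.trans hd)

theorem IsA.mul {A : Set ℕ} {m n : ℕ} (hm : IsA A m) (hn : IsA A n) : IsA A (m * n) :=
  fun p hp h => ((Nat.Prime.dvd_mul hp).mp h).elim (hm p hp) (hn p hp)

theorem isA_one (A : Set ℕ) : IsA A 1 := fun p hp h => absurd (Nat.dvd_one.mp h) hp.one_lt.ne'

theorem isA_prime_pow {A : Set ℕ} {p : ℕ} (hp : p.Prime) (hpA : p ∈ A) (k : ℕ) : IsA A (p ^ k) := by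
  intro q hq hqp
  have := (Nat.prime_dvd_prime_iff_eq hq hp).mp (hq.dvd_of_dvd_pow hqp)
  rw [this]; exact hpA

theorem coprime_of_isA {A B : Set ℕ} (hAB : ∀ p, p ∈ A → p ∈ B → False) {m n : ℕ} (hm : IsA A m)
    (hn : IsA B n) : Nat.Coprime m n :=
  Nat.coprime_of_dvd (fun k hk hkm hkn => hAB k (hm k hk hkm) (hn k hk hkn))

/-- every element is an `A`-element or a `B`-element -/
def NoMixed (X : Type*) [Group X] (A B : Set ℕ) : Prop :=
  ∀ g : X, IsA A (orderOf g) ∨ IsA B (orderOf g)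

theorem NoMixed.symm {X : Type*} [Group X] {A B : Set ℕ} (h : NoMixed X A B) : NoMixed X B A :=
  fun g => (h g).symm

theorem NoMixed.subgroup {X : Type*} [Group X] {A B : Set ℕ} (h : NoMixed X A B) (K : Subgroup X) :
    NoMixed K A B := fun k => by
  rw [← Subgroup.orderOf_coe]; exact h k

theorem NoMixed.quotient {X : Type*} [Group X] {A B : Set ℕ} (h : NoMixed X A B) (N : Subgroup X)
    [N.Normal] : NoMixed (X ⧸ N) A B := fun q => by
  obtain ⟨g, rfl⟩ := QuotientGroup.mk'_surjective N q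
  rcases h g with h1 | h1
  · exact Or.inl (h1.of_dvd (orderOf_map_dvd _ g))
  · exact Or.inr (h1.of_dvd (orderOf_map_dvd _ g))

theorem NoMixed.not_commute {X : Type*} [Group X] [Finite X] {A B : Set ℕ}
    (hAB : ∀ p, p ∈ A → p ∈ B → False) (h : NoMixed X A B) {x y : X}
    (hc : x * y = y * x) (hx1 : x ≠ 1) (hy1 : y ≠ 1) (hx : IsA A (orderOf x))
    (hy : IsA B (orderOf y)) : False := by
  have hcop : (orderOf x).Coprime (orderOf y) := coprime_of_isA hAB hx hy
  have ho : orderOf (x * y) = orderOf x * orderOf y :=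
    (show Commute x y from hc).orderOf_mul_eq_mul_orderOf_of_coprime hcop
  obtain ⟨a, ha, hax⟩ := Nat.exists_prime_and_dvd (fun h0 => hx1 (orderOf_eq_one_iff.mp h0))
  obtain ⟨b, hb, hby⟩ := Nat.exists_prime_and_dvd (fun h0 => hy1 (orderOf_eq_one_iff.mp h0))
  rcases h (x * y) with h1 | h1
  · exact hAB b (h1 b hb (ho ▸ dvd_mul_of_dvd_right hby _)) (hy b hb hby)
  · exact hAB a (hx a ha hax) (h1 a ha (ho ▸ dvd_mul_of_dvd_left hax _))

theorem noMixed_of_hyp {G : Type*} [Group G] [Finite G] (A : Set ℕ)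
    (hno : ∀ a ∈ A, ∀ b ∉ A, a.Prime → b.Prime → a ∣ Nat.card G → b ∣ Nat.card G →
      ¬ ∃ g : G, orderOf g = a * b) : NoMixed G A Aᶜ := by
  intro g
  by_contra h
  push Not at h
  obtain ⟨h1, h2⟩ := h
  unfold IsA at h1 h2
  push Not at h1 h2
  obtain ⟨b, hb, hbg, hbA⟩ := h1
  obtain ⟨a, ha, hag, haA⟩ := h2
  have haA' : a ∈ A := by simpa using haA
  have hab : a ≠ b := by
    rintro rfl
    exact hbA haA'
  have hcop : Nat.Coprime a b := (Nat.coprime_primes ha hb).mpr hab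
  have hdvd : a * b ∣ orderOf g := hcop.mul_dvd_of_dvd_of_dvd hag hbg
  exact hno a haA' b hbA ha hb (hag.trans (orderOf_dvd_natCard g)) (hbg.trans (orderOf_dvd_natCard g))
    ⟨g ^ (orderOf g / (a * b)), orderOf_pow_orderOf_div (orderOf_pos g).ne' hdvd⟩

/-- a normal Hall subgroup in a group without mixed elements is a Frobenius kernel -/
theorem frobenius_of_noMixed {X : Type*} [Group X] [Finite X] {A B : Set ℕ}
    (hAB : ∀ p, p ∈ A → p ∈ B → False) (h : NoMixed X A B) (N : Subgroup X) [N.Normal]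
    (hN1 : N ≠ ⊥) (hN2 : N ≠ ⊤) (hNA : IsA A (Nat.card N)) (hidx : IsA B N.index) :
    ∃ C : Subgroup X, Cfsg.IsFrobeniusComplement C ∧ Cfsg.frobeniusKernel C = (N : Set X) := by
  have hcop : (Nat.card N).Coprime N.index := coprime_of_isA hAB hNA hidx
  obtain ⟨C, hC⟩ := Subgroup.exists_right_complement'_of_coprime hcop
  have hCcard : N.index = Nat.card C := hC.symm.index_eq_card
  refine ⟨C, frobenius_of_fpf N C hC.disjoint.eq_bot hC.sup_eq_top hN1 ?_ ?_⟩
  · intro hCbot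
    rw [hCbot, Subgroup.card_bot] at hCcard
    exact hN2 (Subgroup.index_eq_one.mp hCcard)
  · intro c hc hc1 n hn hcn
    by_contra hn1
    exact h.not_commute hAB hcn.symm hn1 hc1
      (hNA.of_dvd (Subgroup.orderOf_dvd_natCard N hn))
      ((hCcard ▸ hidx).of_dvd (Subgroup.orderOf_dvd_natCard C hc))

theorem exists_parts (A : Set ℕ) : ∀ n : ℕ, n ≠ 0 → ∃ u w, n = u * w ∧ IsA A u ∧ IsA Aᶜ w := by
  intro n
  induction n using Nat.strong_induction_on with
  | _ n ih =>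
    intro hn
    by_cases h1 : n = 1
    · exact ⟨1, 1, by rw [h1], isA_one A, isA_one _⟩
    · obtain ⟨p, hpdef⟩ : ∃ p, p = n.minFac := ⟨_, rfl⟩
      have hp : p.Prime := hpdef ▸ Nat.minFac_prime h1
      obtain ⟨m, hm⟩ : p ∣ n := hpdef ▸ Nat.minFac_dvd n
      have hm0 : m ≠ 0 := by
        rintro rfl
        rw [mul_zero] at hm
        exact hn hm
      have hmn : m < n := by
        rw [hm]
        have := hp.one_lt
        nlinarith [Nat.pos_of_ne_zero hm0]
      obtain ⟨u, w, huw, hu, hw⟩ := ih m hmn hm0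
      by_cases hpA : p ∈ A
      · refine ⟨p * u, w, by rw [hm, huw, mul_assoc], ?_, hw⟩
        have := isA_prime_pow hp hpA 1
        rw [pow_one] at this
        exact this.mul hu
      · refine ⟨u, p * w, by rw [hm, huw]; ring, hu, ?_⟩
        have := isA_prime_pow (A := Aᶜ) hp hpA 1
        rw [pow_one] at this
        exact this.mul hw

theorem exists_normal_hall {Q : Type*} [Group Q] [Finite Q] [Group.IsSolvable Q] [Nontrivial Q]
    (A : Set ℕ) (hNM : NoMixed Q A Aᶜ)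
    (hmax : ∀ N : Subgroup Q, N.Normal → IsA A (Nat.card N) → N = ⊥)
    (hrank : ∀ (r : ℕ) (P : Subgroup Q), r.Prime → r ∉ A → (∀ x ∈ P, x ^ r = 1) →
      ∀ x ∈ P, x ≠ 1 → ∀ y ∈ P, y ∈ Subgroup.zpowers x) :
    ∃ M : Subgroup Q, M.Normal ∧ M ≠ ⊥ ∧ IsA Aᶜ (Nat.card M) ∧ IsA A M.index := by
  have hAB : ∀ p, p ∈ A → p ∈ Aᶜ → False := fun p h1 h2 => h2 h1
  obtain ⟨r, hr, P, hPn, -, hP1, -, hPexp⟩ :=
    exists_normal_elementary_abelian_le (G := Q) (Nat.card (⊤ : Subgroup Q)) ⊤ rfl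
      top_ne_bot inferInstance
  haveI := Fact.mk hr
  have hPG : IsPGroup r ↥P := fun x =>
    ⟨1, by rw [pow_one]; exact Subtype.ext (by rw [Subgroup.coe_pow]; exact hPexp x x.2)⟩
  obtain ⟨k, hk⟩ := IsPGroup.iff_card.mp hPG
  have hrA : r ∉ A := by
    intro hrA
    apply hP1
    apply hmax P hPn
    rw [hk]
    exact isA_prime_pow hr hrA k
  obtain ⟨⟨z, hzP⟩, hz1'⟩ := Subgroup.ne_bot_iff_exists_ne_one.mp hP1
  have hz1 : z ≠ 1 := fun h => hz1' (Subtype.ext h)
  have hPz : ∀ y ∈ P, y ∈ Subgroup.zpowers z := hrank r P hr hrA hPexp z hzP hz1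
  have hoz : orderOf z = r := orderOf_eq_prime (hPexp z hzP) hz1
  obtain ⟨C, hCdef⟩ : ∃ C : Subgroup Q, C = Subgroup.centralizer (P : Set Q) := ⟨_, rfl⟩
  haveI hCn : C.Normal := by rw [hCdef]; exact Subgroup.normal_centralizer
  have hmemC : ∀ g : Q, g ∈ C ↔ g * z = z * g := by
    intro g
    rw [hCdef, Subgroup.mem_centralizer_iff]
    constructor
    · intro h
      exact (h z hzP).symm
    · intro h y hy
      obtain ⟨i, rfl⟩ := Subgroup.mem_zpowers_iff.mp (hPz y hy)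
      exact ((show Commute g z from h).zpow_right i).eq.symm
  have hCA : IsA Aᶜ (Nat.card C) := by
    intro a ha haC haA
    haveI := Fact.mk ha
    obtain ⟨x, hx⟩ := exists_prime_orderOf_dvd_card' (G := C) a haC
    have hx1 : (x : Q) ≠ 1 := by
      intro h
      have : x = 1 := Subtype.ext h
      rw [this, orderOf_one] at hx
      exact ha.one_lt.ne hx
    have hox : orderOf (x : Q) = a := by rw [Subgroup.orderOf_coe, hx]
    apply hNM.not_commute hAB ((hmemC x).mp x.2) hx1 hz1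
    · rw [hox]
      have := isA_prime_pow ha haA 1
      rwa [pow_one] at this
    · rw [hoz]
      have := isA_prime_pow (A := Aᶜ) hr hrA 1
      rwa [pow_one] at this
  have hder : ∀ x y : Q, x * y * x⁻¹ * y⁻¹ ∈ C := by
    intro x y
    obtain ⟨i, hi⟩ := Subgroup.mem_zpowers_iff.mp (hPz _ (hPn.conj_mem z hzP x))
    obtain ⟨j, hj⟩ := Subgroup.mem_zpowers_iff.mp (hPz _ (hPn.conj_mem z hzP y))
    have h1 : (x * y) * z * (x * y)⁻¹ = z ^ (i * j) := by
      calc (x * y) * z * (x * y)⁻¹ = x * (y * z * y⁻¹) * x⁻¹ := by group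
        _ = x * z ^ j * x⁻¹ := by rw [hj]
        _ = (x * z * x⁻¹) ^ j := by rw [conj_zpow]
        _ = z ^ (i * j) := by rw [← hi, zpow_mul]
    have h2 : (y * x) * z * (y * x)⁻¹ = z ^ (i * j) := by
      calc (y * x) * z * (y * x)⁻¹ = y * (x * z * x⁻¹) * y⁻¹ := by group
        _ = y * z ^ i * y⁻¹ := by rw [hi]
        _ = (y * z * y⁻¹) ^ i := by rw [conj_zpow]
        _ = z ^ (i * j) := by rw [← hj, ← zpow_mul, mul_comm]
    have h3 : (y * x)⁻¹ * (x * y) ∈ C := by
      rw [hmemC]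
      have e : (x * y) * z * (x * y)⁻¹ = (y * x) * z * (y * x)⁻¹ := h1.trans h2.symm
      calc ((y * x)⁻¹ * (x * y)) * z = (y * x)⁻¹ * ((x * y) * z * (x * y)⁻¹) * (x * y) := by group
        _ = (y * x)⁻¹ * ((y * x) * z * (y * x)⁻¹) * (x * y) := by rw [e]
        _ = z * ((y * x)⁻¹ * (x * y)) := by group
    have h4 := hCn.conj_mem _ h3 (y * x)
    have h5 : (y * x) * ((y * x)⁻¹ * (x * y)) * (y * x)⁻¹ = x * y * x⁻¹ * y⁻¹ := by group
    rwa [h5] at h4
  obtain ⟨u, w, huw, hu, hw⟩ := exists_parts A (Nat.card Q) Nat.card_pos.ne'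
  have hcop : Nat.Coprime w u := (coprime_of_isA hAB hu hw).symm
  have hcard : Nat.card Q = w * u := by rw [huw, mul_comm]
  obtain ⟨T, hT⟩ := hall_exists w u hcard hcop
  obtain ⟨g, hg⟩ := hall_le_conj w u hcard hcop T C hT (coprime_of_isA hAB hu hCA).symm
  have hCT : C ≤ T := by
    intro c hc
    have h1 : g * c * g⁻¹ ∈ MulAut.conj g • T := hg (hCn.conj_mem c hc g)
    rw [mem_conj_smul] at h1
    have h2 : g⁻¹ * (g * c * g⁻¹) * g = c := by group
    rwa [h2] at h1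
  have hTn : T.Normal := by
    constructor
    intro t ht g
    have h1 : g * t * g⁻¹ = (g * t * g⁻¹ * t⁻¹) * t := by group
    rw [h1]
    exact T.mul_mem (hCT (hder g t)) ht
  refine ⟨T, hTn, ?_, hT ▸ hw, ?_⟩
  · intro hbot
    have hzC : z ∈ C := (hmemC z).mpr rfl
    have := hCT hzC
    rw [hbot, Subgroup.mem_bot] at this
    exact hz1 this
  · have h1 : T.index * Nat.card T = Nat.card Q := Subgroup.index_mul_card T
    rw [hT, hcard] at h1
    have hw0 : 0 < w := by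
      rcases Nat.eq_zero_or_pos w with h0 | h0
      · rw [h0, zero_mul] at hcard
        exact absurd hcard Nat.card_pos.ne'
      · exact h0
    have h2 : T.index = u := by
      have : T.index * w = u * w := by rw [h1, mul_comm]
      exact Nat.eq_of_mul_eq_mul_right hw0 this
    rw [h2]
    exact hu

theorem rank_lift {G : Type*} [Group G] [Finite G] (A : Set ℕ) (hNM : NoMixed G A Aᶜ)
    (H : Subgroup G) [hHn : H.Normal] (hH1 : H ≠ ⊥) (hHA : IsA A (Nat.card H))
    (r : ℕ) (P : Subgroup (G ⧸ H)) (hr : r.Prime) (hrA : r ∉ A) (hPexp : ∀ x ∈ P, x ^ r = 1)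
    (x : G ⧸ H) (hx : x ∈ P) (hx1 : x ≠ 1) (y : G ⧸ H) (hy : y ∈ P) :
    y ∈ Subgroup.zpowers x := by
  haveI := Fact.mk hr
  have hAB : ∀ p, p ∈ A → p ∈ Aᶜ → False := fun p h1 h2 => h2 h1
  have hPG : IsPGroup r ↥P := fun x =>
    ⟨1, by rw [pow_one]; exact Subtype.ext (by rw [Subgroup.coe_pow]; exact hPexp x x.2)⟩
  obtain ⟨k, hk⟩ := IsPGroup.iff_card.mp hPG
  have hrH : ¬ r ∣ Nat.card H := fun h => hrA (hHA r hr h)
  obtain ⟨R, hRdef⟩ : ∃ R : Subgroup G, R = P.comap (QuotientGroup.mk' H) := ⟨_, rfl⟩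
  have hRcard : Nat.card R = Nat.card P * Nat.card H := by rw [hRdef]; exact card_comap_mk H P
  obtain ⟨S0⟩ : Nonempty (Sylow r ↥R) := inferInstance
  obtain ⟨S, hSdef⟩ : ∃ S : Subgroup G, S = (S0 : Subgroup ↥R).map R.subtype := ⟨_, rfl⟩
  have hfac : (Nat.card R).factorization r = k := by
    rw [hRcard, hk, Nat.factorization_mul (pow_ne_zero k hr.pos.ne') Nat.card_pos.ne',
      Nat.Prime.factorization_pow hr, Finsupp.add_apply,
      Nat.factorization_eq_zero_of_not_dvd hrH]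
    simp
  have hScard : Nat.card S = r ^ k := by
    rw [hSdef, ← Nat.card_congr
      ((S0 : Subgroup ↥R).equivMapOfInjective R.subtype R.subtype_injective).toEquiv,
      S0.card_eq_multiplicity, hfac]
  have hSR : S ≤ R := by rw [hSdef]; exact Subgroup.map_subtype_le _
  have hSH : S ⊓ H = ⊥ := by
    apply (Subgroup.disjoint_of_coprime_natCard _).eq_bot
    rw [hScard]
    exact Nat.Coprime.pow_left k ((Nat.Prime.coprime_iff_not_dvd hr).mpr hrH)
  have hSmap : S.map (QuotientGroup.mk' H) = P := by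
    apply Subgroup.eq_of_le_of_card_ge
    · rintro _ ⟨s, hs, rfl⟩
      have := hSR hs
      rw [hRdef] at this
      exact this
    · rw [card_map_mk_of_disjoint H hSH, hScard, hk]
  have hSpg : IsPGroup r ↥S := IsPGroup.of_card hScard
  have hfpf : ∀ s ∈ S, s ≠ 1 → ∀ n ∈ H, s * n = n * s → n = 1 := by
    intro s hs hs1 n hn hc
    by_contra hn1
    apply hNM.not_commute hAB hc.symm hn1 hs1
    · exact hHA.of_dvd (Subgroup.orderOf_dvd_natCard H hn)
    · have h1 : IsA Aᶜ (Nat.card S) := by rw [hScard]; exact isA_prime_pow hr hrA k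
      exact h1.of_dvd (Subgroup.orderOf_dvd_natCard S hs)
  have hU := uniqueOrderP_of_fpf S H hSpg hH1
    (by rw [Subgroup.normalizer_eq_top]; exact le_top) hrH hfpf
  have hxS : x ∈ S.map (QuotientGroup.mk' H) := by rw [hSmap]; exact hx
  have hyS : y ∈ S.map (QuotientGroup.mk' H) := by rw [hSmap]; exact hy
  obtain ⟨sx, hsx, rfl⟩ := hxS
  obtain ⟨sy, hsy, rfl⟩ := hyS
  have hpow : ∀ s ∈ S, QuotientGroup.mk' H s ∈ P → s ^ r = 1 := by
    intro s hs hsP
    have h1 : s ^ r ∈ H := by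
      rw [← QuotientGroup.eq_one_iff]
      have := hPexp _ hsP
      rwa [← map_pow] at this
    have h2 : s ^ r ∈ S ⊓ H := ⟨S.pow_mem hs r, h1⟩
    rwa [hSH, Subgroup.mem_bot] at h2
  have hsx1 : sx ≠ 1 := by
    rintro rfl
    exact hx1 (map_one _)
  have h3 := hU ⟨sx, hsx⟩ ⟨sy, hsy⟩ (Subtype.ext (by rw [Subgroup.coe_pow]; exact hpow sx hsx hx))
    (fun h => hsx1 (congrArg Subtype.val h))
    (Subtype.ext (by rw [Subgroup.coe_pow]; exact hpow sy hsy hy))
  obtain ⟨i, hi⟩ := Subgroup.mem_zpowers_iff.mp h3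
  have hi' : sx ^ i = sy := by
    have := congrArg Subtype.val hi
    rwa [Subgroup.coe_zpow] at this
  rw [Subgroup.mem_zpowers_iff]
  exact ⟨i, by rw [← map_zpow, hi']⟩

theorem main {G : Type*} [Group G] [Finite G] [Group.IsSolvable G] (A : Set ℕ)
    (hNM : NoMixed G A Aᶜ) (hb : ∃ b ∉ A, b.Prime ∧ b ∣ Nat.card G)
    (P0 : Subgroup G) (hP0n : P0.Normal) (hP01 : P0 ≠ ⊥) (hP0A : IsA A (Nat.card P0)) :
    (∃ C : Subgroup G, Cfsg.IsFrobeniusComplement C) ∨
    (∃ (H K : Subgroup G) (_ : H.Normal), K.Normal ∧ H < K ∧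
      (∃ C : Subgroup ↥K, Cfsg.IsFrobeniusComplement C ∧ Cfsg.frobeniusKernel C = (H.subgroupOf K : Set ↥K)) ∧
      (∃ C : Subgroup (G ⧸ H), Cfsg.IsFrobeniusComplement C ∧ Cfsg.frobeniusKernel C = (K.map (QuotientGroup.mk' H) : Set (G ⧸ H)))) := by
  have hAB : ∀ p, p ∈ A → p ∈ Aᶜ → False := fun p h1 h2 => h2 h1
  have hBA : ∀ p, p ∈ Aᶜ → p ∈ A → False := fun p h1 h2 => h1 h2
  obtain ⟨H, ⟨hHn, hHA⟩, hHmax⟩ := Set.Finite.exists_maximalFor (fun N : Subgroup G => Nat.card N)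
    {N : Subgroup G | N.Normal ∧ IsA A (Nat.card N)} (Set.toFinite _) ⟨P0, hP0n, hP0A⟩
  haveI := hHn
  have hH1 : H ≠ ⊥ := by
    intro h
    have h1 : Nat.card P0 ≤ Nat.card H :=
      hHmax ⟨hP0n, hP0A⟩ (by show Nat.card H ≤ Nat.card P0; rw [h, Subgroup.card_bot]; exact Nat.card_pos)
    rw [h, Subgroup.card_bot] at h1
    have h2 : 1 < Nat.card P0 := (Subgroup.one_lt_card_iff_ne_bot P0).mpr hP01
    omega
  have hHtop : H ≠ ⊤ := by
    intro h
    obtain ⟨b, hbA, hbp, hbG⟩ := hb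
    apply hbA
    apply hHA b hbp
    rw [h, Subgroup.card_top]
    exact hbG
  haveI : Nontrivial (G ⧸ H) := by
    rw [← Finite.one_lt_card_iff_nontrivial, ← Subgroup.index_eq_card]
    have h1 : H.index ≠ 1 := fun h => hHtop (Subgroup.index_eq_one.mp h)
    have h2 : H.index ≠ 0 := Subgroup.index_ne_zero_of_finite
    omega
  have hNMQ : NoMixed (G ⧸ H) A Aᶜ := hNM.quotient H
  have hmaxQ : ∀ N : Subgroup (G ⧸ H), N.Normal → IsA A (Nat.card N) → N = ⊥ := by
    intro N hNn hNA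
    have h1 : Nat.card (N.comap (QuotientGroup.mk' H)) = Nat.card N * Nat.card H :=
      card_comap_mk H N
    have h2 : Nat.card (N.comap (QuotientGroup.mk' H)) ≤ Nat.card H :=
      hHmax ⟨hNn.comap _, by rw [h1]; exact hNA.mul hHA⟩
        (by show Nat.card H ≤ Nat.card (N.comap (QuotientGroup.mk' H)); rw [h1]; exact Nat.le_mul_of_pos_left _ Nat.card_pos)
    rw [h1] at h2
    have h3 : 0 < Nat.card H := Nat.card_pos
    have h4 : 0 < Nat.card N := Nat.card_pos
    have : Nat.card N = 1 := by nlinarith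
    exact Subgroup.card_eq_one.mp this
  have hrankQ : ∀ (r : ℕ) (P : Subgroup (G ⧸ H)), r.Prime → r ∉ A → (∀ x ∈ P, x ^ r = 1) →
      ∀ x ∈ P, x ≠ 1 → ∀ y ∈ P, y ∈ Subgroup.zpowers x :=
    fun r P hr hrA hPexp x hx hx1 y hy => rank_lift A hNM H hH1 hHA r P hr hrA hPexp x hx hx1 y hy
  obtain ⟨M, hMn, hM1, hMA', hMidx⟩ := exists_normal_hall A hNMQ hmaxQ hrankQ
  by_cases hMtop : M = ⊤
  · left
    have hidx : IsA Aᶜ H.index := by
      rw [Subgroup.index_eq_card, ← Subgroup.card_top (G := G ⧸ H), ← hMtop]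
      exact hMA'
    obtain ⟨C, hC, -⟩ := frobenius_of_noMixed hAB hNM H hH1 hHtop hHA hidx
    exact ⟨C, hC⟩
  · right
    obtain ⟨K, hKdef⟩ : ∃ K : Subgroup G, K = M.comap (QuotientGroup.mk' H) := ⟨_, rfl⟩
    haveI hKn : K.Normal := by rw [hKdef]; exact hMn.comap _
    have hHK : H ≤ K := by
      rw [hKdef]
      conv_lhs => rw [← QuotientGroup.ker_mk' H]
      exact MonoidHom.ker_le_comap _ _
    have hKmap : K.map (QuotientGroup.mk' H) = M := by
      rw [hKdef]
      exact Subgroup.map_comap_eq_self_of_surjective (QuotientGroup.mk'_surjective H) M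
    have hKcard : Nat.card K = Nat.card M * Nat.card H := by rw [hKdef]; exact card_comap_mk H M
    have hM1' : 1 < Nat.card M := (Subgroup.one_lt_card_iff_ne_bot M).mpr hM1
    have hHpos : 0 < Nat.card H := Nat.card_pos
    have hlt : H < K := by
      refine lt_of_le_of_ne hHK ?_
      intro h
      rw [← h] at hKcard
      nlinarith
    refine ⟨H, K, hHn, hKn, hlt, ?_, ?_⟩
    · have hcardHK : Nat.card (H.subgroupOf K) = Nat.card H :=
        Nat.card_congr (Subgroup.subgroupOfEquivOfLe hHK).toEquiv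
      have hidxHK : (H.subgroupOf K).index = Nat.card M := by
        have := Subgroup.index_mul_card (H.subgroupOf K)
        rw [hcardHK, hKcard] at this
        exact Nat.eq_of_mul_eq_mul_right hHpos this
      apply frobenius_of_noMixed hAB (hNM.subgroup K) (H.subgroupOf K)
      · intro h
        have h1 : 1 < Nat.card H := (Subgroup.one_lt_card_iff_ne_bot H).mpr hH1
        rw [h, Subgroup.card_bot] at hcardHK
        omega
      · intro h
        rw [h, Subgroup.index_top] at hidxHK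
        omega
      · rw [hcardHK]; exact hHA
      · rw [hidxHK]; exact hMA'
    · rw [hKmap]
      haveI := hMn
      exact frobenius_of_noMixed hBA hNMQ.symm M hM1 hMtop hMA' hMidx

/-- A finite solvable group whose prime graph (prime divisors of the order, two distinct primes joined when there is an element of order their product) is disconnected is a Frobenius group or a 2-Frobenius group (it has normal subgroups H < K with K a Frobenius group with kernel H and G/H a Frobenius group with kernel K/H). -/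
theorem result {G : Type*} [Group G] [Finite G] (hsol : Group.IsSolvable G)
    (hdisc : (∃ A : Set ℕ, (∃ a ∈ A, a.Prime ∧ a ∣ Nat.card G) ∧ (∃ b ∉ A, b.Prime ∧ b ∣ Nat.card G) ∧
      ∀ a ∈ A, ∀ b ∉ A, a.Prime → b.Prime → a ∣ Nat.card G → b ∣ Nat.card G → ¬ ∃ g : G, orderOf g = a * b)) :
    (∃ C : Subgroup G, Cfsg.IsFrobeniusComplement C) ∨
    (∃ (H K : Subgroup G) (_ : H.Normal), K.Normal ∧ H < K ∧
      (∃ C : Subgroup ↥K, Cfsg.IsFrobeniusComplement C ∧ Cfsg.frobeniusKernel C = (H.subgroupOf K : Set ↥K)) ∧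
      (∃ C : Subgroup (G ⧸ H), Cfsg.IsFrobeniusComplement C ∧ Cfsg.frobeniusKernel C = (K.map (QuotientGroup.mk' H) : Set (G ⧸ H)))) := by
  obtain ⟨A, ⟨a, haA, hap, haG⟩, ⟨b, hbA, hbp, hbG⟩, hno⟩ := hdisc
  haveI := hsol
  have hNM := noMixed_of_hyp A hno
  have hGnt : (⊤ : Subgroup G) ≠ ⊥ := by
    intro h
    have h1 : Nat.card (⊤ : Subgroup G) = 1 := by rw [h, Subgroup.card_bot]
    rw [Subgroup.card_top] at h1
    rw [h1] at haG
    exact hap.one_lt.ne' (Nat.dvd_one.mp haG)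
  obtain ⟨p, hp, P0, hP0n, -, hP01, -, hP0exp⟩ :=
    exists_normal_elementary_abelian_le (G := G) (Nat.card (⊤ : Subgroup G)) ⊤ rfl hGnt inferInstance
  haveI := Fact.mk hp
  have hPG : IsPGroup p ↥P0 := fun x =>
    ⟨1, by rw [pow_one]; exact Subtype.ext (by rw [Subgroup.coe_pow]; exact hP0exp x x.2)⟩
  obtain ⟨k, hk⟩ := IsPGroup.iff_card.mp hPG
  by_cases hpA : p ∈ A
  · exact main A hNM ⟨b, hbA, hbp, hbG⟩ P0 hP0n hP01 (by rw [hk]; exact isA_prime_pow hp hpA k)
  · have hNM' : NoMixed G Aᶜ Aᶜᶜ := by rw [compl_compl]; exact hNM.symm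
    exact main Aᶜ hNM' ⟨a, fun h => h haA, hap, haG⟩ P0 hP0n hP01
      (by rw [hk]; exact isA_prime_pow hp hpA k)

end Cfsg.Agent.S3857
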