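import Cfsg.Statements.S3858
import Mathlib

set_option autoImplicit false
open Cfsg

namespace Cfsg.Agent.S3858

theorem mem_conj {G : Type*} [Group G] (M : Subgroup G) (g x : G) :
    x ∈ M.map (MulAut.conj g).toMonoidHom ↔ g⁻¹ * x * g ∈ M := by
  rw [Subgroup.mem_map_equiv]
  simp [MulAut.conj_symm_apply]

theorem isCoatom_conj {G : Type*} [Group G] (M : Subgroup G) (g : G) (hM : IsCoatom M) :
    IsCoatom (M.map (MulAut.conj g).toMonoidHom) := by
  have := (OrderIso.isCoatom_iff (MulEquiv.mapSubgroup (MulAut.conj g)) M).mpr hM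
  exact this

theorem index_conj {G : Type*} [Group G] (M : Subgroup G) (g : G) :
    (M.map (MulAut.conj g).toMonoidHom).index = M.index := by
  exact Subgroup.index_map_of_bijective (MulAut.conj g).bijective M

/-- a subgroup of index prime to `r` contains a conjugate of the Sylow subgroup -/
theorem exists_conj_le {G : Type*} [Group G] [Finite G] {r : ℕ} [Fact r.Prime] (R : Sylow r G)
    (M : Subgroup G) (h : ¬ r ∣ M.index) :
    ∃ g : G, (R : Subgroup G) ≤ M.map (MulAut.conj g).toMonoidHom := by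
  have hfix := IsPGroup.nonempty_fixed_point_of_prime_not_dvd_card R.2 (G ⧸ M)
    (by rwa [← Subgroup.index_eq_card])
  obtain ⟨q, hq⟩ := hfix
  induction q using QuotientGroup.induction_on with
  | H g =>
    refine ⟨g, fun x hx => ?_⟩
    rw [mem_conj]
    have := hq ⟨x, hx⟩
    have h2 : ((x * g : G) : G ⧸ M) = (g : G ⧸ M) := this
    rw [QuotientGroup.eq] at h2
    have h3 : (x * g)⁻¹ * g = (g⁻¹ * x * g)⁻¹ := by group
    rw [h3] at h2
    exact M.inv_mem_iff.mp h2

/-- Let G be a finite group with a normal non-abelian simple subgroup T whose centralizer is trivial (G almost simple with socle T), r a prime and R a Sylow r-subgroup of G meeting T nontrivially. Then R lies in exactly one maximal subgroup of G if and only if G has exactly one conjugacy class of maximal subgroups whose index is prime to r. -/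
theorem result {G : Type*} [Group G] [Finite G] (T : Subgroup G) [T.Normal] (hT : IsSimpleGroup T) (hna : ¬ IsMulCommutative T)
    (hC : Subgroup.centralizer (T : Set G) = ⊥) {r : ℕ} [Fact r.Prime] (R : Sylow r G) (hR0 : (R : Subgroup G) ⊓ T ≠ ⊥) :
    (∃! M : Subgroup G, IsCoatom M ∧ (R : Subgroup G) ≤ M) ↔
      ((∃ M : Subgroup G, IsCoatom M ∧ ¬ r ∣ M.index) ∧
        ∀ M₁ M₂ : Subgroup G, IsCoatom M₁ → ¬ r ∣ M₁.index → IsCoatom M₂ → ¬ r ∣ M₂.index → ∃ g : G, M₂ = M₁.map (MulAut.conj g).toMonoidHom) := by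
  have hidx : ∀ M : Subgroup G, (R : Subgroup G) ≤ M → ¬ r ∣ M.index := by
    intro M hM hdvd
    exact R.not_dvd_index (dvd_trans hdvd (Subgroup.index_dvd_of_le hM))
  constructor
  · rintro ⟨M, ⟨hMc, hRM⟩, huniq⟩
    refine ⟨⟨M, hMc, hidx M hRM⟩, ?_⟩
    intro M₁ M₂ h1 h1' h2 h2'
    obtain ⟨g1, hg1⟩ := exists_conj_le R M₁ h1'
    obtain ⟨g2, hg2⟩ := exists_conj_le R M₂ h2'
    have e1 := huniq _ ⟨isCoatom_conj M₁ g1 h1, hg1⟩
    have e2 := huniq _ ⟨isCoatom_conj M₂ g2 h2, hg2⟩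
    refine ⟨g2⁻¹ * g1, ?_⟩
    ext x
    rw [mem_conj]
    have h3 : x ∈ M₂ ↔ g2 * x * g2⁻¹ ∈ M₂.map (MulAut.conj g2).toMonoidHom := by
      rw [mem_conj]
      have : g2⁻¹ * (g2 * x * g2⁻¹) * g2 = x := by group
      rw [this]
    rw [h3, e2, ← e1, mem_conj]
    have : g1⁻¹ * (g2 * x * g2⁻¹) * g1 = (g2⁻¹ * g1)⁻¹ * x * (g2⁻¹ * g1) := by group
    rw [this]
  · rintro ⟨⟨M0, hM0c, hM0i⟩, hconj⟩
    -- R is not normal
    have hRnn : Subgroup.normalizer ((R : Subgroup G) : Set G) ≠ ⊤ := by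
      intro htop
      have hRn : (R : Subgroup G).Normal := Subgroup.normalizer_eq_top_iff.mp htop
      have hinf : ((R : Subgroup G) ⊓ T).Normal := inferInstance
      have hsub : (((R : Subgroup G) ⊓ T).subgroupOf T).Normal := inferInstance
      rcases hT.eq_bot_or_eq_top_of_normal _ hsub with hb | ht
      · apply hR0
        rw [Subgroup.subgroupOf_eq_bot] at hb
        have := disjoint_iff.mp hb
        rwa [inf_assoc, inf_idem] at this
      · rw [Subgroup.subgroupOf_eq_top] at ht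
        have hTR : T ≤ (R : Subgroup G) := le_trans ht inf_le_left
        have hTp : IsPGroup r T := R.2.to_le hTR
        have : Nontrivial T := hT.toNontrivial
        have hcen := hTp.center_nontrivial
        rcases hT.eq_bot_or_eq_top_of_normal (Subgroup.center T) inferInstance with hb | ht
        · exact (Subgroup.nontrivial_iff_ne_bot _).mp hcen hb
        · exact hna (Subgroup.center_eq_top_iff.mp ht)
    obtain ⟨M', hM'c, hNM'⟩ := (eq_top_or_exists_le_coatom _).resolve_left hRnn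
    have hRM' : (R : Subgroup G) ≤ M' := le_trans Subgroup.le_normalizer hNM'
    refine ⟨M', ⟨hM'c, hRM'⟩, ?_⟩
    rintro M₁ ⟨hM₁c, hRM₁⟩
    obtain ⟨c, hc⟩ := hconj M' M₁ hM'c (hidx M' hRM') hM₁c (hidx M₁ hRM₁)
    -- c • R ≤ M₁
    have hR2 : ((c • R : Sylow r G) : Subgroup G) ≤ M₁ := by
      intro x hx
      rw [hc, mem_conj]
      rw [Sylow.coe_subgroup_smul, Subgroup.mem_pointwise_smul_iff_inv_smul_mem] at hx
      apply hRM'
      simpa [MulAut.smul_def, mul_assoc] using hx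
    obtain ⟨m, hm⟩ := MulAction.exists_smul_eq ↥M₁ ((c • R).subtype hR2) (R.subtype hRM₁)
    rw [Sylow.smul_subtype] at hm
    have hm2 : m • c • R = R := Sylow.subtype_injective hm
    have hm3 : ((m : G) * c) • R = R := by
      rw [mul_smul]; exact hm2
    have hmc : (m : G) * c ∈ M' := hNM' (Sylow.smul_eq_iff_mem_normalizer.mp hm3)
    clear hm hm2 hm3
    obtain ⟨m, hmM⟩ := m
    simp only at hmc
    -- M₁ = M'
    ext x
    constructor
    · intro hx
      -- x ∈ M₁ → m x m⁻¹ ∈ M₁ = c M' c⁻¹ → c⁻¹ m x m⁻¹ c ∈ M'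
      have h1 : m⁻¹ * x * m ∈ M₁ := M₁.mul_mem (M₁.mul_mem (M₁.inv_mem hmM) hx) hmM
      rw [hc, mem_conj] at h1
      have h2 : x = (m * c) * (c⁻¹ * (m⁻¹ * x * m) * c) * (m * c)⁻¹ := by group
      rw [h2]
      exact M'.mul_mem (M'.mul_mem hmc h1) (M'.inv_mem hmc)
    · intro hx
      have h1 : (m * c)⁻¹ * x * (m * c) ∈ M' := M'.mul_mem (M'.mul_mem (M'.inv_mem hmc) hx) hmc
      have h2 : m⁻¹ * x * m ∈ M₁ := by
        rw [hc, mem_conj]
        have : c⁻¹ * (m⁻¹ * x * m) * c = (m * c)⁻¹ * x * (m * c) := by group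
        rw [this]; exact h1
      have h3 : x = m * (m⁻¹ * x * m) * m⁻¹ := by group
      rw [h3]
      exact M₁.mul_mem (M₁.mul_mem hmM h2) (M₁.inv_mem hmM)

end Cfsg.Agent.S3858
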