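import Cfsg.Statements.S3859
import Mathlib

set_option autoImplicit false
open Cfsg

namespace Cfsg.Agent.S3859

theorem mem_conj {G : Type*} [Group G] (M : Subgroup G) (g x : G) :
    x ∈ M.map (MulAut.conj g).toMonoidHom ↔ g⁻¹ * x * g ∈ M := by
  rw [Subgroup.mem_map_equiv]
  simp [MulAut.conj_symm_apply]

theorem isCoatom_conj {G : Type*} [Group G] (M : Subgroup G) (g : G) (hM : IsCoatom M) :
    IsCoatom (M.map (MulAut.conj g).toMonoidHom) := by
  have := (OrderIso.isCoatom_iff (MulEquiv.mapSubgroup (MulAut.conj g)) M).mpr hM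
  exact this

theorem mem_smul_sylow {G : Type*} [Group G] {r : ℕ} (R : Sylow r G) (g x : G) :
    x ∈ ((g • R : Sylow r G) : Subgroup G) ↔ g⁻¹ * x * g ∈ (R : Subgroup G) := by
  rw [Sylow.coe_subgroup_smul, Subgroup.mem_pointwise_smul_iff_inv_smul_mem]
  simp [MulAut.smul_def, mul_assoc]

/-- the core argument, for a Sylow subgroup `Q` of `G` whose intersection with `T` is Sylow in `T` -/
theorem core {G : Type*} [Group G] [Finite G] (T : Subgroup G) [T.Normal] (hT : IsSimpleGroup T)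
    (hna : ¬ IsMulCommutative T) {r : ℕ} [Fact r.Prime] (Q : Sylow r G)
    (hQ0 : (Q : Subgroup G) ⊓ T ≠ ⊥) (P : Sylow r T)
    (hPQ : (Q : Subgroup G).subgroupOf T = (P : Subgroup T))
    (huniq : ∃! M : Subgroup G, IsCoatom M ∧ (Q : Subgroup G) ≤ M) : IsPGroup r (G ⧸ T) := by
  obtain ⟨M, ⟨hMc, hQM⟩, hMu⟩ := huniq
  have hmap : (P : Subgroup T).map T.subtype = (Q : Subgroup G) ⊓ T := by
    rw [← hPQ, Subgroup.subgroupOf_map_subtype]
  have hfrat := Sylow.normalizer_sup_eq_top P
  rw [hmap] at hfrat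
  set N := Subgroup.normalizer (((Q : Subgroup G) ⊓ T : Subgroup G) : Set G) with hN
  -- Q ≤ N
  have hQN : (Q : Subgroup G) ≤ N := by
    intro q hq
    rw [hN, Subgroup.mem_normalizer_iff]
    intro x
    simp only [Subgroup.mem_inf]
    constructor
    · rintro ⟨h1, h2⟩
      exact ⟨Subgroup.mul_mem _ (Subgroup.mul_mem _ hq h1) (Subgroup.inv_mem _ hq),
        ‹T.Normal›.conj_mem x h2 q⟩
    · rintro ⟨h1, h2⟩
      constructor
      · have : x = q⁻¹ * (q * x * q⁻¹) * q := by group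
        rw [this]
        exact Subgroup.mul_mem _ (Subgroup.mul_mem _ (Subgroup.inv_mem _ hq) h1) hq
      · have : x = q⁻¹ * (q * x * q⁻¹) * q⁻¹⁻¹ := by group
        rw [this]
        exact ‹T.Normal›.conj_mem _ h2 q⁻¹
  -- N ≠ ⊤
  have hNtop : N ≠ ⊤ := by
    intro htop
    have hn : ((Q : Subgroup G) ⊓ T).Normal := Subgroup.normalizer_eq_top_iff.mp htop
    have hsub : (((Q : Subgroup G) ⊓ T).subgroupOf T).Normal := inferInstance
    rcases hT.eq_bot_or_eq_top_of_normal _ hsub with hb | ht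
    · apply hQ0
      rw [Subgroup.subgroupOf_eq_bot] at hb
      have := disjoint_iff.mp hb
      rwa [inf_assoc, inf_idem] at this
    · rw [Subgroup.subgroupOf_eq_top] at ht
      have hTR : T ≤ (Q : Subgroup G) := le_trans ht inf_le_left
      have hTp : IsPGroup r T := Q.2.to_le hTR
      have : Nontrivial T := hT.toNontrivial
      have hcen := hTp.center_nontrivial
      rcases hT.eq_bot_or_eq_top_of_normal (Subgroup.center T) inferInstance with hb | ht
      · exact (Subgroup.nontrivial_iff_ne_bot _).mp hcen hb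
      · exact hna (Subgroup.center_eq_top_iff.mp ht)
  obtain ⟨M₁, hM₁c, hNM₁⟩ := (eq_top_or_exists_le_coatom _).resolve_left hNtop
  have hM₁ : M₁ = M := hMu M₁ ⟨hM₁c, le_trans hQN hNM₁⟩
  -- Q ⊔ T = ⊤
  have hQT : (Q : Subgroup G) ⊔ T = ⊤ := by
    by_contra hne
    obtain ⟨M₂, hM₂c, hM₂⟩ := (eq_top_or_exists_le_coatom _).resolve_left hne
    have hM₂' : M₂ = M := hMu M₂ ⟨hM₂c, le_trans le_sup_left hM₂⟩
    have hTM : T ≤ M := hM₂' ▸ le_trans le_sup_right hM₂
    have hNM : N ≤ M := hM₁ ▸ hNM₁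
    have : (⊤ : Subgroup G) ≤ M := hfrat ▸ sup_le hNM hTM
    exact hMc.1 (top_le_iff.mp this)
  -- G ⧸ T is an image of Q
  have hsurj : Function.Surjective ((QuotientGroup.mk' T).comp (Q : Subgroup G).subtype) := by
    intro y
    obtain ⟨x, rfl⟩ := QuotientGroup.mk'_surjective T y
    have hx : x ∈ (Q : Subgroup G) ⊔ T := hQT ▸ Subgroup.mem_top x
    rw [Subgroup.mem_sup_of_normal_right] at hx
    obtain ⟨q, hq, t, ht, rfl⟩ := hx
    refine ⟨⟨q, hq⟩, ?_⟩
    simp only [MonoidHom.coe_comp, Function.comp_apply, Subgroup.subtype_apply,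
      QuotientGroup.mk'_apply]
    rw [QuotientGroup.eq]
    simpa using ht
  exact Q.2.of_surjective _ hsurj

/-- Let G be a finite group with a normal non-abelian simple subgroup T whose centralizer is trivial (G almost simple with socle T), r a prime and R a Sylow r-subgroup of G meeting T nontrivially. If R lies in exactly one maximal subgroup of G, then G/T is an r-group. -/
theorem result {G : Type*} [Group G] [Finite G] (T : Subgroup G) [T.Normal] (hT : IsSimpleGroup T) (hna : ¬ IsMulCommutative T)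
    (hC : Subgroup.centralizer (T : Set G) = ⊥) {r : ℕ} [Fact r.Prime] (R : Sylow r G) (hR0 : (R : Subgroup G) ⊓ T ≠ ⊥)
    (huniq : ∃! M : Subgroup G, IsCoatom M ∧ (R : Subgroup G) ≤ M) : IsPGroup r (G ⧸ T) := by
  obtain ⟨P⟩ : Nonempty (Sylow r T) := inferInstance
  obtain ⟨Q, hQ⟩ := P.exists_comap_subtype_eq
  obtain ⟨g, hg⟩ := MulAction.exists_smul_eq G R Q
  subst hg
  have hPQ : ((g • R : Sylow r G) : Subgroup G).subgroupOf T = (P : Subgroup T) := by
    rw [← hQ]; rfl
  refine core T hT hna (g • R) ?_ P hPQ ?_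
  · intro hbot
    apply hR0
    rw [eq_bot_iff] at hbot ⊢
    intro x hx
    rw [Subgroup.mem_inf] at hx
    have h1 : g * x * g⁻¹ ∈ ((g • R : Sylow r G) : Subgroup G) ⊓ T := by
      rw [Subgroup.mem_inf, mem_smul_sylow]
      refine ⟨?_, ‹T.Normal›.conj_mem x hx.2 g⟩
      have : g⁻¹ * (g * x * g⁻¹) * g = x := by group
      rw [this]; exact hx.1
    have h2 := hbot h1
    rw [Subgroup.mem_bot] at h2 ⊢
    have : x = g⁻¹ * (g * x * g⁻¹) * g := by group
    rw [this, h2]; group
  · obtain ⟨M, ⟨hMc, hRM⟩, hMu⟩ := huniq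
    refine ⟨M.map (MulAut.conj g).toMonoidHom, ⟨isCoatom_conj M g hMc, ?_⟩, ?_⟩
    · intro x hx
      rw [mem_smul_sylow] at hx
      rw [mem_conj]
      exact hRM hx
    · rintro M₁ ⟨hM₁c, hM₁⟩
      have h1 : (R : Subgroup G) ≤ M₁.map (MulAut.conj g⁻¹).toMonoidHom := by
        intro x hx
        rw [mem_conj, inv_inv]
        apply hM₁
        rw [mem_smul_sylow]
        have : g⁻¹ * (g * x * g⁻¹) * g = x := by group
        rw [this]; exact hx
      have h2 := hMu _ ⟨isCoatom_conj M₁ g⁻¹ hM₁c, h1⟩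
      rw [← h2]
      ext x
      rw [mem_conj, mem_conj, inv_inv]
      have : g * (g⁻¹ * x * g) * g⁻¹ = x := by group
      rw [this]

end Cfsg.Agent.S3859
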