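import Cfsg.Statements.S3986
import Mathlib

set_option autoImplicit false
open Cfsg

namespace Cfsg.Agent.S3986

open scoped Pointwise

/-- A subgroup containing a Sylow `q`-subgroup for every prime `q` is everything. -/
theorem eq_top_of_sylow_le {G : Type*} [Group G] [Finite G] (H : Subgroup G)
    (h : ∀ q : ℕ, q.Prime → ∃ Q : Subgroup G, Q ≤ H ∧ ¬ q ∣ Q.index) : H = ⊤ := by
  rw [← Subgroup.index_eq_one, Nat.eq_one_iff_not_exists_prime_dvd]
  intro q hq hdvd
  obtain ⟨Q, hQH, hQ⟩ := h q hq
  exact hQ (hdvd.trans (Subgroup.index_dvd_of_le hQH))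

/-- In a finite group with a normal Sylow `p`-subgroup `P`, every `p`-power order element lies in `P`. -/
theorem mem_normal_sylow {G : Type*} [Group G] [Finite G] {p : ℕ} [Fact p.Prime] (P : Sylow p G)
    (hP : (P : Subgroup G).Normal) (x : G) (hx : ∃ a : ℕ, orderOf x = p ^ a) : x ∈ (P : Subgroup G) := by
  have hz : IsPGroup p (Subgroup.zpowers x) := by
    obtain ⟨a, ha⟩ := hx
    apply IsPGroup.of_card (n := a)
    rw [Nat.card_zpowers, ha]
  obtain ⟨Q, hQ⟩ := hz.exists_le_sylow
  obtain ⟨g, hg⟩ := MulAction.exists_smul_eq G P Q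
  have : Q = P := by rw [← hg]; exact Sylow.smul_eq_of_normal
  rw [← this]
  exact hQ (Subgroup.mem_zpowers x)

/-- Let p be a prime and G a finite group. Then some Sylow p-subgroup of G is a direct factor of G (it is normal and has a normal complement) if and only if every element of p-power order commutes with every element whose order is a power of a prime other than p. -/
theorem result {G : Type*} [Group G] [Finite G] (p : ℕ) [Fact p.Prime] : (∃ (P : Sylow p G) (K : Subgroup G), (P : Subgroup G).Normal ∧ K.Normal ∧ (P : Subgroup G) ⊓ K = ⊥ ∧ (P : Subgroup G) ⊔ K = ⊤) ↔ ∀ x y : G, (∃ a : ℕ, orderOf x = p ^ a) → (∃ q b : ℕ, q.Prime ∧ q ≠ p ∧ orderOf y = q ^ b) → x * y = y * x := by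
  have hp : p.Prime := Fact.out
  constructor
  · rintro ⟨P, K, hPn, hKn, hinf, hsup⟩ x y hx ⟨q, b, hq, hqp, hy⟩
    have hxP : x ∈ (P : Subgroup G) := mem_normal_sylow P hPn x hx
    -- G ⧸ K is a p-group
    have hquot : IsPGroup p (G ⧸ K) := by
      have hsurj : Function.Surjective ((QuotientGroup.mk' K).comp (P : Subgroup G).subtype) := by
        intro z
        obtain ⟨g, rfl⟩ := QuotientGroup.mk'_surjective K z
        have hg : g ∈ (P : Subgroup G) ⊔ K := by rw [hsup]; trivial
        obtain ⟨a, ha, k, hk, rfl⟩ := Subgroup.mem_sup_of_normal_right.mp hg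
        refine ⟨⟨a, ha⟩, ?_⟩
        simp only [MonoidHom.coe_comp, Function.comp_apply, Subgroup.subtype_apply,
          QuotientGroup.mk'_apply]
        rw [QuotientGroup.eq]
        simpa using hk
      exact P.2.of_surjective _ hsurj
    have hyK : y ∈ K := by
      obtain ⟨k, hk⟩ := hquot (QuotientGroup.mk' K y)
      have h1 : orderOf (QuotientGroup.mk' K y) ∣ p ^ k := orderOf_dvd_of_pow_eq_one hk
      have h2 : orderOf (QuotientGroup.mk' K y) ∣ q ^ b := by
        rw [← hy]; exact orderOf_map_dvd _ y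
      have h3 : orderOf (QuotientGroup.mk' K y) = 1 := by
        have hcop : (p ^ k).Coprime (q ^ b) :=
          Nat.Coprime.pow _ _ ((Nat.coprime_primes hp hq).mpr (Ne.symm hqp))
        exact Nat.eq_one_of_dvd_coprimes hcop h1 h2
      rw [orderOf_eq_one_iff] at h3
      rw [← QuotientGroup.ker_mk' K, MonoidHom.mem_ker]; exact h3
    exact Subgroup.commute_of_normal_of_disjoint _ _ hPn hKn (disjoint_iff.mpr hinf) x y hxP hyK
  · intro h
    obtain ⟨P⟩ : Nonempty (Sylow p G) := inferInstance
    set C := Subgroup.centralizer ((P : Subgroup G) : Set G) with hC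
    -- every Sylow q-subgroup (q ≠ p) centralizes P
    have hQC : ∀ q : ℕ, q.Prime → q ≠ p → ∀ (Q : Sylow q G), (Q : Subgroup G) ≤ C := by
      intro q hq hqp Q y hy
      have : Fact q.Prime := ⟨hq⟩
      rw [hC, Subgroup.mem_centralizer_iff]
      intro x hx
      obtain ⟨a, ha⟩ := (IsPGroup.iff_orderOf.mp P.2) ⟨x, hx⟩
      obtain ⟨b, hb⟩ := (IsPGroup.iff_orderOf.mp Q.2) ⟨y, hy⟩
      rw [Subgroup.orderOf_mk] at ha hb
      exact h x y ⟨a, ha⟩ ⟨q, b, hq, hqp, hb⟩
    -- P is normal
    have hPn : (P : Subgroup G).Normal := by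
      rw [← Subgroup.normalizer_eq_top_iff]
      apply eq_top_of_sylow_le
      intro q hq
      by_cases hqp : q = p
      · subst hqp
        exact ⟨P, Subgroup.le_normalizer, P.not_dvd_index⟩
      · have : Fact q.Prime := ⟨hq⟩
        obtain ⟨Q⟩ : Nonempty (Sylow q G) := inferInstance
        refine ⟨Q, (hQC q hq hqp Q).trans ?_, Q.not_dvd_index⟩
        exact Subgroup.centralizer_le_normalizer _
    have := hPn
    have hCn : C.Normal := by rw [hC]; infer_instance
    -- index of C is a power of p
    have hCidx : ∀ q : ℕ, q.Prime → q ∣ C.index → q = p := by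
      intro q hq hdvd
      by_contra hqp
      have : Fact q.Prime := ⟨hq⟩
      obtain ⟨Q⟩ : Nonempty (Sylow q G) := inferInstance
      exact Q.not_dvd_index (hdvd.trans (Subgroup.index_dvd_of_le (hQC q hq hqp Q)))
    -- Schur–Zassenhaus complement
    have hcop : (Nat.card (P : Subgroup G)).Coprime (P : Subgroup G).index := by
      obtain ⟨n, hn⟩ := IsPGroup.iff_card.mp P.2
      rw [hn]
      exact Nat.Coprime.pow_left _ ((Nat.Prime.coprime_iff_not_dvd hp).mpr P.not_dvd_index)
    obtain ⟨K, hK⟩ := Subgroup.exists_right_complement'_of_coprime hcop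
    have hKcard : Nat.card K = (P : Subgroup G).index := by
      have h1 := hK.card_mul_card
      have h2 := (P : Subgroup G).card_mul_index
      have hpos : 0 < Nat.card (P : Subgroup G) := Nat.card_pos
      exact Nat.eq_of_mul_eq_mul_left hpos (h1.trans h2.symm)
    have hKC : K ≤ C := by
      rw [← Subgroup.relIndex_eq_one]
      rw [Nat.eq_one_iff_not_exists_prime_dvd]
      intro q hq hdvd
      have h1 : q ∣ C.index := hdvd.trans (Subgroup.relIndex_dvd_index_of_normal C K)
      have hqp := hCidx q hq h1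
      subst hqp
      have h2 : q ∣ Nat.card K := hdvd.trans (Subgroup.relIndex_dvd_card C K)
      rw [hKcard] at h2
      exact P.not_dvd_index h2
    have hsup : (P : Subgroup G) ⊔ K = ⊤ := hK.sup_eq_top
    have hKn : K.Normal := by
      constructor
      intro k hk g
      have hg : g ∈ (P : Subgroup G) ⊔ K := by rw [hsup]; trivial
      obtain ⟨a, ha, k', hk', rfl⟩ := Subgroup.mem_sup_of_normal_left.mp hg
      have hcomm : ∀ z ∈ K, a * z = z * a := by
        intro z hz
        have := hKC hz
        rw [hC, Subgroup.mem_centralizer_iff] at this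
        exact this a ha
      have h1 : k' * k * k'⁻¹ ∈ K := K.mul_mem (K.mul_mem hk' hk) (K.inv_mem hk')
      have h2 : a * k' * k * (a * k')⁻¹ = a * (k' * k * k'⁻¹) * a⁻¹ := by group
      rw [h2, hcomm _ h1]
      simpa using h1
    exact ⟨P, K, hPn, hKn, hK.disjoint.eq_bot, hsup⟩

end Cfsg.Agent.S3986
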