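import Cfsg.Statements.S3861
import Mathlib
import Cfsg.Agent.Lib.Helper21.BaerSuzuki
import Cfsg.Agent.Lib.Helper13.Sylow
import Cfsg.Agent.S3824
import Cfsg.Agent.S3986

set_option autoImplicit false
open Cfsg

namespace Cfsg.Agent.S3861

open scoped Pointwise
open Cfsg.Agent.Lib.Helper21

universe u

/-- the hypothesis -/
def NoOddReal (G : Type*) [Group G] : Prop :=
  ∀ x : G, x ≠ 1 → Odd (orderOf x) → ¬ IsConj x x⁻¹

theorem isConj_inv_pow {G : Type*} [Group G] {x : G} (h : IsConj x x⁻¹) (k : ℕ) :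
    IsConj (x ^ k) (x ^ k)⁻¹ := by
  rw [isConj_iff] at h ⊢
  obtain ⟨g, hg⟩ := h
  exact ⟨g, by rw [← conj_pow, hg, inv_pow]⟩

/-- a real element is a 2-element -/
theorem two_pow_of_real {G : Type*} [Group G] [Finite G] (h : NoOddReal G) (w : G)
    (hw : IsConj w w⁻¹) : ∃ a : ℕ, orderOf w = 2 ^ a := by
  obtain ⟨a, u, hu, hau⟩ := Nat.exists_eq_two_pow_mul_odd (orderOf_pos w).ne'
  refine ⟨a, ?_⟩
  have h1 : orderOf (w ^ 2 ^ a) = u := by
    rw [orderOf_pow_of_dvd (pow_ne_zero _ two_ne_zero) (Dvd.intro _ hau.symm), hau]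
    exact Nat.mul_div_cancel_left _ (pow_pos two_pos _)
  have h2 : w ^ 2 ^ a = 1 := by
    by_contra hne
    exact h _ hne (h1 ▸ hu) (isConj_inv_pow hw _)
  rw [h2, orderOf_one] at h1
  rw [hau, ← h1, mul_one]

/-- Step 1: an involution generates a 2-group with each of its conjugates. -/
theorem invol_pair {G : Type*} [Group G] [Finite G] (h : NoOddReal G) (t : G) (ht : t * t = 1)
    (g : G) : IsPGroup 2 (Subgroup.closure ({t, g * t * g⁻¹} : Set G)) := by
  set s := g * t * g⁻¹ with hs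
  have hs2 : s * s = 1 := by
    rw [hs]; calc g * t * g⁻¹ * (g * t * g⁻¹) = g * (t * t) * g⁻¹ := by group
      _ = 1 := by rw [ht]; group
  have htinv : t⁻¹ = t := inv_eq_of_mul_eq_one_left ht
  have hsinv : s⁻¹ = s := inv_eq_of_mul_eq_one_left hs2
  set w := t * s with hw
  have hwconj : t * w * t⁻¹ = w⁻¹ := by
    rw [hw, mul_inv_rev, hsinv, htinv, ← mul_assoc, ht, one_mul]
  have hreal : IsConj w w⁻¹ := isConj_iff.mpr ⟨t, hwconj⟩
  obtain ⟨a, ha⟩ := two_pow_of_real h w hreal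
  have hW : IsPGroup 2 (Subgroup.zpowers w) := by
    apply IsPGroup.of_card (n := a); rw [Nat.card_zpowers, ha]
  have hT : IsPGroup 2 (Subgroup.zpowers t) := by
    by_cases h1 : t = 1
    · apply IsPGroup.of_card (n := 0)
      rw [Nat.card_zpowers, h1]; simp
    · apply IsPGroup.of_card (n := 1)
      rw [Nat.card_zpowers, pow_one]; exact orderOf_eq_prime (by rw [sq]; exact ht) h1
  have hnorm : Subgroup.zpowers t ≤ Subgroup.normalizer (Subgroup.zpowers w : Set G) := by
    rw [Subgroup.zpowers_le]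
    apply mem_normalizer_of_conj_mem
    · intro e he
      obtain ⟨k, rfl⟩ := Subgroup.mem_zpowers_iff.mp he
      have : t * w ^ k * t⁻¹ = (w⁻¹) ^ k := by
        rw [← hwconj, conj_zpow]
      rw [this]
      exact Subgroup.zpow_mem _ (Subgroup.inv_mem _ (Subgroup.mem_zpowers w)) k
    · intro e he
      obtain ⟨k, rfl⟩ := Subgroup.mem_zpowers_iff.mp he
      have : t⁻¹ * w ^ k * t = (w⁻¹) ^ k := by
        have e : t⁻¹ * w ^ k * t = t * w ^ k * t⁻¹ := by rw [htinv]
        rw [e, ← hwconj, conj_zpow]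
      rw [this]
      exact Subgroup.zpow_mem _ (Subgroup.inv_mem _ (Subgroup.mem_zpowers w)) k
  have hsup : IsPGroup 2 (Subgroup.zpowers t ⊔ Subgroup.zpowers w : Subgroup G) :=
    IsPGroup.to_sup_of_normal_right' hT hW hnorm
  apply hsup.to_le
  rw [Subgroup.closure_le]
  intro z hz
  rcases hz with rfl | rfl
  · exact Subgroup.mem_sup_left (Subgroup.mem_zpowers _)
  · have : s = t⁻¹ * w := by rw [hw]; group
    rw [this]
    exact Subgroup.mul_mem _ (Subgroup.inv_mem _ (Subgroup.mem_sup_left (Subgroup.mem_zpowers _)))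
      (Subgroup.mem_sup_right (Subgroup.mem_zpowers _))

/-- Inheritance of the hypothesis by quotients modulo normal 2-subgroups. -/
theorem noOddReal_quotient {G : Type*} [Group G] [Finite G] (h : NoOddReal G) (N : Subgroup G)
    [N.Normal] (hN : IsPGroup 2 N) : NoOddReal (G ⧸ N) := by
  intro xb hxb hodd hreal
  -- a prime r dividing the order
  have hne1 : orderOf xb ≠ 1 := by rwa [Ne, orderOf_eq_one_iff]
  obtain ⟨r, hr, hrdvd⟩ := Nat.exists_prime_and_dvd hne1
  have : Fact r.Prime := ⟨hr⟩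
  have hr2 : r ≠ 2 := by
    rintro rfl
    exact (Nat.not_even_iff_odd.mpr hodd) (even_iff_two_dvd.mpr hrdvd)
  set yb := xb ^ (orderOf xb / r) with hyb
  have hyb_ord : orderOf yb = r := by
    rw [hyb, orderOf_pow_orderOf_div (orderOf_pos xb).ne' hrdvd]
  have hyb_real : IsConj yb yb⁻¹ := isConj_inv_pow hreal _
  obtain ⟨y0, hy0⟩ := QuotientGroup.mk'_surjective N yb
  obtain ⟨a, s, hs, has⟩ := Nat.exists_eq_pow_mul_and_not_dvd (orderOf_pos y0).ne' r hr.ne_one
  set y := y0 ^ s with hy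
  have hs0 : s ≠ 0 := by rintro rfl; exact hs (dvd_zero r)
  have hy_ord : orderOf y = r ^ a := by
    rw [hy, orderOf_pow_of_dvd hs0 (Dvd.intro_left _ has.symm), has]
    exact Nat.mul_div_cancel _ (Nat.pos_of_ne_zero hs0)
  have hymk : QuotientGroup.mk' N y = yb ^ s := by rw [hy, map_pow, hy0]
  have hymk_ne : QuotientGroup.mk' N y ≠ 1 := by
    rw [hymk]
    intro h1
    have := orderOf_dvd_of_pow_eq_one h1
    rw [hyb_ord] at this
    exact hs this
  have hy_ne : y ≠ 1 := by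
    rintro h1; rw [h1, map_one] at hymk_ne; exact hymk_ne rfl
  have hy_real : IsConj (QuotientGroup.mk' N y) (QuotientGroup.mk' N y)⁻¹ := by
    rw [hymk]; exact isConj_inv_pow hyb_real _
  obtain ⟨gb, hgb⟩ := isConj_iff.mp hy_real
  obtain ⟨g, rfl⟩ := QuotientGroup.mk'_surjective N gb
  have hgN : g * y * g⁻¹ * y ∈ N := by
    rw [← QuotientGroup.ker_mk' N, MonoidHom.mem_ker]
    simp only [map_mul, map_inv]
    rw [hgb]; group
  -- Sylow argument in H = Y ⊔ N
  set Y := Subgroup.zpowers y with hY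
  have hYr : IsPGroup r Y := by
    apply IsPGroup.of_card (n := a); rw [Nat.card_zpowers, hy_ord]
  set Y' := Subgroup.zpowers (g * y * g⁻¹) with hY'
  have hY'r : IsPGroup r Y' := by
    apply IsPGroup.of_card (n := a)
    rw [Nat.card_zpowers, ← hy_ord, ← MulAut.conj_apply, MulEquiv.orderOf_eq]
  have hY'H : Y' ≤ Y ⊔ N := by
    rw [hY', Subgroup.zpowers_le]
    have : g * y * g⁻¹ = (g * y * g⁻¹ * y) * y⁻¹ := by group
    rw [this]
    exact Subgroup.mul_mem _ (Subgroup.mem_sup_right hgN)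
      (Subgroup.inv_mem _ (Subgroup.mem_sup_left (Subgroup.mem_zpowers y)))
  have hidx : ¬ r ∣ Y.relIndex (Y ⊔ N) := by
    rw [Cfsg.Agent.S3824.relIndex_sup_of_normal']
    intro hdvd
    have h1 : r ∣ Nat.card N := hdvd.trans (Subgroup.relIndex_dvd_card Y N)
    obtain ⟨b, hb⟩ := IsPGroup.iff_card.mp hN
    rw [hb] at h1
    exact hr2 ((Nat.prime_dvd_prime_iff_eq hr Nat.prime_two).mp (hr.dvd_of_dvd_pow h1))
  obtain ⟨hh, hhH, hconj⟩ := Cfsg.Agent.Lib.Helper13.exists_conj_le_of_relIndex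
    (Y ⊔ N) Y Y' hYr hidx hY'H hY'r
  obtain ⟨c, hc, n, hn, rfl⟩ := Subgroup.mem_sup_of_normal_right.mp hhH
  have h3 := hconj (g * y * g⁻¹) (Subgroup.mem_zpowers _)
  -- v = n g
  have hvY : (n * g) * y * (n * g)⁻¹ ∈ Y := by
    have : (n * g) * y * (n * g)⁻¹ = c⁻¹ * (c * n * (g * y * g⁻¹) * (c * n)⁻¹) * c := by group
    rw [this]
    exact Y.mul_mem (Y.mul_mem (Y.inv_mem hc) h3) hc
  have hvN : (n * g) * y * (n * g)⁻¹ * y ∈ N := by
    have : (n * g) * y * (n * g)⁻¹ * y = n * ((g * y * g⁻¹ * y) * (y⁻¹ * n⁻¹ * y)) := by group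
    rw [this]
    refine N.mul_mem hn (N.mul_mem hgN ?_)
    have := ‹N.Normal›.conj_mem n⁻¹ (N.inv_mem hn) y⁻¹
    simpa using this
  have hdisj : Disjoint Y N := IsPGroup.disjoint_of_ne r 2 hr2 Y N hYr hN
  have hmem : (n * g) * y * (n * g)⁻¹ * y ∈ Y ⊓ N :=
    ⟨Y.mul_mem hvY (Subgroup.mem_zpowers y), hvN⟩
  rw [hdisj.eq_bot, Subgroup.mem_bot] at hmem
  have hfinal : IsConj y y⁻¹ := isConj_iff.mpr ⟨n * g, eq_inv_of_mul_eq_one_left hmem⟩
  have hyodd : Odd (orderOf y) := by
    rw [hy_ord]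
    exact Odd.pow (hr.odd_of_ne_two hr2)
  exact h y hy_ne hyodd hfinal

theorem aux (n : ℕ) : ∀ (G : Type u) [Group G] [Finite G], Nat.card G = n → NoOddReal G →
    ∀ P : Sylow 2 G, (P : Subgroup G).Normal := by
  induction n using Nat.strong_induction_on with
  | _ n ih =>
  intro G _ _ hn h P
  by_cases h2 : 2 ∣ Nat.card G
  · -- an involution
    obtain ⟨t, ht⟩ := exists_prime_orderOf_dvd_card' 2 h2
    have htt : t * t = 1 := by rw [← sq, ← ht]; exact pow_orderOf_eq_one t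
    have ht1 : t ≠ 1 := by rintro rfl; simp at ht
    obtain ⟨N, hNn, hN2, htN⟩ := baer_suzuki_element (p := 2) t (invol_pair h t htt)
    have := hNn
    have hNbot : N ≠ ⊥ := by
      rintro rfl; exact ht1 (Subgroup.mem_bot.mp htN)
    have hcard : Nat.card (G ⧸ N) < n := by
      rw [← hn, Subgroup.card_eq_card_quotient_mul_card_subgroup N]
      have h1 : 1 < Nat.card N := by
        rw [Subgroup.one_lt_card_iff_ne_bot]; exact hNbot
      have h2 : 0 < Nat.card (G ⧸ N) := Nat.card_pos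
      nlinarith
    have hq := ih _ hcard (G ⧸ N) rfl (noOddReal_quotient h N hN2)
    have hsurj : Function.Surjective (QuotientGroup.mk' N) := QuotientGroup.mk'_surjective N
    have hPb := hq (P.mapSurjective hsurj)
    rw [Sylow.coe_mapSurjective] at hPb
    have hNP : N ≤ (P : Subgroup G) := by
      obtain ⟨Q, hQ⟩ := hN2.exists_le_sylow
      obtain ⟨g, rfl⟩ := MulAction.exists_smul_eq G Q P
      intro x hx
      rw [Cfsg.Agent.Lib.Helper13.mem_smul_sylow_iff]
      apply hQ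
      have := hNn.conj_mem x hx g⁻¹
      simpa using this
    have hcomap : ((P : Subgroup G).map (QuotientGroup.mk' N)).comap (QuotientGroup.mk' N) = (P : Subgroup G) := by
      rw [Subgroup.comap_map_eq, QuotientGroup.ker_mk']
      exact sup_eq_left.mpr hNP
    rw [← hcomap]
    exact hPb.comap _
  · -- odd order: Sylow 2 is trivial
    have : (P : Subgroup G) = ⊥ := by
      rw [← Subgroup.card_eq_one]
      obtain ⟨k, hk⟩ := IsPGroup.iff_card.mp P.2
      rcases Nat.eq_zero_or_pos k with rfl | hkpos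
      · simpa using hk
      · exfalso
        apply h2
        have : 2 ∣ Nat.card (P : Subgroup G) := by rw [hk]; exact dvd_pow_self 2 hkpos.ne'
        exact this.trans (Subgroup.card_subgroup_dvd_card _)
    rw [this]; infer_instance

/-- A finite group G has no non-identity element of odd order that is conjugate to its inverse if and only if the Sylow 2-subgroups of G are normal. -/
theorem result {G : Type*} [Group G] [Finite G] (P : Sylow 2 G) : (∀ x : G, x ≠ 1 → Odd (orderOf x) → ¬ IsConj x x⁻¹) ↔ (P : Subgroup G).Normal := by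
  constructor
  · intro h
    exact aux _ G rfl h P
  · intro hP x hx1 hodd hreal
    obtain ⟨g, hg⟩ := isConj_iff.mp hreal
    obtain ⟨a, u, hu, hau⟩ := Nat.exists_eq_two_pow_mul_odd (orderOf_pos g).ne'
    set hh := g ^ u with hhdef
    have hu0 : u ≠ 0 := by rintro rfl; simp at hu
    have hh_ord : orderOf hh = 2 ^ a := by
      rw [hhdef, orderOf_pow_of_dvd hu0 (Dvd.intro_left _ hau.symm), hau]
      exact Nat.mul_div_cancel _ (Nat.pos_of_ne_zero hu0)
    have hhP : hh ∈ (P : Subgroup G) := Cfsg.Agent.S3986.mem_normal_sylow P hP hh ⟨a, hh_ord⟩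
    -- hh inverts x
    have hiter : ∀ k : ℕ, g ^ k * x * (g ^ k)⁻¹ = x ^ ((-1 : ℤ) ^ k) := by
      intro k
      induction k with
      | zero => simp
      | succ k ih =>
        have : g ^ (k + 1) * x * (g ^ (k + 1))⁻¹ = g * (g ^ k * x * (g ^ k)⁻¹) * g⁻¹ := by
          rw [pow_succ']; group
        rw [this, ih, ← conj_zpow, hg, pow_succ, inv_zpow']
        congr 1; ring
    have hinv : hh * x * hh⁻¹ = x⁻¹ := by
      rw [hhdef, hiter u, hu.neg_one_pow, zpow_neg_one]
    have hx2 : x⁻¹ * x⁻¹ ∈ (P : Subgroup G) := by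
      have h1 : x * hh⁻¹ * x⁻¹ ∈ (P : Subgroup G) := hP.conj_mem _ ((P : Subgroup G).inv_mem hhP) x
      have h2 : hh * (x * hh⁻¹ * x⁻¹) ∈ (P : Subgroup G) := (P : Subgroup G).mul_mem hhP h1
      have : hh * (x * hh⁻¹ * x⁻¹) = (hh * x * hh⁻¹) * x⁻¹ := by group
      rw [this, hinv] at h2
      exact h2
    -- x⁻² has odd order and 2-power order
    obtain ⟨k, hk⟩ := (IsPGroup.iff_orderOf.mp P.2) ⟨x⁻¹ * x⁻¹, hx2⟩
    rw [Subgroup.orderOf_mk] at hk
    have hdvd : orderOf (x⁻¹ * x⁻¹) ∣ orderOf x := by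
      have : x⁻¹ * x⁻¹ = x⁻¹ ^ 2 := (sq _).symm
      rw [this, ← orderOf_inv x]
      exact orderOf_pow_dvd 2
    have hone : orderOf (x⁻¹ * x⁻¹) = 1 := by
      have hodd2 : Odd (orderOf (x⁻¹ * x⁻¹)) := Odd.of_dvd_nat hodd hdvd
      rw [hk] at hodd2 ⊢
      rcases Nat.eq_zero_or_pos k with rfl | hkpos
      · simp
      · exact absurd hodd2 (Nat.not_odd_iff_even.mpr (Nat.even_pow.mpr ⟨even_two, hkpos.ne'⟩))
    rw [orderOf_eq_one_iff] at hone
    have hxsq : x ^ 2 = 1 := by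
      have : (x ^ 2)⁻¹ = 1 := by rw [sq, mul_inv_rev]; exact hone
      rwa [inv_eq_one] at this
    have hd2 : orderOf x ∣ 2 := orderOf_dvd_of_pow_eq_one hxsq
    have : orderOf x = 1 := by
      rcases (Nat.dvd_prime Nat.prime_two).mp hd2 with h1 | h1
      · exact h1
      · rw [h1] at hodd; exact absurd hodd (by decide)
    exact hx1 (orderOf_eq_one_iff.mp this)

end Cfsg.Agent.S3861
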