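import Cfsg.Statements.S3862
import Mathlib
import Cfsg.Agent.Lib.Helper13.Frobenius
import Cfsg.Agent.Lib.Helper13.PGroup
import Cfsg.Agent.Lib.Helper10.OmegaCentralize
import Cfsg.Agent.Lib.Helper21.IrrCyclic

set_option autoImplicit false
open Cfsg

namespace Cfsg.Agent.S3862

open Cfsg.Agent.Lib.Helper21

theorem key {G : Type*} [Group G] [Finite G]
    (h : ∀ x : G, (∃ j : ℕ, orderOf x = 2 ^ j) → IsConj x x⁻¹ → x ∈ Subgroup.center G)
    (g : G) (hg : (orderOf g).Coprime 2) :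
    ∀ n : ℕ, ∀ Q : Subgroup G, Nat.card Q = n → IsPGroup 2 Q →
      g ∈ Subgroup.normalizer (Q : Set G) → g ∈ Subgroup.centralizer (Q : Set G) := by
  intro n
  induction n using Nat.strong_induction_on with
  | _ n ih =>
  intro Q hcard hQ hgN
  by_cases hQ1 : Q = ⊥
  · subst hQ1
    rw [Subgroup.mem_centralizer_iff]
    intro y hy
    have : y = 1 := Subgroup.mem_bot.mp hy
    rw [this, one_mul, mul_one]
  have hconjQ : ∀ x ∈ Q, g * x * g⁻¹ ∈ Q := fun x hx =>
    (Subgroup.mem_normalizer_iff.mp hgN x).mp hx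
  -- the subgroup generated by squares
  obtain ⟨Q₁, hQ₁def⟩ : ∃ Q₁ : Subgroup G, Q₁ = Subgroup.closure {y | ∃ x ∈ Q, y = x ^ 2} :=
    ⟨_, rfl⟩
  have hsq : ∀ x ∈ Q, x ^ 2 ∈ Q₁ := by
    intro x hx; rw [hQ₁def]; exact Subgroup.subset_closure ⟨x, hx, rfl⟩
  have hQ₁le : Q₁ ≤ Q := by
    rw [hQ₁def, Subgroup.closure_le]
    rintro _ ⟨x, hx, rfl⟩
    exact Q.pow_mem hx 2
  have hQ₁lt : Q₁ < Q := by
    refine lt_of_le_of_ne hQ₁le ?_
    intro heq
    have hnt : Nontrivial ↥Q := by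
      rw [Subgroup.nontrivial_iff_ne_bot]; exact hQ1
    obtain ⟨N, -, hNtop, -, hNpow⟩ :=
      Cfsg.Agent.Lib.Helper10.exists_normal_ne_top_pow_mem (p := 2) hQ hnt
    apply hNtop
    rw [eq_top_iff]
    intro x _
    have hle : Q₁ ≤ N.map Q.subtype := by
      rw [hQ₁def, Subgroup.closure_le]
      rintro _ ⟨y, hy, rfl⟩
      exact ⟨⟨y, hy⟩ ^ 2, hNpow ⟨y, hy⟩, by simp⟩
    have hx : (x : G) ∈ N.map Q.subtype := hle (heq ▸ x.2)
    obtain ⟨x', hx', hxx'⟩ := hx
    have : x' = x := Subtype.ext hxx'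
    rwa [← this]
  have hgN₁ : g ∈ Subgroup.normalizer (Q₁ : Set G) := by
    apply mem_normalizer_of_conj_mem_finite
    have hle : Q₁ ≤ Q₁.comap (MulAut.conj g).toMonoidHom := by
      conv_lhs => rw [hQ₁def]
      rw [Subgroup.closure_le]
      rintro _ ⟨x, hx, rfl⟩
      show g * x ^ 2 * g⁻¹ ∈ Q₁
      rw [← conj_pow]
      exact hsq _ (hconjQ x hx)
    intro e he
    exact hle he
  have hcent := ih (Nat.card Q₁) (by rw [← hcard]; exact Cfsg.Agent.Lib.Helper13.card_lt_card_of_lt hQ₁lt)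
    Q₁ rfl (hQ.to_le hQ₁le) hgN₁
  rw [Subgroup.mem_centralizer_iff] at hcent ⊢
  intro x hx
  -- `c := x⁻¹ * (g x g⁻¹)`
  obtain ⟨c, hcdef⟩ : ∃ c : G, c = x⁻¹ * (g * x * g⁻¹) := ⟨_, rfl⟩
  have hcQ : c ∈ Q := by rw [hcdef]; exact Q.mul_mem (Q.inv_mem hx) (hconjQ x hx)
  have hxc : g * x * g⁻¹ = x * c := by rw [hcdef]; group
  have hx2 : g * x ^ 2 * g⁻¹ = x ^ 2 := by
    have := hcent (x ^ 2) (hsq x hx)
    rw [← this]; group
  have e : x * c * (x * c) = x * x := by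
    rw [← hxc, ← sq, ← sq, conj_pow, hx2]
  have e2 : x * (c * x * c) = x * x := by rw [← e]; group
  have e3 : c * x * c = x := mul_left_cancel e2
  have e4 : x⁻¹ * c * (x⁻¹)⁻¹ = c⁻¹ := by
    have : c * x = x * c⁻¹ := by rw [eq_mul_inv_iff_mul_eq]; exact e3
    rw [inv_inv, mul_assoc, this]; group
  have hc2 : ∃ j : ℕ, orderOf c = 2 ^ j := by
    obtain ⟨k, hk⟩ := hQ ⟨c, hcQ⟩
    have h1 : c ^ 2 ^ k = 1 := by
      have := congrArg Subtype.val hk
      simpa using this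
    obtain ⟨m, -, hm⟩ := (Nat.dvd_prime_pow Nat.prime_two).mp (orderOf_dvd_of_pow_eq_one h1)
    exact ⟨m, hm⟩
  have hcZ : c ∈ Subgroup.center G := h c hc2 (isConj_iff.mpr ⟨x⁻¹, e4⟩)
  have hcen : ∀ y : G, y * c = c * y := fun y => Subgroup.mem_center_iff.mp hcZ y
  have hpow : ∀ k : ℕ, g ^ k * x * (g ^ k)⁻¹ = x * c ^ k := by
    intro k
    induction k with
    | zero => simp
    | succ k ihk =>
      have hck : g * c ^ k = c ^ k * g := by
        have : Commute g c := hcen g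
        exact (this.pow_right k).eq
      calc g ^ (k + 1) * x * (g ^ (k + 1))⁻¹ = g * (g ^ k * x * (g ^ k)⁻¹) * g⁻¹ := by
            rw [pow_succ']; group
        _ = g * (x * c ^ k) * g⁻¹ := by rw [ihk]
        _ = (g * x * g⁻¹) * (g * c ^ k) * g⁻¹ := by group
        _ = x * c * (c ^ k * g) * g⁻¹ := by rw [hxc, hck]
        _ = x * c ^ (k + 1) := by rw [pow_succ']; group
  have h1 := hpow (orderOf g)
  rw [pow_orderOf_eq_one, one_mul, inv_one, mul_one] at h1
  have h2 : c ^ orderOf g = 1 := by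
    have : x * 1 = x * c ^ orderOf g := by rw [mul_one]; exact h1
    exact (mul_left_cancel this).symm
  have h3 : orderOf c ∣ orderOf g := orderOf_dvd_of_pow_eq_one h2
  obtain ⟨j, hj⟩ := hc2
  have h4 : (orderOf c).Coprime (orderOf g) := by
    rw [hj]; exact (Nat.Coprime.pow_left j hg.symm)
  have h5 : orderOf c = 1 := Nat.Coprime.eq_one_of_dvd h4 h3
  have h6 : c = 1 := orderOf_eq_one_iff.mp h5
  rw [h6, mul_one] at hxc
  calc x * g = (g * x * g⁻¹) * g := by rw [hxc]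
    _ = g * x := by group

/-- If every 2-element of the finite group G that is conjugate to its inverse lies in the centre of G, then G has a normal 2-complement. -/
theorem result {G : Type*} [Group G] [Finite G] (h : ∀ x : G, (∃ j : ℕ, orderOf x = 2 ^ j) → IsConj x x⁻¹ → x ∈ Subgroup.center G) : Cfsg.HasNormalPComplement 2 G := by
  have hLC : Cfsg.Agent.Lib.Helper13.LocalCentral 2 G := by
    intro Q hQ g hgN hcop
    exact key h g hcop _ Q rfl hQ hgN
  obtain ⟨P⟩ : Nonempty (Sylow 2 G) := inferInstance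
  obtain ⟨K, hKn, hK⟩ := Cfsg.Agent.Lib.Helper13.exists_normal_complement_of_localCentral hLC P
  exact ⟨P, K, hKn, hK⟩

end Cfsg.Agent.S3862
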