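import Cfsg.Statements.S3863
import Mathlib

set_option autoImplicit false
open Cfsg

namespace Cfsg.Agent.S3863

/-- from an arbitrary inverting element produce an inverting 2-element -/
theorem exists_two_elt {G : Type*} [Group G] [Finite G] (x g : G) (hg : g * x * g⁻¹ = x⁻¹) :
    ∃ t : G, (∃ j : ℕ, orderOf t = 2 ^ j) ∧ t * x * t⁻¹ = x⁻¹ := by
  have hopos : 0 < orderOf g := orderOf_pos g
  obtain ⟨a, m, hm, hoe⟩ := Nat.exists_eq_two_pow_mul_odd hopos.ne'
  -- conjugation by g^n : x ↦ x^((-1)^n)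
  have hconj : ∀ n : ℕ, g ^ n * x * (g ^ n)⁻¹ = if Even n then x else x⁻¹ := by
    intro n
    induction n with
    | zero => simp
    | succ n ih =>
      have : g ^ (n + 1) * x * (g ^ (n + 1))⁻¹ = g * (g ^ n * x * (g ^ n)⁻¹) * g⁻¹ := by
        rw [pow_succ']; group
      rw [this, ih]
      by_cases hn : Even n
      · have : ¬ Even (n + 1) := by rw [Nat.even_add_one]; simpa using hn
        simp [hn, this, hg]
      · have h1 : Even (n + 1) := by rw [Nat.even_add_one]; exact hn
        simp only [hn, h1, if_true, if_false]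
        have : g * x⁻¹ * g⁻¹ = (g * x * g⁻¹)⁻¹ := by group
        rw [this, hg, inv_inv]
  refine ⟨g ^ m, ⟨a, ?_⟩, ?_⟩
  · rw [orderOf_pow' g hm.pos.ne', hoe]
    have : Nat.gcd (2 ^ a * m) m = m := Nat.gcd_eq_right (Dvd.intro_left _ rfl)
    rw [this, Nat.mul_div_cancel _ hm.pos]
  · rw [hconj m]
    simp [Nat.not_even_iff_odd.mpr hm]

/-- the extended centralizer -/
def extCent {G : Type*} [Group G] (x : G) : Subgroup G where
  carrier := {g | g * x * g⁻¹ = x ∨ g * x * g⁻¹ = x⁻¹}
  one_mem' := by left; simp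
  mul_mem' := by
    intro a b ha hb
    have h : a * b * x * (a * b)⁻¹ = a * (b * x * b⁻¹) * a⁻¹ := by group
    have h' : a * x⁻¹ * a⁻¹ = (a * x * a⁻¹)⁻¹ := by group
    simp only [Set.mem_ofPred_eq] at ha hb ⊢
    rw [h]
    rcases hb with hb | hb <;> rcases ha with ha | ha <;> rw [hb]
    · left; exact ha
    · right; exact ha
    · right; rw [h', ha]
    · left; rw [h', ha, inv_inv]
  inv_mem' := by
    intro a ha
    simp only [Set.mem_ofPred_eq] at ha ⊢
    rcases ha with ha | ha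
    · left
      calc a⁻¹ * x * a⁻¹⁻¹ = a⁻¹ * (a * x * a⁻¹) * a := by rw [ha, inv_inv]
        _ = x := by group
    · right
      have : x = a⁻¹ * x⁻¹ * a := by rw [← ha]; group
      calc a⁻¹ * x * a⁻¹⁻¹ = (a⁻¹ * x⁻¹ * a)⁻¹ := by group
        _ = x⁻¹ := by rw [← this]

theorem cent_le_extCent {G : Type*} [Group G] (x : G) :
    Subgroup.centralizer ({x} : Set G) ≤ extCent x := by
  intro g hg
  left
  rw [Subgroup.mem_centralizer_iff] at hg
  have := hg x (Set.mem_singleton x)
  rw [← this]; group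

theorem relIndex_two {G : Type*} [Group G] (x t : G) (ht : t * x * t⁻¹ = x⁻¹) (hx : x ≠ x⁻¹) :
    (Subgroup.centralizer ({x} : Set G)).relIndex (extCent x) = 2 := by
  rw [Subgroup.relIndex, Subgroup.index_eq_two_iff]
  have htm : t ∈ extCent x := Or.inr ht
  refine ⟨⟨t, htm⟩, ?_⟩
  rintro ⟨b, hb⟩
  simp only [Subgroup.mem_subgroupOf, Subgroup.coe_mul, Subgroup.mem_centralizer_iff,
    Set.mem_singleton_iff, forall_eq]
  have key : ∀ c : G, x * c = c * x ↔ c * x * c⁻¹ = x := by
    intro c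
    constructor
    · intro h; rw [← h]; group
    · intro h
      calc x * c = (c * x * c⁻¹) * c := by rw [h]
        _ = c * x := by group
  rw [key, key]
  have hbt : b * t * x * (b * t)⁻¹ = b * (t * x * t⁻¹) * b⁻¹ := by group
  rw [hbt, ht]
  have h' : b * x⁻¹ * b⁻¹ = (b * x * b⁻¹)⁻¹ := by group
  rw [h']
  rcases hb with hb | hb
  · rw [hb]
    right
    exact ⟨rfl, fun h => hx h.symm⟩
  · rw [hb, inv_inv]
    left
    exact ⟨rfl, fun h => hx h.symm⟩

/-- Let x be an element of the finite group G that is conjugate to its inverse. Then some 2-element conjugates x to its inverse; if the conjugacy class of x has odd size then x ^ 2 = 1; and x lies in, and is conjugate to its inverse inside, every normal subgroup of odd index. -/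
theorem result {G : Type*} [Group G] [Finite G] (x : G) (hx : IsConj x x⁻¹) : (∃ t : G, (∃ j : ℕ, orderOf t = 2 ^ j) ∧ t * x * t⁻¹ = x⁻¹) ∧ (Odd (Subgroup.centralizer ({x} : Set G)).index → x ^ 2 = 1) ∧ ∀ (N : Subgroup G) [N.Normal], Odd N.index → ∃ hxN : x ∈ N, IsConj (⟨x, hxN⟩ : N) (⟨x, hxN⟩ : N)⁻¹ := by
  obtain ⟨g, hg⟩ := isConj_iff.mp hx
  obtain ⟨t, ⟨j, hj⟩, ht⟩ := exists_two_elt x g hg
  refine ⟨⟨t, ⟨j, hj⟩, ht⟩, ?_, ?_⟩
  · intro hodd
    by_contra hne
    have hx' : x ≠ x⁻¹ := by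
      intro h
      apply hne
      calc x ^ 2 = x * x := pow_two x
        _ = x * x⁻¹ := by rw [← h]
        _ = 1 := mul_inv_cancel x
    have h2 := relIndex_two x t ht hx'
    have := Subgroup.relIndex_mul_index (cent_le_extCent x)
    rw [h2] at this
    rw [← this] at hodd
    exact (Nat.not_even_iff_odd.mpr hodd) (even_two_mul _)
  · intro N _ hN
    have htN : t ∈ N := by
      have h1 : t ^ N.index ∈ N := Subgroup.pow_index_mem N t
      have hcop : Nat.Coprime N.index (orderOf t) := by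
        rw [hj]
        apply Nat.Coprime.pow_right
        exact hN.coprime_two_right
      obtain ⟨m, hm⟩ := exists_pow_eq_self_of_coprime hcop
      rw [← hm]
      exact Subgroup.pow_mem N h1 m
    have hx2 : x ^ 2 ∈ N := by
      have h1 : x * t⁻¹ * x⁻¹ ∈ N := by
        have := ‹N.Normal›.conj_mem t⁻¹ (N.inv_mem htN) x
        exact this
      have h2 : t * (x * t⁻¹ * x⁻¹) ∈ N := N.mul_mem htN h1
      have h3 : t * (x * t⁻¹ * x⁻¹) = (x ^ 2)⁻¹ := by
        calc t * (x * t⁻¹ * x⁻¹) = (t * x * t⁻¹) * x⁻¹ := by group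
          _ = x⁻¹ * x⁻¹ := by rw [ht]
          _ = (x ^ 2)⁻¹ := by rw [pow_two, mul_inv_rev]
      rw [h3] at h2
      exact (N.inv_mem_iff).mp h2
    have hxN : x ∈ N := by
      obtain ⟨k, hk⟩ := hN
      have h1 : x ^ N.index ∈ N := Subgroup.pow_index_mem N x
      have h3 : x ^ N.index = (x ^ 2) ^ k * x := by rw [hk, pow_succ, pow_mul]
      have h2 : x = ((x ^ 2) ^ k)⁻¹ * x ^ N.index := by rw [h3, inv_mul_cancel_left]
      rw [h2]
      exact N.mul_mem (N.inv_mem (N.pow_mem hx2 k)) h1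
    refine ⟨hxN, ?_⟩
    rw [isConj_iff]
    refine ⟨⟨t, htN⟩, ?_⟩
    apply Subtype.ext
    simp [ht]

end Cfsg.Agent.S3863
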