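import Cfsg.Statements.S3864
import Mathlib
import Cfsg.Agent.S1254
import Cfsg.Agent.Lib.Helper9.Dih.Complement
import Cfsg.Agent.Lib.Helper9.Dih.Classes

set_option autoImplicit false
open Cfsg

namespace Cfsg.Agent.S3864

open DihedralGroup
open Cfsg.Agent.Lib.Helper9 Cfsg.Agent.Lib.Helper9.Dih
open Cfsg.Agent.Lib.Helper9.QD (Mz Kz two_mul_Mz two_mul_Kz Mz_ne_zero even_or_odd isConj_coe)

section
variable {X : Type*} [Group X] [Finite X] (S : Sylow 2 X) {n : ℕ}
  (e : (S : Subgroup X) ≃* DihedralGroup (2 ^ n))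

theorem sigma_conj_01 (i : ZMod (2 ^ n)) :
    IsConj ((σ e 0 : (S : Subgroup X)) : X) ((σ e i : (S : Subgroup X)) : X) ∨
    IsConj ((σ e 1 : (S : Subgroup X)) : X) ((σ e i : (S : Subgroup X)) : X) := by
  rcases even_or_odd i with ⟨j, rfl⟩ | ⟨j, rfl⟩
  · left
    have := isConj_coe (isConj_σ_add_two_mul e 0 j)
    rwa [zero_add] at this
  · right
    have := isConj_coe (isConj_σ_add_two_mul e 1 j)
    rwa [add_comm] at this

theorem involution_three (hn : 1 ≤ n) (t : X) (ht : orderOf t = 2) :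
    IsConj ((ρ e (Mz n) : (S : Subgroup X)) : X) t ∨
    IsConj ((σ e 0 : (S : Subgroup X)) : X) t ∨
    IsConj ((σ e 1 : (S : Subgroup X)) : X) t := by
  rcases involution_isConj S e hn t ht with h | ⟨i, h⟩
  · exact Or.inl h
  · rcases sigma_conj_01 S e i with h1 | h1
    · exact Or.inr (Or.inl (h1.trans h))
    · exact Or.inr (Or.inr (h1.trans h))

theorem class_set (hn : 1 ≤ n) :
    {C : ConjClasses X | ∃ g : X, ConjClasses.mk g = C ∧ orderOf g = 2} =
    {ConjClasses.mk ((ρ e (Mz n) : (S : Subgroup X)) : X),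
      ConjClasses.mk ((σ e 0 : (S : Subgroup X)) : X),
      ConjClasses.mk ((σ e 1 : (S : Subgroup X)) : X)} := by
  ext C
  simp only [Set.mem_setOf_eq, Set.mem_insert_iff, Set.mem_singleton_iff]
  constructor
  · rintro ⟨g, rfl, hg⟩
    rcases involution_three S e hn g hg with h | h | h
    · left; exact (ConjClasses.mk_eq_mk_iff_isConj.mpr h).symm
    · right; left; exact (ConjClasses.mk_eq_mk_iff_isConj.mpr h).symm
    · right; right; exact (ConjClasses.mk_eq_mk_iff_isConj.mpr h).symm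
  · rintro (rfl | rfl | rfl)
    · exact ⟨_, rfl, orderOf_ζX S e hn⟩
    · exact ⟨_, rfl, orderOf_σX S e 0⟩
    · exact ⟨_, rfl, orderOf_σX S e 1⟩

/-- a normal subgroup of index four cannot be extended to the whole group by one involution -/
theorem index_four_aux (N : Subgroup X) [N.Normal] (hN : N.index = 4) (x : X)
    (hx : orderOf x = 2)
    (h0 : ((σ e 0 : (S : Subgroup X)) : X) ∈ N ⊔ Subgroup.zpowers x)
    (h1 : ((σ e 1 : (S : Subgroup X)) : X) ∈ N ⊔ Subgroup.zpowers x) : False := by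
  have hP : (S : Subgroup X) ≤ N ⊔ Subgroup.zpowers x := sylow_le_of_mem S e _ h0 h1
  have h1 : (N ⊔ Subgroup.zpowers x).index ∣ (S : Subgroup X).index :=
    Subgroup.index_dvd_of_le hP
  have h2 : (N ⊔ Subgroup.zpowers x).index ∣ N.index := Subgroup.index_dvd_of_le le_sup_left
  have h3 : (N ⊔ Subgroup.zpowers x).index = 1 := by
    have hnd : ¬ 2 ∣ (N ⊔ Subgroup.zpowers x).index := fun h =>
      S.not_dvd_index (dvd_trans h h1)
    rw [hN] at h2
    have hle : (N ⊔ Subgroup.zpowers x).index ≤ 4 := Nat.le_of_dvd (by norm_num) h2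
    generalize (N ⊔ Subgroup.zpowers x).index = d at h2 hnd hle
    interval_cases d <;> simp_all
  rw [Subgroup.index_eq_one] at h3
  have h4 : N.relIndex (N ⊔ Subgroup.zpowers x) = N.relIndex (Subgroup.zpowers x) :=
    Subgroup.relIndex_sup_left _ _
  rw [h3, Subgroup.relIndex_top_right, hN] at h4
  have h5 := Subgroup.relIndex_dvd_card N (Subgroup.zpowers x)
  rw [← h4, Nat.card_zpowers, hx] at h5
  omega

theorem index_four (hn : 2 ≤ n) (N : Subgroup X) (hNn : N.Normal) (hN : N.index = 4) :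
    ¬ IsConj ((ρ e (Mz n) : (S : Subgroup X)) : X) ((σ e 0 : (S : Subgroup X)) : X) ∧
    ¬ IsConj ((ρ e (Mz n) : (S : Subgroup X)) : X) ((σ e 1 : (S : Subgroup X)) : X) ∧
    ¬ IsConj ((σ e 0 : (S : Subgroup X)) : X) ((σ e 1 : (S : Subgroup X)) : X) := by
  have : Fact (Nat.Prime 2) := ⟨Nat.prime_two⟩
  have hcard : Nat.card (X ⧸ N) = 2 ^ 2 := by
    rw [← Subgroup.index_eq_card, hN]; norm_num
  have hcomm := IsPGroup.commutative_of_card_eq_prime_sq hcard
  have hconj : ∀ x y : X, IsConj x y → (x : X ⧸ N) = (y : X ⧸ N) := by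
    intro x y hxy
    obtain ⟨c, hc⟩ := isConj_iff.mp hxy
    rw [← hc, QuotientGroup.mk_mul, QuotientGroup.mk_mul, hcomm, ← mul_assoc,
      ← QuotientGroup.mk_mul, inv_mul_cancel, QuotientGroup.mk_one, one_mul]
  have hζ : (((ρ e (Mz n) : (S : Subgroup X)) : X) : X ⧸ N) = 1 := by
    have h1 : (ρ e (Mz n) : (S : Subgroup X)) = σ e 0 * σ e (Mz n) := by
      rw [σ_mul_σ, sub_zero]
    have h2 : IsConj ((σ e 0 : (S : Subgroup X)) : X) ((σ e (Mz n) : (S : Subgroup X)) : X) := by
      have := isConj_coe (isConj_σ_add_two_mul e 0 (Kz n))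
      rwa [zero_add, two_mul_Kz hn] at this
    rw [h1, Subgroup.coe_mul, QuotientGroup.mk_mul, ← hconj _ _ h2, ← QuotientGroup.mk_mul,
      ← Subgroup.coe_mul, σ_mul_self, Subgroup.coe_one, QuotientGroup.mk_one]
  have hmem : ∀ x : X, x ∈ Subgroup.zpowers x := fun x => Subgroup.mem_zpowers x
  refine ⟨?_, ?_, ?_⟩
  · intro h
    have h1 := hconj _ _ h
    rw [hζ] at h1
    have h2 : ((σ e 0 : (S : Subgroup X)) : X) ∈ N := (QuotientGroup.eq_one_iff _).mp h1.symm
    exact index_four_aux S e N hN _ (orderOf_σX S e 1) (Subgroup.mem_sup_left h2)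
      (Subgroup.mem_sup_right (hmem _))
  · intro h
    have h1 := hconj _ _ h
    rw [hζ] at h1
    have h2 : ((σ e 1 : (S : Subgroup X)) : X) ∈ N := (QuotientGroup.eq_one_iff _).mp h1.symm
    exact index_four_aux S e N hN _ (orderOf_σX S e 0) (Subgroup.mem_sup_right (hmem _))
      (Subgroup.mem_sup_left h2)
  · intro h
    have h1 := hconj _ _ h
    rw [QuotientGroup.eq] at h1
    refine index_four_aux S e N hN _ (orderOf_σX S e 0) (Subgroup.mem_sup_right (hmem _)) ?_
    have h3 : ((σ e 1 : (S : Subgroup X)) : X) = ((σ e 0 : (S : Subgroup X)) : X) *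
        (((σ e 0 : (S : Subgroup X)) : X)⁻¹ * ((σ e 1 : (S : Subgroup X)) : X)) := by group
    rw [h3]
    exact Subgroup.mul_mem _ (Subgroup.mem_sup_right (hmem _)) (Subgroup.mem_sup_left h1)


/-- without fusion of the central involution to a reflection there is a normal 2-complement -/
theorem complement_of_no_fusion (hn : 2 ≤ n)
    (ha : ¬ IsConj ((ρ e (Mz n) : (S : Subgroup X)) : X) ((σ e 0 : (S : Subgroup X)) : X))
    (hb : ¬ IsConj ((ρ e (Mz n) : (S : Subgroup X)) : X) ((σ e 1 : (S : Subgroup X)) : X)) :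
    Cfsg.HasNormalPComplement 2 X := by
  have hn1 : 1 ≤ n := by omega
  have hm : 2 ≤ 2 ^ n := by
    calc 2 = 2 ^ 1 := by norm_num
      _ ≤ 2 ^ n := Nat.pow_le_pow_right (by norm_num) hn1
  have hno : ∀ i : ZMod (2 ^ n),
      ¬ IsConj ((ρ e (Mz n) : (S : Subgroup X)) : X) ((σ e i : (S : Subgroup X)) : X) := by
    intro i h
    rcases sigma_conj_01 S e i with h1 | h1
    · exact ha (h.trans h1.symm)
    · exact hb (h.trans h1.symm)
  apply (Cfsg.Agent.S1254.result S (2 ^ n) hm e).mpr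
  intro U hUS hU
  have : Fact (Nat.Prime 2) := ⟨Nat.prime_two⟩
  have : Fact (Nat.Prime 3) := ⟨Nat.prime_three⟩
  apply le_antisymm _ (sup_le (Subgroup.centralizer_le_normalizer _) inf_le_right)
  have h6 := AutIndex.relIndex_dvd_six_of_kleinFour U hU
  have h3 : ¬ 3 ∣ (Subgroup.centralizer (U : Set X)).relIndex
      (Subgroup.normalizer (U : Set X)) := by
    intro h
    obtain ⟨g, hgN, ⟨k, hk⟩, hgC⟩ := exists_prime_pow_not_mem_of_dvd_relIndex (q := 3) _ _ h
    have hodd : Odd (orderOf g) := by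
      rw [hk]; exact Odd.pow (by decide)
    obtain ⟨i, -, hi, -⟩ := klein_fusion S e hn1 U hU hUS hgN hodd hgC
    exact hno i (isConj_iff.mpr ⟨g, hi⟩)
  have h12 : (Subgroup.centralizer (U : Set X)).relIndex (Subgroup.normalizer (U : Set X)) = 1 ∨
      (Subgroup.centralizer (U : Set X)).relIndex (Subgroup.normalizer (U : Set X)) = 2 := by
    generalize (Subgroup.centralizer (U : Set X)).relIndex (Subgroup.normalizer (U : Set X)) = d
      at h6 h3
    have hle : d ≤ 6 := Nat.le_of_dvd (by norm_num) h6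
    interval_cases d <;> simp_all
  rcases h12 with h1 | h2
  · rw [Subgroup.relIndex_eq_one] at h1
    exact h1.trans le_sup_left
  · obtain ⟨b, hb, hbC⟩ := exists_mem_normalizer_not_mem_centralizer S e hn U hUS hU
    intro g hg
    by_cases hgC : g ∈ Subgroup.centralizer (U : Set X)
    · exact Subgroup.mem_sup_left hgC
    · have h5 := (IndexTwo.mul_mem_iff_of_relIndex_two h2 hg hb.2).mpr
        (iff_of_false hgC hbC)
      have : g = (g * b) * b⁻¹ := by group
      rw [this]
      exact Subgroup.mul_mem _ (Subgroup.mem_sup_left h5)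
        (Subgroup.mem_sup_right (Subgroup.inv_mem _ hb))

/-- with a normal 2-complement the two classes of reflections are not fused -/
theorem not_fused_of_complement (hn : 1 ≤ n) (h : Cfsg.HasNormalPComplement 2 X) :
    ¬ IsConj ((σ e 0 : (S : Subgroup X)) : X) ((σ e 1 : (S : Subgroup X)) : X) := by
  obtain ⟨Q, N, hN, hc⟩ := h
  have : Fact (Nat.Prime 2) := ⟨Nat.prime_two⟩
  have hcard : Nat.card N * Nat.card (S : Subgroup X) = Nat.card X := by
    rw [← hc.card_mul_card, Sylow.card_eq_multiplicity, Sylow.card_eq_multiplicity]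
  have hcop : Nat.Coprime (Nat.card N) (Nat.card (S : Subgroup X)) := by
    rw [card_eq e, ← hc.index_eq_card]
    apply Nat.Coprime.pow_right
    exact Nat.coprime_comm.mp ((Nat.Prime.coprime_iff_not_dvd Nat.prime_two).mpr Q.not_dvd_index)
  have hc' : N.IsComplement' (S : Subgroup X) := Subgroup.isComplement'_of_coprime hcard hcop
  intro hconj
  obtain ⟨g, hg⟩ := isConj_iff.mp hconj
  obtain ⟨⟨⟨a, ha⟩, ⟨p, hp⟩⟩, hap, -⟩ := hc'.symm.existsUnique g
  simp only at hap
  -- g = a * p with a ∈ S, p ∈ N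
  set s0 : X := ((σ e 0 : (S : Subgroup X)) : X) with hs0
  set s1 : X := ((σ e 1 : (S : Subgroup X)) : X) with hs1
  have hs0S : s0 ∈ (S : Subgroup X) := SetLike.coe_mem _
  have hs1S : s1 ∈ (S : Subgroup X) := SetLike.coe_mem _
  have h1 : p * s0 * p⁻¹ = a⁻¹ * s1 * a := by
    rw [← hg, ← hap]; group
  have h2 : p * s0 * p⁻¹ * s0⁻¹ ∈ N := by
    have : p * s0 * p⁻¹ * s0⁻¹ = p * (s0 * p⁻¹ * s0⁻¹) := by group
    rw [this]
    exact N.mul_mem hp (hN.conj_mem _ (N.inv_mem hp) _)
  have h3 : p * s0 * p⁻¹ * s0⁻¹ ∈ (S : Subgroup X) := by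
    rw [h1]
    exact Subgroup.mul_mem _ (Subgroup.mul_mem _ (Subgroup.mul_mem _ (Subgroup.inv_mem _ ha) hs1S)
      ha) (Subgroup.inv_mem _ hs0S)
  have h4 : p * s0 * p⁻¹ * s0⁻¹ = 1 := by
    have := hc'.disjoint.le_bot ⟨h2, h3⟩
    simpa using this
  have h5 : a⁻¹ * s1 * a = s0 := by
    rw [← h1]
    exact mul_inv_eq_one.mp h4
  have h6 : (⟨a, ha⟩ : (S : Subgroup X)) * σ e 0 * (⟨a, ha⟩ : (S : Subgroup X))⁻¹ = σ e 1 := by
    apply Subtype.ext
    simp only [Subgroup.coe_mul, Subgroup.coe_inv]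
    rw [← hs0, ← hs1, ← h5]; group
  obtain ⟨j, hj, hpar⟩ := conj_σ_parity e hn ⟨a, ha⟩ 0
  rw [h6, σ_inj] at hj
  rw [← hj, mul_one, mul_zero] at hpar
  exact Mz_ne_zero hn hpar

end

/-- Let G be a finite group whose Sylow 2-subgroups are dihedral of order 2 ^ n with n ≥ 3, and count the conjugacy classes of involutions of G. Then exactly one of the following holds: there is one class of involutions and no normal subgroup of index 2; there are two classes of involutions, a normal subgroup of index 2 and none of index 4; there are three classes of involutions and G has a normal 2-complement. -/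
theorem result {G : Type*} [Group G] [Finite G] (P : Sylow 2 G) (n : ℕ) (hn : 3 ≤ n) (hdih : Nonempty (↥(P : Subgroup G) ≃* DihedralGroup (2 ^ (n - 1)))) : (Nat.card {C : ConjClasses G // ∃ g : G, ConjClasses.mk g = C ∧ orderOf g = 2} = 1 ∧ ∀ N : Subgroup G, N.Normal → N.index ≠ 2) ∨ (Nat.card {C : ConjClasses G // ∃ g : G, ConjClasses.mk g = C ∧ orderOf g = 2} = 2 ∧ (∃ N : Subgroup G, N.Normal ∧ N.index = 2) ∧ ∀ N : Subgroup G, N.Normal → N.index ≠ 4) ∨ (Nat.card {C : ConjClasses G // ∃ g : G, ConjClasses.mk g = C ∧ orderOf g = 2} = 3 ∧ Cfsg.HasNormalPComplement 2 G) := by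
  obtain ⟨e⟩ := hdih
  obtain ⟨k, hk⟩ : ∃ k, k = n - 1 := ⟨_, rfl⟩
  rw [← hk] at e
  have hk2 : 2 ≤ k := by omega
  have hk1 : 1 ≤ k := by omega
  have hcard : Nat.card {C : ConjClasses G // ∃ g : G, ConjClasses.mk g = C ∧ orderOf g = 2} =
      ({ConjClasses.mk ((ρ e (Mz k) : (P : Subgroup G)) : G),
        ConjClasses.mk ((σ e 0 : (P : Subgroup G)) : G),
        ConjClasses.mk ((σ e 1 : (P : Subgroup G)) : G)} : Set (ConjClasses G)).ncard := by
    rw [← class_set P e hk1]
    exact Nat.card_coe_set_eq _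
  rw [hcard]
  set ζ : G := ((ρ e (Mz k) : (P : Subgroup G)) : G) with hζ
  set s0 : G := ((σ e 0 : (P : Subgroup G)) : G) with hs0
  set s1 : G := ((σ e 1 : (P : Subgroup G)) : G) with hs1
  have hidx2 : ¬ (IsConj ζ s0 ∧ IsConj ζ s1) → ∃ N : Subgroup G, N.Normal ∧ N.index = 2 := by
    intro hnot
    by_contra hcon
    push Not at hcon
    have hX : ∀ H : Subgroup G, H.index ≠ 2 := fun H hH =>
      hcon H (Subgroup.normal_of_index_eq_two hH) hH
    exact hnot ⟨isConj_ζ_σ_of_no_index_two P e hk1 hX 0, isConj_ζ_σ_of_no_index_two P e hk1 hX 1⟩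
  have hidx4 : (IsConj ζ s0 ∨ IsConj ζ s1) → ∀ N : Subgroup G, N.Normal → N.index ≠ 4 := by
    intro h N hN hN4
    obtain ⟨h1, h2, -⟩ := index_four P e hk2 N hN hN4
    rcases h with h | h
    · exact h1 h
    · exact h2 h
  by_cases ha : IsConj ζ s0
  · by_cases hb : IsConj ζ s1
    · left
      have h01 : ConjClasses.mk ζ = ConjClasses.mk s0 := ConjClasses.mk_eq_mk_iff_isConj.mpr ha
      have h02 : ConjClasses.mk ζ = ConjClasses.mk s1 := ConjClasses.mk_eq_mk_iff_isConj.mpr hb
      refine ⟨?_, ?_⟩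
      · rw [← h01, ← h02]
        simp
      · intro N _
        apply no_index_two_of_all_isConj P e hk1
        intro x y hx hy
        have key : ∀ t : G, orderOf t = 2 → IsConj ζ t := by
          intro t ht
          rcases involution_three P e hk1 t ht with h | h | h
          · exact h
          · exact ha.trans h
          · exact hb.trans h
        exact (key x hx).symm.trans (key y hy)
    · right; left
      have h01 : ConjClasses.mk ζ = ConjClasses.mk s0 := ConjClasses.mk_eq_mk_iff_isConj.mpr ha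
      have hne : ConjClasses.mk s0 ≠ ConjClasses.mk s1 := by
        intro h
        exact hb (ha.trans (ConjClasses.mk_eq_mk_iff_isConj.mp h))
      refine ⟨?_, hidx2 (fun h => hb h.2), hidx4 (Or.inl ha)⟩
      rw [h01, Set.insert_eq_of_mem (Set.mem_insert _ _)]
      exact Set.ncard_pair hne
  · by_cases hb : IsConj ζ s1
    · right; left
      have h02 : ConjClasses.mk ζ = ConjClasses.mk s1 := ConjClasses.mk_eq_mk_iff_isConj.mpr hb
      have hne : ConjClasses.mk s0 ≠ ConjClasses.mk s1 := by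
        intro h
        exact ha (hb.trans (ConjClasses.mk_eq_mk_iff_isConj.mp h).symm)
      refine ⟨?_, hidx2 (fun h => ha h.1), hidx4 (Or.inr hb)⟩
      rw [h02, Set.insert_eq_of_mem (Set.mem_insert_of_mem _ (Set.mem_singleton _))]
      exact Set.ncard_pair hne
    · right; right
      have hcomp := complement_of_no_fusion P e hk2 ha hb
      have hc := not_fused_of_complement P e hk1 hcomp
      refine ⟨?_, hcomp⟩
      rw [Set.ncard_eq_three]
      refine ⟨_, _, _, ?_, ?_, ?_, rfl⟩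
      · exact fun h => ha (ConjClasses.mk_eq_mk_iff_isConj.mp h)
      · exact fun h => hb (ConjClasses.mk_eq_mk_iff_isConj.mp h)
      · exact fun h => hc (ConjClasses.mk_eq_mk_iff_isConj.mp h)

end Cfsg.Agent.S3864
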