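import Cfsg.Statements.S3866
import Mathlib

set_option autoImplicit false
open Cfsg

namespace Cfsg.Agent.S3866

variable {G : Type*} [Group G]

/-- the commutator map `a ↦ x a x⁻¹ a⁻¹` as a homomorphism from an abelian normal subgroup -/
def commHom (A : Subgroup G) [A.Normal] (hA : IsMulCommutative A) (x : G) : A →* G where
  toFun a := x * a * x⁻¹ * (a : G)⁻¹
  map_one' := by simp
  map_mul' := by
    intro a b
    have hxa : x * a * x⁻¹ ∈ A := ‹A.Normal›.conj_mem a a.2 x
    have hxb : x * b * x⁻¹ ∈ A := ‹A.Normal›.conj_mem b b.2 x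
    have hc : ∀ u v : G, u ∈ A → v ∈ A → u * v = v * u := by
      intro u v hu hv
      have := hA.is_comm.comm (⟨u, hu⟩ : A) ⟨v, hv⟩
      exact congrArg Subtype.val this
    simp only [Subgroup.coe_mul]
    calc x * (↑a * ↑b) * x⁻¹ * (↑a * ↑b)⁻¹
        = (x * a * x⁻¹) * ((x * b * x⁻¹) * (b : G)⁻¹) * (a : G)⁻¹ := by group
      _ = (x * a * x⁻¹) * ((a : G)⁻¹ * ((x * b * x⁻¹) * (b : G)⁻¹)) := by
          rw [mul_assoc, hc _ _ (A.mul_mem hxb (A.inv_mem b.2)) (A.inv_mem a.2)]
      _ = x * ↑a * x⁻¹ * (↑a)⁻¹ * (x * ↑b * x⁻¹ * (↑b)⁻¹) := by group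

theorem commHom_apply (A : Subgroup G) [A.Normal] (hA : IsMulCommutative A) (x : G) (a : A) :
    commHom A hA x a = x * a * x⁻¹ * (a : G)⁻¹ := rfl

theorem range_le (A : Subgroup G) [A.Normal] (hA : IsMulCommutative A) (x : G) :
    (commHom A hA x).range ≤ A := by
  rintro _ ⟨a, rfl⟩
  rw [commHom_apply]
  exact A.mul_mem (‹A.Normal›.conj_mem a a.2 x) (A.inv_mem a.2)

theorem range_normal (A : Subgroup G) [A.Normal] (hA : IsMulCommutative A) (x : G)
    (hgen : A ⊔ Subgroup.zpowers x = ⊤) : (commHom A hA x).range.Normal := by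
  have hc : ∀ u v : G, u ∈ A → v ∈ A → u * v = v * u := by
    intro u v hu hv
    have := hA.is_comm.comm (⟨u, hu⟩ : A) ⟨v, hv⟩
    exact congrArg Subtype.val this
  rw [← Subgroup.normalizer_eq_top_iff, eq_top_iff, ← hgen, sup_le_iff]
  constructor
  · intro b hb
    rw [Subgroup.mem_normalizer_iff]
    intro k
    have key : ∀ k ∈ (commHom A hA x).range, b * k * b⁻¹ = k := by
      intro k hk
      have hkA := range_le A hA x hk
      rw [hc b k hb hkA]; group
    constructor
    · intro hk; rw [key k hk]; exact hk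
    · intro hk
      have hbk : b * k * b⁻¹ ∈ A := range_le A hA x hk
      have hkA : k ∈ A := by
        have : k = b⁻¹ * (b * k * b⁻¹) * b := by group
        rw [this]; exact A.mul_mem (A.mul_mem (A.inv_mem hb) hbk) hb
      have : b * k * b⁻¹ = k := by rw [hc b k hb hkA]; group
      rw [← this]; exact hk
  · rw [Subgroup.zpowers_le]
    rw [Subgroup.mem_normalizer_iff]
    have key : ∀ (y : G) (k : G), (∀ a : A, y * a * y⁻¹ ∈ A) → k ∈ (commHom A hA x).range →
        y * x = x * y → y * k * y⁻¹ ∈ (commHom A hA x).range := by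
      rintro y _ hy ⟨a, rfl⟩ hyx
      refine ⟨⟨y * a * y⁻¹, hy a⟩, ?_⟩
      rw [commHom_apply, commHom_apply]
      simp only
      have hyx' : y⁻¹ * x⁻¹ = x⁻¹ * y⁻¹ := by
        rw [← mul_inv_rev, ← mul_inv_rev, hyx]
      calc x * (y * ↑a * y⁻¹) * x⁻¹ * (y * ↑a * y⁻¹)⁻¹
          = (x * y) * a * (y⁻¹ * x⁻¹) * y * (a : G)⁻¹ * y⁻¹ := by group
        _ = (y * x) * a * (x⁻¹ * y⁻¹) * y * (a : G)⁻¹ * y⁻¹ := by rw [hyx, hyx']
        _ = y * (x * ↑a * x⁻¹ * (↑a)⁻¹) * y⁻¹ := by group
    intro k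
    constructor
    · intro hk
      exact key x k (fun a => ‹A.Normal›.conj_mem a a.2 x) hk rfl
    · intro hk
      have := key x⁻¹ _ (fun a => ‹A.Normal›.conj_mem a a.2 x⁻¹) hk (by group)
      have h2 : x⁻¹ * (x * k * x⁻¹) * x⁻¹⁻¹ = k := by group
      rwa [h2] at this

theorem commutator_le_range (A : Subgroup G) [A.Normal] (hA : IsMulCommutative A) (x : G)
    (hgen : A ⊔ Subgroup.zpowers x = ⊤) : commutator G ≤ (commHom A hA x).range := by
  have hK : (commHom A hA x).range.Normal := range_normal A hA x hgen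
  set K := (commHom A hA x).range with hKdef
  have hc : ∀ u v : G, u ∈ A → v ∈ A → u * v = v * u := by
    intro u v hu hv
    have := hA.is_comm.comm (⟨u, hu⟩ : A) ⟨v, hv⟩
    exact congrArg Subtype.val this
  let q := QuotientGroup.mk' K
  let S : Set G := (A : Set G) ∪ {x}
  have hclo : Subgroup.closure (q '' S) = ⊤ := by
    rw [← MonoidHom.map_closure, Subgroup.closure_union, Subgroup.closure_eq,
      ← Subgroup.zpowers_eq_closure, hgen, Subgroup.map_top_of_surjective _ (QuotientGroup.mk'_surjective K)]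
  have hxa : ∀ a ∈ A, q x * q a = q a * q x := by
    intro a ha
    rw [← map_mul, ← map_mul]
    show ((x * a : G) : G ⧸ K) = ((a * x : G) : G ⧸ K)
    rw [QuotientGroup.eq]
    have : (x * a)⁻¹ * (a * x) = (x * a)⁻¹ * (x * a * x⁻¹ * a⁻¹)⁻¹ * ((x * a)⁻¹)⁻¹ := by group
    rw [this]
    apply hK.conj_mem
    apply K.inv_mem
    exact ⟨⟨a, ha⟩, rfl⟩
  have hcomm : ∀ u ∈ q '' S, ∀ v ∈ q '' S, u * v = v * u := by
    rintro _ ⟨u, hu, rfl⟩ _ ⟨v, hv, rfl⟩
    rcases hu with hu | hu <;> rcases hv with hv | hv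
    · rw [← map_mul, ← map_mul, hc u v hu hv]
    · rw [Set.mem_singleton_iff.mp hv]; exact (hxa u hu).symm
    · rw [Set.mem_singleton_iff.mp hu]; exact hxa v hv
    · rw [Set.mem_singleton_iff.mp hu, Set.mem_singleton_iff.mp hv]
  have hcl := Subgroup.isMulCommutative_closure hcomm
  rw [hclo] at hcl
  have hall : ∀ u v : G ⧸ K, u * v = v * u := by
    intro u v
    have := hcl.is_comm.comm (⟨u, Subgroup.mem_top u⟩ : (⊤ : Subgroup (G ⧸ K))) ⟨v, Subgroup.mem_top v⟩
    exact congrArg Subtype.val this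
  rw [commutator_def, Subgroup.commutator_le]
  intro g _ h _
  rw [← QuotientGroup.eq_one_iff, commutatorElement_def]
  show q (g * h * g⁻¹ * h⁻¹) = 1
  rw [map_mul, map_mul, map_mul, map_inv, map_inv, hall (q g) (q h)]
  group

/-- Let A be a commutative normal subgroup of the finite group G with G generated by A and an element x. Then a ↦ x a x⁻¹ a⁻¹ is a surjective homomorphism from A onto the commutator subgroup of G whose kernel is the centralizer of x in A; in particular the commutator subgroup has order equal to the index in A of that centralizer. -/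
theorem result {G : Type*} [Group G] [Finite G] (A : Subgroup G) [A.Normal] (hA : IsMulCommutative A) (x : G) (hgen : A ⊔ Subgroup.zpowers x = ⊤) : (∀ a ∈ A, x * a * x⁻¹ * a⁻¹ ∈ commutator G) ∧ (∀ c ∈ commutator G, ∃ a ∈ A, x * a * x⁻¹ * a⁻¹ = c) ∧ (∀ a ∈ A, ∀ b ∈ A, x * (a * b) * x⁻¹ * (a * b)⁻¹ = (x * a * x⁻¹ * a⁻¹) * (x * b * x⁻¹ * b⁻¹)) ∧ Nat.card (commutator G) * Nat.card ↥(A ⊓ Subgroup.centralizer ({x} : Set G)) = Nat.card A := by
  have h1 : ∀ a ∈ A, x * a * x⁻¹ * a⁻¹ ∈ commutator G := by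
    intro a _
    rw [commutator_def]
    exact Subgroup.commutator_mem_commutator (Subgroup.mem_top x) (Subgroup.mem_top a)
  have h2 : ∀ c ∈ commutator G, ∃ a ∈ A, x * a * x⁻¹ * a⁻¹ = c := by
    intro c hc
    obtain ⟨a, ha⟩ := commutator_le_range A hA x hgen hc
    exact ⟨a, a.2, ha⟩
  refine ⟨h1, h2, ?_, ?_⟩
  · intro a ha b hb
    exact (commHom A hA x).map_mul ⟨a, ha⟩ ⟨b, hb⟩
  · have hrange : (commHom A hA x).range = commutator G := by
      apply le_antisymm
      · rintro _ ⟨a, rfl⟩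
        exact h1 a a.2
      · exact commutator_le_range A hA x hgen
    have hker : (commHom A hA x).ker = (A ⊓ Subgroup.centralizer ({x} : Set G)).subgroupOf A := by
      ext a
      rw [MonoidHom.mem_ker, commHom_apply, Subgroup.mem_subgroupOf, Subgroup.mem_inf,
        Subgroup.mem_centralizer_iff]
      simp only [Set.mem_singleton_iff, forall_eq, SetLike.coe_mem, true_and]
      constructor
      · intro h
        have : x * a * x⁻¹ = a := by
          calc x * a * x⁻¹ = (x * a * x⁻¹ * (a : G)⁻¹) * a := by group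
            _ = a := by rw [h, one_mul]
        calc x * (a : G) = (x * a * x⁻¹) * x := by group
          _ = a * x := by rw [this]
      · intro h
        rw [h]; group
    have hcard := Subgroup.card_eq_card_quotient_mul_card_subgroup (commHom A hA x).ker
    rw [Nat.card_congr (QuotientGroup.quotientKerEquivRange (commHom A hA x)).toEquiv, hrange, hker,
      Nat.card_congr (Subgroup.subgroupOfEquivOfLe (inf_le_left : A ⊓ Subgroup.centralizer ({x} : Set G) ≤ A)).toEquiv] at hcard
    exact hcard.symm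

end Cfsg.Agent.S3866
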