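import Cfsg.Statements.S3869
import Mathlib
import Cfsg.Agent.Lib.Helper21.IrrCyclic

set_option autoImplicit false
open Cfsg

namespace Cfsg.Agent.S3869

open Cfsg.Agent.Lib.Helper21

theorem isPClosed_of_isPGroup {p : ℕ} [Fact p.Prime] {H : Type*} [Group H] (h : IsPGroup p H) :
    Cfsg.IsPClosed p H := by
  intro P
  have : (⊤ : Subgroup H) = P := P.3 (h.to_subgroup ⊤) le_top
  rw [← this]
  infer_instance

section toolkit
variable {G : Type*} [Group G] [Finite G] {A : Subgroup G} [A.Normal]

/-- for abelian normal `A` and any `H`, `H ⊓ A` is normalized by `H ⊔ A` -/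
theorem inf_normal_of_sup_eq_top (hAc : IsMulCommutative A) (H : Subgroup G) (hsup : H ⊔ A = ⊤) :
    (H ⊓ A).Normal := by
  rw [← Subgroup.normalizer_eq_top_iff, eq_top_iff, ← hsup, sup_le_iff]
  constructor
  · intro h hh
    apply mem_normalizer_of_conj_mem_finite
    intro e he
    rw [Subgroup.mem_inf] at he ⊢
    exact ⟨H.mul_mem (H.mul_mem hh he.1) (H.inv_mem hh), (inferInstance : A.Normal).conj_mem e he.2 h⟩
  · intro a ha
    apply mem_normalizer_of_conj_mem_finite
    intro e he
    rw [Subgroup.mem_inf] at he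
    have := hAc.is_comm.comm ⟨a, ha⟩ ⟨e, he.2⟩
    have h2 := congrArg Subtype.val this
    simp only [Subgroup.coe_mul] at h2
    rw [h2, mul_inv_cancel_right]
    exact Subgroup.mem_inf.mpr he

theorem inf_eq_bot_or_le (hAc : IsMulCommutative A) (hidx : A.index.Prime)
    (hmin : ∀ B : Subgroup G, B.Normal → B ≤ A → B = ⊥ ∨ B = A) (H : Subgroup G) (hH : ¬ H ≤ A) :
    H ⊓ A = ⊥ ∨ A ≤ H := by
  have hsup := sup_eq_top_of_index_prime hidx hH
  have hn := inf_normal_of_sup_eq_top hAc H hsup
  rcases hmin _ hn inf_le_right with h | h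
  · exact Or.inl h
  · right
    rw [← h]; exact inf_le_left

omit [Finite G] in
theorem card_eq_of_inf_eq_bot (hidx : A.index.Prime) (H : Subgroup G) (hH : ¬ H ≤ A)
    (hbot : H ⊓ A = ⊥) : Nat.card H = A.index := by
  have hsup := sup_eq_top_of_index_prime hidx hH
  have h1 : A.relIndex (H ⊔ A) = A.relIndex H := Subgroup.relIndex_sup_right H A
  rw [hsup, Subgroup.relIndex_top_right] at h1
  rw [h1, ← Subgroup.inf_relIndex_right, inf_comm, hbot, Subgroup.relIndex_bot_left]

end toolkit

/-- Let p and q be distinct primes and G a finite non-abelian group with a normal elementary abelian q-subgroup A that is a minimal normal subgroup of G and has index p. Then A has order q^e with e the multiplicative order of q modulo p, and G is minimal non-p-closed: its Sylow p-subgroups are not normal, while in every proper subgroup and in every proper quotient of G the Sylow p-subgroups are normal. -/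
theorem result {G : Type*} [Group G] [Finite G] {p q : ℕ} [Fact p.Prime] (hq : q.Prime) (hpq : q ≠ p)
    (hna : ¬ IsMulCommutative G) (A : Subgroup G) [A.Normal] (hA : Cfsg.IsElementaryAbelian q A) (hidx : A.index = p)
    (hmin : ∀ B : Subgroup G, B.Normal → B ≤ A → B = ⊥ ∨ B = A) :
    Nat.card ↥A = q ^ orderOf (q : ZMod p) ∧ ¬ Cfsg.IsPClosed p G ∧ (∀ H : Subgroup G, H ≠ ⊤ → Cfsg.IsPClosed p ↥H) ∧
      ∀ (N : Subgroup G) [N.Normal], N ≠ ⊥ → Cfsg.IsPClosed p (G ⧸ N) := by
  haveI : Fact q.Prime := ⟨hq⟩
  have hp : p.Prime := Fact.out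
  obtain ⟨hAc, hAq⟩ := hA
  have hpr : A.index.Prime := by rw [hidx]; exact hp
  have hcard := card_minimal_normal_index_prime hpq A hAc hAq hidx hna hmin
  have hAq' : IsPGroup q A := by
    intro a
    refine ⟨1, ?_⟩
    rw [pow_one]
    apply Subtype.ext
    simp only [SubgroupClass.coe_pow, Subgroup.coe_one]
    exact hAq a.1 a.2
  have hcop : ∀ k : ℕ, Nat.Coprime (p ^ k) (Nat.card A) := by
    intro k
    rw [hcard]
    exact Nat.Coprime.pow _ _ ((Nat.coprime_primes hp hq).mpr hpq.symm)
  -- a normal subgroup meeting `A` trivially and not inside `A` is impossible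
  have hdisj : ∀ N : Subgroup G, N.Normal → ¬ N ≤ A → N ⊓ A ≠ ⊥ := by
    intro N hN hNA hbot
    obtain ⟨x, hxN, hxA⟩ := SetLike.not_le_iff_exists.mp hNA
    apply hna
    apply comm_of_centralizing hAc hpr x hxA
    intro a ha
    have hd : Disjoint A N := by rw [disjoint_iff, inf_comm]; exact hbot
    exact (Subgroup.commute_of_normal_of_disjoint A N inferInstance hN hd a x ha hxN).eq
  refine ⟨hcard, ?_, ?_, ?_⟩
  · intro hcl
    have P : Sylow p G := default
    have hPn := hcl P
    have hpG : p ∣ Nat.card G := by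
      rw [← Subgroup.index_mul_card A, hidx]; exact dvd_mul_right _ _
    have hPne : (P : Subgroup G) ≠ ⊥ := P.ne_bot_of_dvd_card hpG
    have hPA : ¬ (P : Subgroup G) ≤ A := by
      intro hle
      obtain ⟨k, hk⟩ := IsPGroup.iff_card.mp P.2
      have h1 : Nat.card (P : Subgroup G) ∣ Nat.card A := Subgroup.card_dvd_of_le hle
      rw [hk] at h1
      have h2 := Nat.Coprime.eq_one_of_dvd (hcop k) h1
      apply hPne
      apply Subgroup.eq_bot_of_card_eq
      rw [hk, h2]
    apply hdisj _ hPn hPA
    apply Disjoint.eq_bot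
    apply Subgroup.disjoint_of_coprime_natCard
    obtain ⟨k, hk⟩ := IsPGroup.iff_card.mp P.2
    rw [hk]; exact hcop k
  · intro H hH P
    by_cases hHA : H ≤ A
    · have : (P : Subgroup H) = ⊥ := by
        obtain ⟨k, hk⟩ := IsPGroup.iff_card.mp P.2
        apply Subgroup.eq_bot_of_card_eq
        have h1 : Nat.card (P : Subgroup H) ∣ Nat.card H := Subgroup.card_subgroup_dvd_card _
        have h2 : Nat.card H ∣ Nat.card A := Subgroup.card_dvd_of_le hHA
        have h3 := h1.trans h2
        rw [hk] at h3 ⊢
        exact Nat.Coprime.eq_one_of_dvd (hcop k) h3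
      rw [this]; infer_instance
    · rcases inf_eq_bot_or_le hAc hpr hmin H hHA with h | h
      · have hc := card_eq_of_inf_eq_bot hpr H hHA h
        rw [hidx] at hc
        have hpg : IsPGroup p H := IsPGroup.of_card (n := 1) (by rw [hc, pow_one])
        exact isPClosed_of_isPGroup hpg P
      · exfalso
        apply hH
        have := sup_eq_top_of_index_prime hpr hHA
        rwa [sup_eq_left.mpr h] at this
  · intro N hN hNbot
    have hAN : A ≤ N := by
      by_cases hNA : N ≤ A
      · rcases hmin N hN hNA with h | h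
        · exact absurd h hNbot
        · rw [h]
      · rcases inf_eq_bot_or_le hAc hpr hmin N hNA with h | h
        · exact absurd h (hdisj N hN hNA)
        · exact h
    have h1 : N.index ∣ p := by rw [← hidx]; exact Subgroup.index_dvd_of_le hAN
    have hpg : IsPGroup p (G ⧸ N) := by
      rcases (Nat.dvd_prime hp).mp h1 with h | h
      · apply IsPGroup.of_card (n := 0)
        rw [pow_zero, ← h]; rfl
      · apply IsPGroup.of_card (n := 1)
        rw [pow_one, ← h]; rfl
    exact isPClosed_of_isPGroup hpg

end Cfsg.Agent.S3869
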