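import Cfsg.Statements.S3868
import Mathlib
import Cfsg.Agent.Lib.Helper21.IrrCyclic
import Cfsg.Agent.S3869
import Cfsg.Agent.S3824
import Cfsg.Agent.S3986

set_option autoImplicit false
open Cfsg

namespace Cfsg.Agent.S3868

open Cfsg.Agent.Lib.Helper21

section
variable {G : Type*} [Group G] [Finite G] {p : ℕ} [Fact p.Prime]

/-- the Sylow subgroup of a `p`-closed normal subgroup is normal in the whole group -/
theorem sylow_normal_of_le_normal_pclosed (P : Sylow p G) (K : Subgroup G) [K.Normal]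
    (hPK : (P : Subgroup G) ≤ K) (hK : Cfsg.IsPClosed p K) : (P : Subgroup G).Normal := by
  have h1 : ((P.subtype hPK : Sylow p K) : Subgroup K).Normal := hK _
  haveI := (P.subtype hPK).characteristic_of_normal h1
  have h2 : (((P.subtype hPK : Sylow p K) : Subgroup K).map K.subtype).Normal :=
    ConjAct.normal_of_characteristic_of_normal
  rw [Sylow.coe_subtype, Subgroup.subgroupOf_map_subtype, inf_of_le_left hPK] at h2
  exact h2

/-- if `G/M` is `p`-closed then `P ⊔ M` is normal -/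
theorem sup_normal_of_quotient_pclosed (P : Sylow p G) (M : Subgroup G) [M.Normal]
    (hM : Cfsg.IsPClosed p (G ⧸ M)) : ((P : Subgroup G) ⊔ M).Normal := by
  have h1 : ((P.mapSurjective (QuotientGroup.mk'_surjective M) : Sylow p (G ⧸ M)) :
      Subgroup (G ⧸ M)).Normal := hM _
  have e2 : ((P.mapSurjective (QuotientGroup.mk'_surjective M) : Sylow p (G ⧸ M)) :
      Subgroup (G ⧸ M)) = (P : Subgroup G).map (QuotientGroup.mk' M) := rfl
  rw [e2] at h1
  have h3 : (((P : Subgroup G).map (QuotientGroup.mk' M)).comap (QuotientGroup.mk' M)).Normal :=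
    Subgroup.Normal.comap h1 _
  rw [Subgroup.comap_map_eq, QuotientGroup.ker_mk'] at h3
  exact h3

omit [Finite G] in
theorem card_eq_index_of_sup_inf {H A : Subgroup G} [A.Normal] (hsup : H ⊔ A = ⊤) (hbot : H ⊓ A = ⊥) :
    Nat.card H = A.index := by
  have h1 : A.relIndex (H ⊔ A) = A.relIndex H := Subgroup.relIndex_sup_right H A
  rw [hsup, Subgroup.relIndex_top_right] at h1
  rw [h1, ← Subgroup.inf_relIndex_right, inf_comm, hbot, Subgroup.relIndex_bot_left]

omit [Finite G] in
/-- two normal subgroups of a subgroup `H` with coprime orders commute elementwise -/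
theorem commute_of_normal_coprime_in (H A B : Subgroup G) (hA : A ≤ H) (hB : B ≤ H)
    (hAn : H ≤ Subgroup.normalizer (A : Set G)) (hBn : H ≤ Subgroup.normalizer (B : Set G))
    (hdisj : A ⊓ B = ⊥) : ∀ a ∈ A, ∀ b ∈ B, a * b = b * a := by
  intro a ha b hb
  have h1 : (A.subgroupOf H).Normal := (Subgroup.normal_subgroupOf_iff_le_normalizer hA).mpr hAn
  have h2 : (B.subgroupOf H).Normal := (Subgroup.normal_subgroupOf_iff_le_normalizer hB).mpr hBn
  have h3 : Disjoint (A.subgroupOf H) (B.subgroupOf H) := by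
    rw [disjoint_iff, eq_bot_iff]
    intro x hx
    obtain ⟨hxa, hxb⟩ := Subgroup.mem_inf.mp hx
    rw [Subgroup.mem_subgroupOf] at hxa hxb
    have : (x : G) ∈ A ⊓ B := ⟨hxa, hxb⟩
    rw [hdisj, Subgroup.mem_bot] at this
    rw [Subgroup.mem_bot]
    exact Subtype.ext this
  have := Subgroup.commute_of_normal_of_disjoint _ _ h1 h2 h3 ⟨a, hA ha⟩ ⟨b, hB hb⟩
    (Subgroup.mem_subgroupOf.mpr ha) (Subgroup.mem_subgroupOf.mpr hb)
  exact congrArg Subtype.val this.eq

/-- Step A: `P ⊔ N = ⊤`, `N` is a `p'`-group, `P ⊓ N = ⊥`. -/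
theorem stepA (P : Sylow p G) (hP : ¬ (P : Subgroup G).Normal)
    (hsub : ∀ H : Subgroup G, H ≠ ⊤ → Cfsg.IsPClosed p ↥H)
    (hquo : ∀ (N : Subgroup G) [N.Normal], N ≠ ⊥ → Cfsg.IsPClosed p (G ⧸ N))
    (N : Subgroup G) [N.Normal] (hN0 : N ≠ ⊥) (hN1 : N ≠ ⊤)
    (hNmin : ∀ B : Subgroup G, B.Normal → B ≤ N → B = ⊥ ∨ B = N) :
    (P : Subgroup G) ⊔ N = ⊤ ∧ ¬ p ∣ Nat.card N ∧ (P : Subgroup G) ⊓ N = ⊥ := by
  have hsup : (P : Subgroup G) ⊔ N = ⊤ := by
    by_contra hne
    haveI := sup_normal_of_quotient_pclosed P N (hquo N hN0)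
    exact hP (sylow_normal_of_le_normal_pclosed P _ le_sup_left (hsub _ hne))
  have hpN : ¬ p ∣ Nat.card N := by
    intro hdvd
    have Q : Sylow p N := default
    have hQn : (Q : Subgroup N).Normal := hsub N hN1 Q
    haveI := Q.characteristic_of_normal hQn
    have h2 : ((Q : Subgroup N).map N.subtype).Normal := ConjAct.normal_of_characteristic_of_normal
    have hle : (Q : Subgroup N).map N.subtype ≤ N := Subgroup.map_subtype_le _
    rcases hNmin _ h2 hle with h | h
    · have : (Q : Subgroup N) = ⊥ :=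
        (Subgroup.map_eq_bot_iff_of_injective _ N.subtype_injective).mp h
      exact Q.ne_bot_of_dvd_card hdvd this
    · have hNp : IsPGroup p N := by
        have := Q.2.map N.subtype
        rwa [h] at this
      have hPN : IsPGroup p ((P : Subgroup G) ⊔ N : Subgroup G) := P.2.to_sup_of_normal_right hNp
      have := P.3 hPN le_sup_left
      rw [hsup] at this
      apply hP
      rw [← this]
      infer_instance
  refine ⟨hsup, hpN, ?_⟩
  apply Disjoint.eq_bot
  apply Subgroup.disjoint_of_coprime_natCard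
  obtain ⟨k, hk⟩ := IsPGroup.iff_card.mp P.2
  rw [hk]
  exact Nat.Coprime.pow_left _ ((Nat.Prime.coprime_iff_not_dvd Fact.out).mpr hpN)

/-- Step B: every proper subgroup of `P` centralizes `N`. -/
theorem stepB (P : Sylow p G)
    (hsub : ∀ H : Subgroup G, H ≠ ⊤ → Cfsg.IsPClosed p ↥H)
    (N : Subgroup G) [N.Normal]
    (hpN : ¬ p ∣ Nat.card N) (hinf : (P : Subgroup G) ⊓ N = ⊥)
    (P₀ : Subgroup G) (hle : P₀ ≤ P) (hne : P₀ ≠ P) : ∀ a ∈ P₀, ∀ n ∈ N, a * n = n * a := by
  have hH : P₀ ⊔ N ≠ ⊤ := by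
    intro htop
    apply hne
    apply le_antisymm hle
    intro x hx
    have hx' : x ∈ P₀ ⊔ N := by rw [htop]; trivial
    rw [← SetLike.mem_coe, Subgroup.mul_normal] at hx'
    obtain ⟨a, ha, n, hn, rfl⟩ := hx'
    simp only at hx ⊢
    have hn' : n ∈ (P : Subgroup G) ⊓ N := by
      refine ⟨?_, hn⟩
      have : n = a⁻¹ * (a * n) := by group
      rw [this]
      exact (P : Subgroup G).mul_mem ((P : Subgroup G).inv_mem (hle ha)) hx
    rw [hinf, Subgroup.mem_bot] at hn'
    rw [hn', mul_one]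
    exact ha
  have hcl := hsub _ hH
  -- a Sylow `p`-subgroup of `P₀ ⊔ N` containing `P₀`
  have hP₀ : IsPGroup p (P₀.subgroupOf (P₀ ⊔ N)) := by
    have : IsPGroup p P₀ := P.2.to_le hle
    exact this.comap_subtype
  obtain ⟨Q, hQ⟩ := hP₀.exists_le_sylow
  have hQn : (Q : Subgroup ↥(P₀ ⊔ N)).Normal := hcl Q
  have hNn : (N.subgroupOf (P₀ ⊔ N)).Normal := inferInstance
  have hdisj : Disjoint (Q : Subgroup ↥(P₀ ⊔ N)) (N.subgroupOf (P₀ ⊔ N)) := by
    apply Subgroup.disjoint_of_coprime_natCard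
    obtain ⟨k, hk⟩ := IsPGroup.iff_card.mp Q.2
    rw [hk]
    apply Nat.Coprime.pow_left
    rw [Nat.Prime.coprime_iff_not_dvd Fact.out]
    intro hdvd
    apply hpN
    have : Nat.card (N.subgroupOf (P₀ ⊔ N)) = Nat.card N :=
      Nat.card_congr (Subgroup.subgroupOfEquivOfLe le_sup_right).toEquiv
    rwa [this] at hdvd
  intro a ha n hn
  have := Subgroup.commute_of_normal_of_disjoint _ _ hQn hNn hdisj
    ⟨a, (le_sup_left : P₀ ≤ P₀ ⊔ N) ha⟩ ⟨n, (le_sup_right : N ≤ P₀ ⊔ N) hn⟩
    (hQ (Subgroup.mem_subgroupOf.mpr ha)) (Subgroup.mem_subgroupOf.mpr hn)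
  exact congrArg Subtype.val this.eq

/-- Step C: `|P| = p`. -/
theorem stepC (P : Sylow p G) (hP : ¬ (P : Subgroup G).Normal)
    (hsub : ∀ H : Subgroup G, H ≠ ⊤ → Cfsg.IsPClosed p ↥H)
    (hquo : ∀ (N : Subgroup G) [N.Normal], N ≠ ⊥ → Cfsg.IsPClosed p (G ⧸ N))
    (N : Subgroup G) [N.Normal] (hsup : (P : Subgroup G) ⊔ N = ⊤)
    (hpN : ¬ p ∣ Nat.card N) (hinf : (P : Subgroup G) ⊓ N = ⊥) :
    Nat.card (P : Subgroup G) = p := by
  set C : Subgroup G := (P : Subgroup G) ⊓ Subgroup.centralizer (N : Set G) with hC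
  have hCn : C.Normal := by
    rw [← Subgroup.normalizer_eq_top_iff, eq_top_iff, ← hsup, sup_le_iff]
    constructor
    · intro x hx
      apply mem_normalizer_of_conj_mem_finite
      intro c hc
      rw [hC, Subgroup.mem_inf] at hc ⊢
      refine ⟨(P : Subgroup G).mul_mem ((P : Subgroup G).mul_mem hx hc.1) ((P : Subgroup G).inv_mem hx), ?_⟩
      exact (inferInstance : (Subgroup.centralizer (N : Set G)).Normal).conj_mem c hc.2 x
    · intro n hn
      apply mem_normalizer_of_conj_mem_finite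
      intro c hc
      have h1 : n * c = c * n := by
        have : c ∈ Subgroup.centralizer (N : Set G) := hc.2
        rw [Subgroup.mem_centralizer_iff] at this
        exact this n hn
      rw [h1, mul_inv_cancel_right]
      exact hc
  have hC0 : C = ⊥ := by
    by_contra hne
    haveI := hCn
    have := sup_normal_of_quotient_pclosed P C (hquo C hne)
    rw [sup_of_le_left (inf_le_left : C ≤ (P : Subgroup G))] at this
    exact hP this
  have hprop : ∀ P₀ : Subgroup G, P₀ ≤ P → P₀ ≠ P → P₀ = ⊥ := by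
    intro P₀ hle hne
    have h1 := stepB P hsub N hpN hinf P₀ hle hne
    rw [eq_bot_iff, ← hC0]
    intro a ha
    refine ⟨hle ha, ?_⟩
    show a ∈ Subgroup.centralizer (N : Set G)
    rw [Subgroup.mem_centralizer_iff]
    intro n hn
    exact (h1 a ha n hn).symm
  have hPne : (P : Subgroup G) ≠ ⊥ := by
    intro h
    apply hP
    rw [h]; infer_instance
  have hdvd : p ^ 1 ∣ Nat.card (P : Subgroup G) := by
    obtain ⟨k, hk⟩ := IsPGroup.iff_card.mp P.2
    rw [hk]
    apply pow_dvd_pow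
    by_contra hk0
    have : k = 0 := by omega
    rw [this, pow_zero] at hk
    exact hPne (Subgroup.eq_bot_of_card_eq _ hk)
  obtain ⟨K, hK⟩ := Sylow.exists_subgroup_card_pow_prime p hdvd
  have hKcard : Nat.card (K.map (P : Subgroup G).subtype) = p := by
    rw [Subgroup.card_map_of_injective (P : Subgroup G).subtype_injective, hK, pow_one]
  by_cases hKP : K.map (P : Subgroup G).subtype = P
  · rw [← hKP]; exact hKcard
  · exfalso
    have := hprop _ (Subgroup.map_subtype_le K) hKP
    rw [this, Subgroup.card_bot] at hKcard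
    exact (Fact.out : p.Prime).one_lt.ne hKcard

/-- Step D: for `q ≠ p` there is a `P`-invariant Sylow `q`-subgroup, and it lies in `N`. -/
theorem stepD (P : Sylow p G) (N : Subgroup G) [N.Normal] (hsup : (P : Subgroup G) ⊔ N = ⊤)
    (hinf : (P : Subgroup G) ⊓ N = ⊥) (hcardP : Nat.card (P : Subgroup G) = p)
    (hpN : ¬ p ∣ Nat.card N) {q : ℕ} [Fact q.Prime] (hqp : q ≠ p) :
    ∃ Q : Sylow q G, (Q : Subgroup G) ≤ N ∧ (P : Subgroup G) ≤ Subgroup.normalizer ((Q : Subgroup G) : Set G) := by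
  have hp : p.Prime := Fact.out
  have hq : q.Prime := Fact.out
  have hidx : N.index = p := by rw [← card_eq_index_of_sup_inf hsup hinf, hcardP]
  have hall : ∀ Q : Sylow q G, (Q : Subgroup G) ≤ N := by
    intro Q
    rw [← Subgroup.relIndex_eq_one]
    have h1 : N.relIndex Q ∣ p := by rw [← hidx]; exact Subgroup.relIndex_dvd_index_of_normal N Q
    have h2 : N.relIndex Q ∣ Nat.card (Q : Subgroup G) := Subgroup.relIndex_dvd_card N Q
    obtain ⟨k, hk⟩ := IsPGroup.iff_card.mp Q.2
    rw [hk] at h2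
    have hcop : Nat.Coprime p (q ^ k) := Nat.Coprime.pow_right _ ((Nat.coprime_primes hp hq).mpr hqp.symm)
    exact Nat.eq_one_of_dvd_coprimes hcop h1 h2
  have Q₀ : Sylow q G := default
  have hfr : Subgroup.normalizer ((Q₀ : Subgroup G) : Set G) ⊔ N = ⊤ :=
    Sylow.normalizer_sup_eq_top' Q₀ (hall Q₀)
  have hdiv : (Subgroup.normalizer ((Q₀ : Subgroup G) : Set G)).index ∣ Nat.card N := by
    have h1 := Cfsg.Agent.S3824.relIndex_sup_of_normal' (Subgroup.normalizer ((Q₀ : Subgroup G) : Set G)) N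
    rw [hfr, Subgroup.relIndex_top_right] at h1
    rw [h1]
    exact Subgroup.relIndex_dvd_card _ _
  have hnd : ¬ p ∣ Nat.card (Sylow q G) := by
    rw [Sylow.card_eq_index_normalizer Q₀]
    intro h
    exact hpN (h.trans hdiv)
  obtain ⟨Q, hQ⟩ := P.2.nonempty_fixed_point_of_prime_not_dvd_card (Sylow q G) hnd
  refine ⟨Q, hall Q, ?_⟩
  intro x hx
  have := hQ ⟨x, hx⟩
  exact Sylow.smul_eq_iff_mem_normalizer.mp this

/-- Step E: some `P`-invariant Sylow `q`-subgroup `Q ≤ N` satisfies `P ⊔ Q = ⊤`. -/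
theorem stepE (P : Sylow p G) (hP : ¬ (P : Subgroup G).Normal)
    (hsub : ∀ H : Subgroup G, H ≠ ⊤ → Cfsg.IsPClosed p ↥H)
    (N : Subgroup G) [N.Normal] (hsup : (P : Subgroup G) ⊔ N = ⊤)
    (hinf : (P : Subgroup G) ⊓ N = ⊥) (hcardP : Nat.card (P : Subgroup G) = p)
    (hpN : ¬ p ∣ Nat.card N) :
    ∃ (q : ℕ) (_ : Fact q.Prime), q ≠ p ∧ ∃ Q : Sylow q G, (Q : Subgroup G) ≤ N ∧
      (P : Subgroup G) ≤ Subgroup.normalizer ((Q : Subgroup G) : Set G) ∧ (P : Subgroup G) ⊔ Q = ⊤ := by
  have hp : p.Prime := Fact.out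
  by_contra hcon
  push Not at hcon
  apply hP
  have hPab : ∀ a ∈ (P : Subgroup G), ∀ b ∈ (P : Subgroup G), a * b = b * a := by
    intro a ha b hb
    haveI : IsCyclic ↥(P : Subgroup G) := isCyclic_of_prime_card hcardP
    have := (IsCyclic.commGroup (α := ↥(P : Subgroup G))).mul_comm ⟨a, ha⟩ ⟨b, hb⟩
    exact congrArg Subtype.val this
  have hcent : Subgroup.centralizer ((P : Subgroup G) : Set G) = ⊤ := by
    apply Cfsg.Agent.S3986.eq_top_of_sylow_le
    intro r hr
    by_cases hrp : r = p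
    · subst hrp
      refine ⟨P, ?_, P.not_dvd_index⟩
      intro a ha
      rw [Subgroup.mem_centralizer_iff]
      intro b hb
      exact hPab b hb a ha
    · haveI : Fact r.Prime := ⟨hr⟩
      obtain ⟨Q, hQN, hQn⟩ := stepD P N hsup hinf hcardP hpN hrp
      refine ⟨Q, ?_, Q.not_dvd_index⟩
      have hne := hcon r ⟨hr⟩ hrp Q hQN hQn
      have hcl := hsub _ hne
      have h1 : ((P.subtype (le_sup_left : (P : Subgroup G) ≤ (P : Subgroup G) ⊔ Q) :
          Sylow p ↥((P : Subgroup G) ⊔ Q)) : Subgroup ↥((P : Subgroup G) ⊔ Q)).Normal := hcl _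
      rw [Sylow.coe_subtype, Subgroup.normal_subgroupOf_iff_le_normalizer le_sup_left] at h1
      have h2 : (P : Subgroup G) ⊔ Q ≤ Subgroup.normalizer ((Q : Subgroup G) : Set G) :=
        sup_le hQn Subgroup.le_normalizer
      have hdisj : (P : Subgroup G) ⊓ Q = ⊥ := by
        apply Disjoint.eq_bot
        apply Subgroup.disjoint_of_coprime_natCard
        obtain ⟨k, hk⟩ := IsPGroup.iff_card.mp Q.2
        rw [hcardP, hk]
        exact Nat.Coprime.pow_right _ ((Nat.coprime_primes hp hr).mpr (Ne.symm hrp))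
      have h3 := commute_of_normal_coprime_in _ (P : Subgroup G) (Q : Subgroup G) le_sup_left le_sup_right
        h1 h2 hdisj
      intro b hb
      rw [Subgroup.mem_centralizer_iff]
      intro a ha
      exact h3 a ha b hb
  rw [← Subgroup.normalizer_eq_top_iff, eq_top_iff, ← hcent]
  exact Subgroup.centralizer_le_normalizer _

/-- Step F: a minimal normal subgroup which is a `q`-group is elementary abelian. -/
theorem stepF {q : ℕ} [Fact q.Prime] (N : Subgroup G) [N.Normal] (hN0 : N ≠ ⊥)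
    (hNq : IsPGroup q N)
    (hNmin : ∀ B : Subgroup G, B.Normal → B ≤ N → B = ⊥ ∨ B = N) :
    Cfsg.IsElementaryAbelian q N := by
  haveI : Nontrivial ↥N := (Subgroup.nontrivial_iff_ne_bot N).mpr hN0
  have hcomm : ∀ a ∈ N, ∀ b ∈ N, a * b = b * a := by
    have h1 : (⁅N, N⁆ : Subgroup G).Normal := inferInstance
    have h2 : ⁅N, N⁆ ≤ N := Subgroup.commutator_le_left N N
    rcases hNmin _ h1 h2 with h | h
    · rw [Subgroup.commutator_eq_bot_iff_le_centralizer] at h
      intro a ha b hb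
      have := h ha
      rw [Subgroup.mem_centralizer_iff] at this
      exact (this b hb).symm
    · exfalso
      haveI : Group.IsNilpotent ↥N := hNq.isNilpotent
      have h3 : commutator ↥N < ⊤ := Group.IsSolvable.commutator_lt_top_of_nontrivial ↥N
      apply h3.ne
      apply Subgroup.map_injective N.subtype_injective
      rw [Subgroup.map_subtype_commutator, h, ← MonoidHom.range_eq_map, Subgroup.range_subtype]
  have hAc : IsMulCommutative ↥N := ⟨⟨fun a b => Subtype.ext (hcomm a.1 a.2 b.1 b.2)⟩⟩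
  refine ⟨hAc, ?_⟩
  let Ω : Subgroup G :=
    { carrier := {a | a ∈ N ∧ a ^ q = 1}
      mul_mem' := by
        rintro a b ⟨ha, ha'⟩ ⟨hb, hb'⟩
        refine ⟨N.mul_mem ha hb, ?_⟩
        rw [(show Commute a b from hcomm a ha b hb).mul_pow, ha', hb', one_mul]
      one_mem' := ⟨N.one_mem, one_pow q⟩
      inv_mem' := by
        rintro a ⟨ha, ha'⟩
        exact ⟨N.inv_mem ha, by rw [inv_pow, ha', inv_one]⟩ }
  have hΩn : Ω.Normal := by
    constructor
    rintro a ⟨ha, ha'⟩ g
    refine ⟨(inferInstance : N.Normal).conj_mem a ha g, ?_⟩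
    rw [conj_pow, ha']; group
  have hΩle : Ω ≤ N := fun a ha => ha.1
  have hΩ0 : Ω ≠ ⊥ := by
    have hq : q ∣ Nat.card ↥N := by
      obtain ⟨k, hk⟩ := IsPGroup.iff_card.mp hNq
      rw [hk]
      apply dvd_pow_self
      rintro rfl
      rw [pow_zero] at hk
      exact hN0 (Subgroup.eq_bot_of_card_eq _ hk)
    obtain ⟨x, hx⟩ := exists_prime_orderOf_dvd_card' q hq
    intro hbot
    have hxΩ : (x : G) ∈ Ω := by
      refine ⟨x.2, ?_⟩
      have := pow_orderOf_eq_one x
      rw [hx] at this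
      have := congrArg Subtype.val this
      simpa using this
    rw [hbot, Subgroup.mem_bot] at hxΩ
    have hx1 : x = 1 := Subtype.ext hxΩ
    rw [hx1, orderOf_one] at hx
    exact (Fact.out : q.Prime).one_lt.ne hx
  rcases hNmin Ω hΩn hΩle with h | h
  · exact absurd h hΩ0
  · intro a ha
    have : a ∈ Ω := by rw [h]; exact ha
    exact this.2

end

/-- Structure of the non-simple minimal non-p-closed groups. Call a finite group p-closed when its Sylow p-subgroups are normal, and minimal non-p-closed when it is not p-closed but every proper subgroup and every proper quotient is. If such a group G is not simple, then there is a prime q ≠ p such that G has order p · q^e, where e is the multiplicative order of q modulo p, and G has a normal subgroup A of order q^e that is elementary abelian and is a minimal normal subgroup of G (so G is the semidirect product of A by a group of order p acting irreducibly). -/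
theorem result {G : Type*} [Group G] [Finite G] {p : ℕ} [Fact p.Prime]
    (hnc : ¬ Cfsg.IsPClosed p G) (hsub : ∀ H : Subgroup G, H ≠ ⊤ → Cfsg.IsPClosed p ↥H)
    (hquo : ∀ (N : Subgroup G) [N.Normal], N ≠ ⊥ → Cfsg.IsPClosed p (G ⧸ N)) (hns : ¬ IsSimpleGroup G) :
    ∃ q : ℕ, q.Prime ∧ q ≠ p ∧ Nat.card G = p * q ^ orderOf (q : ZMod p) ∧
      ∃ A : Subgroup G, A.Normal ∧ Nat.card ↥A = q ^ orderOf (q : ZMod p) ∧ Cfsg.IsElementaryAbelian q A ∧
        ∀ B : Subgroup G, B.Normal → B ≤ A → B = ⊥ ∨ B = A := by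
  unfold Cfsg.IsPClosed at hnc
  push Not at hnc
  obtain ⟨P, hP⟩ := hnc
  haveI : Nontrivial G := by
    by_contra hnt
    rw [not_nontrivial_iff_subsingleton] at hnt
    apply hP
    have : (P : Subgroup G) = ⊥ := Subsingleton.elim _ _
    rw [this]; infer_instance
  -- a minimal normal subgroup
  have hex : ∃ H : Subgroup G, H.Normal ∧ H ≠ ⊥ ∧ H ≠ ⊤ := by
    by_contra hcon
    push Not at hcon
    apply hns
    refine ⟨fun H hH => ?_⟩
    by_cases h0 : H = ⊥
    · exact Or.inl h0
    · exact Or.inr (hcon H hH h0)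
  obtain ⟨N, hNmin'⟩ := Set.Finite.exists_minimal (Set.toFinite {H : Subgroup G | H.Normal ∧ H ≠ ⊥ ∧ H ≠ ⊤}) hex
  obtain ⟨⟨hNn, hN0, hN1⟩, hNle⟩ := hNmin'
  haveI := hNn
  have hNmin : ∀ B : Subgroup G, B.Normal → B ≤ N → B = ⊥ ∨ B = N := by
    intro B hB hBN
    by_cases hB0 : B = ⊥
    · exact Or.inl hB0
    · right
      apply le_antisymm hBN
      apply hNle ⟨hB, hB0, ?_⟩ hBN
      rintro rfl
      exact hN1 (top_le_iff.mp hBN)
  obtain ⟨hsup, hpN, hinf⟩ := stepA P hP hsub hquo N hN0 hN1 hNmin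
  have hcardP := stepC P hP hsub hquo N hsup hpN hinf
  obtain ⟨q, hqF, hqp, Q, hQN, hQn, hPQ⟩ := stepE P hP hsub N hsup hinf hcardP hpN
  haveI := hqF
  have hQnormal : (Q : Subgroup G).Normal := by
    rw [← Subgroup.normalizer_eq_top_iff, eq_top_iff, ← hPQ]
    exact sup_le hQn Subgroup.le_normalizer
  have hQ0 : (Q : Subgroup G) ≠ ⊥ := by
    intro h
    rw [h, sup_bot_eq] at hPQ
    apply hP
    rw [hPQ]; infer_instance
  have hQeq : (Q : Subgroup G) = N := by
    rcases hNmin _ hQnormal hQN with h | h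
    · exact absurd h hQ0
    · exact h
  have hNq : IsPGroup q N := by
    have := Q.2
    rwa [hQeq] at this
  have hEA := stepF N hN0 hNq hNmin
  have hidx : N.index = p := by rw [← card_eq_index_of_sup_inf hsup hinf, hcardP]
  have hna : ¬ IsMulCommutative G := by
    intro hc
    apply hP
    constructor
    intro n hn g
    have := hc.is_comm.comm g n
    rw [this, mul_inv_cancel_right]
    exact hn
  have hcardN := card_minimal_normal_index_prime hqp N hEA.1 hEA.2 hidx hna hNmin
  refine ⟨q, Fact.out, hqp, ?_, N, hNn, hcardN, hEA, hNmin⟩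
  rw [← Subgroup.index_mul_card N, hidx, hcardN]

end Cfsg.Agent.S3868
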