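import Cfsg.Statements.S3870
import Mathlib
import Cfsg.Agent.Lib.Helper13.PGroup

set_option autoImplicit false
open Cfsg

namespace Cfsg.Agent.S3870

open scoped Pointwise

/-- In a `p`-closed subgroup `N`, there is a `p`-subgroup `T ≤ N` normalized by `N` and
containing every `p`-subgroup of `N`. -/
theorem exists_normal_sylow_of_isPClosed {G : Type*} [Group G] [Finite G] {p : ℕ} [Fact p.Prime]
    (N : Subgroup G) (hN : Cfsg.IsPClosed p ↥N) :
    ∃ T : Subgroup G, IsPGroup p T ∧ T ≤ N ∧ (∀ R : Subgroup G, R ≤ N → IsPGroup p R → R ≤ T) ∧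
      N ≤ Subgroup.normalizer (T : Set G) := by
  obtain ⟨T0⟩ : Nonempty (Sylow p N) := inferInstance
  have hT0n : (T0 : Subgroup N).Normal := hN T0
  refine ⟨(T0 : Subgroup N).map N.subtype, ?_, ?_, ?_, ?_⟩
  · exact T0.2.map _
  · exact Subgroup.map_subtype_le _
  · intro R hRN hR
    have hR' : IsPGroup p (R.subgroupOf N) := hR.comap_subtype
    obtain ⟨T1, hT1⟩ := hR'.exists_le_sylow
    have : T1 = T0 := by
      obtain ⟨g, hg⟩ := MulAction.exists_smul_eq N T0 T1
      rw [← hg]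
      exact Sylow.smul_eq_of_normal
    rw [this] at hT1
    intro x hx
    exact ⟨⟨x, hRN hx⟩, hT1 (by rw [Subgroup.mem_subgroupOf]; exact hx), rfl⟩
  · intro n hn
    rw [Subgroup.mem_normalizer_iff]
    intro x
    constructor
    · rintro ⟨y, hy, rfl⟩
      exact ⟨⟨n, hn⟩ * y * ⟨n, hn⟩⁻¹, hT0n.conj_mem y hy ⟨n, hn⟩, by simp⟩
    · rintro ⟨y, hy, hyx⟩
      have h1 := hT0n.conj_mem y hy ⟨n, hn⟩⁻¹
      refine ⟨⟨n, hn⟩⁻¹ * y * ⟨n, hn⟩⁻¹⁻¹, h1, ?_⟩
      simp only [Subgroup.subtype_apply] at hyx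
      simp [hyx]
      group

theorem normalizer_ne_top {G : Type*} [Group G] [Finite G] [IsSimpleGroup G] {p : ℕ} [Fact p.Prime]
    (hnc : ¬ Cfsg.IsPClosed p G) (R : Subgroup G) (hR : IsPGroup p R) (hR1 : R ≠ ⊥) :
    Subgroup.normalizer (R : Set G) ≠ ⊤ := by
  intro h
  have hn : R.Normal := Subgroup.normalizer_eq_top_iff.mp h
  rcases hn.eq_bot_or_eq_top with h1 | h1
  · exact hR1 h1
  · apply hnc
    intro P
    have : (P : Subgroup G) = ⊤ := by
      have : IsPGroup p (⊤ : Subgroup G) := by rw [← h1]; exact hR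
      exact (P.3 this le_top).symm
    rw [this]; infer_instance

theorem ti {G : Type*} [Group G] [Finite G] [IsSimpleGroup G] {p : ℕ} [Fact p.Prime]
    (hnc : ¬ Cfsg.IsPClosed p G) (hsub : ∀ H : Subgroup G, H ≠ ⊤ → Cfsg.IsPClosed p ↥H) :
    ∀ P Q : Sylow p G, P ≠ Q → (P : Subgroup G) ⊓ (Q : Subgroup G) = ⊥ := by
  by_contra hcon
  push Not at hcon
  let s : Set (Sylow p G × Sylow p G) := {PQ | PQ.1 ≠ PQ.2 ∧ (PQ.1 : Subgroup G) ⊓ (PQ.2 : Subgroup G) ≠ ⊥}
  have hsne : s.Nonempty := by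
    obtain ⟨P, Q, h1, h2⟩ := hcon
    exact ⟨(P, Q), h1, h2⟩
  obtain ⟨⟨P, Q⟩, ⟨hPQ, hD⟩, hmax⟩ := Set.exists_max_image s
    (fun PQ => Nat.card ((PQ.1 : Subgroup G) ⊓ (PQ.2 : Subgroup G) : Subgroup G)) (Set.toFinite s) hsne
  simp only at hPQ hD hmax
  set D : Subgroup G := (P : Subgroup G) ⊓ (Q : Subgroup G) with hDdef
  have hDp : IsPGroup p D := P.2.to_le inf_le_left
  have hNtop := normalizer_ne_top hnc D hDp hD
  obtain ⟨T, hT, hTN, hTall, hTnorm⟩ := exists_normal_sylow_of_isPClosed _ (hsub _ hNtop)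
  obtain ⟨S, hS⟩ := hT.exists_le_sylow
  have key : ∀ P' : Sylow p G, D ≤ P' → D ≠ (P' : Subgroup G) → P' = S := by
    intro P' hDP' hne
    have hlt : D < (P' : Subgroup G) := lt_of_le_of_ne hDP' hne
    have h1 := Cfsg.Agent.Lib.Helper13.lt_inf_normalizer_of_lt (P' : Subgroup G) D P'.2 hlt
    have h2 : (P' : Subgroup G) ⊓ Subgroup.normalizer (D : Set G) ≤ T :=
      hTall _ inf_le_right (P'.2.to_le inf_le_left)
    have h3 : (P' : Subgroup G) ⊓ Subgroup.normalizer (D : Set G) ≤ (P' : Subgroup G) ⊓ (S : Subgroup G) :=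
      le_inf inf_le_left (h2.trans hS)
    have h4 : D < (P' : Subgroup G) ⊓ (S : Subgroup G) := lt_of_lt_of_le h1 h3
    by_contra hne'
    have h5 : ((P' : Subgroup G) ⊓ (S : Subgroup G)) ≠ ⊥ := by
      intro h; rw [h] at h4; exact not_lt_bot h4
    have h6 := hmax (P', S) ⟨hne', h5⟩
    simp only at h6
    have h7 := Cfsg.Agent.Lib.Helper13.card_lt_card_of_lt h4
    omega
  have hDP : D ≠ (P : Subgroup G) := by
    intro h
    have : (P : Subgroup G) ≤ Q := by rw [← h]; exact inf_le_right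
    exact hPQ (Sylow.ext (P.3 Q.2 this)).symm
  have hDQ : D ≠ (Q : Subgroup G) := by
    intro h
    have : (Q : Subgroup G) ≤ P := by rw [← h]; exact inf_le_left
    exact hPQ (Sylow.ext (Q.3 P.2 this))
  exact hPQ ((key P inf_le_left hDP).trans (key Q inf_le_right hDQ).symm)

/-- Let G be a finite simple group whose Sylow p-subgroups are not normal but such that every proper subgroup of G has a normal Sylow p-subgroup. Then any two distinct Sylow p-subgroups of G intersect trivially, and for every Sylow p-subgroup P the normalizer of every non-identity subgroup of P lies in the normalizer of P. -/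
theorem result {G : Type*} [Group G] [Finite G] [IsSimpleGroup G] {p : ℕ} [Fact p.Prime]
    (hnc : ¬ Cfsg.IsPClosed p G) (hsub : ∀ H : Subgroup G, H ≠ ⊤ → Cfsg.IsPClosed p ↥H) :
    (∀ P Q : Sylow p G, P ≠ Q → (P : Subgroup G) ⊓ (Q : Subgroup G) = ⊥) ∧
      ∀ (P : Sylow p G) (R : Subgroup G), R ≤ P → R ≠ ⊥ →
        Subgroup.normalizer (R : Set G) ≤ Subgroup.normalizer ((P : Subgroup G) : Set G) := by
  have hti := ti hnc hsub
  refine ⟨hti, ?_⟩
  intro P R hRP hR1
  have hRp : IsPGroup p R := P.2.to_le hRP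
  have hNtop := normalizer_ne_top hnc R hRp hR1
  obtain ⟨T, hT, hTN, hTall, hTnorm⟩ := exists_normal_sylow_of_isPClosed _ (hsub _ hNtop)
  have hRT : R ≤ T := hTall R Subgroup.le_normalizer hRp
  obtain ⟨S, hS⟩ := hT.exists_le_sylow
  have hSP : S = P := by
    by_contra hne
    have := hti S P hne
    apply hR1
    rw [eq_bot_iff, ← this]
    exact le_inf (hRT.trans hS) hRP
  rw [hSP] at hS
  intro g hg
  have hgT := hTnorm hg
  -- g normalizes T, 1 ≠ T ≤ P, so T ≤ P ∩ P^g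
  by_contra hgP
  have hne : g • P ≠ P := by
    intro h
    exact hgP (Sylow.smul_eq_iff_mem_normalizer.mp h)
  have h1 := hti (g • P) P hne
  apply hR1
  rw [eq_bot_iff, ← h1]
  refine le_inf ?_ hRP
  intro x hx
  rw [Sylow.coe_subgroup_smul, Subgroup.mem_pointwise_smul_iff_inv_smul_mem]
  simp only [MulAut.smul_def, MulAut.conj_inv_apply]
  apply hS
  rw [Subgroup.mem_normalizer_iff] at hgT
  have := (hgT (g⁻¹ * x * g)).mpr (by convert hRT hx using 1; group)
  exact this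

end Cfsg.Agent.S3870
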