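import Cfsg.Statements.S4209
import Cfsg.Agent.Lib.Helper22.HallPetrescu

set_option autoImplicit false
open Cfsg

namespace Cfsg.Agent.S4209

open Cfsg.Agent.Lib.Helper22.HallPetrescu

/-- A finite p-group of nilpotency class less than p is regular. -/
theorem result {G : Type*} [Group G] [Finite G] {p : ℕ} [Fact p.Prime] (hG : IsPGroup p G) (hcl : (⊤ : Subgroup G).lowerCentralSeries (p - 1) = ⊥) : Cfsg.IsRegularPGroup p G := by
  refine ⟨hG, ?_⟩
  intro a b n
  set H : Subgroup G := Subgroup.closure ({a, b} : Set G) with hH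
  have haH : a ∈ H := Subgroup.subset_closure (by simp)
  have hbH : b ∈ H := Subgroup.subset_closure (by simp)
  have hcl' : (⊤ : Subgroup ↥H).lowerCentralSeries (p - 1) = ⊥ := by
    have h1 : ((⊤ : Subgroup ↥H).lowerCentralSeries (p - 1)).map H.subtype =
        H.lowerCentralSeries (p - 1) := Subgroup.top_subtype_lowerCentralSeries H (p - 1)
    have h2 : H.lowerCentralSeries (p - 1) ≤ (⊤ : Subgroup G).lowerCentralSeries (p - 1) :=
      Subgroup.lowerCentralSeries_mono (p - 1) le_top
    rw [hcl, le_bot_iff] at h2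
    rw [h2] at h1
    exact (Subgroup.map_eq_bot_iff_of_injective _ H.subtype_injective).1 h1
  obtain ⟨c', hc', heq⟩ := pow_mul_pow_eq (K := ↥H) p hcl' ⟨a, haH⟩ ⟨b, hbH⟩ n
  refine ⟨(c' : G), ?_, ?_⟩
  · unfold Cfsg.powerClosure
    have hle : Subgroup.closure {y : ↥H | ∃ x ∈ _root_.commutator ↥H, y = x ^ (p ^ n)} ≤
        (Subgroup.closure {y : G | ∃ x ∈ ⁅H, H⁆, y = x ^ (p ^ n)}).comap H.subtype := by
      rw [Subgroup.closure_le]
      rintro y ⟨x, hx, rfl⟩
      show H.subtype (x ^ (p ^ n)) ∈ Subgroup.closure {y : G | ∃ x ∈ ⁅H, H⁆, y = x ^ (p ^ n)}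
      apply Subgroup.subset_closure
      refine ⟨(x : G), ?_, by simp⟩
      rw [← Subgroup.map_subtype_commutator]
      exact Subgroup.mem_map_of_mem _ hx
    exact hle hc'
  · have := congrArg (Subtype.val) heq
    simpa using this

end Cfsg.Agent.S4209
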