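import Cfsg.Statements.S3872
import Mathlib
import Cfsg.Agent.S4209
import Cfsg.Agent.Lib.Helper23.Regular
import Cfsg.Agent.Lib.Helper10.UniqueOrderP
import Cfsg.Agent.Lib.Helper1.Nilpotent
import Cfsg.Agent.Lib.Helper21.FrobTools

set_option autoImplicit false
open Cfsg

namespace Cfsg.Agent.S3872

/-- Say that a finite group is p-exponent closed when its elements of order dividing p form a subgroup. Let G be a finite p-group that is not p-exponent closed, but all of whose proper subgroups and proper quotients are. Then G is generated by two elements, has nilpotency class at least p, has exponent p², has cyclic center, and has order at least p^(p+1). -/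
theorem result {G : Type*} [Group G] [Finite G] {p : ℕ} [Fact p.Prime] (hG : IsPGroup p G)
    (hnc : ¬ (∃ H : Subgroup G, (H : Set G) = {g : G | g ^ p = 1})) (hsub : ∀ K : Subgroup G, K ≠ ⊤ → (∃ H : Subgroup ↥K, (H : Set ↥K) = {g : ↥K | g ^ p = 1}))
    (hquo : ∀ (N : Subgroup G) [N.Normal], N ≠ ⊥ → (∃ H : Subgroup (G ⧸ N), (H : Set (G ⧸ N)) = {g : (G ⧸ N) | g ^ p = 1})) :
    (∃ x y : G, Subgroup.closure ({x, y} : Set G) = ⊤) ∧ (⊤ : Subgroup G).lowerCentralSeries (p - 1) ≠ ⊥ ∧
      Monoid.exponent G = p ^ 2 ∧ IsCyclic ↥(Subgroup.center G) ∧ p ^ (p + 1) ≤ Nat.card G := by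
  have hp : p.Prime := Fact.out
  have hxy : ∃ x y : G, x ^ p = 1 ∧ y ^ p = 1 ∧ (x * y) ^ p ≠ 1 := by
    by_contra hcon
    push Not at hcon
    apply hnc
    refine ⟨{ carrier := {g : G | g ^ p = 1}, mul_mem' := ?_, one_mem' := ?_, inv_mem' := ?_ }, rfl⟩
    · intro a b ha hb; exact hcon a b ha hb
    · exact one_pow p
    · intro a ha
      show a⁻¹ ^ p = 1
      have ha' : a ^ p = 1 := ha
      rw [inv_pow, ha', inv_one]
  obtain ⟨x, y, hx, hy, hxy⟩ := hxy
  have hgen : Subgroup.closure ({x, y} : Set G) = ⊤ := by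
    by_contra hne
    obtain ⟨H, hH⟩ := hsub _ hne
    have hxK : x ∈ Subgroup.closure ({x, y} : Set G) := Subgroup.subset_closure (by simp)
    have hyK : y ∈ Subgroup.closure ({x, y} : Set G) := Subgroup.subset_closure (by simp)
    have hxH : (⟨x, hxK⟩ : ↥(Subgroup.closure ({x, y} : Set G))) ∈ H := by
      have : (⟨x, hxK⟩ : ↥(Subgroup.closure ({x, y} : Set G))) ∈ (H : Set _) := by
        rw [hH]
        show (⟨x, hxK⟩ : ↥(Subgroup.closure ({x, y} : Set G))) ^ p = 1
        apply Subtype.ext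
        simpa using hx
      exact this
    have hyH : (⟨y, hyK⟩ : ↥(Subgroup.closure ({x, y} : Set G))) ∈ H := by
      have : (⟨y, hyK⟩ : ↥(Subgroup.closure ({x, y} : Set G))) ∈ (H : Set _) := by
        rw [hH]
        show (⟨y, hyK⟩ : ↥(Subgroup.closure ({x, y} : Set G))) ^ p = 1
        apply Subtype.ext
        simpa using hy
      exact this
    have hmul : (⟨x, hxK⟩ * ⟨y, hyK⟩ : ↥(Subgroup.closure ({x, y} : Set G))) ∈ (H : Set _) :=
      H.mul_mem hxH hyH
    rw [hH] at hmul
    have h2 : (⟨x, hxK⟩ * ⟨y, hyK⟩ : ↥(Subgroup.closure ({x, y} : Set G))) ^ p = 1 := hmul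
    apply hxy
    have := congrArg Subtype.val h2
    simpa using this
  have hclass : (⊤ : Subgroup G).lowerCentralSeries (p - 1) ≠ ⊥ := by
    intro hcl
    have hreg := Cfsg.Agent.S4209.result hG hcl
    have h := Cfsg.Agent.Lib.Helper23.regular_pow_mul_eq_one hreg 1 (x := x) (y := y)
      (by rw [pow_one]; exact hx) (by rw [pow_one]; exact hy)
    rw [pow_one] at h
    exact hxy h
  have hquot : ∀ (N : Subgroup G) [N.Normal], N ≠ ⊥ → ∀ g : G, g ^ p ∈ N := by
    intro N _ hN g
    obtain ⟨H, hH⟩ := hquo N hN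
    have hxH : (QuotientGroup.mk x : G ⧸ N) ∈ H := by
      have : (QuotientGroup.mk x : G ⧸ N) ∈ (H : Set (G ⧸ N)) := by
        rw [hH]
        show (QuotientGroup.mk x : G ⧸ N) ^ p = 1
        rw [← QuotientGroup.mk_pow, hx]; rfl
      exact this
    have hyH : (QuotientGroup.mk y : G ⧸ N) ∈ H := by
      have : (QuotientGroup.mk y : G ⧸ N) ∈ (H : Set (G ⧸ N)) := by
        rw [hH]
        show (QuotientGroup.mk y : G ⧸ N) ^ p = 1
        rw [← QuotientGroup.mk_pow, hy]; rfl
      exact this
    have htop : H = ⊤ := by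
      rw [eq_top_iff]
      have hle : (⊤ : Subgroup G).map (QuotientGroup.mk' N) ≤ H := by
        rw [← hgen, MonoidHom.map_closure, Subgroup.closure_le]
        rintro _ ⟨z, hz, rfl⟩
        rcases hz with rfl | rfl
        · exact hxH
        · exact hyH
      rw [← MonoidHom.range_eq_map, MonoidHom.range_eq_top.mpr (QuotientGroup.mk'_surjective N)] at hle
      exact hle
    have hg : (QuotientGroup.mk g : G ⧸ N) ∈ (H : Set (G ⧸ N)) := by rw [htop]; trivial
    rw [hH] at hg
    have h2 : (QuotientGroup.mk g : G ⧸ N) ^ p = 1 := hg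
    rw [← QuotientGroup.mk_pow, QuotientGroup.eq_one_iff] at h2
    exact h2
  haveI hnil : Group.IsNilpotent G := hG.isNilpotent
  haveI hnt : Nontrivial G := ⟨⟨x * y, 1, fun h => hxy (by rw [h, one_pow])⟩⟩
  obtain ⟨m, hm⟩ := hG.exists_card_eq
  have hpcard : p ∣ Nat.card G := by
    rcases m with _ | n
    · rw [pow_zero] at hm
      exact absurd hm (Finite.one_lt_card).ne'
    · rw [hm]; exact dvd_pow_self p (Nat.succ_ne_zero n)
  obtain ⟨z, hzc, hzo⟩ := Cfsg.Agent.Lib.Helper21.FrobTools.exists_mem_center_orderOf_eq_prime p hpcard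
  have hcentral : ∀ c ∈ Subgroup.center G, orderOf c = p → ∀ g : G, g ^ p ∈ Subgroup.zpowers c := by
    intro c hcc hco g
    haveI : (Subgroup.zpowers c).Normal := by
      refine ⟨fun n hn g => ?_⟩
      have hnc : n ∈ Subgroup.center G := (Subgroup.zpowers_le.mpr hcc) hn
      have : g * n * g⁻¹ = n := by
        rw [Subgroup.mem_center_iff] at hnc
        rw [hnc g, mul_inv_cancel_right]
      rw [this]; exact hn
    have hc1 : c ≠ 1 := by
      intro h
      rw [h, orderOf_one] at hco
      exact hp.ne_one hco.symm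
    exact hquot (Subgroup.zpowers c) (Subgroup.zpowers_ne_bot.mpr hc1) g
  have hzp : z ^ p = 1 := by rw [← hzo]; exact pow_orderOf_eq_one z
  have hexp2 : ∀ g : G, g ^ (p ^ 2) = 1 := by
    intro g
    obtain ⟨k, hk⟩ := Subgroup.mem_zpowers_iff.mp (hcentral z hzc hzo g)
    have : (g ^ p) ^ p = 1 := by
      rw [← hk, ← zpow_natCast, ← zpow_mul, zpow_mul', zpow_natCast, hzp, one_zpow]
    rw [pow_two, pow_mul]; exact this
  have hexp : Monoid.exponent G = p ^ 2 := by
    have hdvd : Monoid.exponent G ∣ p ^ 2 := Monoid.exponent_dvd_of_forall_pow_eq_one hexp2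
    obtain ⟨k, hk, hk'⟩ := (Nat.dvd_prime_pow hp).mp hdvd
    interval_cases k
    · exfalso; apply hxy
      have := Monoid.pow_exponent_eq_one (x * y)
      rw [hk', pow_zero, pow_one] at this
      rw [this, one_pow]
    · exfalso; apply hxy
      have := Monoid.pow_exponent_eq_one (x * y)
      rw [hk', pow_one] at this
      exact this
    · exact hk'
  have hwp : ((x * y) ^ p) ^ p = 1 := by rw [← pow_mul, ← pow_two]; exact hexp2 _
  have hwo : orderOf ((x * y) ^ p) = p := orderOf_eq_prime hwp hxy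
  have hzw : ∀ c ∈ Subgroup.center G, c ^ p = 1 → c ≠ 1 →
      Subgroup.zpowers c = Subgroup.zpowers ((x * y) ^ p) := by
    intro c hcc hcp hc1
    have hco : orderOf c = p := orderOf_eq_prime hcp hc1
    have hle : Subgroup.zpowers ((x * y) ^ p) ≤ Subgroup.zpowers c :=
      Subgroup.zpowers_le.mpr (hcentral c hcc hco (x * y))
    exact (Subgroup.eq_of_le_of_card_ge hle
      (by rw [Nat.card_zpowers, Nat.card_zpowers, hco, hwo])).symm
  have hcyc : IsCyclic ↥(Subgroup.center G) := by
    apply Cfsg.Agent.Lib.Helper10.isCyclic_of_comm_of_uniqueOrderP (p := p) (hG.to_subgroup _)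
      (fun a b => Subtype.ext (Subgroup.mem_center_iff.mp b.2 (a : G)))
    intro a b ha ha1 hb
    by_cases hb1 : b = 1
    · rw [hb1]; exact one_mem _
    have ha' : (a : G) ^ p = 1 := by
      have := congrArg Subtype.val ha
      simpa using this
    have hb' : (b : G) ^ p = 1 := by
      have := congrArg Subtype.val hb
      simpa using this
    have ha1' : (a : G) ≠ 1 := fun h0 => ha1 (Subtype.ext h0)
    have hb1' : (b : G) ≠ 1 := fun h0 => hb1 (Subtype.ext h0)
    have hmem : (b : G) ∈ Subgroup.zpowers (a : G) := by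
      rw [hzw a a.2 ha' ha1', ← hzw b b.2 hb' hb1']
      exact Subgroup.mem_zpowers _
    obtain ⟨k, hk⟩ := Subgroup.mem_zpowers_iff.mp hmem
    refine Subgroup.mem_zpowers_iff.mpr ⟨k, ?_⟩
    apply Subtype.ext
    rw [Subgroup.coe_zpow]
    exact hk
  have hcard : p ^ (p + 1) ≤ Nat.card G := by
    have h1 := Cfsg.Agent.Lib.Helper1.nilpotencyClass_le_of_card_pow m G hm
    have h2 : ¬ Group.nilpotencyClass G ≤ p - 1 := fun h =>
      hclass (Subgroup.lowerCentralSeries_eq_bot_iff_nilpotencyClass_le.mpr h)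
    have hp2 := hp.two_le
    have : p + 1 ≤ m := by
      rcases le_total 1 (m - 1) with h | h
      · rw [max_eq_right h] at h1; omega
      · rw [max_eq_left h] at h1; omega
    rw [hm]; exact Nat.pow_le_pow_right hp.pos this
  exact ⟨⟨x, y, hgen⟩, hclass, hexp, hcyc, hcard⟩

end Cfsg.Agent.S3872
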