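import Cfsg.Statements.S3873
import Mathlib
import Cfsg.Agent.S3868
import Cfsg.Agent.S3869
import Cfsg.Agent.S3986

set_option autoImplicit false
open Cfsg

namespace Cfsg.Agent.S3873

/-- Say that a finite group is p-exponent closed when its elements of order dividing p form a subgroup. Let G be a finite group that is not p-exponent closed, but all of whose proper subgroups and proper quotients are, and suppose G is neither simple nor a p-group. Then there is a prime q ≠ p such that G has order p · q^e, where e is the multiplicative order of q modulo p, and G has a normal elementary abelian subgroup of order q^e that is a minimal normal subgroup of G. -/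
theorem result {G : Type*} [Group G] [Finite G] {p : ℕ} [Fact p.Prime]
    (hnc : ¬ (∃ H : Subgroup G, (H : Set G) = {g : G | g ^ p = 1})) (hsub : ∀ K : Subgroup G, K ≠ ⊤ → (∃ H : Subgroup ↥K, (H : Set ↥K) = {g : ↥K | g ^ p = 1}))
    (hquo : ∀ (N : Subgroup G) [N.Normal], N ≠ ⊥ → (∃ H : Subgroup (G ⧸ N), (H : Set (G ⧸ N)) = {g : (G ⧸ N) | g ^ p = 1}))
    (hns : ¬ IsSimpleGroup G) (hnp : ¬ IsPGroup p G) :
    ∃ q : ℕ, q.Prime ∧ q ≠ p ∧ Nat.card G = p * q ^ orderOf (q : ZMod p) ∧
      ∃ A : Subgroup G, A.Normal ∧ Nat.card ↥A = q ^ orderOf (q : ZMod p) ∧ Cfsg.IsElementaryAbelian q A ∧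
        ∀ B : Subgroup G, B.Normal → B ≤ A → B = ⊥ ∨ B = A := by
  have hp : p.Prime := Fact.out
  -- Step 1: two elements of order dividing `p` with product not
  have h1 : ∃ a b : G, a ^ p = 1 ∧ b ^ p = 1 ∧ (a * b) ^ p ≠ 1 := by
    by_contra hcon
    push Not at hcon
    apply hnc
    refine ⟨{ carrier := {g : G | g ^ p = 1}
              mul_mem' := fun {a b} ha hb => hcon a b ha hb
              one_mem' := one_pow p
              inv_mem' := fun {a} ha => by
                show (a⁻¹) ^ p = 1
                rw [inv_pow, ha, inv_one] }, rfl⟩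
  obtain ⟨a, b, ha, hb, hab⟩ := h1
  -- Step 2: they generate `G`
  have h2 : Subgroup.closure ({a, b} : Set G) = ⊤ := by
    by_contra hne
    obtain ⟨H, hH⟩ := hsub _ hne
    have haK : a ∈ Subgroup.closure ({a, b} : Set G) := Subgroup.subset_closure (by simp)
    have hbK : b ∈ Subgroup.closure ({a, b} : Set G) := Subgroup.subset_closure (by simp)
    have haH : (⟨a, haK⟩ : Subgroup.closure ({a, b} : Set G)) ∈ H := by
      rw [← SetLike.mem_coe, hH]
      exact Subtype.ext (by simpa using ha)
    have hbH : (⟨b, hbK⟩ : Subgroup.closure ({a, b} : Set G)) ∈ H := by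
      rw [← SetLike.mem_coe, hH]
      exact Subtype.ext (by simpa using hb)
    have := H.mul_mem haH hbH
    rw [← SetLike.mem_coe, hH] at this
    apply hab
    have := congrArg Subtype.val this
    simpa using this
  -- Step 3: proper quotients have exponent `p`
  have h3 : ∀ (N : Subgroup G) [N.Normal], N ≠ ⊥ → ∀ x : G ⧸ N, x ^ p = 1 := by
    intro N _ hN0 x
    obtain ⟨H, hH⟩ := hquo N hN0
    have hHtop : H = ⊤ := by
      rw [eq_top_iff, ← Subgroup.map_top_of_surjective (QuotientGroup.mk' N) (QuotientGroup.mk'_surjective N),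
        ← h2, MonoidHom.map_closure, Subgroup.closure_le]
      rintro _ ⟨y, hy, rfl⟩
      rw [hH]
      show (QuotientGroup.mk' N y) ^ p = 1
      rw [← map_pow]
      rcases hy with rfl | hy
      · rw [ha, map_one]
      · rw [Set.mem_singleton_iff] at hy
        rw [hy, hb, map_one]
    have : x ∈ (H : Set (G ⧸ N)) := by rw [hHtop]; trivial
    rw [hH] at this
    exact this
  -- nontrivial
  haveI : Nontrivial G := by
    by_contra hnt
    rw [not_nontrivial_iff_subsingleton] at hnt
    apply hnp
    intro g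
    exact ⟨0, by rw [pow_zero, pow_one]; exact Subsingleton.elim _ _⟩
  -- a minimal normal subgroup
  have hex : ∃ H : Subgroup G, H.Normal ∧ H ≠ ⊥ ∧ H ≠ ⊤ := by
    by_contra hcon
    push Not at hcon
    apply hns
    refine ⟨fun H hH => ?_⟩
    by_cases h0 : H = ⊥
    · exact Or.inl h0
    · exact Or.inr (hcon H hH h0)
  obtain ⟨N, hNmin'⟩ := Set.Finite.exists_minimal (Set.toFinite {H : Subgroup G | H.Normal ∧ H ≠ ⊥ ∧ H ≠ ⊤}) hex
  obtain ⟨⟨hNn, hN0, hN1⟩, hNle⟩ := hNmin'
  haveI := hNn
  have hNmin : ∀ B : Subgroup G, B.Normal → B ≤ N → B = ⊥ ∨ B = N := by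
    intro B hB hBN
    by_cases hB0 : B = ⊥
    · exact Or.inl hB0
    · right
      apply le_antisymm hBN
      apply hNle ⟨hB, hB0, ?_⟩ hBN
      rintro rfl
      exact hN1 (top_le_iff.mp hBN)
  have hGN : ∀ g : G, g ^ p ∈ N := by
    intro g
    rw [← QuotientGroup.eq_one_iff, QuotientGroup.mk_pow]
    exact h3 N hN0 _
  -- Step 4: `N` has no elements of order `p`
  have h4 : ∀ n ∈ N, n ^ p = 1 → n = 1 := by
    obtain ⟨H, hH⟩ := hsub N hN1
    let Ω : Subgroup G :=
      { carrier := {g | g ∈ N ∧ g ^ p = 1}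
        mul_mem' := by
          rintro x y ⟨hx, hx'⟩ ⟨hy, hy'⟩
          refine ⟨N.mul_mem hx hy, ?_⟩
          have hxH : (⟨x, hx⟩ : N) ∈ H := by
            rw [← SetLike.mem_coe, hH]; exact Subtype.ext (by simpa using hx')
          have hyH : (⟨y, hy⟩ : N) ∈ H := by
            rw [← SetLike.mem_coe, hH]; exact Subtype.ext (by simpa using hy')
          have := H.mul_mem hxH hyH
          rw [← SetLike.mem_coe, hH] at this
          have := congrArg Subtype.val this
          simpa using this
        one_mem' := ⟨N.one_mem, one_pow p⟩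
        inv_mem' := by
          rintro x ⟨hx, hx'⟩
          exact ⟨N.inv_mem hx, by rw [inv_pow, hx', inv_one]⟩ }
    have hΩn : Ω.Normal := by
      constructor
      rintro x ⟨hx, hx'⟩ g
      refine ⟨hNn.conj_mem x hx g, ?_⟩
      rw [conj_pow, hx']; group
    have hΩle : Ω ≤ N := fun x hx => hx.1
    rcases hNmin Ω hΩn hΩle with h | h
    · intro n hn hn'
      have : n ∈ Ω := ⟨hn, hn'⟩
      rw [h, Subgroup.mem_bot] at this
      exact this
    · exfalso
      apply hnp
      intro g
      refine ⟨2, ?_⟩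
      have : g ^ p ∈ Ω := by rw [h]; exact hGN g
      rw [pow_two, pow_mul]
      exact this.2
  -- Step 5: every `p`-element has `x ^ p = 1`
  have h5 : ∀ x : G, (∃ k : ℕ, x ^ p ^ k = 1) → x ^ p = 1 := by
    rintro x ⟨k, hk⟩
    induction k with
    | zero => rw [pow_zero, pow_one] at hk; rw [hk, one_pow]
    | succ k ih =>
      by_cases hk' : x ^ p ^ k = 1
      · exact ih hk'
      · -- then `(x ^ p ^ k) ^ p = 1` with `x ^ p ^ k ∈ N` when `k ≥ 1`
        rcases Nat.eq_zero_or_pos k with rfl | hkpos
        · rw [zero_add, pow_one] at hk; exact hk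
        · exfalso
          apply hk'
          apply h4
          · obtain ⟨j, rfl⟩ : ∃ j, k = j + 1 := ⟨k - 1, by omega⟩
            rw [pow_succ', pow_mul]
            exact N.pow_mem (hGN x) _
          · rw [← pow_mul, ← pow_succ]; exact hk
  -- reduce to the minimal non-`p`-closed theorem
  apply Cfsg.Agent.S3868.result (p := p) _ _ _ hns
  · intro hcl
    apply hnc
    have P : Sylow p G := default
    have hPn := hcl P
    refine ⟨P, ?_⟩
    ext g
    simp only [SetLike.mem_coe, Set.mem_ofPred_eq]
    constructor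
    · intro hg
      obtain ⟨k, hk⟩ := P.2 ⟨g, hg⟩
      apply h5 g ⟨k, ?_⟩
      have := congrArg Subtype.val hk
      simpa using this
    · intro hg
      apply Cfsg.Agent.S3986.mem_normal_sylow P hPn g
      have : orderOf g ∣ p ^ 1 := by rw [pow_one]; exact orderOf_dvd_of_pow_eq_one hg
      obtain ⟨j, _, hj⟩ := (Nat.dvd_prime_pow hp).mp this
      exact ⟨j, hj⟩
  · intro K hK Q
    obtain ⟨H, hH⟩ := hsub K hK
    have hHp : IsPGroup p H := by
      intro h
      refine ⟨1, ?_⟩
      have : (h : K) ∈ (H : Set K) := h.2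
      rw [hH] at this
      rw [pow_one]
      exact Subtype.ext (by simpa using this)
    have hQH : (Q : Subgroup K) ≤ H := by
      intro g hg
      rw [← SetLike.mem_coe, hH]
      obtain ⟨k, hk⟩ := Q.2 ⟨g, hg⟩
      have hk' : (g : G) ^ p ^ k = 1 := by
        have := congrArg Subtype.val (congrArg Subtype.val hk)
        simpa using this
      have := h5 (g : G) ⟨k, hk'⟩
      exact Subtype.ext (by simpa using this)
    have hQeq : H = Q := Q.3 hHp hQH
    rw [← hQeq]
    constructor
    intro h hh k
    rw [← SetLike.mem_coe, hH] at hh ⊢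
    show (k * h * k⁻¹) ^ p = 1
    rw [conj_pow, hh]; group
  · intro M _ hM
    apply Cfsg.Agent.S3869.isPClosed_of_isPGroup
    intro x
    exact ⟨1, by rw [pow_one]; exact h3 M hM x⟩

end Cfsg.Agent.S3873
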