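import Cfsg.Statements.S3881
import Mathlib
import Cfsg.Agent.Lib.Helper21.MetaExists

set_option autoImplicit false
open Cfsg

namespace Cfsg.Agent.S3881

open Cfsg.Agent.Lib.Helper21.Meta

/-- Let p be an odd prime and G a finite metacyclic p-group (G has a cyclic normal subgroup with cyclic quotient). Suppose G is non-abelian with |G'| = p^n. Then for 1 ≤ i ≤ n the number of elements of G whose conjugacy class has exactly p^i elements is |Z(G)| · (p^(2i) − p^(2i−2)). -/
theorem result {G : Type*} [Group G] [Finite G] {p : ℕ} [Fact p.Prime] (hp : p ≠ 2) (hG : IsPGroup p G) (hmc : Cfsg.IsMetacyclic G) (n : ℕ) (hn : n ≠ 0) (hGn : Nat.card ↥(commutator G) = p ^ n) (i : ℕ) (hi : 1 ≤ i) (hin : i ≤ n) :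
    Nat.card {g : G // (Subgroup.centralizer ({g} : Set G)).index = p ^ i} =
      Nat.card ↥(Subgroup.center G) * (p ^ (2 * i) - p ^ (2 * i - 2)) := by
  classical
  have hpp : p.Prime := Fact.out
  obtain ⟨a, b, r, m, ℓ, w, T⟩ := exists_isMC hG hmc
  have hn' : n = m - padicValNat p (r - 1) := by
    rw [T.card_commutator] at hGn
    exact (Nat.pow_right_injective hpp.two_le hGn).symm
  have hnℓ : n ≤ ℓ := hn' ▸ T.n_le_ell hp
  have hnm : n ≤ m := by omega
  have hs1 : n - i ≤ m - padicValNat p (r - 1) := by omega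
  have hs2 : n - i + 1 ≤ m - padicValNat p (r - 1) := by omega
  -- the set in question
  have hset : {g : G | (Subgroup.centralizer ({g} : Set G)).index = p ^ i} =
      (lev a b p (n - i) : Set G) \ (lev a b p (n - i + 1) : Set G) := by
    ext g
    simp only [Set.mem_setOf_eq, Set.mem_diff, SetLike.mem_coe]
    rw [T.mem_lev_iff_index hp hs1, T.mem_lev_iff_index hp hs2, ← hn']
    have e1 : n - (n - i) = i := by omega
    have e2 : n - (n - i + 1) = i - 1 := by omega
    rw [e1, e2]
    constructor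
    · intro h
      rw [h]
      refine ⟨le_rfl, ?_⟩
      have : p ^ (i - 1) < p ^ i := Nat.pow_lt_pow_right hpp.one_lt (by omega)
      omega
    · rintro ⟨h1, h2⟩
      have hdvd : (Subgroup.centralizer ({g} : Set G)).index ∣ p ^ (m + ℓ) := by
        rw [← T.card_eq]; exact Subgroup.index_dvd_card _
      obtain ⟨c, -, hc⟩ := (Nat.dvd_prime_pow hpp).mp hdvd
      rw [hc] at h1 h2 ⊢
      have hci : c ≤ i := (Nat.pow_le_pow_iff_right hpp.one_lt).mp h1
      have hci' : ¬ c ≤ i - 1 := fun h => h2 (Nat.pow_le_pow_right hpp.pos h)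
      have : c = i := by omega
      rw [this]
  have hcard : Nat.card {g : G // (Subgroup.centralizer ({g} : Set G)).index = p ^ i} =
      ({g : G | (Subgroup.centralizer ({g} : Set G)).index = p ^ i}).ncard := rfl
  rw [hcard, hset, Set.ncard_diff (T.lev_anti (Nat.le_succ _)) (Set.toFinite _)]
  have c1 : (lev a b p (n - i) : Set G).ncard = p ^ ((m - (n - i)) + (ℓ - (n - i))) :=
    T.card_lev hp hs1
  have c2 : (lev a b p (n - i + 1) : Set G).ncard = p ^ ((m - (n - i + 1)) + (ℓ - (n - i + 1))) :=
    T.card_lev hp hs2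
  have c3 : Nat.card (Subgroup.center G) = p ^ ((m - n) + (ℓ - n)) := by
    rw [T.center_eq hp, ← hn']
    exact T.card_lev hp (by omega)
  rw [c1, c2, c3, Nat.mul_sub, ← pow_add, ← pow_add]
  congr 2 <;> omega

end Cfsg.Agent.S3881
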