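import Cfsg.Statements.S3883
import Mathlib
import Cfsg.Agent.Lib.Helper21.MetaExists
import Cfsg.Agent.Lib.Helper21.MetaCL
import Cfsg.Agent.Lib.Helper1.Frattini

set_option autoImplicit false
open Cfsg

namespace Cfsg.Agent.S3883

open Cfsg.Agent.Lib.Helper21.Meta Subgroup

/-- Let p be an odd prime and G a finite metacyclic p-group (G has a cyclic normal subgroup with cyclic quotient). Suppose G is non-abelian. Then an element g of G lies outside the Frattini subgroup if and only if its centralizer C_G(g) is abelian. -/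
theorem result {G : Type*} [Group G] [Finite G] {p : ℕ} [Fact p.Prime] (hp : p ≠ 2) (hG : IsPGroup p G) (hmc : Cfsg.IsMetacyclic G) (hna : ¬ IsMulCommutative G) (g : G) :
    g ∉ frattini G ↔ IsMulCommutative ↥(Subgroup.centralizer ({g} : Set G)) := by
  have hpp : p.Prime := Fact.out
  obtain ⟨a, b, r, m, ℓ, w, T⟩ := exists_isMC hG hmc
  have hn1 : 1 ≤ m - padicValNat p (r - 1) := by
    by_contra h0
    have h0' : m - padicValNat p (r - 1) = 0 := by omega
    apply hna
    rw [isMulCommutative_iff_commutator_eq_bot, ← Subgroup.card_eq_one, T.card_commutator, h0',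
      pow_zero]
  have hfr : frattini G = lev a b p 1 := by
    apply le_antisymm
    · apply Cfsg.Agent.Lib.Helper1.frattini_le_of_commutator_le_of_pow_mem (p := p)
      · rw [T.commutator_eq, zpowers_le]
        obtain ⟨c, hc⟩ := T.dvd
        rw [hc]
        exact T.mem_lev.mpr ⟨c, 0, by simp⟩
      · intro x
        rw [← T.agemo_eq hp 1]
        exact subset_closure ⟨x, by rw [pow_one]⟩
    · rw [← T.agemo_eq hp 1, closure_le]
      rintro _ ⟨y, rfl⟩
      rw [pow_one]
      exact Cfsg.Agent.Lib.Helper1.IsPGroup.pow_mem_frattini hG y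
  rw [hfr, T.mem_lev_iff_index hp hn1, T.sub_abelian_iff hp, T.index_commutator]
  have h1 := Subgroup.card_mul_index (centralizer ({g} : Set G))
  have hdvd : (centralizer ({g} : Set G)).index ∣ p ^ (m + ℓ) := by
    rw [← T.card_eq]; exact Subgroup.index_dvd_card _
  obtain ⟨c, hc, hidx⟩ := (Nat.dvd_prime_pow hpp).mp hdvd
  rw [T.card_eq, hidx] at h1
  have hcard : Nat.card (centralizer ({g} : Set G)) = p ^ (m + ℓ - c) := by
    have h2 : p ^ (m + ℓ) = p ^ (m + ℓ - c) * p ^ c := by
      rw [← pow_add]; congr 1; omega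
    rw [h2] at h1
    exact Nat.eq_of_mul_eq_mul_right (pow_pos hpp.pos _) h1
  rw [hidx, hcard, Nat.pow_le_pow_iff_right hpp.one_lt, Nat.pow_le_pow_iff_right hpp.one_lt]
  have := T.n_le_ell hp
  omega

end Cfsg.Agent.S3883
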