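import Cfsg.Statements.S3884
import Mathlib
import Cfsg.Agent.Lib.Helper21.MetaExists

set_option autoImplicit false
open Cfsg

namespace Cfsg.Agent.S3884

open Cfsg.Agent.Lib.Helper21.Meta Subgroup

theorem exists_mul_add_dvd {p : ℕ} (hp : p.Prime) (s σ w' : ℕ) (hσ : ¬ p ∣ σ) :
    ∃ i, p ^ s ∣ i * σ + w' := by
  have hcop : Nat.Coprime σ (p ^ s) :=
    Nat.Coprime.pow_right s ((Nat.Prime.coprime_iff_not_dvd hp).mpr hσ).symm
  haveI : NeZero (p ^ s) := ⟨pow_ne_zero _ hp.ne_zero⟩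
  obtain ⟨u, hu⟩ : ∃ u : (ZMod (p ^ s))ˣ, (u : ZMod (p ^ s)) = (σ : ZMod (p ^ s)) :=
    ⟨ZMod.unitOfCoprime σ hcop, ZMod.coe_unitOfCoprime σ hcop⟩
  refine ⟨((-(w' : ZMod (p ^ s))) * ((u⁻¹ : (ZMod (p ^ s))ˣ) : ZMod (p ^ s))).val, ?_⟩
  rw [← ZMod.natCast_eq_zero_iff]
  push_cast
  rw [ZMod.natCast_zmod_val, ← hu, mul_assoc, Units.inv_mul]
  ring

variable {G : Type*} [Group G] [Finite G] {p : ℕ} [hpf : Fact p.Prime] {a b : G} {r m ℓ w : ℕ}

theorem caseA (T : IsMC p a b r m ℓ w) (i : ℕ)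
    (h : p ^ m ∣ i * ∑ t ∈ Finset.range (p ^ ℓ), (r ^ 1) ^ t + w) :
    ∃ A B : Subgroup G, IsCyclic ↥A ∧ IsCyclic ↥B ∧ A ⊓ B = ⊥ ∧
      Nat.card ↥A * Nat.card ↥B = Nat.card G := by
  have hp : p.Prime := hpf.out
  have hb' : (a ^ i * b ^ 1) ^ p ^ ℓ = 1 := by
    rw [T.pow_formula, one_mul, T.pow_ell, ← pow_add, T.pow_eq_one_iff]; exact h
  have hmem : ∀ x : ℕ, (a ^ i * b ^ 1) ^ x ∈ zpowers a → p ^ ℓ ∣ x := by
    intro x hx
    rw [T.pow_formula, one_mul] at hx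
    have : b ^ x ∈ zpowers a := by
      have := (zpowers a).mul_mem ((zpowers a).inv_mem (pow_mem (mem_zpowers a)
        (i * ∑ t ∈ Finset.range x, (r ^ 1) ^ t))) hx
      simpa using this
    exact (T.mem_iff x).mp this
  refine ⟨zpowers a, zpowers (a ^ i * b ^ 1), inferInstance, inferInstance, ?_, ?_⟩
  · rw [eq_bot_iff]; intro g hg
    obtain ⟨hg1, hg2⟩ := mem_inf.mp hg
    obtain ⟨k, rfl⟩ := mem_zpowers_iff_nat.mp hg2
    obtain ⟨q, rfl⟩ := hmem k hg1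
    rw [pow_mul, hb', one_pow]; exact mem_bot.mpr rfl
  · rw [Nat.card_zpowers, Nat.card_zpowers, T.ord, T.card_eq, pow_add]
    congr 1
    apply Nat.dvd_antisymm
    · exact orderOf_dvd_of_pow_eq_one hb'
    · apply hmem; rw [pow_orderOf_eq_one]; exact one_mem _

theorem caseB (T : IsMC p a b r m ℓ w) (hp2 : p ≠ 2) (c w' : ℕ) (hw : w = p ^ c * w')
    (hw' : ¬ p ∣ w') (hcℓ : c < ℓ) (hcm : c < m) :
    ∃ A B : Subgroup G, IsCyclic ↥A ∧ IsCyclic ↥B ∧ A ⊓ B = ⊥ ∧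
      Nat.card ↥A * Nat.card ↥B = Nat.card G := by
  have hp : p.Prime := hpf.out
  have hwE : ExactPow p c w := ⟨w', hw', hw⟩
  obtain ⟨j, hj⟩ : ∃ j, j = p ^ (ℓ - c) := ⟨_, rfl⟩
  have hE := exactPow_geom_sum (p := p) hp2 (R := r ^ j) (T.one_le_r_pow j)
    (dvd_pow_sub_one T.two_le T.dvd j) (e := p ^ c) (pow_ne_zero _ hp.ne_zero)
  rw [padicValNat.prime_pow] at hE
  obtain ⟨σ, hσ, hS⟩ := hE
  obtain ⟨i, hi⟩ := exists_mul_add_dvd hp (m - c) σ w' hσ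
  have hpi : ¬ p ∣ i := by
    intro hdi
    have h1 : p ∣ i * σ + w' := dvd_trans (dvd_pow_self p (by omega : m - c ≠ 0)) hi
    have h2 : p ∣ i * σ := dvd_mul_of_dvd_left hdi σ
    exact hw' ((Nat.dvd_add_right h2).mp h1)
  have hmc : p ^ m = p ^ c * p ^ (m - c) := by rw [← pow_add]; congr 1; omega
  have ha' : (a ^ i * b ^ j) ^ p ^ c = 1 := by
    rw [T.pow_formula, hS, hj, ← pow_add, (by omega : ℓ - c + c = ℓ), T.pow_ell, ← pow_add,
      T.pow_eq_one_iff, hw]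
    have : i * (p ^ c * σ) + p ^ c * w' = p ^ c * (i * σ + w') := by ring
    rw [this, hmc]; exact Nat.mul_dvd_mul_left _ hi
  have hab : ∀ x : ℕ, a ^ x ∈ zpowers b → p ^ c ∣ x := by
    intro x hx
    obtain ⟨z, hz⟩ := mem_zpowers_iff_nat.mp hx
    have h1 : b ^ z ∈ zpowers a := by rw [hz]; exact pow_mem (mem_zpowers a) x
    obtain ⟨q, rfl⟩ := (T.mem_iff z).mp h1
    rw [pow_mul, T.pow_ell, ← pow_mul] at hz
    have h2 : w * q ≡ x [MOD p ^ m] := by rw [← T.ord]; exact pow_eq_pow_iff_modEq.mp hz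
    have h3 : p ^ c ∣ w * q := dvd_mul_of_dvd_left hwE.pow_dvd q
    exact ((h2.of_dvd (pow_dvd_pow p hcm.le)).dvd_iff dvd_rfl).mp h3
  have hmem : ∀ k : ℕ, (a ^ i * b ^ j) ^ k ∈ zpowers b → p ^ c ∣ k := by
    intro k hk
    rcases Nat.eq_zero_or_pos k with rfl | hk0
    · exact dvd_zero _
    rw [T.pow_formula] at hk
    have h1 : a ^ (i * ∑ t ∈ Finset.range k, (r ^ j) ^ t) ∈ zpowers b := by
      have := (zpowers b).mul_mem hk ((zpowers b).inv_mem (pow_mem (mem_zpowers b) (j * k)))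
      simpa using this
    have h2 := hab _ h1
    have hcop : Nat.Coprime (p ^ c) i :=
      Nat.Coprime.pow_left c ((Nat.Prime.coprime_iff_not_dvd hp).mpr hpi)
    have h3 : p ^ c ∣ ∑ t ∈ Finset.range k, (r ^ j) ^ t := hcop.dvd_of_dvd_mul_left h2
    have hE2 := exactPow_geom_sum (p := p) hp2 (R := r ^ j) (T.one_le_r_pow j)
      (dvd_pow_sub_one T.two_le T.dvd j) (e := k) hk0.ne'
    rw [hE2.pow_dvd_iff hp] at h3
    exact (padicValNat_dvd_iff_le hk0.ne').mpr h3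
  have hordb : orderOf b = p ^ (ℓ + (m - c)) := by
    apply Nat.dvd_antisymm
    · apply orderOf_dvd_of_pow_eq_one
      rw [pow_add, pow_mul, T.pow_ell, ← pow_mul, T.pow_eq_one_iff, hmc, hw]
      exact ⟨w', by ring⟩
    · have h1 : b ^ orderOf b = 1 := pow_orderOf_eq_one b
      have h2 : b ^ orderOf b ∈ zpowers a := by rw [h1]; exact one_mem _
      obtain ⟨q, hq⟩ := (T.mem_iff _).mp h2
      rw [hq, pow_mul, T.pow_ell, ← pow_mul, T.pow_eq_one_iff, mul_comm,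
        hwE.pow_dvd_mul_iff hp] at h1
      rw [hq, pow_add]
      exact Nat.mul_dvd_mul_left _ h1
  refine ⟨zpowers (a ^ i * b ^ j), zpowers b, inferInstance, inferInstance, ?_, ?_⟩
  · rw [eq_bot_iff]; intro g hg
    obtain ⟨hg1, hg2⟩ := mem_inf.mp hg
    obtain ⟨k, rfl⟩ := mem_zpowers_iff_nat.mp hg1
    obtain ⟨q, rfl⟩ := hmem k hg2
    rw [pow_mul, ha', one_pow]; exact mem_bot.mpr rfl
  · have horda : orderOf (a ^ i * b ^ j) = p ^ c := by
      apply Nat.dvd_antisymm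
      · exact orderOf_dvd_of_pow_eq_one ha'
      · apply hmem; rw [pow_orderOf_eq_one]; exact one_mem _
    rw [Nat.card_zpowers, Nat.card_zpowers, horda, hordb, T.card_eq, ← pow_add]
    congr 1
    omega

/-- Let p be an odd prime and G a finite metacyclic p-group (G has a cyclic normal subgroup with cyclic quotient). Then G is the product of two cyclic subgroups with trivial intersection: there are cyclic subgroups A and B with A ∩ B = 1 and |A| · |B| = |G|. -/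
theorem result {G : Type*} [Group G] [Finite G] {p : ℕ} [Fact p.Prime] (hp : p ≠ 2) (hG : IsPGroup p G) (hmc : Cfsg.IsMetacyclic G) : ∃ A B : Subgroup G, IsCyclic ↥A ∧ IsCyclic ↥B ∧ A ⊓ B = ⊥ ∧ Nat.card ↥A * Nat.card ↥B = Nat.card G := by
  obtain ⟨a, b, r, m, ℓ, w, T⟩ := exists_isMC hG hmc
  have hp' : p.Prime := Fact.out
  by_cases h1 : p ^ m ∣ w
  · apply caseA T 0; simpa using h1
  have hw0 : w ≠ 0 := by rintro rfl; exact h1 (dvd_zero _)
  obtain ⟨w', hw', hw⟩ := exactPow_of_ne_zero hp' hw0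
  obtain ⟨c, hc⟩ : ∃ c, c = padicValNat p w := ⟨_, rfl⟩
  rw [← hc] at hw
  have hcm : c < m := by
    by_contra hcm
    push_neg at hcm
    apply h1; rw [hw]; exact dvd_mul_of_dvd_left (pow_dvd_pow p hcm) _
  rcases lt_or_ge c ℓ with hcℓ | hcℓ
  · exact caseB T hp c w' hw hw' hcℓ hcm
  · have hE := exactPow_geom_sum (p := p) hp (R := r ^ 1) (T.one_le_r_pow 1)
      (dvd_pow_sub_one T.two_le T.dvd 1) (e := p ^ ℓ) (pow_ne_zero _ hp'.ne_zero)
    rw [padicValNat.prime_pow] at hE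
    obtain ⟨σ, hσ, hS⟩ := hE
    obtain ⟨i', hi'⟩ := exists_mul_add_dvd hp' (m - c) σ w' hσ
    apply caseA T (p ^ (c - ℓ) * i')
    rw [hS]
    have e1 : p ^ (c - ℓ) * i' * (p ^ ℓ * σ) + w = p ^ c * (i' * σ + w') := by
      have : p ^ c = p ^ (c - ℓ) * p ^ ℓ := by rw [← pow_add]; congr 1; omega
      rw [hw, this]; ring
    rw [e1]
    have : p ^ m = p ^ c * p ^ (m - c) := by rw [← pow_add]; congr 1; omega
    rw [this]; exact Nat.mul_dvd_mul_left _ hi'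

end Cfsg.Agent.S3884
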