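import Cfsg.Statements.S3885
import Mathlib
import Cfsg.Agent.Lib.Helper21.MetaExists
import Cfsg.Agent.Lib.Helper21.MetaCD

set_option autoImplicit false
open Cfsg

namespace Cfsg.Agent.S3885

open Cfsg.Agent.Lib.Helper21.Meta Subgroup

/-- Let p be an odd prime and G a finite metacyclic p-group (G has a cyclic normal subgroup with cyclic quotient). Then every abelian subgroup K of G containing the center of G is the center of its own centralizer: K = Z(C_G(K)). -/
theorem result {G : Type*} [Group G] [Finite G] {p : ℕ} [Fact p.Prime] (hp : p ≠ 2) (hG : IsPGroup p G) (hmc : Cfsg.IsMetacyclic G) (K : Subgroup G) (hK : IsMulCommutative ↥K) (hZ : Subgroup.center G ≤ K) :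
    K = Subgroup.centralizer (K : Set G) ⊓ Subgroup.centralizer (Subgroup.centralizer (K : Set G) : Set G) := by
  obtain ⟨a, b, r, m, ℓ, w, T⟩ := exists_isMC hG hmc
  have h1 := T.measure_eq_of_center_le hG hp K hZ
  have h2 := T.measure_le hp (centralizer (K : Set G))
  have hKCC : K ≤ centralizer ((centralizer (K : Set G) : Subgroup G) : Set G) :=
    le_centralizer_iff.mp le_rfl
  have hKC : K ≤ centralizer (K : Set G) := le_centralizer_self_of_abelian K hK
  rw [← h1, mul_comm] at h2
  have h3 : Nat.card ↥(centralizer ((centralizer (K : Set G) : Subgroup G) : Set G)) ≤ Nat.card K :=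
    Nat.le_of_mul_le_mul_right h2 Nat.card_pos
  have h4 : K = centralizer ((centralizer (K : Set G) : Subgroup G) : Set G) :=
    Subgroup.eq_of_le_of_card_ge hKCC h3
  rw [← h4]
  exact (inf_of_le_right hKC).symm

end Cfsg.Agent.S3885
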