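import Cfsg.Statements.S3886
import Mathlib
import Cfsg.Agent.Lib.Helper21.MetaExists
import Cfsg.Agent.Lib.Helper21.MetaCL

set_option autoImplicit false
open Cfsg

namespace Cfsg.Agent.S3886

open Cfsg.Agent.Lib.Helper21.Meta

/-- Let p be an odd prime and G a finite metacyclic p-group (G has a cyclic normal subgroup with cyclic quotient). Then the largest value of |R| · |Z(R)| over subgroups R of G is |G : G'|², and the subgroups attaining it (the centrally large subgroups) are exactly the non-abelian subgroups together with the maximal abelian subgroups of G. -/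
theorem result {G : Type*} [Group G] [Finite G] {p : ℕ} [Fact p.Prime] (hp : p ≠ 2) (hG : IsPGroup p G) (hmc : Cfsg.IsMetacyclic G) : Cfsg.maxCentralProduct G = (commutator G).index ^ 2 ∧
    ∀ R : Subgroup G, Cfsg.IsCentrallyLarge R ↔ (¬ IsMulCommutative ↥R ∨ Maximal (fun K : Subgroup G => IsMulCommutative ↥K) R) := by
  obtain ⟨a, b, r, m, ℓ, w, T⟩ := exists_isMC hG hmc
  have hmax : Cfsg.maxCentralProduct G = (commutator G).index ^ 2 := by
    unfold Cfsg.maxCentralProduct
    apply IsGreatest.csSup_eq
    constructor
    · exact T.exists_centralProduct_eq hG hp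
    · rintro k ⟨R, rfl⟩
      exact T.centralProduct_le hp R
  refine ⟨hmax, fun R => ?_⟩
  unfold Cfsg.IsCentrallyLarge
  rw [hmax]
  constructor
  · intro h
    by_cases hab : IsMulCommutative R
    · right
      rw [T.maximal_abelian_iff hG hp R]
      rw [T.centralProduct_of_abelian R hab] at h
      exact Nat.pow_left_injective (by norm_num : 2 ≠ 0) h
    · left; exact hab
  · rintro (h | h)
    · exact T.centralProduct_of_not_abelian hp R h
    · have hcard := (T.maximal_abelian_iff hG hp R).mp h
      rw [T.centralProduct_of_abelian R h.1, hcard]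

end Cfsg.Agent.S3886
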