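import Cfsg.Statements.S3887
import Mathlib
import Cfsg.Agent.Lib.Helper21.MetaExists
import Cfsg.Agent.Lib.Helper21.MetaCD

set_option autoImplicit false
open Cfsg

namespace Cfsg.Agent.S3887

open Cfsg.Agent.Lib.Helper21.Meta Subgroup

theorem centralizer_sup_center {G : Type*} [Group G] (R : Subgroup G) :
    centralizer ((R ⊔ center G : Subgroup G) : Set G) = centralizer (R : Set G) := by
  apply le_antisymm
  · exact centralizer_le (show (R : Set G) ⊆ (R ⊔ center G : Subgroup G) from
      (le_sup_left : R ≤ R ⊔ center G))
  · intro z hz
    rw [mem_centralizer_iff]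
    have hsup : R ⊔ center G ≤ centralizer ({z} : Set G) := by
      rw [sup_le_iff]
      constructor
      · intro y hy
        rw [mem_centralizer_singleton_iff]
        exact (mem_centralizer_iff.mp hz) y hy
      · intro y hy
        rw [mem_centralizer_singleton_iff]
        exact ((mem_center_iff.mp hy) z).symm
    intro y hy
    exact mem_centralizer_singleton_iff.mp (hsup hy)

/-- Let p be an odd prime and G a finite metacyclic p-group (G has a cyclic normal subgroup with cyclic quotient). Then a subgroup R of G maximizes |R| · |C_G(R)| over all subgroups of G if and only if R contains the center of G. -/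
theorem result {G : Type*} [Group G] [Finite G] {p : ℕ} [Fact p.Prime] (hp : p ≠ 2) (hG : IsPGroup p G) (hmc : Cfsg.IsMetacyclic G) (R : Subgroup G) : Cfsg.IsCentralizerLarge R ↔ Subgroup.center G ≤ R := by
  obtain ⟨a, b, r, m, ℓ, w, T⟩ := exists_isMC hG hmc
  have hmax : Cfsg.maxCentralizerProduct G = (commutator G).index ^ 2 := by
    unfold Cfsg.maxCentralizerProduct
    apply IsGreatest.csSup_eq
    constructor
    · exact ⟨center G, T.measure_center hp⟩
    · rintro k ⟨R, rfl⟩
      exact T.measure_le hp R
  unfold Cfsg.IsCentralizerLarge
  rw [hmax]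
  constructor
  · intro h
    have h2 := T.measure_le hp (R ⊔ center G)
    rw [centralizer_sup_center, ← h] at h2
    have h3 : Nat.card ↥(R ⊔ center G) ≤ Nat.card R :=
      Nat.le_of_mul_le_mul_right h2 Nat.card_pos
    have h4 : R = R ⊔ center G := Subgroup.eq_of_le_of_card_ge le_sup_left h3
    rw [h4]; exact le_sup_right
  · exact T.measure_eq_of_center_le hG hp R

end Cfsg.Agent.S3887
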