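import Cfsg.Statements.S3889
import Mathlib

set_option autoImplicit false
open Cfsg

namespace Cfsg.Agent.S3889

/-- A finite abelian group that is the union of a family of proper subgroups any two of which intersect trivially is elementary abelian: its exponent is a prime. -/
theorem result {G : Type*} [CommGroup G] [Finite G] (𝓑 : Set (Subgroup G)) (hprop : ∀ B ∈ 𝓑, B ≠ ⊤)
    (hcov : ∀ g : G, ∃ B ∈ 𝓑, g ∈ B) (hdisj : ∀ B ∈ 𝓑, ∀ C ∈ 𝓑, B ≠ C → B ⊓ C = ⊥) :
    (Monoid.exponent G).Prime := by
  -- key: if x ∈ B, x ≠ 1, y ∉ B then y ^ orderOf x = 1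
  have key : ∀ B ∈ 𝓑, ∀ x ∈ B, x ≠ 1 → ∀ y : G, y ∉ B → y ^ orderOf x = 1 := by
    intro B hB x hx hx1 y hy
    by_contra hne
    obtain ⟨C, hC, hyC⟩ := hcov y
    obtain ⟨D, hD, hxyD⟩ := hcov (x * y)
    have hBC : B ≠ C := fun h => hy (h ▸ hyC)
    have hxyB : x * y ∉ B := fun h => hy (by simpa using B.mul_mem (B.inv_mem hx) h)
    have hBD : B ≠ D := fun h => hxyB (h ▸ hxyD)
    have h1 : (x * y) ^ orderOf x = y ^ orderOf x := by
      rw [mul_pow, pow_orderOf_eq_one, one_mul]
    have h2 : y ^ orderOf x ∈ D ⊓ C := by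
      refine ⟨?_, C.pow_mem hyC _⟩
      rw [← h1]; exact D.pow_mem hxyD _
    have hDC : D = C := by
      by_contra hDC
      rw [hdisj D hD C hC hDC, Subgroup.mem_bot] at h2
      exact hne h2
    have hxC : x ∈ C := by
      have := C.mul_mem (hDC ▸ hxyD) (C.inv_mem hyC)
      simpa using this
    have : x ∈ B ⊓ C := ⟨hx, hxC⟩
    rw [hdisj B hB C hC hBC, Subgroup.mem_bot] at this
    exact hx1 this
  -- G is nontrivial
  obtain ⟨B0, hB0, -⟩ := hcov 1
  have hB0top := hprop B0 hB0
  obtain ⟨y0, hy0⟩ : ∃ y : G, y ∉ B0 := by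
    by_contra h
    push Not at h
    exact hB0top (eq_top_iff.mpr fun g _ => h g)
  have hy01 : y0 ≠ 1 := fun h => hy0 (h ▸ B0.one_mem)
  -- all nontrivial elements have the same order
  have hsame : ∀ x y : G, x ≠ 1 → y ≠ 1 → orderOf x = orderOf y := by
    -- first: elements in different components
    have hdiff : ∀ B ∈ 𝓑, ∀ x ∈ B, x ≠ 1 → ∀ y : G, y ∉ B → orderOf x = orderOf y := by
      intro B hB x hx hx1 y hy
      apply Nat.dvd_antisymm
      · obtain ⟨C, hC, hyC⟩ := hcov y
        have hy1 : y ≠ 1 := fun h => hy (h ▸ B.one_mem)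
        have hxC : x ∉ C := by
          intro hxC
          have hBC : B ≠ C := fun h => hy (h ▸ hyC)
          have : x ∈ B ⊓ C := ⟨hx, hxC⟩
          rw [hdisj B hB C hC hBC, Subgroup.mem_bot] at this
          exact hx1 this
        exact orderOf_dvd_of_pow_eq_one (key C hC y hyC hy1 x hxC)
      · exact orderOf_dvd_of_pow_eq_one (key B hB x hx hx1 y hy)
    intro x y hx1 hy1
    obtain ⟨B, hB, hxB⟩ := hcov x
    by_cases hyB : y ∈ B
    · obtain ⟨z, hz⟩ : ∃ z : G, z ∉ B := by
        by_contra h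
        push Not at h
        exact hprop B hB (eq_top_iff.mpr fun g _ => h g)
      rw [hdiff B hB x hxB hx1 z hz, hdiff B hB y hyB hy1 z hz]
    · exact hdiff B hB x hxB hx1 y hyB
  -- the common order n is prime and equals the exponent
  set n := orderOf y0 with hn
  have hnpos : 0 < n := orderOf_pos y0
  have hn1 : n ≠ 1 := fun h => hy01 (orderOf_eq_one_iff.mp h)
  have hprime : n.Prime := by
    rw [Nat.prime_def_minFac]
    refine ⟨by omega, ?_⟩
    -- y0 ^ (n / minFac n) has order minFac n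
    set p := n.minFac with hp
    have hpp : p.Prime := Nat.minFac_prime hn1
    have hpd : p ∣ n := Nat.minFac_dvd n
    have hz : orderOf (y0 ^ (n / p)) = p := by
      rw [orderOf_pow' y0 (by
        intro h
        have := Nat.div_eq_zero_iff.mp h
        rcases this with h | h
        · exact hpp.ne_zero h
        · exact absurd (Nat.le_of_dvd hnpos hpd) (by omega))]
      rw [← hn, Nat.gcd_eq_right (Nat.div_dvd_of_dvd hpd), Nat.div_div_self hpd hnpos.ne']
    have hz1 : y0 ^ (n / p) ≠ 1 := by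
      intro h
      rw [h, orderOf_one] at hz
      exact hpp.one_lt.ne hz
    rw [← hz]
    exact hsame _ _ hz1 hy01
  have hexp : Monoid.exponent G = n := by
    apply Nat.dvd_antisymm
    · apply Monoid.exponent_dvd_of_forall_pow_eq_one
      intro g
      by_cases hg : g = 1
      · rw [hg, one_pow]
      · rw [hn, ← hsame g y0 hg hy01]; exact pow_orderOf_eq_one g
    · rw [hn]; exact Monoid.order_dvd_exponent y0
  rw [hexp]; exact hprime

end Cfsg.Agent.S3889
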