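import Cfsg.Statements.S3890
import Cfsg.Agent.Lib.Helper19.NilCover

set_option autoImplicit false
open Cfsg

namespace Cfsg.Agent.S3890

open Cfsg.Agent.Lib.Helper19 in
/-- A cover of a group is a finite set of proper subgroups whose union is the whole group; it is minimal when no cover has fewer members, and nilpotent when all its members are nilpotent. Let G be a finite group with trivial center admitting a nilpotent minimal cover 𝓐, and let P be an abelian Sylow p-subgroup of G that is not normal. Then either P is elementary abelian of order greater than p, or P is a Sylow p-subgroup of some member A of 𝓐, the normalizer N of P is a maximal subgroup of G, N meets each of its conjugates by elements outside N in a subgroup of order prime to p, and the centralizer of P equals A. -/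
theorem result {G : Type*} [Group G] [Finite G] (hZ : Subgroup.center G = ⊥) (𝓐 : Finset (Subgroup G))
    (h𝓐 : ((∀ A ∈ 𝓐, A ≠ ⊤) ∧ (∀ g : G, ∃ A ∈ 𝓐, g ∈ A)) ∧ (∀ 𝓑 : Finset (Subgroup G), (∀ A ∈ 𝓑, A ≠ ⊤) ∧ (∀ g : G, ∃ A ∈ 𝓑, g ∈ A) → 𝓐.card ≤ 𝓑.card) ∧ (∀ A ∈ 𝓐, Group.IsNilpotent ↥A)) {p : ℕ} [Fact p.Prime] (P : Sylow p G) (hab : IsMulCommutative ↥(P : Subgroup G))
    (hnn : ¬ (P : Subgroup G).Normal) :
    (Cfsg.IsElementaryAbelian p (P : Subgroup G) ∧ p < Nat.card ↥(P : Subgroup G)) ∨
    (∃ A ∈ 𝓐, (P : Subgroup G) ≤ A ∧ ¬ p ∣ ((P : Subgroup G).subgroupOf A).index ∧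
      IsCoatom (Subgroup.normalizer ((P : Subgroup G) : Set G)) ∧
      (∀ g : G, g ∉ Subgroup.normalizer ((P : Subgroup G) : Set G) →
        ¬ p ∣ Nat.card ↥(Subgroup.normalizer ((P : Subgroup G) : Set G) ⊓
          (Subgroup.normalizer ((P : Subgroup G) : Set G)).map (MulAut.conj g).toMonoidHom)) ∧
      Subgroup.centralizer ((P : Subgroup G) : Set G) = A) := by
  obtain ⟨⟨hprop, hcov⟩, hmin, hnil⟩ := h𝓐
  have hc : NilCover.Cov 𝓐 := ⟨hZ, hprop, hcov, hmin, hnil⟩
  by_cases hE : Cfsg.IsElementaryAbelian p (P : Subgroup G) ∧ p < Nat.card ↥(P : Subgroup G)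
  · exact Or.inl hE
  right
  have hH : NilCover.Hyp P := by
    by_cases hel : Cfsg.IsElementaryAbelian p (P : Subgroup G)
    · have hle : Nat.card ↥(P : Subgroup G) ≤ p := by
        by_contra h
        exact hE ⟨hel, by omega⟩
      obtain ⟨n, hn⟩ := IsPGroup.iff_card.mp P.isPGroup'
      have hp := (Fact.out : p.Prime)
      apply NilCover.hyp_of_cyclic P _ hnn
      rcases n with _ | _ | n
      · exfalso
        apply hnn
        have h0 : (P : Subgroup G) = ⊥ := Subgroup.card_eq_one.mp (by rw [hn, pow_zero])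
        rw [h0]
        infer_instance
      · exact isCyclic_of_prime_card (p := p) (by rw [hn]; simp)
      · exfalso
        have h2 := Nat.pow_lt_pow_right hp.one_lt (show 1 < n + 1 + 1 by omega)
        rw [pow_one] at h2
        omega
    · apply NilCover.hyp_of_nonelem P hab _ hnn
      by_contra hcon
      exact hel (And.intro hab (fun a ha => by
        by_contra ha1
        exact hcon ⟨a, ha, ha1⟩))
  obtain ⟨⟨A, hA, hPA, hCA⟩, hcoat, -, hint⟩ := NilCover.main_normalizer hc P hH hnn
  refine ⟨A, hA, hPA, ?_, hcoat, hint, hCA⟩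
  intro hd
  apply P.not_dvd_index
  rw [← Subgroup.relIndex_mul_index hPA]
  exact Dvd.dvd.mul_right hd _

end Cfsg.Agent.S3890
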