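import Cfsg.Statements.S3892
import Cfsg.Agent.Lib.Helper19.NilCover2

set_option autoImplicit false
open Cfsg

namespace Cfsg.Agent.S3892

open Cfsg.Agent.Lib.Helper19 in
/-- A cover of a group is a finite set of proper subgroups whose union is the whole group; it is minimal when no cover has fewer members, and nilpotent when all its members are nilpotent. The alternating groups of degree at least 5 and the symmetric groups of degree at least 4 have no nilpotent minimal cover. -/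
theorem result (n : ℕ) :
    (5 ≤ n → ¬ ∃ 𝓐 : Finset (Subgroup ↥(alternatingGroup (Fin n))), ((∀ A ∈ 𝓐, A ≠ ⊤) ∧ (∀ g : ↥(alternatingGroup (Fin n)), ∃ A ∈ 𝓐, g ∈ A)) ∧ (∀ 𝓑 : Finset (Subgroup ↥(alternatingGroup (Fin n))), (∀ A ∈ 𝓑, A ≠ ⊤) ∧ (∀ g : ↥(alternatingGroup (Fin n)), ∃ A ∈ 𝓑, g ∈ A) → 𝓐.card ≤ 𝓑.card) ∧ (∀ A ∈ 𝓐, Group.IsNilpotent ↥A)) ∧
    (4 ≤ n → ¬ ∃ 𝓐 : Finset (Subgroup (Equiv.Perm (Fin n))), ((∀ A ∈ 𝓐, A ≠ ⊤) ∧ (∀ g : (Equiv.Perm (Fin n)), ∃ A ∈ 𝓐, g ∈ A)) ∧ (∀ 𝓑 : Finset (Subgroup (Equiv.Perm (Fin n))), (∀ A ∈ 𝓑, A ≠ ⊤) ∧ (∀ g : (Equiv.Perm (Fin n)), ∃ A ∈ 𝓑, g ∈ A) → 𝓐.card ≤ 𝓑.card) ∧ (∀ A ∈ 𝓐, Group.IsNilpotent ↥A)) := by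
  constructor
  · intro hn
    rintro ⟨𝓐, ⟨hprop, hcov⟩, hmin, hnil⟩
    have hZ : Subgroup.center ↥(alternatingGroup (Fin n)) = ⊥ :=
      alternatingGroup.center_eq_bot (by
        rw [Nat.card_eq_fintype_card, Fintype.card_fin]; omega)
    have hc : NilCover.Cov 𝓐 := ⟨hZ, hprop, hcov, hmin, hnil⟩
    rcases Nat.lt_or_ge n 6 with h | h
    · have h5 : n = 5 := by omega
      subst h5
      exact NilCover2.no_cover_A5 hc
    · exact NilCover2.no_cover_embedding n h (alternatingGroup (Fin n)).subtype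
        Subtype.val_injective (Subgroup.range_subtype (alternatingGroup (Fin n))).ge hc
  · intro hn
    rintro ⟨𝓐, ⟨hprop, hcov⟩, hmin, hnil⟩
    have hZ : Subgroup.center (Equiv.Perm (Fin n)) = ⊥ :=
      NilCover2.perm_center_eq_bot n (by omega)
    have hc : NilCover.Cov 𝓐 := ⟨hZ, hprop, hcov, hmin, hnil⟩
    rcases Nat.lt_or_ge n 6 with h | h
    · have h45 : n = 4 ∨ n = 5 := by omega
      rcases h45 with h4 | h5
      · subst h4
        exact NilCover2.no_cover_S4 hc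
      · subst h5
        exact NilCover2.no_cover_S5 hc
    · exact NilCover2.no_cover_embedding n h (MonoidHom.id _) Function.injective_id
        (fun x _ => MonoidHom.mem_range.mpr ⟨x, rfl⟩) hc

end Cfsg.Agent.S3892
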