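import Cfsg.Statements.S3895
import Mathlib
import Cfsg.Agent.S0215
import Cfsg.Agent.Lib.Helper13.PNilpotent
import Cfsg.Agent.Lib.Helper13.Sylow

set_option autoImplicit false
open Cfsg

namespace Cfsg.Agent.S3895

open Cfsg Cfsg.Agent.Lib.Helper13

universe u

/-- classes of 2-elements -/
abbrev X2 (G : Type u) [Group G] : Type u :=
  {c : ConjClasses G // ∀ x ∈ c.carrier, ∃ k : ℕ, orderOf x = 2 ^ k}

theorem mk_is2 {G : Type u} [Group G] {a : G} (ha : ∃ k : ℕ, orderOf a = 2 ^ k) :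
    ∀ x ∈ (ConjClasses.mk a).carrier, ∃ k : ℕ, orderOf x = 2 ^ k := by
  intro x hx
  rw [ConjClasses.mem_carrier_iff_mk_eq, ConjClasses.mk_eq_mk_iff_isConj] at hx
  obtain ⟨c, hc⟩ := isConj_iff.mp hx
  obtain ⟨k, hk⟩ := ha
  refine ⟨k, ?_⟩
  rw [← hk, ← hc]
  exact ((MulAut.conj c).orderOf_eq x).symm

theorem map_is2 {G H : Type u} [Group G] [Group H] (f : G →* H) (c : ConjClasses G)
    (hc : ∀ x ∈ c.carrier, ∃ k : ℕ, orderOf x = 2 ^ k) :
    ∀ x ∈ (ConjClasses.map f c).carrier, ∃ k : ℕ, orderOf x = 2 ^ k := by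
  obtain ⟨a, rfl⟩ := ConjClasses.exists_rep c
  obtain ⟨k, hk⟩ := hc a ConjClasses.mem_carrier_mk
  show ∀ x ∈ (ConjClasses.mk (f a)).carrier, _
  apply mk_is2
  have : orderOf (f a) ∣ 2 ^ k := hk ▸ orderOf_map_dvd f a
  obtain ⟨j, _, hj⟩ := (Nat.dvd_prime_pow Nat.prime_two).mp this
  exact ⟨j, hj⟩

theorem eq_one_of_mem_odd {G : Type u} [Group G] [Finite G] (N : Subgroup G) (hN : Odd (Nat.card N))
    {e : G} (he : e ∈ N) {k : ℕ} (hk : e ^ 2 ^ k = 1) : e = 1 := by
  have h1 : orderOf e ∣ 2 ^ k := orderOf_dvd_of_pow_eq_one hk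
  have h2 : orderOf e ∣ Nat.card N := by
    have := orderOf_dvd_natCard (⟨e, he⟩ : N)
    rwa [Subgroup.orderOf_mk] at this
  have h3 : Nat.Coprime (2 ^ k) (Nat.card N) := Nat.Coprime.pow_left k (Nat.coprime_two_left.mpr hN)
  have h4 : orderOf e ∣ Nat.gcd (2 ^ k) (Nat.card N) := Nat.dvd_gcd h1 h2
  rw [h3.gcd_eq_one] at h4
  exact orderOf_eq_one_iff.mp (Nat.dvd_one.mp h4)

/-- two `2`-elements in the same coset of an odd normal subgroup are conjugate -/
theorem conj_of_coset {G : Type u} [Group G] [Finite G] (N : Subgroup G) [hNn : N.Normal]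
    (hN : Odd (Nat.card N)) (y y' : G) (hy : ∃ k : ℕ, orderOf y = 2 ^ k)
    (hy' : ∃ k : ℕ, orderOf y' = 2 ^ k) (h : y⁻¹ * y' ∈ N) : IsConj y' y := by
  obtain ⟨k, hk⟩ := hy
  obtain ⟨k', hk'⟩ := hy'
  set S := Subgroup.zpowers y with hS
  set T := Subgroup.zpowers y' with hT
  set H := N ⊔ S with hH
  have hcS : Nat.card S = 2 ^ k := by rw [hS, Nat.card_zpowers, hk]
  have hcT : Nat.card T = 2 ^ k' := by rw [hT, Nat.card_zpowers, hk']
  have hSp : IsPGroup 2 S := IsPGroup.of_card hcS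
  have hTp : IsPGroup 2 T := IsPGroup.of_card hcT
  have hNH : N ≤ H := le_sup_left
  have hSH : S ≤ H := le_sup_right
  have hyH : y ∈ H := hSH (Subgroup.mem_zpowers y)
  have hy'H : y' ∈ H := by
    have : y' = y * (y⁻¹ * y') := by group
    rw [this]
    exact H.mul_mem hyH (hNH h)
  have hTH : T ≤ H := by
    rw [hT, Subgroup.zpowers_le]; exact hy'H
  have hcop : Nat.Coprime (Nat.card N) (Nat.card S) := by
    rw [hcS]; exact Nat.Coprime.pow_right k (Nat.coprime_two_right.mpr hN)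
  have hrel : S.relIndex H = Nat.card N := by
    have h1 : N.relIndex H = Nat.card S := by
      rw [hH, Subgroup.relIndex_sup_left, ← Subgroup.inf_relIndex_right,
        (Subgroup.disjoint_of_coprime_natCard hcop).eq_bot, Subgroup.relIndex_bot_left]
    have h2 : Nat.card N * N.relIndex H = Nat.card H := by
      have := Subgroup.relIndex_mul_relIndex (⊥ : Subgroup G) N H bot_le hNH
      rwa [Subgroup.relIndex_bot_left, Subgroup.relIndex_bot_left] at this
    have h3 : Nat.card S * S.relIndex H = Nat.card H := by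
      have := Subgroup.relIndex_mul_relIndex (⊥ : Subgroup G) S H bot_le hSH
      rwa [Subgroup.relIndex_bot_left, Subgroup.relIndex_bot_left] at this
    rw [h1] at h2
    have hpos : 0 < Nat.card S := Nat.card_pos
    have : Nat.card S * S.relIndex H = Nat.card S * Nat.card N := by rw [h3, ← h2, mul_comm]
    exact Nat.eq_of_mul_eq_mul_left hpos this
  have hodd : ¬ 2 ∣ S.relIndex H := by
    rw [hrel]; exact hN.not_two_dvd_nat
  obtain ⟨h0, hh0H, hh0⟩ := exists_conj_le_of_relIndex H S T hSp hodd hTH hTp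
  have h1 := hh0 y' (Subgroup.mem_zpowers y')
  obtain ⟨j, hj⟩ := Subgroup.mem_zpowers_iff.mp h1
  -- work mod N
  let π := QuotientGroup.mk' N
  have hπy : π y' = π y := by
    symm
    exact (QuotientGroup.eq).mpr h
  have hHle : H ≤ (Subgroup.zpowers (π y)).comap π := by
    rw [hH]
    apply sup_le
    · intro n hn
      rw [Subgroup.mem_comap]
      have : π n = 1 := (QuotientGroup.eq_one_iff n).mpr hn
      rw [this]; exact Subgroup.one_mem _
    · rw [hS, Subgroup.zpowers_le, Subgroup.mem_comap]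
      exact Subgroup.mem_zpowers _
  obtain ⟨i, hi⟩ := Subgroup.mem_zpowers_iff.mp (Subgroup.mem_comap.mp (hHle hh0H))
  have h2 : π (y ^ j) = π y := by
    rw [hj, map_mul, map_mul, map_inv, hπy, ← hi]
    group
  have h3 : y⁻¹ * y ^ j ∈ N := by
    apply (QuotientGroup.eq).mp
    exact h2.symm
  have h4 : (y⁻¹ * y ^ j) ^ 2 ^ k = 1 := by
    have : y⁻¹ * y ^ j = y ^ (j - 1) := by
      rw [zpow_sub, zpow_one]
      exact (Commute.zpow_self y j).inv_right.eq.symm ▸ rfl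
    rw [this, ← zpow_natCast, ← zpow_mul, mul_comm, zpow_mul, zpow_natCast, ← hk, pow_orderOf_eq_one,
      one_zpow]
  have h5 := eq_one_of_mem_odd N hN h3 h4
  have h6 : y ^ j = y := by
    have := congrArg (fun t => y * t) h5
    simpa using this
  exact isConj_iff.mpr ⟨h0, by rw [← hj, h6]⟩


/-- `N ∪ N z` as a subgroup -/
def Mz {G : Type u} [Group G] (N : Subgroup G) [hNn : N.Normal] (z : G) (hz : z * z = 1) : Subgroup G where
  carrier := {m | m ∈ N ∨ m * z ∈ N}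
  one_mem' := Or.inl N.one_mem
  mul_mem' := by
    intro a b ha hb
    rcases ha with ha | ha <;> rcases hb with hb | hb
    · exact Or.inl (N.mul_mem ha hb)
    · right
      show a * b * z ∈ N
      rw [mul_assoc]; exact N.mul_mem ha hb
    · right
      show a * b * z ∈ N
      have e : a * b * z = (a * z) * (z⁻¹ * b * z) := by group
      rw [e]
      exact N.mul_mem ha (hNn.conj_mem' b hb z)
    · left
      show a * b ∈ N
      have e : a * b = (a * z) * (z⁻¹ * (b * z) * z) := by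
        calc a * b = a * b * (z * z) := by rw [hz, mul_one]
          _ = (a * z) * (z⁻¹ * (b * z) * z) := by group
      rw [e]
      exact N.mul_mem ha (hNn.conj_mem' _ hb z)
  inv_mem' := by
    intro a ha
    have hzi : z⁻¹ = z := inv_eq_of_mul_eq_one_right hz
    rcases ha with ha | ha
    · exact Or.inl (N.inv_mem ha)
    · right
      show a⁻¹ * z ∈ N
      have h1 := hNn.conj_mem _ (N.inv_mem ha) z
      have e : z * (a * z)⁻¹ * z⁻¹ = a⁻¹ * z⁻¹ := by group
      rw [e, hzi] at h1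
      exact h1

theorem mem_Mz {G : Type u} [Group G] (N : Subgroup G) [hNn : N.Normal] (z : G) (hz : z * z = 1) (m : G) :
    m ∈ Mz N z hz ↔ m ∈ N ∨ m * z ∈ N := Iff.rfl

theorem Mz_normal {G : Type u} [Group G] (N : Subgroup G) [hNn : N.Normal] (z : G) (hz : z * z = 1)
    (hzc : ∀ g : G, z * g * z⁻¹ * g⁻¹ ∈ N) : (Mz N z hz).Normal := by
  have hzi : z⁻¹ = z := inv_eq_of_mul_eq_one_right hz
  constructor
  intro n hn g
  rw [mem_Mz] at hn ⊢
  rcases hn with hn | hn
  · exact Or.inl (hNn.conj_mem n hn g)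
  · right
    have h1 : g * z * g⁻¹ * z ∈ N := by
      have := hNn.conj_mem _ (hzc g⁻¹) g
      have e : g * (z * g⁻¹ * z⁻¹ * g⁻¹⁻¹) * g⁻¹ = g * z * g⁻¹ * z⁻¹ := by group
      rw [e, hzi] at this
      exact this
    have e : g * n * g⁻¹ * z = g * (n * z) * g⁻¹ * (g * z⁻¹ * g⁻¹ * z) := by group
    rw [e, hzi]
    exact N.mul_mem (hNn.conj_mem _ hn g) h1

theorem localCentral_lift {G : Type u} [Group G] [Finite G] (N M : Subgroup G) [hNn : N.Normal]
    [hMn : M.Normal] (hN : Odd (Nat.card N)) (z : G) (hM : ∀ m ∈ M, m ∈ N ∨ m * z ∈ N)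
    (hLC : LocalCentral 2 (G ⧸ M)) : LocalCentral 2 G := by
  intro Q hQ g hg hcop
  rw [Subgroup.mem_centralizer_iff]
  intro q hq
  have hpow : ∀ e ∈ Q, ∃ k : ℕ, e ^ 2 ^ k = 1 := by
    intro e he
    obtain ⟨k, hk⟩ := hQ ⟨e, he⟩
    exact ⟨k, by simpa using congrArg Subtype.val hk⟩
  let π := QuotientGroup.mk' M
  have hQ' : IsPGroup 2 (Q.map π) := hQ.map π
  have hg' : π g ∈ Subgroup.normalizer ((Q.map π : Subgroup (G ⧸ M)) : Set (G ⧸ M)) :=
    Subgroup.le_normalizer_map π ⟨g, hg, rfl⟩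
  have hcop' : (orderOf (π g)).Coprime 2 := Nat.Coprime.coprime_dvd_left (orderOf_map_dvd π g) hcop
  have hc := hLC _ hQ' _ hg' hcop'
  rw [Subgroup.mem_centralizer_iff] at hc
  have hcomm : π q * π g = π g * π q := hc (π q) ⟨q, hq, rfl⟩
  have hnorm : ∀ x, x ∈ Q → g * x * g⁻¹ ∈ Q := fun x hx => (Subgroup.mem_normalizer_iff.mp hg x).mp hx
  set d := g * q * g⁻¹ * q⁻¹ with hd
  have hdM : d ∈ M := by
    apply (QuotientGroup.eq_one_iff d).mp
    show π d = 1
    rw [hd, map_mul, map_mul, map_mul, map_inv, map_inv, ← hcomm]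
    group
  have hdQ : d ∈ Q := Q.mul_mem (hnorm q hq) (Q.inv_mem hq)
  set d' := g * d * g⁻¹ with hd'
  have hd'Q : d' ∈ Q := hnorm d hdQ
  have hd'M : d' ∈ M := hMn.conj_mem d hdM g
  have hone : ∀ e ∈ Q, e ∈ N → e = 1 := by
    intro e he heN
    obtain ⟨k, hk⟩ := hpow e he
    exact eq_one_of_mem_odd N hN heN hk
  have hdd : d' = d := by
    rcases hM d hdM with h | h
    · have h1 := hone d hdQ h
      rw [hd', h1]; group
    · rcases hM d' hd'M with h' | h'
      · have h1 := hone d' hd'Q h'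
        have h2 : d = g⁻¹ * d' * g := by rw [hd']; group
        rw [h2, h1]; group
      · have h1 : d⁻¹ * d' ∈ N := by
          have := hNn.conj_mem _ (N.mul_mem (N.inv_mem h) h') z
          have e : z * ((d * z)⁻¹ * (d' * z)) * z⁻¹ = d⁻¹ * d' := by group
          rwa [e] at this
        have h2 := hone _ (Q.mul_mem (Q.inv_mem hdQ) hd'Q) h1
        have := congrArg (fun t => d * t) h2
        simpa using this
  have hgq : g * q * g⁻¹ = d * q := by rw [hd]; group
  have hpw : ∀ j : ℕ, g ^ j * q * (g ^ j)⁻¹ = d ^ j * q := by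
    intro j
    induction j with
    | zero => simp
    | succ j ih =>
      have e : g ^ (j + 1) * q * (g ^ (j + 1))⁻¹ = g * (g ^ j * q * (g ^ j)⁻¹) * g⁻¹ := by
        rw [pow_succ']; group
      rw [e, ih]
      have e2 : g * (d ^ j * q) * g⁻¹ = (g * d * g⁻¹) ^ j * (g * q * g⁻¹) := by
        rw [conj_pow]; group
      rw [e2, ← hd', hdd, hgq, pow_succ, mul_assoc (d ^ j) d q]
  have h1 := hpw (orderOf g)
  rw [pow_orderOf_eq_one] at h1
  have h2 : d ^ orderOf g = 1 := by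
    have : q = d ^ orderOf g * q := by simpa using h1
    have := congrArg (fun t => t * q⁻¹) this
    simpa using this.symm
  obtain ⟨k, hk⟩ := hpow d hdQ
  have h3 : orderOf d ∣ Nat.gcd (orderOf g) (2 ^ k) :=
    Nat.dvd_gcd (orderOf_dvd_of_pow_eq_one h2) (orderOf_dvd_of_pow_eq_one hk)
  have h4 : Nat.Coprime (orderOf g) (2 ^ k) := Nat.Coprime.pow_right k hcop
  rw [h4.gcd_eq_one] at h3
  have h5 : d = 1 := orderOf_eq_one_iff.mp (Nat.dvd_one.mp h3)
  rw [h5, one_mul] at hgq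
  have := congrArg (fun t => t * g) hgq
  simpa using this.symm

theorem sylow_quot_card {G : Type u} [Group G] [Finite G] (M : Subgroup G) [M.Normal]
    (h2 : 2 ∣ Nat.card M) (P : Sylow 2 G) (Pb : Sylow 2 (G ⧸ M)) :
    2 * Nat.card (Pb : Subgroup (G ⧸ M)) ≤ Nat.card (P : Subgroup G) := by
  rw [Sylow.card_eq_multiplicity, Sylow.card_eq_multiplicity]
  have h1 : Nat.card G = Nat.card (G ⧸ M) * Nat.card M := Subgroup.card_eq_card_quotient_mul_card_subgroup M
  rw [h1, Nat.factorization_mul (Nat.card_pos.ne') (Nat.card_pos.ne')]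
  have h3 : 1 ≤ (Nat.card M).factorization 2 :=
    (Nat.Prime.dvd_iff_one_le_factorization Nat.prime_two Nat.card_pos.ne').mp h2
  rw [Finsupp.add_apply]
  calc 2 * 2 ^ (Nat.card (G ⧸ M)).factorization 2 = 2 ^ ((Nat.card (G ⧸ M)).factorization 2 + 1) := by ring
    _ ≤ _ := Nat.pow_le_pow_right (by norm_num) (by omega)


theorem is2_of_isConj {G : Type u} [Group G] {a b : G} (h : IsConj a b) (ha : ∃ k : ℕ, orderOf a = 2 ^ k) :
    ∃ k : ℕ, orderOf b = 2 ^ k := by
  obtain ⟨c, hc⟩ := isConj_iff.mp h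
  obtain ⟨k, hk⟩ := ha
  refine ⟨k, ?_⟩
  rw [← hk, ← hc]
  exact (MulAut.conj c).orderOf_eq a

theorem fiber_aux {G : Type u} [Group G] [Finite G] (N M : Subgroup G) [hNn : N.Normal] [hMn : M.Normal]
    (hN : Odd (Nat.card N)) (z : G) (hM : ∀ m ∈ M, m ∈ N ∨ m * z ∈ N)
    (c₁ c₂ c₃ : X2 G)
    (h12 : ConjClasses.map (QuotientGroup.mk' M) c₁.1 = ConjClasses.map (QuotientGroup.mk' M) c₂.1)
    (h13 : ConjClasses.map (QuotientGroup.mk' M) c₁.1 = ConjClasses.map (QuotientGroup.mk' M) c₃.1) :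
    c₁ = c₂ ∨ c₁ = c₃ ∨ c₂ = c₃ := by
  obtain ⟨a₁, ha₁⟩ := ConjClasses.exists_rep c₁.1
  obtain ⟨a₂, ha₂⟩ := ConjClasses.exists_rep c₂.1
  obtain ⟨a₃, ha₃⟩ := ConjClasses.exists_rep c₃.1
  have o₁ : ∃ k : ℕ, orderOf a₁ = 2 ^ k := c₁.2 a₁ (by rw [← ha₁]; exact ConjClasses.mem_carrier_mk)
  have o₂ : ∃ k : ℕ, orderOf a₂ = 2 ^ k := c₂.2 a₂ (by rw [← ha₂]; exact ConjClasses.mem_carrier_mk)
  have o₃ : ∃ k : ℕ, orderOf a₃ = 2 ^ k := c₃.2 a₃ (by rw [← ha₃]; exact ConjClasses.mem_carrier_mk)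
  have key : ∀ a : G, ConjClasses.map (QuotientGroup.mk' M) (ConjClasses.mk a₁) = ConjClasses.map (QuotientGroup.mk' M) (ConjClasses.mk a) →
      ∃ b, IsConj a b ∧ a₁⁻¹ * b ∈ M := by
    intro a h
    have h' : ConjClasses.mk ((QuotientGroup.mk' M) a₁) = ConjClasses.mk ((QuotientGroup.mk' M) a) := h
    rw [ConjClasses.mk_eq_mk_iff_isConj, isConj_iff] at h'
    obtain ⟨gb, hgb⟩ := h'
    obtain ⟨g, rfl⟩ := QuotientGroup.mk'_surjective M gb
    refine ⟨g⁻¹ * a * g, isConj_iff.mpr ⟨g⁻¹, by group⟩, ?_⟩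
    apply (QuotientGroup.eq).mp
    show (QuotientGroup.mk' M) a₁ = (QuotientGroup.mk' M) (g⁻¹ * a * g)
    rw [map_mul, map_mul, map_inv, ← hgb]; group
  rw [← ha₁, ← ha₂] at h12
  rw [← ha₁, ← ha₃] at h13
  obtain ⟨b₂, hb₂, hb₂M⟩ := key a₂ h12
  obtain ⟨b₃, hb₃, hb₃M⟩ := key a₃ h13
  have ob₂ := is2_of_isConj hb₂ o₂
  have ob₃ := is2_of_isConj hb₃ o₃
  rcases hM _ hb₂M with h2 | h2
  · left
    have := conj_of_coset N hN a₁ b₂ o₁ ob₂ h2
    apply Subtype.ext
    rw [← ha₁, ← ha₂, ConjClasses.mk_eq_mk_iff_isConj]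
    exact (hb₂.trans this).symm
  · rcases hM _ hb₃M with h3 | h3
    · right; left
      have := conj_of_coset N hN a₁ b₃ o₁ ob₃ h3
      apply Subtype.ext
      rw [← ha₁, ← ha₃, ConjClasses.mk_eq_mk_iff_isConj]
      exact (hb₃.trans this).symm
    · right; right
      have h23 : b₂⁻¹ * b₃ ∈ N := by
        have := hNn.conj_mem _ (N.mul_mem (N.inv_mem h2) h3) z
        have e : z * ((a₁⁻¹ * b₂ * z)⁻¹ * (a₁⁻¹ * b₃ * z)) * z⁻¹ = b₂⁻¹ * b₃ := by group
        rwa [e] at this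
      have := conj_of_coset N hN b₂ b₃ ob₂ ob₃ h23
      apply Subtype.ext
      rw [← ha₂, ← ha₃, ConjClasses.mk_eq_mk_iff_isConj]
      exact hb₂.trans (this.symm.trans hb₃.symm)

theorem k2_le {G : Type u} [Group G] [Finite G] (N M : Subgroup G) [hNn : N.Normal] [hMn : M.Normal]
    (hN : Odd (Nat.card N)) (z : G) (hM : ∀ m ∈ M, m ∈ N ∨ m * z ∈ N) :
    Nat.card (X2 G) ≤ 2 * Nat.card (X2 (G ⧸ M)) := by
  classical
  haveI : Fintype (X2 G) := Fintype.ofFinite _
  haveI : Fintype (X2 (G ⧸ M)) := Fintype.ofFinite _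
  let Φ : X2 G → X2 (G ⧸ M) := fun c => ⟨ConjClasses.map (QuotientGroup.mk' M) c.1, map_is2 _ c.1 c.2⟩
  rw [Nat.card_eq_fintype_card, Nat.card_eq_fintype_card]
  have h1 : (Finset.univ : Finset (X2 G)).card ≤ 2 * ((Finset.univ : Finset (X2 G)).image Φ).card := by
    apply Finset.card_le_mul_card_image
    intro b _
    by_contra hcon
    push Not at hcon
    obtain ⟨c₁, c₂, c₃, h1, h2, h3, n12, n13, n23⟩ := Finset.two_lt_card_iff.mp hcon
    simp only [Finset.mem_filter, Finset.mem_univ, true_and] at h1 h2 h3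
    have e12 : (Φ c₁).1 = (Φ c₂).1 := by rw [h1, h2]
    have e13 : (Φ c₁).1 = (Φ c₃).1 := by rw [h1, h3]
    rcases fiber_aux N M hN z hM c₁ c₂ c₃ e12 e13 with h | h | h
    · exact n12 h
    · exact n13 h
    · exact n23 h
  calc Fintype.card (X2 G) = (Finset.univ : Finset (X2 G)).card := Finset.card_univ.symm
    _ ≤ 2 * ((Finset.univ : Finset (X2 G)).image Φ).card := h1
    _ ≤ 2 * Fintype.card (X2 (G ⧸ M)) := Nat.mul_le_mul_left _ (Finset.card_le_univ _)

theorem exists_rep_in_sylow {G : Type u} [Group G] [Finite G] (P : Sylow 2 G) (c : X2 G) :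
    ∃ x, x ∈ (P : Subgroup G) ∧ ConjClasses.mk x = c.1 := by
  obtain ⟨a, ha⟩ := ConjClasses.exists_rep c.1
  obtain ⟨k, hk⟩ := c.2 a (by rw [← ha]; exact ConjClasses.mem_carrier_mk)
  obtain ⟨g, hg⟩ := exists_conj_mem_sylow P a ⟨k, by rw [← hk]; exact pow_orderOf_eq_one a⟩
  refine ⟨g * a * g⁻¹, hg, ?_⟩
  rw [← ha, ConjClasses.mk_eq_mk_iff_isConj]
  exact (isConj_iff.mpr ⟨g, rfl⟩).symm


section Count

open Classical

variable {G : Type u} [Group G] [Fintype G]

/-- the centre of `P`, inside `G` -/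
def ZP (P : Subgroup G) : Subgroup G := P ⊓ Subgroup.centralizer (P : Set G)

theorem mem_ZP {P : Subgroup G} {v : G} : v ∈ ZP P ↔ v ∈ P ∧ ∀ p ∈ P, p * v = v * p := by
  unfold ZP
  rw [Subgroup.mem_inf, Subgroup.mem_centralizer_iff]
  rfl

theorem card_eq_filter (H : Subgroup G) : Nat.card H = (Finset.univ.filter (· ∈ H)).card := by
  rw [Nat.card_eq_fintype_card]
  exact Fintype.card_of_subtype _ (by simp)

theorem exists_conj_ne (P : Subgroup G) {x : G} (hx : x ∈ P) (hxZ : x ∉ ZP P) :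
    ∃ p ∈ P, p * x * p⁻¹ ≠ x := by
  by_contra hcon
  push Not at hcon
  apply hxZ
  rw [mem_ZP]
  refine ⟨hx, fun p hp => ?_⟩
  have := hcon p hp
  calc p * x = p * x * p⁻¹ * p := by group
    _ = x * p := by rw [this]

noncomputable def sg (P : Subgroup G) (x : G) : G :=
  if h : x ∈ P ∧ x ∉ ZP P then
    (exists_conj_ne P h.1 h.2).choose * x * (exists_conj_ne P h.1 h.2).choose⁻¹ else x

theorem sg_spec (P : Subgroup G) {x : G} (hx : x ∈ P) (hxZ : x ∉ ZP P) :
    sg P x ∈ P ∧ sg P x ∉ ZP P ∧ sg P x ≠ x ∧ IsConj x (sg P x) := by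
  have h : x ∈ P ∧ x ∉ ZP P := ⟨hx, hxZ⟩
  obtain ⟨hpP, hpne⟩ := (exists_conj_ne P h.1 h.2).choose_spec
  set p := (exists_conj_ne P h.1 h.2).choose with hp
  have e : sg P x = p * x * p⁻¹ := by unfold sg; rw [dif_pos h]
  rw [e]
  refine ⟨P.mul_mem (P.mul_mem hpP hx) (P.inv_mem hpP), ?_, hpne, isConj_iff.mpr ⟨p, rfl⟩⟩
  intro hZ
  rw [mem_ZP] at hZ
  have := hZ.2 p⁻¹ (P.inv_mem hpP)
  apply hpne
  have h2 : x * p⁻¹ = p * x * p⁻¹ * p⁻¹ := by rw [← this]; group
  exact (mul_right_cancel h2).symm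

theorem count_core (P : Sylow 2 G) (hk : Nat.card (P : Subgroup G) < 2 * Nat.card (X2 G)) :
    ∃ R : Finset G, (∀ x ∈ R, x ∈ (P : Subgroup G)) ∧ (∀ x ∈ R, ∀ y ∈ R, IsConj x y → x = y) ∧
      (Finset.univ.filter (· ∈ ZP (P : Subgroup G))).card +
        (Finset.univ.filter (fun x => x ∈ (P : Subgroup G) ∧ x ∉ ZP (P : Subgroup G) ∧
          ∃ v ∈ ZP (P : Subgroup G), IsConj v x)).card
        < 2 * (R.filter (· ∈ ZP (P : Subgroup G))).card := by
  haveI : Fintype (X2 G) := Fintype.ofFinite _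
  set PP := (P : Subgroup G) with hPP
  set Z := ZP PP with hZ
  have hZP : Z ≤ PP := inf_le_left
  have F1 := exists_rep_in_sylow P
  let rep : X2 G → G := fun c =>
    if h : ∃ x, x ∈ Z ∧ ConjClasses.mk x = c.1 then h.choose else (F1 c).choose
  have R1 : ∀ c, rep c ∈ PP := by
    intro c
    by_cases h : ∃ x, x ∈ Z ∧ ConjClasses.mk x = c.1
    · simp only [rep, dif_pos h]; exact hZP h.choose_spec.1
    · simp only [rep, dif_neg h]; exact (F1 c).choose_spec.1
  have R2 : ∀ c, ConjClasses.mk (rep c) = c.1 := by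
    intro c
    by_cases h : ∃ x, x ∈ Z ∧ ConjClasses.mk x = c.1
    · simp only [rep, dif_pos h]; exact h.choose_spec.2
    · simp only [rep, dif_neg h]; exact (F1 c).choose_spec.2
  have R3 : ∀ c, rep c ∉ Z → ∀ v ∈ Z, ConjClasses.mk v ≠ c.1 := by
    intro c hc v hv hvc
    have h : ∃ x, x ∈ Z ∧ ConjClasses.mk x = c.1 := ⟨v, hv, hvc⟩
    apply hc
    simp only [rep, dif_pos h]; exact h.choose_spec.1
  have hinj : Function.Injective rep := by
    intro c c' h
    apply Subtype.ext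
    rw [← R2 c, ← R2 c', h]
  set R := Finset.univ.image rep with hR
  have hRcard : R.card = Nat.card (X2 G) := by
    rw [hR, Finset.card_image_of_injective _ hinj, Finset.card_univ, Nat.card_eq_fintype_card]
  have hRP : ∀ x ∈ R, x ∈ PP := by
    intro x hx; obtain ⟨c, _, rfl⟩ := Finset.mem_image.mp hx; exact R1 c
  have hRconj : ∀ x ∈ R, ∀ y ∈ R, IsConj x y → x = y := by
    intro x hx y hy hxy
    obtain ⟨c, _, rfl⟩ := Finset.mem_image.mp hx
    obtain ⟨c', _, rfl⟩ := Finset.mem_image.mp hy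
    have : c = c' := by
      apply Subtype.ext
      rw [← R2 c, ← R2 c', ConjClasses.mk_eq_mk_iff_isConj]; exact hxy
    rw [this]
  have hR3 : ∀ x ∈ R, x ∉ Z → ∀ v ∈ Z, ¬ IsConj v x := by
    intro x hx hxZ v hv hvx
    obtain ⟨c, _, rfl⟩ := Finset.mem_image.mp hx
    exact R3 c hxZ v hv (by rw [← R2 c, ConjClasses.mk_eq_mk_iff_isConj]; exact hvx)
  refine ⟨R, hRP, hRconj, ?_⟩
  set Zf := Finset.univ.filter (· ∈ Z) with hZf
  set Bf := Finset.univ.filter (fun x => x ∈ PP ∧ x ∉ Z ∧ ∃ v ∈ Z, IsConj v x) with hBf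
  set Pf := Finset.univ.filter (· ∈ PP) with hPf
  set RZ := R.filter (· ∈ Z) with hRZ
  set RN := R.filter (· ∉ Z) with hRN
  have hsplit : RZ.card + RN.card = R.card := Finset.card_filter_add_card_filter_not _
  have hRNmem : ∀ x ∈ RN, x ∈ R ∧ x ∉ Z := fun x hx => Finset.mem_filter.mp hx
  have hsg : ∀ x ∈ RN, sg PP x ∈ PP ∧ sg PP x ∉ Z ∧ sg PP x ≠ x ∧ IsConj x (sg PP x) :=
    fun x hx => sg_spec PP (hRP x (hRNmem x hx).1) (hRNmem x hx).2
  have hsginj : Set.InjOn (sg PP) RN := by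
    intro x hx y hy hxy
    have h1 := (hsg x hx).2.2.2
    have h2 := (hsg y hy).2.2.2
    rw [hxy] at h1
    exact hRconj x (hRNmem x hx).1 y (hRNmem y hy).1 (h1.trans h2.symm)
  have hcardimg : (RN.image (sg PP)).card = RN.card := Finset.card_image_of_injOn hsginj
  have hd1 : Disjoint Zf Bf := by
    rw [Finset.disjoint_left]; intro a ha hb
    exact (Finset.mem_filter.mp hb).2.2.1 (Finset.mem_filter.mp ha).2
  have hd2 : Disjoint RN (RN.image (sg PP)) := by
    rw [Finset.disjoint_left]; intro a ha hb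
    obtain ⟨x, hx, rfl⟩ := Finset.mem_image.mp hb
    have := hRconj x (hRNmem x hx).1 _ (hRNmem _ ha).1 (hsg x hx).2.2.2
    exact (hsg x hx).2.2.1 this.symm
  have hd3 : Disjoint (Zf ∪ Bf) (RN ∪ RN.image (sg PP)) := by
    rw [Finset.disjoint_left]; intro a ha hb
    rcases Finset.mem_union.mp ha with ha | ha <;> rcases Finset.mem_union.mp hb with hb | hb
    · exact (hRNmem a hb).2 (Finset.mem_filter.mp ha).2
    · obtain ⟨x, hx, rfl⟩ := Finset.mem_image.mp hb
      exact (hsg x hx).2.1 (Finset.mem_filter.mp ha).2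
    · obtain ⟨_, _, _, v, hv, hva⟩ := Finset.mem_filter.mp ha
      exact hR3 a (hRNmem a hb).1 (hRNmem a hb).2 v hv hva
    · obtain ⟨x, hx, rfl⟩ := Finset.mem_image.mp hb
      obtain ⟨_, _, _, v, hv, hva⟩ := Finset.mem_filter.mp ha
      exact hR3 x (hRNmem x hx).1 (hRNmem x hx).2 v hv (hva.trans (hsg x hx).2.2.2.symm)
  have hsub : (Zf ∪ Bf) ∪ (RN ∪ RN.image (sg PP)) ⊆ Pf := by
    intro a ha
    rw [hPf, Finset.mem_filter]; refine ⟨Finset.mem_univ _, ?_⟩
    rcases Finset.mem_union.mp ha with ha | ha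
    · rcases Finset.mem_union.mp ha with ha | ha
      · exact hZP (Finset.mem_filter.mp ha).2
      · exact (Finset.mem_filter.mp ha).2.1
    · rcases Finset.mem_union.mp ha with ha | ha
      · exact hRP a (hRNmem a ha).1
      · obtain ⟨x, hx, rfl⟩ := Finset.mem_image.mp ha; exact (hsg x hx).1
  have hcard := Finset.card_le_card hsub
  rw [Finset.card_union_of_disjoint hd3, Finset.card_union_of_disjoint hd1,
    Finset.card_union_of_disjoint hd2, hcardimg] at hcard
  have hPcard : Pf.card = Nat.card PP := (card_eq_filter PP).symm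
  omega


theorem card_mul_relIndex_of_le {H K : Subgroup G} (h : H ≤ K) : Nat.card H * H.relIndex K = Nat.card K := by
  have := Subgroup.relIndex_mul_relIndex (⊥ : Subgroup G) H K bot_le h
  rwa [Subgroup.relIndex_bot_left, Subgroup.relIndex_bot_left] at this

theorem no_fusion_norm (P : Sylow 2 G) (R : Finset G)
    (hR : ∀ x ∈ R, ∀ y ∈ R, IsConj x y → x = y)
    (n : G) (hn : n ∈ Subgroup.normalizer ((P : Subgroup G) : Set G)) (u₀ : G)
    (hu₀ : u₀ ∈ ZP (P : Subgroup G)) (hne : n * u₀ * n⁻¹ ≠ u₀) :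
    2 * (R.filter (· ∈ ZP (P : Subgroup G))).card ≤
      (Finset.univ.filter (· ∈ ZP (P : Subgroup G))).card := by
  set PP := (P : Subgroup G) with hPP
  set Z := ZP PP with hZ
  have hZP : Z ≤ PP := inf_le_left
  set NN := Subgroup.normalizer (PP : Set G) with hNN
  set m := PP.relIndex NN with hm
  have hmodd : ¬ 2 ∣ m := by
    intro h
    have h1 : m * NN.index = PP.index := Subgroup.relIndex_mul_index Subgroup.le_normalizer
    exact P.not_dvd_index (h1 ▸ Dvd.dvd.mul_right h _)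
  have hnm : n ^ m ∈ PP := by
    haveI : (PP.subgroupOf NN).Normal := Subgroup.normal_in_normalizer
    have h := Subgroup.pow_index_mem (PP.subgroupOf NN) (⟨n, hn⟩ : NN)
    rw [Subgroup.mem_subgroupOf] at h
    have h' : n ^ (PP.subgroupOf NN).index ∈ PP := by simpa using h
    exact h'
  have hn' := Subgroup.mem_normalizer_iff.mp hn
  have a1 : ∀ v ∈ Z, n * v * n⁻¹ ∈ Z := by
    intro v hv
    rw [hZ, mem_ZP] at hv ⊢
    refine ⟨(hn' v).mp hv.1, fun p hp => ?_⟩
    have hp' : n⁻¹ * p * n ∈ PP := by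
      rw [hn' (n⁻¹ * p * n)]
      have : n * (n⁻¹ * p * n) * n⁻¹ = p := by group
      rw [this]; exact hp
    have hc := hv.2 _ hp'
    have e1 : p * (n * v * n⁻¹) = n * ((n⁻¹ * p * n) * v) * n⁻¹ := by group
    have e2 : n * v * n⁻¹ * p = n * (v * (n⁻¹ * p * n)) * n⁻¹ := by group
    rw [e1, e2, hc]
  have hcentP : ∀ v ∈ Z, ∀ p ∈ PP, p * v * p⁻¹ = v := by
    intro v hv p hp
    rw [hZ, mem_ZP] at hv
    rw [hv.2 p hp]; group
  have cinj : ∀ a b : G, n * a * n⁻¹ = n * b * n⁻¹ → a = b := by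
    intro a b h
    exact mul_left_cancel (mul_right_cancel h)
  have a2 : ∀ v ∈ Z, n * (n * v * n⁻¹) * n⁻¹ = v → n * v * n⁻¹ = v := by
    intro v hv h
    have e : n ^ 2 * v * (n ^ 2)⁻¹ = n * (n * v * n⁻¹) * n⁻¹ := by rw [pow_two]; group
    rw [h] at e
    have hC2 : n ^ 2 ∈ Subgroup.centralizer ({v} : Set G) := by
      rw [Subgroup.mem_centralizer_iff]
      intro x hx
      rw [Set.mem_singleton_iff.mp hx]
      calc v * n ^ 2 = (n ^ 2 * v * (n ^ 2)⁻¹) * n ^ 2 := by rw [e]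
        _ = n ^ 2 * v := by group
    have hCm : n ^ m ∈ Subgroup.centralizer ({v} : Set G) := by
      rw [Subgroup.mem_centralizer_iff]
      intro x hx
      rw [Set.mem_singleton_iff.mp hx]
      have e' := hcentP v hv (n ^ m) hnm
      calc v * n ^ m = (n ^ m * v * (n ^ m)⁻¹) * n ^ m := by rw [e']
        _ = n ^ m * v := by group
    obtain ⟨t, ht⟩ : Odd m := Nat.not_even_iff_odd.mp (fun he => hmodd he.two_dvd)
    have e3 : n ^ m = (n ^ 2) ^ t * n := by rw [ht, pow_succ, pow_mul]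
    have e4 : n = ((n ^ 2) ^ t)⁻¹ * n ^ m := by rw [e3]; group
    have hC : n ∈ Subgroup.centralizer ({v} : Set G) := by
      rw [e4]
      exact Subgroup.mul_mem _ (Subgroup.inv_mem _ (Subgroup.pow_mem _ hC2 t)) hCm
    have := (Subgroup.mem_centralizer_iff.mp hC) v (Set.mem_singleton v)
    rw [← this]; group
  set Z0 := Z ⊓ Subgroup.centralizer ({n} : Set G) with hZ0def
  have hle : Z0 ≤ Z := inf_le_left
  have hZ0 : ∀ v, v ∈ Z0 ↔ v ∈ Z ∧ n * v * n⁻¹ = v := by
    intro v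
    rw [hZ0def, Subgroup.mem_inf, Subgroup.mem_centralizer_iff]
    constructor
    · rintro ⟨h1, h2⟩
      refine ⟨h1, ?_⟩
      rw [h2 n (Set.mem_singleton n)]; group
    · rintro ⟨h1, h2⟩
      refine ⟨h1, fun x hx => ?_⟩
      rw [Set.mem_singleton_iff.mp hx]
      calc n * v = (n * v * n⁻¹) * n := by group
        _ = v * n := by rw [h2]
  have a3 : 4 * Nat.card Z0 ≤ Nat.card Z := by
    have hmul : Nat.card Z0 * Z0.relIndex Z = Nat.card Z := card_mul_relIndex_of_le hle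
    obtain ⟨a, ha⟩ := P.isPGroup'.exists_card_eq
    have hj : Z0.relIndex Z ∣ 2 ^ a := by
      rw [← ha]
      exact (Dvd.intro_left _ hmul).trans (Subgroup.card_dvd_of_le hZP)
    obtain ⟨b, _, hb⟩ := (Nat.dvd_prime_pow Nat.prime_two).mp hj
    have hb2 : 2 ≤ b := by
      by_contra hlt
      push Not at hlt
      interval_cases b
      · rw [pow_zero, Subgroup.relIndex_eq_one] at hb
        exact hne ((hZ0 u₀).mp (hb hu₀)).2
      · rw [pow_one] at hb
        have hidx : (Z0.subgroupOf Z).index = 2 := hb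
        have hu1 : n * u₀ * n⁻¹ ∈ Z := a1 u₀ hu₀
        have hu1' : n * u₀ * n⁻¹ ∉ Z0 := by
          intro h
          exact hne (cinj _ _ ((hZ0 _).mp h).2)
        have hu0' : u₀⁻¹ ∉ Z0 := fun h => hne ((hZ0 u₀).mp (by simpa using Z0.inv_mem h)).2
        have hmem := (Subgroup.mul_mem_iff_of_index_two hidx
          (a := (⟨n * u₀ * n⁻¹, hu1⟩ : Z)) (b := (⟨u₀⁻¹, Z.inv_mem hu₀⟩ : Z))).mpr
          (by simp only [Subgroup.mem_subgroupOf]; exact iff_of_false hu1' hu0')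
        rw [Subgroup.mem_subgroupOf] at hmem
        have hc : n * u₀ * n⁻¹ * u₀⁻¹ ∈ Z0 := hmem
        have hcn : n * (n * u₀ * n⁻¹ * u₀⁻¹) * n⁻¹ = n * u₀ * n⁻¹ * u₀⁻¹ := ((hZ0 _).mp hc).2
        obtain ⟨c, hcdef⟩ : ∃ c, c = n * u₀ * n⁻¹ * u₀⁻¹ := ⟨_, rfl⟩
        rw [← hcdef] at hc hcn
        have hcu : n * u₀ * n⁻¹ = c * u₀ := by rw [hcdef]; group
        have hpw : ∀ i : ℕ, n ^ i * u₀ * (n ^ i)⁻¹ = c ^ i * u₀ := by
          intro i
          induction i with
          | zero => simp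
          | succ i ih =>
            have e : n ^ (i + 1) * u₀ * (n ^ (i + 1))⁻¹ = n * (n ^ i * u₀ * (n ^ i)⁻¹) * n⁻¹ := by
              rw [pow_succ']; group
            rw [e, ih]
            have e2 : n * (c ^ i * u₀) * n⁻¹ = (n * c * n⁻¹) ^ i * (n * u₀ * n⁻¹) := by
              rw [conj_pow]; group
            rw [e2, hcn, hcu, pow_succ, mul_assoc (c ^ i) c u₀]
        have h1 := hpw m
        rw [hcentP u₀ hu₀ (n ^ m) hnm] at h1
        have h2 : c ^ m = 1 := by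
          have := congrArg (fun t => t * u₀⁻¹) h1
          simpa using this.symm
        obtain ⟨k, hk⟩ := P.isPGroup' ⟨c, hZP (hle hc)⟩
        have hk' : c ^ 2 ^ k = 1 := by simpa using congrArg Subtype.val hk
        have h3 : orderOf c ∣ Nat.gcd m (2 ^ k) :=
          Nat.dvd_gcd (orderOf_dvd_of_pow_eq_one h2) (orderOf_dvd_of_pow_eq_one hk')
        have h4 : Nat.Coprime m (2 ^ k) := Nat.Coprime.pow_right k
          ((Nat.coprime_two_right).mpr (Nat.not_even_iff_odd.mp (fun he => hmodd he.two_dvd)))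
        rw [h4.gcd_eq_one] at h3
        have h5 : c = 1 := orderOf_eq_one_iff.mp (Nat.dvd_one.mp h3)
        rw [h5, one_mul] at hcu
        exact hne hcu
    calc 4 * Nat.card Z0 = Nat.card Z0 * 2 ^ 2 := by ring
      _ ≤ Nat.card Z0 * 2 ^ b := Nat.mul_le_mul_left _ (Nat.pow_le_pow_right (by norm_num) hb2)
      _ = Nat.card Z := by rw [← hb, hmul]
  set Zf := Finset.univ.filter (· ∈ Z) with hZf
  set Z0f := Finset.univ.filter (· ∈ Z0) with hZ0f
  set D := Finset.univ.filter (fun x => x ∈ Z ∧ x ∉ Z0) with hD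
  have hZfcard : Zf.card = Z0f.card + D.card := by
    have h1 := Finset.card_filter_add_card_filter_not (s := Zf) (· ∈ Z0)
    have e1 : Zf.filter (· ∈ Z0) = Z0f := by
      ext x; simp only [hZf, hZ0f, Finset.mem_filter, Finset.mem_univ, true_and]
      exact ⟨fun h => h.2, fun h => ⟨hle h, h⟩⟩
    have e2 : Zf.filter (fun x => ¬ x ∈ Z0) = D := by
      ext x; simp only [hZf, hD, Finset.mem_filter, Finset.mem_univ, true_and]
    rw [e1, e2] at h1; exact h1.symm
  set RZ := R.filter (· ∈ Z) with hRZ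
  set R1 := RZ.filter (· ∉ Z0) with hR1
  have hRZcard : RZ.card ≤ Z0f.card + R1.card := by
    have h1 := Finset.card_filter_add_card_filter_not (s := RZ) (· ∈ Z0)
    rw [← hR1] at h1
    have : (RZ.filter (· ∈ Z0)).card ≤ Z0f.card := Finset.card_le_card (by
      intro x hx; rw [hZ0f, Finset.mem_filter]; exact ⟨Finset.mem_univ _, (Finset.mem_filter.mp hx).2⟩)
    omega
  have hR1mem : ∀ x ∈ R1, x ∈ R ∧ x ∈ Z ∧ x ∉ Z0 := by
    intro x hx
    obtain ⟨h1, h2⟩ := Finset.mem_filter.mp hx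
    obtain ⟨h3, h4⟩ := Finset.mem_filter.mp h1
    exact ⟨h3, h4, h2⟩
  let α : G → G := fun v => n * v * n⁻¹
  have αinj : Function.Injective α := fun a b h => cinj a b h
  have hαD : ∀ x, x ∈ Z → x ∉ Z0 → (α x ∈ Z ∧ α x ∉ Z0) := by
    intro x hx hx0
    refine ⟨a1 x hx, fun h => hx0 ?_⟩
    have := ((hZ0 _).mp h).2
    rw [hZ0]; exact ⟨hx, cinj _ _ this⟩
  have hnot : ∀ x, x ∈ Z → x ∉ Z0 → α x ≠ x := fun x hx hx0 h => hx0 ((hZ0 x).mpr ⟨hx, h⟩)
  have hconj1 : ∀ x, IsConj x (α x) := fun x => isConj_iff.mpr ⟨n, rfl⟩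
  have hc1 : (R1.image α).card = R1.card := Finset.card_image_of_injective _ αinj
  have hc2 : (R1.image (α ∘ α)).card = R1.card := Finset.card_image_of_injective _ (αinj.comp αinj)
  have hd1 : Disjoint R1 (R1.image α) := by
    rw [Finset.disjoint_left]; intro a ha hb
    obtain ⟨x, hx, rfl⟩ := Finset.mem_image.mp hb
    obtain ⟨hxR, hxZ, hx0⟩ := hR1mem x hx
    have := hR x hxR _ (hR1mem _ ha).1 (hconj1 x)
    exact hnot x hxZ hx0 this.symm
  have hd2 : Disjoint R1 (R1.image (α ∘ α)) := by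
    rw [Finset.disjoint_left]; intro a ha hb
    obtain ⟨x, hx, rfl⟩ := Finset.mem_image.mp hb
    obtain ⟨hxR, hxZ, hx0⟩ := hR1mem x hx
    have h1 : IsConj x ((α ∘ α) x) := (hconj1 x).trans (hconj1 (α x))
    have h2 := hR x hxR _ (hR1mem _ ha).1 h1
    exact hnot x hxZ hx0 (a2 x hxZ h2.symm)
  have hd3 : Disjoint (R1.image α) (R1.image (α ∘ α)) := by
    rw [Finset.disjoint_left]; intro a ha hb
    obtain ⟨y, hy, rfl⟩ := Finset.mem_image.mp ha
    obtain ⟨x, hx, hxy⟩ := Finset.mem_image.mp hb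
    have h1 : α x = y := αinj hxy
    obtain ⟨hxR, hxZ, hx0⟩ := hR1mem x hx
    have h2 := hR x hxR y (hR1mem y hy).1 (h1 ▸ hconj1 x)
    exact hnot x hxZ hx0 (h1.trans h2.symm)
  have hsub : R1 ∪ (R1.image α ∪ R1.image (α ∘ α)) ⊆ D := by
    intro a ha
    rw [hD, Finset.mem_filter]; refine ⟨Finset.mem_univ _, ?_⟩
    rcases Finset.mem_union.mp ha with ha | ha
    · exact (hR1mem a ha).2
    · rcases Finset.mem_union.mp ha with ha | ha
      · obtain ⟨x, hx, rfl⟩ := Finset.mem_image.mp ha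
        exact hαD x (hR1mem x hx).2.1 (hR1mem x hx).2.2
      · obtain ⟨x, hx, rfl⟩ := Finset.mem_image.mp ha
        have := hαD x (hR1mem x hx).2.1 (hR1mem x hx).2.2
        exact hαD _ this.1 this.2
  have hcard := Finset.card_le_card hsub
  rw [Finset.card_union_of_disjoint (Finset.disjoint_union_right.mpr ⟨hd1, hd2⟩),
    Finset.card_union_of_disjoint hd3, hc1, hc2] at hcard
  have h4 : 4 * Z0f.card ≤ Zf.card := by
    rw [hZ0f, hZf, ← card_eq_filter, ← card_eq_filter]; exact a3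
  omega


theorem B_large (P : Sylow 2 G)
    (hfus : ∀ u ∈ ZP (P : Subgroup G), ∀ v ∈ ZP (P : Subgroup G), IsConj u v → u = v)
    (u : G) (hu : u ∈ ZP (P : Subgroup G)) (g : G) (hg : g * u * g⁻¹ ∈ (P : Subgroup G))
    (hne : g * u * g⁻¹ ≠ u) :
    (Finset.univ.filter (· ∈ ZP (P : Subgroup G))).card ≤
      (Finset.univ.filter (fun x => x ∈ (P : Subgroup G) ∧ x ∉ ZP (P : Subgroup G) ∧
        ∃ v ∈ ZP (P : Subgroup G), IsConj v x)).card := by
  set PP := (P : Subgroup G) with hPP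
  set Z := ZP PP with hZ
  have hZP : Z ≤ PP := inf_le_left
  obtain ⟨y, hy⟩ : ∃ y, y = g * u * g⁻¹ := ⟨_, rfl⟩
  rw [← hy] at hg hne
  have hyZ : y ∉ Z := fun h => hne (hfus u hu y h (isConj_iff.mpr ⟨g, hy.symm⟩)).symm
  have hucent : ∀ p ∈ PP, p * u = u * p := (mem_ZP.mp hu).2
  set C := Subgroup.centralizer ({y} : Set G) with hC
  set P' := PP.map (MulAut.conj g).toMonoidHom with hP'
  have hP'p : IsPGroup 2 P' := P.isPGroup'.map _
  have hP'C : P' ≤ C := by
    rintro x ⟨p, hp, rfl⟩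
    rw [hC, Subgroup.mem_centralizer_iff]
    intro t ht
    rw [Set.mem_singleton_iff.mp ht]
    show y * (g * p * g⁻¹) = g * p * g⁻¹ * y
    rw [hy]
    have e1 : g * u * g⁻¹ * (g * p * g⁻¹) = g * (u * p) * g⁻¹ := by group
    have e2 : g * p * g⁻¹ * (g * u * g⁻¹) = g * (p * u) * g⁻¹ := by group
    rw [e1, e2, hucent p hp]
  have hodd : ¬ 2 ∣ P'.relIndex C := by
    intro h
    have h1 : P'.relIndex C * C.index = P'.index := Subgroup.relIndex_mul_index hP'C
    have h2 : P'.index = PP.index := Subgroup.index_map_equiv PP (MulAut.conj g)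
    rw [h2] at h1
    exact P.not_dvd_index (h1 ▸ Dvd.dvd.mul_right h _)
  have hZC : Z ≤ C := by
    intro v hv
    rw [hC, Subgroup.mem_centralizer_iff]
    intro t ht
    rw [Set.mem_singleton_iff.mp ht]
    exact (mem_ZP.mp hv).2 y hg
  have hZ2 : IsPGroup 2 Z := P.isPGroup'.to_le hZP
  obtain ⟨c, hcC, hc⟩ := exists_conj_le_of_relIndex C P' Z hP'p hodd hZC hZ2
  obtain ⟨w, hw⟩ : ∃ w, w = g⁻¹ * c := ⟨_, rfl⟩
  have hw1 : ∀ q ∈ Z, w * q * w⁻¹ ∈ PP := by
    intro q hq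
    obtain ⟨p, hp, hpe⟩ := hc q hq
    have hpe' : g * p * g⁻¹ = c * q * c⁻¹ := hpe
    have : w * q * w⁻¹ = p := by
      rw [hw]
      have e : g⁻¹ * c * q * (g⁻¹ * c)⁻¹ = g⁻¹ * (c * q * c⁻¹) * g := by group
      rw [e, ← hpe']; group
    rw [this]; exact hp
  have hcy : y * c = c * y := (Subgroup.mem_centralizer_iff.mp hcC) y (Set.mem_singleton y)
  have hw2 : w⁻¹ * u * w = y := by
    rw [hw]
    have e : (g⁻¹ * c)⁻¹ * u * (g⁻¹ * c) = c⁻¹ * (g * u * g⁻¹) * c := by group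
    rw [e, ← hy, mul_assoc, hcy]; group
  set Z0 := Z ⊓ Z.comap (MulAut.conj w).toMonoidHom with hZ0def
  have hZ0 : ∀ v, v ∈ Z0 ↔ v ∈ Z ∧ w * v * w⁻¹ ∈ Z := by
    intro v; rw [hZ0def, Subgroup.mem_inf, Subgroup.mem_comap]; rfl
  have hle : Z0 ≤ Z := inf_le_left
  have hnle : ¬ Z ≤ Z0 := by
    intro h
    have h1 : Z.map (MulAut.conj w).toMonoidHom ≤ Z := by
      rintro x ⟨v, hv, rfl⟩
      exact ((hZ0 v).mp (h hv)).2
    have h2 : Z.map (MulAut.conj w).toMonoidHom = Z := by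
      apply Subgroup.eq_of_le_of_card_ge h1
      rw [Subgroup.card_map_of_injective (MulAut.conj w).injective]
    have h3 : u ∈ Z.map (MulAut.conj w).toMonoidHom := by rw [h2]; exact hu
    obtain ⟨v, hv, hvu⟩ := h3
    have hvu' : w * v * w⁻¹ = u := hvu
    have : v = y := by rw [← hw2, ← hvu']; group
    exact hyZ (this ▸ hv)
  have hhalf : 2 * Nat.card Z0 ≤ Nat.card Z := by
    have hmul : Nat.card Z0 * Z0.relIndex Z = Nat.card Z := card_mul_relIndex_of_le hle
    have hj1 : Z0.relIndex Z ≠ 1 := fun h => hnle (Subgroup.relIndex_eq_one.mp h)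
    have hj0 : Z0.relIndex Z ≠ 0 := by
      intro h; rw [h, mul_zero] at hmul
      exact (Nat.card_pos (α := Z)).ne' hmul.symm
    have : 2 ≤ Z0.relIndex Z := by omega
    calc 2 * Nat.card Z0 = Nat.card Z0 * 2 := by ring
      _ ≤ Nat.card Z0 * Z0.relIndex Z := Nat.mul_le_mul_left _ this
      _ = Nat.card Z := hmul
  set Zf := Finset.univ.filter (· ∈ Z) with hZf
  set Z0f := Finset.univ.filter (· ∈ Z0) with hZ0f
  set D := Finset.univ.filter (fun x => x ∈ Z ∧ x ∉ Z0) with hD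
  set Bf := Finset.univ.filter (fun x => x ∈ PP ∧ x ∉ Z ∧ ∃ v ∈ Z, IsConj v x) with hBf
  have hZfcard : Zf.card = Z0f.card + D.card := by
    have h1 := Finset.card_filter_add_card_filter_not (s := Zf) (· ∈ Z0)
    have e1 : Zf.filter (· ∈ Z0) = Z0f := by
      ext x; simp only [hZf, hZ0f, Finset.mem_filter, Finset.mem_univ, true_and]
      exact ⟨fun h => h.2, fun h => ⟨hle h, h⟩⟩
    have e2 : Zf.filter (fun x => ¬ x ∈ Z0) = D := by
      ext x; simp only [hZf, hD, Finset.mem_filter, Finset.mem_univ, true_and]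
    rw [e1, e2] at h1; exact h1.symm
  have hDmem : ∀ v ∈ D, v ∈ Z ∧ v ∉ Z0 := fun v hv => (Finset.mem_filter.mp hv).2
  let b : G → G := fun v => w * v * w⁻¹
  have binj : Function.Injective b := fun a a' h => mul_left_cancel (mul_right_cancel h)
  have hb : ∀ v ∈ D, b v ∈ PP ∧ b v ∉ Z ∧ IsConj v (b v) := by
    intro v hv
    obtain ⟨h1, h2⟩ := hDmem v hv
    exact ⟨hw1 v h1, fun h => h2 ((hZ0 v).mpr ⟨h1, h⟩), isConj_iff.mpr ⟨w, rfl⟩⟩
  have hs : ∀ v ∈ D, sg PP (b v) ∈ PP ∧ sg PP (b v) ∉ Z ∧ sg PP (b v) ≠ b v ∧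
      IsConj (b v) (sg PP (b v)) :=
    fun v hv => sg_spec PP (hb v hv).1 (hb v hv).2.1
  have hcs : ∀ v ∈ D, IsConj v (sg PP (b v)) := fun v hv => (hb v hv).2.2.trans (hs v hv).2.2.2
  have hsinj : Set.InjOn (fun v => sg PP (b v)) D := by
    intro v hv v' hv' h
    have h' : sg PP (b v) = sg PP (b v') := h
    have c2 : IsConj (sg PP (b v)) v' := by rw [h']; exact (hcs v' hv').symm
    exact hfus v (hDmem v hv).1 v' (hDmem v' hv').1 ((hcs v hv).trans c2)
  have hc1 : (D.image b).card = D.card := Finset.card_image_of_injective _ binj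
  have hc2 : (D.image (fun v => sg PP (b v))).card = D.card := Finset.card_image_of_injOn hsinj
  have hdis : Disjoint (D.image b) (D.image (fun v => sg PP (b v))) := by
    rw [Finset.disjoint_left]; intro a ha hb'
    obtain ⟨v, hv, rfl⟩ := Finset.mem_image.mp ha
    obtain ⟨v', hv', hvv⟩ := Finset.mem_image.mp hb'
    have hvv' : sg PP (b v') = b v := hvv
    have c1 : IsConj v' (b v) := by rw [← hvv']; exact hcs v' hv'
    have e := hfus v' (hDmem v' hv').1 v (hDmem v hv).1 (c1.trans (hb v hv).2.2.symm)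
    rw [e] at hvv'
    exact (hs v hv).2.2.1 hvv'
  have hsub : D.image b ∪ D.image (fun v => sg PP (b v)) ⊆ Bf := by
    intro a ha
    rw [hBf, Finset.mem_filter]; refine ⟨Finset.mem_univ _, ?_⟩
    rcases Finset.mem_union.mp ha with ha | ha
    · obtain ⟨v, hv, rfl⟩ := Finset.mem_image.mp ha
      exact ⟨(hb v hv).1, (hb v hv).2.1, v, (hDmem v hv).1, (hb v hv).2.2⟩
    · obtain ⟨v, hv, rfl⟩ := Finset.mem_image.mp ha
      exact ⟨(hs v hv).1, (hs v hv).2.1, v, (hDmem v hv).1, hcs v hv⟩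
  have hcard := Finset.card_le_card hsub
  rw [Finset.card_union_of_disjoint hdis, hc1, hc2] at hcard
  have h4 : 2 * Z0f.card ≤ Zf.card := by
    rw [hZ0f, hZf, ← card_eq_filter, ← card_eq_filter]; exact hhalf
  omega

theorem isolated_of_count (P : Sylow 2 G) (hk : Nat.card (P : Subgroup G) < 2 * Nat.card (X2 G)) :
    ∀ u ∈ ZP (P : Subgroup G), ∀ g : G, g * u * g⁻¹ ∈ (P : Subgroup G) → g * u * g⁻¹ = u := by
  obtain ⟨R, hRP, hR, hstar⟩ := count_core P hk
  have hRZ : (R.filter (· ∈ ZP (P : Subgroup G))).card ≤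
      (Finset.univ.filter (· ∈ ZP (P : Subgroup G))).card :=
    Finset.card_le_card (fun x hx => by
      rw [Finset.mem_filter]; exact ⟨Finset.mem_univ _, (Finset.mem_filter.mp hx).2⟩)
  have hnorm : ∀ n ∈ Subgroup.normalizer ((P : Subgroup G) : Set G), ∀ u ∈ ZP (P : Subgroup G),
      n * u * n⁻¹ = u := by
    intro n hn u hu
    by_contra hne
    have := no_fusion_norm P R hR n hn u hu hne
    omega
  have hfus : ∀ u ∈ ZP (P : Subgroup G), ∀ v ∈ ZP (P : Subgroup G), IsConj u v → u = v := by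
    intro u hu v hv huv
    obtain ⟨c, hc⟩ := isConj_iff.mp huv
    have hxc : u ∈ Subgroup.centralizer ((P : Subgroup G) : Set G) := (inf_le_right : ZP _ ≤ _) hu
    have hyc : (c⁻¹)⁻¹ * u * c⁻¹ ∈ Subgroup.centralizer ((P : Subgroup G) : Set G) := by
      rw [inv_inv, hc]; exact (inf_le_right : ZP _ ≤ _) hv
    obtain ⟨n, hn, hnn⟩ := Sylow.conj_eq_normalizer_conj_of_mem_centralizer P u c⁻¹ hxc hyc
    rw [inv_inv, hc] at hnn
    have := hnorm n⁻¹ (Subgroup.inv_mem _ hn) u hu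
    rw [inv_inv] at this
    rw [hnn, this]
  intro u hu g hg
  by_contra hne
  have := B_large P hfus u hu g hg hne
  omega

end Count

theorem main : ∀ (n : ℕ) (G : Type u) [Group G] [Finite G], Nat.card G = n → ∀ P : Sylow 2 G,
    Nat.card (P : Subgroup G) < 2 * Nat.card (X2 G) → HasNormalPComplement 2 G := by
  intro n
  induction n using Nat.strong_induction_on with
  | _ n ih =>
  intro G _ _ hn P hk
  haveI := Fintype.ofFinite G
  by_cases hPbot : (P : Subgroup G) = ⊥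
  · apply hasNormalPComplement_of_coprime
    have h1 := P.not_dvd_index
    rw [hPbot, Subgroup.index_bot] at h1
    exact (Nat.coprime_two_right).mpr (Nat.not_even_iff_odd.mp (fun he => h1 he.two_dvd))
  -- an involution in the centre of `P`
  obtain ⟨z, hzZ, hz2⟩ : ∃ z ∈ ZP (P : Subgroup G), orderOf z = 2 := by
    haveI : Nontrivial (P : Subgroup G) := (Subgroup.nontrivial_iff_ne_bot _).mpr hPbot
    haveI := P.isPGroup'.center_nontrivial
    obtain ⟨c, hc⟩ := exists_ne (1 : Subgroup.center (P : Subgroup G))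
    have hcZ : ((c : (P : Subgroup G)) : G) ∈ ZP (P : Subgroup G) := by
      rw [mem_ZP]
      refine ⟨(c : (P : Subgroup G)).2, fun p hp => ?_⟩
      have := Subgroup.mem_center_iff.mp c.2 ⟨p, hp⟩
      exact congrArg Subtype.val this
    have hZ2 : IsPGroup 2 (ZP (P : Subgroup G)) := P.isPGroup'.to_le inf_le_left
    have hZnt : Nontrivial (ZP (P : Subgroup G)) := by
      refine ⟨⟨⟨_, hcZ⟩, 1, ?_⟩⟩
      intro h
      apply hc
      have h1 : ((c : (P : Subgroup G)) : G) = 1 := congrArg Subtype.val h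
      exact Subtype.ext (Subtype.ext h1)
    obtain ⟨k, hk0⟩ := hZ2.exists_card_eq
    have h2 : 2 ∣ Nat.card (ZP (P : Subgroup G)) := by
      rw [hk0]
      apply dvd_pow_self
      rintro rfl
      rw [pow_zero] at hk0
      haveI := (Nat.card_eq_one_iff_unique.mp hk0).1
      exact not_subsingleton _ ‹_›
    obtain ⟨x, hx⟩ := exists_prime_orderOf_dvd_card' 2 h2
    exact ⟨x, x.2, by rw [Subgroup.orderOf_coe]; exact hx⟩
  have hiso := isolated_of_count P hk z hzZ
  obtain ⟨N, hNn, hNodd, hNc⟩ := Cfsg.Agent.S0215.result P z hz2 (mem_ZP.mp hzZ).1 hiso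
  haveI := hNn
  have hzz : z * z = 1 := by rw [← pow_two, ← hz2, pow_orderOf_eq_one]
  haveI hMn : (Mz N z hzz).Normal := Mz_normal N z hzz hNc
  have hzM : z ∈ Mz N z hzz := by
    rw [mem_Mz]; right; rw [hzz]; exact N.one_mem
  have h2M : 2 ∣ Nat.card (Mz N z hzz) := by
    have := orderOf_dvd_natCard (⟨z, hzM⟩ : Mz N z hzz)
    rwa [Subgroup.orderOf_mk, hz2] at this
  obtain ⟨Pb⟩ : Nonempty (Sylow 2 (G ⧸ Mz N z hzz)) := inferInstance
  have hlt : Nat.card (G ⧸ Mz N z hzz) < n := by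
    rw [← hn, Subgroup.card_eq_card_quotient_mul_card_subgroup (Mz N z hzz)]
    have h1 : 2 ≤ Nat.card (Mz N z hzz) := Nat.le_of_dvd Nat.card_pos h2M
    have h0 : 0 < Nat.card (G ⧸ Mz N z hzz) := Nat.card_pos
    nlinarith
  have h1 := sylow_quot_card (Mz N z hzz) h2M P Pb
  have h2 := k2_le N (Mz N z hzz) hNodd z (fun m hm => hm)
  have hQ := ih _ hlt (G ⧸ Mz N z hzz) rfl Pb (by omega)
  obtain ⟨Pq, K, hKn, hK⟩ := hQ
  haveI := hKn
  have hLCq : LocalCentral 2 (G ⧸ Mz N z hzz) := localCentral_of_normal_complement Pq K hK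
  have hLC := localCentral_lift N (Mz N z hzz) hNodd z (fun m hm => hm) hLCq
  obtain ⟨K', hK'n, hK'⟩ := exists_normal_complement_of_localCentral hLC P
  exact ⟨P, K', hK'n, hK'⟩

/-- the map from classes of `P` to classes of `2`-elements of `G` -/
noncomputable def psi {G : Type u} [Group G] (P : Sylow 2 G) : ConjClasses (P : Subgroup G) → X2 G :=
  fun c => ⟨ConjClasses.map (P : Subgroup G).subtype c, by
    obtain ⟨a, rfl⟩ := ConjClasses.exists_rep c
    show ∀ x ∈ (ConjClasses.mk ((a : (P : Subgroup G)) : G)).carrier, _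
    apply mk_is2
    obtain ⟨k, hk⟩ := P.isPGroup' a
    have h1 : orderOf a ∣ 2 ^ k := orderOf_dvd_of_pow_eq_one hk
    obtain ⟨j, _, hj⟩ := (Nat.dvd_prime_pow Nat.prime_two).mp h1
    exact ⟨j, by rw [Subgroup.orderOf_coe, hj]⟩⟩

theorem psi_surj {G : Type u} [Group G] [Finite G] (P : Sylow 2 G) : Function.Surjective (psi P) := by
  intro c
  obtain ⟨x, hx, hxc⟩ := exists_rep_in_sylow P c
  refine ⟨ConjClasses.mk ⟨x, hx⟩, ?_⟩
  apply Subtype.ext
  exact hxc

theorem psi_inj {G : Type u} [Group G] [Finite G] (P : Sylow 2 G) (hLC : LocalCentral 2 G) :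
    Function.Injective (psi P) := by
  intro c c' h
  obtain ⟨a, rfl⟩ := ConjClasses.exists_rep c
  obtain ⟨b, rfl⟩ := ConjClasses.exists_rep c'
  have h1 : ConjClasses.mk ((a : (P : Subgroup G)) : G) = ConjClasses.mk ((b : (P : Subgroup G)) : G) :=
    congrArg Subtype.val h
  rw [ConjClasses.mk_eq_mk_iff_isConj, isConj_iff] at h1
  obtain ⟨g, hg⟩ := h1
  have hg' : (g⁻¹)⁻¹ * (a : G) * g⁻¹ ∈ (P : Subgroup G) := by rw [inv_inv, hg]; exact b.2
  obtain ⟨s, hs, hse⟩ := hLC.sylow_controls_fusion P a a.2 g⁻¹ hg'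
  rw [inv_inv, hg] at hse
  rw [ConjClasses.mk_eq_mk_iff_isConj, isConj_iff]
  refine ⟨⟨s⁻¹, (P : Subgroup G).inv_mem hs⟩, ?_⟩
  apply Subtype.ext
  show s⁻¹ * (a : G) * (s⁻¹)⁻¹ = b
  rw [inv_inv, hse]

/-- Let G be a finite group with Sylow 2-subgroup P, and write k₂(G) for the number of conjugacy classes of G consisting of 2-elements (elements of 2-power order, the identity included). Then k₂(G) > |P|/2 if and only if G has a normal 2-complement and P has more than |P|/2 conjugacy classes. -/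
theorem result {G : Type*} [Group G] [Finite G] (P : Sylow 2 G) :
    Nat.card ↥(P : Subgroup G) < 2 * Nat.card {c : ConjClasses G // ∀ x ∈ c.carrier, ∃ k : ℕ, orderOf x = 2 ^ k} ↔
      Cfsg.HasNormalPComplement 2 G ∧ Nat.card ↥(P : Subgroup G) < 2 * Nat.card (ConjClasses ↥(P : Subgroup G)) := by
  constructor
  · intro h
    refine ⟨main _ G rfl P h, ?_⟩
    have := Nat.card_le_card_of_surjective (psi P) (psi_surj P)
    have h' : Nat.card ↥(P : Subgroup G) < 2 * Nat.card (X2 G) := h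
    omega
  · rintro ⟨⟨P', K, hKn, hK⟩, h⟩
    haveI := hKn
    have hLC : LocalCentral 2 G := localCentral_of_normal_complement P' K hK
    have := Nat.card_le_card_of_injective (psi P) (psi_inj P hLC)
    show Nat.card ↥(P : Subgroup G) < 2 * Nat.card (X2 G)
    omega

end Cfsg.Agent.S3895
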