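import Cfsg.Statements.S3897
import Mathlib
import Cfsg.Agent.S3895

set_option autoImplicit false
open Cfsg

namespace Cfsg.Agent.S3897

open Cfsg Cfsg.Agent.Lib.Helper13 Cfsg.Agent.S3895

universe u

/-- classes of p-elements -/
abbrev Xp (p : ℕ) (G : Type u) [Group G] : Type u :=
  {c : ConjClasses G // ∀ x ∈ c.carrier, ∃ k : ℕ, orderOf x = p ^ k}

theorem mk_isp {p : ℕ} {G : Type u} [Group G] {a : G} (ha : ∃ k : ℕ, orderOf a = p ^ k) :
    ∀ x ∈ (ConjClasses.mk a).carrier, ∃ k : ℕ, orderOf x = p ^ k := by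
  intro x hx
  rw [ConjClasses.mem_carrier_iff_mk_eq, ConjClasses.mk_eq_mk_iff_isConj] at hx
  obtain ⟨c, hc⟩ := isConj_iff.mp hx
  obtain ⟨k, hk⟩ := ha
  refine ⟨k, ?_⟩
  rw [← hk, ← hc]
  exact ((MulAut.conj c).orderOf_eq x).symm

theorem exists_rep_in_sylow_p {p : ℕ} [Fact p.Prime] {G : Type u} [Group G] [Finite G] (P : Sylow p G)
    (c : Xp p G) : ∃ x, x ∈ (P : Subgroup G) ∧ ConjClasses.mk x = c.1 := by
  obtain ⟨a, ha⟩ := ConjClasses.exists_rep c.1
  obtain ⟨k, hk⟩ := c.2 a (by rw [← ha]; exact ConjClasses.mem_carrier_mk)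
  obtain ⟨g, hg⟩ := exists_conj_mem_sylow P a ⟨k, by rw [← hk]; exact pow_orderOf_eq_one a⟩
  refine ⟨g * a * g⁻¹, hg, ?_⟩
  rw [← ha, ConjClasses.mk_eq_mk_iff_isConj]
  exact (isConj_iff.mpr ⟨g, rfl⟩).symm

/-- the map from classes of `P` to classes of `p`-elements of `G` -/
noncomputable def psi {p : ℕ} [hp : Fact p.Prime] {G : Type u} [Group G] (P : Sylow p G) :
    ConjClasses (P : Subgroup G) → Xp p G :=
  fun c => ⟨ConjClasses.map (P : Subgroup G).subtype c, by
    obtain ⟨a, rfl⟩ := ConjClasses.exists_rep c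
    show ∀ x ∈ (ConjClasses.mk ((a : (P : Subgroup G)) : G)).carrier, _
    apply mk_isp
    obtain ⟨k, hk⟩ := P.isPGroup' a
    have h1 : orderOf a ∣ p ^ k := orderOf_dvd_of_pow_eq_one hk
    obtain ⟨j, _, hj⟩ := (Nat.dvd_prime_pow hp.out).mp h1
    exact ⟨j, by rw [Subgroup.orderOf_coe, hj]⟩⟩

theorem psi_surj {p : ℕ} [Fact p.Prime] {G : Type u} [Group G] [Finite G] (P : Sylow p G) :
    Function.Surjective (psi P) := by
  intro c
  obtain ⟨x, hx, hxc⟩ := exists_rep_in_sylow_p P c
  refine ⟨ConjClasses.mk ⟨x, hx⟩, ?_⟩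
  apply Subtype.ext
  exact hxc

theorem psi_inj {p : ℕ} [Fact p.Prime] {G : Type u} [Group G] [Finite G] (P : Sylow p G)
    (hLC : LocalCentral p G) : Function.Injective (psi P) := by
  intro c c' h
  obtain ⟨a, rfl⟩ := ConjClasses.exists_rep c
  obtain ⟨b, rfl⟩ := ConjClasses.exists_rep c'
  have h1 : ConjClasses.mk ((a : (P : Subgroup G)) : G) = ConjClasses.mk ((b : (P : Subgroup G)) : G) :=
    congrArg Subtype.val h
  rw [ConjClasses.mk_eq_mk_iff_isConj, isConj_iff] at h1
  obtain ⟨g, hg⟩ := h1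
  have hg' : (g⁻¹)⁻¹ * (a : G) * g⁻¹ ∈ (P : Subgroup G) := by rw [inv_inv, hg]; exact b.2
  obtain ⟨s, hs, hse⟩ := hLC.sylow_controls_fusion P a a.2 g⁻¹ hg'
  rw [inv_inv, hg] at hse
  rw [ConjClasses.mk_eq_mk_iff_isConj, isConj_iff]
  refine ⟨⟨s⁻¹, (P : Subgroup G).inv_mem hs⟩, ?_⟩
  apply Subtype.ext
  show s⁻¹ * (a : G) * (s⁻¹)⁻¹ = b
  rw [inv_inv, hse]

section Count

open Classical

variable {G : Type u} [Group G] [Fintype G] {p : ℕ} [hpf : Fact p.Prime]

theorem count_core_p (P : Sylow p G) :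
    ∃ R : Finset G, (∀ x ∈ R, x ∈ (P : Subgroup G)) ∧ (∀ x ∈ R, ∀ y ∈ R, IsConj x y → x = y) ∧
      R.card = Nat.card (Xp p G) ∧
      (Finset.univ.filter (· ∈ ZP (P : Subgroup G))).card +
        2 * (R.filter (· ∉ ZP (P : Subgroup G))).card ≤ Nat.card (P : Subgroup G) := by
  haveI : Fintype (Xp p G) := Fintype.ofFinite _
  set PP := (P : Subgroup G) with hPP
  set Z := ZP PP with hZ
  have hZP : Z ≤ PP := inf_le_left
  have F1 := exists_rep_in_sylow_p P
  let rep : Xp p G → G := fun c => (F1 c).choose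
  have R1 : ∀ c, rep c ∈ PP := fun c => (F1 c).choose_spec.1
  have R2 : ∀ c, ConjClasses.mk (rep c) = c.1 := fun c => (F1 c).choose_spec.2
  have hinj : Function.Injective rep := by
    intro c c' h
    apply Subtype.ext
    rw [← R2 c, ← R2 c', h]
  set R := Finset.univ.image rep with hR
  have hRcard : R.card = Nat.card (Xp p G) := by
    rw [hR, Finset.card_image_of_injective _ hinj, Finset.card_univ, Nat.card_eq_fintype_card]
  have hRP : ∀ x ∈ R, x ∈ PP := by
    intro x hx; obtain ⟨c, _, rfl⟩ := Finset.mem_image.mp hx; exact R1 c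
  have hRconj : ∀ x ∈ R, ∀ y ∈ R, IsConj x y → x = y := by
    intro x hx y hy hxy
    obtain ⟨c, _, rfl⟩ := Finset.mem_image.mp hx
    obtain ⟨c', _, rfl⟩ := Finset.mem_image.mp hy
    have : c = c' := by
      apply Subtype.ext
      rw [← R2 c, ← R2 c', ConjClasses.mk_eq_mk_iff_isConj]; exact hxy
    rw [this]
  refine ⟨R, hRP, hRconj, hRcard, ?_⟩
  set Zf := Finset.univ.filter (· ∈ Z) with hZf
  set Pf := Finset.univ.filter (· ∈ PP) with hPf
  set RN := R.filter (· ∉ Z) with hRN
  have hRNmem : ∀ x ∈ RN, x ∈ R ∧ x ∉ Z := fun x hx => Finset.mem_filter.mp hx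
  have hsg : ∀ x ∈ RN, sg PP x ∈ PP ∧ sg PP x ∉ Z ∧ sg PP x ≠ x ∧ IsConj x (sg PP x) :=
    fun x hx => sg_spec PP (hRP x (hRNmem x hx).1) (hRNmem x hx).2
  have hsginj : Set.InjOn (sg PP) RN := by
    intro x hx y hy hxy
    have h1 := (hsg x hx).2.2.2
    have h2 := (hsg y hy).2.2.2
    rw [hxy] at h1
    exact hRconj x (hRNmem x hx).1 y (hRNmem y hy).1 (h1.trans h2.symm)
  have hcardimg : (RN.image (sg PP)).card = RN.card := Finset.card_image_of_injOn hsginj
  have hd2 : Disjoint RN (RN.image (sg PP)) := by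
    rw [Finset.disjoint_left]; intro a ha hb
    obtain ⟨x, hx, rfl⟩ := Finset.mem_image.mp hb
    have := hRconj x (hRNmem x hx).1 _ (hRNmem _ ha).1 (hsg x hx).2.2.2
    exact (hsg x hx).2.2.1 this.symm
  have hd3 : Disjoint Zf (RN ∪ RN.image (sg PP)) := by
    rw [Finset.disjoint_left]; intro a ha hb
    rcases Finset.mem_union.mp hb with hb | hb
    · exact (hRNmem a hb).2 (Finset.mem_filter.mp ha).2
    · obtain ⟨x, hx, rfl⟩ := Finset.mem_image.mp hb
      exact (hsg x hx).2.1 (Finset.mem_filter.mp ha).2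
  have hsub : Zf ∪ (RN ∪ RN.image (sg PP)) ⊆ Pf := by
    intro a ha
    rw [hPf, Finset.mem_filter]; refine ⟨Finset.mem_univ _, ?_⟩
    rcases Finset.mem_union.mp ha with ha | ha
    · exact hZP (Finset.mem_filter.mp ha).2
    · rcases Finset.mem_union.mp ha with ha | ha
      · exact hRP a (hRNmem a ha).1
      · obtain ⟨x, hx, rfl⟩ := Finset.mem_image.mp ha; exact (hsg x hx).1
  have hcard := Finset.card_le_card hsub
  rw [Finset.card_union_of_disjoint hd3, Finset.card_union_of_disjoint hd2, hcardimg] at hcard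
  have hPcard : Pf.card = Nat.card PP := (card_eq_filter PP).symm
  omega

theorem index_center_sq (P : Sylow p G) (hne : ¬ (P : Subgroup G) ≤ ZP (P : Subgroup G)) :
    p ^ 2 * Nat.card (ZP (P : Subgroup G)) ≤ Nat.card (P : Subgroup G) := by
  have hp : p.Prime := hpf.out
  set PP := (P : Subgroup G) with hPP
  set Z := ZP PP with hZ
  have hZP : Z ≤ PP := inf_le_left
  have hmul : Nat.card Z * Z.relIndex PP = Nat.card PP := card_mul_relIndex_of_le hZP
  obtain ⟨a, ha⟩ := P.isPGroup'.exists_card_eq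
  have hj : Z.relIndex PP ∣ p ^ a := by
    rw [← ha]; exact Dvd.intro_left _ hmul
  obtain ⟨b, _, hb⟩ := (Nat.dvd_prime_pow hp).mp hj
  have hb2 : 2 ≤ b := by
    by_contra hlt
    push Not at hlt
    interval_cases b
    · rw [pow_zero, Subgroup.relIndex_eq_one] at hb
      exact hne hb
    · rw [pow_one] at hb
      have hsub : Z.subgroupOf PP = Subgroup.center ↥PP := by
        ext x
        rw [Subgroup.mem_subgroupOf, hZ, mem_ZP, Subgroup.mem_center_iff]
        constructor
        · rintro ⟨_, h⟩ g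
          exact Subtype.ext (h g g.2)
        · intro h
          exact ⟨x.2, fun q hq => congrArg Subtype.val (h ⟨q, hq⟩)⟩
      have hidx : (Subgroup.center ↥PP).index = p := by rw [← hsub]; exact hb
      have hcard : Nat.card (↥PP ⧸ Subgroup.center ↥PP) = p := by
        rw [← Subgroup.index_eq_card]; exact hidx
      haveI : IsCyclic (↥PP ⧸ Subgroup.center ↥PP) := isCyclic_of_prime_card hcard
      have hcomm := commutative_of_cyclic_center_quotient (QuotientGroup.mk' (Subgroup.center ↥PP))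
        (by rw [QuotientGroup.ker_mk'])
      apply hne
      intro x hx
      rw [hZ, mem_ZP]
      exact ⟨hx, fun q hq => congrArg Subtype.val (hcomm ⟨q, hq⟩ ⟨x, hx⟩)⟩
  calc p ^ 2 * Nat.card Z ≤ p ^ b * Nat.card Z :=
        Nat.mul_le_mul_right _ (Nat.pow_le_pow_right hp.pos hb2)
    _ = Nat.card PP := by rw [← hb, mul_comm, hmul]

theorem fusion_count (P : Sylow p G) (R : Finset G) (hRP : ∀ x ∈ R, x ∈ (P : Subgroup G))
    (hR : ∀ x ∈ R, ∀ y ∈ R, IsConj x y → x = y)
    (n : G) (hn : n ∈ Subgroup.normalizer ((P : Subgroup G) : Set G)) (u₀ : G)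
    (hu₀ : u₀ ∈ (P : Subgroup G)) (hne : n * u₀ * n⁻¹ ≠ u₀) :
    2 * p * R.card ≤ (p + 1) * Nat.card (P : Subgroup G) := by
  have hp : p.Prime := hpf.out
  set PP := (P : Subgroup G) with hPP
  have hn' := Subgroup.mem_normalizer_iff.mp hn
  have cinj : ∀ a b : G, n * a * n⁻¹ = n * b * n⁻¹ → a = b := by
    intro a b h
    exact mul_left_cancel (mul_right_cancel h)
  set P0 := PP ⊓ Subgroup.centralizer ({n} : Set G) with hP0def
  have hle : P0 ≤ PP := inf_le_left
  have hP0 : ∀ v, v ∈ P0 ↔ v ∈ PP ∧ n * v * n⁻¹ = v := by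
    intro v
    rw [hP0def, Subgroup.mem_inf, Subgroup.mem_centralizer_iff]
    constructor
    · rintro ⟨h1, h2⟩
      refine ⟨h1, ?_⟩
      rw [h2 n (Set.mem_singleton n)]; group
    · rintro ⟨h1, h2⟩
      refine ⟨h1, fun x hx => ?_⟩
      rw [Set.mem_singleton_iff.mp hx]
      calc n * v = (n * v * n⁻¹) * n := by group
        _ = v * n := by rw [h2]
  have a3 : p * Nat.card P0 ≤ Nat.card PP := by
    have hmul : Nat.card P0 * P0.relIndex PP = Nat.card PP := card_mul_relIndex_of_le hle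
    obtain ⟨a, ha⟩ := P.isPGroup'.exists_card_eq
    have hj : P0.relIndex PP ∣ p ^ a := by
      rw [← ha]; exact Dvd.intro_left _ hmul
    obtain ⟨b, _, hb⟩ := (Nat.dvd_prime_pow hp).mp hj
    have hb1 : 1 ≤ b := by
      by_contra hlt
      push Not at hlt
      interval_cases b
      rw [pow_zero, Subgroup.relIndex_eq_one] at hb
      exact hne ((hP0 u₀).mp (hb hu₀)).2
    calc p * Nat.card P0 = p ^ 1 * Nat.card P0 := by rw [pow_one]
      _ ≤ p ^ b * Nat.card P0 := Nat.mul_le_mul_right _ (Nat.pow_le_pow_right hp.pos hb1)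
      _ = Nat.card PP := by rw [← hb, mul_comm, hmul]
  set Pf := Finset.univ.filter (· ∈ PP) with hPf
  set P0f := Finset.univ.filter (· ∈ P0) with hP0f
  set D := Finset.univ.filter (fun x => x ∈ PP ∧ x ∉ P0) with hD
  have hPfcard : Pf.card = P0f.card + D.card := by
    have h1 := Finset.card_filter_add_card_filter_not (s := Pf) (· ∈ P0)
    have e1 : Pf.filter (· ∈ P0) = P0f := by
      ext x; simp only [hPf, hP0f, Finset.mem_filter, Finset.mem_univ, true_and]
      exact ⟨fun h => h.2, fun h => ⟨hle h, h⟩⟩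
    have e2 : Pf.filter (fun x => ¬ x ∈ P0) = D := by
      ext x; simp only [hPf, hD, Finset.mem_filter, Finset.mem_univ, true_and]
    rw [e1, e2] at h1; exact h1.symm
  set R1 := R.filter (· ∉ P0) with hR1
  have hRcard : R.card ≤ P0f.card + R1.card := by
    have h1 := Finset.card_filter_add_card_filter_not (s := R) (· ∈ P0)
    rw [← hR1] at h1
    have : (R.filter (· ∈ P0)).card ≤ P0f.card := Finset.card_le_card (by
      intro x hx; rw [hP0f, Finset.mem_filter]; exact ⟨Finset.mem_univ _, (Finset.mem_filter.mp hx).2⟩)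
    omega
  have hR1mem : ∀ x ∈ R1, x ∈ R ∧ x ∉ P0 := fun x hx => Finset.mem_filter.mp hx
  let α : G → G := fun v => n * v * n⁻¹
  have αinj : Function.Injective α := fun a b h => cinj a b h
  have hαD : ∀ x, x ∈ PP → x ∉ P0 → (α x ∈ PP ∧ α x ∉ P0) := by
    intro x hx hx0
    refine ⟨(hn' x).mp hx, fun h => hx0 ?_⟩
    have := ((hP0 _).mp h).2
    rw [hP0]; exact ⟨hx, cinj _ _ this⟩
  have hnot : ∀ x, x ∈ PP → x ∉ P0 → α x ≠ x := fun x hx hx0 h => hx0 ((hP0 x).mpr ⟨hx, h⟩)
  have hconj1 : ∀ x, IsConj x (α x) := fun x => isConj_iff.mpr ⟨n, rfl⟩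
  have hc1 : (R1.image α).card = R1.card := Finset.card_image_of_injective _ αinj
  have hd1 : Disjoint R1 (R1.image α) := by
    rw [Finset.disjoint_left]; intro a ha hb
    obtain ⟨x, hx, rfl⟩ := Finset.mem_image.mp hb
    obtain ⟨hxR, hx0⟩ := hR1mem x hx
    have := hR x hxR _ (hR1mem _ ha).1 (hconj1 x)
    exact hnot x (hRP x hxR) hx0 this.symm
  have hsub : R1 ∪ R1.image α ⊆ D := by
    intro a ha
    rw [hD, Finset.mem_filter]; refine ⟨Finset.mem_univ _, ?_⟩
    rcases Finset.mem_union.mp ha with ha | ha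
    · exact ⟨hRP a (hR1mem a ha).1, (hR1mem a ha).2⟩
    · obtain ⟨x, hx, rfl⟩ := Finset.mem_image.mp ha
      exact hαD x (hRP x (hR1mem x hx).1) (hR1mem x hx).2
  have hcard := Finset.card_le_card hsub
  rw [Finset.card_union_of_disjoint hd1, hc1] at hcard
  have h4 : p * P0f.card ≤ Pf.card := by
    rw [hP0f, hPf, ← card_eq_filter, ← card_eq_filter]; exact a3
  have h5 : Pf.card = Nat.card PP := (card_eq_filter PP).symm
  rw [← h5]
  have h6 : 2 * R.card ≤ Pf.card + P0f.card := by omega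
  calc 2 * p * R.card = p * (2 * R.card) := by ring
    _ ≤ p * (Pf.card + P0f.card) := Nat.mul_le_mul_left _ h6
    _ = p * Pf.card + p * P0f.card := by ring
    _ ≤ p * Pf.card + Pf.card := Nat.add_le_add_left h4 _
    _ = (p + 1) * Pf.card := by ring

theorem forward (P : Sylow p G)
    (hk : (p + 1) * Nat.card (P : Subgroup G) < 2 * p * Nat.card (Xp p G)) :
    HasNormalPComplement p G ∧ IsMulCommutative ↥(P : Subgroup G) := by
  have hp : p.Prime := hpf.out
  obtain ⟨R, hRP, hR, hRcard, hcount⟩ := count_core_p P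
  have hRZ : (R.filter (· ∈ ZP (P : Subgroup G))).card ≤
      (Finset.univ.filter (· ∈ ZP (P : Subgroup G))).card :=
    Finset.card_le_card (fun x hx => by
      rw [Finset.mem_filter]; exact ⟨Finset.mem_univ _, (Finset.mem_filter.mp hx).2⟩)
  have hsplit := Finset.card_filter_add_card_filter_not (s := R) (· ∈ ZP (P : Subgroup G))
  have habel : (P : Subgroup G) ≤ ZP (P : Subgroup G) := by
    by_contra hne
    have h1 := index_center_sq P hne
    rw [card_eq_filter (ZP (P : Subgroup G))] at h1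
    rw [← hRcard, ← hsplit] at hk
    generalize (Finset.univ.filter (· ∈ ZP (P : Subgroup G))).card = a at *
    generalize (R.filter (· ∈ ZP (P : Subgroup G))).card = c at *
    generalize (R.filter (fun x => ¬ x ∈ ZP (P : Subgroup G))).card = b at *
    generalize Nat.card (P : Subgroup G) = N at *
    have e1 : p * a ≤ N := le_trans (by nlinarith [hp.one_lt]) h1
    have e2 : p * (a + 2 * b) ≤ p * N := Nat.mul_le_mul_left _ hcount
    have e3 : p * c ≤ p * a := Nat.mul_le_mul_left _ hRZ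
    nlinarith
  have hcommP : IsMulCommutative ↥(P : Subgroup G) :=
    ⟨⟨fun a b => Subtype.ext ((mem_ZP.mp (habel b.2)).2 a a.2)⟩⟩
  refine ⟨?_, hcommP⟩
  have hnorm : ∀ n ∈ Subgroup.normalizer ((P : Subgroup G) : Set G), ∀ u ∈ (P : Subgroup G),
      n * u * n⁻¹ = u := by
    intro n hn u hu
    by_contra hne
    have := fusion_count P R hRP hR n hn u hu hne
    rw [hRcard] at this
    omega
  have hP : Subgroup.normalizer ((P : Subgroup G) : Set G) ≤ Subgroup.centralizer ((P : Subgroup G) : Set G) := by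
    intro n hn
    rw [Subgroup.mem_centralizer_iff]
    intro h hh
    have := hnorm n hn h hh
    calc h * n = (n * h * n⁻¹) * n := by rw [this]
      _ = n * h := by group
  exact ⟨P, (MonoidHom.transferSylow P hP).ker, inferInstance, MonoidHom.ker_transferSylow_isComplement' P hP⟩

end Count

/-- Let p be an odd prime and G a finite group with Sylow p-subgroup P, and write k_p(G) for the number of conjugacy classes of G consisting of p-elements (elements of p-power order, the identity included). Then k_p(G) > (p + 1)|P|/(2p) if and only if G has a normal p-complement and P is abelian. -/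
theorem result {G : Type*} [Group G] [Finite G] {p : ℕ} [Fact p.Prime] (hp : p ≠ 2) (P : Sylow p G) :
    (p + 1) * Nat.card ↥(P : Subgroup G) < 2 * p * Nat.card {c : ConjClasses G // ∀ x ∈ c.carrier, ∃ k : ℕ, orderOf x = p ^ k} ↔
      Cfsg.HasNormalPComplement p G ∧ IsMulCommutative ↥(P : Subgroup G) := by
  haveI := Fintype.ofFinite G
  constructor
  · intro h
    exact forward P h
  · rintro ⟨⟨P', K, hKn, hK⟩, hc⟩
    haveI := hKn
    have hpp : p.Prime := Fact.out
    have hLC : LocalCentral p G := localCentral_of_normal_complement P' K hK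
    have h1 := Nat.card_le_card_of_injective (psi P) (psi_inj P hLC)
    have hmkinj : Function.Injective (ConjClasses.mk : ↥(P : Subgroup G) → ConjClasses ↥(P : Subgroup G)) := by
      intro a b hab
      rw [ConjClasses.mk_eq_mk_iff_isConj, isConj_iff] at hab
      obtain ⟨c, hc'⟩ := hab
      rw [← hc', hc.is_comm.comm c a]; group
    have h2 := Nat.card_le_card_of_injective _ hmkinj
    have h3 : 0 < Nat.card ↥(P : Subgroup G) := Nat.card_pos
    have h4 : Nat.card ↥(P : Subgroup G) ≤ Nat.card (Xp p G) := le_trans h2 h1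
    show (p + 1) * Nat.card ↥(P : Subgroup G) < 2 * p * Nat.card (Xp p G)
    have h5 : 2 ≤ p := hpp.two_le
    nlinarith

end Cfsg.Agent.S3897
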