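import Cfsg.Statements.S3899
import Mathlib
import Cfsg.Agent.S3897

set_option autoImplicit false
open Cfsg

namespace Cfsg.Agent.S3899

open Cfsg Cfsg.Agent.Lib.Helper13 Cfsg.Agent.S3895 Cfsg.Agent.S3897

universe u

/-- classes of τ-elements -/
abbrev XF (τ : Finset ℕ) (G : Type u) [Group G] : Type u :=
  {c : ConjClasses G // ∀ x ∈ c.carrier, ∀ q : ℕ, q.Prime → q ∣ orderOf x → q ∈ τ}

theorem mk_isF {τ : Finset ℕ} {G : Type u} [Group G] {a : G}
    (ha : ∀ q : ℕ, q.Prime → q ∣ orderOf a → q ∈ τ) :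
    ∀ x ∈ (ConjClasses.mk a).carrier, ∀ q : ℕ, q.Prime → q ∣ orderOf x → q ∈ τ := by
  intro x hx
  rw [ConjClasses.mem_carrier_iff_mk_eq, ConjClasses.mk_eq_mk_iff_isConj] at hx
  obtain ⟨c, hc⟩ := isConj_iff.mp hx
  have : orderOf x = orderOf a := by
    rw [← hc]; exact ((MulAut.conj c).orderOf_eq x).symm
  rw [this]; exact ha

/-- exponents splitting off the `r`-part -/
theorem exists_exp (r n : ℕ) (hr : r.Prime) : ∃ e f : ℕ, (e + f ≡ 1 [MOD n]) ∧
    n ∣ e * r ^ n.factorization r ∧ n ∣ f * (n / r ^ n.factorization r) := by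
  by_cases hn : n = 0
  · subst hn
    refine ⟨0, 1, by simp, by simp, by simp⟩
  · set R := r ^ n.factorization r with hR
    set m := n / R with hm
    have hRm : R * m = n := Nat.ordProj_mul_ordCompl_eq_self n r
    have co : Nat.Coprime R m := Nat.Coprime.pow_left _ (Nat.coprime_ordCompl hr hn)
    obtain ⟨e, he1, he2⟩ := Nat.chineseRemainder co 1 0
    obtain ⟨f, hf1, hf2⟩ := Nat.chineseRemainder co 0 1
    refine ⟨e, f, ?_, ?_, ?_⟩
    · rw [← hRm]
      apply (Nat.modEq_and_modEq_iff_modEq_mul co).mp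
      exact ⟨by simpa using he1.add hf1, by simpa using he2.add hf2⟩
    · have : m ∣ e := Nat.modEq_zero_iff_dvd.mp he2
      rw [← hRm, mul_comm R m]
      exact Nat.mul_dvd_mul this (dvd_refl R)
    · have : R ∣ f := Nat.modEq_zero_iff_dvd.mp hf1
      rw [← hRm]
      exact Nat.mul_dvd_mul this (dvd_refl m)

noncomputable def eR (r n : ℕ) [hr : Fact r.Prime] : ℕ := (exists_exp r n hr.out).choose
noncomputable def fR (r n : ℕ) [hr : Fact r.Prime] : ℕ := (exists_exp r n hr.out).choose_spec.choose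

theorem eR_spec (r n : ℕ) [hr : Fact r.Prime] : (eR r n + fR r n ≡ 1 [MOD n]) ∧
    n ∣ eR r n * r ^ n.factorization r ∧ n ∣ fR r n * (n / r ^ n.factorization r) :=
  (exists_exp r n hr.out).choose_spec.choose_spec

section Parts

variable {G : Type u} [Group G] (r : ℕ) [hr : Fact r.Prime]

noncomputable def rpart (x : G) : G := x ^ eR r (orderOf x)
noncomputable def rcomp (x : G) : G := x ^ fR r (orderOf x)

theorem rpart_mul_rcomp (x : G) : rpart r x * rcomp r x = x := by
  unfold rpart rcomp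
  rw [← pow_add]
  have := (eR_spec r (orderOf x)).1
  have h := (pow_eq_pow_iff_modEq (x := x)).mpr this
  rw [h, pow_one]

theorem rpart_comm (x : G) : rcomp r x * rpart r x = rpart r x * rcomp r x := by
  unfold rpart rcomp
  rw [← pow_add, ← pow_add, add_comm]

theorem rpart_conj (g x : G) : rpart r (g * x * g⁻¹) = g * rpart r x * g⁻¹ := by
  unfold rpart
  have : orderOf (g * x * g⁻¹) = orderOf x := (MulAut.conj g).orderOf_eq x
  rw [this, conj_pow]

theorem rpart_pow (x : G) : rpart r x ^ r ^ (orderOf x).factorization r = 1 := by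
  unfold rpart
  rw [← pow_mul]
  exact orderOf_dvd_iff_pow_eq_one.mp (eR_spec r (orderOf x)).2.1

theorem rcomp_pow (x : G) : rcomp r x ^ (orderOf x / r ^ (orderOf x).factorization r) = 1 := by
  unfold rcomp
  rw [← pow_mul]
  exact orderOf_dvd_iff_pow_eq_one.mp (eR_spec r (orderOf x)).2.2

theorem rpart_isp (x : G) : ∃ k : ℕ, orderOf (rpart r x) = r ^ k := by
  have h := orderOf_dvd_of_pow_eq_one (rpart_pow r x)
  obtain ⟨j, _, hj⟩ := (Nat.dvd_prime_pow hr.out).mp h
  exact ⟨j, hj⟩

theorem rcomp_primes [Finite G] (x : G) (q : ℕ) (hq : q.Prime) (h : q ∣ orderOf (rcomp r x)) :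
    q ∣ orderOf x ∧ q ≠ r := by
  have h1 := orderOf_dvd_of_pow_eq_one (rcomp_pow r x)
  have h2 : q ∣ orderOf x / r ^ (orderOf x).factorization r := h.trans h1
  have hn : orderOf x ≠ 0 := (orderOf_pos x).ne'
  refine ⟨h2.trans (Nat.div_dvd_of_dvd (Nat.ordProj_dvd _ _)), ?_⟩
  rintro rfl
  exact Nat.not_dvd_ordCompl hq hn h2

end Parts


section Fib

variable {G : Type u} [Group G]

/-- the class of the `r`-part -/
noncomputable def phi0 (r : ℕ) [Fact r.Prime] : ConjClasses G → ConjClasses G :=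
  Quotient.lift (fun x : G => ConjClasses.mk (rpart r x)) (by
    intro a b hab
    have hab' : IsConj a b := hab
    obtain ⟨g, hg⟩ := isConj_iff.mp hab'
    show ConjClasses.mk (rpart r a) = ConjClasses.mk (rpart r b)
    rw [ConjClasses.mk_eq_mk_iff_isConj, ← hg, rpart_conj]
    exact isConj_iff.mpr ⟨g, rfl⟩)

theorem phi0_mk (r : ℕ) [Fact r.Prime] (a : G) :
    phi0 r (ConjClasses.mk a) = ConjClasses.mk (rpart r a) := rfl

noncomputable def Phi (τ : Finset ℕ) (r : ℕ) [Fact r.Prime] : XF τ G → Xp r G :=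
  fun c => ⟨phi0 r c.1, by
    obtain ⟨a, ha⟩ := ConjClasses.exists_rep c.1
    rw [← ha, phi0_mk]
    exact mk_isp (rpart_isp r a)⟩

noncomputable def Psi (s : G) : ConjClasses ↥(Subgroup.centralizer ({s} : Set G)) → ConjClasses G :=
  Quotient.lift (fun t : ↥(Subgroup.centralizer ({s} : Set G)) => ConjClasses.mk (s * (t : G))) (by
    intro a b hab
    have hab' : IsConj a b := hab
    obtain ⟨c, hc⟩ := isConj_iff.mp hab'
    show ConjClasses.mk (s * (a : G)) = ConjClasses.mk (s * (b : G))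
    rw [ConjClasses.mk_eq_mk_iff_isConj]
    refine isConj_iff.mpr ⟨(c : G), ?_⟩
    have hcs : s * (c : G) = (c : G) * s :=
      (Subgroup.mem_centralizer_iff.mp c.2) s (Set.mem_singleton s)
    have hb : (b : G) = (c : G) * (a : G) * (c : G)⁻¹ := by rw [← hc]; simp
    rw [hb]
    calc (c : G) * (s * (a : G)) * (c : G)⁻¹ = ((c : G) * s) * (a : G) * (c : G)⁻¹ := by group
      _ = (s * (c : G)) * (a : G) * (c : G)⁻¹ := by rw [hcs]
      _ = s * ((c : G) * (a : G) * (c : G)⁻¹) := by group)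

theorem Psi_mk (s : G) (t : ↥(Subgroup.centralizer ({s} : Set G))) :
    Psi s (ConjClasses.mk t) = ConjClasses.mk (s * (t : G)) := rfl

theorem fib [Finite G] (τ : Finset ℕ) (r : ℕ) [hr : Fact r.Prime] (B : ℕ)
    (hB : ∀ s : G, Nat.card (XF (τ.erase r) ↥(Subgroup.centralizer ({s} : Set G))) ≤ B) :
    Nat.card (XF τ G) ≤ B * Nat.card (Xp r G) := by
  classical
  haveI : Fintype (XF τ G) := Fintype.ofFinite _
  haveI : Fintype (Xp r G) := Fintype.ofFinite _
  rw [Nat.card_eq_fintype_card, Nat.card_eq_fintype_card]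
  have h1 : (Finset.univ : Finset (XF τ G)).card ≤
      B * ((Finset.univ : Finset (XF τ G)).image (Phi τ r)).card := by
    apply Finset.card_le_mul_card_image
    intro d _
    obtain ⟨s, hs⟩ := ConjClasses.exists_rep d.1
    haveI : Fintype (XF (τ.erase r) ↥(Subgroup.centralizer ({s} : Set G))) := Fintype.ofFinite _
    have hsub : (Finset.univ.filter (fun c => Phi τ r c = d)).image (fun c : XF τ G => c.1) ⊆
        (Finset.univ : Finset (XF (τ.erase r) ↥(Subgroup.centralizer ({s} : Set G)))).image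
          (fun t => Psi s t.1) := by
      intro cc hcc
      obtain ⟨c, hc, rfl⟩ := Finset.mem_image.mp hcc
      have hcd : Phi τ r c = d := (Finset.mem_filter.mp hc).2
      obtain ⟨a, ha⟩ := ConjClasses.exists_rep c.1
      have haτ : ∀ q : ℕ, q.Prime → q ∣ orderOf a → q ∈ τ :=
        c.2 a (by rw [← ha]; exact ConjClasses.mem_carrier_mk)
      have h2 : ConjClasses.mk (rpart r a) = ConjClasses.mk s := by
        have h3 : phi0 r c.1 = d.1 := congrArg Subtype.val hcd
        rw [← ha, phi0_mk, ← hs] at h3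
        exact h3
      rw [ConjClasses.mk_eq_mk_iff_isConj] at h2
      obtain ⟨g, hg⟩ := isConj_iff.mp h2
      obtain ⟨a', ha'⟩ : ∃ a', a' = g * a * g⁻¹ := ⟨_, rfl⟩
      have hra' : rpart r a' = s := by rw [ha', rpart_conj, hg]
      have hord : orderOf a' = orderOf a := by rw [ha']; exact (MulAut.conj g).orderOf_eq a
      have htC : rcomp r a' ∈ Subgroup.centralizer ({s} : Set G) := by
        rw [Subgroup.mem_centralizer_iff]
        intro x hx
        rw [Set.mem_singleton_iff.mp hx, ← hra']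
        exact (rpart_comm r a').symm
      have htτ : ∀ q : ℕ, q.Prime →
          q ∣ orderOf (⟨rcomp r a', htC⟩ : ↥(Subgroup.centralizer ({s} : Set G))) → q ∈ τ.erase r := by
        intro q hq hdvd
        rw [Subgroup.orderOf_mk] at hdvd
        obtain ⟨h3, h4⟩ := rcomp_primes r a' q hq hdvd
        rw [hord] at h3
        exact Finset.mem_erase.mpr ⟨h4, haτ q hq h3⟩
      refine Finset.mem_image.mpr ⟨⟨ConjClasses.mk ⟨rcomp r a', htC⟩, mk_isF htτ⟩, Finset.mem_univ _, ?_⟩
      show ConjClasses.mk (s * rcomp r a') = c.1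
      rw [← hra', rpart_mul_rcomp, ← ha, ConjClasses.mk_eq_mk_iff_isConj, ha']
      exact (isConj_iff.mpr ⟨g, rfl⟩).symm
    have hinj : Function.Injective (fun c : XF τ G => c.1) := Subtype.val_injective
    calc (Finset.univ.filter (fun c => Phi τ r c = d)).card
        = ((Finset.univ.filter (fun c => Phi τ r c = d)).image (fun c : XF τ G => c.1)).card :=
          (Finset.card_image_of_injective _ hinj).symm
      _ ≤ ((Finset.univ : Finset (XF (τ.erase r) ↥(Subgroup.centralizer ({s} : Set G)))).image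
            (fun t => Psi s t.1)).card := Finset.card_le_card hsub
      _ ≤ (Finset.univ : Finset (XF (τ.erase r) ↥(Subgroup.centralizer ({s} : Set G)))).card :=
          Finset.card_image_le
      _ = Nat.card (XF (τ.erase r) ↥(Subgroup.centralizer ({s} : Set G))) := by
          rw [Finset.card_univ, Nat.card_eq_fintype_card]
      _ ≤ B := hB s
  calc Fintype.card (XF τ G) = (Finset.univ : Finset (XF τ G)).card := Finset.card_univ.symm
    _ ≤ B * ((Finset.univ : Finset (XF τ G)).image (Phi τ r)).card := h1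
    _ ≤ B * Fintype.card (Xp r G) := Nat.mul_le_mul_left _ (Finset.card_le_univ _)

end Fib

/-- the `τ`-part of `n` -/
def piPart (τ : Finset ℕ) (n : ℕ) : ℕ := τ.prod (fun q => q ^ n.factorization q)

theorem piPart_mono (τ : Finset ℕ) (hτ : ∀ q ∈ τ, q.Prime) {m n : ℕ} (h : m ∣ n) (hn : n ≠ 0) :
    piPart τ m ≤ piPart τ n := by
  unfold piPart
  have hm : m ≠ 0 := fun h0 => hn (by rw [h0] at h; exact Nat.eq_zero_of_zero_dvd h)
  apply Finset.prod_le_prod (fun i _ => Nat.zero_le _)
  intro q hq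
  exact Nat.pow_le_pow_right (hτ q hq).pos ((Nat.factorization_le_iff_dvd hm hn).mpr h q)

theorem piPart_pos (τ : Finset ℕ) (hτ : ∀ q ∈ τ, q.Prime) (n : ℕ) : 0 < piPart τ n := by
  unfold piPart
  exact Finset.prod_pos (fun q hq => pow_pos (hτ q hq).pos _)

theorem k_le (τ : Finset ℕ) (hτ : ∀ q ∈ τ, q.Prime) : ∀ (G : Type u) [Group G] [Finite G],
    Nat.card (XF τ G) ≤ piPart τ (Nat.card G) := by
  classical
  induction τ using Finset.induction_on with
  | empty =>
    intro G _ _
    have : Subsingleton (XF ∅ G) := by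
      constructor
      intro c c'
      have key : ∀ c : XF ∅ G, c.1 = ConjClasses.mk 1 := by
        intro c
        obtain ⟨a, ha⟩ := ConjClasses.exists_rep c.1
        have h := c.2 a (by rw [← ha]; exact ConjClasses.mem_carrier_mk)
        have h1 : orderOf a = 1 := by
          by_contra hne
          obtain ⟨q, hq, hqd⟩ := Nat.exists_prime_and_dvd hne
          exact absurd (h q hq hqd) (Finset.notMem_empty q)
        rw [← ha, orderOf_eq_one_iff.mp h1]
      exact Subtype.ext ((key c).trans (key c').symm)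
    simp only [piPart, Finset.prod_empty]
    exact Finite.card_le_one_iff_subsingleton.mpr this
  | insert r τ hr ih =>
    intro G _ _
    haveI : Fact r.Prime := ⟨hτ r (Finset.mem_insert_self r τ)⟩
    have hτ' : ∀ q ∈ τ, q.Prime := fun q hq => hτ q (Finset.mem_insert_of_mem hq)
    have herase : (insert r τ).erase r = τ := Finset.erase_insert hr
    have hB : ∀ s : G, Nat.card (XF ((insert r τ).erase r) ↥(Subgroup.centralizer ({s} : Set G))) ≤
        piPart τ (Nat.card G) := by
      intro s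
      rw [herase]
      exact le_trans (ih hτ' _) (piPart_mono τ hτ' (Subgroup.card_subgroup_dvd_card _) Nat.card_pos.ne')
    have h1 := fib (insert r τ) r _ hB
    have h2 : Nat.card (Xp r G) ≤ r ^ (Nat.card G).factorization r := by
      obtain ⟨P⟩ : Nonempty (Sylow r G) := inferInstance
      have h3 := Nat.card_le_card_of_surjective (psi P) (psi_surj P)
      have h4 : Nat.card (ConjClasses ↥(P : Subgroup G)) ≤ Nat.card ↥(P : Subgroup G) :=
        Nat.card_le_card_of_surjective ConjClasses.mk ConjClasses.mk_surjective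
      rw [P.card_eq_multiplicity] at h4
      exact le_trans h3 h4
    calc Nat.card (XF (insert r τ) G) ≤ piPart τ (Nat.card G) * Nat.card (Xp r G) := h1
      _ ≤ piPart τ (Nat.card G) * r ^ (Nat.card G).factorization r := Nat.mul_le_mul_left _ h2
      _ = piPart (insert r τ) (Nat.card G) := by
        unfold piPart; rw [Finset.prod_insert hr, mul_comm]


theorem sylow_data {G : Type u} [Group G] [Finite G] (π : Finset ℕ) (hπ : ∀ r ∈ π, r.Prime)
    (h2 : 2 ∉ π) (p : ℕ) (hmin : ∀ r ∈ π, p ≤ r)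
    (hk : (p + 1) * piPart π (Nat.card G) < 2 * p * Nat.card (XF π G)) (r : ℕ) (hr : r ∈ π) :
    ∃ K : Subgroup G, K.Normal ∧ (Nat.card K).Coprime r ∧ (∃ k : ℕ, K.index = r ^ k) ∧
      ∀ a b : G, a * b * a⁻¹ * b⁻¹ ∈ K := by
  classical
  haveI : Fact r.Prime := ⟨hπ r hr⟩
  have hrp : r.Prime := hπ r hr
  obtain ⟨n, hn⟩ : ∃ n, n = Nat.card G := ⟨_, rfl⟩
  rw [← hn] at hk
  obtain ⟨B, hB⟩ : ∃ B, B = piPart (π.erase r) n := ⟨_, rfl⟩
  have hπe : ∀ q ∈ π.erase r, q.Prime := fun q hq => hπ q (Finset.mem_of_mem_erase hq)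
  have hBpos : 0 < B := by rw [hB]; exact piPart_pos _ hπe n
  have hsplit : piPart π n = r ^ n.factorization r * B := by
    rw [hB]; unfold piPart; exact (Finset.mul_prod_erase π _ hr).symm
  have hfib : Nat.card (XF π G) ≤ B * Nat.card (Xp r G) := by
    apply fib π r B
    intro s
    rw [hB, hn]
    exact le_trans (k_le (π.erase r) hπe _)
      (piPart_mono _ hπe (Subgroup.card_subgroup_dvd_card _) Nat.card_pos.ne')
  have hineq : ∀ P : Sylow r G, (r + 1) * Nat.card (P : Subgroup G) < 2 * r * Nat.card (Xp r G) := by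
    intro P
    rw [P.card_eq_multiplicity, ← hn]
    obtain ⟨A, hA⟩ : ∃ A, A = r ^ n.factorization r := ⟨_, rfl⟩
    obtain ⟨K, hK⟩ : ∃ K, K = Nat.card (Xp r G) := ⟨_, rfl⟩
    rw [← hA, ← hK]
    rw [← hA] at hsplit
    rw [← hK] at hfib
    have h3 : (p + 1) * (A * B) < 2 * p * (B * K) := by
      calc (p + 1) * (A * B) = (p + 1) * piPart π n := by rw [hsplit]
        _ < 2 * p * Nat.card (XF π G) := hk
        _ ≤ 2 * p * (B * K) := Nat.mul_le_mul_left _ hfib
    have h4 : (p + 1) * A < 2 * p * K := by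
      have : ((p + 1) * A) * B < (2 * p * K) * B := by
        calc ((p + 1) * A) * B = (p + 1) * (A * B) := by ring
          _ < 2 * p * (B * K) := h3
          _ = (2 * p * K) * B := by ring
      exact Nat.lt_of_mul_lt_mul_right this
    have hpr : p ≤ r := hmin r hr
    by_contra hcon
    push Not at hcon
    have hApos : 0 < A := by rw [hA]; exact pow_pos hrp.pos _
    have h5 : (p + 1) * A * r < p * ((r + 1) * A) := by
      calc (p + 1) * A * r < (2 * p * K) * r := Nat.mul_lt_mul_of_pos_right h4 hrp.pos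
        _ = p * (2 * r * K) := by ring
        _ ≤ p * ((r + 1) * A) := Nat.mul_le_mul_left _ hcon
    have h6 : ((p + 1) * r) * A < (p * (r + 1)) * A := by
      calc ((p + 1) * r) * A = (p + 1) * A * r := by ring
        _ < p * ((r + 1) * A) := h5
        _ = (p * (r + 1)) * A := by ring
    have h7 : (p + 1) * r < p * (r + 1) := Nat.lt_of_mul_lt_mul_right h6
    nlinarith
  obtain ⟨P0⟩ : Nonempty (Sylow r G) := inferInstance
  have hr2 : r ≠ 2 := fun h => h2 (h ▸ hr)
  obtain ⟨⟨P', K, hKn, hK⟩, _⟩ := (Cfsg.Agent.S3897.result hr2 P0).mp (hineq P0)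
  have hcommP' : IsMulCommutative ↥(P' : Subgroup G) :=
    ((Cfsg.Agent.S3897.result hr2 P').mp (hineq P')).2
  obtain ⟨hcop, k, hk'⟩ := coprime_and_index_of_isComplement' K P' hK
  refine ⟨K, hKn, hcop, ⟨k, hk'⟩, ?_⟩
  intro a b
  haveI := hKn
  obtain ⟨⟨ka, sa⟩, hsa⟩ := hK.2 a
  obtain ⟨⟨kb, sb⟩, hsb⟩ := hK.2 b
  have hsa' : (ka : G) * (sa : G) = a := hsa
  have hsb' : (kb : G) * (sb : G) = b := hsb
  have hcomm : (sa : G) * (sb : G) = (sb : G) * (sa : G) :=
    congrArg Subtype.val (hcommP'.is_comm.comm sa sb)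
  apply (QuotientGroup.eq_one_iff _).mp
  have h1 : ((ka : G) : G ⧸ K) = 1 := (QuotientGroup.eq_one_iff _).mpr ka.2
  have h2' : ((kb : G) : G ⧸ K) = 1 := (QuotientGroup.eq_one_iff _).mpr kb.2
  rw [← hsa', ← hsb']
  simp only [QuotientGroup.mk_mul, QuotientGroup.mk_inv, h1, h2', one_mul]
  rw [← QuotientGroup.mk_mul, hcomm, QuotientGroup.mk_mul]
  group

/-- Let π be a finite non-empty set of odd primes with smallest member p and G a finite group. Write k_π(G) for the number of conjugacy classes of G consisting of π-elements (elements all of whose order's prime divisors lie in π) and |G|_π for the π-part of the order of G. If k_π(G) > (p + 1)|G|_π/(2p), then G has a normal π-complement (a normal subgroup of order prime to π whose index is a π-number) and an abelian Hall π-subgroup. -/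
theorem result {G : Type*} [Group G] [Finite G] (π : Finset ℕ) (hπ : ∀ r ∈ π, r.Prime) (h2 : 2 ∉ π) (p : ℕ) (hp : p ∈ π)
    (hmin : ∀ r ∈ π, p ≤ r) (hk : (p + 1) * π.prod (fun r => r ^ (Nat.card G).factorization r) < 2 * p * Nat.card {c : ConjClasses G // ∀ x ∈ c.carrier, ∀ r : ℕ, r.Prime → r ∣ orderOf x → r ∈ π}) :
    (∃ N : Subgroup G, N.Normal ∧ (∀ r : ℕ, r.Prime → r ∣ Nat.card ↥N → r ∉ π) ∧ ∀ r : ℕ, r.Prime → r ∣ N.index → r ∈ π) ∧ ∃ H : Subgroup G, Cfsg.IsPiHall (↑π : Set ℕ) H ∧ IsMulCommutative ↥H := by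
  classical
  have hdata := sylow_data π hπ h2 p hmin hk
  choose K hKn hKcop hKidx hKcomm using hdata
  obtain ⟨N, hN⟩ : ∃ N : Subgroup G, N = ⨅ r : {r // r ∈ π}, K r.1 r.2 := ⟨_, rfl⟩
  have hNn : N.Normal := by rw [hN]; exact Subgroup.normal_iInf_normal (fun r => hKn r.1 r.2)
  have hNle : ∀ r (hr : r ∈ π), N ≤ K r hr := fun r hr => by
    rw [hN]; exact iInf_le (fun r : {r // r ∈ π} => K r.1 r.2) ⟨r, hr⟩
  have hNcomm : ∀ a b : G, a * b * a⁻¹ * b⁻¹ ∈ N := by
    intro a b; rw [hN, Subgroup.mem_iInf]; intro r; exact hKcomm r.1 r.2 a b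
  have hNord : ∀ q : ℕ, q.Prime → q ∣ Nat.card N → q ∉ π := by
    intro q hq hqd hqπ
    have h1 : Nat.card N ∣ Nat.card (K q hqπ) := Subgroup.card_dvd_of_le (hNle q hqπ)
    have h3 := hKcop q hqπ
    exact (Nat.Prime.coprime_iff_not_dvd hq).mp h3.symm (hqd.trans h1)
  have hNidx : ∀ q : ℕ, q.Prime → q ∣ N.index → q ∈ π := by
    intro q hq hqd
    by_contra hqπ
    haveI : Fact q.Prime := ⟨hq⟩
    rw [Subgroup.index_eq_card] at hqd
    obtain ⟨gb, hgb⟩ := exists_prime_orderOf_dvd_card' q hqd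
    obtain ⟨g, rfl⟩ := QuotientGroup.mk_surjective gb
    have hgq : g ^ q ∈ N := by
      apply (QuotientGroup.eq_one_iff _).mp
      rw [QuotientGroup.mk_pow, ← hgb, pow_orderOf_eq_one]
    have hgN : g ∈ N := by
      rw [hN, Subgroup.mem_iInf]
      rintro ⟨r, hr⟩
      haveI := hKn r hr
      obtain ⟨k, hk'⟩ := hKidx r hr
      apply (QuotientGroup.eq_one_iff _).mp
      have h1 : orderOf ((g : G) : G ⧸ K r hr) ∣ q := by
        apply orderOf_dvd_of_pow_eq_one
        rw [← QuotientGroup.mk_pow]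
        exact (QuotientGroup.eq_one_iff _).mpr (hNle r hr hgq)
      have h2' : orderOf ((g : G) : G ⧸ K r hr) ∣ r ^ k := by
        rw [← hk', Subgroup.index_eq_card]; exact orderOf_dvd_natCard _
      have hqr : q ≠ r := fun h => hqπ (h ▸ hr)
      have hcop : Nat.Coprime q (r ^ k) :=
        Nat.Coprime.pow_right k ((Nat.coprime_primes hq (hπ r hr)).mpr hqr)
      have h3 := Nat.dvd_gcd h1 h2'
      rw [hcop.gcd_eq_one] at h3
      exact orderOf_eq_one_iff.mp (Nat.dvd_one.mp h3)
    have : ((g : G) : G ⧸ N) = 1 := (QuotientGroup.eq_one_iff _).mpr hgN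
    rw [this, orderOf_one] at hgb
    exact hq.one_lt.ne' hgb.symm
  refine ⟨⟨N, hNn, hNord, hNidx⟩, ?_⟩
  have hcop : Nat.Coprime (Nat.card N) N.index := by
    apply Nat.coprime_of_dvd
    intro q hq h1 h2'
    exact hNord q hq h1 (hNidx q hq h2')
  obtain ⟨H, hH⟩ := Subgroup.exists_right_complement'_of_coprime hcop
  have hcard : Nat.card N * Nat.card H = Nat.card G := hH.card_mul_card
  have hHcard : Nat.card H = N.index := by
    have := Subgroup.card_mul_index N
    have hpos : 0 < Nat.card N := Nat.card_pos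
    exact Nat.eq_of_mul_eq_mul_left hpos (by rw [hcard, this])
  have hHidx : H.index = Nat.card N := by
    have := Subgroup.card_mul_index H
    have hpos : 0 < Nat.card H := Nat.card_pos
    exact Nat.eq_of_mul_eq_mul_left hpos (by rw [this, ← hcard, mul_comm])
  refine ⟨H, ⟨?_, ?_⟩, ?_⟩
  · intro q hq hqd
    rw [hHcard] at hqd
    exact hNidx q hq hqd
  · intro q hq hqπ hqd
    rw [hHidx] at hqd
    exact hNord q hq hqd hqπ
  · refine ⟨⟨fun a b => ?_⟩⟩
    have h1 : (a : G) * (b : G) * (a : G)⁻¹ * (b : G)⁻¹ ∈ N := hNcomm a b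
    have h2' : (a : G) * (b : G) * (a : G)⁻¹ * (b : G)⁻¹ ∈ H :=
      H.mul_mem (H.mul_mem (H.mul_mem a.2 b.2) (H.inv_mem a.2)) (H.inv_mem b.2)
    have h3 : (a : G) * (b : G) * (a : G)⁻¹ * (b : G)⁻¹ = 1 := by
      have := hH.disjoint.le_bot ⟨h1, h2'⟩
      exact Subgroup.mem_bot.mp this
    apply Subtype.ext
    have : (a : G) * (b : G) = (b : G) * (a : G) := by
      calc (a : G) * b = ((a : G) * b * (a : G)⁻¹ * (b : G)⁻¹) * (b * a) := by group
        _ = b * a := by rw [h3, one_mul]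
    exact this

end Cfsg.Agent.S3899
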