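import Cfsg.Statements.S3898
import Mathlib
import Cfsg.Agent.S3899

set_option autoImplicit false
open Cfsg

namespace Cfsg.Agent.S3898

open Cfsg Cfsg.Agent.Lib.Helper13 Cfsg.Agent.S3895 Cfsg.Agent.S3897 Cfsg.Agent.S3899

universe u

section Basics

variable {G : Type u} [Group G]

theorem rcomp_conj (r : ℕ) [Fact r.Prime] (g x : G) :
    rcomp r (g * x * g⁻¹) = g * rcomp r x * g⁻¹ := by
  unfold rcomp
  have : orderOf (g * x * g⁻¹) = orderOf x := (MulAut.conj g).orderOf_eq x
  rw [this, conj_pow]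

theorem conj_cancel (a b x : G) (h : a * x * a⁻¹ = a * b * x * (a * b)⁻¹) : b * x = x * b := by
  have h1 : x = b * x * b⁻¹ := by
    calc x = a⁻¹ * (a * x * a⁻¹) * a := by group
      _ = a⁻¹ * (a * b * x * (a * b)⁻¹) * a := by rw [h]
      _ = b * x * b⁻¹ := by group
  calc b * x = (b * x * b⁻¹) * b := by group
    _ = x * b := by rw [← h1]

/-- number of classes of `r`-elements is at most the order of a Sylow `r`-subgroup -/
theorem kp_le (r : ℕ) [Fact r.Prime] (H : Type u) [Group H] [Finite H] :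
    Nat.card (Xp r H) ≤ r ^ (Nat.card H).factorization r := by
  obtain ⟨P⟩ : Nonempty (Sylow r H) := inferInstance
  have h3 := Nat.card_le_card_of_surjective (Cfsg.Agent.S3897.psi P) (Cfsg.Agent.S3897.psi_surj P)
  have h4 : Nat.card (ConjClasses ↥(P : Subgroup H)) ≤ Nat.card ↥(P : Subgroup H) :=
    Nat.card_le_card_of_surjective ConjClasses.mk ConjClasses.mk_surjective
  rw [P.card_eq_multiplicity] at h4
  exact le_trans h3 h4

theorem xf_single_le (r : ℕ) [hr : Fact r.Prime] [Finite G] :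
    Nat.card (XF {r} G) ≤ Nat.card (Xp r G) := by
  have key : ∀ c : XF {r} G, ∀ x ∈ c.1.carrier, ∃ k : ℕ, orderOf x = r ^ k := by
    intro c x hx
    have h := c.2 x hx
    have hpos : orderOf x ≠ 0 := (orderOf_pos x).ne'
    exact ⟨_, Nat.eq_prime_pow_of_unique_prime_dvd hpos
      (fun {d} hd hdvd => Finset.mem_singleton.mp (h d hd hdvd))⟩
  exact Nat.card_le_card_of_injective (fun c : XF {r} G => (⟨c.1, key c⟩ : Xp r G))
    (fun c c' h => Subtype.ext (by have h' := congrArg Subtype.val h; exact h'))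

end Basics

section DualFib

variable {G : Type u} [Group G]

/-- the class of the `r'`-part -/
noncomputable def phi1 (r : ℕ) [Fact r.Prime] : ConjClasses G → ConjClasses G :=
  Quotient.lift (fun x : G => ConjClasses.mk (rcomp r x)) (by
    intro a b hab
    have hab' : IsConj a b := hab
    obtain ⟨g, hg⟩ := isConj_iff.mp hab'
    show ConjClasses.mk (rcomp r a) = ConjClasses.mk (rcomp r b)
    rw [ConjClasses.mk_eq_mk_iff_isConj, ← hg, rcomp_conj]
    exact isConj_iff.mpr ⟨g, rfl⟩)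

theorem phi1_mk (r : ℕ) [Fact r.Prime] (a : G) :
    phi1 r (ConjClasses.mk a) = ConjClasses.mk (rcomp r a) := rfl

noncomputable def Phi1 [Finite G] (τ : Finset ℕ) (r : ℕ) [Fact r.Prime] :
    XF τ G → XF (τ.erase r) G :=
  fun c => ⟨phi1 r c.1, by
    obtain ⟨a, ha⟩ := ConjClasses.exists_rep c.1
    have haτ : ∀ q : ℕ, q.Prime → q ∣ orderOf a → q ∈ τ :=
      c.2 a (by rw [← ha]; exact ConjClasses.mem_carrier_mk)
    rw [← ha, phi1_mk]
    apply mk_isF
    intro q hq hdvd
    obtain ⟨h3, h4⟩ := rcomp_primes r a q hq hdvd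
    exact Finset.mem_erase.mpr ⟨h4, haτ q hq h3⟩⟩

theorem dualfib [Finite G] (τ : Finset ℕ) (r : ℕ) [hr : Fact r.Prime] :
    Nat.card (XF τ G) ≤ r ^ (Nat.card G).factorization r * Nat.card (XF (τ.erase r) G) := by
  classical
  haveI : Fintype (XF τ G) := Fintype.ofFinite _
  haveI : Fintype (XF (τ.erase r) G) := Fintype.ofFinite _
  rw [Nat.card_eq_fintype_card (α := XF τ G), Nat.card_eq_fintype_card (α := XF (τ.erase r) G)]
  have h1 : (Finset.univ : Finset (XF τ G)).card ≤
      r ^ (Nat.card G).factorization r *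
        ((Finset.univ : Finset (XF τ G)).image (Phi1 τ r)).card := by
    apply Finset.card_le_mul_card_image
    intro d _
    obtain ⟨t, ht⟩ := ConjClasses.exists_rep d.1
    haveI : Fintype (Xp r ↥(Subgroup.centralizer ({t} : Set G))) := Fintype.ofFinite _
    have hsub : (Finset.univ.filter (fun c => Phi1 τ r c = d)).image (fun c : XF τ G => c.1) ⊆
        (Finset.univ : Finset (Xp r ↥(Subgroup.centralizer ({t} : Set G)))).image
          (fun u => Psi t u.1) := by
      intro cc hcc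
      obtain ⟨c, hc, rfl⟩ := Finset.mem_image.mp hcc
      have hcd : Phi1 τ r c = d := (Finset.mem_filter.mp hc).2
      obtain ⟨a, ha⟩ := ConjClasses.exists_rep c.1
      have h2 : ConjClasses.mk (rcomp r a) = ConjClasses.mk t := by
        have h3 : phi1 r c.1 = d.1 := congrArg Subtype.val hcd
        rw [← ha, phi1_mk, ← ht] at h3
        exact h3
      rw [ConjClasses.mk_eq_mk_iff_isConj] at h2
      obtain ⟨g, hg⟩ := isConj_iff.mp h2
      obtain ⟨a', ha'⟩ : ∃ a', a' = g * a * g⁻¹ := ⟨_, rfl⟩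
      have hra' : rcomp r a' = t := by rw [ha', rcomp_conj, hg]
      have huC : rpart r a' ∈ Subgroup.centralizer ({t} : Set G) := by
        rw [Subgroup.mem_centralizer_iff]
        intro x hx
        rw [Set.mem_singleton_iff.mp hx, ← hra']
        exact rpart_comm r a'
      have hup : ∃ k : ℕ,
          orderOf (⟨rpart r a', huC⟩ : ↥(Subgroup.centralizer ({t} : Set G))) = r ^ k := by
        obtain ⟨k, hk⟩ := rpart_isp r a'
        exact ⟨k, by rw [Subgroup.orderOf_mk]; exact hk⟩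
      refine Finset.mem_image.mpr
        ⟨⟨ConjClasses.mk ⟨rpart r a', huC⟩, mk_isp hup⟩, Finset.mem_univ _, ?_⟩
      show ConjClasses.mk (t * rpart r a') = c.1
      rw [← hra', rpart_comm, rpart_mul_rcomp, ← ha, ConjClasses.mk_eq_mk_iff_isConj, ha']
      exact (isConj_iff.mpr ⟨g, rfl⟩).symm
    have hinj : Function.Injective (fun c : XF τ G => c.1) := Subtype.val_injective
    calc (Finset.univ.filter (fun c => Phi1 τ r c = d)).card
        = ((Finset.univ.filter (fun c => Phi1 τ r c = d)).image (fun c : XF τ G => c.1)).card :=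
          (Finset.card_image_of_injective _ hinj).symm
      _ ≤ ((Finset.univ : Finset (Xp r ↥(Subgroup.centralizer ({t} : Set G)))).image
            (fun u => Psi t u.1)).card := Finset.card_le_card hsub
      _ ≤ (Finset.univ : Finset (Xp r ↥(Subgroup.centralizer ({t} : Set G)))).card :=
          Finset.card_image_le
      _ = Nat.card (Xp r ↥(Subgroup.centralizer ({t} : Set G))) := by
          rw [Finset.card_univ, Nat.card_eq_fintype_card]
      _ ≤ r ^ (Nat.card ↥(Subgroup.centralizer ({t} : Set G))).factorization r := kp_le r _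
      _ ≤ r ^ (Nat.card G).factorization r := by
          apply Nat.pow_le_pow_right hr.out.pos
          exact (Nat.factorization_le_iff_dvd Nat.card_pos.ne' Nat.card_pos.ne').mpr
            (Subgroup.card_subgroup_dvd_card _) r
  calc Fintype.card (XF τ G) = (Finset.univ : Finset (XF τ G)).card := Finset.card_univ.symm
    _ ≤ r ^ (Nat.card G).factorization r *
        ((Finset.univ : Finset (XF τ G)).image (Phi1 τ r)).card := h1
    _ ≤ r ^ (Nat.card G).factorization r * Fintype.card (XF (τ.erase r) G) :=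
        Nat.mul_le_mul_left _ (Finset.card_le_univ _)

theorem reduce_step [Finite G] (τ : Finset ℕ) (hτ : ∀ q ∈ τ, q.Prime) (r : ℕ) (hr : r ∈ τ)
    (h : piPart τ (Nat.card G) < 2 * Nat.card (XF τ G)) :
    piPart (τ.erase r) (Nat.card G) < 2 * Nat.card (XF (τ.erase r) G) := by
  haveI : Fact r.Prime := ⟨hτ r hr⟩
  have h1 := dualfib (G := G) τ r
  have hsplit : piPart τ (Nat.card G) =
      r ^ (Nat.card G).factorization r * piPart (τ.erase r) (Nat.card G) := by
    unfold piPart; exact (Finset.mul_prod_erase τ _ hr).symm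
  rw [hsplit] at h
  have h2 : r ^ (Nat.card G).factorization r * piPart (τ.erase r) (Nat.card G) <
      r ^ (Nat.card G).factorization r * (2 * Nat.card (XF (τ.erase r) G)) := by
    calc r ^ (Nat.card G).factorization r * piPart (τ.erase r) (Nat.card G)
        < 2 * Nat.card (XF τ G) := h
      _ ≤ 2 * (r ^ (Nat.card G).factorization r * Nat.card (XF (τ.erase r) G)) :=
          Nat.mul_le_mul_left _ h1
      _ = r ^ (Nat.card G).factorization r * (2 * Nat.card (XF (τ.erase r) G)) := by ring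
  exact Nat.lt_of_mul_lt_mul_left h2

theorem reduce [Finite G] (π : Finset ℕ) (hπ : ∀ q ∈ π, q.Prime)
    (h : piPart π (Nat.card G) < 2 * Nat.card (XF π G)) :
    ∀ E : Finset ℕ, E ⊆ π → piPart (π \ E) (Nat.card G) < 2 * Nat.card (XF (π \ E) G) := by
  classical
  intro E
  induction E using Finset.induction_on with
  | empty => intro _; rw [Finset.sdiff_empty]; exact h
  | insert q E hq ih =>
    intro hsub
    have hE : E ⊆ π := fun x hx => hsub (Finset.mem_insert_of_mem hx)
    have hqπ : q ∈ π := hsub (Finset.mem_insert_self q E)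
    have hmem : q ∈ π \ E := Finset.mem_sdiff.mpr ⟨hqπ, hq⟩
    rw [Finset.sdiff_insert]
    exact reduce_step (π \ E) (fun x hx => hπ x (Finset.mem_sdiff.mp hx).1) q hmem (ih hE)

theorem reduce' [Finite G] (π σ : Finset ℕ) (hπ : ∀ q ∈ π, q.Prime) (hσ : σ ⊆ π)
    (h : piPart π (Nat.card G) < 2 * Nat.card (XF π G)) :
    piPart σ (Nat.card G) < 2 * Nat.card (XF σ G) := by
  classical
  have := reduce π hπ h (π \ σ) Finset.sdiff_subset
  rwa [Finset.sdiff_sdiff_eq_self hσ] at this

end DualFib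

section FibSum

variable {G : Type u} [Group G]

theorem fiber_le [Finite G] (τ : Finset ℕ) (r : ℕ) [hr : Fact r.Prime] (d : Xp r G) (s : G)
    (hs : ConjClasses.mk s = d.1) :
    Nat.card {c : XF τ G // Phi τ r c = d} ≤
      Nat.card (XF (τ.erase r) ↥(Subgroup.centralizer ({s} : Set G))) := by
  classical
  have key : ∀ c : {c : XF τ G // Phi τ r c = d},
      ∃ t : XF (τ.erase r) ↥(Subgroup.centralizer ({s} : Set G)), Psi s t.1 = c.1.1 := by
    rintro ⟨c, hcd⟩
    obtain ⟨a, ha⟩ := ConjClasses.exists_rep c.1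
    have haτ : ∀ q : ℕ, q.Prime → q ∣ orderOf a → q ∈ τ :=
      c.2 a (by rw [← ha]; exact ConjClasses.mem_carrier_mk)
    have h2 : ConjClasses.mk (rpart r a) = ConjClasses.mk s := by
      have h3 : phi0 r c.1 = d.1 := congrArg Subtype.val hcd
      rw [← ha, phi0_mk, ← hs] at h3
      exact h3
    rw [ConjClasses.mk_eq_mk_iff_isConj] at h2
    obtain ⟨g, hg⟩ := isConj_iff.mp h2
    obtain ⟨a', ha'⟩ : ∃ a', a' = g * a * g⁻¹ := ⟨_, rfl⟩
    have hra' : rpart r a' = s := by rw [ha', rpart_conj, hg]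
    have hord : orderOf a' = orderOf a := by rw [ha']; exact (MulAut.conj g).orderOf_eq a
    have htC : rcomp r a' ∈ Subgroup.centralizer ({s} : Set G) := by
      rw [Subgroup.mem_centralizer_iff]
      intro x hx
      rw [Set.mem_singleton_iff.mp hx, ← hra']
      exact (rpart_comm r a').symm
    have htτ : ∀ q : ℕ, q.Prime →
        q ∣ orderOf (⟨rcomp r a', htC⟩ : ↥(Subgroup.centralizer ({s} : Set G))) →
          q ∈ τ.erase r := by
      intro q hq hdvd
      rw [Subgroup.orderOf_mk] at hdvd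
      obtain ⟨h3, h4⟩ := rcomp_primes r a' q hq hdvd
      rw [hord] at h3
      exact Finset.mem_erase.mpr ⟨h4, haτ q hq h3⟩
    refine ⟨⟨ConjClasses.mk ⟨rcomp r a', htC⟩, mk_isF htτ⟩, ?_⟩
    show ConjClasses.mk (s * rcomp r a') = c.1
    rw [← hra', rpart_mul_rcomp, ← ha, ConjClasses.mk_eq_mk_iff_isConj, ha']
    exact (isConj_iff.mpr ⟨g, rfl⟩).symm
  choose g hg using key
  apply Nat.card_le_card_of_injective g
  intro c c' h
  apply Subtype.ext
  apply Subtype.ext
  rw [← hg c, ← hg c', h]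

theorem fibsum [Finite G] (r : ℕ) [hr : Fact r.Prime] (hr2 : r ≠ 2) (P : Sylow 2 G) :
    ∃ a : ℕ, a ≤ Nat.card (Xp r ↥(Subgroup.centralizer ((P : Subgroup G) : Set G))) ∧
      a ≤ Nat.card (Xp r G) ∧
      2 * Nat.card (XF ({2, r} : Finset ℕ) G) ≤
        2 ^ (Nat.card G).factorization 2 * (Nat.card (Xp r G) + a) := by
  classical
  haveI : Fintype (Xp r G) := Fintype.ofFinite _
  obtain ⟨C, hC⟩ : ∃ C : Subgroup G, C = Subgroup.centralizer ((P : Subgroup G) : Set G) :=
    ⟨_, rfl⟩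
  rw [← hC]
  haveI : Fintype (Xp r ↥C) := Fintype.ofFinite _
  obtain ⟨v, hv⟩ : ∃ v, v = (Nat.card G).factorization 2 := ⟨_, rfl⟩
  rw [← hv]
  obtain ⟨τ, hτ⟩ : ∃ τ : Finset ℕ, τ = {2, r} := ⟨_, rfl⟩
  rw [← hτ]
  have herase : τ.erase r = {2} := by
    rw [hτ]
    ext x
    simp only [Finset.mem_erase, Finset.mem_insert, Finset.mem_singleton]
    constructor
    · rintro ⟨h1, h2 | h2⟩
      · exact h2
      · exact absurd h2 h1
    · intro h
      exact ⟨by rw [h]; exact fun h' => hr2 h'.symm, Or.inl h⟩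
  obtain ⟨A, hA⟩ : ∃ A : Finset (Xp r G), A = Finset.univ.filter
    (fun d => ∃ s : G, ConjClasses.mk s = d.1 ∧ s ∈ C) := ⟨_, rfl⟩
  refine ⟨A.card, ?_, ?_, ?_⟩
  · let θ : Xp r ↥C → Xp r G := fun c => ⟨ConjClasses.map C.subtype c.1, by
      obtain ⟨b, hb⟩ := ConjClasses.exists_rep c.1
      obtain ⟨k, hk⟩ := c.2 b (by rw [← hb]; exact ConjClasses.mem_carrier_mk)
      rw [← hb]
      show ∀ x ∈ (ConjClasses.mk ((b : ↥C) : G)).carrier, _
      apply mk_isp
      exact ⟨k, by rw [Subgroup.orderOf_coe]; exact hk⟩⟩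
    have hsub : A ⊆ Finset.univ.image θ := by
      intro d hd
      rw [hA] at hd
      obtain ⟨s, hs, hsC⟩ := (Finset.mem_filter.mp hd).2
      obtain ⟨k, hk⟩ := d.2 s (by rw [← hs]; exact ConjClasses.mem_carrier_mk)
      have hk' : ∃ k : ℕ, orderOf (⟨s, hsC⟩ : ↥C) = r ^ k :=
        ⟨k, by rw [Subgroup.orderOf_mk]; exact hk⟩
      refine Finset.mem_image.mpr
        ⟨⟨ConjClasses.mk ⟨s, hsC⟩, mk_isp hk'⟩, Finset.mem_univ _, ?_⟩
      apply Subtype.ext
      exact hs
    calc A.card ≤ (Finset.univ.image θ).card := Finset.card_le_card hsub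
      _ ≤ (Finset.univ : Finset (Xp r ↥C)).card := Finset.card_image_le
      _ = Nat.card (Xp r ↥C) := by rw [Finset.card_univ, Nat.card_eq_fintype_card]
  · rw [Nat.card_eq_fintype_card]
    exact Finset.card_le_univ _
  · have hsum : Nat.card (XF τ G) =
        ∑ d : Xp r G, Nat.card {c : XF τ G // Phi τ r c = d} := by
      rw [← Nat.card_sigma]
      exact Nat.card_congr (Equiv.sigmaFiberEquiv (Phi τ r)).symm
    have hbound : ∀ d : Xp r G, 2 * Nat.card {c : XF τ G // Phi τ r c = d} ≤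
        2 ^ v + (if d ∈ A then 2 ^ v else 0) := by
      intro d
      obtain ⟨s, hs⟩ := ConjClasses.exists_rep d.1
      have h1 := fiber_le τ r d s hs
      rw [herase] at h1
      have h2 := k_le ({2} : Finset ℕ)
        (by intro q hq; rw [Finset.mem_singleton.mp hq]; exact Nat.prime_two)
        ↥(Subgroup.centralizer ({s} : Set G))
      have h3 : piPart ({2} : Finset ℕ) (Nat.card ↥(Subgroup.centralizer ({s} : Set G))) =
          2 ^ (Nat.card ↥(Subgroup.centralizer ({s} : Set G))).factorization 2 := by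
        unfold piPart; rw [Finset.prod_singleton]
      rw [h3] at h2
      have h4 : (Nat.card ↥(Subgroup.centralizer ({s} : Set G))).factorization 2 ≤ v := by
        rw [hv]
        exact (Nat.factorization_le_iff_dvd Nat.card_pos.ne' Nat.card_pos.ne').mpr
          (Subgroup.card_subgroup_dvd_card _) 2
      by_cases hdA : d ∈ A
      · rw [if_pos hdA]
        have h5 : 2 ^ (Nat.card ↥(Subgroup.centralizer ({s} : Set G))).factorization 2 ≤ 2 ^ v :=
          Nat.pow_le_pow_right two_pos h4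
        calc 2 * Nat.card {c : XF τ G // Phi τ r c = d} ≤ 2 * 2 ^ v :=
              Nat.mul_le_mul_left _ (h1.trans (h2.trans h5))
          _ = 2 ^ v + 2 ^ v := two_mul _
      · rw [if_neg hdA, add_zero]
        have h5 : (Nat.card ↥(Subgroup.centralizer ({s} : Set G))).factorization 2 < v := by
          by_contra hnot
          push Not at hnot
          have heq : (Nat.card ↥(Subgroup.centralizer ({s} : Set G))).factorization 2 = v :=
            le_antisymm h4 hnot
          apply hdA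
          rw [hA, Finset.mem_filter]
          refine ⟨Finset.mem_univ _, ?_⟩
          have hdiv : 2 ^ v ∣ Nat.card ↥(Subgroup.centralizer ({s} : Set G)) := by
            rw [← heq]; exact Nat.ordProj_dvd _ _
          obtain ⟨K0, hK0⟩ := Sylow.exists_subgroup_card_pow_prime 2 hdiv
          obtain ⟨H0, hH0⟩ : ∃ H0 : Subgroup G,
            H0 = K0.map (Subgroup.centralizer ({s} : Set G)).subtype := ⟨_, rfl⟩
          have hH0card : Nat.card H0 = 2 ^ v := by
            rw [hH0, Subgroup.card_map_of_injective (Subgroup.subtype_injective _), hK0]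
          have hH0p : IsPGroup 2 H0 := IsPGroup.of_card hH0card
          have hH0le : H0 ≤ Subgroup.centralizer ({s} : Set G) := by
            rw [hH0]; exact Subgroup.map_subtype_le K0
          have hidx : ¬ 2 ∣ H0.relIndex ⊤ := by
            rw [Subgroup.relIndex_top_right]
            have h6 := Subgroup.card_mul_index H0
            rw [hH0card] at h6
            have h7 : H0.index = Nat.card G / 2 ^ v :=
              (Nat.div_eq_of_eq_mul_right (pow_pos two_pos v) h6.symm).symm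
            rw [h7, hv]
            exact Nat.not_dvd_ordCompl Nat.prime_two Nat.card_pos.ne'
          obtain ⟨h, -, hh⟩ := exists_conj_le_of_relIndex ⊤ H0 (P : Subgroup G) hH0p hidx le_top
            P.isPGroup'
          refine ⟨h⁻¹ * s * h, ?_, ?_⟩
          · rw [← hs, ConjClasses.mk_eq_mk_iff_isConj]
            exact (isConj_iff.mpr ⟨h⁻¹, by rw [inv_inv]⟩ : IsConj s (h⁻¹ * s * h)).symm
          · rw [hC, Subgroup.mem_centralizer_iff]
            intro q hq
            have h8 := hH0le (hh q hq)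
            rw [Subgroup.mem_centralizer_iff] at h8
            have e : s * (h * q * h⁻¹) = (h * q * h⁻¹) * s := h8 s (Set.mem_singleton s)
            calc q * (h⁻¹ * s * h) = h⁻¹ * ((h * q * h⁻¹) * s) * h := by group
              _ = h⁻¹ * (s * (h * q * h⁻¹)) * h := by rw [e]
              _ = h⁻¹ * s * h * q := by group
        have h6 : 2 * 2 ^ (Nat.card ↥(Subgroup.centralizer ({s} : Set G))).factorization 2 ≤
            2 ^ v := by
          rw [← pow_succ']
          exact Nat.pow_le_pow_right two_pos h5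
        calc 2 * Nat.card {c : XF τ G // Phi τ r c = d}
            ≤ 2 * 2 ^ (Nat.card ↥(Subgroup.centralizer ({s} : Set G))).factorization 2 :=
              Nat.mul_le_mul_left _ (h1.trans h2)
          _ ≤ 2 ^ v := h6
    have hA' : ∑ d : Xp r G, (2 ^ v + (if d ∈ A then 2 ^ v else 0)) =
        2 ^ v * (Nat.card (Xp r G) + A.card) := by
      rw [Finset.sum_add_distrib, Finset.sum_const, Finset.sum_ite_mem, Finset.univ_inter,
        Finset.sum_const, Finset.card_univ, Nat.card_eq_fintype_card, smul_eq_mul, smul_eq_mul]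
      ring
    calc 2 * Nat.card (XF τ G)
        = ∑ d : Xp r G, 2 * Nat.card {c : XF τ G // Phi τ r c = d} := by
          rw [hsum, Finset.mul_sum]
      _ ≤ ∑ d : Xp r G, (2 ^ v + (if d ∈ A then 2 ^ v else 0)) :=
          Finset.sum_le_sum (fun d _ => hbound d)
      _ = 2 ^ v * (Nat.card (Xp r G) + A.card) := hA'

end FibSum

section Count

open Classical

variable {G : Type u} [Group G] [Fintype G] {p : ℕ} [hpf : Fact p.Prime]

theorem copies (Qf R R1 : Finset G) (hRQ : R ⊆ Qf) (hR1 : R1 ⊆ R)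
    (hR : ∀ x ∈ R, ∀ y ∈ R, IsConj x y → x = y) (c : ℕ) (f : ℕ → G → G)
    (hf : ∀ x ∈ R1, ∀ j < c, f j x ∈ Qf ∧ IsConj x (f j x))
    (hdist : ∀ x ∈ R1, ∀ i < c, ∀ j < c, f i x = f j x → i = j) :
    c * R1.card + (R \ R1).card ≤ Qf.card := by
  obtain ⟨I, hI⟩ : ∃ I : Finset G, I = (R1 ×ˢ Finset.range c).image (fun z => f z.2 z.1) :=
    ⟨_, rfl⟩
  have hIcard : I.card = c * R1.card := by
    rw [hI, Finset.card_image_of_injOn, Finset.card_product, Finset.card_range, mul_comm]
    intro z hz z' hz' hzz'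
    rw [Finset.mem_coe, Finset.mem_product, Finset.mem_range] at hz hz'
    have hzz : f z.2 z.1 = f z'.2 z'.1 := hzz'
    have h1 := (hf z.1 hz.1 z.2 hz.2).2
    have h2 := (hf z'.1 hz'.1 z'.2 hz'.2).2
    have hconj : IsConj z.1 z'.1 := by
      rw [hzz] at h1
      exact h1.trans h2.symm
    have hx : z.1 = z'.1 := hR z.1 (hR1 hz.1) z'.1 (hR1 hz'.1) hconj
    have hj : z.2 = z'.2 := by
      apply hdist z.1 hz.1 z.2 hz.2 z'.2 hz'.2
      rw [hzz, hx]
    exact Prod.ext hx hj
  have hd : Disjoint I (R \ R1) := by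
    rw [Finset.disjoint_left]
    intro y hy hy'
    rw [hI] at hy
    obtain ⟨z, hz, rfl⟩ := Finset.mem_image.mp hy
    rw [Finset.mem_product, Finset.mem_range] at hz
    have h1 := (hf z.1 hz.1 z.2 hz.2).2
    obtain ⟨hyR, hyR1⟩ := Finset.mem_sdiff.mp hy'
    have h2 : z.1 = f z.2 z.1 := hR z.1 (hR1 hz.1) _ hyR h1
    apply hyR1
    rw [← h2]
    exact hz.1
  have hsub : I ∪ (R \ R1) ⊆ Qf := by
    intro y hy
    rcases Finset.mem_union.mp hy with hy | hy
    · rw [hI] at hy
      obtain ⟨z, hz, rfl⟩ := Finset.mem_image.mp hy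
      rw [Finset.mem_product, Finset.mem_range] at hz
      exact (hf z.1 hz.1 z.2 hz.2).1
    · exact hRQ (Finset.mem_sdiff.mp hy).1
  have := Finset.card_le_card hsub
  rw [Finset.card_union_of_disjoint hd, hIcard] at this
  exact this

theorem nonabelian_count (Q : Sylow p G) (hp2 : p ≠ 2)
    (hne : ¬ (Q : Subgroup G) ≤ ZP (Q : Subgroup G)) :
    2 * Nat.card (Xp p G) < Nat.card (Q : Subgroup G) := by
  have hp : p.Prime := hpf.out
  have hp3 : 3 ≤ p := by have := hp.two_le; omega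
  obtain ⟨R, hRP, hR, hRcard, -⟩ := count_core_p Q
  obtain ⟨QQ, hQQ⟩ : ∃ QQ : Subgroup G, QQ = (Q : Subgroup G) := ⟨_, rfl⟩
  rw [← hQQ] at hne hRP ⊢
  obtain ⟨Z, hZ⟩ : ∃ Z : Subgroup G, Z = ZP QQ := ⟨_, rfl⟩
  have hex : ∀ x : G, ∃ g : G, (x ∈ QQ ∧ x ∉ Z) → (g ∈ QQ ∧ g * x * g⁻¹ ≠ x) := by
    intro x
    by_cases h : x ∈ QQ ∧ x ∉ Z
    · rw [hZ] at h
      obtain ⟨g, hg1, hg2⟩ := exists_conj_ne QQ h.1 h.2
      exact ⟨g, fun _ => ⟨hg1, hg2⟩⟩
    · exact ⟨1, fun h' => absurd h' h⟩
  choose gg hgg using hex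
  obtain ⟨f, hf⟩ : ∃ f : ℕ → G → G, f = fun j x => gg x ^ j * x * (gg x ^ j)⁻¹ := ⟨_, rfl⟩
  obtain ⟨Qf, hQf⟩ : ∃ Qf : Finset G, Qf = Finset.univ.filter (· ∈ QQ) := ⟨_, rfl⟩
  obtain ⟨Zf, hZf⟩ : ∃ Zf : Finset G, Zf = Finset.univ.filter (· ∈ Z) := ⟨_, rfl⟩
  obtain ⟨R1, hR1⟩ : ∃ R1 : Finset G, R1 = R.filter (· ∉ Z) := ⟨_, rfl⟩
  have hRQ : R ⊆ Qf := fun x hx => by
    rw [hQf, Finset.mem_filter]; exact ⟨Finset.mem_univ _, hRP x hx⟩
  have hR1R : R1 ⊆ R := by rw [hR1]; exact Finset.filter_subset _ _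
  have hmem : ∀ x ∈ R1, x ∈ QQ ∧ x ∉ Z := fun x hx => by
    rw [hR1] at hx
    exact ⟨hRP x (Finset.mem_filter.mp hx).1, (Finset.mem_filter.mp hx).2⟩
  have hodd : ∀ x ∈ R1, ∀ δ : ℕ, 0 < δ → δ < 3 → ¬ (gg x ^ δ * x = x * gg x ^ δ) := by
    intro x hx δ hδ0 hδ3 hcomm
    obtain ⟨hgQ, hgne⟩ := hgg x (hmem x hx)
    apply hgne
    have hcg : Commute (gg x) x := by
      interval_cases δ
      · rw [pow_one] at hcomm; exact hcomm
      · have hgQ' : gg x ∈ (Q : Subgroup G) := by rw [← hQQ]; exact hgQ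
        obtain ⟨k, hk⟩ := Q.isPGroup' ⟨gg x, hgQ'⟩
        have hk' : gg x ^ p ^ k = 1 := by
          have := congrArg Subtype.val hk
          simpa using this
        have hoddN : Odd (p ^ k) := (hp.odd_of_ne_two hp2).pow
        obtain ⟨t, ht⟩ := hoddN
        have h1 : (gg x ^ 2) ^ (t + 1) = gg x := by
          rw [← pow_mul]
          have : 2 * (t + 1) = p ^ k + 1 := by omega
          rw [this, pow_succ, hk', one_mul]
        have h2 : Commute (gg x ^ 2) x := hcomm
        have h3 := h2.pow_left (t + 1)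
        rw [h1] at h3
        exact h3
    calc gg x * x * (gg x)⁻¹ = x * gg x * (gg x)⁻¹ := by rw [hcg.eq]
      _ = x := by group
  have hd1 : ∀ x ∈ R1, ∀ i j : ℕ, i < j → j < 3 → f i x ≠ f j x := by
    intro x hx i j hij hj3 heq
    obtain ⟨δ, rfl⟩ : ∃ δ, j = i + δ := ⟨j - i, by omega⟩
    apply hodd x hx δ (by omega) (by omega)
    apply conj_cancel (gg x ^ i) (gg x ^ δ) x
    rw [← pow_add]
    rw [hf] at heq
    exact heq
  have hcop := copies Qf R R1 hRQ hR1R hR 3 f
    (by
      intro x hx j _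
      obtain ⟨hxQ, hxZ⟩ := hmem x hx
      obtain ⟨hgQ, -⟩ := hgg x ⟨hxQ, hxZ⟩
      rw [hf]
      refine ⟨?_, isConj_iff.mpr ⟨gg x ^ j, rfl⟩⟩
      rw [hQf, Finset.mem_filter]
      exact ⟨Finset.mem_univ _, QQ.mul_mem (QQ.mul_mem (QQ.pow_mem hgQ j) hxQ)
        (QQ.inv_mem (QQ.pow_mem hgQ j))⟩)
    (by
      intro x hx i hi j hj heq
      rcases lt_trichotomy i j with h | h | h
      · exact absurd heq (hd1 x hx i j h hj)
      · exact h
      · exact absurd heq.symm (hd1 x hx j i h hi))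
  have hS : (R \ R1).card ≤ Zf.card := by
    apply Finset.card_le_card
    intro x hx
    obtain ⟨hxR, hxR1⟩ := Finset.mem_sdiff.mp hx
    rw [hZf, Finset.mem_filter]
    refine ⟨Finset.mem_univ _, ?_⟩
    by_contra hxZ
    apply hxR1
    rw [hR1, Finset.mem_filter]
    exact ⟨hxR, hxZ⟩
  have hsplit := Finset.card_sdiff_add_card_eq_card hR1R
  have hic := index_center_sq Q (by rw [← hQQ]; exact hne)
  rw [← hQQ, ← hZ, card_eq_filter Z, ← hZf] at hic
  have hQcard : Nat.card QQ = Qf.card := by rw [hQf]; exact card_eq_filter QQ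
  rw [hQcard, ← hRcard]
  have h9 : 9 * Zf.card ≤ Qf.card := by
    rw [← hQcard]
    have : 9 ≤ p ^ 2 := by nlinarith
    calc 9 * Zf.card ≤ p ^ 2 * Zf.card := Nat.mul_le_mul_right _ this
      _ ≤ Nat.card QQ := hic
  have hQpos : 0 < Qf.card := by rw [← hQcard]; exact Nat.card_pos
  omega

theorem fusion_count' (Q : Sylow p G) (R : Finset G) (hRP : ∀ x ∈ R, x ∈ (Q : Subgroup G))
    (hR : ∀ x ∈ R, ∀ y ∈ R, IsConj x y → x = y)
    (n : G) (hn : n ∈ Subgroup.normalizer ((Q : Subgroup G) : Set G)) (u₀ : G)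
    (hu₀ : u₀ ∈ (Q : Subgroup G)) (hne : n * u₀ * n⁻¹ ≠ u₀)
    (c' t : ℕ) (ht : ∀ u ∈ (Q : Subgroup G), n ^ t * u = u * n ^ t)
    (hcop : ∀ δ : ℕ, 0 < δ → δ < c' + 1 → Nat.Coprime δ t) :
    (c' + 1) * p * R.card ≤ (p + c') * Nat.card (Q : Subgroup G) := by
  have hp : p.Prime := hpf.out
  obtain ⟨PP, hPP⟩ : ∃ PP : Subgroup G, PP = (Q : Subgroup G) := ⟨_, rfl⟩
  rw [← hPP] at hRP hu₀ ht ⊢
  have hn' : ∀ h : G, h ∈ PP ↔ n * h * n⁻¹ ∈ PP := by
    rw [hPP]; exact Subgroup.mem_normalizer_iff.mp hn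
  obtain ⟨P0, hP0def⟩ : ∃ P0 : Subgroup G, P0 = PP ⊓ Subgroup.centralizer ({n} : Set G) :=
    ⟨_, rfl⟩
  have hle : P0 ≤ PP := by rw [hP0def]; exact inf_le_left
  have hP0 : ∀ v, v ∈ P0 ↔ v ∈ PP ∧ n * v * n⁻¹ = v := by
    intro v
    rw [hP0def, Subgroup.mem_inf, Subgroup.mem_centralizer_iff]
    constructor
    · rintro ⟨h1, h2⟩
      refine ⟨h1, ?_⟩
      rw [h2 n (Set.mem_singleton n)]; group
    · rintro ⟨h1, h2⟩
      refine ⟨h1, fun x hx => ?_⟩
      rw [Set.mem_singleton_iff.mp hx]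
      calc n * v = (n * v * n⁻¹) * n := by group
        _ = v * n := by rw [h2]
  have a3 : p * Nat.card P0 ≤ Nat.card PP := by
    have hmul : Nat.card P0 * P0.relIndex PP = Nat.card PP := card_mul_relIndex_of_le hle
    obtain ⟨a, ha⟩ := Q.isPGroup'.exists_card_eq
    rw [← hPP] at ha
    have hj : P0.relIndex PP ∣ p ^ a := by
      rw [← ha]; exact Dvd.intro_left _ hmul
    obtain ⟨b, _, hb⟩ := (Nat.dvd_prime_pow hp).mp hj
    have hb1 : 1 ≤ b := by
      by_contra hlt
      push Not at hlt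
      interval_cases b
      rw [pow_zero, Subgroup.relIndex_eq_one] at hb
      exact hne ((hP0 u₀).mp (hb hu₀)).2
    calc p * Nat.card P0 = p ^ 1 * Nat.card P0 := by rw [pow_one]
      _ ≤ p ^ b * Nat.card P0 := Nat.mul_le_mul_right _ (Nat.pow_le_pow_right hp.pos hb1)
      _ = Nat.card PP := by rw [← hb, mul_comm, hmul]
  obtain ⟨Pf, hPf⟩ : ∃ Pf : Finset G, Pf = Finset.univ.filter (· ∈ PP) := ⟨_, rfl⟩
  obtain ⟨P0f, hP0f⟩ : ∃ P0f : Finset G, P0f = Finset.univ.filter (· ∈ P0) := ⟨_, rfl⟩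
  obtain ⟨R1, hR1⟩ : ∃ R1 : Finset G, R1 = R.filter (· ∉ P0) := ⟨_, rfl⟩
  obtain ⟨f, hf⟩ : ∃ f : ℕ → G → G, f = fun j x => n ^ j * x * (n ^ j)⁻¹ := ⟨_, rfl⟩
  have hRQ : R ⊆ Pf := fun x hx => by
    rw [hPf, Finset.mem_filter]; exact ⟨Finset.mem_univ _, hRP x hx⟩
  have hR1R : R1 ⊆ R := by rw [hR1]; exact Finset.filter_subset _ _
  have hmem : ∀ x ∈ R1, x ∈ PP ∧ x ∉ P0 := fun x hx => by
    rw [hR1] at hx
    exact ⟨hRP x (Finset.mem_filter.mp hx).1, (Finset.mem_filter.mp hx).2⟩
  have hpowmem : ∀ j : ℕ, ∀ x ∈ PP, n ^ j * x * (n ^ j)⁻¹ ∈ PP := by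
    intro j
    induction j with
    | zero => intro x hx; simpa using hx
    | succ j ih =>
      intro x hx
      have h1 := (hn' _).mp (ih x hx)
      have e : n ^ (j + 1) * x * (n ^ (j + 1))⁻¹ = n * (n ^ j * x * (n ^ j)⁻¹) * n⁻¹ := by
        rw [pow_succ']; group
      rw [e]; exact h1
  have hd1 : ∀ x ∈ R1, ∀ i j : ℕ, i < j → j < c' + 1 → f i x ≠ f j x := by
    intro x hx i j hij hjc heq
    obtain ⟨δ, rfl⟩ : ∃ δ, j = i + δ := ⟨j - i, by omega⟩
    obtain ⟨hxP, hx0⟩ := hmem x hx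
    apply hx0
    have h1 : n ^ δ * x = x * n ^ δ := by
      apply conj_cancel (n ^ i) (n ^ δ) x
      rw [← pow_add]
      rw [hf] at heq
      exact heq
    have hcd : Nat.Coprime δ t := hcop δ (by omega) (by omega)
    obtain ⟨a, b, hab⟩ := Nat.isCoprime_iff_coprime.mpr hcd
    have hc1 : Commute (n ^ δ) x := h1
    have hc2 : Commute (n ^ t) x := ht x hxP
    have hn1 : n = (n ^ δ) ^ a * (n ^ t) ^ b := by
      rw [← zpow_natCast n δ, ← zpow_natCast n t, ← zpow_mul, ← zpow_mul, ← zpow_add]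
      have : (δ : ℤ) * a + (t : ℤ) * b = 1 := by rw [← hab]; ring
      rw [this, zpow_one]
    have hc3 : Commute n x := by
      rw [hn1]
      exact (hc1.zpow_left a).mul_left (hc2.zpow_left b)
    rw [hP0]
    refine ⟨hxP, ?_⟩
    calc n * x * n⁻¹ = x * n * n⁻¹ := by rw [hc3.eq]
      _ = x := by group
  have hcopies := copies Pf R R1 hRQ hR1R hR (c' + 1) f
    (by
      intro x hx j _
      obtain ⟨hxP, -⟩ := hmem x hx
      rw [hf]
      refine ⟨?_, isConj_iff.mpr ⟨n ^ j, rfl⟩⟩
      rw [hPf, Finset.mem_filter]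
      exact ⟨Finset.mem_univ _, hpowmem j x hxP⟩)
    (by
      intro x hx i hi j hj heq
      rcases lt_trichotomy i j with h | h | h
      · exact absurd heq (hd1 x hx i j h hj)
      · exact h
      · exact absurd heq.symm (hd1 x hx j i h hi))
  have hS : (R \ R1).card ≤ P0f.card := by
    apply Finset.card_le_card
    intro x hx
    obtain ⟨hxR, hxR1⟩ := Finset.mem_sdiff.mp hx
    rw [hP0f, Finset.mem_filter]
    refine ⟨Finset.mem_univ _, ?_⟩
    by_contra hxZ
    apply hxR1
    rw [hR1, Finset.mem_filter]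
    exact ⟨hxR, hxZ⟩
  have hsplit := Finset.card_sdiff_add_card_eq_card hR1R
  have hQcard : Nat.card PP = Pf.card := by rw [hPf]; exact card_eq_filter PP
  have hP0card : Nat.card P0 = P0f.card := by rw [hP0f]; exact card_eq_filter P0
  rw [hQcard, hP0card] at a3
  rw [hQcard]
  calc (c' + 1) * p * R.card
      = p * ((c' + 1) * R1.card + (R \ R1).card) + c' * (p * (R \ R1).card) := by
        rw [← hsplit]; ring
    _ ≤ p * Pf.card + c' * (p * P0f.card) :=
        Nat.add_le_add (Nat.mul_le_mul_left _ hcopies)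
          (Nat.mul_le_mul_left _ (Nat.mul_le_mul_left _ hS))
    _ ≤ p * Pf.card + c' * Pf.card := Nat.add_le_add_left (Nat.mul_le_mul_left _ a3) _
    _ = (p + c') * Pf.card := by ring

end Count

section Main

variable {G : Type u} [Group G]

theorem odd_prime_main [Finite G] (r : ℕ) [hr : Fact r.Prime] (hr2 : r ≠ 2)
    (hk : piPart ({2, r} : Finset ℕ) (Nat.card G) < 2 * Nat.card (XF ({2, r} : Finset ℕ) G))
    (Q : Sylow r G) :
    (r + 1) * Nat.card (Q : Subgroup G) < 2 * r * Nat.card (Xp r G) := by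
  classical
  haveI := Fintype.ofFinite G
  have hrp : r.Prime := hr.out
  have hr3 : 3 ≤ r := by have := hrp.two_le; omega
  by_contra hcon
  push Not at hcon
  obtain ⟨P⟩ : Nonempty (Sylow 2 G) := inferInstance
  obtain ⟨a, ha1, ha2, ha3⟩ := fibsum r hr2 P
  obtain ⟨n, hn⟩ : ∃ n, n = Nat.card G := ⟨_, rfl⟩
  obtain ⟨m, hm⟩ : ∃ m, m = Nat.card (Xp r G) := ⟨_, rfl⟩
  obtain ⟨Qn, hQn⟩ : ∃ Qn, Qn = r ^ n.factorization r := ⟨_, rfl⟩
  obtain ⟨Pn, hPn⟩ : ∃ Pn, Pn = 2 ^ n.factorization 2 := ⟨_, rfl⟩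
  have hQcard : ∀ Q' : Sylow r G, Nat.card (Q' : Subgroup G) = Qn := fun Q' => by
    rw [hQn, hn]; exact Q'.card_eq_multiplicity
  have hQnpos : 0 < Qn := by rw [hQn]; exact pow_pos hrp.pos _
  have hPnpos : 0 < Pn := by rw [hPn]; exact pow_pos two_pos _
  have hsplit : piPart ({2, r} : Finset ℕ) n = Pn * Qn := by
    unfold piPart
    rw [Finset.prod_insert (by rw [Finset.mem_singleton]; exact fun h => hr2 h.symm),
      Finset.prod_singleton, hPn, hQn]
  rw [← hn, hsplit] at hk
  rw [← hn, ← hPn, ← hm] at ha3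
  rw [← hm] at ha2 hcon
  rw [hQcard Q] at hcon
  have hstar : Qn < m + a := by
    have h1 : Pn * Qn < Pn * (m + a) := lt_of_lt_of_le hk ha3
    exact Nat.lt_of_mul_lt_mul_left h1
  obtain ⟨C, hC⟩ : ∃ C : Subgroup G, C = Subgroup.centralizer ((P : Subgroup G) : Set G) :=
    ⟨_, rfl⟩
  rw [← hC] at ha1
  have hkp := kp_le r ↥C
  by_cases hdiv : Qn ∣ Nat.card ↥C
  swap
  · -- few 2-central classes
    obtain ⟨e, he⟩ : ∃ e, e = (Nat.card ↥C).factorization r := ⟨_, rfl⟩
    rw [← he] at hkp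
    have hef : e ≤ n.factorization r := by
      rw [he, hn]
      exact (Nat.factorization_le_iff_dvd Nat.card_pos.ne' Nat.card_pos.ne').mpr
        (Subgroup.card_subgroup_dvd_card _) r
    have hne : e ≠ n.factorization r := by
      intro h
      apply hdiv
      rw [hQn, ← h, he]
      exact Nat.ordProj_dvd _ _
    have h1 : r ^ e * r ≤ Qn := by
      rw [hQn, ← pow_succ]
      exact Nat.pow_le_pow_right hrp.pos (by omega)
    have h2 : a * r ≤ Qn := le_trans (Nat.mul_le_mul_right _ (ha1.trans hkp)) h1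
    have h3 : 2 * r * Qn < 2 * r * (m + a) :=
      Nat.mul_lt_mul_of_pos_left hstar (by positivity)
    have h4 : 3 * Qn ≤ r * Qn := Nat.mul_le_mul_right _ hr3
    nlinarith
  · -- a Sylow `r`-subgroup centralized by `P`
    obtain ⟨K0, hK0⟩ := Sylow.exists_subgroup_card_pow_prime (G := ↥C) r
      (n := n.factorization r) (by rw [← hQn]; exact hdiv)
    obtain ⟨H1, hH1⟩ : ∃ H1 : Subgroup G, H1 = K0.map C.subtype := ⟨_, rfl⟩
    have hH1card : Nat.card H1 = r ^ (Nat.card G).factorization r := by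
      rw [hH1, Subgroup.card_map_of_injective (Subgroup.subtype_injective _), hK0, hn]
    have hH1C : H1 ≤ C := by rw [hH1]; exact Subgroup.map_subtype_le K0
    obtain ⟨Q1, hQ1⟩ : ∃ Q1 : Sylow r G, (Q1 : Subgroup G) = H1 :=
      ⟨Sylow.ofCard H1 hH1card, Sylow.coe_ofCard H1 hH1card⟩
    have hQ1C : (Q1 : Subgroup G) ≤ C := by rw [hQ1]; exact hH1C
    have hPC1 : (P : Subgroup G) ≤ Subgroup.centralizer ((Q1 : Subgroup G) : Set G) := by
      intro x hx
      rw [Subgroup.mem_centralizer_iff]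
      intro q hq
      have h1 := hQ1C hq
      rw [hC, Subgroup.mem_centralizer_iff] at h1
      exact (h1 x hx).symm
    have hkey : 2 * m < Qn := by
      by_cases hab : (Q1 : Subgroup G) ≤ ZP (Q1 : Subgroup G)
      · have hcommQ1 : IsMulCommutative ↥(Q1 : Subgroup G) :=
          ⟨⟨fun a b => Subtype.ext ((mem_ZP.mp (hab b.2)).2 a a.2)⟩⟩
        have hQ1C1 : (Q1 : Subgroup G) ≤ Subgroup.centralizer ((Q1 : Subgroup G) : Set G) :=
          fun x hx => (Subgroup.mem_inf.mp (hab hx)).2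
        by_cases hfus : ∃ n₀ ∈ Subgroup.normalizer ((Q1 : Subgroup G) : Set G),
            ∃ u ∈ (Q1 : Subgroup G), n₀ * u * n₀⁻¹ ≠ u
        · obtain ⟨n₀, hn₀, u, hu, hne⟩ := hfus
          obtain ⟨R, hRP, hR, hRcard, -⟩ := count_core_p Q1
          obtain ⟨t, ht⟩ : ∃ t, t = (Subgroup.centralizer ((Q1 : Subgroup G) : Set G)).relIndex
            (Subgroup.normalizer ((Q1 : Subgroup G) : Set G)) := ⟨_, rfl⟩
          have hCN := Subgroup.centralizer_le_normalizer ((Q1 : Subgroup G) : Set G)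
          have hpow : n₀ ^ t ∈ Subgroup.centralizer ((Q1 : Subgroup G) : Set G) := by
            have h1 := Subgroup.pow_index_mem
              ((Subgroup.centralizer ((Q1 : Subgroup G) : Set G)).subgroupOf
                (Subgroup.normalizer ((Q1 : Subgroup G) : Set G))) ⟨n₀, hn₀⟩
            rw [Subgroup.mem_subgroupOf, Subgroup.coe_pow] at h1
            rw [ht]
            exact h1
          have htdvd : t ∣ (Subgroup.centralizer ((Q1 : Subgroup G) : Set G)).index := by
            rw [ht, ← Subgroup.relIndex_mul_index hCN]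
            exact Dvd.intro _ rfl
          have ht2 : ¬ 2 ∣ t := fun h =>
            P.not_dvd_index ((h.trans htdvd).trans (Subgroup.index_dvd_of_le hPC1))
          have htr : ¬ r ∣ t := fun h =>
            Q1.not_dvd_index ((h.trans htdvd).trans (Subgroup.index_dvd_of_le hQ1C1))
          have hcomm_t : ∀ u ∈ (Q1 : Subgroup G), n₀ ^ t * u = u * n₀ ^ t := by
            intro u hu
            rw [Subgroup.mem_centralizer_iff] at hpow
            exact (hpow u hu).symm
          have hc2 : Nat.Coprime 2 t := (Nat.Prime.coprime_iff_not_dvd Nat.prime_two).mpr ht2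
          have hmR : R.card = m := by rw [hRcard, hm]
          by_cases h3 : r = 3
          · have hc3 : Nat.Coprime 3 t :=
              (Nat.Prime.coprime_iff_not_dvd Nat.prime_three).mpr (h3 ▸ htr)
            have hcount := fusion_count' Q1 R hRP hR n₀ hn₀ u hu hne 4 t hcomm_t (by
              intro δ h0 h5
              interval_cases δ
              · exact Nat.coprime_one_left t
              · exact hc2
              · exact hc3
              · have : (4 : ℕ) = 2 ^ 2 := by norm_num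
                rw [this]
                exact Nat.Coprime.pow_left 2 hc2)
            rw [hQcard Q1, hmR, h3] at hcount
            omega
          · have hr5 : 5 ≤ r := by
              have h4 : r ≠ 4 := by
                rintro rfl
                exact absurd hrp (by norm_num)
              omega
            have hcount := fusion_count' Q1 R hRP hR n₀ hn₀ u hu hne 2 t hcomm_t (by
              intro δ h0 h5
              interval_cases δ
              · exact Nat.coprime_one_left t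
              · exact hc2)
            rw [hQcard Q1, hmR] at hcount
            by_contra hle
            push Not at hle
            have h5 : 3 * r * Qn ≤ 3 * r * (2 * m) := Nat.mul_le_mul_left _ hle
            have h6 : 5 * Qn ≤ r * Qn := Nat.mul_le_mul_right _ hr5
            nlinarith
        · -- Burnside
          push Not at hfus
          have hP : Subgroup.normalizer ((Q1 : Subgroup G) : Set G) ≤
              Subgroup.centralizer ((Q1 : Subgroup G) : Set G) := by
            intro n₀ hn₀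
            rw [Subgroup.mem_centralizer_iff]
            intro h hh
            have := hfus n₀ hn₀ h hh
            calc h * n₀ = (n₀ * h * n₀⁻¹) * n₀ := by rw [this]
              _ = n₀ * h := by group
          have hnpc : HasNormalPComplement r G :=
            ⟨Q1, (MonoidHom.transferSylow Q1 hP).ker, inferInstance,
              MonoidHom.ker_transferSylow_isComplement' Q1 hP⟩
          have h1 := (Cfsg.Agent.S3897.result hr2 Q1).mpr ⟨hnpc, hcommQ1⟩
          rw [hQcard Q1] at h1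
          exfalso
          have h2 : (r + 1) * Qn < 2 * r * m := by rw [hm]; exact h1
          omega
      · have h1 := nonabelian_count Q1 hr2 hab
        rw [hQcard Q1, ← hm] at h1
        exact h1
    omega

theorem prime_data [Finite G] (π : Finset ℕ) (hπ : ∀ r ∈ π, r.Prime) (h2 : 2 ∈ π)
    (hk : piPart π (Nat.card G) < 2 * Nat.card (XF π G)) (r : ℕ) (hr : r ∈ π) :
    ∃ K : Subgroup G, K.Normal ∧ (Nat.card K).Coprime r ∧ (∃ k : ℕ, K.index = r ^ k) ∧
      (r ≠ 2 → ∀ a b : G, a * b * a⁻¹ * b⁻¹ ∈ K) := by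
  classical
  by_cases hr2 : r = 2
  · subst hr2
    have h := reduce' π {2} hπ
      (by intro x hx; rw [Finset.mem_singleton.mp hx]; exact h2) hk
    have h3 : piPart ({2} : Finset ℕ) (Nat.card G) = 2 ^ (Nat.card G).factorization 2 := by
      unfold piPart; rw [Finset.prod_singleton]
    obtain ⟨P⟩ : Nonempty (Sylow 2 G) := inferInstance
    have h4 : Nat.card (P : Subgroup G) < 2 * Nat.card (X2 G) := by
      rw [P.card_eq_multiplicity, ← h3]
      exact lt_of_lt_of_le h (Nat.mul_le_mul_left _ (xf_single_le 2))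
    obtain ⟨P', K, hKn, hK⟩ := main _ G rfl P h4
    obtain ⟨hcop, k, hk'⟩ := coprime_and_index_of_isComplement' K P' hK
    exact ⟨K, hKn, hcop, ⟨k, hk'⟩, fun h => absurd rfl h⟩
  · haveI : Fact r.Prime := ⟨hπ r hr⟩
    have hsub : ({2, r} : Finset ℕ) ⊆ π := by
      intro x hx
      rcases Finset.mem_insert.mp hx with h | h
      · rw [h]; exact h2
      · rw [Finset.mem_singleton.mp h]; exact hr
    have h := reduce' π {2, r} hπ hsub hk
    have hineq : ∀ Q : Sylow r G,
        (r + 1) * Nat.card (Q : Subgroup G) < 2 * r * Nat.card (Xp r G) :=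
      fun Q => odd_prime_main r hr2 h Q
    obtain ⟨P0⟩ : Nonempty (Sylow r G) := inferInstance
    obtain ⟨⟨P', K, hKn, hK⟩, _⟩ := (Cfsg.Agent.S3897.result hr2 P0).mp (hineq P0)
    have hcommP' : IsMulCommutative ↥(P' : Subgroup G) :=
      ((Cfsg.Agent.S3897.result hr2 P').mp (hineq P')).2
    obtain ⟨hcop, k, hk'⟩ := coprime_and_index_of_isComplement' K P' hK
    refine ⟨K, hKn, hcop, ⟨k, hk'⟩, fun _ => ?_⟩
    intro a b
    haveI := hKn
    obtain ⟨⟨ka, sa⟩, hsa⟩ := hK.2 a
    obtain ⟨⟨kb, sb⟩, hsb⟩ := hK.2 b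
    have hsa' : (ka : G) * (sa : G) = a := hsa
    have hsb' : (kb : G) * (sb : G) = b := hsb
    have hcomm : (sa : G) * (sb : G) = (sb : G) * (sa : G) :=
      congrArg Subtype.val (hcommP'.is_comm.comm sa sb)
    apply (QuotientGroup.eq_one_iff _).mp
    have h1 : ((ka : G) : G ⧸ K) = 1 := (QuotientGroup.eq_one_iff _).mpr ka.2
    have h2' : ((kb : G) : G ⧸ K) = 1 := (QuotientGroup.eq_one_iff _).mpr kb.2
    rw [← hsa', ← hsb']
    simp only [QuotientGroup.mk_mul, QuotientGroup.mk_inv, h1, h2', one_mul]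
    rw [← QuotientGroup.mk_mul, hcomm, QuotientGroup.mk_mul]
    group

theorem assemble [Finite G] (σ : Finset ℕ) (hσ : ∀ r ∈ σ, r.Prime)
    (K : ∀ r, r ∈ σ → Subgroup G) (hKn : ∀ r hr, (K r hr).Normal)
    (hKcop : ∀ r hr, (Nat.card (K r hr)).Coprime r)
    (hKidx : ∀ r hr, ∃ k : ℕ, (K r hr).index = r ^ k) :
    ∃ N : Subgroup G, N.Normal ∧ (∀ g : G, (∀ r hr, g ∈ K r hr) → g ∈ N) ∧
      (∀ q : ℕ, q.Prime → q ∣ Nat.card N → q ∉ σ) ∧
      ∀ q : ℕ, q.Prime → q ∣ N.index → q ∈ σ := by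
  obtain ⟨N, hN⟩ : ∃ N : Subgroup G, N = ⨅ r : {r // r ∈ σ}, K r.1 r.2 := ⟨_, rfl⟩
  have hNn : N.Normal := by rw [hN]; exact Subgroup.normal_iInf_normal (fun r => hKn r.1 r.2)
  have hNle : ∀ r (hr : r ∈ σ), N ≤ K r hr := fun r hr => by
    rw [hN]; exact iInf_le (fun r : {r // r ∈ σ} => K r.1 r.2) ⟨r, hr⟩
  refine ⟨N, hNn, ?_, ?_, ?_⟩
  · intro g hg
    rw [hN, Subgroup.mem_iInf]
    rintro ⟨r, hr⟩
    exact hg r hr
  · intro q hq hqd hqσ
    have h1 : Nat.card N ∣ Nat.card (K q hqσ) := Subgroup.card_dvd_of_le (hNle q hqσ)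
    have h3 := hKcop q hqσ
    exact (Nat.Prime.coprime_iff_not_dvd hq).mp h3.symm (hqd.trans h1)
  · intro q hq hqd
    by_contra hqσ
    haveI : Fact q.Prime := ⟨hq⟩
    haveI := hNn
    rw [Subgroup.index_eq_card] at hqd
    obtain ⟨gb, hgb⟩ := exists_prime_orderOf_dvd_card' q hqd
    obtain ⟨g, rfl⟩ := QuotientGroup.mk_surjective gb
    have hgq : g ^ q ∈ N := by
      apply (QuotientGroup.eq_one_iff _).mp
      rw [QuotientGroup.mk_pow, ← hgb, pow_orderOf_eq_one]
    have hgN : g ∈ N := by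
      rw [hN, Subgroup.mem_iInf]
      rintro ⟨r, hr⟩
      haveI := hKn r hr
      obtain ⟨k, hk'⟩ := hKidx r hr
      apply (QuotientGroup.eq_one_iff _).mp
      have h1 : orderOf ((g : G) : G ⧸ K r hr) ∣ q := by
        apply orderOf_dvd_of_pow_eq_one
        rw [← QuotientGroup.mk_pow]
        exact (QuotientGroup.eq_one_iff _).mpr (hNle r hr hgq)
      have h2' : orderOf ((g : G) : G ⧸ K r hr) ∣ r ^ k := by
        rw [← hk', Subgroup.index_eq_card]; exact orderOf_dvd_natCard _
      have hqr : q ≠ r := fun h => hqσ (h ▸ hr)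
      have hcop : Nat.Coprime q (r ^ k) :=
        Nat.Coprime.pow_right k ((Nat.coprime_primes hq (hσ r hr)).mpr hqr)
      have h3 := Nat.dvd_gcd h1 h2'
      rw [hcop.gcd_eq_one] at h3
      exact orderOf_eq_one_iff.mp (Nat.dvd_one.mp h3)
    have : ((g : G) : G ⧸ N) = 1 := (QuotientGroup.eq_one_iff _).mpr hgN
    rw [this, orderOf_one] at hgb
    exact hq.one_lt.ne' hgb.symm

theorem hall_of [Finite G] (S : Set ℕ) (N : Subgroup G) (hNn : N.Normal)
    (hNord : ∀ q : ℕ, q.Prime → q ∣ Nat.card N → q ∉ S)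
    (hNidx : ∀ q : ℕ, q.Prime → q ∣ N.index → q ∈ S)
    (hNcomm : ∀ a b : G, a * b * a⁻¹ * b⁻¹ ∈ N) :
    ∃ H : Subgroup G, Cfsg.IsPiHall S H ∧ IsMulCommutative ↥H := by
  haveI := hNn
  have hcop : Nat.Coprime (Nat.card N) N.index := by
    apply Nat.coprime_of_dvd
    intro q hq h1 h2'
    exact hNord q hq h1 (hNidx q hq h2')
  obtain ⟨H, hH⟩ := Subgroup.exists_right_complement'_of_coprime hcop
  have hcard : Nat.card N * Nat.card H = Nat.card G := hH.card_mul_card
  have hHcard : Nat.card H = N.index := by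
    have := Subgroup.card_mul_index N
    have hpos : 0 < Nat.card N := Nat.card_pos
    exact Nat.eq_of_mul_eq_mul_left hpos (by rw [hcard, this])
  have hHidx : H.index = Nat.card N := by
    have := Subgroup.card_mul_index H
    have hpos : 0 < Nat.card H := Nat.card_pos
    exact Nat.eq_of_mul_eq_mul_left hpos (by rw [this, ← hcard, mul_comm])
  refine ⟨H, ⟨?_, ?_⟩, ?_⟩
  · intro q hq hqd
    rw [hHcard] at hqd
    exact hNidx q hq hqd
  · intro q hq hqS hqd
    rw [hHidx] at hqd
    exact hNord q hq hqd hqS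
  · refine ⟨⟨fun a b => ?_⟩⟩
    have h1 : (a : G) * (b : G) * (a : G)⁻¹ * (b : G)⁻¹ ∈ N := hNcomm a b
    have h2' : (a : G) * (b : G) * (a : G)⁻¹ * (b : G)⁻¹ ∈ H :=
      H.mul_mem (H.mul_mem (H.mul_mem a.2 b.2) (H.inv_mem a.2)) (H.inv_mem b.2)
    have h3 : (a : G) * (b : G) * (a : G)⁻¹ * (b : G)⁻¹ = 1 := by
      have := hH.disjoint.le_bot ⟨h1, h2'⟩
      exact Subgroup.mem_bot.mp this
    apply Subtype.ext
    have : (a : G) * (b : G) = (b : G) * (a : G) := by
      calc (a : G) * b = ((a : G) * b * (a : G)⁻¹ * (b : G)⁻¹) * (b * a) := by group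
        _ = b * a := by rw [h3, one_mul]
    exact this

end Main

/-- Let π be a finite set of primes containing 2 and G a finite group. Write k_π(G) for the number of conjugacy classes of G consisting of π-elements (elements all of whose order's prime divisors lie in π) and |G|_π for the π-part of the order of G. If k_π(G) > |G|_π/2, then G has a normal π-complement (a normal subgroup of order prime to π whose index is a π-number) and an abelian Hall subgroup for the set of odd primes in π. -/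
theorem result {G : Type*} [Group G] [Finite G] (π : Finset ℕ) (hπ : ∀ r ∈ π, r.Prime) (h2 : 2 ∈ π)
    (hk : π.prod (fun r => r ^ (Nat.card G).factorization r) < 2 * Nat.card {c : ConjClasses G // ∀ x ∈ c.carrier, ∀ r : ℕ, r.Prime → r ∣ orderOf x → r ∈ π}) :
    (∃ N : Subgroup G, N.Normal ∧ (∀ r : ℕ, r.Prime → r ∣ Nat.card ↥N → r ∉ π) ∧ ∀ r : ℕ, r.Prime → r ∣ N.index → r ∈ π) ∧ ∃ H : Subgroup G, Cfsg.IsPiHall ((↑π : Set ℕ) \ {2}) H ∧ IsMulCommutative ↥H := by
  classical
  have hk' : piPart π (Nat.card G) < 2 * Nat.card (XF π G) := hk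
  have hdata := prime_data π hπ h2 hk'
  choose K hKn hKcop hKidx hKcomm using hdata
  obtain ⟨N, hNn, -, hNord, hNidx⟩ := assemble π hπ K hKn hKcop hKidx
  refine ⟨⟨N, hNn, hNord, hNidx⟩, ?_⟩
  have hσ : ∀ r ∈ π.erase 2, r.Prime := fun r hr => hπ r (Finset.mem_of_mem_erase hr)
  obtain ⟨N', hN'n, hN'mem, hN'ord, hN'idx⟩ := assemble (π.erase 2) hσ
    (fun r hr => K r (Finset.mem_of_mem_erase hr)) (fun r hr => hKn r _)
    (fun r hr => hKcop r _) (fun r hr => hKidx r _)
  apply hall_of ((↑π : Set ℕ) \ {2}) N' hN'n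
  · intro q hq hd hmem
    apply hN'ord q hq hd
    exact Finset.mem_erase.mpr
      ⟨fun h2' => hmem.2 (Set.mem_singleton_iff.mpr h2'), Finset.mem_coe.mp hmem.1⟩
  · intro q hq hd
    have h := hN'idx q hq hd
    exact ⟨Finset.mem_coe.mpr (Finset.mem_of_mem_erase h),
      fun h' => (Finset.mem_erase.mp h).1 (Set.mem_singleton_iff.mp h')⟩
  · intro a b
    apply hN'mem
    intro r hr
    exact hKcomm r (Finset.mem_of_mem_erase hr) (Finset.mem_erase.mp hr).1 a b

end Cfsg.Agent.S3898
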