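import Cfsg.Statements.S3904
import Mathlib
import Cfsg.Agent.Lib.Helper21.MaxCent4

set_option autoImplicit false
open Cfsg

namespace Cfsg.Agent.S3904

open scoped commutatorElement
open Cfsg.Agent.Lib.Helper21.MaxCent

/-- the structure of a centreless group all of whose centralizers are maximal -/
theorem structure_of_top {Q : Type*} [Group Q] [Finite Q] (hCH : CHyp (⊤ : Subgroup Q))
    (hnt : (⊤ : Subgroup Q) ≠ ⊥) :
    ¬ IsMulCommutative Q ∧ (∀ H : Subgroup Q, H ≠ ⊤ → IsMulCommutative ↥H) ∧
      ∃ p q a : ℕ, p.Prime ∧ q.Prime ∧ p ≠ q ∧ Nat.card Q = p ^ a * q ∧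
        ∀ P : Subgroup Q, Nat.card ↥P = p ^ a → P.Normal := by
  obtain ⟨V, L, r, q, hV, -, hr, hq, hab, hVr, -, hLq, hVL, hsup, hfpf, hMV⟩ :=
    centerless_structure hCH hnt
  haveI hVn := hV.normal
  rw [top_inf_eq] at hMV
  have hcenter : ∀ y : Q, (∀ g : Q, g * y = y * g) → y = 1 := by
    intro y hy
    apply hCH.trivial_center y (Subgroup.mem_top y)
    rw [Subgroup.mem_centralizer_iff]
    intro g _
    exact hy g
  have hnc : ¬ IsMulCommutative Q := by
    intro hc
    apply hnt
    rw [eq_bot_iff]
    intro y _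
    rw [Subgroup.mem_bot]
    exact hcenter y (fun g => hc.is_comm.comm g y)
  -- index of V
  have hidx : V.index = q := by
    have h1 := Cfsg.Agent.Lib.Helper23.relIndex_sup_of_le_normalizer
      (le_normalizer_of_normal (K := L) (A := V))
    rw [hsup, Subgroup.relIndex_top_right] at h1
    rw [h1, ← Subgroup.inf_relIndex_right, hVL, Subgroup.relIndex_bot_left, hLq]
  have hVco : IsCoatom V := by
    constructor
    · intro e
      rw [e, Subgroup.index_top] at hidx
      exact hq.one_lt.ne hidx
    · intro K hK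
      have h1 : K.index ∣ V.index := Subgroup.index_dvd_of_le hK.le
      rw [hidx] at h1
      rcases (Nat.dvd_prime hq).mp h1 with e | e
      · exact Subgroup.index_eq_one.mp e
      · exfalso
        have h2 : Nat.card ↥V = Nat.card ↥K := by
          have e1 := Subgroup.card_mul_index V
          have e2 := Subgroup.card_mul_index K
          rw [hidx] at e1
          rw [e] at e2
          exact Nat.eq_of_mul_eq_mul_right hq.pos (e1.trans e2.symm)
        exact hK.ne (Subgroup.eq_of_le_of_card_ge hK.le h2.ge)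
  have hQVcard : Nat.card (Q ⧸ V) = q := by rw [← Subgroup.index_eq_card, hidx]
  have hQVcomm : ∀ a b : Q ⧸ V, a * b = b * a := by
    haveI : Fact q.Prime := ⟨hq⟩
    haveI := isCyclic_of_prime_card hQVcard
    intro a b
    exact (IsCyclic.commGroup (α := Q ⧸ V)).mul_comm a b
  have hcommV : ∀ a b : Q, (a * b)⁻¹ * (b * a) ∈ V := by
    intro a b
    rw [← QuotientGroup.eq, QuotientGroup.mk_mul, QuotientGroup.mk_mul]
    exact hQVcomm _ _
  refine ⟨hnc, ?_, ?_⟩
  · intro H hH
    by_cases hHV : H ≤ V
    · exact ⟨⟨fun a b => Subtype.ext (hab _ (hHV a.2) _ (hHV b.2))⟩⟩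
    · have htop : H ⊔ V = ⊤ := by
        apply hVco.2
        refine lt_of_le_of_ne le_sup_right (fun e => hHV ?_)
        rw [e]; exact le_sup_left
      have hKn : (H ⊓ V).Normal := by
        rw [← Subgroup.normalizer_eq_top_iff, eq_top_iff, ← htop]
        apply sup_le
        · rw [inf_comm]; exact centralizer_le_normalizer_inf V H
        · refine le_trans ?_ (Subgroup.centralizer_le_normalizer _)
          intro v hv
          rw [Subgroup.mem_centralizer_iff]
          intro k hk
          exact hab k hk.2 v hv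
      have hHV0 : H ⊓ V = ⊥ := by
        rcases hV.min _ hKn inf_le_right with e | e
        · exact e
        · exfalso
          have hVH : V ≤ H := by rw [← e]; exact inf_le_left
          rcases eq_or_lt_of_le hVH with e' | e'
          · exact hHV (e' ▸ le_refl _)
          · exact hH (hVco.2 H e')
      refine ⟨⟨fun a b => Subtype.ext ?_⟩⟩
      have h1 : ((a : Q) * b)⁻¹ * (b * a) ∈ H ⊓ V :=
        ⟨H.mul_mem (H.inv_mem (H.mul_mem a.2 b.2)) (H.mul_mem b.2 a.2), hcommV a b⟩
      rw [hHV0, Subgroup.mem_bot] at h1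
      have h2 : (b : Q) * a = a * b := by
        have h3 := inv_mul_eq_one.mp h1
        exact h3.symm
      exact h2.symm
  · haveI : Fact r.Prime := ⟨hr⟩
    have hVp : IsPGroup r ↥V := by
      intro v
      refine ⟨1, Subtype.ext ?_⟩
      rw [pow_one]
      exact hVr v v.2
    obtain ⟨a, ha⟩ := hVp.exists_card_eq
    have hcard : Nat.card Q = r ^ a * q := by
      rw [← Subgroup.card_mul_index V, ha, hidx]
    have hrq : r ≠ q := by
      intro e
      have hQp : IsPGroup r Q := by
        apply IsPGroup.of_card (n := a + 1)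
        rw [hcard, ← e, pow_succ]
      haveI : Nontrivial Q := by
        by_contra hnn
        rw [not_nontrivial_iff_subsingleton] at hnn
        exact hnt (Subsingleton.elim _ _)
      have h1 := hQp.center_nontrivial
      obtain ⟨⟨y, hy⟩, hy1⟩ := exists_ne (1 : ↥(Subgroup.center Q))
      apply hy1
      apply Subtype.ext
      exact hcenter y (fun g => Subgroup.mem_center_iff.mp hy g)
    refine ⟨r, q, a, hr, hq, hrq, hcard, ?_⟩
    intro P hP
    have hPV : P ≤ V := by
      intro g hg
      have h1 : orderOf (⟨g, hg⟩ : ↥P) ∣ r ^ a := by rw [← hP]; exact orderOf_dvd_natCard _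
      rw [Subgroup.orderOf_mk] at h1
      have h2 : orderOf (g : Q ⧸ V) ∣ orderOf g := orderOf_dvd_of_pow_eq_one (by
        rw [← QuotientGroup.mk_pow, pow_orderOf_eq_one]; rfl)
      have h3 : orderOf (g : Q ⧸ V) ∣ q := by rw [← hQVcard]; exact orderOf_dvd_natCard _
      have h4 : orderOf (g : Q ⧸ V) = 1 := by
        have hcop : Nat.Coprime (r ^ a) q :=
          Nat.Coprime.pow_left a ((Nat.coprime_primes hr hq).mpr hrq)
        exact Nat.eq_one_of_dvd_coprimes hcop (h2.trans h1) h3
      exact (QuotientGroup.eq_one_iff g).mp (orderOf_eq_one_iff.mp h4)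
    have : P = V := Subgroup.eq_of_le_of_card_ge hPV (by rw [hP, ha])
    rw [this]; exact hVn

/-- Let G be a non-abelian finite group in which the centralizer of every non-central element is a maximal subgroup. Then G/Z(G) is either an elementary abelian p-group for some prime p, or a minimal non-abelian group (non-abelian with all proper subgroups abelian) of order p^a · q for distinct primes p, q with a normal Sylow p-subgroup. -/
theorem result {G : Type*} [Group G] [Finite G] (hna : ¬ IsMulCommutative G)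
    (h : ∀ x : G, x ∉ Subgroup.center G → IsCoatom (Subgroup.centralizer ({x} : Set G))) :
    (∃ p : ℕ, p.Prime ∧ Cfsg.IsElementaryAbelian p (⊤ : Subgroup (G ⧸ Subgroup.center G))) ∨
    (¬ IsMulCommutative (G ⧸ Subgroup.center G) ∧ (∀ H : Subgroup (G ⧸ Subgroup.center G), H ≠ ⊤ → IsMulCommutative ↥H) ∧
      ∃ p q a : ℕ, p.Prime ∧ q.Prime ∧ p ≠ q ∧ Nat.card (G ⧸ Subgroup.center G) = p ^ a * q ∧
        ∀ P : Subgroup (G ⧸ Subgroup.center G), Nat.card ↥P = p ^ a → P.Normal) := by
  have hcent : Subgroup.centralizer (((⊤ : Subgroup G) : Subgroup G) : Set G) = Subgroup.center G := by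
    rw [Subgroup.coe_top, Subgroup.centralizer_univ]
  have hHyp : Hyp (⊤ : Subgroup G) := by
    intro x _ hx
    rw [hcent] at hx
    exact h x hx
  obtain ⟨x0, hx0⟩ : ∃ x0 : G, x0 ∉ Subgroup.center G := by
    by_contra hcon
    push Not at hcon
    exact hna ⟨⟨fun a b => (Subgroup.mem_center_iff.mp (hcon b) a)⟩⟩
  by_cases hI : ∃ z : G, z ∉ Subgroup.center G ∧ ∀ n : G, ⁅z, n⁆ ∈ Subgroup.center G
  · left
    obtain ⟨z, hzC, hzW⟩ := hI
    have hc2 := classTwo_of_W2 (⊤ : Subgroup G) hHyp (z := z)
      ⟨Subgroup.mem_top z, fun n _ => by rw [hcent]; exact hzW n⟩ (by rw [hcent]; exact hzC)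
    apply elemAb_quotient (Subgroup.center G)
    · intro a b
      have := hc2 a (Subgroup.mem_top a) b (Subgroup.mem_top b)
      rwa [hcent] at this
    · intro x hx
      obtain ⟨p, hp, hxp⟩ := exists_prime_pow_mem (⊤ : Subgroup G) hHyp hc2 (Subgroup.mem_top x)
        (by rw [hcent]; exact hx)
      refine ⟨p, hp, ?_⟩
      rwa [hcent] at hxp
  · right
    have hII : ∀ z ∈ (⊤ : Subgroup G),
        (∀ n ∈ (⊤ : Subgroup G), ⁅z, n⁆ ∈ Subgroup.centralizer (((⊤ : Subgroup G) : Subgroup G) : Set G)) →
        z ∈ Subgroup.centralizer (((⊤ : Subgroup G) : Subgroup G) : Set G) := by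
      intro z _ hzW
      rw [hcent] at hzW ⊢
      by_contra hzC
      exact hI ⟨z, hzC, fun n => hzW n (Subgroup.mem_top n)⟩
    have hZ : Subgroup.center G =
        (⊤ : Subgroup G) ⊓ Subgroup.centralizer (((⊤ : Subgroup G) : Subgroup G) : Set G) := by
      rw [hcent, top_inf_eq]
    have hCH := reduction (⊤ : Subgroup G) hHyp (Subgroup.center G) hZ hII
    rw [Subgroup.map_top_of_surjective _ (QuotientGroup.mk'_surjective _)] at hCH
    apply structure_of_top hCH
    intro e
    apply hx0
    have h1 : (QuotientGroup.mk' (Subgroup.center G)) x0 ∈ (⊤ : Subgroup (G ⧸ Subgroup.center G)) :=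
      Subgroup.mem_top _
    rw [e, Subgroup.mem_bot] at h1
    exact (QuotientGroup.eq_one_iff x0).mp h1

end Cfsg.Agent.S3904
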