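import Cfsg.Statements.S3905
import Mathlib
import Cfsg.Agent.Lib.Helper21.MaxCent4

set_option autoImplicit false
open Cfsg

namespace Cfsg.Agent.S3905

open scoped commutatorElement
open Cfsg.Agent.Lib.Helper21.MaxCent

theorem mem_center_iff' {G : Type*} [Group G] (N : Subgroup G) (a : ↥N) :
    a ∈ Subgroup.center ↥N ↔ (a : G) ∈ Subgroup.centralizer (N : Set G) := by
  rw [Subgroup.mem_center_iff, Subgroup.mem_centralizer_iff]
  constructor
  · intro h n hn
    exact congrArg Subtype.val (h ⟨n, hn⟩)
  · intro h g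
    exact Subtype.ext (h g g.2)

/-- Let N be a normal subgroup of the finite group G such that for every element x of N outside the center of N the centralizer C_G(x) is a maximal subgroup of G. Then N/Z(N) is either an elementary abelian p-group for some prime p, or a Frobenius group whose kernel is an elementary abelian normal subgroup and whose complement has prime order. -/
theorem result {G : Type*} [Group G] [Finite G] (N : Subgroup G) [N.Normal]
    (h : ∀ x : G, x ∈ N → x ∉ Subgroup.centralizer (N : Set G) → IsCoatom (Subgroup.centralizer ({x} : Set G))) :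
    (∃ p : ℕ, p.Prime ∧ Cfsg.IsElementaryAbelian p (⊤ : Subgroup (↥N ⧸ Subgroup.center ↥N))) ∨
    (∃ (Q K : Subgroup (↥N ⧸ Subgroup.center ↥N)) (p : ℕ), p.Prime ∧ Cfsg.IsFrobeniusComplement Q ∧ (Nat.card ↥Q).Prime ∧
      K.Normal ∧ (K : Set (↥N ⧸ Subgroup.center ↥N)) = Cfsg.frobeniusKernel Q ∧ Cfsg.IsElementaryAbelian p K) := by
  have hN : N.Normal := inferInstance
  have hHyp : Hyp N := h
  by_cases hNab : ∀ x ∈ N, x ∈ Subgroup.centralizer (N : Set G)
  · left
    apply elemAb_quotient (Subgroup.center ↥N)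
    · intro a b
      have ha : a ∈ Subgroup.center ↥N := (mem_center_iff' N a).mpr (hNab a a.2)
      have : ⁅a, b⁆ = 1 := by
        rw [commutatorElement_eq_one_iff_commute]
        exact (Subgroup.mem_center_iff.mp ha b).symm
      rw [this]; exact Subgroup.one_mem _
    · intro x hx
      exact absurd ((mem_center_iff' N x).mpr (hNab x x.2)) hx
  push Not at hNab
  obtain ⟨x0, hx0, hx0C⟩ := hNab
  by_cases hI : ∃ z ∈ N, z ∉ Subgroup.centralizer (N : Set G) ∧
      ∀ n ∈ N, ⁅z, n⁆ ∈ Subgroup.centralizer (N : Set G)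
  · left
    obtain ⟨z, hz, hzC, hzW⟩ := hI
    have hc2 := classTwo_of_W2 N hHyp (z := z) ⟨hz, hzW⟩ hzC
    apply elemAb_quotient (Subgroup.center ↥N)
    · intro a b
      rw [mem_center_iff']
      exact hc2 a a.2 b b.2
    · intro x hx
      have hxC : (x : G) ∉ Subgroup.centralizer (N : Set G) := fun hc =>
        hx ((mem_center_iff' N x).mpr hc)
      obtain ⟨p, hp, hxp⟩ := exists_prime_pow_mem N hHyp hc2 x.2 hxC
      refine ⟨p, hp, ?_⟩
      rw [mem_center_iff']
      exact hxp
  · right
    have hII : ∀ z ∈ N, (∀ n ∈ N, ⁅z, n⁆ ∈ Subgroup.centralizer (N : Set G)) →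
        z ∈ Subgroup.centralizer (N : Set G) := by
      intro z hz hzW
      by_contra hzC
      exact hI ⟨z, hz, hzC, hzW⟩
    set Z : Subgroup G := N ⊓ Subgroup.centralizer (N : Set G) with hZ
    haveI hZn : Z.Normal := by rw [hZ]; infer_instance
    have hCH := reduction N hHyp Z hZ hII
    haveI hN₁n : (N.map (QuotientGroup.mk' Z)).Normal :=
      hN.map _ (QuotientGroup.mk'_surjective Z)
    have hN₁0 : N.map (QuotientGroup.mk' Z) ≠ ⊥ := by
      intro e
      have h1 : (QuotientGroup.mk' Z) x0 ∈ N.map (QuotientGroup.mk' Z) := ⟨x0, hx0, rfl⟩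
      rw [e, Subgroup.mem_bot] at h1
      have h2 : x0 ∈ Z := (QuotientGroup.eq_one_iff x0).mp h1
      exact hx0C h2.2
    obtain ⟨V, L, r, q, hV, hVN, hr, hq, hab, hVr, hLN, hLq, hVL, hsup, hfpf, -⟩ :=
      centerless_structure hCH hN₁0
    haveI := hV.normal
    -- the embedding of the abstract quotient
    have hker : Subgroup.center ↥N ≤ ((QuotientGroup.mk' Z).comp N.subtype).ker := by
      intro a ha
      rw [MonoidHom.mem_ker]
      have : (a : G) ∈ Z := ⟨a.2, (mem_center_iff' N a).mp ha⟩
      exact (QuotientGroup.eq_one_iff (a : G)).mpr this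
    let φ : ↥N ⧸ Subgroup.center ↥N →* G ⧸ Z :=
      QuotientGroup.lift (Subgroup.center ↥N) ((QuotientGroup.mk' Z).comp N.subtype) hker
    have hφ : Function.Injective φ := by
      rw [injective_iff_map_eq_one]
      intro y hy
      induction y using QuotientGroup.induction_on with
      | H a =>
      have h1 : (QuotientGroup.mk' Z) (a : G) = 1 := hy
      have h2 : (a : G) ∈ Z := (QuotientGroup.eq_one_iff (a : G)).mp h1
      exact (QuotientGroup.eq_one_iff a).mpr ((mem_center_iff' N a).mpr h2.2)
    have hrange : φ.range = N.map (QuotientGroup.mk' Z) := by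
      ext y
      constructor
      · rintro ⟨t, rfl⟩
        induction t using QuotientGroup.induction_on with
        | H a => exact ⟨(a : G), a.2, rfl⟩
      · rintro ⟨n, hn, rfl⟩
        exact ⟨QuotientGroup.mk (⟨n, hn⟩ : ↥N), rfl⟩
    exact frobenius_transport φ hφ V L hr hq hV.ne_bot hab hVr hLq hVL (hsup.trans hrange.symm) hfpf

end Cfsg.Agent.S3905
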