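import Cfsg.Statements.S3910
import Mathlib
import Cfsg.Agent.S3909
import Cfsg.Agent.Lib.Helper10.FittingHall

set_option autoImplicit false
open Cfsg

namespace Cfsg.Agent.S3910

open Nat in
theorem exists_orderOf_eq_lcm_of_nilpotent {G : Type*} [Group G] [Finite G] [Group.IsNilpotent G]
    (x y : G) : ∃ g : G, orderOf g = Nat.lcm (orderOf x) (orderOf y) := by
  have h0x : orderOf x ≠ 0 := (orderOf_pos x).ne'
  have h0y : orderOf y ≠ 0 := (orderOf_pos y).ne'
  set a := x ^ (orderOf x / factorizationLCMLeft (orderOf x) (orderOf y)) with ha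
  set b := y ^ (orderOf y / factorizationLCMRight (orderOf x) (orderOf y)) with hb
  have hoa : orderOf a = factorizationLCMLeft (orderOf x) (orderOf y) := by
    rw [ha, orderOf_pow_orderOf_div h0x (factorizationLCMLeft_dvd_left _ _)]
  have hob : orderOf b = factorizationLCMRight (orderOf x) (orderOf y) := by
    rw [hb, orderOf_pow_orderOf_div h0y (factorizationLCMRight_dvd_right _ _)]
  have hcop : (orderOf a).Coprime (orderOf b) := by
    rw [hoa, hob]; exact coprime_factorizationLCMLeft_factorizationLCMRight _ _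
  have hcomm : Commute a b := Cfsg.Agent.Lib.Helper10.commute_of_coprime_orderOf G a b hcop
  refine ⟨a * b, ?_⟩
  rw [hcomm.orderOf_mul_eq_mul_orderOf_of_coprime hcop, hoa, hob,
    factorizationLCMLeft_mul_factorizationLCMRight h0x h0y]

/-- A finite nilpotent group in which any two abelian subgroups of the same order are conjugate is cyclic. -/
theorem result {G : Type*} [Group G] [Finite G] (hB : ∀ A B : Subgroup G, IsMulCommutative ↥A → IsMulCommutative ↥B → Nat.card ↥A = Nat.card ↥B → ∃ g : G, B = A.map (MulAut.conj g).toMonoidHom) (hnil : Group.IsNilpotent G) : IsCyclic G := by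
  classical
  -- an element of maximal order
  obtain ⟨x, -, hx⟩ := Set.exists_max_image (Set.univ : Set G) orderOf Set.finite_univ ⟨1, trivial⟩
  have hdvd : ∀ y : G, orderOf y ∣ orderOf x := by
    intro y
    obtain ⟨g, hg⟩ := exists_orderOf_eq_lcm_of_nilpotent x y
    have h1 := hx g trivial
    have h2 : orderOf x ∣ orderOf g := by rw [hg]; exact Nat.dvd_lcm_left _ _
    have h3 : orderOf g = orderOf x :=
      le_antisymm h1 (Nat.le_of_dvd (orderOf_pos g) h2)
    rw [← h3, hg]; exact Nat.dvd_lcm_right _ _
  by_contra hnc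
  have hne : Subgroup.zpowers x ≠ ⊤ := by
    intro h
    apply hnc
    exact ⟨⟨x, fun g => by
      have : g ∈ Subgroup.zpowers x := by rw [h]; trivial
      exact this⟩⟩
  obtain ⟨M, hM, hxM⟩ := (eq_top_or_exists_le_coatom (Subgroup.zpowers x)).resolve_left hne
  have hMn : M.Normal :=
    Subgroup.NormalizerCondition.normal_of_coatom M (Group.normalizerCondition_of_isNilpotent (G := G)) hM
  obtain ⟨y, hy⟩ : ∃ y : G, y ∉ M := by
    by_contra hall
    push Not at hall
    exact hM.1 (eq_top_iff.mpr fun g _ => hall g)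
  apply hy
  refine Cfsg.Agent.S3909.mem_of_orderOf_eq hB M y ⟨x ^ (orderOf x / orderOf y), ?_, ?_⟩
  · exact M.pow_mem (hxM (Subgroup.mem_zpowers x)) _
  · exact orderOf_pow_orderOf_div (orderOf_pos x).ne' (hdvd y)

end Cfsg.Agent.S3910
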