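import Cfsg.Statements.S3912
import Cfsg.Agent.Lib.Helper18.BGroupD
import Cfsg.Agent.Lib.Helper4.MinNormal

set_option autoImplicit false
open Cfsg

namespace Cfsg.Agent.S3912

open Cfsg.Agent.Lib.Helper18.BGroup

universe u

/-- Quotients of solvable `B`-groups are `B`-groups: induction along a chief series. -/
theorem main : ∀ (n : ℕ) (G : Type u) [Group G] [Finite G], Nat.card G = n →
    Group.IsSolvable G → Cfsg.Agent.Lib.Helper18.BGroup.IsB G →
    ∀ (M : Subgroup G) [M.Normal], Cfsg.Agent.Lib.Helper18.BGroup.IsB (G ⧸ M) := by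
  intro n
  induction n using Nat.strong_induction_on with
  | _ n ih =>
  intro G _ _ hcard hsol hB M _
  haveI := hsol
  by_cases hM : M = ⊥
  · subst hM
    exact IsB.of_mulEquiv (QuotientGroup.quotientBot (G := G)).symm hB
  obtain ⟨N, hNmin, hNM⟩ := Cfsg.Agent.Lib.Helper4.exists_minNormal_le M inferInstance hM
  have hNab := hNmin.le_centralizer
  obtain ⟨p, hp, hexp⟩ := hNmin.exists_prime_pow_eq_one hNab
  haveI : Fact p.Prime := ⟨hp⟩
  haveI hNn : N.Normal := hNmin.1
  have hNp : IsPGroup p ↥N := by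
    intro x
    refine ⟨1, ?_⟩
    rw [pow_one]
    exact Subtype.ext (by simpa using hexp x x.2)
  obtain ⟨Z, hZn, hZne, hZM, hBZ⟩ :
      ∃ (Z : Subgroup G) (_ : Z.Normal), Z ≠ ⊥ ∧ Z ≤ M ∧ Cfsg.Agent.Lib.Helper18.BGroup.IsB (G ⧸ Z) := by
    by_cases hp2 : p = 2
    · subst hp2
      obtain ⟨Z, hZn, hZne, hZN, hBZ⟩ := exists_good_normal_two hB N hNp hNmin.2.1
      exact ⟨Z, hZn, hZne, hZN.trans hNM, hBZ⟩
    · refine ⟨N, hNn, hNmin.2.1, hNM, ?_⟩
      have hodd : Odd (Nat.card ↥N) := by
        obtain ⟨a, ha⟩ := IsPGroup.iff_card.mp hNp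
        rw [ha]
        exact Odd.pow (hp.odd_of_ne_two hp2)
      exact Cfsg.Agent.S3911.result hB N hodd
  haveI := hZn
  have hlt : Nat.card (G ⧸ Z) < n := by
    have h1 : Nat.card G = Nat.card (G ⧸ Z) * Nat.card ↥Z :=
      Subgroup.card_eq_card_quotient_mul_card_subgroup _
    have h2 : 1 < Nat.card ↥Z := by
      rw [Finite.one_lt_card_iff_nontrivial]
      exact (Subgroup.nontrivial_iff_ne_bot Z).mpr hZne
    have h3 : 0 < Nat.card (G ⧸ Z) := Nat.card_pos
    rw [← hcard, h1]
    nlinarith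
  haveI : (M.map (QuotientGroup.mk' Z)).Normal :=
    Subgroup.Normal.map inferInstance _ (QuotientGroup.mk'_surjective Z)
  have hIH := ih _ hlt (G ⧸ Z) rfl inferInstance hBZ (M.map (QuotientGroup.mk' Z))
  exact IsB.of_mulEquiv (QuotientGroup.quotientQuotientEquivQuotient Z M hZM) hIH

/-- Let G be a finite solvable group in which any two abelian subgroups of the same order are conjugate. Then every quotient of G has the same property: any two abelian subgroups of the quotient of the same order are conjugate. -/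
theorem result {G : Type*} [Group G] [Finite G] (hB : ∀ A B : Subgroup G, IsMulCommutative ↥A → IsMulCommutative ↥B → Nat.card ↥A = Nat.card ↥B → ∃ g : G, B = A.map (MulAut.conj g).toMonoidHom) (hsol : Group.IsSolvable G) (M : Subgroup G) [M.Normal] :
    ∀ A B : Subgroup (G ⧸ M), IsMulCommutative ↥A → IsMulCommutative ↥B → Nat.card ↥A = Nat.card ↥B →
      ∃ g : G ⧸ M, B = A.map (MulAut.conj g).toMonoidHom :=
  main _ G rfl hsol hB M

end Cfsg.Agent.S3912
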