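import Cfsg.Statements.S3917
import Mathlib
import Cfsg.Agent.Lib.Helper21.StemExt

set_option autoImplicit false
open Cfsg

namespace Cfsg.Agent.S3917

/-- the `n`-torsion subgroup of a commutative group -/
def tor (G : Type*) [CommGroup G] (n : ℕ) : Subgroup G := (powMonoidHom n : G →* G).ker

theorem mem_tor {G : Type*} [CommGroup G] (n : ℕ) (a : G) : a ∈ tor G n ↔ a ^ n = 1 := by
  rw [tor, MonoidHom.mem_ker, powMonoidHom_apply]

theorem card_tor_le {G : Type*} [CommGroup G] [Finite G]
    (h : ∀ q : ℕ, q.Prime → Nat.card (tor G q) ≤ q) : ∀ n : ℕ, 0 < n → Nat.card (tor G n) ≤ n := by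
  intro n
  induction n using Nat.strong_induction_on with
  | _ n ih =>
  intro hn
  rcases Nat.lt_or_ge 1 n with h1 | h1
  · have hq : (Nat.minFac n).Prime := Nat.minFac_prime (by omega)
    set q := Nat.minFac n with hqdef
    obtain ⟨m, hm⟩ := Nat.minFac_dvd n
    have hmpos : 0 < m := by
      rcases Nat.eq_zero_or_pos m with h0 | h0
      · rw [h0, mul_zero] at hm; omega
      · exact h0
    have hmlt : m < n := by
      rw [hm]; nlinarith [hq.two_le]
    have hle : (powMonoidHom m : G →* G).ker ≤ tor G n := by
      intro a ha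
      rw [MonoidHom.mem_ker, powMonoidHom_apply] at ha
      rw [mem_tor, hm, mul_comm, pow_mul, ha, one_pow]
    have hcard := Cfsg.Agent.Lib.Helper21.card_eq_card_ker_mul_card_map (powMonoidHom m : G →* G) (tor G n) hle
    have hmap : (tor G n).map (powMonoidHom m : G →* G) ≤ tor G q := by
      rintro _ ⟨a, ha, rfl⟩
      rw [SetLike.mem_coe, mem_tor] at ha
      rw [mem_tor, powMonoidHom_apply, ← pow_mul, mul_comm, ← hm, ha]
    have h2 : Nat.card ((tor G n).map (powMonoidHom m : G →* G)) ≤ q :=
      (Subgroup.card_le_of_le hmap).trans (h q hq)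
    have h3 : Nat.card (powMonoidHom m : G →* G).ker ≤ m := ih m hmlt hmpos
    have h4 : Nat.card (tor G n) ≤ m * q := by
      rw [hcard]; exact Nat.mul_le_mul h3 h2
    have h5 : m * q = n := by rw [mul_comm]; exact hm.symm
    omega
  · have : n = 1 := by omega
    subst this
    have : tor G 1 = ⊥ := by
      ext a; rw [mem_tor, pow_one, Subgroup.mem_bot]
    rw [this, Subgroup.card_bot]

theorem exists_prime_lt_card_tor {G : Type*} [CommGroup G] [Finite G] (hnc : ¬ IsCyclic G) :
    ∃ q : ℕ, q.Prime ∧ q < Nat.card (tor G q) := by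
  by_contra hcon
  push Not at hcon
  apply hnc
  classical
  haveI : Fintype G := Fintype.ofFinite G
  apply isCyclic_of_card_pow_eq_one_le
  intro n hn
  have := card_tor_le hcon n hn
  rw [Nat.card_eq_fintype_card, Fintype.card_subtype] at this
  convert this using 3
  exact (mem_tor n _).symm

/-- Say that a group has self-centralizing non-cyclic subgroups when every non-cyclic subgroup H satisfies C_G(H) ≤ H. A finite abelian group with self-centralizing non-cyclic subgroups is cyclic or elementary abelian of order p² for a prime p. -/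
theorem result {G : Type*} [CommGroup G] [Finite G] (hX : (∀ H : Subgroup G, ¬ IsCyclic ↥H → Subgroup.centralizer (H : Set G) ≤ H)) :
    IsCyclic G ∨ ∃ p : ℕ, p.Prime ∧ Nat.card G = p ^ 2 ∧ Monoid.exponent G = p := by
  by_cases hc : IsCyclic G
  · exact Or.inl hc
  right
  -- non-cyclic subgroups are everything
  have hall : ∀ H : Subgroup G, ¬ IsCyclic ↥H → H = ⊤ := by
    intro H hH
    rw [eq_top_iff]
    refine le_trans ?_ (hX H hH)
    intro a _
    rw [Subgroup.mem_centralizer_iff]
    intro b _
    exact mul_comm b a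
  obtain ⟨q, hq, hlt⟩ := exists_prime_lt_card_tor hc
  haveI : Fact q.Prime := ⟨hq⟩
  have htor_nc : ¬ IsCyclic ↥(tor G q) := by
    intro hcyc
    obtain ⟨g, hg⟩ := IsCyclic.exists_ofOrder_eq_natCard (α := tor G q)
    have h1 : g ^ q = 1 := by
      apply Subtype.ext
      simp only [SubgroupClass.coe_pow, Subgroup.coe_one]
      exact (mem_tor q g.1).mp g.2
    have h2 := orderOf_le_of_pow_eq_one hq.pos h1
    omega
  have htop := hall _ htor_nc
  have hpow : ∀ a : G, a ^ q = 1 := by
    intro a
    rw [← mem_tor, htop]; trivial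
  refine ⟨q, hq, ?_, ?_⟩
  · -- |G| = q^2
    have hPG : IsPGroup q G := fun a => ⟨1, by rw [pow_one]; exact hpow a⟩
    obtain ⟨r, hr⟩ := IsPGroup.iff_card.mp hPG
    have hcardlt : q < Nat.card G := by
      have : Nat.card (tor G q) = Nat.card G := by rw [htop, Subgroup.card_top]
      omega
    have hr2 : 2 ≤ r := by
      by_contra hlt2
      have : r = 0 ∨ r = 1 := by omega
      rcases this with rfl | rfl
      · rw [pow_zero] at hr; have := hq.two_le; omega
      · rw [pow_one] at hr; omega
    obtain ⟨H, hH⟩ := Sylow.exists_subgroup_card_pow_prime q (n := 2)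
      (by rw [hr]; exact pow_dvd_pow q hr2)
    have hHnc : ¬ IsCyclic ↥H := by
      intro hcyc
      obtain ⟨g, hg⟩ := IsCyclic.exists_ofOrder_eq_natCard (α := H)
      have h1 : g ^ q = 1 := by
        apply Subtype.ext
        simp only [SubgroupClass.coe_pow, Subgroup.coe_one]
        exact hpow g.1
      have h2 := orderOf_le_of_pow_eq_one hq.pos h1
      rw [hg, hH] at h2
      have := hq.two_le
      nlinarith
    have := hall H hHnc
    rw [← hH, this, Subgroup.card_top]
  · -- exponent
    have hdvd : Monoid.exponent G ∣ q := Monoid.exponent_dvd_of_forall_pow_eq_one hpow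
    rcases (Nat.dvd_prime hq).mp hdvd with h1 | h1
    · exfalso
      rw [Monoid.exp_eq_one_iff] at h1
      have : Nat.card G = 1 := Nat.card_of_subsingleton 1
      have h2 : Nat.card (tor G q) ≤ Nat.card G := Subgroup.card_le_card_group _
      have := hq.two_le
      omega
    · exact h1

end Cfsg.Agent.S3917
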