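import Cfsg.Statements.S3918
import Cfsg.Agent.Lib.Helper1.NormalElemAb
import Cfsg.Agent.Lib.Helper1.Frattini
import Cfsg.Agent.Lib.Helper10.UniqueOrderP
import Cfsg.Agent.Lib.Helper10.PGroup

set_option autoImplicit false
open Cfsg

namespace Cfsg.Agent.S3918

open Cfsg.Agent.Lib.Helper1

section

universe u

variable {G : Type u} [Group G] [Finite G] {p : ℕ} [hp : Fact p.Prime]

theorem three_le (hna : ¬ IsMulCommutative G) (n : ℕ) (hG : Nat.card G = p ^ n) : 3 ≤ n := by
  by_contra hcon
  have h012 : n = 0 ∨ n = 1 ∨ n = 2 := by omega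
  rcases h012 with rfl | rfl | rfl
  · apply hna
    rw [pow_zero] at hG
    have : Subsingleton G := (Nat.card_eq_one_iff_unique.mp hG).1
    exact ⟨⟨fun a b => Subsingleton.elim _ _⟩⟩
  · apply hna
    rw [pow_one] at hG
    have : IsCyclic G := isCyclic_of_prime_card hG
    exact IsCyclic.isMulCommutative
  · exact hna (IsPGroup.isMulCommutative_of_card_eq_prime_sq hG)

/-- a subgroup of order `1` or `p` is cyclic -/
theorem isCyclic_of_card_le (H : Subgroup G) (h : Nat.card H = 1 ∨ Nat.card H = p) :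
    IsCyclic H := by
  rcases h with h | h
  · have : Subsingleton H := (Nat.card_eq_one_iff_unique.mp h).1
    exact isCyclic_of_subsingleton
  · exact isCyclic_of_prime_card h

/-- the easy direction -/
theorem self_centralizing_of_card (hna : ¬ IsMulCommutative G) (hG : Nat.card G = p ^ 3)
    (H : Subgroup G) (hH : ¬ IsCyclic H) : Subgroup.centralizer (H : Set G) ≤ H := by
  have hpp := hp.out
  have hppos : 0 < p := hpp.pos
  have hdvd : Nat.card H ∣ p ^ 3 := by
    rw [← hG]
    exact Subgroup.card_subgroup_dvd_card H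
  obtain ⟨k, hk3, hk⟩ := (Nat.dvd_prime_pow hpp).mp hdvd
  have hk2 : k = 2 ∨ k = 3 := by
    by_contra hcon
    have : k = 0 ∨ k = 1 := by omega
    apply hH
    apply isCyclic_of_card_le (p := p)
    rcases this with rfl | rfl
    · left; rw [hk, pow_zero]
    · right; rw [hk, pow_one]
  rcases hk2 with rfl | rfl
  · -- order `p ^ 2`
    by_contra hnot
    have hHcomm : IsMulCommutative H := IsPGroup.isMulCommutative_of_card_eq_prime_sq hk
    have hHle : H ≤ Subgroup.centralizer (H : Set G) := by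
      intro h hh
      rw [Subgroup.mem_centralizer_iff]
      intro h' hh'
      have := hHcomm.is_comm.comm ⟨h', hh'⟩ ⟨h, hh⟩
      exact congrArg Subtype.val this
    have hidx : H.index = p := by
      have h1 := Subgroup.card_mul_index H
      rw [hk, hG] at h1
      have h2 : p ^ 3 = p ^ 2 * p := by ring
      rw [h2] at h1
      exact Nat.eq_of_mul_eq_mul_left (pow_pos hppos 2) h1
    have hco : IsCoatom H := isCoatom_of_index_prime (by rw [hidx]; exact hpp)
    have hlt : H < Subgroup.centralizer (H : Set G) := lt_of_le_of_ne hHle (fun h => hnot h.ge)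
    have htop : Subgroup.centralizer (H : Set G) = ⊤ := hco.2 _ hlt
    rw [Subgroup.centralizer_eq_top_iff_subset] at htop
    have hHZ : H ≤ Subgroup.center G := htop
    have hcard : p ^ 2 ≤ Nat.card (Subgroup.center G) := by
      rw [← hk]
      exact Subgroup.card_le_of_le hHZ
    have hq := Subgroup.card_mul_index (Subgroup.center G)
    rw [hG, Subgroup.index_eq_card] at hq
    have hdvdZ : Nat.card (Subgroup.center G) ∣ p ^ 3 := Dvd.intro _ hq
    obtain ⟨j, hj3, hj⟩ := (Nat.dvd_prime_pow hpp).mp hdvdZ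
    have hj2 : 2 ≤ j := by
      rw [hj] at hcard
      exact (Nat.pow_le_pow_iff_right hpp.one_lt).mp hcard
    have hquot : Nat.card (G ⧸ Subgroup.center G) = 1 ∨ Nat.card (G ⧸ Subgroup.center G) = p := by
      rw [hj] at hq
      have hj23 : j = 2 ∨ j = 3 := by omega
      rcases hj23 with rfl | rfl
      · right
        have h2 : p ^ 3 = p ^ 2 * p := by ring
        rw [h2] at hq
        exact Nat.eq_of_mul_eq_mul_left (pow_pos hppos 2) hq
      · left
        have h2 : p ^ 3 * Nat.card (G ⧸ Subgroup.center G) = p ^ 3 * 1 := by rw [hq, mul_one]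
        exact Nat.eq_of_mul_eq_mul_left (pow_pos hppos 3) h2
    have hcyc : IsCyclic (G ⧸ Subgroup.center G) := by
      rcases hquot with h | h
      · have : Subsingleton (G ⧸ Subgroup.center G) := (Nat.card_eq_one_iff_unique.mp h).1
        exact isCyclic_of_subsingleton
      · exact isCyclic_of_prime_card h
    exact hna (isMulCommutative_of_isCyclic_quotient_center_self G)
  · -- order `p ^ 3`
    have : H = ⊤ := Subgroup.eq_top_of_card_eq H (hk.trans hG.symm)
    rw [this]
    exact le_top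

/-- the index of the centralizer of a noncentral element of a normal subgroup `A` is less than `|A|` -/
theorem index_centralizer_lt (A : Subgroup G) [hAn : A.Normal] {x₀ : G} (hx₀A : x₀ ∈ A)
    (hx₀1 : x₀ ≠ 1) : (Subgroup.centralizer ({x₀} : Set G)).index < Nat.card A := by
  classical
  set C := Subgroup.centralizer ({x₀} : Set G) with hC
  let φ : G ⧸ C → A := fun q => Quotient.liftOn' q
    (fun g => (⟨g * x₀ * g⁻¹, hAn.conj_mem x₀ hx₀A g⟩ : A)) (by
      intro g₁ g₂ h
      rw [QuotientGroup.leftRel_apply] at h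
      apply Subtype.ext
      show g₁ * x₀ * g₁⁻¹ = g₂ * x₀ * g₂⁻¹
      have hc := Subgroup.mem_centralizer_singleton_iff.mp h
      have e1 : g₂ * x₀ * g₂⁻¹ = g₁ * (g₁⁻¹ * g₂ * x₀) * g₂⁻¹ := by group
      rw [e1, hc]
      group)
  have hφ : ∀ g : G, φ (QuotientGroup.mk g) = ⟨g * x₀ * g⁻¹, hAn.conj_mem x₀ hx₀A g⟩ :=
    fun g => rfl
  have hinj : Function.Injective φ := by
    intro q₁ q₂ h
    obtain ⟨g₁, rfl⟩ := QuotientGroup.mk_surjective q₁
    obtain ⟨g₂, rfl⟩ := QuotientGroup.mk_surjective q₂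
    rw [hφ, hφ] at h
    have h1 : g₁ * x₀ * g₁⁻¹ = g₂ * x₀ * g₂⁻¹ := congrArg Subtype.val h
    rw [QuotientGroup.eq, hC, Subgroup.mem_centralizer_singleton_iff]
    have e1 : g₁⁻¹ * g₂ * x₀ = g₁⁻¹ * (g₂ * x₀ * g₂⁻¹) * g₂ := by group
    rw [e1, ← h1]
    group
  have hnot : (1 : A) ∉ Set.range φ := by
    rintro ⟨q, hq⟩
    obtain ⟨g, rfl⟩ := QuotientGroup.mk_surjective q
    rw [hφ] at hq
    have h1 : g * x₀ * g⁻¹ = 1 := congrArg Subtype.val hq
    apply hx₀1
    have h2 : x₀ = g⁻¹ * (g * x₀ * g⁻¹) * g := by group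
    rw [h2, h1]
    group
  haveI : Fintype (G ⧸ C) := Fintype.ofFinite _
  haveI : Fintype A := Fintype.ofFinite _
  have := Fintype.card_lt_of_injective_of_notMem φ hinj hnot
  rw [Subgroup.index_eq_card, Nat.card_eq_fintype_card, Nat.card_eq_fintype_card]
  exact this

theorem card_of_self_centralizing (hp2 : p ≠ 2) (hG : IsPGroup p G)
    (hna : ¬ IsMulCommutative G)
    (hyp : ∀ H : Subgroup G, ¬ IsCyclic ↥H → Subgroup.centralizer (H : Set G) ≤ H) :
    Nat.card G = p ^ 3 := by
  have hpp := hp.out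
  have hppos : 0 < p := hpp.pos
  obtain ⟨n, hn⟩ := hG.exists_card_eq
  have h3 := three_le hna n hn
  have hu : ¬ Cfsg.Agent.Lib.Helper10.UniqueOrderP p G := by
    intro hu
    rcases Cfsg.Agent.Lib.Helper10.isCyclic_or_quaternion_of_uniqueOrderP hG hu with
      hc | ⟨h2, _⟩
    · exact hna IsCyclic.isMulCommutative
    · exact hp2 h2
  unfold Cfsg.Agent.Lib.Helper10.UniqueOrderP at hu
  push Not at hu
  obtain ⟨x, y, hx, hx1, hy, hyx⟩ := hu
  have hnt : Nontrivial G := ⟨⟨x, 1, hx1⟩⟩
  obtain ⟨z, hz, hzo⟩ := NormalElemAb.exists_central_orderOf_eq hG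
  have hzp : z ^ p = 1 := by rw [← hzo]; exact pow_orderOf_eq_one z
  have hz1 : z ≠ 1 := by
    intro h
    rw [h, orderOf_one] at hzo
    exact hpp.one_lt.ne hzo
  obtain ⟨t, htp, htz⟩ : ∃ t : G, t ^ p = 1 ∧ t ∉ Subgroup.zpowers z := by
    by_cases hxz : x ∈ Subgroup.zpowers z
    · refine ⟨y, hy, ?_⟩
      have heq : Subgroup.zpowers x = Subgroup.zpowers z := by
        apply Subgroup.eq_of_le_of_card_ge (Subgroup.zpowers_le.mpr hxz)
        rw [Nat.card_zpowers, Nat.card_zpowers, hzo, orderOf_eq_prime hx hx1]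
      rw [← heq]
      exact hyx
    · exact ⟨x, hx, hxz⟩
  set E₀ := Subgroup.closure ({z, t} : Set G) with hE₀
  have hzE : z ∈ E₀ := Subgroup.subset_closure (Set.mem_insert _ _)
  have htE : t ∈ E₀ := Subgroup.subset_closure (Set.mem_insert_of_mem _ rfl)
  have hE₀comm : ∀ a ∈ E₀, ∀ b ∈ E₀, a * b = b * a := by
    have hc : IsMulCommutative E₀ := Subgroup.isMulCommutative_closure (by
      intro a ha b hb
      rcases ha with rfl | rfl <;> rcases hb with rfl | rfl
      · rfl
      · exact (Subgroup.mem_center_iff.mp hz b).symm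
      · exact Subgroup.mem_center_iff.mp hz a
      · rfl)
    intro a ha b hb
    exact congrArg Subtype.val (hc.is_comm.comm ⟨a, ha⟩ ⟨b, hb⟩)
  have hE₀exp : ∀ a ∈ E₀, a ^ p = 1 := by
    intro a ha
    induction ha using Subgroup.closure_induction with
    | mem x hx =>
      rcases hx with rfl | rfl
      · exact hzp
      · exact htp
    | one => exact one_pow p
    | mul x y hx hy ihx ihy =>
      rw [(show Commute x y from hE₀comm x hx y hy).mul_pow, ihx, ihy, one_mul]
    | inv x hx ih => rw [inv_pow, ih, inv_one]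
  have hE₀card : p ^ 2 ≤ Nat.card E₀ := by
    have hlt : Subgroup.zpowers z < E₀ := by
      refine lt_of_le_of_ne (Subgroup.zpowers_le.mpr hzE) ?_
      intro h
      exact htz (h ▸ htE)
    obtain ⟨k, hk⟩ := (hG.to_subgroup E₀).exists_card_eq
    have h1 := card_lt_of_lt hlt
    rw [Nat.card_zpowers, hzo, hk] at h1
    have h2 : 1 < k := by
      by_contra hcon
      have : k ≤ 1 := by omega
      have := Nat.pow_le_pow_right hppos this
      rw [pow_one] at this
      omega
    rw [hk]
    exact Nat.pow_le_pow_right hppos h2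
  obtain ⟨A, hAn, hAc, hAe, hAcard⟩ :=
    NormalElemAb.exists_normal_EA_sq p hp2 (Nat.card G) G rfl hG E₀ hE₀comm hE₀exp hE₀card
  have hp_lt : p < p ^ 2 := by
    have := hpp.two_le
    nlinarith
  have hAnc : ¬ IsCyclic A := by
    intro hc
    obtain ⟨g, hg⟩ := hc.exists_generator
    have ho : orderOf g = Nat.card A := orderOf_eq_card_of_forall_mem_zpowers hg
    have hgp : g ^ p = 1 := by
      apply Subtype.ext
      rw [Subgroup.coe_pow, Subgroup.coe_one]
      exact hAe g g.2
    have := orderOf_le_of_pow_eq_one hppos hgp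
    rw [ho, hAcard] at this
    omega
  have hCA : Subgroup.centralizer (A : Set G) ≤ A := hyp A hAnc
  have hAbot : A ≠ ⊥ := by
    intro h
    rw [h, Subgroup.card_bot] at hAcard
    have := hpp.two_le
    nlinarith
  have hZ₁ne := Cfsg.Agent.Lib.Helper10.normal_inf_center_ne_bot hG A hAbot
  obtain ⟨⟨z', hz'⟩, hz'1⟩ := Subgroup.ne_bot_iff_exists_ne_one.mp hZ₁ne
  have hz'ne : z' ≠ 1 := fun h => hz'1 (Subtype.ext h)
  obtain ⟨hz'A, hz'Z⟩ := Subgroup.mem_inf.mp hz'
  have hAZ : ¬ A ≤ Subgroup.center G := by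
    intro h
    have h1 : Subgroup.centralizer (A : Set G) = ⊤ :=
      Subgroup.centralizer_eq_top_iff_subset.mpr h
    rw [h1] at hCA
    apply hna
    exact ⟨⟨fun a b => hAc a (hCA trivial) b (hCA trivial)⟩⟩
  obtain ⟨x₀, hx₀A, hx₀Z⟩ := SetLike.not_le_iff_exists.mp hAZ
  have hx₀1 : x₀ ≠ 1 := fun h => hx₀Z (h ▸ one_mem _)
  -- `A` is generated by `z'` and `x₀`
  set W := Subgroup.closure ({z', x₀} : Set G) with hW
  have hz'W : z' ∈ W := Subgroup.subset_closure (Set.mem_insert _ _)
  have hx₀W : x₀ ∈ W := Subgroup.subset_closure (Set.mem_insert_of_mem _ rfl)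
  have hWA : W ≤ A := by
    rw [hW, Subgroup.closure_le]
    rintro g (rfl | rfl)
    · exact hz'A
    · exact hx₀A
  have hWeq : W = A := by
    apply Subgroup.eq_of_le_of_card_ge hWA
    have hlt : Subgroup.zpowers z' < W := by
      refine lt_of_le_of_ne (Subgroup.zpowers_le.mpr hz'W) ?_
      intro h
      apply hx₀Z
      have h1 : x₀ ∈ Subgroup.zpowers z' := h ▸ hx₀W
      exact (Subgroup.zpowers_le.mpr hz'Z) h1
    obtain ⟨k, hk⟩ := (hG.to_subgroup W).exists_card_eq
    obtain ⟨i, hi⟩ := (IsPGroup.iff_orderOf.mp hG) z'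
    have hi1 : 1 ≤ i := by
      by_contra hcon
      have hi0 : i = 0 := by omega
      rw [hi0, pow_zero, orderOf_eq_one_iff] at hi
      exact hz'ne hi
    have h1 := card_lt_of_lt hlt
    rw [Nat.card_zpowers, hi, hk] at h1
    have h2 : i < k := (Nat.pow_lt_pow_iff_right hpp.one_lt).mp h1
    rw [hAcard, hk]
    exact Nat.pow_le_pow_right hppos (by omega)
  -- the centralizer of `x₀` is `A`
  have hCle : Subgroup.centralizer ({x₀} : Set G) ≤ A := by
    refine le_trans ?_ hCA
    intro g hg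
    rw [← hWeq, hW, Subgroup.centralizer_closure, Subgroup.mem_centralizer_iff]
    rintro h (rfl | rfl)
    · exact (Subgroup.mem_center_iff.mp hz'Z g).symm
    · exact (Subgroup.mem_centralizer_singleton_iff.mp hg).symm
  have hidx := index_centralizer_lt A hx₀A hx₀1
  rw [hAcard] at hidx
  have hidx_dvd : (Subgroup.centralizer ({x₀} : Set G)).index ∣ p ^ n := by
    rw [← hn]
    exact Subgroup.index_dvd_card _
  obtain ⟨j, _, hj⟩ := (Nat.dvd_prime_pow hpp).mp hidx_dvd
  have hj1 : j ≤ 1 := by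
    rw [hj] at hidx
    have := (Nat.pow_lt_pow_iff_right hpp.one_lt).mp hidx
    omega
  have hidx_le : (Subgroup.centralizer ({x₀} : Set G)).index ≤ p := by
    rw [hj]
    calc p ^ j ≤ p ^ 1 := Nat.pow_le_pow_right hppos hj1
      _ = p := pow_one p
  have hCcard : Nat.card (Subgroup.centralizer ({x₀} : Set G)) ≤ p ^ 2 := by
    rw [← hAcard]
    exact Subgroup.card_le_of_le hCle
  have hle : Nat.card G ≤ p ^ 3 := by
    rw [← Subgroup.card_mul_index (Subgroup.centralizer ({x₀} : Set G))]
    calc _ ≤ p ^ 2 * p := Nat.mul_le_mul hCcard hidx_le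
      _ = p ^ 3 := by ring
  rw [hn] at hle ⊢
  have hn3 : n ≤ 3 := (Nat.pow_le_pow_iff_right hpp.one_lt).mp hle
  have : n = 3 := by omega
  rw [this]

end

/-- Say that a group has self-centralizing non-cyclic subgroups when every non-cyclic subgroup H satisfies C_G(H) ≤ H. For an odd prime p, a finite non-abelian p-group has self-centralizing non-cyclic subgroups if and only if it has order p³. -/
theorem result {G : Type*} [Group G] [Finite G] {p : ℕ} [Fact p.Prime] (hp : p ≠ 2) (hG : IsPGroup p G) (hna : ¬ IsMulCommutative G) :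
    (∀ H : Subgroup G, ¬ IsCyclic ↥H → Subgroup.centralizer (H : Set G) ≤ H) ↔ Nat.card G = p ^ 3 := by
  constructor
  · intro hyp
    exact card_of_self_centralizing hp hG hna hyp
  · intro hcard H hH
    exact self_centralizing_of_card hna hcard H hH

end Cfsg.Agent.S3918
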