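import Cfsg.Statements.S3919
import Mathlib
import Cfsg.Agent.Lib.Helper1.MaxClass
import Cfsg.Agent.Lib.Helper1.MaxClassTwo
import Cfsg.Agent.Lib.Helper10.UniqueOrderP
import Cfsg.Agent.Lib.Helper21.Wielandt
import Cfsg.Agent.S3824

set_option autoImplicit false
open Cfsg

namespace Cfsg.Agent.S3919

open Subgroup

theorem zmod_two_mul_eq_zero (m : ℕ) [NeZero m] (i : ZMod (2 * m)) (h : i + i = 0) :
    i = 0 ∨ i = (m : ZMod (2 * m)) := by
  haveI : NeZero (2 * m) := ⟨by have := NeZero.ne m; omega⟩
  have h1 := congrArg ZMod.val h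
  rw [ZMod.val_add, ZMod.val_zero] at h1
  have h2 : i.val < 2 * m := ZMod.val_lt i
  have h3 : 2 * m ∣ i.val + i.val := Nat.dvd_of_mod_eq_zero h1
  obtain ⟨c, hc⟩ := h3
  have hc2 : c = 0 ∨ c = 1 := by
    rcases Nat.lt_or_ge c 2 with h4 | h4
    · omega
    · exfalso
      have : 2 * m * 2 ≤ 2 * m * c := Nat.mul_le_mul_left _ h4
      omega
  rcases hc2 with rfl | rfl
  · left
    have : i.val = 0 := by omega
    exact (ZMod.val_eq_zero i).mp this
  · right
    have h5 : i.val = m := by omega
    have h6 : ((i.val : ℕ) : ZMod (2 * m)) = i := ZMod.natCast_zmod_val i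
    rw [← h6, h5]

theorem quaternion_centralizer (m : ℕ) [NeZero m] :
    Nat.card (centralizer ({QuaternionGroup.xa (0 : ZMod (2 * m))} : Set (QuaternionGroup m))) = 4 := by
  have hmm : (m : ZMod (2 * m)) + m = 0 := by
    have : ((2 * m : ℕ) : ZMod (2 * m)) = 0 := ZMod.natCast_self _
    rw [← this]; push_cast; ring
  have hneg : -(m : ZMod (2 * m)) = m := by
    rw [neg_eq_iff_add_eq_zero]; exact hmm
  have heq : centralizer ({QuaternionGroup.xa (0 : ZMod (2 * m))} : Set (QuaternionGroup m)) =
      zpowers (QuaternionGroup.xa (0 : ZMod (2 * m))) := by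
    apply le_antisymm
    · intro g hg
      rw [mem_centralizer_singleton_iff] at hg
      have h2 : QuaternionGroup.xa (0 : ZMod (2 * m)) ^ 2 = QuaternionGroup.a (m : ZMod (2 * m)) :=
        QuaternionGroup.xa_sq 0
      have ha : QuaternionGroup.a (m : ZMod (2 * m)) ∈
          zpowers (QuaternionGroup.xa (0 : ZMod (2 * m))) := by
        rw [← h2]; exact pow_mem (mem_zpowers _) 2
      cases g with
      | a i =>
        rw [QuaternionGroup.a_mul_xa, QuaternionGroup.xa_mul_a] at hg
        have h1 : (0 : ZMod (2 * m)) - i = 0 + i := by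
          injection hg
        have h3 : i + i = 0 := by
          have : i + i = (0 + i) - (0 - i) := by ring
          rw [this, h1]; ring
        rcases zmod_two_mul_eq_zero m i h3 with rfl | rfl
        · rw [← QuaternionGroup.one_def]; exact one_mem _
        · exact ha
      | xa j =>
        rw [QuaternionGroup.xa_mul_xa, QuaternionGroup.xa_mul_xa] at hg
        have h1 : (m : ZMod (2 * m)) + 0 - j = (m : ZMod (2 * m)) + j - 0 := by
          injection hg
        have h3 : j + j = 0 := by
          have : j + j = ((m : ZMod (2 * m)) + j - 0) - ((m : ZMod (2 * m)) + 0 - j) := by ring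
          rw [this, h1]; ring
        rcases zmod_two_mul_eq_zero m j h3 with rfl | rfl
        · exact mem_zpowers _
        · have h4 : QuaternionGroup.xa (m : ZMod (2 * m)) =
              QuaternionGroup.a (m : ZMod (2 * m)) * QuaternionGroup.xa (0 : ZMod (2 * m)) := by
            rw [QuaternionGroup.a_mul_xa, zero_sub, hneg]
          rw [h4]
          exact mul_mem ha (mem_zpowers _)
    · rw [zpowers_le, mem_centralizer_singleton_iff]
  rw [heq, Nat.card_zpowers, QuaternionGroup.orderOf_xa]

/-- transport of centralizer cardinalities along an isomorphism -/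
theorem card_centralizer_equiv {G Q : Type*} [Group G] [Group Q] (e : G ≃* Q) (q : Q) :
    Nat.card (centralizer ({e.symm q} : Set G)) = Nat.card (centralizer ({q} : Set Q)) := by
  apply Nat.card_congr
  refine
    { toFun := fun g => ⟨e g, ?_⟩
      invFun := fun x => ⟨e.symm x, ?_⟩
      left_inv := fun g => by simp
      right_inv := fun x => by simp }
  · have hg := g.2
    rw [mem_centralizer_singleton_iff] at hg ⊢
    have := congrArg e hg
    simpa using this
  · have hx := x.2
    rw [mem_centralizer_singleton_iff] at hx ⊢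
    have := congrArg e.symm hx
    simpa using this

theorem three_le_of_not_comm {G : Type*} [Group G] [Finite G] (hna : ¬ IsMulCommutative G) (n : ℕ)
    (hG : Nat.card G = 2 ^ n) : 3 ≤ n := by
  by_contra hlt
  push Not at hlt
  apply hna
  interval_cases n
  · have : Subsingleton G := (Nat.card_eq_one_iff_unique.mp (by simpa using hG)).1
    exact ⟨⟨fun a b => Subsingleton.elim _ _⟩⟩
  · haveI : Fact (Nat.Prime 2) := ⟨Nat.prime_two⟩
    have hcyc : IsCyclic G := isCyclic_of_prime_card (p := 2) (by simpa using hG)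
    exact hcyc.isMulCommutative
  · haveI : Fact (Nat.Prime 2) := ⟨Nat.prime_two⟩
    exact IsPGroup.isMulCommutative_of_card_eq_prime_sq (p := 2) hG

theorem exists_card_centralizer {G : Type*} [Group G] [Finite G] (hna : ¬ IsMulCommutative G)
    (hP : IsPGroup 2 G)
    (hSC : ∀ H : Subgroup G, ¬ IsCyclic ↥H → centralizer (H : Set G) ≤ H) :
    ∃ a : G, Nat.card (centralizer ({a} : Set G)) = 2 ^ 2 := by
  haveI : Fact (Nat.Prime 2) := ⟨Nat.prime_two⟩
  haveI hnt : Nontrivial G := by
    by_contra h
    rw [not_nontrivial_iff_subsingleton] at h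
    exact hna ⟨⟨fun a b => Subsingleton.elim _ _⟩⟩
  have hcnt : Nontrivial ↥(center G) := hP.center_nontrivial
  obtain ⟨c, hc1⟩ := exists_ne (1 : ↥(center G))
  have hc1' : (c : G) ≠ 1 := fun h => hc1 (Subtype.ext h)
  obtain ⟨z, hzc, hz2, hz1⟩ := Cfsg.Agent.Lib.Helper10.exists_orderOf_eq_prime_zpowers hP (c : G) hc1'
  have hz : z ∈ center G := (zpowers_le.mpr c.2) hzc
  have hzcomm : ∀ g : G, g * z = z * g := fun g => (mem_center_iff.mp hz) g
  have hzcard : Nat.card (zpowers z) = 2 := by
    rw [Nat.card_zpowers]; exact orderOf_eq_prime hz2 hz1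
  by_cases hs : ∃ s : G, s ^ 2 = 1 ∧ s ≠ 1 ∧ s ≠ z
  · obtain ⟨s, hs2, hs1, hsz⟩ := hs
    have hscard : Nat.card (zpowers s) = 2 := by
      rw [Nat.card_zpowers]; exact orderOf_eq_prime hs2 hs1
    refine ⟨s, ?_⟩
    have hznot : z ∉ zpowers s := by
      intro h
      rcases Cfsg.Agent.Lib.Helper10.eq_one_or_eq_of_mem_zpowers_of_sq hs2 h with h1 | h1
      · exact hz1 h1
      · exact hsz h1.symm
    -- the four-group
    have hnc : ¬ IsCyclic ↥(zpowers s ⊔ zpowers z) := by
      intro hcyc
      have h1 : (zpowers s).subgroupOf (zpowers s ⊔ zpowers z) =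
          (zpowers z).subgroupOf (zpowers s ⊔ zpowers z) := by
        apply Cfsg.Agent.Lib.Helper21.eq_of_card_eq_of_isCyclic
        rw [Nat.card_congr (subgroupOfEquivOfLe (le_sup_left : zpowers s ≤ zpowers s ⊔ zpowers z)).toEquiv,
          Nat.card_congr (subgroupOfEquivOfLe (le_sup_right : zpowers z ≤ zpowers s ⊔ zpowers z)).toEquiv,
          hscard, hzcard]
      apply hznot
      have h2 : (⟨z, mem_sup_right (mem_zpowers z)⟩ : ↥(zpowers s ⊔ zpowers z)) ∈
          (zpowers z).subgroupOf (zpowers s ⊔ zpowers z) := by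
        rw [mem_subgroupOf]; exact mem_zpowers z
      rw [← h1, mem_subgroupOf] at h2
      exact h2
    have h1 := hSC _ hnc
    have h2 : centralizer ({s} : Set G) ≤ centralizer ((zpowers s ⊔ zpowers z : Subgroup G) : Set G) := by
      intro g hg
      rw [mem_centralizer_singleton_iff] at hg
      rw [mem_centralizer_iff]
      have hle : zpowers s ⊔ zpowers z ≤ centralizer ({g} : Set G) := by
        apply sup_le
        · rw [zpowers_le, mem_centralizer_singleton_iff]; exact hg.symm
        · rw [zpowers_le, mem_centralizer_singleton_iff]; exact (hzcomm g).symm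
      intro y hy
      exact mem_centralizer_singleton_iff.mp (hle hy)
    have h3 : zpowers s ⊔ zpowers z ≤ centralizer ({s} : Set G) := by
      apply sup_le
      · rw [zpowers_le, mem_centralizer_singleton_iff]
      · rw [zpowers_le, mem_centralizer_singleton_iff]; exact (hzcomm s).symm
    have heq : centralizer ({s} : Set G) = zpowers s ⊔ zpowers z := le_antisymm (h2.trans h1) h3
    rw [heq]
    -- the order of the four-group
    haveI hzn : (zpowers z).Normal := by
      constructor
      intro n hn g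
      have h4 : zpowers z ≤ center G := zpowers_le.mpr hz
      have h5 := (mem_center_iff.mp (h4 hn)) g
      have h6 : g * n * g⁻¹ = n := by rw [h5]; group
      rw [h6]; exact hn
    have h4 := Cfsg.Agent.S3824.card_mul_relIndex' (le_sup_left : zpowers s ≤ zpowers s ⊔ zpowers z)
    rw [Cfsg.Agent.S3824.relIndex_sup_of_normal' (zpowers s) (zpowers z)] at h4
    have hinf : zpowers s ⊓ zpowers z = ⊥ := by
      rw [eq_bot_iff]
      intro x hx
      obtain ⟨hx1, hx2⟩ := mem_inf.mp hx
      rcases Cfsg.Agent.Lib.Helper10.eq_one_or_eq_of_mem_zpowers_of_sq hz2 hx2 with h5 | h5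
      · exact mem_bot.mpr h5
      · exfalso; exact hznot (h5 ▸ hx1)
    have h5 : (zpowers s).relIndex (zpowers z) = 2 := by
      rw [← inf_relIndex_right, hinf, relIndex_bot_left, hzcard]
    rw [h5, hscard] at h4
    rw [← h4]
    norm_num
  · -- unique involution
    push Not at hs
    have huniq : ∀ H K : Subgroup G, Nat.card H = 2 → Nat.card K = 2 → H = K := by
      have key : ∀ H : Subgroup G, Nat.card H = 2 → H = zpowers z := by
        intro H hH
        haveI : Nontrivial ↥H := by
          rw [← Finite.one_lt_card_iff_nontrivial]; omega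
        obtain ⟨h, hh1⟩ := exists_ne (1 : ↥H)
        have hh2 : (h : G) ^ 2 = 1 := by
          have := pow_card_eq_one' (G := ↥H) (x := h)
          rw [hH] at this
          have := congrArg Subtype.val this
          simpa using this
        have hhz : (h : G) = z := hs _ hh2 (fun h0 => hh1 (Subtype.ext h0))
        have hle : zpowers z ≤ H := by rw [zpowers_le, ← hhz]; exact h.2
        exact (Subgroup.eq_of_le_of_card_ge hle (by rw [hH, hzcard])).symm
      intro H K hH hK
      rw [key H hH, key K hK]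
    rcases Cfsg.Agent.Lib.Helper10.isCyclic_or_quaternion_of_unique_subgroup hP huniq with hcyc | ⟨-, k, ⟨e⟩⟩
    · exact absurd hcyc.isMulCommutative hna
    · haveI : NeZero (2 ^ k) := ⟨pow_ne_zero _ (by norm_num)⟩
      refine ⟨e.symm (QuaternionGroup.xa 0), ?_⟩
      rw [card_centralizer_equiv e, quaternion_centralizer]
      norm_num

theorem sc_of_maxClass {G : Type*} [Group G] [Finite G] [Group.IsNilpotent G] (n : ℕ) (hn : 3 ≤ n)
    (hG : Nat.card G = 2 ^ n) (hc : Group.nilpotencyClass G = n - 1)
    (H : Subgroup G) (hH : ¬ IsCyclic ↥H) : centralizer (H : Set G) ≤ H := by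
  haveI : Fact (Nat.Prime 2) := ⟨Nat.prime_two⟩
  have hP : IsPGroup 2 G := IsPGroup.of_card hG
  obtain ⟨C, hCcyc, hCidx⟩ := Cfsg.Agent.Lib.Helper1.MaxClassTwo.exists_cyclic_index_two n hn G hG hc
  have hZcard : Nat.card (center G) = 2 :=
    Cfsg.Agent.Lib.Helper1.MaxClassTwo.card_center_of_maxClass (p := 2) n hn hG hc
  haveI hCn : C.Normal := normal_of_index_eq_two hCidx
  have hCcomm : ∀ x ∈ C, ∀ y ∈ C, Commute x y :=
    Cfsg.Agent.Lib.Helper1.MaxClassTwo.commute_of_isCyclic hCcyc
  have hCcard : Nat.card C * 2 = 2 ^ n := by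
    have := C.card_mul_index
    rw [hCidx, hG] at this
    exact this
  have hCcard4 : 4 ≤ Nat.card C := by
    obtain ⟨k, rfl⟩ : ∃ k, n = k + 3 := ⟨n - 3, by omega⟩
    have : Nat.card C = 2 ^ (k + 2) := by
      have h1 : (2 : ℕ) ^ (k + 3) = 2 ^ (k + 2) * 2 := by ring
      rw [h1] at hCcard
      exact Nat.eq_of_mul_eq_mul_right (by norm_num) hCcard
    rw [this]
    have : 1 ≤ 2 ^ k := Nat.one_le_two_pow
    calc 4 = 1 * 4 := by norm_num
      _ ≤ 2 ^ k * 4 := Nat.mul_le_mul_right _ this
      _ = 2 ^ (k + 2) := by ring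
  have hZC : center G ≤ C := by
    by_contra hnot
    obtain ⟨z, hz, hzC⟩ := SetLike.not_le_iff_exists.mp hnot
    have hle : C ≤ center G := by
      intro c hc'
      apply Cfsg.Agent.Lib.Helper1.MaxClassTwo.mem_center_of_commute hCidx hzC
      · exact ((mem_center_iff.mp hz) c)
      · intro c' hc''; exact hCcomm c hc' c' hc''
    have := card_le_of_le hle
    omega
  -- an element of `H` outside `C`
  obtain ⟨y, hyH, hyC⟩ : ∃ y ∈ H, y ∉ C := by
    by_contra hall
    push Not at hall
    apply hH
    have hHC : H ≤ C := hall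
    haveI : IsCyclic ↥C := hCcyc
    haveI : IsCyclic ↥(H.subgroupOf C) := inferInstance
    exact isCyclic_of_surjective (subgroupOfEquivOfLe hHC).toMonoidHom
      (subgroupOfEquivOfLe hHC).surjective
  have hyZ : centralizer ({y} : Set G) ⊓ C ≤ center G := by
    intro x hx
    obtain ⟨hx1, hx2⟩ := mem_inf.mp hx
    rw [mem_centralizer_singleton_iff] at hx1
    apply Cfsg.Agent.Lib.Helper1.MaxClassTwo.mem_center_of_commute hCidx hyC
    · exact hx1
    · intro c' hc'; exact hCcomm x hx2 c' hc'
  have hcardCy : Nat.card (centralizer ({y} : Set G)) ≤ 4 := by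
    have h1 := Cfsg.Agent.S3824.card_mul_relIndex'
      (inf_le_left : centralizer ({y} : Set G) ⊓ C ≤ centralizer ({y} : Set G))
    rw [inf_relIndex_left] at h1
    have h2 : C.relIndex (centralizer ({y} : Set G)) ∣ 2 := hCidx ▸ relIndex_dvd_index_of_normal C _
    have h3 : C.relIndex (centralizer ({y} : Set G)) ≤ 2 := Nat.le_of_dvd (by norm_num) h2
    have h4 : Nat.card ↥(centralizer ({y} : Set G) ⊓ C) ≤ 2 := hZcard ▸ card_le_of_le hyZ
    rw [← h1]
    calc Nat.card ↥(centralizer ({y} : Set G) ⊓ C) * C.relIndex (centralizer ({y} : Set G))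
        ≤ 2 * 2 := Nat.mul_le_mul h4 h3
      _ = 4 := by norm_num
  -- the centre lies in `H`
  have hHcard : 3 ≤ Nat.card H := by
    by_contra hlt
    push Not at hlt
    apply hH
    have hpos : 0 < Nat.card H := Nat.card_pos
    have h12 : Nat.card H = 1 ∨ Nat.card H = 2 := by omega
    rcases h12 with h1 | h2
    · haveI : Subsingleton ↥H := (Nat.card_eq_one_iff_unique.mp h1).1
      exact isCyclic_of_subsingleton
    · exact isCyclic_of_prime_card (p := 2) h2
  have hHC2 : 2 ≤ Nat.card ↥(H ⊓ C) := by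
    have h1 := Cfsg.Agent.S3824.card_mul_relIndex' (inf_le_left : H ⊓ C ≤ H)
    rw [inf_relIndex_left] at h1
    have h2 : C.relIndex H ∣ 2 := hCidx ▸ relIndex_dvd_index_of_normal C _
    have h3 : C.relIndex H ≤ 2 := Nat.le_of_dvd (by norm_num) h2
    by_contra hlt
    push Not at hlt
    have h4 : Nat.card ↥(H ⊓ C) * C.relIndex H ≤ 1 * 2 := Nat.mul_le_mul (by omega) h3
    omega
  haveI : Nontrivial ↥(H ⊓ C) := by
    rw [← Finite.one_lt_card_iff_nontrivial]; omega
  obtain ⟨x, hx1⟩ := exists_ne (1 : ↥(H ⊓ C))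
  have hx1' : (x : G) ≠ 1 := fun h => hx1 (Subtype.ext h)
  obtain ⟨x', hx'x, hx'2, hx'1⟩ :=
    Cfsg.Agent.Lib.Helper10.exists_orderOf_eq_prime_zpowers hP (x : G) hx1'
  have hx'HC : x' ∈ H ⊓ C := (zpowers_le.mpr x.2) hx'x
  have hx'card : Nat.card (zpowers x') = 2 := by
    rw [Nat.card_zpowers]; exact orderOf_eq_prime hx'2 hx'1
  have hZH : center G ≤ H := by
    haveI : IsCyclic ↥C := hCcyc
    have hx'C : zpowers x' ≤ C := zpowers_le.mpr (mem_inf.mp hx'HC).2
    have h1 : (zpowers x').subgroupOf C = (center G).subgroupOf C := by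
      apply Cfsg.Agent.Lib.Helper21.eq_of_card_eq_of_isCyclic
      rw [Nat.card_congr (subgroupOfEquivOfLe hx'C).toEquiv,
        Nat.card_congr (subgroupOfEquivOfLe hZC).toEquiv, hx'card, hZcard]
    intro z hz
    have h2 : (⟨z, hZC hz⟩ : ↥C) ∈ (center G).subgroupOf C := by
      rw [mem_subgroupOf]; exact hz
    rw [← h1, mem_subgroupOf] at h2
    exact (zpowers_le.mpr (mem_inf.mp hx'HC).1) h2
  -- the subgroup `T`
  have hTH : zpowers y ⊔ center G ≤ H := sup_le (zpowers_le.mpr hyH) hZH
  have hTC : zpowers y ⊔ center G ≤ centralizer ({y} : Set G) := by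
    apply sup_le
    · rw [zpowers_le, mem_centralizer_singleton_iff]
    · intro z hz
      rw [mem_centralizer_singleton_iff]
      exact ((mem_center_iff.mp hz) y).symm
  have hTcard : 4 ≤ Nat.card ↥(zpowers y ⊔ center G) := by
    have h1 : Nat.card (center G) ∣ Nat.card ↥(zpowers y ⊔ center G) :=
      card_dvd_of_le le_sup_right
    rw [hZcard] at h1
    have h2 : Nat.card ↥(zpowers y ⊔ center G) ≠ 2 := by
      intro h2
      have h3 : center G = zpowers y ⊔ center G :=
        Subgroup.eq_of_le_of_card_ge le_sup_right (by rw [h2, hZcard])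
      apply hyC
      apply hZC
      rw [h3]
      exact mem_sup_left (mem_zpowers y)
    have hpos : 0 < Nat.card ↥(zpowers y ⊔ center G) := Nat.card_pos
    obtain ⟨k, hk⟩ := h1
    omega
  have hTeq : zpowers y ⊔ center G = centralizer ({y} : Set G) :=
    Subgroup.eq_of_le_of_card_ge hTC (by omega)
  have h1 : centralizer (H : Set G) ≤ centralizer ({y} : Set G) :=
    centralizer_le (Set.singleton_subset_iff.mpr hyH)
  rw [← hTeq] at h1
  exact h1.trans hTH

/-- Say that a group has self-centralizing non-cyclic subgroups when every non-cyclic subgroup H satisfies C_G(H) ≤ H. A finite non-abelian 2-group G of order 2^n has self-centralizing non-cyclic subgroups if and only if G has nilpotency class n − 1 (that is, G is dihedral, semidihedral or generalized quaternion). -/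
theorem result {G : Type*} [Group G] [Finite G] (hna : ¬ IsMulCommutative G) (n : ℕ) (hG : Nat.card G = 2 ^ n) :
    (∀ H : Subgroup G, ¬ IsCyclic ↥H → Subgroup.centralizer (H : Set G) ≤ H) ↔ (⊤ : Subgroup G).lowerCentralSeries (n - 2) ≠ ⊥ := by
  haveI : Fact (Nat.Prime 2) := ⟨Nat.prime_two⟩
  have hn := three_le_of_not_comm hna n hG
  have hP : IsPGroup 2 G := IsPGroup.of_card hG
  haveI hnil : Group.IsNilpotent G := hP.isNilpotent
  have hiff : (⊤ : Subgroup G).lowerCentralSeries (n - 2) ≠ ⊥ ↔ Group.nilpotencyClass G = n - 1 := by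
    rw [Ne, Subgroup.lowerCentralSeries_eq_bot_iff_nilpotencyClass_le]
    have hle := Cfsg.Agent.Lib.Helper1.nilpotencyClass_le_of_card_pow (p := 2) n G hG
    have hmax : max 1 (n - 1) = n - 1 := max_eq_right (by omega)
    rw [hmax] at hle
    omega
  rw [hiff]
  constructor
  · intro hSC
    obtain ⟨a, ha⟩ := exists_card_centralizer hna hP hSC
    exact Cfsg.Agent.Lib.Helper1.nilpotencyClass_of_card_centralizer 2 n G hG a ha
  · intro hc H hH
    exact sc_of_maxClass n hn hG hc H hH

end Cfsg.Agent.S3919
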