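import Cfsg.Statements.S3920

set_option autoImplicit false
open Cfsg

namespace Cfsg.Agent.S3920

open DihedralGroup

section ZModFacts

variable {n : ℕ} [NeZero n]

theorem eq_zero_of_add_self_odd (hn : Odd n) (i : ZMod n) (h : i + i = 0) : i = 0 := by
  have h1 : ((i.val + i.val : ℕ) : ZMod n) = 0 := by
    rw [Nat.cast_add, ZMod.natCast_zmod_val]
    exact h
  rw [ZMod.natCast_eq_zero_iff] at h1
  have hlt := ZMod.val_lt i
  have hcop : Nat.Coprime n 2 := Nat.coprime_two_right.mpr hn
  have h2 : n ∣ i.val := by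
    have : n ∣ 2 * i.val := by rwa [two_mul]
    exact hcop.dvd_of_dvd_mul_left this
  have h0 : i.val = 0 := Nat.eq_zero_of_dvd_of_lt h2 hlt
  exact (ZMod.val_eq_zero i).mp h0

theorem eq_zero_or_of_add_self_even {N : ℕ} (hn : n = 2 * N) (i : ZMod n) (h : i + i = 0) :
    i = 0 ∨ i = (N : ZMod n) := by
  have h1 : ((i.val + i.val : ℕ) : ZMod n) = 0 := by
    rw [Nat.cast_add, ZMod.natCast_zmod_val]
    exact h
  rw [ZMod.natCast_eq_zero_iff] at h1
  have hlt := ZMod.val_lt i
  obtain ⟨t, ht⟩ := h1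
  have ht01 : t = 0 ∨ t = 1 := by
    rcases t with _ | _ | t
    · left; rfl
    · right; rfl
    · exfalso
      have : n * (t + 1 + 1) ≥ n * 2 := Nat.mul_le_mul_left _ (by omega)
      omega
  rcases ht01 with rfl | rfl
  · left
    have h0 : i.val = 0 := by omega
    exact (ZMod.val_eq_zero i).mp h0
  · right
    have h0 : i.val = N := by omega
    rw [← ZMod.natCast_zmod_val i, h0]

theorem natCast_add_self {N : ℕ} (hn : n = 2 * N) : (N : ZMod n) + (N : ZMod n) = 0 := by
  rw [← Nat.cast_add, ZMod.natCast_eq_zero_iff]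
  rw [hn, two_mul]

end ZModFacts

section Dihedral

variable {n : ℕ} [NeZero n]

/-- elements commuting with a reflection -/
theorem commute_sr {g : DihedralGroup n} {j : ZMod n} (h : g * sr j = sr j * g) :
    (∃ i, g = r i ∧ i + i = 0) ∨ (∃ i, g = sr i ∧ (i - j) + (i - j) = 0) := by
  cases g with
  | r i =>
    left
    refine ⟨i, rfl, ?_⟩
    rw [r_mul_sr, sr_mul_r] at h
    have h1 : j - i = j + i := by injection h
    linear_combination -h1
  | sr i =>
    right
    refine ⟨i, rfl, ?_⟩
    rw [sr_mul_sr, sr_mul_sr] at h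
    have h1 : j - i = i - j := by injection h
    linear_combination -h1

/-- a non-cyclic subgroup contains a reflection -/
theorem exists_sr_mem (H : Subgroup (DihedralGroup n)) (hH : ¬ IsCyclic H) :
    ∃ j, sr j ∈ H := by
  by_contra hcon
  push Not at hcon
  apply hH
  have hle : H ≤ Subgroup.zpowers (r (1 : ZMod n)) := by
    intro g hg
    cases g with
    | r i =>
      rw [← ZMod.natCast_zmod_val i, ← r_one_pow]
      exact Subgroup.pow_mem _ (Subgroup.mem_zpowers _) _
    | sr i => exact absurd hg (hcon i)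
  exact Subgroup.isCyclic_of_le hle

end Dihedral

section Main

variable {n : ℕ} [NeZero n]

theorem self_centralizing_odd (hn : Odd n) (H : Subgroup (DihedralGroup n)) (hH : ¬ IsCyclic H) :
    Subgroup.centralizer (H : Set (DihedralGroup n)) ≤ H := by
  obtain ⟨j, hj⟩ := exists_sr_mem H hH
  intro g hg
  have hc : g * sr j = sr j * g := (Subgroup.mem_centralizer_iff.mp hg (sr j) hj).symm
  rcases commute_sr hc with ⟨i, rfl, hi⟩ | ⟨i, rfl, hi⟩
  · rw [eq_zero_of_add_self_odd hn i hi, r_zero]
    exact one_mem _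
  · have h1 := eq_zero_of_add_self_odd hn _ hi
    rw [sub_eq_zero] at h1
    rw [h1]
    exact hj

theorem self_centralizing_two_pow (k : ℕ) (hn : n = 2 ^ k) (h3 : 3 ≤ n)
    (H : Subgroup (DihedralGroup n)) (hH : ¬ IsCyclic H) :
    Subgroup.centralizer (H : Set (DihedralGroup n)) ≤ H := by
  have : Fact (2 : ℕ).Prime := ⟨Nat.prime_two⟩
  have hk1 : 1 ≤ k := by
    by_contra hcon
    have : k = 0 := by omega
    rw [this, pow_zero] at hn
    omega
  have hnN : n = 2 * 2 ^ (k - 1) := by
    rw [hn, ← pow_succ']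
    congr 1
    omega
  obtain ⟨j, hj⟩ := exists_sr_mem H hH
  have hrot : ∃ i : ZMod n, i ≠ 0 ∧ r i ∈ H := by
    by_contra hcon
    push Not at hcon
    apply hH
    have hle : H ≤ Subgroup.zpowers (sr j) := by
      intro g hg
      cases g with
      | r i =>
        by_cases hi : i = 0
        · rw [hi, r_zero]
          exact one_mem _
        · exact absurd hg (hcon i hi)
      | sr i =>
        by_cases hij : i = j
        · rw [hij]
          exact Subgroup.mem_zpowers _
        · exfalso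
          have h1 : sr i * sr j ∈ H := mul_mem hg hj
          rw [sr_mul_sr] at h1
          exact hcon (j - i) (sub_ne_zero.mpr (Ne.symm hij)) h1
    exact Subgroup.isCyclic_of_le hle
  obtain ⟨i, hi0, hiH⟩ := hrot
  have hP : IsPGroup 2 (DihedralGroup n) := by
    apply IsPGroup.of_card (n := k + 1)
    rw [nat_card, hn, pow_succ]
    ring
  obtain ⟨c, hc⟩ := (IsPGroup.iff_orderOf.mp hP) (r i)
  have hri1 : r i ≠ (1 : DihedralGroup n) := by
    intro h
    rw [one_def] at h
    injection h with h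
    exact hi0 h
  have hc1 : 1 ≤ c := by
    by_contra hcon
    have hc0 : c = 0 := by omega
    rw [hc0, pow_zero, orderOf_eq_one_iff] at hc
    exact hri1 hc
  have hcc : 2 ^ c = 2 * 2 ^ (c - 1) := by
    rw [← pow_succ']
    congr 1
    omega
  have hwH : (r i) ^ (2 ^ (c - 1)) ∈ H := H.pow_mem hiH _
  have hw2 : ((r i) ^ (2 ^ (c - 1))) ^ 2 = 1 := by
    rw [← pow_mul, mul_comm, ← hcc, ← hc]
    exact pow_orderOf_eq_one _
  have hw1 : (r i) ^ (2 ^ (c - 1)) ≠ 1 := by
    intro h
    have h1 := orderOf_dvd_of_pow_eq_one h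
    rw [hc, hcc] at h1
    have := Nat.le_of_dvd (by positivity) h1
    have : 0 < 2 ^ (c - 1) := by positivity
    omega
  rw [r_pow] at hwH hw2 hw1
  set i' := i * ((2 ^ (c - 1) : ℕ) : ZMod n) with hi'
  have hi'2 : i' + i' = 0 := by
    rw [r_pow, one_def] at hw2
    injection hw2 with h
    rw [← h]
    push_cast
    ring
  have hrN : r ((2 ^ (k - 1) : ℕ) : ZMod n) ∈ H := by
    rcases eq_zero_or_of_add_self_even hnN i' hi'2 with h0 | hN
    · exfalso
      apply hw1
      rw [h0, r_zero]
    · rw [← hN]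
      exact hwH
  intro g hg
  have hcomm : g * sr j = sr j * g := (Subgroup.mem_centralizer_iff.mp hg (sr j) hj).symm
  rcases commute_sr hcomm with ⟨a, rfl, ha⟩ | ⟨a, rfl, ha⟩
  · rcases eq_zero_or_of_add_self_even hnN a ha with h0 | hN
    · rw [h0, r_zero]
      exact one_mem _
    · rw [hN]
      exact hrN
  · rcases eq_zero_or_of_add_self_even hnN _ ha with h0 | hN
    · rw [sub_eq_zero] at h0
      rw [h0]
      exact hj
    · have h1 : a = j + ((2 ^ (k - 1) : ℕ) : ZMod n) := by
        rw [← hN]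
        ring
      rw [h1, ← sr_mul_r]
      exact mul_mem hj hrN

/-- index of an element of the dihedral group -/
def idx : DihedralGroup n → ZMod n
  | r i => i
  | sr i => i

/-- the subgroup of the dihedral group determined by an additive subgroup of `ZMod n` -/
def subD (S : AddSubgroup (ZMod n)) : Subgroup (DihedralGroup n) where
  carrier := {g | idx g ∈ S}
  mul_mem' := by
    intro a b ha hb
    rw [Set.mem_setOf_eq] at ha hb ⊢
    cases a with
    | r i =>
      cases b with
      | r j => rw [r_mul_r]; exact S.add_mem ha hb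
      | sr j => rw [r_mul_sr]; exact S.sub_mem hb ha
    | sr i =>
      cases b with
      | r j => rw [sr_mul_r]; exact S.add_mem ha hb
      | sr j => rw [sr_mul_sr]; exact S.sub_mem hb ha
  one_mem' := by
    rw [Set.mem_setOf_eq, one_def]
    exact S.zero_mem
  inv_mem' := by
    intro a ha
    rw [Set.mem_setOf_eq] at ha ⊢
    cases a with
    | r i => exact S.neg_mem ha
    | sr i => exact ha

theorem r_mem_subD (S : AddSubgroup (ZMod n)) (i : ZMod n) : r i ∈ subD S ↔ i ∈ S := Iff.rfl

theorem sr_mem_subD (S : AddSubgroup (ZMod n)) (i : ZMod n) : sr i ∈ subD S ↔ i ∈ S := Iff.rfl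

theorem not_self_centralizing (hn : ¬ (Odd n ∨ ∃ k : ℕ, n = 2 ^ k)) :
    ∃ H : Subgroup (DihedralGroup n), ¬ IsCyclic H ∧
      ¬ Subgroup.centralizer (H : Set (DihedralGroup n)) ≤ H := by
  push Not at hn
  obtain ⟨hodd, hpow⟩ := hn
  obtain ⟨a, m, hm, hnam⟩ := Nat.exists_eq_two_pow_mul_odd (NeZero.ne n)
  have ha1 : 1 ≤ a := by
    by_contra hcon
    have : a = 0 := by omega
    rw [this, pow_zero, one_mul] at hnam
    exact hodd (hnam ▸ hm)
  have hm1 : m ≠ 1 := by
    intro h
    rw [h, mul_one] at hnam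
    exact hpow a hnam
  have hm3 : 3 ≤ m := by
    obtain ⟨t, ht⟩ := hm
    omega
  have haa : 2 ^ a = 2 * 2 ^ (a - 1) := by
    rw [← pow_succ']
    congr 1
    omega
  set N := 2 ^ (a - 1) * m with hN
  have hnN : n = 2 * N := by rw [hnam, haa, hN]; ring
  set S := AddSubgroup.zmultiples (((2 ^ a : ℕ) : ZMod n)) with hS
  refine ⟨subD S, ?_, ?_⟩
  · -- not cyclic: `sr 0` and `r (2 ^ a)` do not commute
    intro hcyc
    have h0 : sr (0 : ZMod n) ∈ subD S := (sr_mem_subD S 0).mpr S.zero_mem
    have h1 : r (((2 ^ a : ℕ) : ZMod n)) ∈ subD S :=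
      (r_mem_subD S _).mpr (AddSubgroup.mem_zmultiples _)
    have hc := (IsCyclic.isMulCommutative (α := subD S)).is_comm.comm ⟨_, h0⟩ ⟨_, h1⟩
    have hc' : sr (0 : ZMod n) * r (((2 ^ a : ℕ) : ZMod n)) =
        r (((2 ^ a : ℕ) : ZMod n)) * sr 0 := congrArg Subtype.val hc
    rw [sr_mul_r, r_mul_sr] at hc'
    injection hc' with h2
    have h3 : (((2 ^ a + 2 ^ a : ℕ)) : ZMod n) = 0 := by
      rw [Nat.cast_add]
      linear_combination h2
    rw [ZMod.natCast_eq_zero_iff, hnam] at h3
    have h4 : 2 ^ a * m ∣ 2 ^ a * 2 := by rwa [mul_two]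
    have h5 : m ∣ 2 := Nat.dvd_of_mul_dvd_mul_left (by positivity) h4
    have := Nat.le_of_dvd (by norm_num) h5
    omega
  · -- `r N` is central but not in the subgroup
    intro hle
    have hNN : (N : ZMod n) + (N : ZMod n) = 0 := natCast_add_self hnN
    have hcen : r (N : ZMod n) ∈ Subgroup.centralizer ((subD S : Subgroup (DihedralGroup n)) :
        Set (DihedralGroup n)) := by
      rw [Subgroup.mem_centralizer_iff]
      intro g _
      cases g with
      | r i => rw [r_mul_r, r_mul_r, add_comm]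
      | sr i =>
        rw [sr_mul_r, r_mul_sr]
        congr 1
        linear_combination hNN
    have hmem := hle hcen
    rw [r_mem_subD, hS, AddSubgroup.mem_zmultiples_iff] at hmem
    obtain ⟨t, ht⟩ := hmem
    have h1 : (((t * (2 ^ a : ℕ) - (N : ℕ) : ℤ)) : ZMod n) = 0 := by
      push_cast
      rw [← ht]
      simp
    rw [ZMod.intCast_zmod_eq_zero_iff_dvd] at h1
    have h2 : ((2 ^ a : ℕ) : ℤ) ∣ (n : ℤ) := by
      rw [hnam]
      push_cast
      exact dvd_mul_right _ _
    have h3 : ((2 ^ a : ℕ) : ℤ) ∣ t * (2 ^ a : ℕ) - (N : ℕ) := h2.trans h1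
    have h4 : ((2 ^ a : ℕ) : ℤ) ∣ (N : ℕ) := by
      have h5 : ((2 ^ a : ℕ) : ℤ) ∣ t * (2 ^ a : ℕ) := dvd_mul_left _ _
      have := dvd_sub h5 h3
      simpa using this
    have h6 : 2 ^ a ∣ N := Int.natCast_dvd_natCast.mp h4
    rw [hN, haa] at h6
    have h7 : 2 ∣ m := by
      have : 2 ^ (a - 1) * 2 ∣ 2 ^ (a - 1) * m := by rwa [mul_comm 2 _] at h6
      exact Nat.dvd_of_mul_dvd_mul_left (by positivity) this
    obtain ⟨u, hu⟩ := hm
    omega

end Main

/-- Say that a group has self-centralizing non-cyclic subgroups when every non-cyclic subgroup H satisfies C_G(H) ≤ H. For n ≥ 3, the dihedral group of order 2n has self-centralizing non-cyclic subgroups if and only if n is odd or a power of 2. -/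
theorem result (n : ℕ) (hn : 3 ≤ n) : (∀ H : Subgroup (DihedralGroup n), ¬ IsCyclic ↥H → Subgroup.centralizer (H : Set (DihedralGroup n)) ≤ H) ↔ (Odd n ∨ ∃ k : ℕ, n = 2 ^ k) := by
  have : NeZero n := ⟨by omega⟩
  constructor
  · intro hyp
    by_contra hcon
    obtain ⟨H, hH, hnot⟩ := not_self_centralizing hcon
    exact hnot (hyp H hH)
  · rintro (hodd | ⟨k, hk⟩) H hH
    · exact self_centralizing_odd hodd H hH
    · exact self_centralizing_two_pow k hk hn H hH

end Cfsg.Agent.S3920
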