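import Cfsg.Statements.S3939
import Mathlib
import Cfsg.Agent.Lib.Helper21.Engel
import Cfsg.Agent.Lib.Helper10.FittingHall
import Cfsg.Agent.Lib.Helper10.PGroup
import Cfsg.Agent.S3986

set_option autoImplicit false
open Cfsg

namespace Cfsg.Agent.S3939

open Cfsg.Agent.Lib.Helper21

universe u

/-- `⟨x, g⟩` is nilpotent when `g` is in the `N`-th term of the upper central series. -/
theorem nilp_of_mem_ucs (N : ℕ) : ∀ (G : Type u) [Group G] (g x : G),
    g ∈ Subgroup.upperCentralSeries G N → Group.IsNilpotent (Subgroup.closure ({x, g} : Set G)) := by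
  induction N with
  | zero =>
    intro G _ g x hg
    rw [Subgroup.upperCentralSeries_zero, Subgroup.mem_bot] at hg
    subst hg
    have hle : Subgroup.closure ({x, 1} : Set G) ≤ Subgroup.zpowers x := by
      rw [Subgroup.closure_le]
      intro z hz
      rcases hz with rfl | rfl
      · exact Subgroup.mem_zpowers _
      · exact Subgroup.one_mem _
    have hz : Group.IsNilpotent (Subgroup.zpowers x) := by
      let _ := IsCyclic.commGroup (α := Subgroup.zpowers x)
      infer_instance
    exact isNilpotent_of_le hle hz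
  | succ N ih =>
    intro G _ g x hg
    set H := Subgroup.closure ({x, g} : Set G) with hH
    set π := QuotientGroup.mk' (Subgroup.center G) with hπ
    have hgb : π g ∈ Subgroup.upperCentralSeries (G ⧸ Subgroup.center G) N := by
      have := Subgroup.comap_upperCentralSeries_quotient_center (G := G) N
      rw [← this] at hg
      exact hg
    have hnil := ih (G ⧸ Subgroup.center G) (π g) (π x) hgb
    let f : H →* G ⧸ Subgroup.center G := π.comp H.subtype
    have hrange : f.range ≤ Subgroup.closure ({π x, π g} : Set (G ⧸ Subgroup.center G)) := by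
      rintro _ ⟨⟨h, hh⟩, rfl⟩
      have : π h ∈ (Subgroup.closure ({x, g} : Set G)).map π := ⟨h, hh, rfl⟩
      rw [MonoidHom.map_closure] at this
      have himg : π '' ({x, g} : Set G) = {π x, π g} := by
        rw [Set.image_insert_eq, Set.image_singleton]
      rw [himg] at this
      exact this
    have hrn : Group.IsNilpotent f.range := isNilpotent_of_le hrange hnil
    haveI := hrn
    apply Subgroup.isNilpotent_of_ker_le_center f.rangeRestrict
    rw [MonoidHom.ker_rangeRestrict]
    intro h hh
    rw [MonoidHom.mem_ker] at hh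
    have hc : (h : G) ∈ Subgroup.center G := by
      rw [← QuotientGroup.ker_mk' (Subgroup.center G), MonoidHom.mem_ker]
      exact hh
    rw [Subgroup.mem_center_iff]
    intro k
    apply Subtype.ext
    simp only [Subgroup.coe_mul]
    exact Subgroup.mem_center_iff.mp hc k

/-- In a nilpotent subgroup, `p`-elements generate a `p`-group. -/
theorem isPGroup_closure_pair_of_le_nilpotent {Q : Type*} [Group Q] [Finite Q] {p : ℕ} [Fact p.Prime]
    (H : Subgroup Q) (hH : Group.IsNilpotent H) (a b : Q) (ha : a ∈ H) (hb : b ∈ H)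
    (hao : ∃ i : ℕ, orderOf a = p ^ i) (hbo : ∃ i : ℕ, orderOf b = p ^ i) :
    IsPGroup p (Subgroup.closure ({a, b} : Set Q)) := by
  obtain ⟨P⟩ : Nonempty (Sylow p H) := inferInstance
  have hPn : (P : Subgroup H).Normal := inferInstance
  have haP : (⟨a, ha⟩ : H) ∈ (P : Subgroup H) :=
    Cfsg.Agent.S3986.mem_normal_sylow P hPn _ (by rw [Subgroup.orderOf_mk]; exact hao)
  have hbP : (⟨b, hb⟩ : H) ∈ (P : Subgroup H) :=
    Cfsg.Agent.S3986.mem_normal_sylow P hPn _ (by rw [Subgroup.orderOf_mk]; exact hbo)
  have hle : Subgroup.closure ({a, b} : Set Q) ≤ (P : Subgroup H).map H.subtype := by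
    rw [Subgroup.closure_le]
    intro z hz
    rcases hz with rfl | rfl
    · exact ⟨_, haP, rfl⟩
    · exact ⟨_, hbP, rfl⟩
  exact (P.2.map _).to_le hle

/-- Lemma C. -/
theorem eq_one_of_center_eq_bot {Q : Type*} [Group Q] [Finite Q] (hZ : Subgroup.center Q = ⊥)
    (h : Q) (hh : ∀ x : Q, Group.IsNilpotent (Subgroup.closure ({x, h} : Set Q))) : h = 1 := by
  by_contra hne
  have hne1 : orderOf h ≠ 1 := by rwa [Ne, orderOf_eq_one_iff]
  obtain ⟨p, hp, hpdvd⟩ := Nat.exists_prime_and_dvd hne1
  haveI : Fact p.Prime := ⟨hp⟩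
  set k := h ^ (orderOf h / p) with hk
  have hko : orderOf k = p := by
    rw [hk, orderOf_pow_orderOf_div (orderOf_pos h).ne' hpdvd]
  have hk1 : k ≠ 1 := by
    intro h1; rw [h1, orderOf_one] at hko; exact hp.one_lt.ne hko
  have hkk : ∀ x : Q, Group.IsNilpotent (Subgroup.closure ({x, k} : Set Q)) := by
    intro x
    apply isNilpotent_of_le _ (hh x)
    rw [Subgroup.closure_le]
    intro z hz
    rcases hz with rfl | rfl
    · exact Subgroup.subset_closure (by simp)
    · exact Subgroup.pow_mem _ (Subgroup.subset_closure (by simp)) _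
  -- (1) k commutes with elements of order coprime to p
  have hcomm : ∀ y : Q, (orderOf y).Coprime p → Commute y k := by
    intro y hy
    haveI := hkk y
    have hyH : y ∈ Subgroup.closure ({y, k} : Set Q) := Subgroup.subset_closure (by simp)
    have hkH : k ∈ Subgroup.closure ({y, k} : Set Q) := Subgroup.subset_closure (by simp)
    have := Cfsg.Agent.Lib.Helper10.commute_of_coprime_orderOf
      (Subgroup.closure ({y, k} : Set Q)) ⟨y, hyH⟩ ⟨k, hkH⟩
      (by rw [Subgroup.orderOf_mk, Subgroup.orderOf_mk, hko]; exact hy)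
    exact congrArg Subtype.val this.eq
  -- (2) Baer–Suzuki
  have hBS : ∀ a : Q, IsPGroup p (Subgroup.closure ({k, a * k * a⁻¹} : Set Q)) := by
    intro a
    have hkH : k ∈ Subgroup.closure ({a, k} : Set Q) := Subgroup.subset_closure (by simp)
    have haH : a ∈ Subgroup.closure ({a, k} : Set Q) := Subgroup.subset_closure (by simp)
    apply isPGroup_closure_pair_of_le_nilpotent _ (hkk a) k (a * k * a⁻¹) hkH
      (Subgroup.mul_mem _ (Subgroup.mul_mem _ haH hkH) (Subgroup.inv_mem _ haH))
    · exact ⟨1, by rw [hko, pow_one]⟩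
    · exact ⟨1, by rw [← MulAut.conj_apply, MulEquiv.orderOf_eq, hko, pow_one]⟩
  obtain ⟨N, hNn, hNp, hkN⟩ := baer_suzuki_element (p := p) k hBS
  -- A = normal closure of k
  set A := Subgroup.normalClosure ({k} : Set Q) with hA
  have hAN : A ≤ N := Subgroup.normalClosure_le_normal (by simpa using hkN)
  have hAp : IsPGroup p A := hNp.to_le hAN
  have hAn : A.Normal := Subgroup.normalClosure_normal
  have hkA : k ∈ A := Subgroup.subset_normalClosure (by simp)
  have hAbot : A ≠ ⊥ := by
    intro hb; rw [hb, Subgroup.mem_bot] at hkA; exact hk1 hkA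
  -- every p'-element centralizes A
  have hcent : ∀ y : Q, (orderOf y).Coprime p → y ∈ Subgroup.centralizer (A : Set Q) := by
    intro y hy
    rw [hA, Subgroup.normalClosure, Subgroup.centralizer_closure, Subgroup.centralizer_eq_iInf]
    rw [Subgroup.mem_iInf]
    intro z
    rw [Subgroup.mem_iInf]
    intro hz
    rw [Group.mem_conjugatesOfSet_iff] at hz
    obtain ⟨w, hw, hwz⟩ := hz
    rw [Set.mem_singleton_iff] at hw
    subst hw
    obtain ⟨c, hc⟩ := isConj_iff.mp hwz
    rw [Subgroup.mem_centralizer_singleton_iff]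
    have hy' : (orderOf (c⁻¹ * y * c)).Coprime p := by
      have : c⁻¹ * y * c = c⁻¹ * y * c⁻¹⁻¹ := by group
      rw [this, ← MulAut.conj_apply, MulEquiv.orderOf_eq]; exact hy
    have h1 := (hcomm _ hy').eq
    rw [← hc]
    calc y * (c * k * c⁻¹) = c * ((c⁻¹ * y * c) * k) * c⁻¹ := by group
      _ = c * (k * (c⁻¹ * y * c)) * c⁻¹ := by rw [h1]
      _ = c * k * c⁻¹ * y := by group
  -- (4) a central element
  obtain ⟨P, hAP⟩ := hAp.exists_le_sylow
  haveI : (A.subgroupOf (P : Subgroup Q)).Normal := hAn.subgroupOf _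
  have hAP' : A.subgroupOf (P : Subgroup Q) ≠ ⊥ := by
    intro hb
    apply hAbot
    rw [Subgroup.subgroupOf_eq_bot] at hb
    rw [eq_bot_iff]
    intro z hz
    have := hb.le_bot ⟨hz, hAP hz⟩
    exact this
  have h4 := Cfsg.Agent.Lib.Helper10.normal_inf_center_ne_bot P.2 (A.subgroupOf (P : Subgroup Q)) hAP'
  obtain ⟨⟨z, hzP⟩, hz, hz1⟩ := (Subgroup.ne_bot_iff_exists_ne_one).mp h4 |> fun ⟨w, hw⟩ =>
    (⟨w.1, w.2, fun h1 => hw (Subtype.ext h1)⟩ :
      ∃ z : (P : Subgroup Q), z ∈ A.subgroupOf (P : Subgroup Q) ⊓ Subgroup.center (P : Subgroup Q) ∧ z ≠ 1)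
  have hzA : z ∈ A := hz.1
  have hzc : ∀ w ∈ (P : Subgroup Q), w * z = z * w := by
    intro w hw
    have := Subgroup.mem_center_iff.mp hz.2 ⟨w, hw⟩
    exact congrArg Subtype.val this
  -- centralizer of z is everything
  have htop : Subgroup.centralizer ({z} : Set Q) = ⊤ := by
    apply Cfsg.Agent.S3986.eq_top_of_sylow_le
    intro q hq
    by_cases hqp : q = p
    · subst hqp
      refine ⟨P, ?_, P.not_dvd_index⟩
      intro w hw
      rw [Subgroup.mem_centralizer_singleton_iff]
      exact hzc w hw
    · haveI : Fact q.Prime := ⟨hq⟩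
      obtain ⟨S⟩ : Nonempty (Sylow q Q) := inferInstance
      refine ⟨S, ?_, S.not_dvd_index⟩
      intro w hw
      obtain ⟨j, hj⟩ := (IsPGroup.iff_orderOf.mp S.2) ⟨w, hw⟩
      rw [Subgroup.orderOf_mk] at hj
      have hcop : (orderOf w).Coprime p := by
        rw [hj]
        exact Nat.Coprime.pow_left _ ((Nat.coprime_primes hq hp).mpr hqp)
      have := hcent w hcop
      rw [Subgroup.mem_centralizer_iff] at this
      rw [Subgroup.mem_centralizer_singleton_iff]
      exact (this z hzA).symm
  have hzZ : z ∈ Subgroup.center Q := by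
    rw [Subgroup.mem_center_iff]
    intro w
    have : w ∈ Subgroup.centralizer ({z} : Set Q) := by rw [htop]; trivial
    rw [Subgroup.mem_centralizer_singleton_iff] at this
    exact this
  rw [hZ, Subgroup.mem_bot] at hzZ
  exact hz1 (Subtype.ext hzZ)

/-- In a finite group G the set of elements g such that the subgroup generated by g and x is nilpotent for every x ∈ G is exactly the hypercenter of G (the last term of the upper central series). -/
theorem result {G : Type*} [Group G] [Finite G] (g : G) :
    (∀ x : G, Group.IsNilpotent ↥(Subgroup.closure ({x, g} : Set G))) ↔ g ∈ ⨆ n : ℕ, Subgroup.upperCentralSeries G n := by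
  -- the series stabilizes
  have hstab : ∃ N : ℕ, ∀ m : ℕ, N ≤ m → Subgroup.upperCentralSeries G N = Subgroup.upperCentralSeries G m := by
    have hwf : WellFoundedGT (Subgroup G) := inferInstance
    exact (wellFoundedGT_iff_monotone_chain_condition.mp hwf) ⟨Subgroup.upperCentralSeries G, Subgroup.upperCentralSeries_mono G⟩
  obtain ⟨N, hN⟩ := hstab
  have hsup : (⨆ n : ℕ, Subgroup.upperCentralSeries G n) = Subgroup.upperCentralSeries G N := by
    apply le_antisymm
    · apply iSup_le
      intro n
      rcases le_total n N with h | h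
      · exact Subgroup.upperCentralSeries_mono G h
      · rw [hN n h]
    · exact le_iSup (fun n => Subgroup.upperCentralSeries G n) N
  rw [hsup]
  constructor
  · intro h
    set Z := Subgroup.upperCentralSeries G N with hZ
    -- centre of G ⧸ Z is trivial
    have hcen : Subgroup.center (G ⧸ Z) = ⊥ := by
      rw [eq_bot_iff]
      intro zb hzb
      obtain ⟨z, rfl⟩ := QuotientGroup.mk'_surjective Z zb
      rw [Subgroup.mem_bot]
      have hz : z ∈ Subgroup.upperCentralSeries G (N + 1) := by
        rw [Subgroup.mem_upperCentralSeries_succ_iff]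
        intro y
        rw [← hZ, ← QuotientGroup.ker_mk' Z, MonoidHom.mem_ker, map_commutatorElement]
        rw [commutatorElement_eq_one_iff_commute]
        exact (Subgroup.mem_center_iff.mp hzb (QuotientGroup.mk' Z y)).symm
      rw [← hN (N + 1) (Nat.le_succ N)] at hz
      rw [← MonoidHom.mem_ker, QuotientGroup.ker_mk']
      exact hz
    have hq : ∀ xb : G ⧸ Z, Group.IsNilpotent (Subgroup.closure ({xb, QuotientGroup.mk' Z g} : Set (G ⧸ Z))) := by
      intro xb
      obtain ⟨x, rfl⟩ := QuotientGroup.mk'_surjective Z xb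
      have himg : (Subgroup.closure ({x, g} : Set G)).map (QuotientGroup.mk' Z) =
          Subgroup.closure ({QuotientGroup.mk' Z x, QuotientGroup.mk' Z g} : Set (G ⧸ Z)) := by
        rw [MonoidHom.map_closure, Set.image_insert_eq, Set.image_singleton]
      rw [← himg]
      haveI := h x
      exact Group.nilpotent_of_surjective ((QuotientGroup.mk' Z).subgroupMap _)
        ((QuotientGroup.mk' Z).subgroupMap_surjective _)
    have := eq_one_of_center_eq_bot hcen _ hq
    rw [← MonoidHom.mem_ker, QuotientGroup.ker_mk'] at this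
    exact this
  · intro h x
    exact nilp_of_mem_ucs N G g x h

end Cfsg.Agent.S3939
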