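-- Statement S3941.
import Cfsg.Statements.S3941
-- import your own Cfsg.Agent.* helpers here

set_option autoImplicit false
open Cfsg

namespace Cfsg.Agent.S3941

/-- a `p`-closed injective image with order divisible by `p` gives a nontrivial normal `p`-subgroup -/
theorem exists_normal_pgroup {K G : Type*} [Group K] [Finite K] [Group G] (p : ℕ) [Fact p.Prime]
    (ψ : K →* G) (hψ : Function.Injective ψ) (hcl : Cfsg.IsPClosed p ↥ψ.range) (hdvd : p ∣ Nat.card K) :
    ∃ Q : Subgroup K, Q.Normal ∧ Q ≠ ⊥ ∧ IsPGroup p Q := by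
  have hcard : Nat.card ψ.range = Nat.card K := (Nat.card_congr (MonoidHom.ofInjective hψ).toEquiv).symm
  haveI : Finite ψ.range := Nat.finite_of_card_ne_zero (by rw [hcard]; exact Nat.card_pos.ne')
  obtain ⟨P⟩ : Nonempty (Sylow p ψ.range) := inferInstance
  have hPn : (P : Subgroup ψ.range).Normal := hcl P
  have hrr_inj : Function.Injective ψ.rangeRestrict := by
    intro a b hab
    apply hψ
    have := congrArg Subtype.val hab
    simpa using this
  refine ⟨(P : Subgroup ψ.range).comap ψ.rangeRestrict, hPn.comap _, ?_, ?_⟩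
  · intro hbot
    have h1 : ((P : Subgroup ψ.range).comap ψ.rangeRestrict).map ψ.rangeRestrict = (P : Subgroup ψ.range) :=
      Subgroup.map_comap_eq_self_of_surjective ψ.rangeRestrict_surjective _
    rw [hbot, Subgroup.map_bot] at h1
    exact P.ne_bot_of_dvd_card (by rw [hcard]; exact hdvd) h1.symm
  · exact P.isPGroup'.comap_of_injective _ hrr_inj

theorem two_dvd_card_alt (m : ℕ) (hm : 4 ≤ m) : 2 ∣ Nat.card (alternatingGroup (Fin m)) := by
  haveI : Nontrivial (Fin m) := Fin.nontrivial_iff_two_le.mpr (by omega)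
  have h1 := two_mul_nat_card_alternatingGroup (α := Fin m)
  rw [Nat.card_perm, Nat.card_fin] at h1
  have h4 : 4 ∣ m.factorial := by
    have : (4 : ℕ).factorial ∣ m.factorial := Nat.factorial_dvd_factorial hm
    exact dvd_trans (by decide) this
  omega

theorem no_normal_pgroup_alt (m p : ℕ) (hm : 4 ≤ m) [Fact p.Prime] (hp : p ≠ 2)
    (Q : Subgroup (alternatingGroup (Fin m))) (hQn : Q.Normal) (hQ : Q ≠ ⊥) (hQp : IsPGroup p Q) : False := by
  have hpp : p.Prime := Fact.out
  obtain ⟨k, hk⟩ := IsPGroup.iff_card.mp hQp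
  by_cases h5 : 5 ≤ m
  · have hsimple : IsSimpleGroup (alternatingGroup (Fin m)) :=
      alternatingGroup.isSimpleGroup (by rw [Nat.card_fin]; exact h5)
    rcases hQn.eq_bot_or_eq_top with h | h
    · exact hQ h
    · have h2 := two_dvd_card_alt m hm
      rw [← Subgroup.card_top (G := alternatingGroup (Fin m)), ← h, hk] at h2
      have := (Nat.prime_dvd_prime_iff_eq Nat.prime_two hpp).mp (Nat.prime_two.dvd_of_dvd_pow h2)
      exact hp this.symm
  · have hm4 : m = 4 := by omega
    subst hm4
    have hα4 : Nat.card (Fin 4) = 4 := Nat.card_fin 4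
    have h12 : Nat.card (alternatingGroup (Fin 4)) = 12 := alternatingGroup.card_of_card_eq_four hα4
    have hdvd : Nat.card Q ∣ 12 := by rw [← h12]; exact Subgroup.card_subgroup_dvd_card Q
    have hk0 : k ≠ 0 := by
      intro h0
      rw [h0, pow_zero] at hk
      exact hQ (Subgroup.card_eq_one.mp hk)
    have hp12 : p ∣ 12 := dvd_trans (dvd_pow_self p hk0) (hk ▸ hdvd)
    have hp3 : p = 3 := by
      have : p ≤ 12 := Nat.le_of_dvd (by norm_num) hp12
      have h2 := hpp.two_le
      interval_cases p <;> first | rfl | omega | (exfalso; revert hpp; decide)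
    subst hp3
    have hk1 : k = 1 := by
      rw [hk] at hdvd
      by_contra hk1
      have : 2 ≤ k := by omega
      have h9 : 3 ^ 2 ∣ 12 := dvd_trans (pow_dvd_pow 3 this) hdvd
      omega
    rw [hk1, pow_one] at hk
    have hquot : Nat.card (alternatingGroup (Fin 4) ⧸ Q) = 2 ^ 2 := by
      have := Subgroup.card_eq_card_quotient_mul_card_subgroup Q
      rw [h12, hk] at this
      omega
    have hcomm := IsPGroup.commutative_of_card_eq_prime_sq (p := 2) hquot
    letI : CommGroup (alternatingGroup (Fin 4) ⧸ Q) :=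
      { (inferInstance : Group (alternatingGroup (Fin 4) ⧸ Q)) with mul_comm := hcomm }
    have h1 : commutator (alternatingGroup (Fin 4)) ≤ (QuotientGroup.mk' Q).ker :=
      Abelianization.commutator_subset_ker _
    rw [QuotientGroup.ker_mk', ← alternatingGroup.kleinFour_eq_commutator hα4] at h1
    have h2 := Subgroup.card_le_of_le h1
    rw [alternatingGroup.kleinFour_card_of_card_eq_four hα4, hk] at h2
    omega

/-- Let n ≥ 5 and p an odd prime with p ≤ n, and suppose that every proper subgroup of the alternating group of degree n whose order is divisible by p has a normal Sylow p-subgroup. Then n = p. -/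
theorem result (n p : ℕ) (hn : 5 ≤ n) [Fact p.Prime] (hp : p ≠ 2) (hpn : p ≤ n)
    (h : ∀ H : Subgroup ↥(alternatingGroup (Fin n)), H ≠ ⊤ → p ∣ Nat.card ↥H → Cfsg.IsPClosed p ↥H) : n = p := by
  by_contra hne
  have hpp : p.Prime := Fact.out
  obtain ⟨m, rfl⟩ : ∃ m, n = m + 1 := ⟨n - 1, by omega⟩
  have hpm : p ≤ m := by omega
  have hm : 4 ≤ m := by omega
  let e : Fin m ≃ {x : Fin (m + 1) // x ≠ Fin.last m} := finSuccAboveEquiv (Fin.last m)
  let φ : Equiv.Perm (Fin m) →* Equiv.Perm (Fin (m + 1)) := Equiv.Perm.extendDomainHom e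
  have hφinj : Function.Injective φ := Equiv.Perm.extendDomainHom_injective e
  have hφsign : ∀ g, Equiv.Perm.sign (φ g) = Equiv.Perm.sign g :=
    fun g => Equiv.Perm.sign_extendDomain g e
  have hφlast : ∀ g, φ g (Fin.last m) = Fin.last m := by
    intro g
    exact Equiv.Perm.extendDomain_apply_not_subtype g e (by simp)
  let ψ : alternatingGroup (Fin m) →* alternatingGroup (Fin (m + 1)) :=
    (φ.comp (alternatingGroup (Fin m)).subtype).codRestrict (alternatingGroup (Fin (m + 1))) (fun g => by
      rw [Equiv.Perm.mem_alternatingGroup, MonoidHom.comp_apply, hφsign]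
      exact Equiv.Perm.mem_alternatingGroup.mp g.2)
  have hψval : ∀ g, ((ψ g : alternatingGroup (Fin (m + 1))) : Equiv.Perm (Fin (m + 1))) = φ g := fun g => rfl
  have hψinj : Function.Injective ψ := by
    intro a b hab
    apply Subtype.ext
    apply hφinj
    rw [← hψval, ← hψval, hab]
  -- the range is proper
  have hne_top : ψ.range ≠ ⊤ := by
    intro htop
    have h0 : (⟨0, by omega⟩ : Fin (m + 1)) ≠ ⟨1, by omega⟩ := by
      intro h; have := congrArg Fin.val h; simp at this
    have hl0 : Fin.last m ≠ (⟨0, by omega⟩ : Fin (m + 1)) := by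
      intro h; have := congrArg Fin.val h; simp at this; omega
    have hl1 : Fin.last m ≠ (⟨1, by omega⟩ : Fin (m + 1)) := by
      intro h; have := congrArg Fin.val h; simp at this; omega
    have hc : Equiv.swap (Fin.last m) ⟨0, by omega⟩ * Equiv.swap (⟨0, by omega⟩ : Fin (m + 1)) ⟨1, by omega⟩ ∈
        alternatingGroup (Fin (m + 1)) := by
      rw [Equiv.Perm.mem_alternatingGroup, map_mul, Equiv.Perm.sign_swap hl0, Equiv.Perm.sign_swap h0]
      rfl
    have hmem : (⟨_, hc⟩ : alternatingGroup (Fin (m + 1))) ∈ ψ.range := by rw [htop]; exact Subgroup.mem_top _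
    obtain ⟨g, hg⟩ := hmem
    have h1 := hφlast g
    rw [← hψval, hg] at h1
    simp only [Equiv.Perm.mul_apply] at h1
    rw [Equiv.swap_apply_of_ne_of_ne hl0 hl1, Equiv.swap_apply_left] at h1
    exact hl0 h1.symm
  -- p divides the order
  have hdvdK : p ∣ Nat.card (alternatingGroup (Fin m)) := by
    haveI : Nontrivial (Fin m) := Fin.nontrivial_iff_two_le.mpr (by omega)
    have h1 := two_mul_nat_card_alternatingGroup (α := Fin m)
    rw [Nat.card_perm, Nat.card_fin] at h1
    have h2 : p ∣ m.factorial := (hpp.dvd_factorial).mpr hpm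
    rw [← h1] at h2
    rcases (hpp.dvd_mul).mp h2 with h3 | h3
    · exact absurd ((Nat.prime_dvd_prime_iff_eq hpp Nat.prime_two).mp h3) hp
    · exact h3
  have hdvdH : p ∣ Nat.card ψ.range := by
    rw [← Nat.card_congr (MonoidHom.ofInjective hψinj).toEquiv]; exact hdvdK
  obtain ⟨Q, hQn, hQ, hQp⟩ := exists_normal_pgroup p ψ hψinj (h ψ.range hne_top hdvdH) hdvdK
  exact no_normal_pgroup_alt m p hm hp Q hQn hQ hQp

end Cfsg.Agent.S3941
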