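import Cfsg.Statements.S3949

set_option autoImplicit false
open Cfsg

namespace Cfsg.Agent.S3949

/-- iterate of `c ↦ c * (α c)⁻¹` on an inverted element is a power. -/
theorem iter_inverted {G : Type*} [Group G] (α : MulAut G) (g : G) (hg : α g = g⁻¹) (n : ℕ) :
    ((fun c : G => c * (α c)⁻¹)^[n]) g = g ^ 2 ^ n := by
  induction n generalizing g with
  | zero => simp
  | succ n ih =>
    rw [Function.iterate_succ, Function.comp_apply]
    have h1 : g * (α g)⁻¹ = g ^ 2 := by rw [hg, inv_inv, pow_two]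
    have h2 : α (g ^ 2) = (g ^ 2)⁻¹ := by rw [map_pow, hg, inv_pow]
    rw [h1, ih (g ^ 2) h2, ← pow_mul, pow_succ, mul_comm]

theorem f_inverted {G : Type*} [Group G] (α : MulAut G) (hα : α ^ 2 = 1) (c : G) :
    α (c * (α c)⁻¹) = (c * (α c)⁻¹)⁻¹ := by
  have : α (α c) = c := by
    have := congrArg (fun φ : MulAut G => φ c) hα
    simpa [pow_two] using this
  rw [map_mul, map_inv, this, mul_inv_rev, inv_inv]

/-- Let G be a finite group and α an automorphism of G of order 2 such that the elements g·α(g)⁻¹ generate G. Let j be a positive integer such that 2^j divides the order of no element inverted by α. Then the set of values of the j-th iterate of the map c ↦ c·α(c)⁻¹ is exactly the set of elements of odd order inverted by α. -/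
theorem result {G : Type*} [Group G] [Finite G] (α : MulAut G) (hα : orderOf α = 2) (hG : Subgroup.closure (Set.range (fun c : G => c * (α c)⁻¹)) = ⊤)
    (j : ℕ) (hj : ∀ g : G, α g = g⁻¹ → ¬ 2 ^ j ∣ orderOf g) :
    Set.range ((fun c : G => c * (α c)⁻¹)^[j]) = {g : G | Odd (orderOf g) ∧ α g = g⁻¹} := by
  have hα2 : α ^ 2 = 1 := by rw [← hα]; exact pow_orderOf_eq_one α
  -- j ≥ 1
  obtain ⟨k, rfl⟩ : ∃ k, j = k + 1 := by
    rcases j with _ | k
    · exfalso
      exact hj 1 (by simp) (by simp)
    · exact ⟨k, rfl⟩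
  ext g
  constructor
  · rintro ⟨c, rfl⟩
    rw [Function.iterate_succ, Function.comp_apply]
    have hinv := f_inverted α hα2 c
    set d := c * (α c)⁻¹ with hd
    rw [iter_inverted α d hinv k]
    have hdk : α (d ^ 2 ^ k) = (d ^ 2 ^ k)⁻¹ := by rw [map_pow, hinv, inv_pow]
    refine ⟨?_, hdk⟩
    -- order of d is 2^a * m with a ≤ k
    have hnd := hj d hinv
    rw [← Nat.not_even_iff_odd, even_iff_two_dvd]
    intro h2
    apply hnd
    rw [orderOf_pow' d (by positivity : 2 ^ k ≠ 0)] at h2
    -- 2 ∣ o / gcd(o, 2^k) → 2^(k+1) ∣ o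
    set o := orderOf d with ho
    have hopos : 0 < o := orderOf_pos d
    obtain ⟨a, m, hm, hoe⟩ := Nat.exists_eq_two_pow_mul_odd hopos.ne'
    rw [hoe]
    by_cases hak : k + 1 ≤ a
    · exact Dvd.dvd.mul_right (pow_dvd_pow 2 hak) m
    · exfalso
      have hak' : a ≤ k := by omega
      have hgcd : Nat.gcd o (2 ^ k) = 2 ^ a := by
        rw [hoe]
        have h1 : 2 ^ k = 2 ^ a * 2 ^ (k - a) := by rw [← pow_add]; congr 1; omega
        rw [h1, Nat.gcd_mul_left]
        have : Nat.Coprime m (2 ^ (k - a)) := by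
          apply Nat.Coprime.pow_right
          exact hm.coprime_two_right
        rw [this, mul_one]
      rw [hgcd, hoe, Nat.mul_div_cancel_left _ (by positivity)] at h2
      exact (Nat.not_even_iff_odd.mpr hm) (even_iff_two_dvd.mpr h2)
  · rintro ⟨hodd, hinv⟩
    -- g = h^(2^(k+1)) with h a power of g
    have hcop : Nat.Coprime (2 ^ (k + 1)) (orderOf g) := by
      apply Nat.Coprime.pow_left
      exact hodd.coprime_two_left
    obtain ⟨m, hm⟩ := exists_pow_eq_self_of_coprime hcop
    refine ⟨g ^ m, ?_⟩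
    have hinv' : α (g ^ m) = (g ^ m)⁻¹ := by rw [map_pow, hinv, inv_pow]
    rw [iter_inverted α (g ^ m) hinv' (k + 1), ← pow_mul, mul_comm, pow_mul]
    exact hm

end Cfsg.Agent.S3949
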