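import Cfsg.Statements.S3950
import Cfsg.Agent.Lib.Helper21.StemExt
import Cfsg.Agent.Lib.Helper21.BiAddExt

set_option autoImplicit false
open Cfsg

namespace Cfsg.Agent.S3950

open Cfsg.Agent.Lib.Helper21

/-- cyclic groups have trivial multiplier -/
theorem trivial_of_isCyclic {G : Type*} [Group G] [Finite G] [IsCyclic G] :
    Cfsg.HasCyclicSchurMultiplier G 1 := by
  apply hasCyclicSchurMultiplier_one_of
  intro Γ _ _ σ hσ
  obtain ⟨hsurj, hcen, hcomm⟩ := hσ
  have hab : ∀ a b : Γ, a * b = b * a :=
    fun a b => (σ.isMulCommutative_of_isCyclic_of_ker_le_center hcen).is_comm.comm a b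
  have hc : commutator Γ = ⊥ := by
    rw [commutator_def, Subgroup.commutator_eq_bot_iff_le_centralizer]
    intro a _
    rw [Subgroup.mem_centralizer_iff]
    intro b _
    exact hab b a
  rw [eq_bot_iff, ← hc]
  exact hcomm

/-- a finite abelian group that is not cyclic has two "independent" additive characters to some
`ZMod p` -/
theorem exists_chars {G : Type*} [CommGroup G] [Finite G] (hG : ¬ IsCyclic G) :
    ∃ (p : ℕ) (_ : p.Prime) (φ ψ : Additive G →+ ZMod p), ∀ w : ZMod p, ∃ g h : Additive G,
      φ g * ψ h - φ h * ψ g = w := by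
  classical
  obtain ⟨ι, hι, q, hq, k, ⟨e⟩⟩ := AddCommGroup.equiv_directSum_zmod_of_finite (Additive G)
  let e' : Additive G ≃+ Π i, ZMod (q i ^ k i) := e.trans (DirectSum.addEquivProd _)
  by_cases hcop : Pairwise (Function.onFun Nat.Coprime fun i => q i ^ k i)
  · exfalso
    apply hG
    let e'' : Additive G ≃+ ZMod (∏ i, q i ^ k i) := e'.trans (ZMod.prodEquivPi _ hcop).symm.toAddEquiv
    have : IsAddCyclic (Additive G) :=
      isAddCyclic_of_surjective e''.symm e''.symm.surjective
    exact isAddCyclic_additive_iff.mp this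
  · rw [Pairwise] at hcop
    push Not at hcop
    obtain ⟨i, j, hij, hnc⟩ := hcop
    change ¬ Nat.Coprime (q i ^ k i) (q j ^ k j) at hnc
    -- q i = q j and both exponents positive
    have hki : k i ≠ 0 := by
      intro h; apply hnc; rw [h, pow_zero]; exact Nat.coprime_one_left _
    have hkj : k j ≠ 0 := by
      intro h; apply hnc; rw [h, pow_zero]; exact Nat.coprime_one_right _
    have hqq : q i = q j := by
      by_contra hne
      apply hnc
      exact Nat.Coprime.pow _ _ ((Nat.coprime_primes (hq i) (hq j)).mpr hne)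
    have hdi : q i ∣ q i ^ k i := dvd_pow_self _ hki
    have hdj : q i ∣ q j ^ k j := by rw [← hqq]; exact dvd_pow_self _ hkj
    have : Fact (q i).Prime := ⟨hq i⟩
    let φ : Additive G →+ ZMod (q i) :=
      ((ZMod.castHom hdi (ZMod (q i))).toAddMonoidHom.comp (Pi.evalAddMonoidHom _ i)).comp
        e'.toAddMonoidHom
    let ψ : Additive G →+ ZMod (q i) :=
      ((ZMod.castHom hdj (ZMod (q i))).toAddMonoidHom.comp (Pi.evalAddMonoidHom _ j)).comp
        e'.toAddMonoidHom
    refine ⟨q i, hq i, φ, ψ, fun w => ?_⟩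
    refine ⟨e'.symm (Pi.single i ((w.val : ℕ) : ZMod (q i ^ k i))), e'.symm (Pi.single j 1), ?_⟩
    have h1 : φ (e'.symm (Pi.single i ((w.val : ℕ) : ZMod (q i ^ k i)))) = w := by
      simp only [φ, AddMonoidHom.coe_comp, Function.comp_apply, AddEquiv.coe_toAddMonoidHom,
        AddEquiv.apply_symm_apply, Pi.evalAddMonoidHom_apply, Pi.single_eq_same,
        RingHom.toAddMonoidHom_eq_coe, AddMonoidHom.coe_coe, map_natCast]
      exact ZMod.natCast_zmod_val w
    have h2 : ψ (e'.symm (Pi.single j 1)) = 1 := by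
      simp only [ψ, AddMonoidHom.coe_comp, Function.comp_apply, AddEquiv.coe_toAddMonoidHom,
        AddEquiv.apply_symm_apply, Pi.evalAddMonoidHom_apply, Pi.single_eq_same,
        RingHom.toAddMonoidHom_eq_coe, AddMonoidHom.coe_coe, map_one]
    have h3 : φ (e'.symm (Pi.single j 1)) = 0 := by
      simp only [φ, AddMonoidHom.coe_comp, Function.comp_apply, AddEquiv.coe_toAddMonoidHom,
        AddEquiv.apply_symm_apply, Pi.evalAddMonoidHom_apply,
        RingHom.toAddMonoidHom_eq_coe, AddMonoidHom.coe_coe]
      rw [Pi.single_eq_of_ne hij, map_zero]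
    have h4 : ψ (e'.symm (Pi.single i ((w.val : ℕ) : ZMod (q i ^ k i)))) = 0 := by
      simp only [ψ, AddMonoidHom.coe_comp, Function.comp_apply, AddEquiv.coe_toAddMonoidHom,
        AddEquiv.apply_symm_apply, Pi.evalAddMonoidHom_apply,
        RingHom.toAddMonoidHom_eq_coe, AddMonoidHom.coe_coe]
      rw [Pi.single_eq_of_ne (Ne.symm hij), map_zero]
    rw [h1, h2, h3, h4]
    ring

/-- the cocycle from two additive characters -/
def cocOf {G : Type*} [CommGroup G] {p : ℕ} (φ ψ : Additive G →+ ZMod p) : BiAdd G (ZMod p) where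
  toFun g h := φ (Additive.ofMul g) * ψ (Additive.ofMul h)
  map_mul_left g g' h := by
    rw [ofMul_mul, map_add]; ring
  map_mul_right g h h' := by
    rw [ofMul_mul, map_add]; ring

/-- A finite abelian group has trivial Schur multiplier if and only if it is cyclic. -/
theorem result {G : Type*} [CommGroup G] [Finite G] : Cfsg.HasCyclicSchurMultiplier G 1 ↔ IsCyclic G := by
  constructor
  · intro h
    by_contra hG
    obtain ⟨p, hp, φ, ψ, hind⟩ := exists_chars hG
    have : Fact p.Prime := ⟨hp⟩
    have hstem : IsStemExtension (BiAdd.Ext.proj (cocOf φ ψ)) := by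
      apply BiAdd.Ext.isStemExtension_proj
      · intro a b; exact mul_comm a b
      · intro w
        obtain ⟨g, h, hgh⟩ := hind w
        exact ⟨Additive.toMul g, Additive.toMul h, hgh⟩
    obtain ⟨π, hπ⟩ := h.2 (BiAdd.Ext (cocOf φ ψ)) (BiAdd.Ext.proj (cocOf φ ψ)) hstem
    -- the kernel is a subsingleton, but it is `ZMod p`
    have hsub : Subsingleton (Multiplicative (ZMod 1)) := by
      unfold Multiplicative; infer_instance
    have hsub2 : Subsingleton (BiAdd.Ext.proj (cocOf φ ψ)).ker := hπ.subsingleton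
    have hsub3 : Subsingleton (Multiplicative (ZMod p)) :=
      (BiAdd.Ext.kerEquiv (cocOf φ ψ)).symm.injective.subsingleton
    have : Nontrivial (Multiplicative (ZMod p)) := by
      unfold Multiplicative; infer_instance
    exact not_subsingleton _ hsub3
  · intro h
    exact trivial_of_isCyclic

end Cfsg.Agent.S3950
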