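import Cfsg.Statements.S3951
import Cfsg.Agent.Lib.Helper21.StemExt2
import Cfsg.Agent.Lib.Helper21.BiAddExt

set_option autoImplicit false
open Cfsg

namespace Cfsg.Agent.S3951

open Cfsg.Agent.Lib.Helper21

/-- the cocycle `((a, b), (a', b')) ↦ ā b'` -/
noncomputable def coc (m n : ℕ) (hnm : n ∣ m) : BiAdd (Multiplicative (ZMod m × ZMod n)) (ZMod n) where
  toFun g h := ZMod.castHom hnm (ZMod n) (Multiplicative.toAdd g).1 * (Multiplicative.toAdd h).2
  map_mul_left g g' h := by
    simp only [toAdd_mul, Prod.fst_add, map_add]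
    ring
  map_mul_right g h h' := by
    simp only [toAdd_mul, Prod.snd_add]
    ring

/-- For positive integers `m` and `n` with `n` dividing `m`, the Schur multiplier of the abelian group `ZMod m × ZMod n` (written multiplicatively) is cyclic of order `n`. In particular the elementary abelian group of order `p ^ 2` has multiplier of order `p`. -/
theorem result (m n : ℕ) [NeZero m] [NeZero n] (hnm : n ∣ m) : Cfsg.HasCyclicSchurMultiplier (Multiplicative (ZMod m × ZMod n)) n := by
  constructor
  · refine ⟨BiAdd.Ext (coc m n hnm), inferInstance, inferInstance, BiAdd.Ext.proj (coc m n hnm), ?_,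
      ⟨BiAdd.Ext.kerEquiv (coc m n hnm)⟩⟩
    apply BiAdd.Ext.isStemExtension_proj
    · intro a b; exact mul_comm a b
    · intro w
      refine ⟨Multiplicative.ofAdd (1, 0), Multiplicative.ofAdd (0, w), ?_⟩
      show ZMod.castHom hnm (ZMod n) 1 * w - ZMod.castHom hnm (ZMod n) 0 * 0 = w
      rw [map_one, map_zero]; ring
  · intro Γ _ _ σ hσ
    -- R = second factor, s = generator of the first
    let e1 : Multiplicative (ZMod m × ZMod n) := Multiplicative.ofAdd (1, 0)
    let e2 : Multiplicative (ZMod m × ZMod n) := Multiplicative.ofAdd (0, 1)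
    have hgen : Subgroup.zpowers e2 ⊔ Subgroup.zpowers e1 = ⊤ := by
      rw [eq_top_iff]
      intro x _
      have hx : x = e2 ^ (Multiplicative.toAdd x).2.val * e1 ^ (Multiplicative.toAdd x).1.val := by
        apply Multiplicative.toAdd.injective
        rw [toAdd_mul, toAdd_pow, toAdd_pow]
        show _ = (Multiplicative.toAdd x).2.val • ((0 : ZMod m), (1 : ZMod n)) +
          (Multiplicative.toAdd x).1.val • ((1 : ZMod m), (0 : ZMod n))
        apply Prod.ext
        · simp
        · simp
      rw [hx]
      exact Subgroup.mul_mem_sup (Subgroup.pow_mem _ (Subgroup.mem_zpowers _) _)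
        (Subgroup.pow_mem _ (Subgroup.mem_zpowers _) _)
    have hcyc : IsCyclic (Subgroup.zpowers e2) := inferInstance
    have hAcyc := stem_ker_isCyclic σ hσ (Subgroup.zpowers e2) hcyc e1 hgen
    obtain ⟨t, ht⟩ := hσ.1 e1
    have hcard := stem_card_centralizer σ hσ (Subgroup.zpowers e2) hcyc e1 hgen t ht
    have hle := ker_le_comap_inf_centralizer σ hσ (Subgroup.zpowers e2) t
    have h1 := Subgroup.card_dvd_of_le hle
    rw [hcard] at h1
    have h2 : Nat.card ↥(Subgroup.zpowers e2 ⊓ Subgroup.centralizer ({e1} : Set _)) ∣ Nat.card (Subgroup.zpowers e2) :=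
      Subgroup.card_dvd_of_le inf_le_left
    have h3 : Nat.card (Subgroup.zpowers e2) = n := by
      rw [Nat.card_zpowers]
      show orderOf (Multiplicative.ofAdd ((0 : ZMod m), (1 : ZMod n))) = n
      rw [orderOf_ofAdd_eq_addOrderOf, Prod.addOrderOf]
      simp [ZMod.addOrderOf_one]
    rw [h3] at h2
    exact exists_surjective_of_isCyclic_of_card_dvd hAcyc n (h1.trans h2)

end Cfsg.Agent.S3951
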