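import Mathlib
import Cfsg.Statements.S3952
import Cfsg.Agent.Lib.Helper12.SchurBasic
import Cfsg.Agent.Lib.Helper12.SchurCover
import Cfsg.Agent.Lib.Helper12.SchurMore
import Cfsg.Agent.Lib.Helper12.SchurMono
import Cfsg.Agent.Lib.Helper2.Decomp
import Cfsg.Agent.Lib.Helper2.CharBasic
import Cfsg.Agent.Lib.Helper2.Regular
import Cfsg.Agent.Lib.Helper11.CentralChar
import Cfsg.Agent.Lib.Helper11.CharSep

set_option autoImplicit false
set_option linter.style.haveILetI false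
set_option linter.unusedSectionVars false
open Cfsg

namespace Cfsg.Agent.S3952

/-- a matrix-valued homomorphism as a representation -/
def matRep {H : Type*} [Group H] {N : ℕ} (f : H →* Matrix (Fin N) (Fin N) ℂ) :
    Representation ℂ H (Fin N → ℂ) where
  toFun g := Matrix.toLin' (f g)
  map_one' := by rw [map_one, Matrix.toLin'_one]; rfl
  map_mul' x y := by rw [map_mul, Matrix.toLin'_mul]; rfl

theorem matRep_apply {H : Type*} [Group H] {N : ℕ} (f : H →* Matrix (Fin N) (Fin N) ℂ) (g : H) :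
    matRep f g = Matrix.toLin' (f g) := rfl

theorem matRep_scalar {H : Type*} [Group H] {N : ℕ} {f : H →* Matrix (Fin N) (Fin N) ℂ} {g : H}
    {c : ℂ} (h : f g = Matrix.scalar (Fin N) c) : matRep f g = c • LinearMap.id := by
  rw [matRep_apply, h]
  have h1 : Matrix.scalar (Fin N) c = c • (1 : Matrix (Fin N) (Fin N) ℂ) := by
    ext i j
    simp [Matrix.scalar_apply, Matrix.diagonal_apply, Matrix.one_apply]
  rw [h1, map_smul, Matrix.toLin'_one]

theorem key {H : Type*} [Group H] [Finite H] (p : ℕ) (hp : p.Prime) (K : Subgroup H)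
    (hKc : K ≤ Subgroup.center H) (w : H) (hwK : w ∈ K) (hwc : w ∈ commutator H) (a n : ℕ)
    (hw : orderOf w = p ^ a) (hcard : Nat.card H = Nat.card K * p ^ n) : 2 * a ≤ n := by
  classical
  rcases Nat.eq_zero_or_pos a with rfl | ha
  · omega
  haveI hKn : K.Normal := Cfsg.Agent.Lib.Helper12.Schur.normal_of_le_center K hKc
  have hKcomm : ∀ x y : K, x * y = y * x := fun x y =>
    Subtype.ext (Subgroup.mem_center_iff.mp (hKc y.2) x.1)
  obtain ⟨w0, hw0⟩ : ∃ w0 : K, w0 = ⟨w, hwK⟩ := ⟨_, rfl⟩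
  have hw0ord : orderOf w0 = p ^ a := by rw [hw0, ← hw]; exact Subgroup.orderOf_mk w hwK
  have hw0ne : w0 ^ p ^ (a - 1) ∉ (⊥ : Subgroup K) := by
    rw [Subgroup.mem_bot]
    intro h
    have h1 := orderOf_dvd_of_pow_eq_one h
    rw [hw0ord] at h1
    have h2 := (Nat.pow_dvd_pow_iff_le_right hp.one_lt).mp h1
    omega
  obtain ⟨φ, -, hφ⟩ := Cfsg.Agent.Lib.Helper11.exists_char_trivial_ne_one hKcomm ⊥ hw0ne
  have hφord : ∀ j : ℕ, (φ w0) ^ j = 1 → p ^ a ∣ j := by
    intro j hj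
    have h1 : orderOf (φ w0) ∣ p ^ a := by
      apply orderOf_dvd_of_pow_eq_one
      rw [← map_pow, ← hw0ord, pow_orderOf_eq_one, map_one]
    obtain ⟨i, hi, hi2⟩ := (Nat.dvd_prime_pow hp).mp h1
    have h2 : i = a := by
      by_contra hne
      have hlt : i ≤ a - 1 := by omega
      apply hφ
      rw [map_pow]
      apply orderOf_dvd_iff_pow_eq_one.mp
      rw [hi2]
      exact pow_dvd_pow p hlt
    rw [← h2, ← hi2]
    exact orderOf_dvd_of_pow_eq_one hj
  obtain ⟨ρq, hρq⟩ : ∃ ρq : H →* H ⧸ K, ρq = QuotientGroup.mk' K := ⟨_, rfl⟩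
  have hρqs : Function.Surjective ρq := by rw [hρq]; exact QuotientGroup.mk'_surjective K
  have hρqk : ρq.ker = K := by rw [hρq]; exact QuotientGroup.ker_mk' K
  obtain ⟨μ, hμ⟩ : ∃ μ : ρq.ker →* ℂˣ,
      ∀ (x : H) (hx : x ∈ ρq.ker) (hx' : x ∈ K), μ ⟨x, hx⟩ = φ ⟨x, hx'⟩ :=
    ⟨φ.comp (Subgroup.inclusion hρqk.le), fun x hx hx' => rfl⟩
  have hNpos : 0 < Nat.card (H ⧸ K) := Nat.card_pos
  haveI : Nonempty (Fin (Nat.card (H ⧸ K))) := ⟨⟨0, hNpos⟩⟩
  haveI : NeZero ((Nat.card H : ℕ) : ℂ) := ⟨Nat.cast_ne_zero.mpr Nat.card_pos.ne'⟩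
  obtain ⟨S, S', hSirr, -⟩ := Cfsg.Agent.Lib.Helper2.exists_irreducible_isCompl
    (matRep (Cfsg.Agent.Lib.Helper12.Schur.monoMat ρq hρqs μ))
  haveI := hSirr
  have hscal : ∀ k (hk : k ∈ K),
      S.toRepresentation k = ((φ ⟨k, hk⟩ : ℂˣ) : ℂ) • LinearMap.id := by
    intro k hk
    have hk' : k ∈ ρq.ker := by rw [hρqk]; exact hk
    have h1 := matRep_scalar
      (Cfsg.Agent.Lib.Helper12.Schur.monoMat_central ρq hρqs μ k hk' (hKc hk))
    rw [hμ k hk' hk] at h1
    apply LinearMap.ext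
    intro v
    apply Subtype.ext
    show (matRep (Cfsg.Agent.Lib.Helper12.Schur.monoMat ρq hρqs μ) k)
      (v : Fin (Nat.card (H ⧸ K)) → ℂ) = _
    rw [h1]
    rfl
  obtain ⟨d, hd⟩ : ∃ d : ℕ, d = Module.finrank ℂ S.toSubmodule := ⟨_, rfl⟩
  have hdpos : 0 < d := by
    rw [hd]; exact Cfsg.Agent.Lib.Helper2.finrank_pos_of_isIrreducible S.toRepresentation
  have hdet : ((φ w0 : ℂˣ) : ℂ) ^ d = 1 := by
    obtain ⟨D, hD⟩ : ∃ D : H →* ℂˣ,
        ∀ g, ((D g : ℂˣ) : ℂ) = LinearMap.det (S.toRepresentation g) :=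
      ⟨(Units.map (LinearMap.det : Module.End ℂ S.toSubmodule →* ℂ)).comp
        S.toRepresentation.asGroupHom, fun g => by
          rw [MonoidHom.comp_apply, Units.coe_map, Representation.asGroupHom_apply]⟩
    have h1 : D w = 1 := MonoidHom.mem_ker.mp (Abelianization.commutator_subset_ker D hwc)
    have h2 := hD w
    rw [h1, hscal w hwK, LinearMap.det_smul, LinearMap.det_id, mul_one, Units.val_one] at h2
    rw [hd, hw0]; exact h2.symm
  have hpad : p ^ a ∣ d := by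
    apply hφord
    apply Units.ext
    rw [Units.val_pow_eq_pow_val, Units.val_one]; exact hdet
  have hξ : Cfsg.IsIrrCharacter H S.toRepresentation.character :=
    Cfsg.Agent.Lib.Helper2.isIrrCharacter_of_rep S.toRepresentation
  have hD : ∀ k ∈ K, ‖S.toRepresentation.character k‖ = ‖S.toRepresentation.character 1‖ := by
    intro k hk
    apply Cfsg.Agent.Lib.Helper11.IsIrrCharacter.norm_eq_of_commutators_in_ker hξ k
    intro c
    have h := Subgroup.mem_center_iff.mp (hKc hk) c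
    have h1 : k * c * k⁻¹ * c⁻¹ = 1 := by rw [← h]; group
    rw [h1]
  have h7 := Cfsg.Agent.Lib.Helper11.IsIrrCharacter.degree_sq_mul_card_le hξ K hD
  rw [Representation.char_one, Complex.norm_natCast, ← hd, hcard] at h7
  have h8 : d ^ 2 * Nat.card K ≤ Nat.card K * p ^ n := by exact_mod_cast h7
  have hKpos : 0 < Nat.card K := Nat.card_pos
  have h9 : d ^ 2 ≤ p ^ n := by
    rw [mul_comm] at h8
    exact Nat.le_of_mul_le_mul_left h8 hKpos
  have h10 : p ^ a ≤ d := Nat.le_of_dvd hdpos hpad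
  have h11 : p ^ (2 * a) ≤ p ^ n := by
    calc p ^ (2 * a) = (p ^ a) ^ 2 := by rw [← pow_mul, mul_comm]
      _ ≤ d ^ 2 := Nat.pow_le_pow_left h10 2
      _ ≤ p ^ n := h9
  exact (Nat.pow_le_pow_iff_right hp.one_lt).mp h11

/-- If `A` is the Schur multiplier of the finite group `Q`, then the square of the exponent of `A` divides the order of `Q`. -/
theorem result {Q : Type*} [Group Q] [Finite Q] {A : Type*} [CommGroup A] (hA : Cfsg.HasSchurMultiplier Q A) : Monoid.exponent A ^ 2 ∣ Nat.card Q := by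
  classical
  obtain ⟨⟨Γ, hg, hf, σ, hσ, ⟨e⟩⟩, -⟩ := hA
  haveI : Finite A := Finite.of_equiv _ e.toEquiv
  have he0 : Monoid.exponent A ≠ 0 := Monoid.exponent_ne_zero_of_finite
  have hQ0 : Nat.card Q ≠ 0 := Nat.card_pos.ne'
  rw [← Nat.factorization_prime_le_iff_dvd (pow_ne_zero 2 he0) hQ0]
  intro p hp
  rw [Nat.factorization_pow, Finsupp.smul_apply, smul_eq_mul]
  obtain ⟨a, ha⟩ : ∃ a, a = (Monoid.exponent A).factorization p := ⟨_, rfl⟩
  rw [← ha, ← hp.pow_dvd_iff_le_factorization hQ0]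
  have hpa : p ^ a ∣ Monoid.exponent A := by rw [ha]; exact Nat.ordProj_dvd _ _
  obtain ⟨x, hx⟩ := Monoid.exists_orderOf_eq_exponent (Monoid.exponent_ne_zero.mp he0)
  obtain ⟨c, hc⟩ := hpa
  have hc0 : c ≠ 0 := by
    rintro rfl
    rw [mul_zero] at hc
    exact he0 hc
  have hy : orderOf (x ^ c) = p ^ a := by
    rw [orderOf_pow_of_dvd hc0 (by rw [hx, hc]; exact Dvd.intro_left _ rfl), hx, hc]
    exact Nat.mul_div_cancel _ (Nat.pos_of_ne_zero hc0)
  obtain ⟨z, hz⟩ : ∃ z : σ.ker, z = e.symm (x ^ c) := ⟨_, rfl⟩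
  have hzord : orderOf (z : Γ) = p ^ a := by
    rw [Subgroup.orderOf_coe, hz, MulEquiv.orderOf_eq, hy]
  have hzcen : (z : Γ) ∈ Subgroup.center Γ := hσ.2.1 z.2
  have hzcomm : (z : Γ) ∈ commutator Γ := hσ.2.2 z.2
  haveI := Fact.mk hp
  obtain ⟨P⟩ : Nonempty (Sylow p Q) := inferInstance
  obtain ⟨H, hH⟩ : ∃ H : Subgroup Γ, H = (P : Subgroup Q).comap σ := ⟨_, rfl⟩
  have hHmem : ∀ g, g ∈ H ↔ σ g ∈ (P : Subgroup Q) := by
    intro g; rw [hH]; exact Subgroup.mem_comap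
  have hidx : H.index = (P : Subgroup Q).index := by
    rw [hH]; exact Subgroup.index_comap_of_surjective _ hσ.1
  have hpm : ¬ p ∣ H.index := by rw [hidx]; exact P.not_dvd_index
  obtain ⟨hzH, hzH'⟩ := Cfsg.Agent.Lib.Helper12.Schur.pow_index_mem_commutator' H hzcen hzcomm
    H.index rfl
  have hmemP : ∀ h : H, (σ.comp H.subtype) h ∈ (P : Subgroup Q) := fun h => (hHmem h.1).mp h.2
  obtain ⟨σH, hσH⟩ : ∃ σH : H →* (P : Subgroup Q),
      ∀ h : H, ((σH h : (P : Subgroup Q)) : Q) = σ (h : Γ) :=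
    ⟨(σ.comp H.subtype).codRestrict (P : Subgroup Q) hmemP, fun h => rfl⟩
  have hσHs : Function.Surjective σH := by
    intro y
    obtain ⟨g, hg⟩ := hσ.1 (y : Q)
    have hgH : g ∈ H := by rw [hHmem, hg]; exact y.2
    exact ⟨⟨g, hgH⟩, Subtype.ext ((hσH _).trans hg)⟩
  have hkerH : ∀ h : H, h ∈ σH.ker ↔ (h : Γ) ∈ σ.ker := by
    intro h
    rw [MonoidHom.mem_ker, MonoidHom.mem_ker, ← hσH]
    constructor
    · intro h1; rw [h1]; rfl
    · intro h1; exact Subtype.ext h1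
  obtain ⟨n, hn⟩ := P.2.exists_card_eq
  have hcard : Nat.card H = Nat.card σH.ker * p ^ n := by
    have h1 := Subgroup.card_mul_index σH.ker
    have h2 : σH.ker.index = Nat.card (P : Subgroup Q) := by
      rw [Subgroup.index_eq_card]
      exact Nat.card_congr (QuotientGroup.quotientKerEquivOfSurjective σH hσHs).toEquiv
    rw [← h1, h2, hn]
  have hcop : (orderOf (z : Γ)).Coprime H.index := by
    rw [hzord]
    exact Nat.Coprime.pow_left a ((Nat.Prime.coprime_iff_not_dvd hp).mpr hpm)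
  have h2an : 2 * a ≤ n := by
    apply key p hp σH.ker ?_ ⟨(z : Γ) ^ H.index, hzH⟩ ?_ hzH' a n ?_ hcard
    · intro k hk
      rw [Subgroup.mem_center_iff]
      intro g
      exact Subtype.ext (Subgroup.mem_center_iff.mp (hσ.2.1 ((hkerH k).mp hk)) g.1)
    · exact (hkerH _).mpr (Subgroup.pow_mem _ z.2 _)
    · rw [Subgroup.orderOf_mk, hcop.orderOf_pow, hzord]
  calc p ^ (2 * a) ∣ p ^ n := pow_dvd_pow p h2an
    _ = Nat.card (P : Subgroup Q) := hn.symm
    _ ∣ Nat.card Q := Subgroup.card_subgroup_dvd_card _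

end Cfsg.Agent.S3952
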