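import Mathlib
import Cfsg.Statements.S3953
import Cfsg.Agent.Lib.Helper12.SchurBasic
import Cfsg.Agent.Lib.Helper12.SchurCover
import Cfsg.Agent.Lib.Helper12.SchurMore
import Cfsg.Agent.Lib.Helper12.SchurMono

set_option autoImplicit false
set_option linter.style.haveILetI false
set_option linter.unusedSectionVars false
universe u
open Cfsg
open scoped commutatorElement

namespace Cfsg.Agent.S3953

open Cfsg.Agent.Lib.Helper12.Schur

section GenCov
variable {Φ : Type*} [Group Φ] {Q : Type*} [Group Q] (ϖ : Φ →* Q)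

/-- `[Φ, ker ϖ]` -/
def gRel : Subgroup Φ := ⁅(⊤ : Subgroup Φ), ϖ.ker⁆

instance gRel_normal : (gRel ϖ).Normal := by unfold gRel; infer_instance

theorem gRel_le_ker : gRel ϖ ≤ ϖ.ker := Subgroup.commutator_le_right ⊤ ϖ.ker

/-- `Φ / [Φ, ker ϖ]` -/
abbrev GE : Type _ := Φ ⧸ gRel ϖ

def gρ : GE ϖ →* Q := QuotientGroup.lift (gRel ϖ) ϖ (gRel_le_ker ϖ)

theorem gρ_mk (x : Φ) : gρ ϖ (QuotientGroup.mk x) = ϖ x := rfl

theorem gρ_surjective (h : Function.Surjective ϖ) : Function.Surjective (gρ ϖ) := by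
  intro q
  obtain ⟨x, rfl⟩ := h q
  exact ⟨QuotientGroup.mk x, rfl⟩

theorem gρ_ker_le_center : (gρ ϖ).ker ≤ Subgroup.center (GE ϖ) := by
  intro e he
  obtain ⟨r, rfl⟩ := QuotientGroup.mk_surjective e
  have hr : r ∈ ϖ.ker := he
  rw [Subgroup.mem_center_iff]
  intro g
  obtain ⟨w, rfl⟩ := QuotientGroup.mk_surjective g
  have h1 : ⁅w, r⁆ ∈ gRel ϖ := Subgroup.commutator_mem_commutator (Subgroup.mem_top w) hr
  have h2 : ((⁅w, r⁆ : Φ) : GE ϖ) = 1 := (QuotientGroup.eq_one_iff _).mpr h1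
  rw [commutatorElement_def] at h2
  have h3 : (w : GE ϖ) * r * (w : GE ϖ)⁻¹ * (r : GE ϖ)⁻¹ = 1 := by simpa using h2
  calc (w : GE ϖ) * r = ((w : GE ϖ) * r * (w : GE ϖ)⁻¹ * (r : GE ϖ)⁻¹) * r * w := by group
    _ = r * w := by rw [h3, one_mul]

instance gK_commGroup : CommGroup (gρ ϖ).ker :=
  { (inferInstance : Group (gρ ϖ).ker) with
    mul_comm := fun a b => Subtype.ext
      (Subgroup.mem_center_iff.mp (gρ_ker_le_center ϖ b.2) a.1) }

/-- the map to the abelianization of `Φ` -/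
def gab : GE ϖ →* Abelianization Φ :=
  QuotientGroup.lift (gRel ϖ) Abelianization.of (by
    intro x hx
    rw [Abelianization.ker_of, commutator_def]
    exact Subgroup.commutator_mono le_rfl le_top hx)

theorem ker_gab_le : (gab ϖ).ker ≤ commutator (GE ϖ) := by
  intro e he
  obtain ⟨w, rfl⟩ := QuotientGroup.mk_surjective e
  have hw : w ∈ (Abelianization.of : Φ →* _).ker := he
  rw [Abelianization.ker_of] at hw
  rw [← map_commutator_of_surj (QuotientGroup.mk' (gRel ϖ)) (QuotientGroup.mk'_surjective _)]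
  exact ⟨w, hw, rfl⟩

theorem torsion_mem_commutator [IsFreeGroup Φ] (y : GE ϖ) (j : ℕ) (hj : j ≠ 0) (hy : y ^ j = 1) :
    y ∈ commutator (GE ϖ) := by
  apply ker_gab_le ϖ
  rw [MonoidHom.mem_ker]
  have h1 : (gab ϖ y) ^ j = 1 := by rw [← map_pow, hy, map_one]
  obtain ⟨ι', -⟩ : ∃ ι' : Abelianization Φ ≃*
      Abelianization (FreeGroup (IsFreeGroup.Generators Φ)), True :=
    ⟨(IsFreeGroup.toFreeGroup Φ).abelianizationCongr, trivial⟩
  have h2 : (ι' (gab ϖ y)) ^ j = 1 := by rw [← map_pow, h1, map_one]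
  haveI : Module.Free ℤ (Additive (Abelianization (FreeGroup (IsFreeGroup.Generators Φ)))) :=
    free_abF
  have h3 : ι' (gab ϖ y) = 1 := by
    have h4 : (j : ℤ) • (Additive.ofMul (ι' (gab ϖ y))) = 0 := by
      rw [natCast_zsmul, ← ofMul_pow, h2]; rfl
    rcases smul_eq_zero.mp h4 with h5 | h5
    · exact absurd h5 (by exact_mod_cast hj)
    · exact h5
  exact (MulEquiv.map_eq_one_iff ι').mp h3

end GenCov

theorem core {G : Type u} [Group G] [Finite G] {X : Type u} (π : FreeGroup X →* G)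
    (hπ : Function.Surjective π) (P : Subgroup G) {Y : Type u} (πP : FreeGroup Y →* P)
    (hπP : Function.Surjective πP) :
    ∃ (t₀ : covT π →* covT πP) (c₀ : covT πP →* covT π),
      ∀ z : covT π, c₀ (t₀ z) = z ^ P.index := by
  classical
  have hρPs := covρ_surjective πP hπP
  obtain ⟨FP, hFP⟩ : ∃ FP : Subgroup (FreeGroup X), FP = P.comap π := ⟨_, rfl⟩
  have hFPmem : ∀ w, w ∈ FP ↔ π w ∈ P := by intro w; rw [hFP]; exact Subgroup.mem_comap
  have hRFP : π.ker ≤ FP := by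
    intro r hr
    rw [hFPmem, MonoidHom.mem_ker.mp hr]; exact P.one_mem
  obtain ⟨ϖ, hϖ⟩ : ∃ ϖ : FP →* P, ∀ φ : FP, ((ϖ φ : P) : G) = π (φ : FreeGroup X) :=
    ⟨(π.comp FP.subtype).codRestrict P (fun φ => (hFPmem _).mp φ.2), fun φ => rfl⟩
  have hϖs : Function.Surjective ϖ := by
    intro y
    obtain ⟨w, hw⟩ := hπ (y : G)
    have hwFP : w ∈ FP := by rw [hFPmem, hw]; exact y.2
    exact ⟨⟨w, hwFP⟩, Subtype.ext ((hϖ _).trans hw)⟩
  have hϖker : ∀ φ : FP, φ ∈ ϖ.ker ↔ (φ : FreeGroup X) ∈ π.ker := by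
    intro φ
    rw [MonoidHom.mem_ker, MonoidHom.mem_ker, ← hϖ]
    constructor
    · intro h; rw [h]; rfl
    · intro h; exact Subtype.ext h
  -- Step B
  obtain ⟨α, hα⟩ := exists_lift πP (gρ ϖ) (gρ_surjective ϖ hϖs) (gρ_ker_le_center ϖ)
  have hα' : ∀ x, gρ ϖ (α x) = covρ πP x := fun x => DFunLike.congr_fun hα x
  -- Step C
  obtain ⟨β, hβ⟩ : ∃ β : GE ϖ →* CovE πP, ∀ e, covρ πP (β e) = gρ ϖ e := by
    obtain ⟨ι, -⟩ : ∃ ι : FP ≃* FreeGroup (IsFreeGroup.Generators FP), True :=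
      ⟨IsFreeGroup.toFreeGroup FP, trivial⟩
    obtain ⟨b₁, hb₁def⟩ : ∃ b₁ : FreeGroup (IsFreeGroup.Generators FP) →* CovE πP,
        b₁ = FreeGroup.lift (fun x' => Function.surjInv hρPs (ϖ (ι.symm (FreeGroup.of x')))) :=
      ⟨_, rfl⟩
    have hb₁ : (covρ πP).comp b₁ = ϖ.comp ι.symm.toMonoidHom := by
      ext x'
      rw [hb₁def]
      simp only [MonoidHom.comp_apply, FreeGroup.lift_apply_of]
      rw [Function.surjInv_eq hρPs]
      rfl
    have hb₀ : ∀ φ : FP, covρ πP (b₁ (ι φ)) = ϖ φ := by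
      intro φ
      have h := DFunLike.congr_fun hb₁ (ι φ)
      rw [MonoidHom.comp_apply, MonoidHom.comp_apply] at h
      rw [h]
      show ϖ (ι.symm (ι φ)) = ϖ φ
      rw [MulEquiv.symm_apply_apply]
    have hkill : gRel ϖ ≤ (b₁.comp ι.toMonoidHom).ker := by
      unfold gRel
      rw [Subgroup.commutator_le]
      intro x _ r hr
      rw [MonoidHom.mem_ker, map_commutatorElement, commutatorElement_eq_one_iff_mul_comm]
      have hr' : (b₁.comp ι.toMonoidHom) r ∈ Subgroup.center (CovE πP) := by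
        apply covρ_ker_le_center πP
        rw [MonoidHom.mem_ker]
        show covρ πP (b₁ (ι r)) = 1
        rw [hb₀, MonoidHom.mem_ker.mp hr]
      exact Subgroup.mem_center_iff.mp hr' _
    refine ⟨QuotientGroup.lift (gRel ϖ) (b₁.comp ι.toMonoidHom) hkill, ?_⟩
    intro e
    obtain ⟨φ, rfl⟩ := QuotientGroup.mk_surjective e
    exact hb₀ φ
  -- Step D
  have hαβ : ∀ y ∈ commutator (GE ϖ), α (β y) = y := by
    intro y hy
    have h := eq_on_commutator_of_eq_mod_center (α.comp β) (MonoidHom.id (GE ϖ)) (by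
      intro e
      apply gρ_ker_le_center ϖ
      rw [MonoidHom.mem_ker, map_mul, map_inv, MonoidHom.id_apply, MonoidHom.comp_apply, hα', hβ,
        inv_mul_cancel]) y hy
    exact h
  -- Step E
  obtain ⟨cor, hcor⟩ : ∃ cor : GE ϖ →* CovE π,
      ∀ φ : FP, cor (QuotientGroup.mk φ) = QuotientGroup.mk (φ : FreeGroup X) := by
    have hkill : gRel ϖ ≤ ((QuotientGroup.mk' (relC π)).comp FP.subtype).ker := by
      unfold gRel
      rw [Subgroup.commutator_le]
      intro x _ r hr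
      rw [MonoidHom.mem_ker, MonoidHom.comp_apply, QuotientGroup.mk'_apply,
        QuotientGroup.eq_one_iff]
      show ⁅(x : FreeGroup X), (r : FreeGroup X)⁆ ∈ relC π
      exact Subgroup.commutator_mem_commutator (Subgroup.mem_top _) ((hϖker r).mp hr)
    exact ⟨QuotientGroup.lift (gRel ϖ) _ hkill, fun φ => rfl⟩
  have hcorρ : ∀ e, covρ π (cor e) = ((gρ ϖ e : P) : G) := by
    intro e
    obtain ⟨φ, rfl⟩ := QuotientGroup.mk_surjective e
    rw [hcor, covρ_mk, gρ_mk, hϖ]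
  -- Step F
  have hc₀mem : ∀ z : covT πP, (cor.comp (α.comp (covT πP).subtype)) z ∈ covT π := by
    intro z
    rw [mem_covT]
    have hz := (mem_covT πP).mp z.2
    constructor
    · show covρ π (cor (α (z : CovE πP))) = 1
      rw [hcorρ, hα', hz.1]; rfl
    · exact map_commutator_le cor ⟨_, map_commutator_le α ⟨_, hz.2, rfl⟩, rfl⟩
  -- Step G
  haveI hFPfi : FP.FiniteIndex := ⟨by
    rw [hFP, Subgroup.index_comap_of_surjective _ hπ]
    exact P.index_ne_zero_of_finite⟩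
  haveI : Fintype (FreeGroup X ⧸ FP) := Fintype.ofFinite _
  have hcardΩ : Fintype.card (FreeGroup X ⧸ FP) = P.index := by
    rw [Fintype.card_eq_nat_card, ← Subgroup.index_eq_card, hFP,
      Subgroup.index_comap_of_surjective _ hπ]
  obtain ⟨qh, hqh⟩ : ∃ qh : π.ker →* (gρ ϖ).ker, ∀ r : π.ker,
      ((qh r : (gρ ϖ).ker) : GE ϖ) = QuotientGroup.mk (⟨(r : FreeGroup X), hRFP r.2⟩ : FP) := by
    have hmem : ∀ r : π.ker,
        ((QuotientGroup.mk' (gRel ϖ)).comp (Subgroup.inclusion hRFP)) r ∈ (gρ ϖ).ker := by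
      intro r
      rw [MonoidHom.mem_ker]
      show ϖ (Subgroup.inclusion hRFP r) = 1
      rw [← MonoidHom.mem_ker, hϖker]
      exact r.2
    exact ⟨((QuotientGroup.mk' (gRel ϖ)).comp (Subgroup.inclusion hRFP)).codRestrict _ hmem,
      fun r => rfl⟩
  have hG1 : ∀ (h : FreeGroup X) (hh : h ∈ FP) (r : π.ker),
      qh (MulAut.conjNormal h r) = qh r := by
    intro h hh r
    apply Subtype.ext
    rw [hqh, hqh]
    have h1 : (⟨((MulAut.conjNormal h r : π.ker) : FreeGroup X),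
        hRFP (MulAut.conjNormal h r).2⟩ : FP) =
        ⟨h, hh⟩ * ⟨(r : FreeGroup X), hRFP r.2⟩ * ⟨h, hh⟩⁻¹ := by
      apply Subtype.ext
      show ((MulAut.conjNormal h r : π.ker) : FreeGroup X) = h * (r : FreeGroup X) * h⁻¹
      exact MulAut.conjNormal_apply h r
    rw [h1, QuotientGroup.mk_mul, QuotientGroup.mk_mul, QuotientGroup.mk_inv]
    have hc : (QuotientGroup.mk (⟨(r : FreeGroup X), hRFP r.2⟩ : FP) : GE ϖ) ∈
        Subgroup.center (GE ϖ) := by
      rw [← hqh]; exact gρ_ker_le_center ϖ (qh r).2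
    rw [Subgroup.mem_center_iff.mp hc, mul_inv_cancel_right]
  obtain ⟨s, hs⟩ : ∃ s : FreeGroup X ⧸ FP → FreeGroup X,
      ∀ ω, (QuotientGroup.mk (s ω) : FreeGroup X ⧸ FP) = ω :=
    ⟨fun ω => ω.out, fun ω => QuotientGroup.out_eq' ω⟩
  obtain ⟨τt, hτt⟩ : ∃ τt : π.ker →* (gρ ϖ).ker, ∀ r,
      τt r = ∏ ω : FreeGroup X ⧸ FP, qh (MulAut.conjNormal (s ω)⁻¹ r) :=
    ⟨∏ ω : FreeGroup X ⧸ FP, qh.comp (MulAut.conjNormal (s ω)⁻¹ : MulAut π.ker).toMonoidHom,
      fun r => by rw [MonoidHom.finsetProd_apply]; rfl⟩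
  have hG3 : ∀ (x : FreeGroup X) (r : π.ker), τt (MulAut.conjNormal x r) = τt r := by
    intro x r
    rw [hτt, hτt]
    refine Fintype.prod_equiv (MulAction.toPerm x⁻¹) _ _ (fun ω => ?_)
    show qh (MulAut.conjNormal (s ω)⁻¹ (MulAut.conjNormal x r)) =
      qh (MulAut.conjNormal (s (x⁻¹ • ω))⁻¹ r)
    have hmem : (s ω)⁻¹ * x * s (x⁻¹ • ω) ∈ FP := by
      have h1 : (QuotientGroup.mk (s (x⁻¹ • ω)) : FreeGroup X ⧸ FP) =
          QuotientGroup.mk (x⁻¹ * s ω) := by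
        rw [hs]
        exact congrArg (fun o => x⁻¹ • o) (hs ω).symm
      have h2 := QuotientGroup.eq.mp h1
      have h3 := FP.inv_mem h2
      have h4 : ((s (x⁻¹ • ω))⁻¹ * (x⁻¹ * s ω))⁻¹ = (s ω)⁻¹ * x * s (x⁻¹ • ω) := by group
      rw [h4] at h3; exact h3
    have h5 : (MulAut.conjNormal (s ω)⁻¹ (MulAut.conjNormal x r) : π.ker) =
        MulAut.conjNormal ((s ω)⁻¹ * x * s (x⁻¹ • ω))
          (MulAut.conjNormal (s (x⁻¹ • ω))⁻¹ r) := by
      apply Subtype.ext
      simp only [MulAut.conjNormal_apply]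
      group
    rw [h5, hG1 _ hmem]
  have hG4 : ∀ (c : FreeGroup X) (hc : c ∈ relC π), τt ⟨c, relC_le_ker π hc⟩ = 1 := by
    have hle : relC π ≤ (τt.ker).map π.ker.subtype := by
      unfold relC
      rw [Subgroup.commutator_le]
      intro x _ r hr
      refine ⟨MulAut.conjNormal x ⟨r, hr⟩ * (⟨r, hr⟩ : π.ker)⁻¹, ?_, ?_⟩
      · show τt (MulAut.conjNormal x ⟨r, hr⟩ * (⟨r, hr⟩ : π.ker)⁻¹) = 1
        rw [map_mul, map_inv, hG3, mul_inv_cancel]
      · show ((MulAut.conjNormal x ⟨r, hr⟩ : π.ker) : FreeGroup X) * (r : FreeGroup X)⁻¹ = ⁅x, r⁆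
        rw [MulAut.conjNormal_apply, commutatorElement_def]
    intro c hc
    obtain ⟨r', hr', hr'c⟩ := hle hc
    have h1 : r' = ⟨c, relC_le_ker π hc⟩ := Subtype.ext hr'c
    rw [← h1]; exact MonoidHom.mem_ker.mp hr'
  have hG5 : ∀ r : π.ker, cor ((τt r : (gρ ϖ).ker) : GE ϖ) =
      (QuotientGroup.mk (r : FreeGroup X) : CovE π) ^ P.index := by
    intro r
    have h2 : ∀ ω : FreeGroup X ⧸ FP,
        cor ((qh (MulAut.conjNormal (s ω)⁻¹ r) : (gρ ϖ).ker) : GE ϖ) =
          QuotientGroup.mk (r : FreeGroup X) := by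
      intro ω
      rw [hqh, hcor]
      show (QuotientGroup.mk ((MulAut.conjNormal (s ω)⁻¹ r : π.ker) : FreeGroup X) : CovE π) = _
      obtain ⟨a, ha⟩ : ∃ a, a = (s ω)⁻¹ := ⟨_, rfl⟩
      rw [← ha, MulAut.conjNormal_apply, QuotientGroup.mk_mul, QuotientGroup.mk_mul]
      have hc : (QuotientGroup.mk (r : FreeGroup X) : CovE π) ∈ Subgroup.center (CovE π) := by
        apply covρ_ker_le_center π
        rw [MonoidHom.mem_ker, covρ_mk]; exact r.2
      rw [Subgroup.mem_center_iff.mp hc, QuotientGroup.mk_inv, mul_inv_cancel_right]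
    have h3 : ∀ S : Finset (FreeGroup X ⧸ FP),
        cor (((∏ ω ∈ S, qh (MulAut.conjNormal (s ω)⁻¹ r) : (gρ ϖ).ker)) : GE ϖ) =
          (QuotientGroup.mk (r : FreeGroup X) : CovE π) ^ S.card := by
      intro S
      induction S using Finset.induction_on with
      | empty =>
        rw [Finset.prod_empty, Finset.card_empty, pow_zero]
        exact map_one cor
      | insert a S ha ih =>
        rw [Finset.prod_insert ha, Finset.card_insert_of_notMem ha, pow_succ', Subgroup.coe_mul,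
          map_mul, ih, h2]
    rw [hτt, h3, Finset.card_univ, hcardΩ]
  -- Step H
  obtain ⟨qR, hqR⟩ : ∃ qR : π.ker →* (covρ π).ker, ∀ r : π.ker,
      ((qR r : (covρ π).ker) : CovE π) = QuotientGroup.mk (r : FreeGroup X) := by
    have hmem : ∀ r : π.ker,
        ((QuotientGroup.mk' (relC π)).comp π.ker.subtype) r ∈ (covρ π).ker := by
      intro r
      rw [MonoidHom.mem_ker]
      show covρ π (QuotientGroup.mk (r : FreeGroup X)) = 1
      rw [covρ_mk]; exact r.2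
    exact ⟨((QuotientGroup.mk' (relC π)).comp π.ker.subtype).codRestrict _ hmem, fun r => rfl⟩
  have hqRs : Function.Surjective qR := by
    intro k
    obtain ⟨w, hw⟩ := QuotientGroup.mk_surjective (k : CovE π)
    have hwR : w ∈ π.ker := by
      have h1 := MonoidHom.mem_ker.mp k.2
      rw [← hw, covρ_mk] at h1
      exact MonoidHom.mem_ker.mpr h1
    exact ⟨⟨w, hwR⟩, Subtype.ext ((hqR _).trans hw)⟩
  have hkerq : qR.ker ≤ τt.ker := by
    intro r hr
    rw [MonoidHom.mem_ker] at hr ⊢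
    have h1 : (QuotientGroup.mk (r : FreeGroup X) : CovE π) = 1 := by
      rw [← hqR, hr]; rfl
    have h2 : (r : FreeGroup X) ∈ relC π := (QuotientGroup.eq_one_iff _).mp h1
    exact hG4 _ h2
  obtain ⟨τ, hτ⟩ : ∃ τ : (covρ π).ker →* (gρ ϖ).ker, ∀ r, τ (qR r) = τt r :=
    ⟨qR.liftOfSurjective hqRs ⟨τt, hkerq⟩, fun r =>
      MonoidHom.liftOfRightInverse_comp_apply qR (Function.surjInv hqRs)
        (Function.rightInverse_surjInv hqRs) ⟨τt, hkerq⟩ r⟩
  -- Step I
  haveI : Finite (covT π) := finite_covT π hπ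
  have hTK : covT π ≤ (covρ π).ker := fun e he =>
    MonoidHom.mem_ker.mpr ((mem_covT π).mp he).1
  have hIcomm : ∀ z : covT π,
      ((τ (Subgroup.inclusion hTK z) : (gρ ϖ).ker) : GE ϖ) ∈ commutator (GE ϖ) := by
    intro z
    apply torsion_mem_commutator ϖ _ (Nat.card (covT π)) Nat.card_pos.ne'
    rw [← Subgroup.coe_pow, ← map_pow, ← map_pow, pow_card_eq_one', map_one, map_one]; rfl
  have ht₀mem : ∀ z : covT π,
      (β.comp ((gρ ϖ).ker.subtype.comp (τ.comp (Subgroup.inclusion hTK)))) z ∈ covT πP := by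
    intro z
    rw [mem_covT]
    constructor
    · show covρ πP (β ((τ (Subgroup.inclusion hTK z) : (gρ ϖ).ker) : GE ϖ)) = 1
      rw [hβ]; exact MonoidHom.mem_ker.mp (τ (Subgroup.inclusion hTK z)).2
    · exact map_commutator_le β ⟨_, hIcomm z, rfl⟩
  -- Step J
  refine ⟨(β.comp ((gρ ϖ).ker.subtype.comp (τ.comp (Subgroup.inclusion hTK)))).codRestrict _
    ht₀mem, (cor.comp (α.comp (covT πP).subtype)).codRestrict _ hc₀mem, ?_⟩
  intro z
  apply Subtype.ext
  show cor (α (β ((τ (Subgroup.inclusion hTK z) : (gρ ϖ).ker) : GE ϖ))) =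
    ((z ^ P.index : covT π) : CovE π)
  rw [hαβ _ (hIcomm z)]
  obtain ⟨r, hr⟩ := hqRs (Subgroup.inclusion hTK z)
  rw [← hr, hτ, hG5, ← hqR, hr]
  rfl

theorem direct_factor {B A' : Type*} [CommGroup B] [Group A'] (t : A' →* B) (ψ : B →* A')
    (h : ∀ a, ψ (t a) = a) :
    ∃ C D : Subgroup B, C ⊓ D = ⊥ ∧ C ⊔ D = ⊤ ∧ Nonempty (A' ≃* C) := by
  refine ⟨t.range, ψ.ker, ?_, ?_, ?_⟩
  · rw [eq_bot_iff]
    intro x hx
    obtain ⟨hx1, hx2⟩ := Subgroup.mem_inf.mp hx
    obtain ⟨a, rfl⟩ := hx1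
    rw [MonoidHom.mem_ker, h] at hx2
    rw [Subgroup.mem_bot, hx2, map_one]
  · rw [eq_top_iff]
    intro b _
    have h1 : b = t (ψ b) * ((t (ψ b))⁻¹ * b) := by group
    rw [h1]
    refine Subgroup.mul_mem_sup (show t (ψ b) ∈ t.range from ⟨ψ b, rfl⟩) ?_
    rw [MonoidHom.mem_ker, map_mul, map_inv, h, inv_mul_cancel]
  · have hinj : Function.Injective t := fun a b hab => by rw [← h a, ← h b, hab]
    exact ⟨MonoidHom.ofInjective hinj⟩

theorem exists_root_proj {A : Type*} [CommGroup A] [Finite A] (p m : ℕ) [Fact p.Prime]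
    (hm : ¬ p ∣ m) :
    ∃ r : A →* CommGroup.primaryComponent A p,
      ∀ a : CommGroup.primaryComponent A p, r ((a : A) ^ m) = a := by
  have hp : p.Prime := Fact.out
  obtain ⟨k, n', hn', hcard⟩ :=
    Nat.exists_eq_pow_mul_and_not_dvd (Nat.card_pos (α := A)).ne' p hp.ne_one
  have hcop : IsCoprime ((m * n' : ℕ) : ℤ) ((p ^ k : ℕ) : ℤ) := by
    rw [Nat.isCoprime_iff_coprime]
    apply Nat.Coprime.pow_right
    rw [Nat.coprime_comm]
    exact (Nat.Prime.coprime_iff_not_dvd hp).mpr (fun h => (hp.dvd_mul.mp h).elim hm hn')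
  obtain ⟨u, v, huv⟩ := hcop
  have hmem : ∀ a : A, (zpowGroupHom ((n' : ℤ) * u) : A →* A) a ∈
      CommGroup.primaryComponent A p := by
    intro a
    refine ⟨k, ?_⟩
    show (a ^ ((n' : ℤ) * u)) ^ p ^ k = 1
    rw [← zpow_natCast, ← zpow_mul]
    have h1 : (n' : ℤ) * u * ((p ^ k : ℕ) : ℤ) = ((Nat.card A : ℕ) : ℤ) * u := by
      rw [hcard]; push_cast; ring
    rw [h1, zpow_mul, zpow_natCast, pow_card_eq_one', one_zpow]
  refine ⟨(zpowGroupHom ((n' : ℤ) * u)).codRestrict _ hmem, ?_⟩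
  intro a
  apply Subtype.ext
  show ((a : A) ^ m) ^ ((n' : ℤ) * u) = a
  obtain ⟨k', hk'⟩ := a.2
  have hak : (a : A) ^ (p ^ k) = 1 := by
    have h1 : orderOf (a : A) ∣ p ^ k' := orderOf_dvd_of_pow_eq_one hk'
    have h2 : orderOf (a : A) ∣ p ^ k * n' := by rw [← hcard]; exact orderOf_dvd_natCard _
    obtain ⟨i, -, hi⟩ := (Nat.dvd_prime_pow hp).mp h1
    rw [hi] at h2
    have h3 : p ^ i ∣ p ^ k := Nat.Coprime.dvd_of_dvd_mul_right
      (Nat.Coprime.pow_left i ((Nat.Prime.coprime_iff_not_dvd hp).mpr hn')) h2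
    rw [← orderOf_dvd_iff_pow_eq_one, hi]; exact h3
  rw [← zpow_natCast (a : A) m, ← zpow_mul]
  have h4 : (m : ℤ) * ((n' : ℤ) * u) = 1 - v * ((p ^ k : ℕ) : ℤ) := by
    have h5 := huv
    push_cast at h5 ⊢
    linarith
  rw [h4, zpow_sub, zpow_one, zpow_mul', zpow_natCast, hak, one_zpow, inv_one, mul_one]

/-- Let `P` be a Sylow `p`-subgroup of the finite group `G`, let `A` be the Schur multiplier of `G` and `B` that of `P`. Then the `p`-primary component of `A` is isomorphic to a direct factor of `B`: there are subgroups `C` and `D` of `B` meeting trivially and generating `B`, with `C` isomorphic to the `p`-primary component of `A`. -/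
theorem result {G : Type*} [Group G] [Finite G] (p : ℕ) [Fact p.Prime] (P : Sylow p G) {A B : Type*} [CommGroup A] [CommGroup B] (hA : Cfsg.HasSchurMultiplier G A) (hB : Cfsg.HasSchurMultiplier P B) : ∃ C D : Subgroup B, C ⊓ D = ⊥ ∧ C ⊔ D = ⊤ ∧ Nonempty (CommGroup.primaryComponent A p ≃* C) := by
  obtain ⟨π, hπdef⟩ : ∃ π : FreeGroup G →* G, π = FreeGroup.lift id := ⟨_, rfl⟩
  have hπ : Function.Surjective π := by rw [hπdef]; exact lift_id_surjective G
  obtain ⟨πP, hπPdef⟩ : ∃ πP : FreeGroup (P : Subgroup G) →* (P : Subgroup G),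
      πP = FreeGroup.lift id := ⟨_, rfl⟩
  have hπP : Function.Surjective πP := by rw [hπPdef]; exact lift_id_surjective _
  obtain ⟨eA⟩ := mulEquiv_of_hasSchurMultiplier hA (hasSchurMultiplier_covT π hπ)
  obtain ⟨eB⟩ := mulEquiv_of_hasSchurMultiplier hB (hasSchurMultiplier_covT πP hπP)
  obtain ⟨t₀, c₀, h₀⟩ := core π hπ (P : Subgroup G) πP hπP
  haveI : Finite (covT π) := finite_covT π hπ
  haveI : Finite A := Finite.of_equiv _ eA.symm.toEquiv
  obtain ⟨r, hr⟩ := exists_root_proj (A := A) p (P : Subgroup G).index P.not_dvd_index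
  apply direct_factor
    (t := (eB.symm.toMonoidHom.comp (t₀.comp eA.toMonoidHom)).comp
      (CommGroup.primaryComponent A p).subtype)
    (ψ := r.comp (eA.symm.toMonoidHom.comp (c₀.comp eB.toMonoidHom)))
  intro a
  show r (eA.symm (c₀ (eB (eB.symm (t₀ (eA (a : A))))))) = a
  rw [MulEquiv.apply_symm_apply, h₀, map_pow, MulEquiv.symm_apply_apply, hr]

end Cfsg.Agent.S3953
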