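import Mathlib
import Cfsg.Statements.S3954
import Cfsg.Agent.Lib.Helper12.SchurMore

set_option autoImplicit false
set_option linter.style.haveILetI false
open Cfsg

namespace Cfsg.Agent.S3954

open Cfsg.Agent.Lib.Helper12.Schur

/-- Let `U` be a subgroup of index `m` in the finite group `G`, let `A` be the Schur multiplier of `G` and `B` that of `U`. Then the subgroup of `m`-th powers of `A` is isomorphic to a subgroup of `B`. -/
theorem result {G : Type*} [Group G] [Finite G] (U : Subgroup G) {A B : Type*} [CommGroup A] [CommGroup B] (hA : Cfsg.HasSchurMultiplier G A) (hB : Cfsg.HasSchurMultiplier U B) : ∃ C : Subgroup B, Nonempty ((powMonoidHom U.index : A →* A).range ≃* C) := by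
  obtain ⟨⟨Γ, hΓg, hΓf, σ, hσ, ⟨e⟩⟩, -⟩ := hA
  haveI : Finite B := by
    obtain ⟨⟨Γ₂, _, _, σ₂, _, ⟨e₂⟩⟩, -⟩ := hB
    exact Finite.of_equiv _ e₂.toEquiv
  have hidx : (U.comap σ).index = U.index := Subgroup.index_comap_of_surjective U hσ.1
  have hσUs : Function.Surjective (σ.subgroupComap U) :=
    σ.subgroupComap_surjective_of_surjective U hσ.1
  have hσUc : (σ.subgroupComap U).ker ≤ Subgroup.center (U.comap σ) := by
    intro x hx
    have hx' : (x : Γ) ∈ σ.ker := by
      rw [MonoidHom.mem_ker] at hx ⊢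
      exact congrArg Subtype.val hx
    have h1 := hσ.2.1 hx'
    rw [Subgroup.mem_center_iff] at h1 ⊢
    intro g
    exact Subtype.ext (h1 g)
  obtain ⟨fB, hfB⟩ := exists_hom_range_eq hB (σ.subgroupComap U) hσUs hσUc
  obtain ⟨j, hj⟩ := exists_injective_of_range ((U.comap σ).subtype.comp fB)
  have hmem : ∀ a' : (powMonoidHom U.index : A →* A).range,
      ((σ.ker.subtype.comp e.symm.toMonoidHom).comp
        (powMonoidHom U.index : A →* A).range.subtype) a' ∈
        ((U.comap σ).subtype.comp fB).range := by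
    rintro ⟨_, a, rfl⟩
    have hk : ((e.symm a : σ.ker) : Γ) ∈ σ.ker := (e.symm a).2
    obtain ⟨h1, h2⟩ := pow_index_mem_commutator' (U.comap σ) (hσ.2.1 hk) (hσ.2.2 hk)
      U.index hidx
    have h3 : (⟨((e.symm a : σ.ker) : Γ) ^ U.index, h1⟩ : U.comap σ) ∈
        (σ.subgroupComap U).ker ⊓ commutator (U.comap σ) := by
      refine Subgroup.mem_inf.mpr ⟨?_, h2⟩
      rw [MonoidHom.mem_ker]
      apply Subtype.ext
      change σ (((e.symm a : σ.ker) : Γ) ^ U.index) = 1
      rw [map_pow, MonoidHom.mem_ker.mp hk, one_pow]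
    rw [← hfB] at h3
    obtain ⟨b, hb⟩ := h3
    refine ⟨b, ?_⟩
    rw [MonoidHom.comp_apply, hb]
    simp
  have hι : Function.Injective
      (((σ.ker.subtype.comp e.symm.toMonoidHom).comp
        (powMonoidHom U.index : A →* A).range.subtype).codRestrict _ hmem) := by
    intro x y hxy
    have h1 : ((e.symm x.1 : σ.ker) : Γ) = ((e.symm y.1 : σ.ker) : Γ) :=
      congrArg (fun z : ((U.comap σ).subtype.comp fB).range => (z : Γ)) hxy
    exact Subtype.ext (e.symm.injective (Subtype.ext h1))
  exact ⟨(j.comp (((σ.ker.subtype.comp e.symm.toMonoidHom).comp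
        (powMonoidHom U.index : A →* A).range.subtype).codRestrict _ hmem)).range,
    ⟨MonoidHom.ofInjective (hj.comp hι)⟩⟩

end Cfsg.Agent.S3954
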