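import Mathlib
import Cfsg.Statements.S3955
import Cfsg.Agent.Lib.Helper12.SchurProj

set_option autoImplicit false
set_option linter.style.haveILetI false
open Cfsg

namespace Cfsg.Agent.S3955

open Cfsg.Agent.Lib.Helper12.Schur

open scoped IsMulCommutative in
/-- Let `Q` be a finite group with Schur multiplier `A`, and let `σ : Γ →* Q` be a finite stem extension whose kernel is isomorphic to `A` (a Schur covering group of `Q`). Then every homomorphism `γ` from `Q` to the quotient of `GL n ℂ` by its centre lifts along `σ`: there is a homomorphism `ρ : Γ →* GL n ℂ` which, followed by the quotient map, equals `γ ∘ σ`. -/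
theorem result {Q : Type*} [Group Q] [Finite Q] {A : Type*} [CommGroup A] (hA : Cfsg.HasSchurMultiplier Q A) {Γ : Type*} [Group Γ] [Finite Γ] (σ : Γ →* Q) (hσ : Cfsg.IsStemExtension σ) (hk : Nonempty (σ.ker ≃* A)) (n : ℕ) (γ : Q →* (GL (Fin n) ℂ ⧸ Subgroup.center (GL (Fin n) ℂ))) : ∃ ρ : Γ →* GL (Fin n) ℂ, (QuotientGroup.mk' (Subgroup.center (GL (Fin n) ℂ))).comp ρ = γ.comp σ := by
  classical
  obtain ⟨π, hπdef⟩ : ∃ π : FreeGroup Q →* Q, π = FreeGroup.lift id := ⟨_, rfl⟩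
  have hπ : Function.Surjective π := by rw [hπdef]; exact lift_id_surjective Q
  obtain ⟨φΓ, hφΓ⟩ := exists_lift π σ hσ.1 hσ.2.1
  have hφΓs := lift_surjective π hπ σ hσ φΓ hφΓ
  have hφΓ' : ∀ x, σ (φΓ x) = covρ π x := fun x => DFunLike.congr_fun hφΓ x
  have hS : φΓ.ker ⊓ commutator (CovE π) = ⊥ :=
    ker_lift_inf_commutator π hπ hA σ hσ hk φΓ hφΓ
  -- the pullback of `γ` and the projection `GL → PGL`
  obtain ⟨P, hPdef⟩ : ∃ P : Subgroup (Q × GL (Fin n) ℂ), P =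
      (γ.comp (MonoidHom.fst Q (GL (Fin n) ℂ))).eqLocus
        ((QuotientGroup.mk' (Subgroup.center (GL (Fin n) ℂ))).comp
          (MonoidHom.snd Q (GL (Fin n) ℂ))) := ⟨_, rfl⟩
  have hP : ∀ p : Q × GL (Fin n) ℂ, p ∈ P ↔
      γ p.1 = QuotientGroup.mk' (Subgroup.center (GL (Fin n) ℂ)) p.2 := fun p => by
    rw [hPdef]; exact Iff.rfl
  have hτs : Function.Surjective ((MonoidHom.fst Q (GL (Fin n) ℂ)).comp P.subtype) := by
    intro q
    obtain ⟨M, hM⟩ := QuotientGroup.mk'_surjective (Subgroup.center (GL (Fin n) ℂ)) (γ q)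
    exact ⟨⟨(q, M), (hP _).mpr hM.symm⟩, rfl⟩
  have hτc : ((MonoidHom.fst Q (GL (Fin n) ℂ)).comp P.subtype).ker ≤ Subgroup.center P := by
    intro p hp
    rw [Subgroup.mem_center_iff]
    intro q
    have hp1 : (p : Q × GL (Fin n) ℂ).1 = 1 := hp
    have hp2 : (p : Q × GL (Fin n) ℂ).2 ∈ Subgroup.center (GL (Fin n) ℂ) := by
      have h1 := (hP p).mp p.2
      rw [hp1, map_one] at h1
      exact (QuotientGroup.eq_one_iff _).mp h1.symm
    apply Subtype.ext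
    apply Prod.ext
    · simp [hp1]
    · exact Subgroup.mem_center_iff.mp hp2 _
  obtain ⟨φ, hφ⟩ := exists_lift π _ hτs hτc
  have hφ1 : ∀ e, ((φ e : P) : Q × GL (Fin n) ℂ).1 = covρ π e := fun e => DFunLike.congr_fun hφ e
  obtain ⟨θ, hθdef⟩ : ∃ θ : CovE π →* GL (Fin n) ℂ,
      θ = ((MonoidHom.snd Q (GL (Fin n) ℂ)).comp P.subtype).comp φ := ⟨_, rfl⟩
  have hθ : ∀ e, QuotientGroup.mk' (Subgroup.center (GL (Fin n) ℂ)) (θ e) = γ (covρ π e) := by
    intro e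
    rw [hθdef, ← hφ1]
    exact ((hP _).mp (φ e).2).symm
  have hθS : ∀ s : φΓ.ker, (θ.comp φΓ.ker.subtype) s ∈ Subgroup.center (GL (Fin n) ℂ) := by
    intro s
    apply (QuotientGroup.eq_one_iff _).mp
    have h1 := hθ (s : CovE π)
    rw [← hφΓ', MonoidHom.mem_ker.mp s.2, map_one, map_one] at h1
    exact h1
  obtain ⟨χ, hχ⟩ := exists_extension_of_divisible φΓ.ker hS (center_GL_divisible n)
    ((θ.comp φΓ.ker.subtype).codRestrict _ hθS)
  have hχc : ∀ e, ((χ e : Subgroup.center (GL (Fin n) ℂ)) : GL (Fin n) ℂ)⁻¹ ∈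
      Subgroup.center (GL (Fin n) ℂ) := fun e => inv_mem (χ e).2
  obtain ⟨θ', hθ'⟩ : ∃ θ' : CovE π →* GL (Fin n) ℂ, ∀ e, θ' e =
      θ e * ((χ e : Subgroup.center (GL (Fin n) ℂ)) : GL (Fin n) ℂ)⁻¹ := by
    refine ⟨{ toFun := fun e => θ e * ((χ e : Subgroup.center (GL (Fin n) ℂ)) : GL (Fin n) ℂ)⁻¹
              map_one' := by simp
              map_mul' := fun a b => ?_ }, fun e => rfl⟩
    have h1 := Subgroup.mem_center_iff.mp (hχc a)
      (θ b * ((χ b : Subgroup.center (GL (Fin n) ℂ)) : GL (Fin n) ℂ)⁻¹)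
    rw [map_mul, map_mul, Subgroup.coe_mul, mul_inv_rev]
    calc θ a * θ b * (((χ b : Subgroup.center (GL (Fin n) ℂ)) : GL (Fin n) ℂ)⁻¹ *
          ((χ a : Subgroup.center (GL (Fin n) ℂ)) : GL (Fin n) ℂ)⁻¹)
        = θ a * ((θ b * ((χ b : Subgroup.center (GL (Fin n) ℂ)) : GL (Fin n) ℂ)⁻¹) *
          ((χ a : Subgroup.center (GL (Fin n) ℂ)) : GL (Fin n) ℂ)⁻¹) := by
          simp only [mul_assoc]
      _ = θ a * (((χ a : Subgroup.center (GL (Fin n) ℂ)) : GL (Fin n) ℂ)⁻¹ *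
          (θ b * ((χ b : Subgroup.center (GL (Fin n) ℂ)) : GL (Fin n) ℂ)⁻¹)) := by rw [h1]
      _ = _ := by simp only [mul_assoc]
  have hle : φΓ.ker ≤ θ'.ker := by
    intro s hs
    rw [MonoidHom.mem_ker, hθ']
    have h1 := hχ ⟨s, hs⟩
    have h2 : ((χ s : Subgroup.center (GL (Fin n) ℂ)) : GL (Fin n) ℂ) = θ s := by
      have h3 := congrArg (fun z : Subgroup.center (GL (Fin n) ℂ) => (z : GL (Fin n) ℂ)) h1
      exact h3
    rw [h2, mul_inv_cancel]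
  refine ⟨φΓ.liftOfSurjective hφΓs ⟨θ', hle⟩, ?_⟩
  apply MonoidHom.ext
  intro x
  obtain ⟨e, rfl⟩ := hφΓs x
  have h1 : (φΓ.liftOfSurjective hφΓs ⟨θ', hle⟩) (φΓ e) = θ' e :=
    MonoidHom.liftOfRightInverse_comp_apply φΓ (Function.surjInv hφΓs)
      (Function.rightInverse_surjInv hφΓs) ⟨θ', hle⟩ e
  rw [MonoidHom.comp_apply, h1, hθ', map_mul, hθ, MonoidHom.comp_apply, hφΓ']
  have h2 : QuotientGroup.mk' (Subgroup.center (GL (Fin n) ℂ))
      ((χ e : Subgroup.center (GL (Fin n) ℂ)) : GL (Fin n) ℂ)⁻¹ = 1 :=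
    (QuotientGroup.eq_one_iff _).mpr (hχc e)
  rw [h2, mul_one]

end Cfsg.Agent.S3955
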