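import Mathlib
import Cfsg.Statements.S3957
import Cfsg.Agent.Lib.Helper12.SchurCover

set_option autoImplicit false
set_option linter.style.haveILetI false
universe u v
open Cfsg

namespace Cfsg.Agent.S3957

open Cfsg.Agent.Lib.Helper12.Schur

/-- Let `Q` be a finite group with Schur multiplier `A` and let `τ : Δ →* Q` be a finite stem extension, `Δ` in the universe of `Q`. Then there is a finite stem extension `σ : Γ →* Q` with kernel isomorphic to `A` (a Schur covering group) and a surjective homomorphism `β : Γ →* Δ` with `τ ∘ β = σ`. -/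
theorem result {Q : Type u} [Group Q] [Finite Q] {A : Type v} [CommGroup A] (hA : Cfsg.HasSchurMultiplier Q A) {Δ : Type u} [Group Δ] [Finite Δ] (τ : Δ →* Q) (hτ : Cfsg.IsStemExtension τ) : ∃ (Γ : Type u) (_ : Group Γ) (_ : Finite Γ) (σ : Γ →* Q), Cfsg.IsStemExtension σ ∧ Nonempty (σ.ker ≃* A) ∧ ∃ β : Γ →* Δ, Function.Surjective β ∧ τ.comp β = σ := by
  obtain ⟨π, hπdef⟩ : ∃ π : FreeGroup Q →* Q, π = FreeGroup.lift id := ⟨_, rfl⟩
  have hπ : Function.Surjective π := fun q => ⟨FreeGroup.of q, by rw [hπdef, FreeGroup.lift_apply_of]; rfl⟩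
  obtain ⟨φ, hφ⟩ := exists_lift π τ hτ.1 hτ.2.1
  have hφs := lift_surjective π hπ τ hτ φ hφ
  obtain ⟨S, hS1, hS2, hS3⟩ := exists_complement π ((covρ π).ker ⊓ φ.ker) inf_le_left
  have hsup : ∀ a ∈ (covρ π).ker, ∃ s ∈ S, s⁻¹ * a ∈ commutator (CovE π) := by
    intro a ha
    have h1 : φ a ∈ τ.ker := by
      rw [MonoidHom.mem_ker, ← MonoidHom.comp_apply, hφ]; exact ha
    obtain ⟨t, ht, hta⟩ := exists_mem_covT_of_mem_ker π hπ τ hτ φ hφ (φ a) h1
    have ht1 : t ∈ (covρ π).ker := MonoidHom.mem_ker.mpr ((mem_covT π).mp ht).1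
    have h2 : a * t⁻¹ ∈ (covρ π).ker ⊓ φ.ker := by
      refine Subgroup.mem_inf.mpr ⟨mul_mem ha (inv_mem ht1), ?_⟩
      rw [MonoidHom.mem_ker, map_mul, map_inv, hta, mul_inv_cancel]
    obtain ⟨s, hs, hsa⟩ := hS3 _ h2
    refine ⟨s, hs, ?_⟩
    have h3 : s⁻¹ * a = (s⁻¹ * (a * t⁻¹)) * t := by group
    rw [h3]; exact mul_mem hsa ((mem_covT π).mp ht).2
  obtain ⟨Γ, hΓg, hΓf, σ, q, hq, hqk, hσq, hσ, ⟨e⟩⟩ :=
    exists_cover π hπ S (hS1.trans inf_le_left) hS2 hsup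
  obtain ⟨e2⟩ := mulEquiv_of_hasSchurMultiplier (hasSchurMultiplier_covT π hπ) hA
  have hle : q.ker ≤ φ.ker := by rw [hqk]; exact hS1.trans inf_le_right
  have hβq : (q.liftOfSurjective hq ⟨φ, hle⟩).comp q = φ :=
    MonoidHom.liftOfRightInverse_comp _ _ _ ⟨φ, hle⟩
  refine ⟨Γ, hΓg, hΓf, σ, hσ, ⟨e.trans e2⟩, q.liftOfSurjective hq ⟨φ, hle⟩, ?_, ?_⟩
  · intro δ
    obtain ⟨x, rfl⟩ := hφs δ
    exact ⟨q x, DFunLike.congr_fun hβq x⟩
  · apply MonoidHom.ext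
    intro y
    obtain ⟨x, rfl⟩ := hq y
    have h1 : (q.liftOfSurjective hq ⟨φ, hle⟩) (q x) = φ x := DFunLike.congr_fun hβq x
    rw [MonoidHom.comp_apply, h1]
    have h2 := DFunLike.congr_fun hφ x
    have h3 := DFunLike.congr_fun hσq x
    rw [MonoidHom.comp_apply] at h2 h3
    rw [h2, h3]

end Cfsg.Agent.S3957
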