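import Mathlib
import Cfsg.Statements.S3958
import Cfsg.Agent.Lib.Helper12.SchurCover

set_option autoImplicit false
set_option linter.style.haveILetI false
universe u v
open Cfsg

namespace Cfsg.Agent.S3958

open Cfsg.Agent.Lib.Helper12.Schur

/-- Let `σ : Γ →* Q` be a finite stem extension of the finite group `Q` with `Γ` of trivial Schur multiplier. Then `σ` is a Schur covering group of `Q`: for every finite stem extension `τ : Δ →* Q` with `Δ` in the same universe as `Q`, the kernel of `τ` is a homomorphic image of the kernel of `σ`. -/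
theorem result {Q : Type u} [Group Q] [Finite Q] {Γ : Type v} [Group Γ] [Finite Γ] (σ : Γ →* Q) (hσ : Cfsg.IsStemExtension σ) (hΓ : Cfsg.HasCyclicSchurMultiplier Γ 1) (Δ : Type u) [Group Δ] [Finite Δ] (τ : Δ →* Q) (hτ : Cfsg.IsStemExtension τ) : ∃ π : σ.ker →* τ.ker, Function.Surjective π := by
  obtain ⟨π, hπdef⟩ : ∃ π : FreeGroup Γ →* Q, π = σ.comp (FreeGroup.lift id) := ⟨_, rfl⟩
  have hπ : Function.Surjective π := by
    intro q
    obtain ⟨g, rfl⟩ := hσ.1 q
    exact ⟨FreeGroup.of g, by rw [hπdef, MonoidHom.comp_apply, FreeGroup.lift_apply_of]; rfl⟩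
  obtain ⟨φ, hφ⟩ := exists_lift π σ hσ.1 hσ.2.1
  have hφs := lift_surjective π hπ σ hσ φ hφ
  obtain ⟨S, hS1, hS2, hS3⟩ := exists_complement π ((covρ π).ker ⊓ φ.ker) inf_le_left
  have hsup : ∀ a ∈ (covρ π).ker, ∃ s ∈ S, s⁻¹ * a ∈ commutator (CovE π) := by
    intro a ha
    have h1 : φ a ∈ σ.ker := by
      rw [MonoidHom.mem_ker, ← MonoidHom.comp_apply, hφ]; exact ha
    obtain ⟨t, ht, hta⟩ := exists_mem_covT_of_mem_ker π hπ σ hσ φ hφ (φ a) h1
    have ht1 : t ∈ (covρ π).ker := MonoidHom.mem_ker.mpr ((mem_covT π).mp ht).1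
    have h2 : a * t⁻¹ ∈ (covρ π).ker ⊓ φ.ker := by
      refine Subgroup.mem_inf.mpr ⟨mul_mem ha (inv_mem ht1), ?_⟩
      rw [MonoidHom.mem_ker, map_mul, map_inv, hta, mul_inv_cancel]
    obtain ⟨s, hs, hsa⟩ := hS3 _ h2
    refine ⟨s, hs, ?_⟩
    have h3 : s⁻¹ * a = (s⁻¹ * (a * t⁻¹)) * t := by group
    rw [h3]; exact mul_mem hsa ((mem_covT π).mp ht).2
  obtain ⟨Γ', hΓg, hΓf, σ', q, hq, hqk, hσq, hσ', ⟨e⟩⟩ :=
    exists_cover π hπ S (hS1.trans inf_le_left) hS2 hsup
  have hle : q.ker ≤ φ.ker := by rw [hqk]; exact hS1.trans inf_le_right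
  obtain ⟨β, hβdef⟩ : ∃ β : Γ' →* Γ, β = q.liftOfSurjective hq ⟨φ, hle⟩ := ⟨_, rfl⟩
  have hβq : ∀ x, β (q x) = φ x := by
    intro x
    rw [hβdef]
    exact MonoidHom.liftOfRightInverse_comp_apply q (Function.surjInv hq)
      (Function.rightInverse_surjInv hq) ⟨φ, hle⟩ x
  have hσβ : ∀ y, σ (β y) = σ' y := by
    intro y
    obtain ⟨x, rfl⟩ := hq y
    rw [hβq]
    have h2 := DFunLike.congr_fun hφ x
    have h3 := DFunLike.congr_fun hσq x
    rw [MonoidHom.comp_apply] at h2 h3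
    rw [h2, h3]
  have hβs : Function.Surjective β := by
    intro g
    obtain ⟨x, rfl⟩ := hφs g
    exact ⟨q x, hβq x⟩
  have hkerle : β.ker ≤ σ'.ker := by
    intro y hy
    rw [MonoidHom.mem_ker] at hy ⊢
    rw [← hσβ, hy, map_one]
  have hβstem : Cfsg.IsStemExtension β := ⟨hβs, hkerle.trans hσ'.2.1, hkerle.trans hσ'.2.2⟩
  have hβk : β.ker = ⊥ := ker_eq_bot_of_trivial_multiplier hΓ β hβstem
  have hβinj : Function.Injective β := (MonoidHom.ker_eq_bot_iff β).mp hβk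
  -- the restriction of `β` to the kernels
  have hmem : ∀ y : σ'.ker, (β.comp σ'.ker.subtype) y ∈ σ.ker := by
    intro y
    rw [MonoidHom.mem_ker, MonoidHom.comp_apply, hσβ]
    exact y.2
  have hKinj : Function.Injective ((β.comp σ'.ker.subtype).codRestrict _ hmem) := by
    intro a b hab
    have h1 : β a.1 = β b.1 := congrArg Subtype.val hab
    exact Subtype.ext (hβinj h1)
  have hKsurj : Function.Surjective ((β.comp σ'.ker.subtype).codRestrict _ hmem) := by
    intro y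
    obtain ⟨x, hx⟩ := hβs y.1
    have hx' : x ∈ σ'.ker := by
      rw [MonoidHom.mem_ker, ← hσβ, hx]; exact y.2
    exact ⟨⟨x, hx'⟩, Subtype.ext hx⟩
  obtain ⟨p, hp⟩ := exists_surjection_covT π hπ τ hτ
  refine ⟨p.comp (e.toMonoidHom.comp
    (MulEquiv.ofBijective _ ⟨hKinj, hKsurj⟩).symm.toMonoidHom), ?_⟩
  exact hp.comp (e.surjective.comp (MulEquiv.surjective _))

end Cfsg.Agent.S3958
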