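import Mathlib
import Cfsg.Statements.S3959
import Cfsg.Agent.Lib.Helper12.SchurBasic
import Cfsg.Agent.Lib.Helper12.SchurCover
import Cfsg.Agent.Lib.Helper12.SchurMore

set_option autoImplicit false
set_option linter.style.haveILetI false
set_option linter.unusedSectionVars false
universe u v w
open Cfsg
open scoped commutatorElement TensorProduct

namespace Cfsg.Agent.S3959

open Cfsg.Agent.Lib.Helper12.Schur

section Comm
variable {G : Type*} [Group G]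

theorem comm_mul_left_of_central {x x' y : G} (h : ⁅x', y⁆ ∈ Subgroup.center G) :
    ⁅x * x', y⁆ = ⁅x, y⁆ * ⁅x', y⁆ := by
  have hz := Subgroup.mem_center_iff.mp h
  calc ⁅x * x', y⁆ = x * ⁅x', y⁆ * (y * x⁻¹ * y⁻¹) := by
        simp only [commutatorElement_def]; group
    _ = ⁅x', y⁆ * x * (y * x⁻¹ * y⁻¹) := by rw [hz x]
    _ = ⁅x', y⁆ * (x * (y * x⁻¹ * y⁻¹)) := mul_assoc _ _ _
    _ = (x * (y * x⁻¹ * y⁻¹)) * ⁅x', y⁆ := (hz _).symm
    _ = ⁅x, y⁆ * ⁅x', y⁆ := by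
        simp only [commutatorElement_def]; group

theorem comm_mul_right_of_central {x y y' : G} (h : ⁅x, y'⁆ ∈ Subgroup.center G) :
    ⁅x, y * y'⁆ = ⁅x, y⁆ * ⁅x, y'⁆ := by
  have hz := Subgroup.mem_center_iff.mp h
  calc ⁅x, y * y'⁆ = x * y * x⁻¹ * (⁅x, y'⁆ * y⁻¹) := by
        simp only [commutatorElement_def]; group
    _ = x * y * x⁻¹ * (y⁻¹ * ⁅x, y'⁆) := by rw [← hz y⁻¹]
    _ = ⁅x, y⁆ * ⁅x, y'⁆ := by
        simp only [commutatorElement_def]; group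

end Comm

/-- the tensor product of the abelianizations, written multiplicatively -/
abbrev TN (Q₁ : Type u) (Q₂ : Type v) [Group Q₁] [Group Q₂] : Type (max u v) :=
  Multiplicative (TensorProduct ℤ (Additive (Abelianization Q₁)) (Additive (Abelianization Q₂)))

section Tensor
variable {Q₁ : Type u} {Q₂ : Type v} [Group Q₁] [Group Q₂]

/-- pure tensors -/
def pt (q : Q₁) (r : Q₂) : TN Q₁ Q₂ :=
  Multiplicative.ofAdd
    (Additive.ofMul (Abelianization.of q) ⊗ₜ[ℤ] Additive.ofMul (Abelianization.of r))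

theorem pt_mul_left (q q' : Q₁) (r : Q₂) : pt (q * q') r = pt q r * pt q' r := by
  unfold pt; rw [map_mul, ofMul_mul, TensorProduct.add_tmul, ofAdd_add]

theorem pt_mul_right (q : Q₁) (r r' : Q₂) : pt q (r * r') = pt q r * pt q r' := by
  unfold pt; rw [map_mul, ofMul_mul, TensorProduct.tmul_add, ofAdd_add]

theorem pt_one_left (r : Q₂) : pt (1 : Q₁) r = 1 := by
  unfold pt; rw [map_one, ofMul_one, TensorProduct.zero_tmul, ofAdd_zero]

theorem pt_one_right (q : Q₁) : pt q (1 : Q₂) = 1 := by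
  unfold pt; rw [map_one, ofMul_one, TensorProduct.tmul_zero, ofAdd_zero]

theorem TN_induction (S : Subgroup (TN Q₁ Q₂)) (h : ∀ q r, pt q r ∈ S) : ∀ n, n ∈ S := by
  intro n
  have key : ∀ t : TensorProduct ℤ (Additive (Abelianization Q₁)) (Additive (Abelianization Q₂)),
      Multiplicative.ofAdd t ∈ S := by
    intro t
    induction t using TensorProduct.induction_on with
    | zero => rw [ofAdd_zero]; exact S.one_mem
    | tmul a b =>
      obtain ⟨q, hq⟩ := QuotientGroup.mk_surjective (Additive.toMul a)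
      obtain ⟨r, hr⟩ := QuotientGroup.mk_surjective (Additive.toMul b)
      have ha : a = Additive.ofMul (Abelianization.of q) := by
        rw [show (Abelianization.of q : Abelianization Q₁) = Additive.toMul a from hq]; rfl
      have hb : b = Additive.ofMul (Abelianization.of r) := by
        rw [show (Abelianization.of r : Abelianization Q₂) = Additive.toMul b from hr]; rfl
      rw [ha, hb]
      exact h q r
    | add x y hx hy => rw [ofAdd_add]; exact S.mul_mem hx hy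
  exact key (Multiplicative.toAdd n)

theorem exists_TN_hom {C : Type*} [CommGroup C] (β : Q₁ → Q₂ → C)
    (hl : ∀ q q' r, β (q * q') r = β q r * β q' r)
    (hr : ∀ q r r', β q (r * r') = β q r * β q r') :
    ∃ g : TN Q₁ Q₂ →* C, ∀ q r, g (pt q r) = β q r := by
  obtain ⟨β₁, hβ₁⟩ : ∃ β₁ : Q₁ → (Q₂ →* C), ∀ q r, β₁ q r = β q r :=
    ⟨fun q => MonoidHom.mk' (β q) (hr q), fun q r => rfl⟩
  obtain ⟨B₁, hB₁⟩ : ∃ B₁ : Q₁ →* (Abelianization Q₂ →* C),
      ∀ q r, B₁ q (Abelianization.of r) = β q r := by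
    refine ⟨MonoidHom.mk' (fun q => Abelianization.lift (β₁ q)) ?_, fun q r => ?_⟩
    · intro q q'
      apply Abelianization.hom_ext
      refine MonoidHom.ext fun r => ?_
      show Abelianization.lift (β₁ (q * q')) (Abelianization.of r) =
        (Abelianization.lift (β₁ q) * Abelianization.lift (β₁ q')) (Abelianization.of r)
      rw [MonoidHom.mul_apply, Abelianization.lift_apply_of, Abelianization.lift_apply_of,
        Abelianization.lift_apply_of, hβ₁, hβ₁, hβ₁, hl]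
    · show Abelianization.lift (β₁ q) (Abelianization.of r) = β q r
      rw [Abelianization.lift_apply_of, hβ₁]
  obtain ⟨B₂, hB₂⟩ : ∃ B₂ : Abelianization Q₁ →* (Abelianization Q₂ →* C),
      ∀ q r, B₂ (Abelianization.of q) (Abelianization.of r) = β q r :=
    ⟨Abelianization.lift B₁, fun q r => by rw [Abelianization.lift_apply_of, hB₁]⟩
  obtain ⟨f, hf⟩ : ∃ f : Additive (Abelianization Q₁) →+ Additive (Abelianization Q₂) →+
      Additive C, ∀ a b, f a b = Additive.ofMul (B₂ (Additive.toMul a) (Additive.toMul b)) := by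
    refine ⟨AddMonoidHom.mk' (fun a => MonoidHom.toAdditive (B₂ (Additive.toMul a))) ?_,
      fun a b => rfl⟩
    intro a a'
    refine AddMonoidHom.ext fun b => ?_
    show Additive.ofMul (B₂ (Additive.toMul a * Additive.toMul a') (Additive.toMul b)) =
      Additive.ofMul (B₂ (Additive.toMul a) (Additive.toMul b)) +
        Additive.ofMul (B₂ (Additive.toMul a') (Additive.toMul b))
    rw [map_mul, MonoidHom.mul_apply, ofMul_mul]
  have hbal : ∀ (r : ℤ) (m : Additive (Abelianization Q₁)) (n : Additive (Abelianization Q₂)),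
      f (r • m) n = f m (r • n) := by
    intro r m n
    rw [map_zsmul, AddMonoidHom.zsmul_apply, map_zsmul]
  obtain ⟨g₀, hg₀⟩ : ∃ g₀ : TensorProduct ℤ (Additive (Abelianization Q₁))
      (Additive (Abelianization Q₂)) →+ Additive C, ∀ a b, g₀ (a ⊗ₜ[ℤ] b) = f a b :=
    ⟨TensorProduct.liftAddHom f hbal, fun a b => rfl⟩
  refine ⟨{ toFun := fun n => Additive.toMul (g₀ (Multiplicative.toAdd n))
            map_one' := ?_
            map_mul' := ?_ }, ?_⟩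
  · show Additive.toMul (g₀ 0) = 1
    rw [map_zero]; rfl
  · intro x y
    show Additive.toMul (g₀ (Multiplicative.toAdd x + Multiplicative.toAdd y)) =
      Additive.toMul (g₀ (Multiplicative.toAdd x)) * Additive.toMul (g₀ (Multiplicative.toAdd y))
    rw [map_add]; rfl
  · intro q r
    show Additive.toMul (g₀ (Additive.ofMul (Abelianization.of q) ⊗ₜ[ℤ]
      Additive.ofMul (Abelianization.of r))) = β q r
    rw [hg₀, hf]
    exact hB₂ q r

theorem finite_TN (Q₁ : Type u) (Q₂ : Type v) [Group Q₁] [Group Q₂] [Finite Q₁] [Finite Q₂] :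
    Finite (TN Q₁ Q₂) := by
  have hx : ∀ x : TensorProduct ℤ (Additive (Abelianization Q₁)) (Additive (Abelianization Q₂)),
      (Nat.card (Additive (Abelianization Q₁)) : ℤ) • x = 0 := by
    intro x
    induction x using TensorProduct.induction_on with
    | zero => exact smul_zero _
    | tmul a b =>
      rw [TensorProduct.smul_tmul', natCast_zsmul, card_nsmul_eq_zero', TensorProduct.zero_tmul]
    | add x y hx hy => rw [smul_add, hx, hy, add_zero]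
  have htors : IsAddTorsion
      (TensorProduct ℤ (Additive (Abelianization Q₁)) (Additive (Abelianization Q₂))) := by
    intro x
    rw [isOfFinAddOrder_iff_nsmul_eq_zero]
    exact ⟨Nat.card (Additive (Abelianization Q₁)), Nat.card_pos, by
      rw [← natCast_zsmul]; exact hx x⟩
  haveI hfg : AddGroup.FG
      (TensorProduct ℤ (Additive (Abelianization Q₁)) (Additive (Abelianization Q₂))) := by
    rw [AddGroup.fg_iff]
    refine ⟨Set.range (fun p : Additive (Abelianization Q₁) × Additive (Abelianization Q₂) =>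
      p.1 ⊗ₜ[ℤ] p.2), ?_, Set.finite_range _⟩
    have key : ∀ x : TensorProduct ℤ (Additive (Abelianization Q₁))
        (Additive (Abelianization Q₂)), x ∈ AddSubgroup.closure (Set.range
          (fun p : Additive (Abelianization Q₁) × Additive (Abelianization Q₂) =>
            p.1 ⊗ₜ[ℤ] p.2)) := by
      intro x
      induction x using TensorProduct.induction_on with
      | zero => exact zero_mem _
      | tmul a b => exact AddSubgroup.subset_closure ⟨(a, b), rfl⟩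
      | add x y hx hy => exact add_mem hx hy
    rw [eq_top_iff]
    intro x _
    exact key x
  haveI : Finite
      (TensorProduct ℤ (Additive (Abelianization Q₁)) (Additive (Abelianization Q₂))) :=
    AddCommGroup.finite_of_fg_isAddTorsion _ htors
  exact (inferInstance : Finite (Multiplicative (TensorProduct ℤ (Additive (Abelianization Q₁))
    (Additive (Abelianization Q₂)))))

end Tensor

open scoped IsMulCommutative in
theorem clause2 {Q₁ : Type u} {Q₂ : Type v} [Group Q₁] [Group Q₂] [Finite Q₁] [Finite Q₂]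
    {A B : Type w} [CommGroup A] [CommGroup B] (hA : Cfsg.HasSchurMultiplier Q₁ A)
    (hB : Cfsg.HasSchurMultiplier Q₂ B) {Δ : Type*} [Group Δ] (τ : Δ →* Q₁ × Q₂)
    (hτ : Cfsg.IsStemExtension τ) :
    ∃ Φ : A × B × TN Q₁ Q₂ →* τ.ker, Function.Surjective Φ := by
  classical
  obtain ⟨hτs, hτc, hτd⟩ := hτ
  obtain ⟨p₁, hp₁⟩ : ∃ p : Δ →* Q₁, p = (MonoidHom.fst Q₁ Q₂).comp τ := ⟨_, rfl⟩
  obtain ⟨p₂, hp₂⟩ : ∃ p : Δ →* Q₂, p = (MonoidHom.snd Q₁ Q₂).comp τ := ⟨_, rfl⟩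
  have hp₁' : ∀ d, p₁ d = (τ d).1 := fun d => by rw [hp₁]; rfl
  have hp₂' : ∀ d, p₂ d = (τ d).2 := fun d => by rw [hp₂]; rfl
  have hK : ∀ d, d ∈ τ.ker ↔ p₁ d = 1 ∧ p₂ d = 1 := by
    intro d
    rw [MonoidHom.mem_ker, hp₁', hp₂', Prod.ext_iff]
    exact Iff.rfl
  have hKc : ∀ d, p₁ d = 1 → p₂ d = 1 → d ∈ Subgroup.center Δ :=
    fun d h1 h2 => hτc ((hK d).mpr ⟨h1, h2⟩)
  have hψ₁s : Function.Surjective (p₁.comp p₂.ker.subtype) := by
    intro q
    obtain ⟨d, hd⟩ := hτs (q, 1)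
    refine ⟨⟨d, ?_⟩, ?_⟩
    · rw [MonoidHom.mem_ker, hp₂', hd]
    · change p₁ d = q
      rw [hp₁', hd]
  have hψ₂s : Function.Surjective (p₂.comp p₁.ker.subtype) := by
    intro q
    obtain ⟨d, hd⟩ := hτs (1, q)
    refine ⟨⟨d, ?_⟩, ?_⟩
    · rw [MonoidHom.mem_ker, hp₁', hd]
    · change p₂ d = q
      rw [hp₂', hd]
  have hψ₁c' : (p₁.comp p₂.ker.subtype).ker ≤ Subgroup.center p₂.ker := by
    intro x hx
    have h1 : (x : Δ) ∈ Subgroup.center Δ :=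
      hKc _ (MonoidHom.mem_ker.mp hx) (MonoidHom.mem_ker.mp x.2)
    rw [Subgroup.mem_center_iff] at h1 ⊢
    intro g
    exact Subtype.ext (h1 g)
  have hψ₂c' : (p₂.comp p₁.ker.subtype).ker ≤ Subgroup.center p₁.ker := by
    intro x hx
    have h1 : (x : Δ) ∈ Subgroup.center Δ :=
      hKc _ (MonoidHom.mem_ker.mp x.2) (MonoidHom.mem_ker.mp hx)
    rw [Subgroup.mem_center_iff] at h1 ⊢
    intro g
    exact Subtype.ext (h1 g)
  -- sections
  choose s₁ hs₁ using fun q : Q₁ => hτs (q, 1)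
  choose s₂ hs₂ using fun r : Q₂ => hτs (1, r)
  have hs₁1 : ∀ q, p₁ (s₁ q) = q := fun q => by rw [hp₁', hs₁]
  have hs₁2 : ∀ q, p₂ (s₁ q) = 1 := fun q => by rw [hp₂', hs₁]
  have hs₂1 : ∀ r, p₁ (s₂ r) = 1 := fun r => by rw [hp₁', hs₂]
  have hs₂2 : ∀ r, p₂ (s₂ r) = r := fun r => by rw [hp₂', hs₂]
  have hxyK : ∀ x', p₂ x' = 1 → ∀ y', p₁ y' = 1 → ⁅x', y'⁆ ∈ τ.ker := by
    intro x' hx' y' hy'
    rw [hK, map_commutatorElement, map_commutatorElement, hy', hx']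
    exact ⟨commutatorElement_one_right _, commutatorElement_one_left _⟩
  have hxyc : ∀ x', p₂ x' = 1 → ∀ y', p₁ y' = 1 → ⁅x', y'⁆ ∈ Subgroup.center Δ :=
    fun x' hx' y' hy' => hτc (hxyK x' hx' y' hy')
  obtain ⟨β, hβ⟩ : ∃ β : Q₁ → Q₂ → Subgroup.center Δ,
      ∀ q r, ((β q r : Subgroup.center Δ) : Δ) = ⁅s₁ q, s₂ r⁆ :=
    ⟨fun q r => ⟨⁅s₁ q, s₂ r⁆, hxyc _ (hs₁2 q) _ (hs₂1 r)⟩, fun q r => rfl⟩
  have hβl : ∀ q q' r, β (q * q') r = β q r * β q' r := by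
    intro q q' r
    apply Subtype.ext
    rw [Subgroup.coe_mul, hβ, hβ, hβ]
    have h1 : ⁅s₁ (q * q'), s₂ r⁆ = ⁅s₁ q * s₁ q', s₂ r⁆ := by
      apply comm_eq_of_central
      · apply hKc
        · rw [map_mul, map_inv, map_mul, hs₁1, hs₁1, hs₁1, inv_mul_cancel]
        · rw [map_mul, map_inv, map_mul, hs₁2, hs₁2, hs₁2]; simp
      · rw [inv_mul_cancel]; exact Subgroup.one_mem _
    rw [h1]
    exact comm_mul_left_of_central (hxyc _ (hs₁2 q') _ (hs₂1 r))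
  have hβr : ∀ q r r', β q (r * r') = β q r * β q r' := by
    intro q r r'
    apply Subtype.ext
    rw [Subgroup.coe_mul, hβ, hβ, hβ]
    have h1 : ⁅s₁ q, s₂ (r * r')⁆ = ⁅s₁ q, s₂ r * s₂ r'⁆ := by
      apply comm_eq_of_central
      · rw [inv_mul_cancel]; exact Subgroup.one_mem _
      · apply hKc
        · rw [map_mul, map_inv, map_mul, hs₂1, hs₂1, hs₂1]; simp
        · rw [map_mul, map_inv, map_mul, hs₂2, hs₂2, hs₂2, inv_mul_cancel]
    rw [h1]
    exact comm_mul_right_of_central (hxyc _ (hs₁2 q) _ (hs₂1 r'))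
  obtain ⟨g, hg⟩ := exists_TN_hom β hβl hβr
  have hgK : ∀ n, ((g n : Subgroup.center Δ) : Δ) ∈ τ.ker := by
    intro n
    have h1 := TN_induction ((τ.ker.comap (Subgroup.center Δ).subtype).comap g) (fun q r => by
      show ((g (pt q r) : Subgroup.center Δ) : Δ) ∈ τ.ker
      rw [hg, hβ]; exact hxyK _ (hs₁2 q) _ (hs₂1 r)) n
    exact h1
  obtain ⟨gΔ, hgΔ⟩ : ∃ gΔ : TN Q₁ Q₂ →* Δ, ∀ n, gΔ n = ((g n : Subgroup.center Δ) : Δ) :=
    ⟨(Subgroup.center Δ).subtype.comp g, fun n => rfl⟩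
  have hZc : gΔ.range ≤ Subgroup.center Δ := by
    rintro _ ⟨n, rfl⟩
    rw [hgΔ]; exact (g n).2
  haveI hZn : gΔ.range.Normal := normal_of_le_center _ hZc
  have hxyZ : ∀ x, p₂ x = 1 → ∀ y, p₁ y = 1 → ⁅x, y⁆ ∈ gΔ.range := by
    intro x hx y hy
    have h1 : ⁅x, y⁆ = ⁅s₁ (p₁ x), s₂ (p₂ y)⁆ := by
      apply comm_eq_of_central
      · apply hKc
        · rw [map_mul, map_inv, hs₁1, inv_mul_cancel]
        · rw [map_mul, map_inv, hs₁2, hx, inv_one, one_mul]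
      · apply hKc
        · rw [map_mul, map_inv, hs₂1, hy, inv_one, one_mul]
        · rw [map_mul, map_inv, hs₂2, inv_mul_cancel]
    rw [h1, ← hβ, ← hg, ← hgΔ]
    exact ⟨_, rfl⟩
  obtain ⟨ν, hνdef⟩ : ∃ ν : Δ →* Δ ⧸ gΔ.range, ν = QuotientGroup.mk' gΔ.range := ⟨_, rfl⟩
  have hνker : ∀ d, ν d = 1 ↔ d ∈ gΔ.range := by
    intro d; rw [hνdef]; exact QuotientGroup.eq_one_iff d
  have hcm : ∀ (a : p₂.ker) (b : p₁.ker),
      Commute ((ν.comp p₂.ker.subtype) a) ((ν.comp p₁.ker.subtype) b) := by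
    intro a b
    apply commutatorElement_eq_one_iff_commute.mp
    show ⁅ν (a : Δ), ν (b : Δ)⁆ = 1
    rw [← map_commutatorElement, hνker]
    exact hxyZ _ (MonoidHom.mem_ker.mp a.2) _ (MonoidHom.mem_ker.mp b.2)
  obtain ⟨μ, hμdef⟩ : ∃ μ : p₂.ker × p₁.ker →* Δ ⧸ gΔ.range,
      μ = MonoidHom.noncommCoprod (ν.comp p₂.ker.subtype) (ν.comp p₁.ker.subtype) hcm :=
    ⟨_, rfl⟩
  have hμ : ∀ z, μ z = ν ((z.1 : Δ) * (z.2 : Δ)) := fun z => by rw [hμdef, map_mul]; rfl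
  have hνs : Function.Surjective ν := by rw [hνdef]; exact QuotientGroup.mk'_surjective _
  have hμs : Function.Surjective μ := by
    intro dbar
    obtain ⟨d, rfl⟩ := hνs dbar
    obtain ⟨x, hx⟩ := hτs ((τ d).1, 1)
    have hx1 : x ∈ p₂.ker := by rw [MonoidHom.mem_ker, hp₂', hx]
    have hy1 : x⁻¹ * d ∈ p₁.ker := by
      rw [MonoidHom.mem_ker, map_mul, map_inv, hp₁', hp₁', hx, inv_mul_cancel]
    refine ⟨(⟨x, hx1⟩, ⟨x⁻¹ * d, hy1⟩), ?_⟩
    rw [hμ]
    congr 1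
    exact mul_inv_cancel_left x d
  have hcommΔ : commutator (Δ ⧸ gΔ.range) =
      ((commutator p₂.ker).prod (commutator p₁.ker)).map μ := by
    rw [← map_commutator_of_surj μ hμs]
    congr 1
    rw [commutator_def, commutator_def, commutator_def, ← Subgroup.commutator_prod_prod,
      Subgroup.top_prod_top]
  obtain ⟨f₁, hf₁⟩ := exists_hom_range_eq hA (p₁.comp p₂.ker.subtype) hψ₁s hψ₁c'
  obtain ⟨f₂, hf₂⟩ := exists_hom_range_eq hB (p₂.comp p₁.ker.subtype) hψ₂s hψ₂c'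
  have hf₁K : ∀ a, (p₂.ker.subtype.comp f₁) a ∈ τ.ker := by
    intro a
    have h1 : f₁ a ∈ f₁.range := ⟨a, rfl⟩
    rw [hf₁] at h1
    rw [hK]
    exact ⟨MonoidHom.mem_ker.mp (Subgroup.mem_inf.mp h1).1, MonoidHom.mem_ker.mp (f₁ a).2⟩
  have hf₂K : ∀ b, (p₁.ker.subtype.comp f₂) b ∈ τ.ker := by
    intro b
    have h1 : f₂ b ∈ f₂.range := ⟨b, rfl⟩
    rw [hf₂] at h1
    rw [hK]
    exact ⟨MonoidHom.mem_ker.mp (f₂ b).2, MonoidHom.mem_ker.mp (Subgroup.mem_inf.mp h1).1⟩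
  have hKcomm : ∀ u v : τ.ker, Commute u v := fun u v =>
    Subtype.ext (Subgroup.mem_center_iff.mp (hτc v.2) u.1)
  obtain ⟨F₁, hF₁⟩ : ∃ F₁ : A →* τ.ker, ∀ a, ((F₁ a : τ.ker) : Δ) = ((f₁ a : p₂.ker) : Δ) :=
    ⟨(p₂.ker.subtype.comp f₁).codRestrict τ.ker hf₁K, fun a => rfl⟩
  obtain ⟨F₂, hF₂⟩ : ∃ F₂ : B →* τ.ker, ∀ b, ((F₂ b : τ.ker) : Δ) = ((f₂ b : p₁.ker) : Δ) :=
    ⟨(p₁.ker.subtype.comp f₂).codRestrict τ.ker hf₂K, fun b => rfl⟩
  obtain ⟨F₃, hF₃⟩ : ∃ F₃ : TN Q₁ Q₂ →* τ.ker, ∀ n, ((F₃ n : τ.ker) : Δ) = gΔ n :=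
    ⟨gΔ.codRestrict τ.ker (fun n => by rw [hgΔ]; exact hgK n), fun n => rfl⟩
  refine ⟨MonoidHom.noncommCoprod F₁
    (MonoidHom.noncommCoprod F₂ F₃ (fun _ _ => hKcomm _ _)) (fun _ _ => hKcomm _ _), ?_⟩
  intro k
  have hk : ν (k : Δ) ∈ commutator (Δ ⧸ gΔ.range) := map_commutator_le ν ⟨_, hτd k.2, rfl⟩
  rw [hcommΔ] at hk
  obtain ⟨⟨d₁, d₂⟩, hd, hdk⟩ := hk
  have hd' : d₁ ∈ commutator p₂.ker ∧ d₂ ∈ commutator p₁.ker := hd
  rw [hμ] at hdk
  have hz : ((d₁ : Δ) * (d₂ : Δ))⁻¹ * (k : Δ) ∈ gΔ.range := by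
    rw [← hνker, map_mul, map_inv, hdk, inv_mul_cancel]
  obtain ⟨n, hn⟩ := hz
  have hkK := (hK k.1).mp k.2
  have hnK := (hK _).mp (show gΔ n ∈ τ.ker by rw [hgΔ]; exact hgK n)
  have e1 : p₁ (d₂ : Δ) = 1 := MonoidHom.mem_ker.mp d₂.2
  have e2 : p₂ (d₁ : Δ) = 1 := MonoidHom.mem_ker.mp d₁.2
  have hkeq : (k : Δ) = (d₁ : Δ) * ((d₂ : Δ) * gΔ n) := by rw [hn]; group
  have hp1 : p₁ (d₁ : Δ) = 1 := by
    have h1 := hkK.1
    rw [hkeq, map_mul, map_mul, e1, hnK.1, mul_one, mul_one] at h1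
    exact h1
  have hp2 : p₂ (d₂ : Δ) = 1 := by
    have h1 := hkK.2
    rw [hkeq, map_mul, map_mul, e2, hnK.2, mul_one, one_mul] at h1
    exact h1
  have hd₁ : d₁ ∈ f₁.range := by
    rw [hf₁]; exact Subgroup.mem_inf.mpr ⟨MonoidHom.mem_ker.mpr hp1, hd'.1⟩
  have hd₂ : d₂ ∈ f₂.range := by
    rw [hf₂]; exact Subgroup.mem_inf.mpr ⟨MonoidHom.mem_ker.mpr hp2, hd'.2⟩
  obtain ⟨a, ha⟩ := hd₁
  obtain ⟨b, hb⟩ := hd₂
  refine ⟨(a, b, n), Subtype.ext ?_⟩
  show ((F₁ a : τ.ker) : Δ) * (((F₂ b : τ.ker) : Δ) * ((F₃ n : τ.ker) : Δ)) = k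
  rw [hF₁, hF₂, hF₃, ha, hb, ← hkeq]

section Tw
variable {G₁ : Type*} {G₂ : Type*} {N : Type*} [Group G₁] [Group G₂] [CommGroup N]

/-- shear automorphism of `G₁ × N` -/
def shear (c : G₁ →* N) : MulAut (G₁ × N) :=
  { toFun := fun z => (z.1, z.2 * c z.1)
    invFun := fun z => (z.1, z.2 * (c z.1)⁻¹)
    left_inv := fun z => Prod.ext rfl (mul_inv_cancel_right _ _)
    right_inv := fun z => Prod.ext rfl (inv_mul_cancel_right _ _)
    map_mul' := fun z w => by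
      refine Prod.ext rfl ?_
      show z.2 * w.2 * c (z.1 * w.1) = z.2 * c z.1 * (w.2 * c w.1)
      rw [map_mul, mul_mul_mul_comm] }

theorem shear_apply (c : G₁ →* N) (z : G₁ × N) : shear c z = (z.1, z.2 * c z.1) := rfl

def shearHom : (G₁ →* N) →* MulAut (G₁ × N) :=
  { toFun := shear
    map_one' := by
      refine MulEquiv.ext fun z => Prod.ext rfl ?_
      show z.2 * (1 : G₁ →* N) z.1 = z.2
      rw [MonoidHom.one_apply, mul_one]
    map_mul' := fun c c' => by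
      refine MulEquiv.ext fun z => Prod.ext rfl ?_
      show z.2 * (c * c') z.1 = z.2 * c' z.1 * c z.1
      rw [MonoidHom.mul_apply, mul_comm (c z.1), mul_assoc] }

variable (b : G₂ →* (G₁ →* N))

/-- the twisted product -/
abbrev TwG : Type _ := SemidirectProduct (G₁ × N) G₂ (shearHom.comp b)

def mkT (h : G₁) (n : N) (g : G₂) : TwG b := ⟨(h, n), g⟩

theorem mkT_mul (h h' : G₁) (n n' : N) (g g' : G₂) :
    mkT b h n g * mkT b h' n' g' = mkT b (h * h') (n * (n' * b g h')) (g * g') := rfl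

theorem mkT_eta (x : TwG b) : mkT b x.left.1 x.left.2 x.right = x := rfl

theorem mkT_decomp (h : G₁) (n : N) (g : G₂) :
    mkT b h n g = mkT b h 1 1 * mkT b 1 n 1 * mkT b 1 1 g := by
  rw [mkT_mul, mkT_mul]
  simp [map_one]

theorem mkT_comm (g : G₂) (h : G₁) :
    ⁅mkT b 1 1 g, mkT b h 1 1⁆ = mkT b 1 (b g h) 1 := by
  have key : mkT b 1 1 g * mkT b h 1 1 =
      mkT b 1 (b g h) 1 * (mkT b h 1 1 * mkT b 1 1 g) := by
    rw [mkT_mul, mkT_mul, mkT_mul]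
    simp [map_one]
  rw [commutatorElement_def]
  have h1 : mkT b 1 1 g * mkT b h 1 1 * (mkT b 1 1 g)⁻¹ * (mkT b h 1 1)⁻¹ =
      (mkT b 1 1 g * mkT b h 1 1) * (mkT b h 1 1 * mkT b 1 1 g)⁻¹ := by group
  rw [h1, key, mul_inv_cancel_right]

theorem mkT_central (a : G₁) (m : N) (c : G₂) (ha : a ∈ Subgroup.center G₁)
    (hc : c ∈ Subgroup.center G₂) (hb1 : ∀ g, b g a = 1) (hb2 : ∀ h, b c h = 1) :
    mkT b a m c ∈ Subgroup.center (TwG b) := by
  rw [Subgroup.mem_center_iff]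
  intro x
  obtain ⟨⟨h, n⟩, g⟩ := x
  show mkT b h n g * mkT b a m c = mkT b a m c * mkT b h n g
  rw [mkT_mul, mkT_mul, hb1 g, hb2 h, mul_one, mul_one, Subgroup.mem_center_iff.mp ha h,
    Subgroup.mem_center_iff.mp hc g, mul_comm n m]

/-- projection to `G₁ × G₂` -/
def twσ : TwG b →* G₁ × G₂ :=
  { toFun := fun x => (x.left.1, x.right)
    map_one' := rfl
    map_mul' := fun x y => rfl }

def twi₁ : G₁ →* TwG b := SemidirectProduct.inl.comp (MonoidHom.inl G₁ N)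
def twiN : N →* TwG b := SemidirectProduct.inl.comp (MonoidHom.inr G₁ N)
def twi₂ : G₂ →* TwG b := SemidirectProduct.inr

theorem twi₁_apply (h : G₁) : twi₁ b h = mkT b h 1 1 := rfl
theorem twiN_apply (n : N) : twiN b n = mkT b 1 n 1 := rfl
theorem twi₂_apply (g : G₂) : twi₂ b g = mkT b 1 1 g := rfl

end Tw

section Concrete
variable {Q₁ : Type u} {Q₂ : Type v} [Group Q₁] [Group Q₂]
variable {Γ₁ : Type u} {Γ₂ : Type v} [Group Γ₁] [Group Γ₂]

def bHom (σ₁ : Γ₁ →* Q₁) (σ₂ : Γ₂ →* Q₂) : Γ₂ →* (Γ₁ →* TN Q₁ Q₂) :=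
  { toFun := fun g =>
      { toFun := fun h => pt (σ₁ h) (σ₂ g)
        map_one' := by
          show pt (σ₁ 1) (σ₂ g) = 1
          rw [map_one, pt_one_left]
        map_mul' := fun h h' => by
          show pt (σ₁ (h * h')) (σ₂ g) = pt (σ₁ h) (σ₂ g) * pt (σ₁ h') (σ₂ g)
          rw [map_mul, pt_mul_left] }
    map_one' := MonoidHom.ext fun h => by
      show pt (σ₁ h) (σ₂ 1) = 1
      rw [map_one, pt_one_right]
    map_mul' := fun g g' => MonoidHom.ext fun h => by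
      show pt (σ₁ h) (σ₂ (g * g')) = pt (σ₁ h) (σ₂ g) * pt (σ₁ h) (σ₂ g')
      rw [map_mul, pt_mul_right] }

theorem bHom_apply (σ₁ : Γ₁ →* Q₁) (σ₂ : Γ₂ →* Q₂) (g : Γ₂) (h : Γ₁) :
    bHom σ₁ σ₂ g h = pt (σ₁ h) (σ₂ g) := rfl

theorem clause1 [Finite Q₁] [Finite Q₂]
    {A B : Type w} [CommGroup A] [CommGroup B] (hA : Cfsg.HasSchurMultiplier Q₁ A)
    (hB : Cfsg.HasSchurMultiplier Q₂ B) :
    ∃ (Γ : Type (max u v)) (_ : Group Γ) (_ : Finite Γ) (σ : Γ →* Q₁ × Q₂),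
      Cfsg.IsStemExtension σ ∧ Nonempty (σ.ker ≃* A × B × TN Q₁ Q₂) := by
  obtain ⟨⟨Γ₁, hg₁, hf₁, σ₁, hσ₁, ⟨e₁⟩⟩, -⟩ := hA
  obtain ⟨⟨Γ₂, hg₂, hf₂, σ₂, hσ₂, ⟨e₂⟩⟩, -⟩ := hB
  haveI := finite_TN Q₁ Q₂
  obtain ⟨σ, hσdef⟩ : ∃ σ : TwG (bHom σ₁ σ₂) →* Q₁ × Q₂,
      σ = (MonoidHom.prodMap σ₁ σ₂).comp (twσ (bHom σ₁ σ₂)) := ⟨_, rfl⟩
  have hσx : ∀ x, σ x = (σ₁ x.left.1, σ₂ x.right) := fun x => by rw [hσdef]; rfl
  have hker : ∀ x : TwG (bHom σ₁ σ₂), x ∈ σ.ker ↔ σ₁ x.left.1 = 1 ∧ σ₂ x.right = 1 := by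
    intro x
    rw [MonoidHom.mem_ker, hσx, Prod.ext_iff]
    exact Iff.rfl
  haveI hfin : Finite (TwG (bHom σ₁ σ₂)) :=
    Finite.of_equiv _ (SemidirectProduct.equivProd (φ := shearHom.comp (bHom σ₁ σ₂))).symm
  have hiN : ∀ m : TN Q₁ Q₂, mkT (bHom σ₁ σ₂) 1 m 1 ∈ commutator (TwG (bHom σ₁ σ₂)) := by
    intro m
    have h1 := TN_induction ((commutator (TwG (bHom σ₁ σ₂))).comap (twiN (bHom σ₁ σ₂)))
      (fun q r => by
        obtain ⟨h, rfl⟩ := hσ₁.1 q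
        obtain ⟨g, rfl⟩ := hσ₂.1 r
        show twiN (bHom σ₁ σ₂) (pt (σ₁ h) (σ₂ g)) ∈ commutator (TwG (bHom σ₁ σ₂))
        rw [twiN_apply, ← bHom_apply, ← mkT_comm]
        exact comm_mem_commutator _ _) m
    exact h1
  refine ⟨TwG (bHom σ₁ σ₂), inferInstance, hfin, σ, ⟨?_, ?_, ?_⟩, ?_⟩
  · rintro ⟨q, r⟩
    obtain ⟨h, rfl⟩ := hσ₁.1 q
    obtain ⟨g, rfl⟩ := hσ₂.1 r
    exact ⟨mkT (bHom σ₁ σ₂) h 1 g, by rw [hσx]; rfl⟩
  · intro x hx
    obtain ⟨h1, h2⟩ := (hker x).mp hx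
    rw [← mkT_eta (bHom σ₁ σ₂) x]
    apply mkT_central
    · exact hσ₁.2.1 (MonoidHom.mem_ker.mpr h1)
    · exact hσ₂.2.1 (MonoidHom.mem_ker.mpr h2)
    · intro g; rw [bHom_apply, h1, pt_one_left]
    · intro h; rw [bHom_apply, h2, pt_one_right]
  · intro x hx
    obtain ⟨h1, h2⟩ := (hker x).mp hx
    rw [← mkT_eta (bHom σ₁ σ₂) x, mkT_decomp]
    refine mul_mem (mul_mem ?_ (hiN _)) ?_
    · rw [← twi₁_apply]
      exact map_commutator_le _ ⟨_, hσ₁.2.2 (MonoidHom.mem_ker.mpr h1), rfl⟩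
    · rw [← twi₂_apply]
      exact map_commutator_le _ ⟨_, hσ₂.2.2 (MonoidHom.mem_ker.mpr h2), rfl⟩
  · let eK : σ.ker ≃* σ₁.ker × σ₂.ker × TN Q₁ Q₂ :=
      { toFun := fun k => (⟨k.1.left.1, MonoidHom.mem_ker.mpr ((hker k.1).mp k.2).1⟩,
          ⟨k.1.right, MonoidHom.mem_ker.mpr ((hker k.1).mp k.2).2⟩, k.1.left.2)
        invFun := fun z => ⟨mkT (bHom σ₁ σ₂) z.1.1 z.2.2 z.2.1.1,
          (hker _).mpr ⟨MonoidHom.mem_ker.mp z.1.2, MonoidHom.mem_ker.mp z.2.1.2⟩⟩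
        left_inv := fun k => Subtype.ext rfl
        right_inv := fun z => rfl
        map_mul' := fun k k' => by
          refine Prod.ext (Subtype.ext rfl) (Prod.ext (Subtype.ext rfl) ?_)
          show (k.1 * k'.1).left.2 = k.1.left.2 * k'.1.left.2
          have h1 : (k.1 * k'.1).left.2 =
              k.1.left.2 * (k'.1.left.2 * bHom σ₁ σ₂ k.1.right k'.1.left.1) := rfl
          rw [h1, bHom_apply, ((hker k.1).mp k.2).2, pt_one_right, mul_one] }
    exact ⟨eK.trans (MulEquiv.prodCongr e₁ (MulEquiv.prodCongr e₂ (MulEquiv.refl _)))⟩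

end Concrete

/-- Let `Q₁` and `Q₂` be finite groups with Schur multipliers `A` and `B`. Then the Schur multiplier of `Q₁ × Q₂` is isomorphic to `A × B × (Q₁ᵃᵇ ⊗ Q₂ᵃᵇ)`, the last factor being the tensor product over the integers of the commutator quotients, written multiplicatively. -/
theorem result {Q₁ : Type u} {Q₂ : Type v} [Group Q₁] [Group Q₂] [Finite Q₁] [Finite Q₂] {A B : Type w} [CommGroup A] [CommGroup B] (hA : Cfsg.HasSchurMultiplier Q₁ A) (hB : Cfsg.HasSchurMultiplier Q₂ B) : Cfsg.HasSchurMultiplier (Q₁ × Q₂) (A × B × Multiplicative (TensorProduct ℤ (Additive (Abelianization Q₁)) (Additive (Abelianization Q₂)))) := by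
  constructor
  · exact clause1 hA hB
  · intro Δ _ _ τ hτ
    exact clause2 hA hB τ hτ

end Cfsg.Agent.S3959
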