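import Mathlib
import Cfsg.Statements.S3960
import Cfsg.Agent.Lib.Helper12.SchurCover

set_option autoImplicit false
set_option linter.style.haveILetI false
universe u
open Cfsg

namespace Cfsg.Agent.S3960

open Cfsg.Agent.Lib.Helper12.Schur

/-- A finite perfect group `Q` has a universal central extension: a finite perfect group `G` in the universe of `Q` and a surjective homomorphism `π : G →* Q` with central kernel such that for every group `X` in that universe and every surjective homomorphism `ξ : X →* Q` with central kernel there is exactly one homomorphism `η : G →* X` with `ξ ∘ η = π`. -/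
theorem result {Q : Type u} [Group Q] [Finite Q] (hQ : Group.IsPerfect Q) : ∃ (G : Type u) (_ : Group G) (_ : Finite G) (π : G →* Q), Group.IsPerfect G ∧ Function.Surjective π ∧ π.ker ≤ Subgroup.center G ∧ ∀ (X : Type u) [Group X] (ξ : X →* Q), Function.Surjective ξ → ξ.ker ≤ Subgroup.center X → ∃! η : G →* X, ξ.comp η = π := by
  obtain ⟨π, hπdef⟩ : ∃ π : FreeGroup Q →* Q, π = FreeGroup.lift id := ⟨_, rfl⟩
  have hπ : Function.Surjective π := fun q => ⟨FreeGroup.of q, by rw [hπdef, FreeGroup.lift_apply_of]; rfl⟩
  have hQp : commutator Q = ⊤ := hQ.commutator_eq_top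
  have hρs := covρ_surjective π hπ
  have hρc := covρ_ker_le_center π
  have hstem := isStemExtension_commutator (covρ π) hρs hρc hQp
  have hperf := commutator_perfect_of_central (covρ π) hρs hρc hQp
  refine ⟨commutator (CovE π), inferInstance, finite_commutator_covE π hπ,
    (covρ π).comp (commutator (CovE π)).subtype, ⟨hperf⟩, hstem.1, hstem.2.1, ?_⟩
  intro X _ ξ hξs hξc
  obtain ⟨φ, hφ⟩ := exists_lift π ξ hξs hξc
  refine ⟨φ.comp (commutator (CovE π)).subtype, ?_, ?_⟩
  · change ξ.comp (φ.comp (commutator (CovE π)).subtype) = _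
    rw [← MonoidHom.comp_assoc, hφ]
  · intro η' hη'
    apply hom_eq_of_perfect hperf
    intro x
    apply hξc
    rw [MonoidHom.mem_ker, map_mul, map_inv]
    have h1 := DFunLike.congr_fun hη' x
    have h2 := DFunLike.congr_fun hφ (x : CovE π)
    simp only [MonoidHom.comp_apply, Subgroup.coe_subtype] at h1 h2
    rw [h1, MonoidHom.comp_apply, Subgroup.coe_subtype, h2, inv_mul_cancel]

end Cfsg.Agent.S3960
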