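import Mathlib
import Cfsg.Statements.S3961
import Cfsg.Agent.Lib.Helper12.SchurBasic
import Cfsg.Agent.Lib.Helper21.StemExt

set_option autoImplicit false
set_option linter.style.haveILetI false
universe u v
open Cfsg
open scoped commutatorElement

namespace Cfsg.Agent.S3961

open Cfsg.Agent.Lib.Helper12.Schur

/-- Let `π : G →* Q` be a surjective homomorphism with central kernel from a finite perfect group `G` (a perfect cover of `Q`). Then `π` is universal, in the sense that every surjective homomorphism `ξ : X →* Q` with central kernel from a group `X` in the universe of `G` admits a homomorphism `η : G →* X` with `ξ ∘ η = π`, if and only if `G` has trivial Schur multiplier. -/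
theorem result {G : Type u} {Q : Type v} [Group G] [Group Q] [Finite G] (hG : Group.IsPerfect G) (π : G →* Q) (hπ : Function.Surjective π) (hker : π.ker ≤ Subgroup.center G) : (∀ (X : Type u) [Group X] (ξ : X →* Q), Function.Surjective ξ → ξ.ker ≤ Subgroup.center X → ∃ η : G →* X, ξ.comp η = π) ↔ Cfsg.HasCyclicSchurMultiplier G 1 := by
  have hGp : commutator G = ⊤ := hG.commutator_eq_top
  constructor
  · intro huniv
    apply Cfsg.Agent.Lib.Helper21.hasCyclicSchurMultiplier_one_of
    intro Θ _ _ θ hθ
    obtain ⟨hθs, hθc, hθd⟩ := hθ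
    have hΘp : commutator Θ = ⊤ := commutator_eq_top_of_surj θ hθs hθd hGp
    have hξc : (π.comp θ).ker ≤ Subgroup.center Θ := ker_comp_le_center θ π hΘp hθc hker
    obtain ⟨η, hη⟩ := huniv Θ (π.comp θ) (hπ.comp hθs) hξc
    have h1 : θ.comp η = MonoidHom.id G := by
      apply hom_eq_of_perfect hGp
      intro x
      apply hker
      rw [MonoidHom.mem_ker, map_mul, map_inv]
      have hx : π (θ (η x)) = π x := DFunLike.congr_fun hη x
      simp only [MonoidHom.id_apply, MonoidHom.comp_apply, hx, inv_mul_cancel]
    have h1' : ∀ g, θ (η g) = g := fun g => DFunLike.congr_fun h1 g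
    have hηs : ∀ y : Θ, y ∈ η.range := by
      intro y
      refine mem_of_forall_comm_mem hΘp η.range (fun a b => ?_) y
      have hz : ∀ x : Θ, (η (θ x))⁻¹ * x ∈ Subgroup.center Θ := fun x =>
        hθc (by rw [MonoidHom.mem_ker, map_mul, map_inv, h1', inv_mul_cancel])
      rw [comm_eq_of_central (hz a) (hz b), ← map_commutatorElement]
      exact ⟨_, rfl⟩
    rw [eq_bot_iff]
    intro x hx
    obtain ⟨g, rfl⟩ := hηs x
    rw [MonoidHom.mem_ker, h1'] at hx
    rw [hx, map_one]
    exact Subgroup.mem_bot.mpr rfl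
  · intro hM X _ ξ hξs hξc
    -- the pullback of `π` and `ξ`
    obtain ⟨P, hPdef⟩ : ∃ P : Subgroup (G × X), P =
        (π.comp (MonoidHom.fst G X)).eqLocus (ξ.comp (MonoidHom.snd G X)) := ⟨_, rfl⟩
    have hP : ∀ p : G × X, p ∈ P ↔ π p.1 = ξ p.2 := fun p => by rw [hPdef]; exact Iff.rfl
    have hψs : Function.Surjective ((MonoidHom.fst G X).comp P.subtype) := by
      intro g
      obtain ⟨x, hx⟩ := hξs (π g)
      exact ⟨⟨(g, x), (hP _).mpr hx.symm⟩, rfl⟩
    have hψk : ((MonoidHom.fst G X).comp P.subtype).ker ≤ Subgroup.center P := by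
      intro p hp
      rw [Subgroup.mem_center_iff]
      intro q
      have hp1 : (p : G × X).1 = 1 := hp
      have hp2 : (p : G × X).2 ∈ Subgroup.center X :=
        hξc (by rw [MonoidHom.mem_ker, ← (hP p).mp p.2, hp1, map_one])
      apply Subtype.ext
      apply Prod.ext
      · simp [hp1]
      · exact Subgroup.mem_center_iff.mp hp2 _
    obtain ⟨s, hs⟩ := exists_section_of_trivial_multiplier hGp hM
      ((MonoidHom.fst G X).comp P.subtype) hψs hψk
    refine ⟨(MonoidHom.snd G X).comp (P.subtype.comp s), ?_⟩
    ext g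
    have h1 : ((s g : P) : G × X).1 = g := DFunLike.congr_fun hs g
    have h2 := (hP (s g : G × X)).mp (s g).2
    simp only [MonoidHom.comp_apply, MonoidHom.coe_snd, Subgroup.coe_subtype]
    rw [← h2, h1]

end Cfsg.Agent.S3961
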