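import Cfsg.Statements.S3962

set_option autoImplicit false
open Cfsg

namespace Cfsg.Agent.S3962

/-- Let `G` be a perfect group and `π : G →* Q` a surjective homomorphism whose kernel is central. Then `π` maps the centre of `G` onto the centre of `Q`. Taking `π` to be the map to `G ⧸ Z(G)` shows that the central quotient of a perfect group has trivial centre. -/
theorem result {G Q : Type*} [Group G] [Group Q] (hG : Group.IsPerfect G) (π : G →* Q) (hπ : Function.Surjective π) (hker : π.ker ≤ Subgroup.center G) : (Subgroup.center G).map π = Subgroup.center Q := by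
  apply le_antisymm
  · rintro _ ⟨z, hz, rfl⟩
    rw [Subgroup.mem_center_iff]
    intro q
    obtain ⟨g, rfl⟩ := hπ q
    rw [← map_mul, ← map_mul, (Subgroup.mem_center_iff.mp hz) g]
  · intro q hq
    obtain ⟨z, rfl⟩ := hπ q
    refine ⟨z, ?_, rfl⟩
    -- the map g ↦ z g z⁻¹ g⁻¹ is a hom into the center
    have hc : ∀ g : G, z * g * z⁻¹ * g⁻¹ ∈ Subgroup.center G := by
      intro g
      apply hker
      rw [MonoidHom.mem_ker]
      have := (Subgroup.mem_center_iff.mp hq) (π g)
      simp only [map_mul, map_inv]
      rw [← this]
      simp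
    -- define hom to center
    let f : G →* Subgroup.center G :=
      { toFun := fun g => ⟨z * g * z⁻¹ * g⁻¹, hc g⟩
        map_one' := by ext; simp
        map_mul' := by
          intro a b
          ext
          simp only [Subgroup.coe_mul]
          have hb := Subgroup.mem_center_iff.mp (hc b)
          calc z * (a * b) * z⁻¹ * (a * b)⁻¹
              = z * a * z⁻¹ * ((z * b * z⁻¹ * b⁻¹) * a⁻¹) := by simp [mul_assoc]
            _ = z * a * z⁻¹ * (a⁻¹ * (z * b * z⁻¹ * b⁻¹)) := by rw [hb a⁻¹]
            _ = z * a * z⁻¹ * a⁻¹ * (z * b * z⁻¹ * b⁻¹) := by simp [mul_assoc] }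
    have hf : ∀ g, f g = 1 := by
      intro g
      have h1 : commutator G ≤ f.ker := by
        rw [commutator_def, Subgroup.commutator_le]
        intro a _ b _
        rw [MonoidHom.mem_ker, commutatorElement_def, map_mul, map_mul, map_mul, map_inv, map_inv,
          mul_comm' (f a) (f b)]
        simp
      rw [hG.commutator_eq_top] at h1
      exact MonoidHom.mem_ker.mp (h1 (Subgroup.mem_top g))
    show z ∈ Subgroup.center G
    rw [Subgroup.mem_center_iff]
    intro g
    have := congrArg Subtype.val (hf g)
    simp only [f, MonoidHom.coe_mk, OneHom.coe_mk, Subgroup.coe_one] at this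
    calc g * z = (z * g * z⁻¹ * g⁻¹)⁻¹ * (z * g) := by simp [mul_assoc]
      _ = z * g := by rw [this]; simp

end Cfsg.Agent.S3962
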