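import Cfsg.Statements.S3964
import Cfsg.Agent.Lib.Helper21.DihedralStem

set_option autoImplicit false
open Cfsg

namespace Cfsg.Agent.S3964

open Cfsg.Agent.Lib.Helper21

/-- For odd `n` the dihedral group of order `2 n` has trivial Schur multiplier. -/
theorem result (n : ℕ) (hn : Odd n) : Cfsg.HasCyclicSchurMultiplier (DihedralGroup n) 1 := by
  have : NeZero n := ⟨hn.pos.ne'⟩
  apply hasCyclicSchurMultiplier_one_of
  intro Γ _ _ σ hσ
  have h := card_ker_dvd_dihedral σ hσ
  rw [rot_inf_centralizer_odd hn, Subgroup.card_bot, Nat.dvd_one] at h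
  exact (Subgroup.card_eq_one).mp h

end Cfsg.Agent.S3964
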