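import Cfsg.Statements.S3966
import Cfsg.Prelude.Def_KGroupFacts
import Mathlib

set_option autoImplicit false
open Cfsg

namespace Cfsg.Agent.S3966

open scoped commutatorElement

/-- reduction `ZMod (2n) → ZMod n` -/
noncomputable def red (n : ℕ) : ZMod (2 * n) →+* ZMod n := ZMod.castHom (dvd_mul_left n 2) (ZMod n)

theorem red_n (n : ℕ) : red n (n : ZMod (2 * n)) = 0 := by
  rw [map_natCast]; exact ZMod.natCast_self n

/-- the covering map on elements -/
noncomputable def covFun (n : ℕ) : QuaternionGroup n → DihedralGroup n
  | QuaternionGroup.a i => DihedralGroup.r (red n i)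
  | QuaternionGroup.xa i => DihedralGroup.sr (red n i)

noncomputable def cov (n : ℕ) : QuaternionGroup n →* DihedralGroup n where
  toFun := covFun n
  map_one' := by
    rw [QuaternionGroup.one_def]
    show DihedralGroup.r (red n 0) = 1
    rw [map_zero]; rfl
  map_mul' := by
    rintro (i | i) (j | j)
    · simp [covFun]
    · simp [covFun]
    · simp [covFun]
    · simp [covFun]

@[simp] theorem cov_apply (n : ℕ) (x : QuaternionGroup n) : cov n x = covFun n x := rfl

theorem cov_surjective (n : ℕ) : Function.Surjective (cov n) := by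
  have hs : Function.Surjective (red n) := ZMod.castHom_surjective _
  rintro (i | i)
  · obtain ⟨j, rfl⟩ := hs i; exact ⟨QuaternionGroup.a j, rfl⟩
  · obtain ⟨j, rfl⟩ := hs i; exact ⟨QuaternionGroup.xa j, rfl⟩

theorem an_mem_ker (n : ℕ) : QuaternionGroup.a (n : ZMod (2 * n)) ∈ (cov n).ker := by
  rw [MonoidHom.mem_ker, cov_apply]
  show DihedralGroup.r (red n _) = 1
  rw [red_n]; rfl

theorem an_ne_one (n : ℕ) [NeZero n] : QuaternionGroup.a (n : ZMod (2 * n)) ≠ 1 := by
  rw [QuaternionGroup.one_def]
  intro h
  injection h with h
  rw [ZMod.natCast_eq_zero_iff] at h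
  have hn : 0 < n := Nat.pos_of_ne_zero (NeZero.ne n)
  have := Nat.le_of_dvd hn h
  omega

theorem card_ker (n : ℕ) [NeZero n] : Nat.card (cov n).ker = 2 := by
  have h1 := Subgroup.card_eq_card_quotient_mul_card_subgroup (cov n).ker
  have h2 : Nat.card (QuaternionGroup n ⧸ (cov n).ker) = 2 * n := by
    rw [Nat.card_congr (QuotientGroup.quotientKerEquivOfSurjective (cov n) (cov_surjective n)).toEquiv,
      DihedralGroup.nat_card]
  have h3 : Nat.card (QuaternionGroup n) = 4 * n := by
    rw [Nat.card_eq_fintype_card, QuaternionGroup.card]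
  rw [h2, h3] at h1
  have hn : 0 < n := Nat.pos_of_ne_zero (NeZero.ne n)
  nlinarith

theorem ker_eq (n : ℕ) [NeZero n] (x : QuaternionGroup n) (hx : x ∈ (cov n).ker) :
    x = 1 ∨ x = QuaternionGroup.a (n : ZMod (2 * n)) := by
  have hsub : ({1, QuaternionGroup.a (n : ZMod (2 * n))} : Set (QuaternionGroup n)) ⊆ ((cov n).ker : Set _) := by
    intro y hy
    rcases hy with rfl | rfl
    · exact Subgroup.one_mem _
    · exact an_mem_ker n
  have hcard : ((cov n).ker : Set (QuaternionGroup n)).ncard ≤ ({1, QuaternionGroup.a (n : ZMod (2 * n))} : Set (QuaternionGroup n)).ncard := by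
    rw [Set.ncard_pair (an_ne_one n).symm, ← Nat.card_coe_set_eq]
    exact (card_ker n).le
  have := Set.eq_of_subset_of_ncard_le hsub hcard
  have hx' : x ∈ ({1, QuaternionGroup.a (n : ZMod (2 * n))} : Set (QuaternionGroup n)) := by
    rw [this]; exact hx
  exact hx'

/-- For even `n ≥ 2` the dicyclic group of order `4 n` is a stem extension of the dihedral group of order `2 n` with kernel of order `2`: there is a surjective homomorphism `QuaternionGroup n →* DihedralGroup n` whose kernel is central, lies in the commutator subgroup and has two elements. Together with the order of the multiplier this exhibits the dicyclic group as a Schur covering group of the dihedral group. -/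
theorem result (n : ℕ) [NeZero n] (hn : Even n) : ∃ σ : QuaternionGroup n →* DihedralGroup n, Cfsg.IsStemExtension σ ∧ Nat.card σ.ker = 2 := by
  refine ⟨cov n, ⟨cov_surjective n, ?_, ?_⟩, card_ker n⟩
  · intro x hx
    rcases ker_eq n x hx with rfl | rfl
    · exact Subgroup.one_mem _
    · rw [Subgroup.mem_center_iff]
      rintro (j | j)
      · simp [add_comm]
      · simp only [QuaternionGroup.xa_mul_a, QuaternionGroup.a_mul_xa]
        congr 1
        have : ((2 * n : ℕ) : ZMod (2 * n)) = 0 := ZMod.natCast_self _
        push_cast at this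
        linear_combination this
  · intro x hx
    rcases ker_eq n x hx with rfl | rfl
    · exact Subgroup.one_mem _
    · obtain ⟨m, hm⟩ := hn
      have hc : ⁅QuaternionGroup.a (m : ZMod (2 * n)), QuaternionGroup.xa (0 : ZMod (2 * n))⁆ = QuaternionGroup.a (n : ZMod (2 * n)) := by
        rw [commutatorElement_def]
        have h2n : (2 : ZMod (2 * n)) * (n : ZMod (2 * n)) = 0 := by
          have : ((2 * n : ℕ) : ZMod (2 * n)) = 0 := ZMod.natCast_self _
          push_cast at this
          exact this
        have hinv : (QuaternionGroup.xa (0 : ZMod (2 * n)))⁻¹ = QuaternionGroup.xa (n : ZMod (2 * n)) := by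
          rw [inv_eq_iff_mul_eq_one, QuaternionGroup.xa_mul_xa, ← QuaternionGroup.a_zero]
          congr 1
          linear_combination h2n
        have hinv2 : (QuaternionGroup.a (m : ZMod (2 * n)))⁻¹ = QuaternionGroup.a (-(m : ZMod (2 * n))) := by
          rw [inv_eq_iff_mul_eq_one, QuaternionGroup.a_mul_a, add_neg_cancel, QuaternionGroup.a_zero]
        rw [hinv, hinv2]
        simp only [QuaternionGroup.a_mul_xa, QuaternionGroup.xa_mul_a, QuaternionGroup.xa_mul_xa]
        congr 1
        have : ((2 * n : ℕ) : ZMod (2 * n)) = 0 := ZMod.natCast_self _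
        push_cast at this
        have hm' : (n : ZMod (2 * n)) = (m : ZMod (2 * n)) + m := by rw [hm]; push_cast; ring
        rw [hm']
        rw [hm'] at this
        linear_combination this
      rw [← hc]
      exact Subgroup.commutator_mem_commutator (Subgroup.mem_top _) (Subgroup.mem_top _)

end Cfsg.Agent.S3966
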