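import Cfsg.Statements.S3965
import Cfsg.Agent.Lib.Helper21.DihedralStem
import Cfsg.Agent.S3966

set_option autoImplicit false
open Cfsg

namespace Cfsg.Agent.S3965

open Cfsg.Agent.Lib.Helper21

/-- For even `n ≥ 2` the dihedral group of order `2 n` has Schur multiplier cyclic of order `2`. -/
theorem result (n : ℕ) [NeZero n] (hn : Even n) : Cfsg.HasCyclicSchurMultiplier (DihedralGroup n) 2 := by
  have hp : Fact (Nat.Prime 2) := ⟨Nat.prime_two⟩
  have hZ : Nat.card (Multiplicative (ZMod 2)) = 2 := by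
    rw [Nat.card_eq_fintype_card]; rfl
  constructor
  · obtain ⟨σ, hσ, hker⟩ := Cfsg.Agent.S3966.result n hn
    exact ⟨QuaternionGroup n, inferInstance, inferInstance, σ, hσ, ⟨mulEquivOfPrimeCardEq hker hZ⟩⟩
  · intro Γ _ _ σ hσ
    have h := card_ker_dvd_dihedral σ hσ
    have hle := card_rot_inf_centralizer_le n
    have hpos : 0 < Nat.card ↥(rot n ⊓ Subgroup.centralizer ({DihedralGroup.sr (0 : ZMod n)} : Set (DihedralGroup n))) :=
      Nat.card_pos
    have hle2 : Nat.card σ.ker ≤ 2 := (Nat.le_of_dvd hpos h).trans hle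
    have hpos2 : 0 < Nat.card σ.ker := Nat.card_pos
    have hcases : Nat.card σ.ker = 1 ∨ Nat.card σ.ker = 2 := by omega
    rcases hcases with h1 | h2
    · refine ⟨1, fun x => ⟨1, ?_⟩⟩
      have hsub : Subsingleton σ.ker := (Nat.card_eq_one_iff_unique.mp h1).1
      exact Subsingleton.elim _ _
    · have e : Multiplicative (ZMod 2) ≃* σ.ker := mulEquivOfPrimeCardEq hZ h2
      exact ⟨e.toMonoidHom, e.surjective⟩

end Cfsg.Agent.S3965
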