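import Mathlib
import Cfsg.Statements.S3967

set_option autoImplicit false
set_option linter.style.haveILetI false
set_option linter.unusedSectionVars false
set_option linter.unusedVariables false
open Cfsg
open scoped commutatorElement

namespace Cfsg.Agent.S3967

/-! ### General small lemmas -/

lemma pow_eq_of_modEq {X : Type*} [Monoid X] {x : X} {m i j : ℕ} (hx : x ^ m = 1)
    (h : i ≡ j [MOD m]) : x ^ i = x ^ j := by
  rw [pow_eq_pow_mod i hx, pow_eq_pow_mod j hx, show i % m = j % m from h]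

lemma geom_aux (q n : ℕ) :
    (q + 1) ^ n = q * (∑ i ∈ Finset.range n, (q + 1) ^ i) + 1 := by
  induction n with
  | zero => simp
  | succ k ih =>
    have h2 : (q + 1) ^ k * (q + 1) = q * (q + 1) ^ k + (q + 1) ^ k := by ring
    rw [Finset.sum_range_succ, pow_succ, h2, Nat.mul_add q]
    linarith

lemma exists_lift_coprime (m' k w0 : ℕ) (hm' : 0 < m') (hk : 0 < k) (hcop : Nat.Coprime m' w0) :
    ∃ w : ℕ, w ≡ w0 [MOD m'] ∧ Nat.Coprime w k := by
  haveI : NeZero (m' * k) := ⟨(Nat.mul_pos hm' hk).ne'⟩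
  haveI : NeZero m' := ⟨hm'.ne'⟩
  have hdvd : m' ∣ m' * k := dvd_mul_right _ _
  obtain ⟨v, hv⟩ := ZMod.unitsMap_surjective hdvd (ZMod.unitOfCoprime w0 hcop.symm)
  refine ⟨(v : ZMod (m' * k)).val, ?_, ?_⟩
  · rw [← ZMod.natCast_eq_natCast_iff]
    have h1 := congrArg (fun x : (ZMod m')ˣ => (x : ZMod m')) hv
    simp only [ZMod.unitsMap_def, Units.coe_map, MonoidHom.coe_coe, ZMod.castHom_apply,
      ZMod.coe_unitOfCoprime] at h1
    rw [← h1, ZMod.natCast_val]
  · exact Nat.Coprime.coprime_dvd_right (dvd_mul_left k m') (ZMod.val_coe_unit_coprime v)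

lemma comm_aux {Z : Type*} [Group Z] (z v : Z) (hzv : Commute z v) (m N e R1 s q' : ℕ) (x y : ℤ)
    (h1 : z ^ m * v ^ R1 = 1) (h2 : z ^ N * v ^ s = 1) (he : (e : ℤ) = m * x + N * y)
    (hq : (q' : ℤ) = R1 * x + s * y) : z ^ e * v ^ q' = 1 := by
  have hz : z ^ e = (z ^ m) ^ x * (z ^ N) ^ y := by
    rw [← zpow_natCast z e, he, zpow_add, zpow_mul, zpow_mul, zpow_natCast, zpow_natCast]
  have hv : v ^ q' = (v ^ R1) ^ x * (v ^ s) ^ y := by
    rw [← zpow_natCast v q', hq, zpow_add, zpow_mul, zpow_mul, zpow_natCast, zpow_natCast]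
  have hBC : Commute ((z ^ N) ^ y) ((v ^ R1) ^ x) :=
    (((hzv.pow_left N).zpow_left y).pow_right R1).zpow_right x
  have hAC : (z ^ m) ^ x * (v ^ R1) ^ x = 1 := by
    rw [← ((hzv.pow_left m).pow_right R1).mul_zpow, h1, one_zpow]
  have hBD : (z ^ N) ^ y * (v ^ s) ^ y = 1 := by
    rw [← ((hzv.pow_left N).pow_right s).mul_zpow, h2, one_zpow]
  calc z ^ e * v ^ q' = (z ^ m) ^ x * ((z ^ N) ^ y * (v ^ R1) ^ x) * (v ^ s) ^ y := by
        rw [hz, hv]; simp only [mul_assoc]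
    _ = (z ^ m) ^ x * ((v ^ R1) ^ x * (z ^ N) ^ y) * (v ^ s) ^ y := by rw [hBC.eq]
    _ = ((z ^ m) ^ x * (v ^ R1) ^ x) * ((z ^ N) ^ y * (v ^ s) ^ y) := by simp only [mul_assoc]
    _ = 1 := by rw [hAC, hBD, one_mul]

lemma zpowers_normal_of_gens {Γ : Type*} [Group Γ] [Finite Γ] (T : Set Γ)
    (hT : Subgroup.closure T = ⊤) (c : Γ)
    (h : ∀ g ∈ T, g * c * g⁻¹ ∈ Subgroup.zpowers c) : (Subgroup.zpowers c).Normal := by
  have key : ∀ g : Γ, ∀ x ∈ Subgroup.zpowers c, g * x * g⁻¹ ∈ Subgroup.zpowers c := by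
    intro g
    have hg : g ∈ Subgroup.closure T := hT ▸ Subgroup.mem_top g
    induction hg using Subgroup.closure_induction with
    | mem g hg =>
      intro x hx
      obtain ⟨i, rfl⟩ := Subgroup.mem_zpowers_iff.mp hx
      rw [← conj_zpow]
      exact Subgroup.zpow_mem _ (h g hg) i
    | one => intro x hx; simpa using hx
    | mul a b _ _ ha hb =>
      intro x hx
      have h1 := ha _ (hb x hx)
      have h2 : a * b * x * (a * b)⁻¹ = a * (b * x * b⁻¹) * a⁻¹ := by group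
      rw [h2]; exact h1
    | inv a _ ha =>
      intro x hx
      have hpow : ∀ k : ℕ, ∀ x ∈ Subgroup.zpowers c,
          a ^ k * x * (a ^ k)⁻¹ ∈ Subgroup.zpowers c := by
        intro k
        induction k with
        | zero => intro x hx; simpa using hx
        | succ k ih =>
          intro x hx
          have h1 := ha _ (ih x hx)
          have h2 : a ^ (k + 1) * x * (a ^ (k + 1))⁻¹ = a * (a ^ k * x * (a ^ k)⁻¹) * a⁻¹ := by
            rw [pow_succ']; group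
          rw [h2]; exact h1
      have hinv : a⁻¹ = a ^ (orderOf a - 1) := by
        apply inv_eq_of_mul_eq_one_right
        rw [← pow_succ', Nat.sub_add_cancel (orderOf_pos a), pow_orderOf_eq_one]
      rw [hinv]; exact hpow _ x hx
  exact ⟨fun x hx g => key g x hx⟩

lemma comm_of_gens {Q : Type*} [Group Q] (S : Set Q) (hS : Subgroup.closure S = ⊤)
    (hc : ∀ x ∈ S, ∀ y ∈ S, Commute x y) : ∀ x y : Q, x * y = y * x := by
  have h1 : ∀ x ∈ S, ∀ g : Q, Commute g x := by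
    intro x hx g
    have hg : g ∈ Subgroup.closure S := hS ▸ Subgroup.mem_top g
    induction hg using Subgroup.closure_induction with
    | mem y hy => exact hc y hy x hx
    | one => exact Commute.one_left x
    | mul a b _ _ ha hb => exact ha.mul_left hb
    | inv a _ ha => exact ha.inv_left
  intro x y
  have hx : x ∈ Subgroup.closure S := hS ▸ Subgroup.mem_top x
  have hxy : Commute x y := by
    induction hx using Subgroup.closure_induction with
    | mem x hx => exact (h1 x hx y).symm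
    | one => exact Commute.one_left y
    | mul a b _ _ ha hb => exact ha.mul_left hb
    | inv a _ ha => exact ha.inv_left
  exact hxy.eq

/-! ### The model `(ZMod M ⋊ ℤ) / ⟨(-t, n)⟩` -/

@[ext] structure MS {M : ℕ} (u : (ZMod M)ˣ) where
  x : ZMod M
  y : ℤ

namespace MS
variable {M : ℕ} {u : (ZMod M)ˣ}

def uz (u : (ZMod M)ˣ) (i : ℤ) : ZMod M := ((u ^ i : (ZMod M)ˣ) : ZMod M)

lemma uz_zero : uz u 0 = 1 := by simp [uz]
lemma uz_add (i j : ℤ) : uz u (i + j) = uz u i * uz u j := by simp [uz, zpow_add]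
lemma uz_one : uz u 1 = (u : ZMod M) := by simp [uz]
lemma uz_neg_mul (i : ℤ) : uz u (-i) * uz u i = 1 := by
  rw [← uz_add, neg_add_cancel, uz_zero]
lemma uz_mul_neg (i : ℤ) : uz u i * uz u (-i) = 1 := by
  rw [← uz_add, add_neg_cancel, uz_zero]

def mul' (p q : MS u) : MS u := ⟨p.x + uz u p.y * q.x, p.y + q.y⟩
def inv' (p : MS u) : MS u := ⟨-(uz u (-p.y) * p.x), -p.y⟩

lemma mul'_assoc (a b c : MS u) : mul' (mul' a b) c = mul' a (mul' b c) := by
  ext
  · simp only [mul', uz_add]; ring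
  · simp only [mul']; ring

instance : Group (MS u) where
  mul := mul'
  one := ⟨0, 0⟩
  inv := inv'
  mul_assoc := mul'_assoc
  one_mul a := by
    show mul' (⟨0, 0⟩ : MS u) a = a
    ext <;> simp [mul', uz_zero]
  mul_one a := by
    show mul' a (⟨0, 0⟩ : MS u) = a
    ext <;> simp [mul']
  inv_mul_cancel a := by
    show mul' (inv' a) a = (⟨0, 0⟩ : MS u)
    ext <;> simp [mul', inv']

@[simp] lemma mul_x (p q : MS u) : (p * q).x = p.x + uz u p.y * q.x := rfl
@[simp] lemma mul_y (p q : MS u) : (p * q).y = p.y + q.y := rfl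
@[simp] lemma one_x : (1 : MS u).x = 0 := rfl
@[simp] lemma one_y : (1 : MS u).y = 0 := rfl
@[simp] lemma inv_x (p : MS u) : (p⁻¹).x = -(uz u (-p.y) * p.x) := rfl
@[simp] lemma inv_y (p : MS u) : (p⁻¹).y = -p.y := rfl

def av (u : (ZMod M)ˣ) (x : ZMod M) : MS u := ⟨x, 0⟩
def bv (u : (ZMod M)ˣ) (y : ℤ) : MS u := ⟨0, y⟩

lemma av_mul (x x' : ZMod M) : av u x * av u x' = av u (x + x') := by
  ext <;> simp [av, uz_zero]
lemma bv_mul (y y' : ℤ) : bv u y * bv u y' = bv u (y + y') := by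
  ext <;> simp [bv]
lemma av_bv (x : ZMod M) (y : ℤ) : av u x * bv u y = ⟨x, y⟩ := by
  ext <;> simp [av, bv]
lemma bv_av (x : ZMod M) (y : ℤ) : bv u y * av u x = av u (uz u y * x) * bv u y := by
  ext <;> simp [av, bv]
lemma av_zero : av u 0 = 1 := rfl
lemma bv_zero : bv u 0 = 1 := rfl
lemma av_pow (x : ZMod M) (k : ℕ) : av u x ^ k = av u (k * x) := by
  induction k with
  | zero => simp [av_zero]
  | succ k ih =>
    rw [pow_succ, ih, av_mul]
    congr 1
    push_cast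
    ring
lemma bv_pow (y : ℤ) (k : ℕ) : bv u y ^ k = bv u (k * y) := by
  induction k with
  | zero => simp [bv_zero]
  | succ k ih =>
    rw [pow_succ, ih, bv_mul]
    congr 1
    push_cast
    ring
lemma bv_inv (y : ℤ) : (bv u y)⁻¹ = bv u (-y) := by
  ext <;> simp [bv]
lemma bv_zpow (j : ℤ) : bv u 1 ^ j = bv u j := by
  cases j with
  | ofNat k => rw [Int.ofNat_eq_natCast, zpow_natCast, bv_pow, mul_one]
  | negSucc k =>
    rw [zpow_negSucc, bv_pow, bv_inv, Int.negSucc_eq]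
    congr 1
    push_cast
    ring

section Central
variable (n : ℕ) (t : ZMod M)

lemma uz_mul_t (ht : (u : ZMod M) * t = t) (i : ℤ) : uz u i * t = t := by
  have hinv : uz u (-1) * t = t := by
    calc uz u (-1) * t = uz u (-1) * (uz u 1 * t) := by rw [uz_one, ht]
      _ = t := by rw [← mul_assoc, uz_neg_mul, one_mul]
  refine Int.induction_on i ?_ ?_ ?_
  · rw [uz_zero, one_mul]
  · intro k ih
    rw [uz_add, mul_assoc, uz_one, ht, ih]
  · intro k ih
    rw [sub_eq_add_neg, uz_add, mul_assoc, hinv, ih]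

def wv (u : (ZMod M)ˣ) (n : ℕ) (t : ZMod M) (i : ℤ) : MS u := ⟨-((i : ZMod M) * t), n * i⟩

lemma wv_mul (ht : (u : ZMod M) * t = t) (i j : ℤ) :
    wv u n t i * wv u n t j = wv u n t (i + j) := by
  ext
  · simp only [wv, mul_x]
    have h : uz u (n * i) * ((j : ZMod M) * t) = (j : ZMod M) * t := by
      rw [mul_left_comm, uz_mul_t t ht]
    rw [mul_neg, h]
    push_cast
    ring
  · simp only [wv, mul_y]; ring

lemma wv_zero : wv u n t 0 = 1 := by
  ext <;> simp [wv]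

lemma wv_zpow (ht : (u : ZMod M) * t = t) (i : ℤ) : wv u n t 1 ^ i = wv u n t i := by
  have hinv : (wv u n t 1)⁻¹ = wv u n t (-1) := by
    apply inv_eq_of_mul_eq_one_right
    rw [wv_mul n t ht, add_neg_cancel, wv_zero]
  refine Int.induction_on i ?_ ?_ ?_
  · rw [zpow_zero, wv_zero]
  · intro k ih
    rw [zpow_add_one, ih, wv_mul n t ht]
  · intro k ih
    rw [sub_eq_add_neg, zpow_add, ih, zpow_neg_one, hinv, wv_mul n t ht]

lemma wv_comm (hu : u ^ n = 1) (ht : (u : ZMod M) * t = t) (i : ℤ) (p : MS u) :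
    wv u n t i * p = p * wv u n t i := by
  ext
  · simp only [wv, mul_x]
    have h1 : uz u (n * i) = 1 := by
      unfold uz
      rw [zpow_mul, zpow_natCast, hu, one_zpow, Units.val_one]
    have h2 : uz u p.y * ((i : ZMod M) * t) = (i : ZMod M) * t := by
      rw [mul_left_comm, uz_mul_t t ht]
    rw [h1, one_mul, mul_neg, h2]
    ring
  · simp only [wv, mul_y]; ring

def Zs (u : (ZMod M)ˣ) (n : ℕ) (t : ZMod M) : Subgroup (MS u) := Subgroup.zpowers (wv u n t 1)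

lemma Zs_normal (hu : u ^ n = 1) (ht : (u : ZMod M) * t = t) : (Zs u n t).Normal := by
  constructor
  intro p hp g
  obtain ⟨i, rfl⟩ := Subgroup.mem_zpowers_iff.mp hp
  rw [wv_zpow n t ht, ← wv_comm n t hu ht, mul_inv_cancel_right, ← wv_zpow n t ht]
  exact Subgroup.zpow_mem_zpowers _ _

end Central

section Hom
variable {G' : Type*} [Group G'] (a b : G')

def pw (a : G') (x : ZMod M) : G' := a ^ x.val

lemma pw_add [NeZero M] (ha : a ^ M = 1) (x y : ZMod M) : pw a (x + y) = pw a x * pw a y := by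
  unfold pw
  rw [ZMod.val_add, ← pow_eq_pow_mod _ ha, pow_add]

lemma pw_zero : pw a (0 : ZMod M) = 1 := by
  unfold pw
  rw [ZMod.val_zero, pow_zero]

lemma pw_mul [NeZero M] (ha : a ^ M = 1) (c x : ZMod M) :
    pw a (c * x) = (a ^ c.val) ^ x.val := by
  unfold pw
  rw [ZMod.val_mul, ← pow_eq_pow_mod _ ha, pow_mul]

lemma pw_natCast [NeZero M] (ha : a ^ M = 1) (k : ℕ) : pw a (k : ZMod M) = a ^ k := by
  unfold pw
  rw [ZMod.val_natCast, ← pow_eq_pow_mod _ ha]

lemma conj_pw [NeZero M] (ha : a ^ M = 1) (hab : b * a * b⁻¹ = a ^ (u : ZMod M).val)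
    (x : ZMod M) : b * pw a x * b⁻¹ = pw a ((u : ZMod M) * x) := by
  rw [pw_mul a ha, ← hab, conj_pow]
  rfl

lemma conj_zpow_pw [NeZero M] (ha : a ^ M = 1) (hab : b * a * b⁻¹ = a ^ (u : ZMod M).val)
    (i : ℤ) : ∀ x : ZMod M, b ^ i * pw a x = pw a (uz u i * x) * b ^ i := by
  have hb1 : ∀ x : ZMod M, b * pw a x = pw a ((u : ZMod M) * x) * b := fun x => by
    rw [← conj_pw a b ha hab x, inv_mul_cancel_right]
  have hb2 : ∀ x : ZMod M, b⁻¹ * pw a x = pw a (uz u (-1) * x) * b⁻¹ := fun x => by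
    have h := hb1 (uz u (-1) * x)
    have hx : (u : ZMod M) * (uz u (-1) * x) = x := by
      rw [← mul_assoc, ← uz_one (u := u), uz_mul_neg, one_mul]
    rw [hx] at h
    rw [eq_mul_inv_iff_mul_eq, mul_assoc, ← h, inv_mul_cancel_left]
  refine Int.induction_on i ?_ ?_ ?_
  · intro x
    rw [zpow_zero, one_mul, mul_one, uz_zero, one_mul]
  · intro k ih x
    have hx : uz u ((k : ℤ) + 1) * x = uz u k * ((u : ZMod M) * x) := by
      rw [uz_add, uz_one, mul_assoc]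
    calc b ^ ((k : ℤ) + 1) * pw a x = b ^ (k : ℤ) * (b * pw a x) := by
          rw [zpow_add_one, mul_assoc]
      _ = b ^ (k : ℤ) * pw a ((u : ZMod M) * x) * b := by rw [hb1, mul_assoc]
      _ = pw a (uz u k * ((u : ZMod M) * x)) * b ^ (k : ℤ) * b := by rw [ih]
      _ = pw a (uz u ((k : ℤ) + 1) * x) * b ^ ((k : ℤ) + 1) := by
          rw [hx, zpow_add_one, mul_assoc]
  · intro k ih x
    have hx : uz u (-(k : ℤ) - 1) * x = uz u (-(k : ℤ)) * (uz u (-1) * x) := by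
      rw [sub_eq_add_neg, uz_add, mul_assoc]
    calc b ^ (-(k : ℤ) - 1) * pw a x = b ^ (-(k : ℤ)) * (b⁻¹ * pw a x) := by
          rw [zpow_sub_one, mul_assoc]
      _ = b ^ (-(k : ℤ)) * pw a (uz u (-1) * x) * b⁻¹ := by rw [hb2, mul_assoc]
      _ = pw a (uz u (-(k : ℤ)) * (uz u (-1) * x)) * b ^ (-(k : ℤ)) * b⁻¹ := by rw [ih]
      _ = pw a (uz u (-(k : ℤ) - 1) * x) * b ^ (-(k : ℤ) - 1) := by
          rw [hx, zpow_sub_one, mul_assoc]

def toHom [NeZero M] (ha : a ^ M = 1) (hab : b * a * b⁻¹ = a ^ (u : ZMod M).val) :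
    MS u →* G' where
  toFun p := pw a p.x * b ^ p.y
  map_one' := by
    show pw a (0 : ZMod M) * b ^ (0 : ℤ) = 1
    rw [pw_zero, zpow_zero, one_mul]
  map_mul' p q := by
    show pw a (p.x + uz u p.y * q.x) * b ^ (p.y + q.y) = pw a p.x * b ^ p.y * (pw a q.x * b ^ q.y)
    rw [pw_add a ha, zpow_add]
    have h := conj_zpow_pw (u := u) a b ha hab p.y q.x
    calc pw a p.x * pw a (uz u p.y * q.x) * (b ^ p.y * b ^ q.y)
        = pw a p.x * (pw a (uz u p.y * q.x) * b ^ p.y) * b ^ q.y := by simp only [mul_assoc]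
      _ = pw a p.x * (b ^ p.y * pw a q.x) * b ^ q.y := by rw [h]
      _ = pw a p.x * b ^ p.y * (pw a q.x * b ^ q.y) := by simp only [mul_assoc]

lemma toHom_apply [NeZero M] (ha : a ^ M = 1) (hab : b * a * b⁻¹ = a ^ (u : ZMod M).val)
    (p : MS u) : toHom a b ha hab p = pw a p.x * b ^ p.y := rfl

lemma toHom_wv [NeZero M] (n : ℕ) (t : ZMod M) (ha : a ^ M = 1)
    (hab : b * a * b⁻¹ = a ^ (u : ZMod M).val) (hb : b ^ n = pw a t) :
    toHom a b ha hab (wv u n t 1) = 1 := by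
  rw [toHom_apply]
  show pw a (-(((1 : ℤ) : ZMod M) * t)) * b ^ ((n : ℤ) * 1) = 1
  rw [Int.cast_one, one_mul, mul_one, zpow_natCast, hb, ← pw_add a ha, neg_add_cancel, pw_zero]

end Hom

end MS

open MS in
theorem exists_model (M n ρ t : ℕ) (hM : 0 < M) (hn : 0 < n) (hρ : ρ ^ n ≡ 1 [MOD M])
    (ht : ρ * t ≡ t [MOD M]) :
    ∃ (Γ : Type) (_ : Group Γ) (_ : Finite Γ) (α β : Γ),
      α ^ M = 1 ∧ β * α * β⁻¹ = α ^ ρ ∧ β ^ n = α ^ t ∧ (∀ i : ℕ, α ^ i = 1 → M ∣ i) ∧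
      (∀ γ : Γ, ∃ (i : ℕ) (j : ℤ), γ = α ^ i * β ^ j) ∧
      (∀ (G' : Type) [Group G'] (a b : G'), a ^ M = 1 → b * a * b⁻¹ = a ^ ρ → b ^ n = a ^ t →
        ∃ f : Γ →* G', f α = a ∧ f β = b) := by
  haveI : NeZero M := ⟨hM.ne'⟩
  have hcop : Nat.Coprime ρ M := by
    apply Nat.coprime_of_mul_modEq_one (ρ ^ (n - 1))
    rw [← pow_succ', Nat.sub_add_cancel hn]
    exact hρ
  obtain ⟨u, hu_val⟩ : ∃ u : (ZMod M)ˣ, (u : ZMod M) = (ρ : ZMod M) :=
    ⟨ZMod.unitOfCoprime ρ hcop, ZMod.coe_unitOfCoprime ρ hcop⟩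
  have hun : u ^ n = 1 := by
    apply Units.ext
    rw [Units.val_pow_eq_pow_val, hu_val, Units.val_one, ← Nat.cast_pow,
      ← Nat.cast_one (R := ZMod M)]
    exact (ZMod.natCast_eq_natCast_iff _ _ _).mpr hρ
  obtain ⟨tz, htzdef⟩ : ∃ tz : ZMod M, tz = (t : ZMod M) := ⟨_, rfl⟩
  have htz : (u : ZMod M) * tz = tz := by
    rw [hu_val, htzdef, ← Nat.cast_mul]
    exact (ZMod.natCast_eq_natCast_iff _ _ _).mpr ht
  haveI hN : (Zs u n tz).Normal := Zs_normal n tz hun htz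
  -- relations in MS u
  have hrelM : av u 1 ^ M = 1 := by
    rw [av_pow, mul_one, ZMod.natCast_self, av_zero]
  have hrelc : bv u 1 * av u 1 * (bv u 1)⁻¹ = av u 1 ^ ρ := by
    rw [bv_av, mul_inv_cancel_right, av_pow, mul_one, mul_one, uz_one, hu_val]
  have hreln : bv u 1 ^ n = av u 1 ^ t * wv u n tz 1 := by
    rw [bv_pow, av_pow, mul_one, mul_one, ← htzdef]
    ext
    · simp [bv, av, wv, uz_zero]
    · simp [bv, av, wv]
  have hwmem : wv u n tz 1 ∈ Zs u n tz := Subgroup.mem_zpowers _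
  refine ⟨MS u ⧸ Zs u n tz, inferInstance, ?_, QuotientGroup.mk (av u 1),
    QuotientGroup.mk (bv u 1), ?_, ?_, ?_, ?_, ?_, ?_⟩
  · -- finite
    have hsurj : Function.Surjective (fun xy : ZMod M × Fin n =>
        (QuotientGroup.mk (⟨xy.1, ((xy.2 : ℕ) : ℤ)⟩ : MS u) : MS u ⧸ Zs u n tz)) := by
      intro γ
      obtain ⟨p, rfl⟩ := QuotientGroup.mk_surjective γ
      have hpos : (0 : ℤ) < n := by exact_mod_cast hn
      have h1 : 0 ≤ p.y % n := Int.emod_nonneg _ hpos.ne'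
      have h2 : p.y % n < n := Int.emod_lt_of_pos _ hpos
      have h2' : (p.y % n).toNat < n := by omega
      refine ⟨(p.x + ((p.y / n : ℤ) : ZMod M) * tz, ⟨(p.y % n).toNat, h2'⟩), ?_⟩
      show (QuotientGroup.mk (⟨p.x + ((p.y / n : ℤ) : ZMod M) * tz,
        (((p.y % n).toNat : ℕ) : ℤ)⟩ : MS u) : MS u ⧸ Zs u n tz) = QuotientGroup.mk p
      rw [QuotientGroup.eq]
      have h3 : p = (⟨p.x + ((p.y / n : ℤ) : ZMod M) * tz, (((p.y % n).toNat : ℕ) : ℤ)⟩ : MS u)
          * wv u n tz (p.y / n) := by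
        ext
        · simp only [mul_x, wv]
          rw [mul_neg, mul_left_comm, uz_mul_t tz htz]
          ring
        · simp only [mul_y, wv]
          rw [Int.toNat_of_nonneg h1]
          exact (Int.emod_add_mul_ediv p.y n).symm
      have h4 : (⟨p.x + ((p.y / n : ℤ) : ZMod M) * tz, (((p.y % n).toNat : ℕ) : ℤ)⟩ : MS u)⁻¹ * p
          = wv u n tz (p.y / n) := by
        rw [inv_mul_eq_iff_eq_mul]; exact h3
      rw [h4, ← wv_zpow n tz htz]
      exact Subgroup.zpow_mem_zpowers _ _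
    exact Finite.of_surjective _ hsurj
  · rw [← QuotientGroup.mk_pow, hrelM]; rfl
  · rw [← QuotientGroup.mk_inv, ← QuotientGroup.mk_mul, ← QuotientGroup.mk_mul, hrelc,
      QuotientGroup.mk_pow]
  · rw [← QuotientGroup.mk_pow, ← QuotientGroup.mk_pow, hreln, QuotientGroup.mk_mul,
      (QuotientGroup.eq_one_iff _).mpr hwmem, mul_one]
  · intro i hi
    have h1 : (QuotientGroup.mk (av u 1) : MS u ⧸ Zs u n tz) ^ i
        = QuotientGroup.mk (av u (i : ZMod M)) := by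
      rw [← QuotientGroup.mk_pow, av_pow, mul_one]
    rw [h1, QuotientGroup.eq_one_iff] at hi
    obtain ⟨j, hj⟩ := Subgroup.mem_zpowers_iff.mp hi
    rw [wv_zpow n tz htz] at hj
    have hy : (n : ℤ) * j = 0 := congrArg MS.y hj
    have hj0 : j = 0 := by
      rcases mul_eq_zero.mp hy with h | h
      · exact absurd (by exact_mod_cast h) hn.ne'
      · exact h
    have hx : -((j : ZMod M) * tz) = (i : ZMod M) := congrArg MS.x hj
    rw [hj0, Int.cast_zero, zero_mul, neg_zero] at hx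
    exact (ZMod.natCast_eq_zero_iff i M).mp hx.symm
  · intro γ
    obtain ⟨p, rfl⟩ := QuotientGroup.mk_surjective γ
    refine ⟨p.x.val, p.y, ?_⟩
    have h1 : p = av u 1 ^ p.x.val * bv u 1 ^ p.y := by
      rw [av_pow, bv_zpow, mul_one, ZMod.natCast_zmod_val, av_bv]
    rw [show (QuotientGroup.mk p : MS u ⧸ Zs u n tz)
        = QuotientGroup.mk (av u 1 ^ p.x.val * bv u 1 ^ p.y) from congrArg _ h1,
      QuotientGroup.mk_mul, QuotientGroup.mk_pow, QuotientGroup.mk_zpow]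
  · intro G' _ a b ha hab hb
    have hab' : b * a * b⁻¹ = a ^ (u : ZMod M).val := by
      rw [hab, hu_val, ZMod.val_natCast]
      exact pow_eq_pow_mod ρ ha
    have hb' : b ^ n = pw a tz := by
      rw [hb, htzdef]
      show a ^ t = a ^ ((t : ZMod M).val)
      rw [ZMod.val_natCast]
      exact pow_eq_pow_mod t ha
    have hF : Zs u n tz ≤ (toHom a b ha hab').ker := by
      unfold Zs
      rw [Subgroup.zpowers_le, MonoidHom.mem_ker]
      exact toHom_wv a b n tz ha hab' hb'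
    refine ⟨QuotientGroup.lift (Zs u n tz) (toHom a b ha hab') hF, ?_, ?_⟩
    · show toHom a b ha hab' (av u 1) = a
      rw [toHom_apply]
      show pw a (1 : ZMod M) * b ^ (0 : ℤ) = a
      rw [zpow_zero, mul_one, ← Nat.cast_one, pw_natCast a ha, pow_one]
    · show toHom a b ha hab' (bv u 1) = b
      rw [toHom_apply]
      show pw a (0 : ZMod M) * b ^ (1 : ℤ) = b
      rw [pw_zero, one_mul, zpow_one]

/-! ### The presented group -/

abbrev MG (m n t r : ℕ) : Type :=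
  PresentedGroup ({FreeGroup.of true ^ m,
    (FreeGroup.of false) ^ n * (FreeGroup.of true ^ t)⁻¹,
    FreeGroup.of false * FreeGroup.of true * (FreeGroup.of false)⁻¹ *
      (FreeGroup.of true ^ r)⁻¹} : Set (FreeGroup Bool))

lemma MG_rel1 (m n t r : ℕ) : (PresentedGroup.of true : MG m n t r) ^ m = 1 := by
  have h : PresentedGroup.mk _ (FreeGroup.of true ^ m) = (1 : MG m n t r) :=
    PresentedGroup.one_of_mem (Set.mem_insert _ _)
  rw [map_pow] at h
  exact h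

lemma MG_rel2 (m n t r : ℕ) :
    (PresentedGroup.of false : MG m n t r) ^ n = (PresentedGroup.of true : MG m n t r) ^ t := by
  have h : PresentedGroup.mk _ ((FreeGroup.of false) ^ n * (FreeGroup.of true ^ t)⁻¹)
      = (1 : MG m n t r) :=
    PresentedGroup.one_of_mem (Set.mem_insert_of_mem _ (Set.mem_insert _ _))
  simp only [map_mul, map_inv, map_pow] at h
  exact mul_inv_eq_one.mp h

lemma MG_rel3 (m n t r : ℕ) :
    (PresentedGroup.of false : MG m n t r) * PresentedGroup.of true *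
      (PresentedGroup.of false)⁻¹ = (PresentedGroup.of true : MG m n t r) ^ r := by
  have h : PresentedGroup.mk _ (FreeGroup.of false * FreeGroup.of true * (FreeGroup.of false)⁻¹ *
      (FreeGroup.of true ^ r)⁻¹) = (1 : MG m n t r) :=
    PresentedGroup.one_of_mem
      (Set.mem_insert_of_mem _ (Set.mem_insert_of_mem _ (Set.mem_singleton _)))
  simp only [map_mul, map_inv, map_pow] at h
  exact mul_inv_eq_one.mp h

lemma MG_closure (m n t r : ℕ) :
    Subgroup.closure ({PresentedGroup.of true, PresentedGroup.of false} : Set (MG m n t r)) = ⊤ := by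
  rw [eq_top_iff]
  intro x _
  refine PresentedGroup.generated_by _ _ (fun j => ?_) x
  cases j
  · exact Subgroup.subset_closure (Or.inr rfl)
  · exact Subgroup.subset_closure (Or.inl rfl)

lemma MG_exists_hom {X : Type*} [Group X] (A B : X) (m n t r : ℕ) (hA : A ^ m = 1)
    (hB : B ^ n = A ^ t) (hAB : B * A * B⁻¹ = A ^ r) :
    ∃ f : MG m n t r →* X, f (PresentedGroup.of true) = A ∧ f (PresentedGroup.of false) = B := by
  have hrel : ∀ x ∈ ({FreeGroup.of true ^ m,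
      (FreeGroup.of false) ^ n * (FreeGroup.of true ^ t)⁻¹,
      FreeGroup.of false * FreeGroup.of true * (FreeGroup.of false)⁻¹ *
        (FreeGroup.of true ^ r)⁻¹} : Set (FreeGroup Bool)),
      FreeGroup.lift (fun c : Bool => cond c A B) x = 1 := by
    rintro x (rfl | rfl | rfl)
    · simp only [map_pow, FreeGroup.lift_apply_of]
      exact hA
    · simp only [map_mul, map_inv, map_pow, FreeGroup.lift_apply_of]
      show B ^ n * (A ^ t)⁻¹ = 1
      rw [hB, mul_inv_cancel]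
    · simp only [map_mul, map_inv, map_pow, FreeGroup.lift_apply_of]
      show B * A * B⁻¹ * (A ^ r)⁻¹ = 1
      rw [hAB, mul_inv_cancel]
  exact ⟨PresentedGroup.toGroup hrel, PresentedGroup.toGroup.of hrel, PresentedGroup.toGroup.of hrel⟩

/-! ### The upper bound -/

theorem upper {Γ G : Type*} [Group Γ] [Finite Γ] [Group G] (σ : Γ →* G)
    (hcen : σ.ker ≤ Subgroup.center Γ) (hcom : σ.ker ≤ commutator Γ)
    (a b : G) (hG : Subgroup.closure ({a, b} : Set G) = ⊤)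
    (α0 β0 : Γ) (hα : σ α0 = a) (hβ : σ β0 = b)
    (m n q l d m' w0 N s h' : ℕ) (hm : 0 < m)
    (ha : a ^ m = 1) (hab : b * a * b⁻¹ = a ^ (q + 1)) (hb : b ^ n = a ^ (m' * l))
    (haord : ∀ i : ℤ, a ^ i = 1 → (m : ℤ) ∣ i)
    (hd : 0 < d) (hmd : m = d * m') (hrw : q = d * w0) (hcop : Nat.Coprime m' w0)
    (hgeom : (q + 1) ^ n = q * N + 1) (hN : N = ∑ i ∈ Finset.range n, (q + 1) ^ i)
    (hs : q * N = m * s) (he : Nat.gcd m N = m' * h') :
    ∃ κ : Γ, κ ∈ σ.ker ∧ σ.ker ≤ Subgroup.zpowers κ ∧ κ ^ l = 1 ∧ κ ^ h' = 1 := by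
  classical
  have hKc : ∀ κ ∈ σ.ker, ∀ g : Γ, Commute κ g := fun κ hκ g =>
    ((Subgroup.mem_center_iff.mp (hcen hκ)) g).symm
  -- z1
  obtain ⟨z1, hz1def⟩ : ∃ z1, z1 = β0 * α0 * β0⁻¹ * (α0 ^ (q + 1))⁻¹ := ⟨_, rfl⟩
  have hz1K : z1 ∈ σ.ker := by
    rw [MonoidHom.mem_ker, hz1def]
    simp only [map_mul, map_inv, map_pow, hα, hβ]
    rw [hab, mul_inv_cancel]
  have hz1 : ∀ g : Γ, Commute z1 g := hKc z1 hz1K
  have hconj : β0 * α0 * β0⁻¹ = z1 * α0 ^ (q + 1) := by rw [hz1def, inv_mul_cancel_right]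
  have L1 : ∀ i : ℕ, β0 * α0 ^ i * β0⁻¹ = z1 ^ i * α0 ^ ((q + 1) * i) := by
    intro i
    rw [← conj_pow, hconj, (hz1 (α0 ^ (q + 1))).mul_pow, ← pow_mul]
  -- uu
  obtain ⟨uu, huu⟩ : ∃ uu, uu = α0 ^ m := ⟨_, rfl⟩
  have huuK : uu ∈ σ.ker := by rw [MonoidHom.mem_ker, huu, map_pow, hα, ha]
  have huuc : ∀ g : Γ, Commute uu g := hKc uu huuK
  have E1 : z1 ^ m * uu ^ q = 1 := by
    have h1 := L1 m
    rw [← huu, mul_comm (q + 1) m, pow_mul, ← huu] at h1
    have h2 : β0 * uu * β0⁻¹ = uu := by rw [← (huuc β0).eq, mul_inv_cancel_right]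
    rw [h2, pow_succ, ← mul_assoc] at h1
    have h4 : 1 * uu = z1 ^ m * uu ^ q * uu := by rw [one_mul]; exact h1
    exact (mul_right_cancel h4).symm
  have L2 : ∀ j : ℕ, β0 ^ j * α0 * (β0 ^ j)⁻¹
      = z1 ^ (∑ i ∈ Finset.range j, (q + 1) ^ i) * α0 ^ ((q + 1) ^ j) := by
    intro j
    induction j with
    | zero => simp
    | succ j ih =>
      have h1 : β0 ^ (j + 1) * α0 * (β0 ^ (j + 1))⁻¹
          = β0 * (β0 ^ j * α0 * (β0 ^ j)⁻¹) * β0⁻¹ := by
        rw [pow_succ']; group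
      have hc := ((hz1 β0).pow_left (∑ i ∈ Finset.range j, (q + 1) ^ i))
      have h2 : β0 * (z1 ^ (∑ i ∈ Finset.range j, (q + 1) ^ i) * α0 ^ ((q + 1) ^ j)) * β0⁻¹
          = z1 ^ (∑ i ∈ Finset.range j, (q + 1) ^ i) * (β0 * α0 ^ ((q + 1) ^ j) * β0⁻¹) := by
        calc β0 * (z1 ^ (∑ i ∈ Finset.range j, (q + 1) ^ i) * α0 ^ ((q + 1) ^ j)) * β0⁻¹
            = (β0 * z1 ^ (∑ i ∈ Finset.range j, (q + 1) ^ i)) * α0 ^ ((q + 1) ^ j) * β0⁻¹ := by
              simp only [mul_assoc]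
          _ = (z1 ^ (∑ i ∈ Finset.range j, (q + 1) ^ i) * β0) * α0 ^ ((q + 1) ^ j) * β0⁻¹ := by
              rw [← hc.eq]
          _ = z1 ^ (∑ i ∈ Finset.range j, (q + 1) ^ i) * (β0 * α0 ^ ((q + 1) ^ j) * β0⁻¹) := by
              simp only [mul_assoc]
      rw [h1, ih, h2, L1, Finset.sum_range_succ, pow_add z1, pow_succ' (q + 1) j, mul_assoc]
  -- z3
  obtain ⟨z3, hz3def⟩ : ∃ z3, z3 = β0 ^ n * (α0 ^ (m' * l))⁻¹ := ⟨_, rfl⟩
  have hz3K : z3 ∈ σ.ker := by
    rw [MonoidHom.mem_ker, hz3def]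
    simp only [map_mul, map_inv, map_pow, hα, hβ]
    rw [hb, mul_inv_cancel]
  have hz3 : ∀ g : Γ, Commute z3 g := hKc z3 hz3K
  have hβn : β0 ^ n = z3 * α0 ^ (m' * l) := by rw [hz3def, inv_mul_cancel_right]
  have E2 : z1 ^ N * uu ^ s = 1 := by
    have h1 := L2 n
    rw [← hN] at h1
    have hcomm : Commute (β0 ^ n) α0 := by
      rw [hβn]
      exact (hz3 α0).mul_left ((Commute.refl α0).pow_left _)
    have h2 : β0 ^ n * α0 * (β0 ^ n)⁻¹ = α0 := by rw [hcomm.eq, mul_inv_cancel_right]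
    rw [h2, hgeom, hs, pow_succ, pow_mul, ← huu, ← mul_assoc] at h1
    have h4 : 1 * α0 = z1 ^ N * uu ^ s * α0 := by rw [one_mul]; exact h1
    exact (mul_right_cancel h4).symm
  have E3 : z1 ^ (m' * l) * α0 ^ (q * (m' * l)) = 1 := by
    have h1 : β0 * β0 ^ n * β0⁻¹ = β0 ^ n := by
      rw [← pow_succ', pow_succ, mul_inv_cancel_right]
    rw [hβn] at h1
    have h2 : β0 * (z3 * α0 ^ (m' * l)) * β0⁻¹ = z3 * (β0 * α0 ^ (m' * l) * β0⁻¹) := by
      calc β0 * (z3 * α0 ^ (m' * l)) * β0⁻¹ = (β0 * z3) * α0 ^ (m' * l) * β0⁻¹ := by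
            simp only [mul_assoc]
        _ = (z3 * β0) * α0 ^ (m' * l) * β0⁻¹ := by rw [← (hz3 β0).eq]
        _ = z3 * (β0 * α0 ^ (m' * l) * β0⁻¹) := by simp only [mul_assoc]
    rw [h2, L1] at h1
    have h3 := mul_left_cancel h1
    have h4 : (q + 1) * (m' * l) = q * (m' * l) + m' * l := by ring
    rw [h4, pow_add, ← mul_assoc] at h3
    have h5 : 1 * α0 ^ (m' * l) = z1 ^ (m' * l) * α0 ^ (q * (m' * l)) * α0 ^ (m' * l) := by
      rw [one_mul]; exact h3.symm
    exact (mul_right_cancel h5).symm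
  -- c
  obtain ⟨c, hcdef⟩ : ∃ c, c = β0 * α0 * β0⁻¹ * α0⁻¹ := ⟨_, rfl⟩
  have hc : c = z1 * α0 ^ q := by
    rw [hcdef, hconj, pow_succ, ← mul_assoc, mul_inv_cancel_right]
  have hcα : α0 * c * α0⁻¹ = c := by
    have h : Commute α0 c := by
      rw [hc]
      exact (hz1 α0).symm.mul_right ((Commute.refl α0).pow_right q)
    rw [h.eq, mul_inv_cancel_right]
  have hcβ : β0 * c * β0⁻¹ = c ^ (q + 1) := by
    rw [hc, (hz1 (α0 ^ q)).mul_pow, ← pow_mul]
    calc β0 * (z1 * α0 ^ q) * β0⁻¹ = (β0 * z1) * α0 ^ q * β0⁻¹ := by simp only [mul_assoc]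
      _ = (z1 * β0) * α0 ^ q * β0⁻¹ := by rw [← (hz1 β0).eq]
      _ = z1 * (β0 * α0 ^ q * β0⁻¹) := by simp only [mul_assoc]
      _ = z1 * (z1 ^ q * α0 ^ ((q + 1) * q)) := by rw [L1]
      _ = z1 ^ (q + 1) * α0 ^ (q * (q + 1)) := by
          rw [← mul_assoc, ← pow_succ', mul_comm q (q + 1)]
  -- generation
  obtain ⟨T, hTdef⟩ : ∃ T : Set Γ, T = ({α0, β0} : Set Γ) ∪ (σ.ker : Set Γ) := ⟨_, rfl⟩
  have hT : Subgroup.closure T = ⊤ := by
    rw [eq_top_iff]
    intro γ _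
    have h1 : σ γ ∈ (Subgroup.closure T).map σ := by
      have htop : (Subgroup.closure T).map σ = ⊤ := by
        rw [eq_top_iff, ← hG, Subgroup.closure_le]
        rintro x (rfl | rfl)
        · exact ⟨α0, Subgroup.subset_closure (by rw [hTdef]; exact Or.inl (Or.inl rfl)), hα⟩
        · exact ⟨β0, Subgroup.subset_closure (by rw [hTdef]; exact Or.inl (Or.inr rfl)), hβ⟩
      rw [htop]
      exact Subgroup.mem_top _
    obtain ⟨γ', hγ', hσ⟩ := h1
    have h2 : γ'⁻¹ * γ ∈ σ.ker := by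
      rw [MonoidHom.mem_ker, map_mul, map_inv, hσ, inv_mul_cancel]
    have h3 : γ = γ' * (γ'⁻¹ * γ) := by group
    rw [h3]
    exact Subgroup.mul_mem _ hγ' (Subgroup.subset_closure (by rw [hTdef]; exact Or.inr h2))
  haveI hCn : (Subgroup.zpowers c).Normal := by
    apply zpowers_normal_of_gens T hT c
    intro g hg
    rw [hTdef] at hg
    rcases hg with (hg | hg) | hg
    · rw [hg, hcα]; exact Subgroup.mem_zpowers c
    · rw [Set.mem_singleton_iff.mp hg, hcβ]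
      exact Subgroup.pow_mem _ (Subgroup.mem_zpowers c) _
    · rw [(hKc g hg c).eq, mul_inv_cancel_right]; exact Subgroup.mem_zpowers c
  have hcomm : commutator Γ ≤ Subgroup.zpowers c := by
    refine Subgroup.Normal.quotient_commutative_iff_commutator_le.mp ⟨⟨fun x y => ?_⟩⟩
    obtain ⟨qm, hqm⟩ : ∃ qm : Γ →* Γ ⧸ Subgroup.zpowers c, qm = QuotientGroup.mk' _ := ⟨_, rfl⟩
    have hS : Subgroup.closure (qm '' T) = ⊤ := by
      rw [← MonoidHom.map_closure, hT, ← MonoidHom.range_eq_map, MonoidHom.range_eq_top, hqm]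
      exact QuotientGroup.mk'_surjective _
    have hαβ : Commute (qm α0) (qm β0) := by
      have h1 : β0 * α0 = c * (α0 * β0) := by rw [hcdef]; group
      have h2 : qm c = 1 := by
        rw [hqm]; exact (QuotientGroup.eq_one_iff c).mpr (Subgroup.mem_zpowers c)
      show qm α0 * qm β0 = qm β0 * qm α0
      rw [← map_mul, ← map_mul, h1, map_mul qm c, h2, one_mul]
    refine comm_of_gens (qm '' T) hS ?_ x y
    rintro _ ⟨g1, hg1, rfl⟩ _ ⟨g2, hg2, rfl⟩
    rw [hTdef] at hg1 hg2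
    rcases hg1 with (hg1 | hg1) | hg1
    · rcases hg2 with (hg2 | hg2) | hg2
      · rw [hg1, hg2]
      · rw [hg1, Set.mem_singleton_iff.mp hg2]; exact hαβ
      · exact ((hKc g2 hg2 g1).symm).map qm
    · rcases hg2 with (hg2 | hg2) | hg2
      · rw [Set.mem_singleton_iff.mp hg1, hg2]; exact hαβ.symm
      · rw [Set.mem_singleton_iff.mp hg1, Set.mem_singleton_iff.mp hg2]
      · exact ((hKc g2 hg2 g1).symm).map qm
    · exact (hKc g1 hg1 g2).map qm
  -- κ
  obtain ⟨κ, hκdef⟩ : ∃ κ, κ = c ^ m' := ⟨_, rfl⟩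
  have hσc : σ c = a ^ q := by
    rw [hcdef]
    simp only [map_mul, map_inv, hα, hβ]
    rw [hab, pow_succ, mul_inv_cancel_right]
  have hqm' : q * m' = m * w0 := by rw [hrw, hmd]; ring
  have hκK : κ ∈ σ.ker := by
    rw [MonoidHom.mem_ker, hκdef, map_pow, hσc, ← pow_mul, hqm', pow_mul, ha, one_pow]
  have hKle : σ.ker ≤ Subgroup.zpowers κ := by
    intro κ' hκ'
    obtain ⟨i, hi⟩ := Subgroup.mem_zpowers_iff.mp (hcomm (hcom hκ'))
    have h1 : a ^ ((q : ℤ) * i) = 1 := by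
      have h0 : σ κ' = 1 := hκ'
      rw [← hi, map_zpow, hσc, ← zpow_natCast, ← zpow_mul] at h0
      exact h0
    have h2 := haord _ h1
    have h3 : (m' : ℤ) ∣ (w0 : ℤ) * i := by
      rw [hmd, hrw] at h2
      push_cast at h2
      rw [mul_assoc] at h2
      exact (mul_dvd_mul_iff_left (by exact_mod_cast hd.ne')).mp h2
    have h4 : (m' : ℤ) ∣ i := (Nat.isCoprime_iff_coprime.mpr hcop).dvd_of_dvd_mul_left h3
    obtain ⟨i', rfl⟩ := h4
    rw [← hi, hκdef, zpow_mul, zpow_natCast]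
    exact Subgroup.zpow_mem_zpowers _ _
  have hκform : κ = z1 ^ m' * α0 ^ (q * m') := by
    rw [hκdef, hc, (hz1 (α0 ^ q)).mul_pow, ← pow_mul]
  have hκl : κ ^ l = 1 := by
    rw [hκform, ((hz1 (α0 ^ (q * m'))).pow_left m').mul_pow, ← pow_mul, ← pow_mul,
      mul_assoc q m' l]
    exact E3
  have hκh : κ ^ h' = 1 := by
    have hκform' : κ = z1 ^ m' * uu ^ w0 := by
      rw [hκform, hqm', pow_mul, ← huu]
    have he' : ((m' * h' : ℕ) : ℤ) = m * Nat.gcdA m N + N * Nat.gcdB m N := by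
      rw [← he]; exact Nat.gcd_eq_gcd_ab m N
    have hq' : ((w0 * h' : ℕ) : ℤ) = q * Nat.gcdA m N + s * Nat.gcdB m N := by
      have e2 : (q : ℤ) * N = m * s := by exact_mod_cast hs
      have e3 : (m : ℤ) = d * m' := by exact_mod_cast hmd
      have e4 : (q : ℤ) = d * w0 := by exact_mod_cast hrw
      have hm0 : (m : ℤ) ≠ 0 := by exact_mod_cast hm.ne'
      have key : (m : ℤ) * ((w0 * h' : ℕ) : ℤ)
          = (m : ℤ) * (q * Nat.gcdA m N + s * Nat.gcdB m N) := by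
        push_cast at he' ⊢
        linear_combination ((w0 : ℤ) * h') * e3 - ((m' : ℤ) * h') * e4 + (q : ℤ) * he'
          + (Nat.gcdB m N) * e2
      exact mul_left_cancel₀ hm0 key
    have hmain := comm_aux z1 uu (hz1 uu) m N (m' * h') q s (w0 * h') _ _ E1 E2 he' hq'
    rw [hκform', ((hz1 (uu ^ w0)).pow_left m').mul_pow, ← pow_mul, ← pow_mul]
    exact hmain
  exact ⟨κ, hκK, hKle, hκl, hκh⟩

/-! ### The main computation -/

theorem core (m n q l d m' w0 : ℕ) (hm : 0 < m) (hn : 0 < n) (hd : 0 < d)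
    (hmd : m = d * m') (hrw : q = d * w0) (hcop : Nat.Coprime m' w0)
    (hrn : (q + 1) ^ n ≡ 1 [MOD m]) :
    Cfsg.HasCyclicSchurMultiplier (MG m n (m' * l) (q + 1))
      (Nat.gcd l (d * Nat.gcd m (∑ i ∈ Finset.range n, (q + 1) ^ i) / m)) := by
  obtain ⟨N, hN⟩ : ∃ N, N = ∑ i ∈ Finset.range n, (q + 1) ^ i := ⟨_, rfl⟩
  rw [← hN]
  have hgeom : (q + 1) ^ n = q * N + 1 := by rw [hN]; exact geom_aux q n
  have hmdvd : m ∣ q * N := by
    have h1 : q * N + 1 ≡ 0 + 1 [MOD m] := by rw [← hgeom, zero_add]; exact hrn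
    exact (Nat.modEq_zero_iff_dvd).mp (Nat.ModEq.add_right_cancel' 1 h1)
  obtain ⟨s, hs⟩ := hmdvd
  have hm'pos : 0 < m' := by
    rcases Nat.eq_zero_or_pos m' with h | h
    · rw [h, mul_zero] at hmd; omega
    · exact h
  have hm'N : m' ∣ N := by
    have h1 : d * m' ∣ d * (w0 * N) := by
      rw [← hmd, ← mul_assoc, ← hrw, hs]; exact dvd_mul_right m s
    exact hcop.dvd_of_dvd_mul_left (Nat.dvd_of_mul_dvd_mul_left hd h1)
  have hm'e : m' ∣ Nat.gcd m N := Nat.dvd_gcd ⟨d, by rw [hmd, mul_comm]⟩ hm'N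
  obtain ⟨h', he⟩ := hm'e
  have hh : d * Nat.gcd m N / m = h' := by
    apply Nat.div_eq_of_eq_mul_right hm
    rw [he, hmd]; ring
  rw [hh]
  have hepos : 0 < Nat.gcd m N := Nat.gcd_pos_of_pos_left _ hm
  have hh'pos : 0 < h' := by
    rcases Nat.eq_zero_or_pos h' with h | h
    · rw [h, mul_zero] at he; omega
    · exact h
  have hh'd : h' ∣ d := by
    have h1 : m' * h' ∣ m' * d := by
      rw [← he, mul_comm m' d, ← hmd]; exact Nat.gcd_dvd_left m N
    exact Nat.dvd_of_mul_dvd_mul_left hm'pos h1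
  obtain ⟨k, hkdef⟩ : ∃ k, k = Nat.gcd l h' := ⟨_, rfl⟩
  rw [← hkdef]
  have hkpos : 0 < k := by rw [hkdef]; exact Nat.gcd_pos_of_pos_right _ hh'pos
  have hkl : k ∣ l := by rw [hkdef]; exact Nat.gcd_dvd_left _ _
  have hkh : k ∣ h' := by rw [hkdef]; exact Nat.gcd_dvd_right _ _
  have hkd : k ∣ d := hkh.trans hh'd
  -- the group and its generators
  obtain ⟨a, hadef⟩ : ∃ a : MG m n (m' * l) (q + 1), a = PresentedGroup.of true := ⟨_, rfl⟩
  obtain ⟨b, hbdef⟩ : ∃ b : MG m n (m' * l) (q + 1), b = PresentedGroup.of false := ⟨_, rfl⟩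
  have ha : a ^ m = 1 := by rw [hadef]; exact MG_rel1 _ _ _ _
  have hb : b ^ n = a ^ (m' * l) := by rw [hadef, hbdef]; exact MG_rel2 _ _ _ _
  have hab : b * a * b⁻¹ = a ^ (q + 1) := by rw [hadef, hbdef]; exact MG_rel3 _ _ _ _
  have hG : Subgroup.closure ({a, b} : Set (MG m n (m' * l) (q + 1))) = ⊤ := by
    rw [hadef, hbdef]; exact MG_closure _ _ _ _
  -- a model for the group itself: the order of `a` is exactly `m`
  have ht0 : (q + 1) * (m' * l) ≡ m' * l [MOD m] := by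
    have h1 : (q + 1) * (m' * l) = m * (w0 * l) + m' * l := by rw [hrw, hmd]; ring
    rw [h1]
    have h := Nat.ModEq.add_right (m' * l)
      ((Nat.modEq_zero_iff_dvd).mpr (dvd_mul_right m (w0 * l)))
    rwa [zero_add] at h
  obtain ⟨Γ0, _, _, α00, β00, h0M, h0c, h0n, h0ord, -, -⟩ :=
    exists_model m n (q + 1) (m' * l) hm hn hrn ht0
  obtain ⟨f0, hf0a, hf0b⟩ := MG_exists_hom α00 β00 m n (m' * l) (q + 1) h0M h0n h0c
  have horder : orderOf a = m := by
    have h1 : orderOf a ∣ m := orderOf_dvd_of_pow_eq_one ha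
    have h2 : m ∣ orderOf a := by
      apply h0ord
      rw [← hf0a, ← hadef, ← map_pow, pow_orderOf_eq_one, map_one]
    exact Nat.dvd_antisymm h1 h2
  have haord : ∀ i : ℤ, a ^ i = 1 → (m : ℤ) ∣ i := by
    intro i hi
    rw [← horder]
    exact orderOf_dvd_iff_zpow_eq_one.mpr hi
  refine ⟨?_, ?_⟩
  · -- existence of a stem extension with kernel cyclic of order k
    obtain ⟨w, hwmod, hwk⟩ := exists_lift_coprime m' k w0 hm'pos hkpos hcop
    obtain ⟨ρ, hρdef⟩ : ∃ ρ, ρ = d * w + 1 := ⟨_, rfl⟩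
    have hρr : ρ ≡ q + 1 [MOD m] := by
      rw [hρdef, hrw, hmd]
      exact Nat.ModEq.add_right 1 (Nat.ModEq.mul_left' d hwmod)
    obtain ⟨Nρ, hNρ⟩ : ∃ Nρ, Nρ = ∑ i ∈ Finset.range n, ρ ^ i := ⟨_, rfl⟩
    have hgeomρ : ρ ^ n = d * w * Nρ + 1 := by rw [hNρ, hρdef]; exact geom_aux (d * w) n
    have hNρN : Nρ ≡ N [MOD m] := by
      rw [← ZMod.natCast_eq_natCast_iff, hNρ, hN]
      push_cast
      have h1 : (ρ : ZMod m) = ((q : ZMod m) + 1) := by
        have h2 := (ZMod.natCast_eq_natCast_iff _ _ _).mpr hρr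
        push_cast at h2
        exact h2
      rw [h1]
    have hLm : m' * k ∣ m := by
      obtain ⟨d1, hd1⟩ := hkd
      exact ⟨d1, by rw [hmd, hd1]; ring⟩
    have hLN : m' * k ∣ N := by
      have h1 : m' * k ∣ m' * h' := Nat.mul_dvd_mul_left m' hkh
      rw [← he] at h1
      exact h1.trans (Nat.gcd_dvd_right m N)
    have hLNρ : m' * k ∣ Nρ := (hNρN.dvd_iff hLm).mpr hLN
    have hρn : ρ ^ n ≡ 1 [MOD m * k] := by
      rw [hgeomρ]
      have hdvd : m * k ∣ d * w * Nρ := by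
        obtain ⟨j, hj⟩ := hLNρ
        exact ⟨w * j, by rw [hj, hmd]; ring⟩
      have h := Nat.ModEq.add_right 1 ((Nat.modEq_zero_iff_dvd).mpr hdvd)
      rwa [zero_add] at h
    have htρ : ρ * (m' * l) ≡ m' * l [MOD m * k] := by
      obtain ⟨l1, hl1⟩ := hkl
      have h1 : ρ * (m' * l) = (m * k) * (w * l1) + m' * l := by rw [hρdef, hmd, hl1]; ring
      rw [h1]
      have h := Nat.ModEq.add_right (m' * l)
        ((Nat.modEq_zero_iff_dvd).mpr (dvd_mul_right (m * k) (w * l1)))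
      rwa [zero_add] at h
    obtain ⟨Γ1, _, _, α1, β1, h1M, h1c, h1n, h1ord, h1nf, h1univ⟩ :=
      exists_model (m * k) n ρ (m' * l) (Nat.mul_pos hm hkpos) hn hρn htρ
    have haM : a ^ (m * k) = 1 := by rw [pow_mul, ha, one_pow]
    obtain ⟨σ, hσα, hσβ⟩ := h1univ (MG m n (m' * l) (q + 1)) a b haM
      (hab.trans (pow_eq_of_modEq ha hρr.symm)) hb
    -- ζ = α1 ^ m is central
    obtain ⟨ζ, hζdef⟩ : ∃ ζ, ζ = α1 ^ m := ⟨_, rfl⟩
    have hζβ : β1 * ζ * β1⁻¹ = ζ := by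
      rw [hζdef, ← conj_pow, h1c, ← pow_mul]
      apply pow_eq_of_modEq h1M
      obtain ⟨d1, hd1⟩ := hkd
      have h1 : ρ * m = (m * k) * (w * d1) + m := by rw [hρdef, hd1]; ring
      rw [h1]
      have h := Nat.ModEq.add_right m
        ((Nat.modEq_zero_iff_dvd).mpr (dvd_mul_right (m * k) (w * d1)))
      rwa [zero_add] at h
    have hζc : ∀ γ : Γ1, Commute ζ γ := by
      intro γ
      obtain ⟨i, j, rfl⟩ := h1nf γ
      have h1 : Commute ζ α1 := by rw [hζdef]; exact (Commute.refl α1).pow_left m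
      have h2 : Commute ζ β1 := (mul_inv_eq_iff_eq_mul.mp hζβ).symm
      exact (h1.pow_right i).mul_right (h2.zpow_right j)
    haveI hZ1n : (Subgroup.zpowers ζ).Normal := ⟨fun x hx g => by
      obtain ⟨i, rfl⟩ := Subgroup.mem_zpowers_iff.mp hx
      rw [← ((hζc g).zpow_left i).eq, mul_inv_cancel_right]
      exact Subgroup.zpow_mem_zpowers _ _⟩
    -- the inverse map modulo ζ
    have hA : (QuotientGroup.mk α1 : Γ1 ⧸ Subgroup.zpowers ζ) ^ m = 1 := by
      rw [← QuotientGroup.mk_pow, QuotientGroup.eq_one_iff, ← hζdef]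
      exact Subgroup.mem_zpowers ζ
    have hB : (QuotientGroup.mk β1 : Γ1 ⧸ Subgroup.zpowers ζ) ^ n
        = (QuotientGroup.mk α1 : Γ1 ⧸ Subgroup.zpowers ζ) ^ (m' * l) := by
      rw [← QuotientGroup.mk_pow, ← QuotientGroup.mk_pow, h1n]
    have hAB : (QuotientGroup.mk β1 : Γ1 ⧸ Subgroup.zpowers ζ) * QuotientGroup.mk α1
        * (QuotientGroup.mk β1)⁻¹ = (QuotientGroup.mk α1 : Γ1 ⧸ Subgroup.zpowers ζ) ^ (q + 1) := by
      rw [← QuotientGroup.mk_inv, ← QuotientGroup.mk_mul, ← QuotientGroup.mk_mul, h1c,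
        QuotientGroup.mk_pow]
      exact pow_eq_of_modEq hA hρr
    obtain ⟨ψ, hψa, hψb⟩ := MG_exists_hom (QuotientGroup.mk α1 : Γ1 ⧸ Subgroup.zpowers ζ)
      (QuotientGroup.mk β1) m n (m' * l) (q + 1) hA hB hAB
    rw [← hadef] at hψa
    rw [← hbdef] at hψb
    have hψσ : ∀ γ : Γ1, ψ (σ γ) = QuotientGroup.mk γ := by
      intro γ
      obtain ⟨i, j, rfl⟩ := h1nf γ
      rw [map_mul, map_pow, map_zpow, hσα, hσβ, map_mul, map_pow, map_zpow, hψa, hψb,
        QuotientGroup.mk_mul, QuotientGroup.mk_pow, QuotientGroup.mk_zpow]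
    have hker : σ.ker = Subgroup.zpowers ζ := by
      apply le_antisymm
      · intro γ hγ
        have h1 : (QuotientGroup.mk γ : Γ1 ⧸ Subgroup.zpowers ζ) = 1 := by
          rw [← hψσ, MonoidHom.mem_ker.mp hγ, map_one]
        exact (QuotientGroup.eq_one_iff γ).mp h1
      · rw [Subgroup.zpowers_le, MonoidHom.mem_ker, hζdef, map_pow, hσα, ha]
    have hsurj : Function.Surjective σ := by
      rw [← MonoidHom.range_eq_top, eq_top_iff, ← hG, Subgroup.closure_le]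
      rintro x (rfl | rfl)
      · exact ⟨α1, hσα⟩
      · exact ⟨β1, hσβ⟩
    have hcen : σ.ker ≤ Subgroup.center Γ1 := by
      rw [hker, Subgroup.zpowers_le, Subgroup.mem_center_iff]
      intro g
      exact ((hζc g).eq).symm
    have hcm : σ.ker ≤ commutator Γ1 := by
      rw [hker, Subgroup.zpowers_le]
      have hcomm_el : α1 ^ (d * w) ∈ commutator Γ1 := by
        have h1 : ⁅β1, α1⁆ = α1 ^ (d * w) := by
          rw [commutatorElement_def, h1c, hρdef, pow_succ, mul_inv_cancel_right]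
        rw [← h1, commutator_def]
        exact Subgroup.commutator_mem_commutator (Subgroup.mem_top _) (Subgroup.mem_top _)
      have hbez := Nat.gcd_eq_gcd_ab w k
      rw [show Nat.gcd w k = 1 from hwk] at hbez
      push_cast at hbez
      have hexp : ((d * w : ℕ) : ℤ) * ((m' : ℤ) * Nat.gcdA w k)
          = (m : ℤ) + ((m * k : ℕ) : ℤ) * (-(Nat.gcdB w k)) := by
        have e3 : (m : ℤ) = d * m' := by exact_mod_cast hmd
        push_cast
        linear_combination (-(d : ℤ) * m') * hbez - (1 - (k : ℤ) * Nat.gcdB w k) * e3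
      have hζeq : ζ = (α1 ^ (d * w)) ^ ((m' : ℤ) * Nat.gcdA w k) := by
        rw [← zpow_natCast α1 (d * w), ← zpow_mul, hexp, zpow_add, zpow_mul, zpow_natCast,
          zpow_natCast, h1M, one_zpow, mul_one, hζdef]
      rw [hζeq]
      exact Subgroup.zpow_mem _ hcomm_el _
    have hordα : orderOf α1 = m * k :=
      Nat.dvd_antisymm (orderOf_dvd_of_pow_eq_one h1M) (h1ord _ (pow_orderOf_eq_one α1))
    have hordζ : orderOf ζ = k := by
      rw [hζdef, orderOf_pow' α1 hm.ne', hordα, Nat.gcd_eq_right (dvd_mul_right m k),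
        Nat.mul_div_cancel_left k hm]
    have hcard : Nat.card (Subgroup.zpowers ζ) = k := by rw [Nat.card_zpowers, hordζ]
    refine ⟨Γ1, inferInstance, inferInstance, σ, ⟨hsurj, hcen, hcm⟩, ⟨?_⟩⟩
    exact ((MulEquiv.subgroupCongr hker).trans
      (zmodCyclicMulEquiv (inferInstance : IsCyclic (Subgroup.zpowers ζ))).symm).trans
      (AddEquiv.toMultiplicative (ZMod.ringEquivCongr hcard).toAddEquiv)
  · -- the upper bound
    intro Γ _ _ σ' hstem
    obtain ⟨hs1, hs2, hs3⟩ := hstem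
    obtain ⟨α0, hα0⟩ := hs1 a
    obtain ⟨β0, hβ0⟩ := hs1 b
    obtain ⟨κ, hκK, hKle, hκl, hκh⟩ := upper σ' hs2 hs3 a b hG α0 β0 hα0 hβ0 m n q l d m' w0 N s h'
      hm ha hab hb haord hd hmd hrw hcop hgeom hN hs he
    have hκk : κ ^ k = 1 := by rw [hkdef]; exact pow_gcd_eq_one.mpr ⟨hκl, hκh⟩
    haveI hcyc : IsCyclic σ'.ker := Subgroup.isCyclic_of_le hKle
    have hcardK : Nat.card σ'.ker ∣ k := by
      have h1 := Subgroup.card_dvd_of_le hKle
      rw [Nat.card_zpowers] at h1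
      exact h1.trans (orderOf_dvd_of_pow_eq_one hκk)
    haveI : NeZero k := ⟨hkpos.ne'⟩
    obtain ⟨f1, hf1def⟩ : ∃ f1 : ZMod k →+ ZMod (Nat.card σ'.ker),
        f1 = (ZMod.castHom hcardK (ZMod (Nat.card σ'.ker))).toAddMonoidHom := ⟨_, rfl⟩
    have hf1 : Function.Surjective f1 := by
      rw [hf1def]
      exact ZMod.ringHom_surjective (ZMod.castHom hcardK (ZMod (Nat.card σ'.ker)))
    refine ⟨(zmodCyclicMulEquiv hcyc).toMonoidHom.comp (AddMonoidHom.toMultiplicative f1), ?_⟩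
    intro y
    obtain ⟨x, hx⟩ := (zmodCyclicMulEquiv hcyc).surjective y
    obtain ⟨x', hx'⟩ := hf1 (Multiplicative.toAdd x)
    refine ⟨Multiplicative.ofAdd x', ?_⟩
    show (zmodCyclicMulEquiv hcyc) (Multiplicative.ofAdd (f1 x')) = y
    rw [hx', ofAdd_toAdd, hx]

theorem result (m n r l : ℕ) (hm : 0 < m) (hn : 0 < n) (hr : 0 < r) (hrn : r ^ n ≡ 1 [MOD m]) : Cfsg.HasCyclicSchurMultiplier (PresentedGroup ({FreeGroup.of true ^ m, (FreeGroup.of false) ^ n * (FreeGroup.of true ^ (m * l / Nat.gcd m (r - 1)))⁻¹, FreeGroup.of false * FreeGroup.of true * (FreeGroup.of false)⁻¹ * (FreeGroup.of true ^ r)⁻¹} : Set (FreeGroup Bool))) (Nat.gcd l (Nat.gcd m (r - 1) * Nat.gcd m (∑ i ∈ Finset.range n, r ^ i) / m)) := by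
  obtain ⟨q, rfl⟩ : ∃ q, r = q + 1 := ⟨r - 1, (Nat.sub_add_cancel hr).symm⟩
  rw [Nat.add_sub_cancel]
  have hd : 0 < Nat.gcd m q := Nat.gcd_pos_of_pos_left _ hm
  obtain ⟨m', hmd⟩ := Nat.gcd_dvd_left m q
  obtain ⟨w0, hrw⟩ := Nat.gcd_dvd_right m q
  have hcop : Nat.Coprime m' w0 := by
    have h := Nat.coprime_div_gcd_div_gcd hd
    rwa [Nat.div_eq_of_eq_mul_right hd hmd, Nat.div_eq_of_eq_mul_right hd hrw] at h
  have ht : m * l / Nat.gcd m q = m' * l := by
    apply Nat.div_eq_of_eq_mul_right hd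
    rw [← mul_assoc, ← hmd]
  rw [ht]
  exact core m n q l (Nat.gcd m q) m' w0 hm hn hd hmd hrw hcop hrn

end Cfsg.Agent.S3967
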