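import Mathlib
import Cfsg.Statements.S3968
import Cfsg.Agent.Lib.Helper2.Burnside
import Cfsg.Agent.Lib.Helper2.CharBasic

set_option autoImplicit false
open Cfsg

namespace Cfsg.Agent.S3968

open Module Cfsg.Agent.Lib.Helper2

section aux
variable {V : Type*} [AddCommGroup V] [Module ℂ V]

/-- coordinates of the image under a diagonal operator -/
theorem repr_diag {ι : Type*} [Fintype ι] [DecidableEq ι] (f : Module.End ℂ V) (b : Basis ι ℂ V)
    (μ : ι → ℂ) (h : ∀ i, f (b i) = μ i • b i) (v : V) (j : ι) :
    b.repr (f v) j = b.repr v j * μ j := by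
  have h1 : f v = ∑ l, (b.repr v l * μ l) • b l := by
    conv_lhs => rw [← b.sum_repr v]
    rw [map_sum]
    apply Finset.sum_congr rfl
    intro l _
    rw [map_smul, h l, smul_smul]
  rw [h1, b.repr_sum_self]

/-- an eigenvector of a diagonal operator with distinct eigenvalues is a multiple of a basis
vector -/
theorem eigen_diag {ι : Type*} [Fintype ι] [DecidableEq ι] (f : Module.End ℂ V) (b : Basis ι ℂ V)
    (μ : ι → ℂ) (h : ∀ i, f (b i) = μ i • b i) (hinj : Function.Injective μ) (i : ι) (v : V)
    (hv : f v = μ i • v) : v = b.repr v i • b i := by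
  have hz : ∀ j, j ≠ i → b.repr v j = 0 := by
    intro j hj
    have h1 := repr_diag f b μ h v j
    rw [hv, map_smul] at h1
    have h2 : μ i * b.repr v j = b.repr v j * μ j := by simpa using h1
    have h3 : (μ i - μ j) * b.repr v j = 0 := by rw [sub_mul, h2]; ring
    rcases mul_eq_zero.mp h3 with h4 | h4
    · exact absurd (hinj (sub_eq_zero.mp h4)).symm hj
    · exact h4
  conv_lhs => rw [← b.sum_repr v]
  rw [Finset.sum_eq_single i]
  · intro j _ hj
    rw [hz j hj, zero_smul]
  · intro hi
    exact absurd (Finset.mem_univ i) hi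

end aux

/-- Let `p` be a prime and `G` a finite group with a faithful irreducible complex character of degree `p` (so `G` is an irreducible linear group in `p` variables). If `p ^ 2` divides the order of `G`, then the centre of `G` is nontrivial. -/
theorem result {G : Type*} [Group G] [Finite G] (p : ℕ) (hp : p.Prime) (χ : Cfsg.IrrCharacter G) (hdeg : χ.1 1 = p) (hfaith : ∀ g : G, χ.1 g = χ.1 1 → g = 1) (hdiv : p ^ 2 ∣ Nat.card G) : Subgroup.center G ≠ ⊥ := by
  classical
  intro hZ
  haveI : Fact p.Prime := ⟨hp⟩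
  cases nonempty_fintype G
  obtain ⟨n, ρ, hirr, hχ⟩ := χ.2
  haveI := hirr
  have hfin : finrank ℂ (Fin n → ℂ) = n := Module.finrank_fin_fun ℂ
  have h1 : χ.1 1 = (n : ℂ) := by rw [← hχ, Representation.char_one, hfin]
  have hnp : n = p := by
    have : (n : ℂ) = (p : ℂ) := by rw [← h1, hdeg]
    exact_mod_cast this
  have hfinp : finrank ℂ (Fin n → ℂ) = p := by rw [hfin, hnp]
  -- faithfulness
  have hker : ∀ g : G, ρ g = LinearMap.id → g = 1 := by
    intro g hg
    apply hfaith
    have := (char_eq_finrank_iff ρ g).2 hg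
    rw [hdeg, ← hχ, this, hfinp]
  have hinj : ∀ a c : G, ρ a = ρ c → a = c := by
    intro a c hac
    have h2 : ρ (a * c⁻¹) = LinearMap.id := by
      rw [map_mul, hac, ← map_mul, mul_inv_cancel, map_one]
      rfl
    exact mul_inv_eq_one.mp (hker _ h2)
  -- Sylow subgroup
  obtain ⟨P⟩ : Nonempty (Sylow p G) := inferInstance
  have hPdvd : p ^ 2 ∣ Nat.card (P : Subgroup G) := P.pow_dvd_card_of_pow_dvd_card hdiv
  -- Burnside vanishing for elements centralised by P
  have hvanish : ∀ y : G, (∀ u ∈ (P : Subgroup G), u * y = y * u) → y ≠ 1 →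
      ρ.character y = 0 := by
    intro y hy hy1
    have hle : (P : Subgroup G) ≤ Subgroup.centralizer ({y} : Set G) := by
      intro u hu
      rw [Subgroup.mem_centralizer_iff]
      intro h hh
      rw [Set.mem_singleton_iff] at hh
      subst hh
      exact (hy u hu).symm
    have hdvd : (Subgroup.centralizer ({y} : Set G)).index ∣ (P : Subgroup G).index :=
      Subgroup.index_dvd_of_le hle
    have hnd : ¬ p ∣ (P : Subgroup G).index := P.not_dvd_index
    have hcop : Nat.Coprime (finrank ℂ (Fin n → ℂ))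
        (Subgroup.centralizer ({y} : Set G)).index := by
      rw [hfinp]
      exact (Nat.Prime.coprime_iff_not_dvd hp).2 (fun h => hnd (h.trans hdvd))
    rcases char_eq_zero_or_norm_eq_of_coprime ρ y hcop with h0 | h0
    · exact h0
    · exfalso
      obtain ⟨ω, hω⟩ := (norm_char_eq_finrank_iff ρ y).1 h0
      apply hy1
      have hyc : y ∈ Subgroup.center G := by
        rw [Subgroup.mem_center_iff]
        intro g
        apply hinj
        rw [map_mul, map_mul, hω]
        apply LinearMap.ext
        intro v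
        simp [Module.End.mul_apply]
      rw [hZ] at hyc
      exact Subgroup.mem_bot.mp hyc
  -- an element of order p in Z(P)
  have hPp : IsPGroup p (P : Subgroup G) := P.isPGroup'
  have hPnt : Nontrivial (P : Subgroup G) := by
    rw [← Finite.one_lt_card_iff_nontrivial]
    have h2 : p ^ 2 ≤ Nat.card (P : Subgroup G) := Nat.le_of_dvd Nat.card_pos hPdvd
    have h3 : 1 < p ^ 2 := Nat.one_lt_pow (by norm_num) hp.one_lt
    omega
  haveI := hPnt
  have hcnt : Nontrivial (Subgroup.center (P : Subgroup G)) := hPp.center_nontrivial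
  have hcdvd : p ∣ Nat.card (Subgroup.center (P : Subgroup G)) := by
    have hcp : IsPGroup p (Subgroup.center (P : Subgroup G)) := hPp.to_subgroup _
    rcases hcp.card_eq_or_dvd with h | h
    · exfalso
      have := Finite.one_lt_card_iff_nontrivial.mpr hcnt
      omega
    · exact h
  obtain ⟨x0, hx0⟩ := exists_prime_orderOf_dvd_card' p hcdvd
  obtain ⟨x, hxdef⟩ : ∃ x : G, x = ((x0 : (P : Subgroup G)) : G) := ⟨_, rfl⟩
  have hxord : orderOf x = p := by
    rw [hxdef, Subgroup.orderOf_coe, Subgroup.orderOf_coe, hx0]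
  have hxP : ∀ u ∈ (P : Subgroup G), u * x = x * u := by
    intro u hu
    have h := Subgroup.mem_center_iff.mp x0.2 ⟨u, hu⟩
    have h' := congrArg Subtype.val h
    rw [hxdef]
    exact h'
  -- eigenbasis of ρ x
  obtain ⟨b, μ, hb, hμ⟩ := exists_eigenbasis ρ x
  rw [hxord] at hμ
  have hpowb : ∀ (k : ℕ) i, ρ (x ^ k) (b i) = μ i ^ k • b i := by
    intro k i
    induction k with
    | zero => simp
    | succ k ih =>
      rw [pow_succ', map_mul, Module.End.mul_apply, ih, map_smul, hb, smul_smul, pow_succ]
  have hchar : ∀ k : ℕ, ρ.character (x ^ k) = ∑ i, μ i ^ k :=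
    fun k => trace_eq_sum_of_eigenbasis _ b _ (hpowb k)
  have hchar0 : ∀ k, 0 < k → k < p → ∑ i, μ i ^ k = 0 := by
    intro k hk0 hkp
    rw [← hchar k]
    apply hvanish
    · intro u hu
      exact ((show Commute u x from hxP u hu).pow_right k).eq
    · exact pow_ne_one_of_lt_orderOf hk0.ne' (by rw [hxord]; exact hkp)
  -- the eigenvalues are pairwise distinct
  have hμinj : Function.Injective μ := by
    intro i j hij
    by_contra hne
    obtain ⟨ω, hω⟩ : ∃ ω : ℂ, ω = μ i := ⟨_, rfl⟩
    have hωp : ω ^ p = 1 := by rw [hω]; exact hμ i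
    have hω0 : ω ≠ 0 := by
      intro h
      rw [h, zero_pow hp.ne_zero] at hωp
      exact zero_ne_one hωp
    have hgeom : ∀ l, ∑ k ∈ Finset.range p, (μ l * ω⁻¹) ^ k
        = if μ l = ω then (p : ℂ) else 0 := by
      intro l
      split_ifs with h
      · rw [h, mul_inv_cancel₀ hω0]
        simp
      · have ht : (μ l * ω⁻¹) ^ p = 1 := by
          rw [mul_pow, inv_pow, hμ l, hωp]
          simp
        have hne1 : μ l * ω⁻¹ ≠ 1 := by
          intro h1
          exact h ((mul_inv_eq_one₀ hω0).mp h1)
        have h2 := mul_geom_sum (μ l * ω⁻¹) p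
        rw [ht, sub_self] at h2
        rcases mul_eq_zero.mp h2 with h3 | h3
        · exact absurd (sub_eq_zero.mp h3) hne1
        · exact h3
    have hS1 : ∑ k ∈ Finset.range p, (ω⁻¹) ^ k * ∑ l, μ l ^ k = (p : ℂ) := by
      rw [Finset.sum_eq_single 0]
      · simp [hfin, hnp]
      · intro k hk hk0
        rw [hchar0 k (Nat.pos_of_ne_zero hk0) (Finset.mem_range.mp hk), mul_zero]
      · intro h
        exact absurd (Finset.mem_range.mpr hp.pos) h
    have hS2 : ∑ k ∈ Finset.range p, (ω⁻¹) ^ k * ∑ l, μ l ^ k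
        = ∑ l, (if μ l = ω then (p : ℂ) else 0) := by
      simp_rw [Finset.mul_sum]
      rw [Finset.sum_comm]
      apply Finset.sum_congr rfl
      intro l _
      rw [← hgeom l]
      apply Finset.sum_congr rfl
      intro k _
      rw [mul_pow, mul_comm]
    rw [hS2, Finset.sum_ite, Finset.sum_const_zero, add_zero, Finset.sum_const,
      nsmul_eq_mul] at hS1
    have hcard : (Finset.univ.filter (fun l => μ l = ω)).card = 1 := by
      have hp0 : (p : ℂ) ≠ 0 := by exact_mod_cast hp.ne_zero
      have h2 : ((Finset.univ.filter (fun l => μ l = ω)).card : ℂ) = 1 :=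
        mul_right_cancel₀ hp0 (hS1.trans (one_mul _).symm)
      exact_mod_cast h2
    have hi : i ∈ Finset.univ.filter (fun l => μ l = ω) := by
      rw [Finset.mem_filter]
      exact ⟨Finset.mem_univ _, hω.symm⟩
    have hj : j ∈ Finset.univ.filter (fun l => μ l = ω) := by
      rw [Finset.mem_filter]
      exact ⟨Finset.mem_univ _, by rw [hω, hij]⟩
    obtain ⟨a, ha⟩ := Finset.card_eq_one.mp hcard
    rw [ha] at hi hj
    exact hne ((Finset.mem_singleton.mp hi).trans (Finset.mem_singleton.mp hj).symm)
  -- elements commuting with x act diagonally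
  have hdiag : ∀ g : G, g * x = x * g → ∀ i, ∃ c : ℂ, ρ g (b i) = c • b i := by
    intro g hg i
    refine ⟨b.repr (ρ g (b i)) i, ?_⟩
    apply eigen_diag (ρ x) b μ hb hμinj i
    rw [← Module.End.mul_apply, ← map_mul, ← hg, map_mul, Module.End.mul_apply, hb, map_smul]
  have hcomm : ∀ g h : G, g * x = x * g → h * x = x * h → g * h = h * g := by
    intro g h hg hh
    apply hinj
    apply b.ext
    intro i
    obtain ⟨cg, hcg⟩ := hdiag g hg i
    obtain ⟨ch, hch⟩ := hdiag h hh i
    rw [map_mul, map_mul, Module.End.mul_apply, Module.End.mul_apply, hch, map_smul, hcg,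
      map_smul, hch, smul_smul, smul_smul, mul_comm]
  have hPab : ∀ u ∈ (P : Subgroup G), ∀ w ∈ (P : Subgroup G), u * w = w * u :=
    fun u hu w hw => hcomm u w (hxP u hu) (hxP w hw)
  have hPvan : ∀ y : (P : Subgroup G), y ≠ 1 → ρ.character (y : G) = 0 := by
    intro y hy
    apply hvanish
    · intro u hu
      exact hPab u hu y y.2
    · intro h
      exact hy (OneMemClass.coe_eq_one.mp h)
  -- averaging over P
  let σ : Representation ℂ (P : Subgroup G) (Fin n → ℂ) := ρ.comp (P : Subgroup G).subtype
  have hPne : (Nat.card (P : Subgroup G) : ℂ) ≠ 0 := by exact_mod_cast Nat.card_pos.ne'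
  haveI : Invertible (Nat.card (P : Subgroup G) : ℂ) := invertibleOfNonzero hPne
  have hsum := Representation.card_inv_mul_sum_char_eq_finrank σ
  have hsumval : ∑ y : (P : Subgroup G), σ.character y = (p : ℂ) := by
    rw [Finset.sum_eq_single (1 : (P : Subgroup G))]
    · show ρ.character ((1 : (P : Subgroup G)) : G) = p
      rw [Subgroup.coe_one, Representation.char_one, hfinp]
    · intro y _ hy
      exact hPvan y hy
    · intro h
      exact absurd (Finset.mem_univ _) h
  rw [hsumval] at hsum
  have h2 : (p : ℂ) = (Nat.card (P : Subgroup G) : ℂ)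
      * (finrank ℂ (Representation.invariants σ) : ℂ) := by
    rw [← hsum, ← mul_assoc, mul_inv_cancel₀ hPne, one_mul]
  have h3 : p = Nat.card (P : Subgroup G) * finrank ℂ (Representation.invariants σ) := by
    exact_mod_cast h2
  have h4 : Nat.card (P : Subgroup G) ∣ p := ⟨_, h3⟩
  have h5 : p ^ 2 ∣ p := hPdvd.trans h4
  have h6 : p ^ 2 ≤ p := Nat.le_of_dvd hp.pos h5
  have h7 : p < p ^ 2 := by
    calc p = p ^ 1 := (pow_one p).symm
      _ < p ^ 2 := Nat.pow_lt_pow_right hp.one_lt (by norm_num)
  omega

end Cfsg.Agent.S3968
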