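import Cfsg.Statements.S3970
import Mathlib
import Cfsg.Agent.Lib.Helper21.AbelianSylowAut

set_option autoImplicit false
open Cfsg

namespace Cfsg.Agent.S3970

universe u

theorem aux (n : ℕ) : ∀ (G : Type u) [Group G] [Finite G], Nat.card G = n →
    (∀ p : ℕ, p.Prime → p ∣ Nat.card G → (∃ q : ℕ, q.Prime ∧ q ∣ Nat.card G ∧ p < q) →
      ∀ P : Sylow p G, IsMulCommutative (P : Subgroup G) ∧ Group.rank (P : Subgroup G) ≤ 2) →
    ¬ 12 ∣ Nat.card G → Group.IsSolvable G := by
  induction n using Nat.strong_induction_on with
  | _ n ih =>
  intro G _ _ hn h h12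
  rcases Nat.lt_or_ge (Nat.card G) 2 with h1 | h1
  · have : Nat.card G = 1 := by
      have := Nat.card_pos (α := G)
      omega
    haveI : Subsingleton G := (Nat.card_eq_one_iff_unique.mp this).1
    infer_instance
  have hne1 : Nat.card G ≠ 1 := by omega
  obtain ⟨p, hpdef⟩ : ∃ p : ℕ, p = Nat.minFac (Nat.card G) := ⟨_, rfl⟩
  have hp : p.Prime := by rw [hpdef]; exact Nat.minFac_prime hne1
  have hpG : p ∣ Nat.card G := by rw [hpdef]; exact Nat.minFac_dvd _
  have hpmin : ∀ d : ℕ, d.Prime → d ∣ Nat.card G → p ≤ d := by
    intro d hd hdG
    rw [hpdef]; exact Nat.minFac_le_of_dvd hd.two_le hdG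
  haveI : Fact p.Prime := ⟨hp⟩
  by_cases hlarger : ∃ q : ℕ, q.Prime ∧ q ∣ Nat.card G ∧ p < q
  · -- case B
    have P : Sylow p G := default
    obtain ⟨hab, hrank⟩ := h p hp hpG hlarger P
    have hNC : Subgroup.normalizer ((P : Subgroup G) : Set G) ≤ Subgroup.centralizer ((P : Subgroup G) : Set G) := by
      by_contra hNC
      obtain ⟨q, i, hq, hqp, hqG, hi1, hi2, hi3, hi4⟩ :=
        Cfsg.Agent.Lib.Helper21.exists_prime_of_not_normalizer_le_centralizer P hab hNC
      have hpq : p < q := by
        have : p ≤ q := hpmin q hq hqG
        omega
      have hi : i = 1 ∨ i = 2 := by omega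
      rcases hi with rfl | rfl
      · rw [pow_one] at hi4
        have hpos : 0 < p - 1 := by have := hp.two_le; omega
        have := Nat.le_of_dvd hpos hi4
        omega
      · have e : p ^ 2 - 1 = (p - 1) * (p + 1) := by
          have h2p := hp.two_le
          obtain ⟨m, hm⟩ : ∃ m, p = m + 1 := ⟨p - 1, by omega⟩
          rw [hm]
          have h3 : (m + 1) ^ 2 = m * (m + 1 + 1) + 1 := by ring
          rw [h3, Nat.add_sub_cancel, Nat.add_sub_cancel]
        rw [e] at hi4
        rcases (Nat.Prime.dvd_mul hq).mp hi4 with h5 | h5
        · have hpos : 0 < p - 1 := by have := hp.two_le; omega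
          have := Nat.le_of_dvd hpos h5
          omega
        · have h6 := Nat.le_of_dvd (by omega) h5
          have hq' : q = p + 1 := by omega
          have hp2 : p = 2 := by
            rcases hp.eq_two_or_odd with h7 | h7
            · exact h7
            · exfalso
              have h8 : q % 2 = 0 := by omega
              have h9 : 2 ∣ q := Nat.dvd_of_mod_eq_zero h8
              have := (Nat.prime_dvd_prime_iff_eq Nat.prime_two hq).mp h9
              have := hp.two_le
              omega
          apply h12
          have h4G : 4 ∣ Nat.card G := by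
            have : p ^ 2 ∣ Nat.card G := hi3.trans (Subgroup.card_subgroup_dvd_card _)
            rw [hp2] at this
            exact this
          have h3G : 3 ∣ Nat.card G := by
            have : q = 3 := by omega
            rw [← this]; exact hqG
          have : (4 * 3) ∣ Nat.card G := Nat.Coprime.mul_dvd_of_dvd_of_dvd (by norm_num) h4G h3G
          exact this
    -- normal `p`-complement
    set K := (MonoidHom.transferSylow P hNC).ker with hK
    have hKc : K.IsComplement' (P : Subgroup G) := MonoidHom.ker_transferSylow_isComplement' P hNC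
    have hpK : ¬ p ∣ Nat.card K := MonoidHom.not_dvd_card_ker_transferSylow P hNC
    have hcard : Nat.card K * Nat.card (P : Subgroup G) = Nat.card G := hKc.card_mul_card
    have hKdvd : Nat.card K ∣ Nat.card G := Subgroup.card_subgroup_dvd_card K
    have hPcard : 1 < Nat.card (P : Subgroup G) := by
      have hPne : (P : Subgroup G) ≠ ⊥ := P.ne_bot_of_dvd_card hpG
      have h2 : Nat.card (P : Subgroup G) ≠ 1 := fun h => hPne (Subgroup.eq_bot_of_card_eq _ h)
      have := Nat.card_pos (α := (P : Subgroup G))
      omega
    have hKlt : Nat.card K < n := by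
      rw [← hn, ← hcard]
      have := Nat.card_pos (α := K)
      nlinarith
    haveI hKsol : Group.IsSolvable K := by
      apply ih (Nat.card K) hKlt K rfl
      · intro r hr hrK hlarger' R
        haveI : Fact r.Prime := ⟨hr⟩
        have hrp : r ≠ p := by rintro rfl; exact hpK hrK
        obtain ⟨q, hq, hqK, hrq⟩ := hlarger'
        -- the image of `R` in `G` is a Sylow subgroup
        have hfac : (Nat.card G).factorization r = (Nat.card K).factorization r := by
          obtain ⟨a, ha⟩ := IsPGroup.iff_card.mp P.2
          rw [← hcard, ha, Nat.factorization_mul Nat.card_pos.ne' (pow_ne_zero _ hp.ne_zero),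
            Nat.factorization_pow]
          simp only [Finsupp.coe_add, Finsupp.coe_smul, Pi.add_apply, Pi.smul_apply, smul_eq_mul]
          rw [Nat.factorization_eq_zero_of_not_dvd (p := r) (n := p), mul_zero, add_zero]
          intro hdvd
          exact hrp ((Nat.prime_dvd_prime_iff_eq hr hp).mp hdvd)
        have hRcard : Nat.card ((R : Subgroup K).map K.subtype) = r ^ (Nat.card G).factorization r := by
          rw [Subgroup.card_map_of_injective K.subtype_injective, hfac]
          exact R.card_eq_multiplicity
        obtain ⟨hab', hrank'⟩ := h r hr (hrK.trans hKdvd) ⟨q, hq, hqK.trans hKdvd, hrq⟩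
          (Sylow.ofCard _ hRcard)
        rw [Sylow.coe_ofCard] at hab' hrank'
        let e : ↥(R : Subgroup K) ≃* ↥((R : Subgroup K).map K.subtype) :=
          (R : Subgroup K).equivMapOfInjective K.subtype K.subtype_injective
        constructor
        · refine ⟨⟨fun a b => ?_⟩⟩
          apply e.injective
          rw [map_mul, map_mul]
          exact hab'.is_comm.comm (e a) (e b)
        · rw [Group.rank_congr e]
          exact hrank'
      · intro h12K
        exact h12 (h12K.trans hKdvd)
    -- the quotient is a `p`-group
    haveI : K.Normal := by rw [hK]; infer_instance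
    haveI : Group.IsSolvable (G ⧸ K) := by
      have hq : IsPGroup p (G ⧸ K) := by
        obtain ⟨a, ha⟩ := IsPGroup.iff_card.mp P.2
        apply IsPGroup.of_card (n := a)
        have h3 : Nat.card (G ⧸ K) * Nat.card K = Nat.card G := by
          rw [mul_comm]; exact (Subgroup.card_eq_card_quotient_mul_card_subgroup K).symm ▸ (mul_comm _ _)
        have hKpos := Nat.card_pos (α := K)
        have : Nat.card (G ⧸ K) = Nat.card (P : Subgroup G) := by
          apply Nat.eq_of_mul_eq_mul_right hKpos
          rw [h3, ← hcard, mul_comm]
        rw [this, ha]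
      haveI := hq.isNilpotent
      infer_instance
    exact Group.isSolvable_of_ker_le_range K.subtype (QuotientGroup.mk' K)
      (by rw [QuotientGroup.ker_mk', Subgroup.range_subtype])
  · -- case A: a `p`-group
    push Not at hlarger
    have hpg : IsPGroup p G := by
      apply IsPGroup.of_card (n := (Nat.card G).primeFactorsList.length)
      apply Nat.eq_prime_pow_of_unique_prime_dvd Nat.card_pos.ne'
      intro d hd hdG
      have h2 : p ≤ d := hpmin d hd hdG
      have h3 := hlarger d hd hdG
      omega
    haveI := hpg.isNilpotent
    infer_instance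

/-- Let `G` be a finite group such that for every prime `p` dividing its order, other than the largest such prime, the Sylow `p`-subgroups are abelian and generated by at most two elements, and suppose `12` does not divide the order of `G`. Then `G` is solvable. In particular a group of cube-free order not divisible by `12` is solvable. -/
theorem result {G : Type*} [Group G] [Finite G] (h : ∀ p : ℕ, p.Prime → p ∣ Nat.card G → (∃ q : ℕ, q.Prime ∧ q ∣ Nat.card G ∧ p < q) → ∀ P : Sylow p G, IsMulCommutative (P : Subgroup G) ∧ Group.rank (P : Subgroup G) ≤ 2) (h12 : ¬ 12 ∣ Nat.card G) : Group.IsSolvable G := by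
  exact aux (Nat.card G) G rfl h h12

end Cfsg.Agent.S3970
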