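import Cfsg.Statements.S3971
import Mathlib
import Cfsg.Agent.Lib.Helper21.PGroupAut
import Cfsg.Agent.Lib.Helper13.Frobenius
import Cfsg.Agent.S3824

set_option autoImplicit false
open Cfsg

namespace Cfsg.Agent.S3971

/-- a subgroup of a group `P` having a cyclic subgroup `C₀` with `|P| ≤ 2 |C₀|` is 2-generated -/
theorem rank_le_two {G : Type*} [Group G] [Finite G] (P Q : Subgroup G) (x₀ : G)
    (hx₀ : x₀ ∈ P) (hcard : Nat.card P ≤ 2 * orderOf x₀) (hQP : Q ≤ P) : Group.rank ↥Q ≤ 2 := by
  classical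
  set C₀ := Subgroup.zpowers x₀ with hC₀
  have hC₀P : C₀ ≤ P := by rw [hC₀, Subgroup.zpowers_le]; exact hx₀
  set D := Q ⊓ C₀ with hD
  haveI : IsCyclic ↥D := Subgroup.isCyclic_of_le (inf_le_right : D ≤ C₀)
  obtain ⟨y, hyD, hDy⟩ : ∃ y : G, y ∈ D ∧ D = Subgroup.zpowers y := by
    obtain ⟨y, hy⟩ := IsCyclic.exists_generator (α := ↥D)
    refine ⟨y, y.2, ?_⟩
    apply le_antisymm
    · intro d hd
      obtain ⟨j, hj⟩ := Subgroup.mem_zpowers_iff.mp (hy ⟨d, hd⟩)
      refine Subgroup.mem_zpowers_iff.mpr ⟨j, ?_⟩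
      have := congrArg Subtype.val hj
      simpa using this
    · rw [Subgroup.zpowers_le]; exact y.2
  -- index bound
  have hidx : D.relIndex Q ≤ 2 := by
    rw [hD, Subgroup.inf_relIndex_left]
    have h1 : C₀.relIndex Q ≤ C₀.relIndex P := by
      apply Subgroup.relIndex_le_of_le_right hQP
      have : (C₀.subgroupOf P).FiniteIndex := inferInstance
      exact this.index_ne_zero
    have h2 := Cfsg.Agent.S3824.card_mul_relIndex' hC₀P
    rw [hC₀, Nat.card_zpowers] at h2
    have hpos := orderOf_pos x₀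
    have h3 : C₀.relIndex P ≤ 2 := by
      by_contra hlt
      push Not at hlt
      have : 3 ≤ (Subgroup.zpowers x₀).relIndex P := hlt
      nlinarith
    exact h1.trans h3
  have hDQ : D ≤ Q := inf_le_left
  have hcardQ : Nat.card Q ≤ 2 * Nat.card D := by
    have := Cfsg.Agent.S3824.card_mul_relIndex' hDQ
    have hpos := Nat.card_pos (α := D)
    nlinarith
  -- choose `z`
  obtain ⟨z, hzQ, hz⟩ : ∃ z ∈ Q, (Q ≤ C₀ ∨ z ∉ C₀) := by
    by_cases hQC : Q ≤ C₀
    · exact ⟨1, Q.one_mem, Or.inl hQC⟩
    · obtain ⟨z, hzQ, hzC⟩ := SetLike.not_le_iff_exists.mp hQC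
      exact ⟨z, hzQ, Or.inr hzC⟩
  have hyQ : y ∈ Q := hDQ hyD
  have hT : Subgroup.closure ({y, z} : Set G) = Q := by
    have hTle : Subgroup.closure ({y, z} : Set G) ≤ Q := by
      rw [Subgroup.closure_le]
      rintro w (rfl | hw)
      · exact hyQ
      · rw [Set.mem_singleton_iff] at hw; rw [hw]; exact hzQ
    have hDT : D ≤ Subgroup.closure ({y, z} : Set G) := by
      rw [hDy, Subgroup.zpowers_le]
      exact Subgroup.subset_closure (by simp)
    rcases hz with hQC | hzC
    · apply le_antisymm hTle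
      have : Q ≤ D := le_inf le_rfl hQC
      exact this.trans hDT
    · apply Subgroup.eq_of_le_of_card_ge hTle
      have hzT : z ∈ Subgroup.closure ({y, z} : Set G) := Subgroup.subset_closure (by simp)
      have hne : D ≠ Subgroup.closure ({y, z} : Set G) := by
        intro h
        rw [← h] at hzT
        exact hzC (inf_le_right (a := Q) hzT)
      have hdvd : Nat.card D ∣ Nat.card (Subgroup.closure ({y, z} : Set G)) :=
        Subgroup.card_dvd_of_le hDT
      have hlt : Nat.card D < Nat.card (Subgroup.closure ({y, z} : Set G)) := by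
        rcases lt_or_ge (Nat.card D) (Nat.card (Subgroup.closure ({y, z} : Set G))) with h | h
        · exact h
        · exact absurd (Subgroup.eq_of_le_of_card_ge hDT h) hne
      obtain ⟨c, hc⟩ := hdvd
      have hposD := Nat.card_pos (α := D)
      have hc2 : 2 ≤ c := by
        by_contra hc1
        have : c = 0 ∨ c = 1 := by omega
        rcases this with rfl | rfl
        · rw [mul_zero] at hc; omega
        · rw [mul_one] at hc; omega
      rw [hc]
      nlinarith
  -- the rank
  let S : Finset ↥Q := {⟨y, hyQ⟩, ⟨z, hzQ⟩}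
  have hS : Subgroup.closure (S : Set ↥Q) = ⊤ := by
    apply Subgroup.map_injective Q.subtype_injective
    rw [MonoidHom.map_closure, ← MonoidHom.range_eq_map, Subgroup.range_subtype]
    refine Eq.trans ?_ hT
    congr 1
    ext w
    simp only [S, Finset.coe_insert, Finset.coe_singleton, Set.mem_image, Set.mem_insert_iff,
      Set.mem_singleton_iff, Subgroup.subtype_apply]
    constructor
    · rintro ⟨w', (rfl | rfl), rfl⟩
      · exact Or.inl rfl
      · exact Or.inr rfl
    · rintro (h | h)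
      · exact ⟨⟨y, hyQ⟩, Or.inl rfl, h.symm⟩
      · exact ⟨⟨z, hzQ⟩, Or.inr rfl, h.symm⟩
  exact (Group.rank_le hS).trans Finset.card_le_two

/-- Let `G` be a finite group of order `2 ^ a * n` with `n` odd and not divisible by `3`, and suppose `G` has an element of order `2 ^ (a - 1)` (so a Sylow `2`-subgroup has a cyclic subgroup of index at most `2`). Then `G` has a normal subgroup of order `n`. -/
theorem result {G : Type*} [Group G] [Finite G] (a n : ℕ) (hG : Nat.card G = 2 ^ a * n) (hn : Odd n) (h3 : ¬ 3 ∣ n) (hx : ∃ x : G, orderOf x = 2 ^ (a - 1)) : ∃ N : Subgroup G, N.Normal ∧ Nat.card N = n := by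
  haveI : Fact (Nat.Prime 2) := ⟨Nat.prime_two⟩
  obtain ⟨x₀, hx₀⟩ := hx
  have hz : IsPGroup 2 (Subgroup.zpowers x₀) :=
    IsPGroup.of_card (n := a - 1) (by rw [Nat.card_zpowers, hx₀])
  obtain ⟨P, hP⟩ := hz.exists_le_sylow
  have hx₀P : x₀ ∈ (P : Subgroup G) := hP (Subgroup.mem_zpowers x₀)
  have hn0 : n ≠ 0 := by rintro rfl; exact (Nat.not_odd_iff_even.mpr (by decide)) hn
  have hPcard : Nat.card (P : Subgroup G) = 2 ^ a := by
    rw [P.card_eq_multiplicity, hG, Nat.factorization_mul (pow_ne_zero _ (by norm_num)) hn0,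
      Nat.Prime.factorization_pow Nat.prime_two]
    have : n.factorization 2 = 0 := by
      apply Nat.factorization_eq_zero_of_not_dvd
      intro h
      exact (Nat.not_even_iff_odd.mpr hn) (even_iff_two_dvd.mpr h)
    simp [this]
  have hcardle : Nat.card (P : Subgroup G) ≤ 2 * orderOf x₀ := by
    rw [hPcard, hx₀]
    rcases Nat.eq_zero_or_pos a with rfl | ha
    · norm_num
    · have : a = (a - 1) + 1 := by omega
      conv_lhs => rw [this, pow_succ]
      omega
  have hLC : Cfsg.Agent.Lib.Helper13.LocalCentral 2 G := by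
    apply Cfsg.Agent.Lib.Helper13.localCentral_of_sylow P
    intro Q hQP g hgN hcop
    by_contra hgC
    obtain ⟨q, i, hq, hqg, hi1, hi2, _, hi4⟩ :=
      Cfsg.Agent.Lib.Helper21.exists_dvd_of_not_mem_centralizer Q (P.2.to_le hQP) g hgN hgC hcop
    have hr := rank_le_two (P : Subgroup G) Q x₀ hx₀P hcardle hQP
    have hi : i = 1 ∨ i = 2 := by omega
    rcases hi with rfl | rfl
    · norm_num at hi4
      exact hq.one_lt.ne' hi4
    · norm_num at hi4
      have hq3 : q = 3 := (Nat.prime_dvd_prime_iff_eq hq Nat.prime_three).mp hi4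
      subst hq3
      have h1 : 3 ∣ Nat.card G := hqg.trans (orderOf_dvd_natCard g)
      rw [hG] at h1
      have hcop3 : Nat.Coprime 3 (2 ^ a) := Nat.Coprime.pow_right _ (by norm_num)
      exact h3 (hcop3.dvd_of_dvd_mul_left h1)
  obtain ⟨K, hKn, hKc⟩ := Cfsg.Agent.Lib.Helper13.exists_normal_complement_of_localCentral hLC P
  refine ⟨K, hKn, ?_⟩
  have := hKc.card_mul_card
  rw [hPcard, hG, mul_comm] at this
  exact Nat.eq_of_mul_eq_mul_left (by positivity) this

end Cfsg.Agent.S3971
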