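import Cfsg.Statements.S3972
import Mathlib
import Cfsg.Agent.Lib.Helper20.SchurRing

set_option autoImplicit false
open Cfsg

namespace Cfsg.Agent.S3972

open Cfsg.Agent.Lib.Helper20.SchurRing
open scoped Pointwise

theorem not_trans_normalClosure {G Ω K : Type*} [Group G] [MulAction G Ω] [CommGroup K]
    {ι : K →* G} {ω₀ : Ω} (hreg : IsReg ι ω₀) (L : Subgroup K) (hL : InvSet ι ω₀ (L : Set K))
    (hLtop : L ≠ ⊤) (zK : K) (hz : zK ∈ L) :
    ¬ MulAction.IsPretransitive (Subgroup.normalClosure ({ι zK} : Set G)) Ω := by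
  have hconj : ∀ b : G, (b * ι zK * b⁻¹) • blockOf ι ω₀ L = blockOf ι ω₀ L := by
    intro b
    obtain ⟨k, hk⟩ := hreg.exists (b⁻¹ • ω₀)
    have h1 : b⁻¹ • blockOf ι ω₀ L = ι k • blockOf ι ω₀ L := smul_blockOf hreg L hL b⁻¹ k hk
    calc (b * ι zK * b⁻¹) • blockOf ι ω₀ L = b • ι zK • b⁻¹ • blockOf ι ω₀ L := by
          rw [mul_smul, mul_smul]
      _ = b • ι zK • ι k • blockOf ι ω₀ L := by rw [h1]
      _ = b • ι (zK * k) • blockOf ι ω₀ L := by rw [map_mul, mul_smul]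
      _ = b • ι (k * zK) • blockOf ι ω₀ L := by rw [mul_comm]
      _ = b • ι k • ι zK • blockOf ι ω₀ L := by rw [map_mul, mul_smul]
      _ = b • ι k • blockOf ι ω₀ L := by rw [smul_blockOf_of_mem L hz]
      _ = b • b⁻¹ • blockOf ι ω₀ L := by rw [h1]
      _ = blockOf ι ω₀ L := smul_inv_smul b _
  have hle : Subgroup.normalClosure ({ι zK} : Set G) ≤
      MulAction.stabilizer G (blockOf ι ω₀ L) := by
    have h1 : Subgroup.normalClosure ({ι zK} : Set G) ≤
        (MulAction.stabilizer G (blockOf ι ω₀ L)).normalCore := by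
      apply Subgroup.normalClosure_le_normal
      rw [Set.singleton_subset_iff]
      show ∀ b : G, b * ι zK * b⁻¹ ∈ MulAction.stabilizer G (blockOf ι ω₀ L)
      intro b
      exact MulAction.mem_stabilizer_iff.mpr (hconj b)
    exact h1.trans (Subgroup.normalCore_le _)
  intro htr
  apply hLtop
  rw [eq_top_iff]
  intro k _
  obtain ⟨n, hn⟩ := htr.exists_smul_eq ω₀ (ι k • ω₀)
  have hnB : (n : G) • blockOf ι ω₀ L = blockOf ι ω₀ L :=
    MulAction.mem_stabilizer_iff.mp (hle n.2)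
  have hω₀B : ω₀ ∈ blockOf ι ω₀ L := mem_blockOf.mpr ⟨1, L.one_mem, by rw [map_one, one_smul]⟩
  have h1 : (n : G) • ω₀ ∈ (n : G) • blockOf ι ω₀ L := Set.smul_mem_smul_set hω₀B
  rw [hnB] at h1
  have h2 : (n : G) • ω₀ = ι k • ω₀ := hn
  rw [h2] at h1
  obtain ⟨l, hl, e⟩ := mem_blockOf.mp h1
  rw [← hreg.inj e]
  exact hl

theorem burnside_A {G Ω K : Type*} [Group G] [MulAction G Ω] [CommGroup K] [Finite K]
    [IsCyclic K] (ι : K →* G) (ω₀ : Ω) (hreg : IsReg ι ω₀) (p : ℕ) [hp : Fact p.Prime] (m : ℕ)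
    (hm : 2 ≤ m) (hcard : Nat.card K = p ^ m)
    (h2 : ¬ MulAction.IsMultiplyPretransitive G Ω 2) (zK : K) (hz : zK ^ p = 1) :
    ¬ MulAction.IsPreprimitive G Ω ∧
      ¬ MulAction.IsPretransitive (Subgroup.normalClosure ({ι zK} : Set G)) Ω := by
  have hK : IsPGroup p K := IsPGroup.of_card hcard
  have hpdvd : p ∣ Nat.card K := by
    rw [hcard]
    exact dvd_pow_self p (by omega)
  have hker := card_powKer_of_cyclic (K := K) p hpdvd
  have htop : (powMonoidHom p : K →* K).ker ≠ ⊤ := by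
    intro h
    have h3 : Nat.card K = p := by
      rw [← hker, h, Subgroup.card_top]
    rw [hcard] at h3
    have h4 : p ^ 1 < p ^ m := Nat.pow_lt_pow_right hp.out.one_lt (by omega)
    rw [pow_one] at h4
    omega
  obtain ⟨L, hL, hLbot, hLtop⟩ :
      ∃ L : Subgroup K, InvSet ι ω₀ (L : Set K) ∧ L ≠ ⊥ ∧ L ≠ ⊤ := by
    by_contra hcon
    push Not at hcon
    apply h2
    apply two_trans hreg
    apply main hreg _ p _ (mem_powKer p) hker htop
    intro L hL
    by_cases hb : L = ⊥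
    · exact Or.inl hb
    · exact Or.inr (hcon L hL hb)
  refine ⟨fun hprim => ?_, ?_⟩
  · rcases prim_of_preprimitive hreg hprim L hL with h | h
    · exact hLbot h
    · exact hLtop h
  · have hzL : zK ∈ L := powKer_le_of_ne_bot p hK hker L hLbot ((mem_powKer p zK).mpr hz)
    exact not_trans_normalClosure hreg L hL hLtop zK hzL

theorem reg_of_cyclic_pgroup {G Ω K : Type*} [Group G] [MulAction G Ω] [Finite Ω] [CommGroup K]
    [Finite K] [IsCyclic K] (ι : K →* G) (ω₀ : Ω) (p : ℕ) [hp : Fact p.Prime] (m : ℕ)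
    (hm : 1 ≤ m) (hcard : Nat.card K = p ^ m) (hΩ : Nat.card Ω = p ^ m) (zK : K)
    (hz : zK ^ p = 1) (hmove : ι zK • ω₀ ≠ ω₀) : IsReg ι ω₀ := by
  classical
  have hK : IsPGroup p K := IsPGroup.of_card hcard
  have hpdvd : p ∣ Nat.card K := by
    rw [hcard]
    exact dvd_pow_self p (by omega)
  have hker := card_powKer_of_cyclic (K := K) p hpdvd
  have hSbot : (MulAction.stabilizer G ω₀).comap ι = ⊥ := by
    by_contra hne
    have h1 := powKer_le_of_ne_bot p hK hker _ hne ((mem_powKer p zK).mpr hz)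
    rw [Subgroup.mem_comap, MulAction.mem_stabilizer_iff] at h1
    exact hmove h1
  have hinj : Function.Injective (fun k : K => ι k • ω₀) := by
    intro a b hab
    have h1 : b⁻¹ * a ∈ (MulAction.stabilizer G ω₀).comap ι := by
      rw [Subgroup.mem_comap, MulAction.mem_stabilizer_iff, map_mul, map_inv, mul_smul]
      have h2 : ι a • ω₀ = ι b • ω₀ := hab
      rw [h2, inv_smul_smul]
    rw [hSbot, Subgroup.mem_bot] at h1
    exact (inv_mul_eq_one.mp h1).symm
  have hbij : Function.Bijective (fun k : K => ι k • ω₀) := by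
    rw [Nat.bijective_iff_injective_and_card]
    exact ⟨hinj, by rw [hcard, hΩ]⟩
  intro ω
  obtain ⟨k, hk⟩ := hbij.surjective ω
  exact ⟨k, hk, fun k' hk' => hinj (hk'.trans hk.symm)⟩

theorem result {Ω : Type*} [Fintype Ω] [DecidableEq Ω] (p m : ℕ) (hp : p.Prime) (hm : 2 ≤ m) (hΩ : Fintype.card Ω = p ^ m) (G : Subgroup (Equiv.Perm Ω)) (htr : MulAction.IsPretransitive G Ω) (h2 : ¬ MulAction.IsMultiplyPretransitive G Ω 2) (g : G) (hg : orderOf g = p ^ m) : ¬ MulAction.IsPreprimitive G Ω ∧ ¬ MulAction.IsPretransitive (Subgroup.normalClosure ({g ^ (p ^ (m - 1))} : Set G)) Ω := by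
  classical
  haveI : Fact p.Prime := ⟨hp⟩
  have hm1 : 1 ≤ m := by omega
  have hz1 : g ^ (p ^ (m - 1)) ≠ 1 := by
    intro h
    have h3 := orderOf_dvd_of_pow_eq_one h
    rw [hg] at h3
    have h4 := Nat.le_of_dvd (Nat.pow_pos hp.pos) h3
    have h5 : p ^ (m - 1) < p ^ m := Nat.pow_lt_pow_right hp.one_lt (by omega)
    omega
  obtain ⟨ω₀, hω₀⟩ : ∃ ω₀ : Ω, (g ^ (p ^ (m - 1))) • ω₀ ≠ ω₀ := by
    by_contra hcon
    push Not at hcon
    apply hz1
    apply Subtype.ext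
    apply Equiv.Perm.ext
    intro ω
    exact hcon ω
  have hcomm : ∀ a b : ↥(Subgroup.zpowers g), a * b = b * a := fun a b =>
    (IsCyclic.isMulCommutative (α := ↥(Subgroup.zpowers g))).is_comm.comm a b
  have hcardK : Nat.card ↥(Subgroup.zpowers g) = p ^ m := by
    rw [Nat.card_zpowers, hg]
  have hΩ' : Nat.card Ω = p ^ m := by
    rw [Nat.card_eq_fintype_card, hΩ]
  have hzmem : g ^ (p ^ (m - 1)) ∈ Subgroup.zpowers g :=
    Subgroup.pow_mem _ (Subgroup.mem_zpowers g) _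
  have hzK : (⟨g ^ (p ^ (m - 1)), hzmem⟩ : ↥(Subgroup.zpowers g)) ^ p = 1 := by
    apply Subtype.ext
    rw [Subgroup.coe_pow, Subgroup.coe_one]
    show (g ^ (p ^ (m - 1))) ^ p = 1
    rw [← pow_mul, ← pow_succ, Nat.sub_add_cancel hm1, ← hg, pow_orderOf_eq_one]
  have hcyc : IsCyclic ↥(Subgroup.zpowers g) := inferInstance
  have hfin : Finite ↥(Subgroup.zpowers g) := inferInstance
  have hreg := @reg_of_cyclic_pgroup ↥G Ω ↥(Subgroup.zpowers g) _ _ _
    { (inferInstance : Group ↥(Subgroup.zpowers g)) with mul_comm := hcomm } hfin hcyc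
    (Subgroup.zpowers g).subtype ω₀ p _ m hm1 hcardK hΩ' ⟨g ^ (p ^ (m - 1)), hzmem⟩ hzK hω₀
  exact @burnside_A ↥G Ω ↥(Subgroup.zpowers g) _ _
    { (inferInstance : Group ↥(Subgroup.zpowers g)) with mul_comm := hcomm } hfin hcyc
    (Subgroup.zpowers g).subtype ω₀ hreg p _ m hm hcardK h2 ⟨g ^ (p ^ (m - 1)), hzmem⟩ hzK

end Cfsg.Agent.S3972
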