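import Mathlib
import Cfsg.Statements.S3973
import Cfsg.Agent.Lib.Helper12.SchurRank

set_option autoImplicit false
set_option linter.style.haveILetI false
open Cfsg

namespace Cfsg.Agent.S3973

open Cfsg.Agent.Lib.Helper12.Schur

/-- If a finite group is presented by `n` generators and a finite set of `r` relators, then its Schur multiplier can be generated by `r - n` elements. In particular a finite group with a presentation having as many relators as generators has trivial Schur multiplier. -/
theorem result (n : ℕ) (rels : Finset (FreeGroup (Fin n))) [Finite (PresentedGroup (rels : Set (FreeGroup (Fin n))))] {A : Type*} [CommGroup A] [Finite A] (hA : Cfsg.HasSchurMultiplier (PresentedGroup (rels : Set (FreeGroup (Fin n)))) A) : Group.rank A ≤ rels.card - n := by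
  obtain ⟨π, hπdef⟩ : ∃ π : FreeGroup (Fin n) →* PresentedGroup (rels : Set (FreeGroup (Fin n))),
      π = PresentedGroup.mk _ := ⟨_, rfl⟩
  have hπ : Function.Surjective π := by rw [hπdef]; exact PresentedGroup.mk_surjective _
  have hker : π.ker = Subgroup.normalClosure (rels : Set (FreeGroup (Fin n))) := by
    ext x
    rw [MonoidHom.mem_ker, hπdef]
    exact PresentedGroup.mk_eq_one_iff
  obtain ⟨S, hS1, hS2⟩ := exists_generators_covT π rels hker
  obtain ⟨e⟩ := mulEquiv_of_hasSchurMultiplier hA (hasSchurMultiplier_covT π hπ)
  haveI : Finite (covT π) := finite_covT π hπ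
  have h1 : Group.rank A = Group.rank (covT π) := Group.rank_congr e
  have h2 : Group.rank (covT π) ≤ S.card := by
    have h3 := Subgroup.rank_closure_finset_le_card S
    rwa [← Subgroup.rank_congr hS1] at h3
  rw [Fintype.card_fin] at hS2
  omega

end Cfsg.Agent.S3973
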