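import Mathlib
import Cfsg.Statements.S3974
import Cfsg.Agent.Lib.Helper12.SchurBasic
import Cfsg.Agent.Lib.Helper12.SchurCover
import Cfsg.Agent.Lib.Helper12.SchurMore
import Cfsg.Agent.Lib.Helper12.SchurProj

set_option autoImplicit false
set_option linter.style.haveILetI false
set_option linter.unusedSectionVars false
universe u v
open Cfsg
open scoped commutatorElement
open Cfsg.Agent.Lib.Helper12.Schur

namespace Cfsg.Agent.S3974

/-- extension of a hom from a "complement" `S` to all of `E`, values in a group of order coprime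
to the index -/
theorem extend_coprime {E : Type*} [Group E] (S : Subgroup E) (hS : S ⊓ commutator E = ⊥) (m : ℕ)
    (hm : ∀ x : E, ∃ s ∈ S,
      (Abelianization.of s : Abelianization E) = (Abelianization.of x) ^ m)
    {K : Type*} [CommGroup K] (hcop : Nat.Coprime m (Nat.card K)) (g : S →* K) :
    ∃ κ : E →* K, ∀ s : S, κ (s : E) = g s := by
  have inj : ∀ s ∈ S, ∀ s' ∈ S,
      (Abelianization.of s : Abelianization E) = Abelianization.of s' → s = s' := by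
    intro s hs s' hs' h
    have h1 : s⁻¹ * s' ∈ S ⊓ commutator E := by
      refine Subgroup.mem_inf.mpr ⟨S.mul_mem (S.inv_mem hs) hs', ?_⟩
      rw [← Abelianization.ker_of, MonoidHom.mem_ker, map_mul, map_inv, h, inv_mul_cancel]
    rw [hS, Subgroup.mem_bot] at h1
    exact inv_mul_eq_one.mp h1
  choose r hr1 hr2 using hm
  let rS : E →* S :=
    { toFun := fun x => ⟨r x, hr1 x⟩
      map_one' := Subtype.ext (inj _ (hr1 1) _ S.one_mem (by
        show Abelianization.of (r 1) = Abelianization.of (1 : E)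
        rw [hr2, map_one, one_pow]))
      map_mul' := fun x y => Subtype.ext (inj _ (hr1 _) _ (S.mul_mem (hr1 x) (hr1 y)) (by
        show Abelianization.of (r (x * y)) = Abelianization.of (r x * r y)
        rw [hr2, map_mul, map_mul, hr2, hr2, mul_pow])) }
  have hrS : ∀ s : S, rS (s : E) = s ^ m := by
    intro s
    apply Subtype.ext
    have h0 : ((s ^ m : S) : E) = (s : E) ^ m := rfl
    rw [h0]
    exact inj _ (hr1 _) _ (S.pow_mem s.2 m) (by rw [hr2, map_pow])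
  have hbez : (1 : ℤ) = (m : ℤ) * Nat.gcdA m (Nat.card K) +
      (Nat.card K : ℤ) * Nat.gcdB m (Nat.card K) := by
    rw [← Nat.gcd_eq_gcd_ab, hcop.gcd_eq_one]
    simp
  refine ⟨(zpowGroupHom (Nat.gcdA m (Nat.card K))).comp (g.comp rS), ?_⟩
  intro s
  have hn : g s ^ (Nat.card K) = 1 := pow_card_eq_one'
  calc (zpowGroupHom (Nat.gcdA m (Nat.card K))).comp (g.comp rS) (s : E)
      = (g (rS (s : E))) ^ (Nat.gcdA m (Nat.card K)) := rfl
    _ = (g s ^ m) ^ (Nat.gcdA m (Nat.card K)) := by rw [hrS, map_pow]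
    _ = g s ^ ((m : ℤ) * Nat.gcdA m (Nat.card K) +
          (Nat.card K : ℤ) * Nat.gcdB m (Nat.card K)) := by
        rw [zpow_add, zpow_mul, zpow_mul, zpow_natCast, zpow_natCast, hn, one_zpow, mul_one]
    _ = g s := by rw [← hbez, zpow_one]

/-- product of a hom with a central-valued hom -/
def mulCentral {E Γ : Type*} [Group E] [Group Γ] (φ c : E →* Γ)
    (hc : ∀ x, c x ∈ Subgroup.center Γ) : E →* Γ :=
  { toFun := fun x => φ x * c x
    map_one' := by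
      show φ 1 * c 1 = 1
      rw [map_one, map_one, mul_one]
    map_mul' := fun x y => by
      show φ (x * y) * c (x * y) = φ x * c x * (φ y * c y)
      have h := Subgroup.mem_center_iff.mp (hc x) (φ y)
      rw [map_mul, map_mul]
      calc φ x * φ y * (c x * c y) = φ x * (φ y * c x) * c y := by group
        _ = φ x * (c x * φ y) * c y := by rw [h]
        _ = φ x * c x * (φ y * c y) := by group }

/-- quotient of two homs differing by central elements -/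
def divHom {E Γ : Type*} [Group E] [Group Γ] (f g : E →* Γ)
    (h : ∀ x, (g x)⁻¹ * f x ∈ Subgroup.center Γ) : E →* Γ :=
  { toFun := fun x => (g x)⁻¹ * f x
    map_one' := by
      show (g 1)⁻¹ * f 1 = 1
      rw [map_one, map_one, inv_one, one_mul]
    map_mul' := fun x y => by
      show (g (x * y))⁻¹ * f (x * y) = (g x)⁻¹ * f x * ((g y)⁻¹ * f y)
      have hc := Subgroup.mem_center_iff.mp (h x) (g y)⁻¹
      rw [map_mul, map_mul, mul_inv_rev]
      calc (g y)⁻¹ * (g x)⁻¹ * (f x * f y) = ((g y)⁻¹ * ((g x)⁻¹ * f x)) * f y := by group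
        _ = (((g x)⁻¹ * f x) * (g y)⁻¹) * f y := by rw [hc]
        _ = (g x)⁻¹ * f x * ((g y)⁻¹ * f y) := by group }

theorem backward {Q : Type u} [Group Q] [Finite Q] {A : Type v} [CommGroup A]
    (hA : Cfsg.HasSchurMultiplier Q A)
    (hcop : Nat.Coprime (Nat.card (Abelianization Q)) (Nat.card A))
    (Γ₁ Γ₂ : Type u) [Group Γ₁] [Finite Γ₁] [Group Γ₂] [Finite Γ₂] (σ₁ : Γ₁ →* Q) (σ₂ : Γ₂ →* Q)
    (h₁ : Cfsg.IsStemExtension σ₁) (h₂ : Cfsg.IsStemExtension σ₂)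
    (k₁ : Nonempty (σ₁.ker ≃* A)) (k₂ : Nonempty (σ₂.ker ≃* A)) :
    ∃ e : Γ₁ ≃* Γ₂, σ₂.comp e.toMonoidHom = σ₁ := by
  obtain ⟨π, hπdef⟩ : ∃ π : FreeGroup Q →* Q, π = FreeGroup.lift id := ⟨_, rfl⟩
  have hπ : Function.Surjective π := by rw [hπdef]; exact lift_id_surjective Q
  obtain ⟨φ₁, hφ₁⟩ := exists_lift π σ₁ h₁.1 h₁.2.1
  obtain ⟨φ₂, hφ₂⟩ := exists_lift π σ₂ h₂.1 h₂.2.1
  have hφ₁' : ∀ x, σ₁ (φ₁ x) = covρ π x := fun x => DFunLike.congr_fun hφ₁ x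
  have hφ₂' : ∀ x, σ₂ (φ₂ x) = covρ π x := fun x => DFunLike.congr_fun hφ₂ x
  have hs₁ := lift_surjective π hπ σ₁ h₁ φ₁ hφ₁
  have hS₁ := ker_lift_inf_commutator π hπ hA σ₁ h₁ k₁ φ₁ hφ₁
  obtain ⟨e₁⟩ := k₁
  obtain ⟨e₂⟩ := k₂
  have hρs := covρ_surjective π hπ
  have hm : ∀ x : CovE π, ∃ s ∈ φ₁.ker,
      (Abelianization.of s : Abelianization (CovE π)) =
        (Abelianization.of x) ^ (Nat.card (Abelianization Q)) := by
    intro x
    have h1 : (Abelianization.of (covρ π x) : Abelianization Q) ^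
        Nat.card (Abelianization Q) = 1 := pow_card_eq_one'
    rw [← map_pow, ← map_pow, ← MonoidHom.mem_ker, Abelianization.ker_of,
      ← map_commutator_of_surj (covρ π) hρs] at h1
    obtain ⟨c, hc, hcx⟩ := h1
    have ha : φ₁ (c⁻¹ * x ^ Nat.card (Abelianization Q)) ∈ σ₁.ker := by
      rw [MonoidHom.mem_ker, hφ₁', map_mul, map_inv, hcx, inv_mul_cancel]
    obtain ⟨t, ht, htk⟩ := exists_mem_covT_of_mem_ker π hπ σ₁ h₁ φ₁ hφ₁ _ ha
    refine ⟨c⁻¹ * x ^ Nat.card (Abelianization Q) * t⁻¹, ?_, ?_⟩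
    · rw [MonoidHom.mem_ker, map_mul, map_inv, htk, mul_inv_cancel]
    · have hc' : (Abelianization.of c : Abelianization (CovE π)) = 1 := by
        rw [← MonoidHom.mem_ker, Abelianization.ker_of]; exact hc
      have ht' : (Abelianization.of t : Abelianization (CovE π)) = 1 := by
        rw [← MonoidHom.mem_ker, Abelianization.ker_of]; exact ((mem_covT π).mp ht).2
      rw [map_mul, map_mul, map_inv, map_inv, hc', ht', inv_one, one_mul, mul_one, map_pow]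
  have hker₂ : ∀ s : φ₁.ker, (φ₂.comp φ₁.ker.subtype) s ∈ σ₂.ker := by
    intro s
    rw [MonoidHom.mem_ker, MonoidHom.comp_apply, Subgroup.coe_subtype, hφ₂', ← hφ₁',
      MonoidHom.mem_ker.mp s.2, map_one]
  obtain ⟨κ, hκ⟩ := extend_coprime φ₁.ker hS₁ _ hm hcop
    (e₂.toMonoidHom.comp ((φ₂.comp φ₁.ker.subtype).codRestrict σ₂.ker hker₂))
  obtain ⟨cc, hcc⟩ : ∃ cc : CovE π →* Γ₂,
      ∀ x, cc x = ((e₂.symm ((κ x)⁻¹) : σ₂.ker) : Γ₂) :=
    ⟨σ₂.ker.subtype.comp (e₂.symm.toMonoidHom.comp κ⁻¹), fun x => by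
      show ((e₂.symm ((κ⁻¹ : CovE π →* A) x) : σ₂.ker) : Γ₂) = _
      rw [MonoidHom.inv_apply]⟩
  have hcc_ker : ∀ x, cc x ∈ σ₂.ker := fun x => by rw [hcc]; exact (e₂.symm _).2
  have hcc_cen : ∀ x, cc x ∈ Subgroup.center Γ₂ := fun x => h₂.2.1 (hcc_ker x)
  obtain ⟨ψ, hψdef⟩ : ∃ ψ : CovE π →* Γ₂, ψ = mulCentral φ₂ cc hcc_cen := ⟨_, rfl⟩
  have hψx : ∀ x, ψ x = φ₂ x * cc x := fun x => by rw [hψdef]; rfl
  have hψ : σ₂.comp ψ = covρ π := by
    refine MonoidHom.ext fun x => ?_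
    rw [MonoidHom.comp_apply, hψx, map_mul, hφ₂', MonoidHom.mem_ker.mp (hcc_ker x), mul_one]
  have hψs := lift_surjective π hπ σ₂ h₂ ψ hψ
  have hψker : φ₁.ker ≤ ψ.ker := by
    intro s hs
    have h0 : κ s = e₂ ⟨φ₂ s, hker₂ ⟨s, hs⟩⟩ := hκ ⟨s, hs⟩
    rw [MonoidHom.mem_ker, hψx, hcc, h0, ← map_inv e₂, MulEquiv.symm_apply_apply]
    show φ₂ s * (φ₂ s)⁻¹ = 1
    exact mul_inv_cancel _
  obtain ⟨e₀, he₀⟩ : ∃ e₀ : Γ₁ →* Γ₂, ∀ x, e₀ (φ₁ x) = ψ x :=
    ⟨φ₁.liftOfSurjective hs₁ ⟨ψ, hψker⟩, fun x =>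
      MonoidHom.liftOfRightInverse_comp_apply φ₁ (Function.surjInv hs₁)
        (Function.rightInverse_surjInv hs₁) ⟨ψ, hψker⟩ x⟩
  have he₀s : Function.Surjective e₀ := by
    intro y
    obtain ⟨x, rfl⟩ := hψs y
    exact ⟨φ₁ x, he₀ x⟩
  have hσe : ∀ g, σ₂ (e₀ g) = σ₁ g := by
    intro g
    obtain ⟨x, rfl⟩ := hs₁ g
    rw [he₀, hφ₁']
    exact DFunLike.congr_fun hψ x
  have hmemr : ∀ k : σ₁.ker, (e₀.comp σ₁.ker.subtype) k ∈ σ₂.ker := by
    intro k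
    rw [MonoidHom.mem_ker, MonoidHom.comp_apply, hσe]
    exact MonoidHom.mem_ker.mp k.2
  obtain ⟨r, hr⟩ : ∃ r : σ₁.ker →* σ₂.ker, ∀ k, ((r k : σ₂.ker) : Γ₂) = e₀ (k : Γ₁) :=
    ⟨(e₀.comp σ₁.ker.subtype).codRestrict σ₂.ker hmemr, fun k => rfl⟩
  have hrs : Function.Surjective r := by
    intro k
    obtain ⟨g, hg⟩ := he₀s k.1
    have hgk : g ∈ σ₁.ker := by
      rw [MonoidHom.mem_ker, ← hσe, hg]; exact MonoidHom.mem_ker.mp k.2
    exact ⟨⟨g, hgk⟩, Subtype.ext ((hr _).trans hg)⟩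
  have hcard : Nat.card σ₁.ker ≤ Nat.card σ₂.ker := by
    rw [Nat.card_congr e₁.toEquiv, Nat.card_congr e₂.toEquiv]
  have hrinj := (hrs.bijective_of_nat_card_le hcard).1
  have he₀i : Function.Injective e₀ := by
    rw [injective_iff_map_eq_one]
    intro g hg
    have hgk : g ∈ σ₁.ker := by rw [MonoidHom.mem_ker, ← hσe, hg, map_one]
    have h1 : r ⟨g, hgk⟩ = 1 := Subtype.ext ((hr _).trans hg)
    have h2 := hrinj (h1.trans (map_one r).symm)
    exact congrArg Subtype.val h2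
  refine ⟨MulEquiv.ofBijective e₀ ⟨he₀i, he₀s⟩, MonoidHom.ext fun g => ?_⟩
  exact hσe g

theorem exists_not_pow {T : Type*} [CommGroup T] [Finite T] {p : ℕ} (hp : p.Prime)
    (hpT : p ∣ Nat.card T) : ∃ t₀ : T, ∀ u : T, u ^ p ≠ t₀ := by
  haveI := Fact.mk hp
  obtain ⟨z, hz⟩ := exists_prime_orderOf_dvd_card' p hpT
  by_contra hcon
  push Not at hcon
  have hsurj : Function.Surjective (powMonoidHom p : T →* T) := fun t => hcon t
  have hinj : Function.Injective (powMonoidHom p : T →* T) :=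
    Finite.injective_iff_surjective.mpr hsurj
  have h1 : (powMonoidHom p : T →* T) z = (powMonoidHom p : T →* T) 1 := by
    rw [map_one, powMonoidHom_apply, ← hz]
    exact pow_orderOf_eq_one z
  have h2 := hinj h1
  rw [h2, orderOf_one] at hz
  exact hp.one_lt.ne hz

theorem exists_hom_not_pow {B : Type*} [Group B] {M : Type*} [AddCommGroup M] [Module.Free ℤ M]
    [Module.Finite ℤ M] (f : B → M) (hf : ∀ a b, f (a * b) = f a + f b)
    (hinj : Function.Injective f) {T : Type*} [Group T] (t₀ : T) (p : ℕ) (b₀ : B)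
    (hb₀ : ∀ b : B, b ^ p ≠ b₀) :
    ∃ (θ : B →* T) (c : ℤ), θ b₀ = t₀ ^ c ∧ ¬ (p : ℤ) ∣ c := by
  classical
  have hf1 : f 1 = 0 := by
    have h := hf 1 1
    rw [mul_one] at h
    have h' : f 1 + 0 = f 1 + f 1 := by rw [add_zero]; exact h
    exact (add_left_cancel h').symm
  have hfinv : ∀ a, f a⁻¹ = - f a := by
    intro a
    have h := hf a⁻¹ a
    rw [inv_mul_cancel, hf1] at h
    exact eq_neg_of_add_eq_zero_left h.symm
  have hfpow : ∀ (n : ℕ) (b : B), f (b ^ n) = n • f b := by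
    intro n b
    induction n with
    | zero => rw [pow_zero, zero_smul, hf1]
    | succ k ih => rw [pow_succ, hf, ih, succ_nsmul]
  let N₀ : AddSubgroup M :=
    { carrier := Set.range f
      add_mem' := by
        rintro _ _ ⟨a, rfl⟩ ⟨b, rfl⟩
        exact ⟨a * b, hf a b⟩
      zero_mem' := ⟨1, hf1⟩
      neg_mem' := by
        rintro _ ⟨a, rfl⟩
        exact ⟨a⁻¹, hfinv a⟩ }
  obtain ⟨n, ⟨bN⟩⟩ :=
    Submodule.nonempty_basis_of_pid (Module.Free.chooseBasis ℤ M) (AddSubgroup.toIntSubmodule N₀)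
  have hmem : ∀ b : B, f b ∈ AddSubgroup.toIntSubmodule N₀ := fun b => ⟨b, rfl⟩
  have hexb : ∀ w : AddSubgroup.toIntSubmodule N₀, ∃ b : B, f b = w.1 := fun w => w.2
  obtain ⟨v₀, hv₀⟩ : ∃ v : AddSubgroup.toIntSubmodule N₀, v = ⟨f b₀, hmem b₀⟩ := ⟨_, rfl⟩
  have hex : ∃ i, ¬ (p : ℤ) ∣ bN.repr v₀ i := by
    by_contra hcon
    push Not at hcon
    obtain ⟨w, hw⟩ : ∃ w : AddSubgroup.toIntSubmodule N₀, v₀ = (p : ℤ) • w := by
      refine ⟨bN.repr.symm ((bN.repr v₀).mapRange (fun z => z / (p : ℤ)) (by simp)), ?_⟩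
      apply bN.repr.injective
      rw [map_smul, LinearEquiv.apply_symm_apply]
      ext i
      rw [Finsupp.smul_apply, Finsupp.mapRange_apply, smul_eq_mul,
        Int.mul_ediv_cancel' (hcon i)]
    obtain ⟨b, hb⟩ := hexb w
    apply hb₀ b
    apply hinj
    rw [hfpow, hb]
    have h1 : (v₀ : M) = (((p : ℤ) • w : AddSubgroup.toIntSubmodule N₀) : M) :=
      congrArg Subtype.val hw
    rw [hv₀] at h1
    rw [Submodule.coe_smul, natCast_zsmul] at h1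
    exact h1.symm
  obtain ⟨i, hi⟩ := hex
  have hadd : ∀ a b : B, (⟨f (a * b), hmem (a * b)⟩ : AddSubgroup.toIntSubmodule N₀) =
      ⟨f a, hmem a⟩ + ⟨f b, hmem b⟩ := fun a b => Subtype.ext (hf a b)
  have hone : (⟨f 1, hmem 1⟩ : AddSubgroup.toIntSubmodule N₀) = 0 := Subtype.ext hf1
  refine ⟨{ toFun := fun b => t₀ ^ (bN.repr ⟨f b, hmem b⟩ i)
            map_one' := ?_
            map_mul' := ?_ }, bN.repr v₀ i, ?_, hi⟩
  · show t₀ ^ (bN.repr ⟨f 1, hmem 1⟩ i) = 1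
    rw [hone, map_zero, Finsupp.zero_apply, zpow_zero]
  · intro a b
    show t₀ ^ (bN.repr ⟨f (a * b), hmem (a * b)⟩ i) =
      t₀ ^ (bN.repr ⟨f a, hmem a⟩ i) * t₀ ^ (bN.repr ⟨f b, hmem b⟩ i)
    rw [hadd, map_add, Finsupp.add_apply, zpow_add]
  · show t₀ ^ (bN.repr ⟨f b₀, hmem b₀⟩ i) = t₀ ^ (bN.repr v₀ i)
    rw [hv₀]

theorem forward {Q : Type u} [Group Q] [Finite Q] {A : Type v} [CommGroup A]
    (hA : Cfsg.HasSchurMultiplier Q A)
    (H : ∀ (Γ₁ Γ₂ : Type u) [Group Γ₁] [Finite Γ₁] [Group Γ₂] [Finite Γ₂] (σ₁ : Γ₁ →* Q)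
      (σ₂ : Γ₂ →* Q), Cfsg.IsStemExtension σ₁ → Cfsg.IsStemExtension σ₂ →
      Nonempty (σ₁.ker ≃* A) → Nonempty (σ₂.ker ≃* A) →
      ∃ e : Γ₁ ≃* Γ₂, σ₂.comp e.toMonoidHom = σ₁) :
    Nat.Coprime (Nat.card (Abelianization Q)) (Nat.card A) := by
  by_contra hnc
  obtain ⟨p, hp, hpm, hpA⟩ := Nat.Prime.not_coprime_iff_dvd.mp hnc
  obtain ⟨π, hπdef⟩ : ∃ π : FreeGroup Q →* Q, π = FreeGroup.lift id := ⟨_, rfl⟩
  have hπ : Function.Surjective π := by rw [hπdef]; exact lift_id_surjective Q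
  obtain ⟨eA⟩ := mulEquiv_of_hasSchurMultiplier hA (hasSchurMultiplier_covT π hπ)
  haveI : Finite (covT π) := finite_covT π hπ
  have hpT : p ∣ Nat.card (covT π) := by rw [← Nat.card_congr eA.toEquiv]; exact hpA
  obtain ⟨t₀, ht₀⟩ := exists_not_pow hp hpT
  haveI := Fact.mk hp
  obtain ⟨y, hy⟩ := exists_prime_orderOf_dvd_card' p hpm
  have hρs := covρ_surjective π hπ
  obtain ⟨q₀, hq₀⟩ := QuotientGroup.mk_surjective y
  obtain ⟨x, hx⟩ := hρs q₀
  have hxy : (Abelianization.of (covρ π x) : Abelianization Q) = y := by rw [hx]; exact hq₀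
  have hab : ∀ z : CovE π, z ∈ commutator (CovE π) ↔ abE π z = 1 := by
    intro z; rw [← ker_abE, MonoidHom.mem_ker]
  obtain ⟨S₂, hS₂K, hS₂T, hS₂sup⟩ := exists_complement π (covρ π).ker le_rfl
  have hxp : covρ π (x ^ p) ∈ (commutator (CovE π)).map (covρ π) := by
    rw [map_commutator_of_surj (covρ π) hρs, ← Abelianization.ker_of, MonoidHom.mem_ker, map_pow,
      map_pow, hxy, ← hy]
    exact pow_orderOf_eq_one y
  obtain ⟨c, hc, hcx⟩ := hxp
  have ha : c⁻¹ * x ^ p ∈ (covρ π).ker := by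
    rw [MonoidHom.mem_ker, map_mul, map_inv, hcx, inv_mul_cancel]
  obtain ⟨s₀, hs₀, hs₀a⟩ := hS₂sup _ ha
  obtain ⟨b₀, hb₀⟩ : ∃ b₀ : S₂, (b₀ : CovE π) = s₀ := ⟨⟨s₀, hs₀⟩, rfl⟩
  subst hb₀
  have hs₀x : abE π (b₀ : CovE π) = abE π x ^ p := by
    have h1 := (hab _).mp hs₀a
    have h2 := (hab _).mp hc
    rw [map_mul, map_mul, map_inv, map_inv, h2, inv_one, one_mul, map_pow] at h1
    exact inv_mul_eq_one.mp h1
  haveI : Module.Free ℤ (Additive (Abelianization (FreeGroup Q))) := free_abF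
  haveI : Module.Finite ℤ (Additive (Abelianization (FreeGroup Q))) := finite_abF
  have htf : ∀ v : Abelianization (FreeGroup Q), v ^ p = 1 → v = 1 := by
    intro v hv
    have h1 : (p : ℤ) • (Additive.ofMul v) = 0 := by
      rw [natCast_zsmul, ← ofMul_pow, hv]; rfl
    rcases smul_eq_zero.mp h1 with h2 | h2
    · exact absurd h2 (by exact_mod_cast hp.ne_zero)
    · exact h2
  have hs₀np : ∀ b : S₂, b ^ p ≠ b₀ := by
    intro b hb
    have hb' : (b : CovE π) ^ p = (b₀ : CovE π) := congrArg Subtype.val hb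
    have h1 : abE π (x * (b : CovE π)⁻¹) ^ p = 1 := by
      rw [map_mul, map_inv, mul_pow, inv_pow, ← map_pow (abE π) (b : CovE π), hb', hs₀x,
        mul_inv_cancel]
    have h2 := htf _ h1
    have h3 : x * (b : CovE π)⁻¹ ∈ commutator (CovE π) := (hab _).mpr h2
    have h4 : covρ π (x * (b : CovE π)⁻¹) ∈ commutator Q := by
      rw [← map_commutator_of_surj (covρ π) hρs]; exact ⟨_, h3, rfl⟩
    rw [map_mul, map_inv, MonoidHom.mem_ker.mp (hS₂K b.2), inv_one, mul_one,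
      ← Abelianization.ker_of, MonoidHom.mem_ker, hxy] at h4
    rw [h4, orderOf_one] at hy
    exact hp.one_lt.ne hy
  obtain ⟨θ, cθ, hθ, hcθ⟩ := exists_hom_not_pow (B := S₂)
    (M := Additive (Abelianization (FreeGroup Q)))
    (fun s => Additive.ofMul (abE π (s : CovE π)))
    (fun a b => by rw [Subgroup.coe_mul, map_mul, ofMul_mul])
    (by
      intro a b hab'
      have h1 : abE π (a : CovE π) = abE π (b : CovE π) := Additive.ofMul.injective hab'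
      have h2 : (a : CovE π)⁻¹ * b ∈ S₂ ⊓ commutator (CovE π) := by
        refine Subgroup.mem_inf.mpr ⟨S₂.mul_mem (S₂.inv_mem a.2) b.2, ?_⟩
        rw [hab, map_mul, map_inv, h1, inv_mul_cancel]
      rw [hS₂T, Subgroup.mem_bot] at h2
      exact Subtype.ext (inv_mul_eq_one.mp h2))
    t₀ p b₀ hs₀np
  have hθnp : ∀ u : covT π, u ^ p ≠ θ b₀ := by
    intro u hu
    rw [hθ] at hu
    have hcop : IsCoprime (p : ℤ) cθ :=
      (Nat.prime_iff_prime_int.mp hp).coprime_iff_not_dvd.mpr hcθ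
    obtain ⟨a, b, hab1⟩ := hcop
    apply ht₀ (u ^ b * t₀ ^ a)
    have e1 : (u ^ b * t₀ ^ a) ^ p = (u ^ p) ^ b * t₀ ^ (a * p) := by
      rw [mul_pow]
      congr 1
      · rw [← zpow_natCast (u ^ b) p, ← zpow_natCast u p, ← zpow_mul, ← zpow_mul,
          mul_comm b (p : ℤ)]
      · rw [← zpow_natCast (t₀ ^ a) p, ← zpow_mul]
    rw [e1, hu, ← zpow_mul, ← zpow_add, mul_comm cθ b, add_comm, hab1, zpow_one]
  have hθcen : ∀ s : S₂, ((covT π).subtype.comp θ) s ∈ Subgroup.center (CovE π) := fun s =>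
    covρ_ker_le_center π (MonoidHom.mem_ker.mpr ((mem_covT π).mp (θ s).2).1)
  obtain ⟨j, hj⟩ : ∃ j : S₂ →* CovE π,
      ∀ s : S₂, j s = (s : CovE π) * ((θ s : covT π) : CovE π) :=
    ⟨mulCentral S₂.subtype ((covT π).subtype.comp θ) hθcen, fun s => rfl⟩
  have hθab : ∀ s : S₂, abE π ((θ s : covT π) : CovE π) = 1 := fun s =>
    (hab _).mp ((mem_covT π).mp (θ s).2).2
  have hS₁K : j.range ≤ (covρ π).ker := by
    rintro _ ⟨s, rfl⟩
    rw [hj, MonoidHom.mem_ker, map_mul, MonoidHom.mem_ker.mp (hS₂K s.2),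
      ((mem_covT π).mp (θ s).2).1, one_mul]
  have hS₁T : j.range ⊓ commutator (CovE π) = ⊥ := by
    rw [eq_bot_iff]
    intro z hz
    obtain ⟨hz1, hz2⟩ := Subgroup.mem_inf.mp hz
    obtain ⟨s, rfl⟩ := hz1
    rw [hj, hab, map_mul, hθab, mul_one, ← hab] at hz2
    have h1 : (s : CovE π) ∈ S₂ ⊓ commutator (CovE π) := Subgroup.mem_inf.mpr ⟨s.2, hz2⟩
    rw [hS₂T, Subgroup.mem_bot] at h1
    have h2 : s = 1 := Subtype.ext h1
    rw [Subgroup.mem_bot, h2, map_one]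
  have hS₁sup : ∀ a ∈ (covρ π).ker, ∃ s' ∈ j.range, s'⁻¹ * a ∈ commutator (CovE π) := by
    intro a ha
    obtain ⟨s, hs, hsa⟩ := hS₂sup a ha
    refine ⟨j ⟨s, hs⟩, ⟨_, rfl⟩, ?_⟩
    have h1 := (hab _).mp hsa
    rw [map_mul, map_inv] at h1
    rw [hj, hab, map_mul, map_inv, map_mul, hθab, mul_one]
    exact h1
  obtain ⟨Γ₁, hg₁, hf₁, σ₁, q₁, hq₁s, hq₁k, hq₁, hσ₁, ⟨k₁⟩⟩ :=
    exists_cover π hπ j.range hS₁K hS₁T hS₁sup
  obtain ⟨Γ₂, hg₂, hf₂, σ₂, q₂, hq₂s, hq₂k, hq₂, hσ₂, ⟨k₂⟩⟩ :=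
    exists_cover π hπ S₂ hS₂K hS₂T hS₂sup
  obtain ⟨e, he⟩ := H Γ₁ Γ₂ σ₁ σ₂ hσ₁ hσ₂ ⟨k₁.trans eA.symm⟩ ⟨k₂.trans eA.symm⟩
  have hq₁' : ∀ z, σ₁ (q₁ z) = covρ π z := fun z => DFunLike.congr_fun hq₁ z
  have hq₂' : ∀ z, σ₂ (q₂ z) = covρ π z := fun z => DFunLike.congr_fun hq₂ z
  have he' : ∀ g, σ₂ (e g) = σ₁ g := fun g => DFunLike.congr_fun he g
  obtain ⟨f, hf⟩ : ∃ f : CovE π →* Γ₂, ∀ z, f z = e (q₁ z) :=
    ⟨e.toMonoidHom.comp q₁, fun z => rfl⟩
  have hκker' : ∀ z, (q₂ z)⁻¹ * f z ∈ σ₂.ker := by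
    intro z
    rw [MonoidHom.mem_ker, map_mul, map_inv, hq₂', hf, he', hq₁', inv_mul_cancel]
  have hcen : ∀ z, (q₂ z)⁻¹ * f z ∈ Subgroup.center Γ₂ := fun z => hσ₂.2.1 (hκker' z)
  obtain ⟨κ, hκ⟩ : ∃ κ : CovE π →* Γ₂, ∀ z, κ z = (q₂ z)⁻¹ * f z :=
    ⟨divHom f q₂ hcen, fun z => rfl⟩
  have hκker : ∀ z, κ z ∈ σ₂.ker := by
    intro z; rw [hκ]; exact hκker' z
  have hκcomm : ∀ c ∈ commutator (CovE π), κ c = 1 := by
    intro c hc
    have hle : commutator (CovE π) ≤ κ.ker := by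
      rw [commutator_eq_closure, Subgroup.closure_le]
      rintro _ ⟨a, b, rfl⟩
      rw [SetLike.mem_coe, MonoidHom.mem_ker, map_commutatorElement,
        commutatorElement_eq_one_iff_mul_comm]
      exact Subgroup.mem_center_iff.mp (hσ₂.2.1 (hκker b)) (κ a)
    exact MonoidHom.mem_ker.mp (hle hc)
  have h1 : (j b₀)⁻¹ * x ^ p ∈ commutator (CovE π) := by
    rw [hj, hab, map_mul, map_inv, map_mul, hθab, mul_one, map_pow, hs₀x, inv_mul_cancel]
  have h2 : κ (x ^ p) = κ (j b₀) := by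
    have h3 : x ^ p = j b₀ * ((j b₀)⁻¹ * x ^ p) := by group
    rw [h3, map_mul, hκcomm _ h1, mul_one]
  have hjS₁ : q₁ (j b₀) = 1 := by
    rw [← MonoidHom.mem_ker, hq₁k]; exact ⟨b₀, rfl⟩
  have h4 : κ (j b₀) = (q₂ ((θ b₀ : covT π) : CovE π))⁻¹ := by
    have h5 : q₂ (b₀ : CovE π) = 1 := by rw [← MonoidHom.mem_ker, hq₂k]; exact b₀.2
    rw [hκ, hf, hjS₁, map_one, mul_one, hj, map_mul, h5, one_mul]
  obtain ⟨t, ht, htκ⟩ := exists_mem_covT_of_mem_ker π hπ σ₂ hσ₂ q₂ hq₂ (κ x) (hκker x)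
  have h5 : q₂ (t ^ p * ((θ b₀ : covT π) : CovE π)) = 1 := by
    rw [map_mul, map_pow, htκ, ← map_pow, h2, h4, inv_mul_cancel]
  have h6 : t ^ p * ((θ b₀ : covT π) : CovE π) ∈ S₂ ⊓ commutator (CovE π) := by
    refine Subgroup.mem_inf.mpr ⟨?_, ?_⟩
    · have h7 : t ^ p * ((θ b₀ : covT π) : CovE π) ∈ q₂.ker := MonoidHom.mem_ker.mpr h5
      rwa [hq₂k] at h7
    · exact mul_mem (pow_mem ((mem_covT π).mp ht).2 p) ((mem_covT π).mp (θ b₀).2).2
  rw [hS₂T, Subgroup.mem_bot] at h6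
  apply hθnp (⟨t, ht⟩⁻¹)
  apply Subtype.ext
  show (t⁻¹) ^ p = ((θ b₀ : covT π) : CovE π)
  rw [inv_pow]
  exact inv_eq_of_mul_eq_one_right h6

/-- Let `Q` be a finite group with Schur multiplier `A`. Any two Schur covering groups of `Q` (finite stem extensions `σ₁ : Γ₁ →* Q`, `σ₂ : Γ₂ →* Q` with kernels isomorphic to `A`, `Γ₁, Γ₂` in the universe of `Q`) are isomorphic over `Q` — there is a group isomorphism `e : Γ₁ ≃* Γ₂` with `σ₂ ∘ e = σ₁` — if and only if the order of the commutator quotient of `Q` is coprime to the order of `A`. In particular a finite perfect group has a unique Schur covering group up to isomorphism over it. -/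
theorem result {Q : Type u} [Group Q] [Finite Q] {A : Type v} [CommGroup A] (hA : Cfsg.HasSchurMultiplier Q A) : (∀ (Γ₁ Γ₂ : Type u) [Group Γ₁] [Finite Γ₁] [Group Γ₂] [Finite Γ₂] (σ₁ : Γ₁ →* Q) (σ₂ : Γ₂ →* Q), Cfsg.IsStemExtension σ₁ → Cfsg.IsStemExtension σ₂ → Nonempty (σ₁.ker ≃* A) → Nonempty (σ₂.ker ≃* A) → ∃ e : Γ₁ ≃* Γ₂, σ₂.comp e.toMonoidHom = σ₁) ↔ Nat.Coprime (Nat.card (Abelianization Q)) (Nat.card A) := by
  constructor
  · intro H
    exact forward hA H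
  · intro hcop Γ₁ Γ₂ _ _ _ _ σ₁ σ₂ h₁ h₂ k₁ k₂
    exact backward hA hcop Γ₁ Γ₂ σ₁ σ₂ h₁ h₂ k₁ k₂

end Cfsg.Agent.S3974
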