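import Cfsg.Statements.S3976
import Mathlib
import Cfsg.Agent.Lib.Helper21.Wielandt

set_option autoImplicit false
open Cfsg

namespace Cfsg.Agent.S3976

open scoped Pointwise

/-- subgroups of order `k`, as a `ConjAct G`-set -/
def subgroupsOfCard (G : Type*) [Group G] (k : ℕ) : SubMulAction (ConjAct G) (Subgroup G) where
  carrier := {H | Nat.card H = k}
  smul_mem' := by
    intro g H hH
    change Nat.card (g • H : Subgroup G) = k
    rw [← hH]
    exact Nat.card_congr ((Subgroup.equivSMul g H).symm.toEquiv)

/-- Let `p` be a prime and `G` a group of order `p ^ m`. For every `s ≤ m` the number of normal subgroups of `G` of order `p ^ s` is congruent to `1` modulo `p`. -/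
theorem result {G : Type*} [Group G] [Finite G] (p m s : ℕ) (hp : p.Prime) (hG : Nat.card G = p ^ m) (hs : s ≤ m) : Nat.card {H : Subgroup G // H.Normal ∧ Nat.card H = p ^ s} ≡ 1 [MOD p] := by
  haveI : Fact p.Prime := ⟨hp⟩
  have hdiv : p ^ s ∣ Nat.card G := by rw [hG]; exact pow_dvd_pow p hs
  have h1 := Cfsg.Agent.Lib.Helper21.card_subgroups_of_card_prime_pow_modEq_one G hp hdiv
  have hPG : IsPGroup p (ConjAct G) := (IsPGroup.of_card hG).of_equiv ConjAct.toConjAct
  have h2 := hPG.card_modEq_card_fixedPoints (subgroupsOfCard G (p ^ s))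
  have e : {H : Subgroup G // H.Normal ∧ Nat.card H = p ^ s} ≃
      MulAction.fixedPoints (ConjAct G) (subgroupsOfCard G (p ^ s)) :=
    { toFun := fun H => ⟨⟨H.1, H.2.2⟩, by
        intro g
        apply Subtype.ext
        change g • H.1 = H.1
        haveI := H.2.1
        ext x
        rw [Subgroup.mem_smul_pointwise_iff_exists]
        constructor
        · rintro ⟨y, hy, rfl⟩
          rw [ConjAct.smul_def]
          exact H.2.1.conj_mem y hy _
        · intro hx
          refine ⟨g⁻¹ • x, ?_, by simp⟩
          rw [ConjAct.smul_def]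
          exact H.2.1.conj_mem x hx _⟩
      invFun := fun H => ⟨H.1.1, ⟨by
        constructor
        intro n hn g
        have hfix := H.2 (ConjAct.toConjAct g)
        have h3 : ConjAct.toConjAct g • H.1.1 = H.1.1 := congrArg Subtype.val hfix
        have h4 : ConjAct.toConjAct g • n ∈ ConjAct.toConjAct g • H.1.1 :=
          Subgroup.smul_mem_pointwise_smul n _ _ hn
        rw [h3, ConjAct.smul_def] at h4
        simpa using h4, H.1.2⟩⟩
      left_inv := fun H => rfl
      right_inv := fun H => rfl }
  have h3 : Nat.card (subgroupsOfCard G (p ^ s)) = Nat.card {H : Subgroup G // Nat.card H = p ^ s} := rfl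
  rw [Nat.card_congr e]
  rw [h3] at h2
  exact h2.symm.trans h1

end Cfsg.Agent.S3976
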