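import Cfsg.Statements.S3977
import Mathlib
import Cfsg.Agent.Lib.Helper10.UniqueOrderP

set_option autoImplicit false
open Cfsg

namespace Cfsg.Agent.S3977

open Cfsg.Agent.Lib.Helper10

/-- Let `p` be a prime and `G` a group of order `p ^ m` which has exactly one subgroup of order `p ^ s`, where `1 ≤ s < m`, and where `s ≥ 2` if `p = 2`. Then `G` is cyclic. (For `p = 2` and `s = 1` the generalized quaternion groups also occur; that case is the classical criterion for a unique involution.) -/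
theorem result {G : Type*} [Group G] [Finite G] (p m s : ℕ) (hp : p.Prime) (hG : Nat.card G = p ^ m) (hs : 1 ≤ s) (hsm : s < m) (h2 : p ≠ 2 ∨ 2 ≤ s) (huniq : ∀ H K : Subgroup G, Nat.card H = p ^ s → Nat.card K = p ^ s → H = K) : IsCyclic G := by
  haveI : Fact p.Prime := ⟨hp⟩
  have hPG : IsPGroup p G := IsPGroup.of_card hG
  have hdvd : p ^ s ∣ Nat.card G := by rw [hG]; exact pow_dvd_pow p hsm.le
  obtain ⟨H₀, hH₀⟩ := Sylow.exists_subgroup_card_pow_prime p hdvd
  -- (1) small subgroups lie in `H₀`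
  have h1 : ∀ (L : Subgroup G) (j : ℕ), Nat.card L = p ^ j → j ≤ s → L ≤ H₀ := by
    intro L j hL hj
    obtain ⟨K, hK, hLK⟩ := Sylow.exists_subgroup_card_pow_prime_le p hdvd L hL hj
    rw [huniq H₀ K hH₀ hK]
    exact hLK
  have h1' : ∀ (x : G) (j : ℕ), orderOf x = p ^ j → j ≤ s → x ∈ H₀ := by
    intro x j hx hj
    apply h1 (Subgroup.zpowers x) j (by rw [Nat.card_zpowers, hx]) hj
    exact Subgroup.mem_zpowers x
  -- (2) `H₀` is cyclic
  have hH₀top : H₀ ≠ ⊤ := by
    intro h
    rw [h, Subgroup.card_top, hG] at hH₀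
    have := Nat.pow_right_injective hp.two_le hH₀
    omega
  obtain ⟨x, hx⟩ : ∃ x : G, x ∉ H₀ := by
    by_contra hcon
    push Not at hcon
    exact hH₀top (eq_top_iff.mpr fun g _ => hcon g)
  obtain ⟨t, ht⟩ := (IsPGroup.iff_orderOf.mp hPG) x
  have hts : s < t := by
    by_contra hle
    exact hx (h1' x t ht (by omega))
  have hw : orderOf (x ^ p ^ (t - s)) = p ^ s := by
    rw [orderOf_pow_of_dvd (pow_ne_zero _ hp.ne_zero) (by rw [ht]; exact pow_dvd_pow p (by omega)), ht,
      Nat.pow_div (by omega) hp.pos]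
    congr 1
    omega
  have hH₀eq : H₀ = Subgroup.zpowers (x ^ p ^ (t - s)) :=
    huniq _ _ hH₀ (by rw [Nat.card_zpowers, hw])
  have hH₀cyc : IsCyclic ↥H₀ := by
    rw [hH₀eq]; infer_instance
  -- (3) unique subgroup of order `p`
  have hU : UniqueOrderP p G := by
    intro a b ha ha1 hb
    have hoa : orderOf a = p := orderOf_eq_prime ha ha1
    have haH : a ∈ H₀ := h1' a 1 (by rw [hoa, pow_one]) hs
    have hbH : b ∈ H₀ := by
      by_cases hb1 : b = 1
      · rw [hb1]; exact H₀.one_mem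
      · exact h1' b 1 (by rw [orderOf_eq_prime hb hb1, pow_one]) hs
    apply mem_zpowers_of_orderOf_dvd' H₀ hH₀cyc hbH haH
    rw [hoa]
    exact orderOf_dvd_of_pow_eq_one hb
  rcases isCyclic_or_quaternion_of_uniqueOrderP hPG hU with hc | ⟨hp2, n, ⟨e⟩⟩
  · exact hc
  · exfalso
    subst hp2
    have hs2 : 2 ≤ s := by
      rcases h2 with h | h
      · exact absurd rfl h
      · exact h
    -- order of `G`
    haveI : NeZero (2 ^ n) := ⟨by positivity⟩
    have hcard : Nat.card G = 4 * 2 ^ n := by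
      rw [Nat.card_congr e.toEquiv, Nat.card_eq_fintype_card, QuaternionGroup.card]
    have hn1 : 1 ≤ n := by
      by_contra hn0
      have : n = 0 := by omega
      subst this
      rw [hG] at hcard
      have h3 : (2:ℕ) ^ m = 2 ^ 2 := by rw [hcard]; norm_num
      have := Nat.pow_right_injective (le_refl 2) h3
      omega
    set u := e.symm (QuaternionGroup.xa 0) with hu
    set v := e.symm (QuaternionGroup.xa 1) with hv
    have hou : orderOf u = 2 ^ 2 := by
      rw [hu, MulEquiv.orderOf_eq, QuaternionGroup.orderOf_xa]; norm_num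
    have hov : orderOf v = 2 ^ 2 := by
      rw [hv, MulEquiv.orderOf_eq, QuaternionGroup.orderOf_xa]; norm_num
    have huH : u ∈ H₀ := h1' u 2 hou hs2
    have hvH : v ∈ H₀ := h1' v 2 hov hs2
    have hcomm : u * v = v * u := by
      have := (IsCyclic.commGroup (α := ↥H₀)).mul_comm ⟨u, huH⟩ ⟨v, hvH⟩
      exact congrArg Subtype.val this
    have h3 : (QuaternionGroup.xa 0 : QuaternionGroup (2 ^ n)) * QuaternionGroup.xa 1 =
        QuaternionGroup.xa 1 * QuaternionGroup.xa 0 := by
      have := congrArg e hcomm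
      simpa [hu, hv] using this
    rw [QuaternionGroup.xa_mul_xa, QuaternionGroup.xa_mul_xa] at h3
    have h4 := QuaternionGroup.a.inj h3
    have h5 : (2 : ZMod (2 * 2 ^ n)) = 0 := by
      have : ((2 ^ n : ℕ) : ZMod (2 * 2 ^ n)) + 1 - 0 - (((2 ^ n : ℕ) : ZMod (2 * 2 ^ n)) + 0 - 1) = 0 := by
        rw [h4]; ring
      have e1 : ((2 ^ n : ℕ) : ZMod (2 * 2 ^ n)) + 1 - 0 - (((2 ^ n : ℕ) : ZMod (2 * 2 ^ n)) + 0 - 1) = 2 := by ring
      rw [e1] at this
      exact this
    have h6 : (2 * 2 ^ n) ∣ 2 := by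
      have := (ZMod.natCast_eq_zero_iff 2 (2 * 2 ^ n)).mp (by exact_mod_cast h5)
      exact this
    have h7 : 2 * 2 ^ n ≤ 2 := Nat.le_of_dvd (by norm_num) h6
    have h8 : 2 ≤ 2 ^ n := by
      calc 2 = 2 ^ 1 := by norm_num
        _ ≤ 2 ^ n := Nat.pow_le_pow_right (by norm_num) hn1
    omega

end Cfsg.Agent.S3977
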