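import Cfsg.Statements.S3979
import Cfsg.Prelude.Def_KGroupFacts
import Mathlib

set_option autoImplicit false
open Cfsg

namespace Cfsg.Agent.S3979

/-- trivial multiplier from: every finite stem extension has trivial kernel -/
theorem hasCyclicSchurMultiplier_one_of.{u} {G : Type u} [Group G] [Finite G]
    (h : ∀ (Γ : Type u) [Group Γ] [Finite Γ] (σ : Γ →* G), IsStemExtension σ → σ.ker = ⊥) :
    Cfsg.HasCyclicSchurMultiplier G 1 := by
  constructor
  · refine ⟨G, inferInstance, inferInstance, MonoidHom.id G, ⟨Function.surjective_id, ?_, ?_⟩, ?_⟩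
    · rw [MonoidHom.ker_id]; exact bot_le
    · rw [MonoidHom.ker_id]; exact bot_le
    · rw [MonoidHom.ker_id]
      have : Unique (Multiplicative (ZMod 1)) := by
        unfold Multiplicative; infer_instance
      exact ⟨MulEquiv.ofUnique⟩
  · intro Γ _ _ σ hσ
    refine ⟨1, ?_⟩
    intro x
    refine ⟨1, ?_⟩
    have := h Γ σ hσ
    apply Subtype.ext
    obtain ⟨x, hx⟩ := x
    have hx' : x ∈ (⊥ : Subgroup Γ) := this ▸ hx
    rw [Subgroup.mem_bot] at hx'
    simp [hx']

/-- A finite cyclic group has trivial Schur multiplier: every finite stem extension of it is an isomorphism, said through `HasCyclicSchurMultiplier G 1`. -/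
theorem result {G : Type*} [Group G] [Finite G] [IsCyclic G] : Cfsg.HasCyclicSchurMultiplier G 1 := by
  apply hasCyclicSchurMultiplier_one_of
  intro Γ _ _ σ hσ
  obtain ⟨hsurj, hcen, hcomm⟩ := hσ
  have hab : ∀ a b : Γ, a * b = b * a :=
    fun a b => (σ.isMulCommutative_of_isCyclic_of_ker_le_center hcen).is_comm.comm a b
  have hc : commutator Γ = ⊥ := by
    rw [commutator_def, Subgroup.commutator_eq_bot_iff_le_centralizer]
    intro a _
    rw [Subgroup.mem_centralizer_iff]
    intro b _
    exact hab b a
  rw [eq_bot_iff, ← hc]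
  exact hcomm

end Cfsg.Agent.S3979
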