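import Mathlib
import Cfsg.Statements.S3980
import Cfsg.Agent.Lib.Helper12.SchurMore

set_option autoImplicit false
set_option linter.style.haveILetI false
universe u v w
open Cfsg
open scoped commutatorElement

namespace Cfsg.Agent.S3980

open Cfsg.Agent.Lib.Helper12.Schur

/-- Let `Q₁` and `Q₂` be finite groups whose commutator quotients have coprime orders, with Schur multipliers `A` and `B`. Then the Schur multiplier of `Q₁ × Q₂` is isomorphic to `A × B`. -/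
theorem result {Q₁ : Type u} {Q₂ : Type v} [Group Q₁] [Group Q₂] [Finite Q₁] [Finite Q₂] {A B : Type w} [CommGroup A] [CommGroup B] (hA : Cfsg.HasSchurMultiplier Q₁ A) (hB : Cfsg.HasSchurMultiplier Q₂ B) (hcop : Nat.Coprime (Nat.card (Abelianization Q₁)) (Nat.card (Abelianization Q₂))) : Cfsg.HasSchurMultiplier (Q₁ × Q₂) (A × B) := by
  constructor
  · obtain ⟨⟨Γ₁, hg₁, hf₁, σ₁, hσ₁, ⟨e₁⟩⟩, -⟩ := hA
    obtain ⟨⟨Γ₂, hg₂, hf₂, σ₂, hσ₂, ⟨e₂⟩⟩, -⟩ := hB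
    refine ⟨Γ₁ × Γ₂, inferInstance, inferInstance, MonoidHom.prodMap σ₁ σ₂, ⟨?_, ?_, ?_⟩, ?_⟩
    · rw [MonoidHom.coe_prodMap]; exact hσ₁.1.prodMap hσ₂.1
    · intro x hx
      rw [MonoidHom.ker_prodMap, Subgroup.mem_prod] at hx
      have h1 := hσ₁.2.1 hx.1
      have h2 := hσ₂.2.1 hx.2
      rw [Subgroup.mem_center_iff] at h1 h2 ⊢
      intro g
      exact Prod.ext (h1 g.1) (h2 g.2)
    · intro x hx
      rw [MonoidHom.ker_prodMap, Subgroup.mem_prod] at hx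
      have h1 : (MonoidHom.inl Γ₁ Γ₂) x.1 ∈ commutator (Γ₁ × Γ₂) :=
        map_commutator_le _ ⟨_, hσ₁.2.2 hx.1, rfl⟩
      have h2 : (MonoidHom.inr Γ₁ Γ₂) x.2 ∈ commutator (Γ₁ × Γ₂) :=
        map_commutator_le _ ⟨_, hσ₂.2.2 hx.2, rfl⟩
      have h3 : x = (MonoidHom.inl Γ₁ Γ₂) x.1 * (MonoidHom.inr Γ₁ Γ₂) x.2 := by
        apply Prod.ext <;> simp
      rw [h3]; exact mul_mem h1 h2
    · exact ⟨((MulEquiv.subgroupCongr (MonoidHom.ker_prodMap σ₁ σ₂)).trans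
        (Subgroup.prodEquiv _ _)).trans (MulEquiv.prodCongr e₁ e₂)⟩
  · intro Δ _ _ τ hτ
    obtain ⟨hτs, hτc, hτd⟩ := hτ
    obtain ⟨p₁, hp₁⟩ : ∃ p : Δ →* Q₁, p = (MonoidHom.fst Q₁ Q₂).comp τ := ⟨_, rfl⟩
    obtain ⟨p₂, hp₂⟩ : ∃ p : Δ →* Q₂, p = (MonoidHom.snd Q₁ Q₂).comp τ := ⟨_, rfl⟩
    have hp₁' : ∀ d, p₁ d = (τ d).1 := fun d => by rw [hp₁]; rfl
    have hp₂' : ∀ d, p₂ d = (τ d).2 := fun d => by rw [hp₂]; rfl
    have hK : ∀ d, d ∈ τ.ker ↔ p₁ d = 1 ∧ p₂ d = 1 := by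
      intro d
      rw [MonoidHom.mem_ker, hp₁', hp₂', Prod.ext_iff]
      exact Iff.rfl
    have hψ₁s : Function.Surjective (p₁.comp p₂.ker.subtype) := by
      intro q
      obtain ⟨d, hd⟩ := hτs (q, 1)
      refine ⟨⟨d, ?_⟩, ?_⟩
      · rw [MonoidHom.mem_ker, hp₂', hd]
      · change p₁ d = q
        rw [hp₁', hd]
    have hψ₂s : Function.Surjective (p₂.comp p₁.ker.subtype) := by
      intro q
      obtain ⟨d, hd⟩ := hτs (1, q)
      refine ⟨⟨d, ?_⟩, ?_⟩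
      · rw [MonoidHom.mem_ker, hp₁', hd]
      · change p₂ d = q
        rw [hp₂', hd]
    have hψ₁c : ∀ x : p₂.ker, x ∈ (p₁.comp p₂.ker.subtype).ker →
        (x : Δ) ∈ Subgroup.center Δ := by
      intro x hx
      apply hτc
      rw [hK]
      exact ⟨MonoidHom.mem_ker.mp hx, MonoidHom.mem_ker.mp x.2⟩
    have hψ₂c : ∀ x : p₁.ker, x ∈ (p₂.comp p₁.ker.subtype).ker →
        (x : Δ) ∈ Subgroup.center Δ := by
      intro x hx
      apply hτc
      rw [hK]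
      exact ⟨MonoidHom.mem_ker.mp x.2, MonoidHom.mem_ker.mp hx⟩
    have hxyK : ∀ x' ∈ p₂.ker, ∀ y' ∈ p₁.ker, ⁅x', y'⁆ ∈ τ.ker := by
      intro x' hx' y' hy'
      rw [hK, map_commutatorElement, map_commutatorElement, MonoidHom.mem_ker.mp hy',
        MonoidHom.mem_ker.mp hx']
      exact ⟨commutatorElement_one_right _, commutatorElement_one_left _⟩
    have hcomm : ∀ x ∈ p₂.ker, ∀ y ∈ p₁.ker, ⁅x, y⁆ = 1 := by
      intro x hx y hy
      have h1 : ⁅x, y⁆ ^ Nat.card (Abelianization Q₁) = 1 :=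
        comm_pow_card_abelianization p₂.ker (p₁.comp p₂.ker.subtype) hψ₁s hψ₁c y
          (fun x' hx' => hτc (hxyK x' hx' y hy)) x hx
      have h2 : ⁅y, x⁆ ^ Nat.card (Abelianization Q₂) = 1 :=
        comm_pow_card_abelianization p₁.ker (p₂.comp p₁.ker.subtype) hψ₂s hψ₂c x
          (fun y' hy' => by
            rw [← commutatorElement_inv]
            exact inv_mem (hτc (hxyK x hx y' hy'))) y hy
      have h2' : ⁅x, y⁆ ^ Nat.card (Abelianization Q₂) = 1 := by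
        rw [← commutatorElement_inv, inv_pow, h2, inv_one]
      exact (pow_eq_one_iff_of_coprime hcop).mp ⟨h1, h2'⟩
    have hcm : ∀ (a : p₂.ker) (b : p₁.ker),
        Commute (p₂.ker.subtype a) (p₁.ker.subtype b) := by
      intro a b
      exact commutatorElement_eq_one_iff_commute.mp (hcomm a a.2 b b.2)
    obtain ⟨μ, hμdef⟩ : ∃ μ : p₂.ker × p₁.ker →* Δ,
        μ = MonoidHom.noncommCoprod p₂.ker.subtype p₁.ker.subtype hcm := ⟨_, rfl⟩
    have hμ : ∀ z, μ z = (z.1 : Δ) * (z.2 : Δ) := fun z => by rw [hμdef]; rfl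
    have hμs : Function.Surjective μ := by
      intro d
      obtain ⟨x, hx⟩ := hτs ((τ d).1, 1)
      have hx1 : x ∈ p₂.ker := by rw [MonoidHom.mem_ker, hp₂', hx]
      have hy1 : x⁻¹ * d ∈ p₁.ker := by
        rw [MonoidHom.mem_ker, map_mul, map_inv, hp₁', hp₁', hx, inv_mul_cancel]
      exact ⟨(⟨x, hx1⟩, ⟨x⁻¹ * d, hy1⟩), by rw [hμ]; simp⟩
    have hcommΔ : commutator Δ = ((commutator p₂.ker).prod (commutator p₁.ker)).map μ := by
      rw [← map_commutator_of_surj μ hμs]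
      congr 1
      rw [commutator_def, commutator_def, commutator_def, ← Subgroup.commutator_prod_prod,
        Subgroup.top_prod_top]
    have hψ₁c' : (p₁.comp p₂.ker.subtype).ker ≤ Subgroup.center p₂.ker := by
      intro x hx
      have h1 := hψ₁c x hx
      rw [Subgroup.mem_center_iff] at h1 ⊢
      intro g
      exact Subtype.ext (h1 g)
    have hψ₂c' : (p₂.comp p₁.ker.subtype).ker ≤ Subgroup.center p₁.ker := by
      intro x hx
      have h1 := hψ₂c x hx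
      rw [Subgroup.mem_center_iff] at h1 ⊢
      intro g
      exact Subtype.ext (h1 g)
    obtain ⟨f₁, hf₁⟩ := exists_hom_range_eq hA (p₁.comp p₂.ker.subtype) hψ₁s hψ₁c'
    obtain ⟨f₂, hf₂⟩ := exists_hom_range_eq hB (p₂.comp p₁.ker.subtype) hψ₂s hψ₂c'
    have hf₁K : ∀ a, ((f₁ a : p₂.ker) : Δ) ∈ τ.ker := by
      intro a
      have h1 : f₁ a ∈ f₁.range := ⟨a, rfl⟩
      rw [hf₁] at h1
      rw [hK]
      exact ⟨MonoidHom.mem_ker.mp (Subgroup.mem_inf.mp h1).1, MonoidHom.mem_ker.mp (f₁ a).2⟩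
    have hf₂K : ∀ b, ((f₂ b : p₁.ker) : Δ) ∈ τ.ker := by
      intro b
      have h1 : f₂ b ∈ f₂.range := ⟨b, rfl⟩
      rw [hf₂] at h1
      rw [hK]
      exact ⟨MonoidHom.mem_ker.mp (f₂ b).2, MonoidHom.mem_ker.mp (Subgroup.mem_inf.mp h1).1⟩
    have hmem : ∀ z : A × B, (μ.comp (MonoidHom.prodMap f₁ f₂)) z ∈ τ.ker := by
      intro z
      rw [MonoidHom.comp_apply, hμ]
      exact mul_mem (hf₁K z.1) (hf₂K z.2)
    refine ⟨(μ.comp (MonoidHom.prodMap f₁ f₂)).codRestrict τ.ker hmem, ?_⟩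
    intro k
    have hk : (k : Δ) ∈ commutator Δ := hτd k.2
    rw [hcommΔ] at hk
    obtain ⟨⟨d₁, d₂⟩, hd, hdk⟩ := hk
    have hd' : d₁ ∈ commutator p₂.ker ∧ d₂ ∈ commutator p₁.ker := hd
    have hkK := (hK k.1).mp k.2
    rw [← hdk] at hkK
    simp only [hμ, map_mul] at hkK
    have e1 : p₁ (d₂ : Δ) = 1 := MonoidHom.mem_ker.mp d₂.2
    have e2 : p₂ (d₁ : Δ) = 1 := MonoidHom.mem_ker.mp d₁.2
    rw [e1, e2, mul_one, one_mul] at hkK
    have hd₁ : d₁ ∈ f₁.range := by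
      rw [hf₁]; exact Subgroup.mem_inf.mpr ⟨MonoidHom.mem_ker.mpr hkK.1, hd'.1⟩
    have hd₂ : d₂ ∈ f₂.range := by
      rw [hf₂]; exact Subgroup.mem_inf.mpr ⟨MonoidHom.mem_ker.mpr hkK.2, hd'.2⟩
    obtain ⟨a, ha⟩ := hd₁
    obtain ⟨b, hb⟩ := hd₂
    refine ⟨(a, b), Subtype.ext ?_⟩
    change μ (f₁ a, f₂ b) = k
    rw [ha, hb, hdk]

end Cfsg.Agent.S3980
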