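import Cfsg.Statements.S3981
import Mathlib
import Cfsg.Agent.Lib.Helper13.PGroup
import Cfsg.Agent.Lib.Helper21.BaerSuzuki

set_option autoImplicit false
open Cfsg

namespace Cfsg.Agent.S3981

open Cfsg.Agent.Lib.Helper21

/-- In a nontrivial finite `p`-subgroup `M` of a group `H` normalized by `y` with `y⁻¹ = y`,
there is a nontrivial element `v` with `v ^ p = 1` that is centralized or inverted by `y`. -/
theorem exists_fixed_or_inverted {H : Type*} [Group H] {p : ℕ} [Fact p.Prime] (M : Subgroup H)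
    [Finite M] (hM : IsPGroup p M) (hM1 : M ≠ ⊥) (y : H) (hy2 : y * y = 1)
    (hyM : ∀ m ∈ M, y * m * y⁻¹ ∈ M) :
    ∃ v ∈ M, v ≠ 1 ∧ v ^ p = 1 ∧ (y * v * y⁻¹ = v ∨ y * v * y⁻¹ = v⁻¹) := by
  have hp : p.Prime := Fact.out
  have hyinv : y⁻¹ = y := inv_eq_of_mul_eq_one_left hy2
  haveI : Nontrivial M := by
    rw [← Subgroup.nontrivial_iff_ne_bot] at hM1; exact hM1
  -- an element of order p in the centre of M
  haveI : Nontrivial (Subgroup.center M) := hM.center_nontrivial
  have hcp : IsPGroup p (Subgroup.center M) := hM.to_subgroup _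
  have hdvd : p ∣ Nat.card (Subgroup.center M) := by
    rcases hcp.card_eq_or_dvd with h | h
    · exfalso
      have := (Subgroup.card_eq_one (H := Subgroup.center M)).mp h
      exact (Subgroup.nontrivial_iff_ne_bot _).mp ‹Nontrivial (Subgroup.center M)› this
    · exact h
  obtain ⟨⟨⟨z, hzM⟩, hzc⟩, hzo⟩ := exists_prime_orderOf_dvd_card' p hdvd
  have hzo' : orderOf z = p := by
    rw [← hzo, ← Subgroup.orderOf_coe, ← Subgroup.orderOf_coe]
  have hzcomm : ∀ m ∈ M, m * z = z * m := by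
    intro m hm
    have := Subgroup.mem_center_iff.mp hzc ⟨m, hm⟩
    exact congrArg Subtype.val this
  have hz1 : z ≠ 1 := by
    intro h; rw [h, orderOf_one] at hzo'; exact hp.one_lt.ne hzo'
  have hzp : z ^ p = 1 := by rw [← hzo']; exact pow_orderOf_eq_one z
  set z' := y * z * y⁻¹ with hz'
  have hz'M : z' ∈ M := hyM z hzM
  have hzz' : z * z' = z' * z := (hzcomm z' hz'M).symm
  have hyz' : y * z' * y⁻¹ = z := by
    rw [hz', hyinv]
    calc y * (y * z * y) * y = (y * y) * z * (y * y) := by group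
      _ = z := by rw [hy2]; group
  by_cases hw : z * z' = 1
  · -- inverted
    refine ⟨z, hzM, hz1, hzp, Or.inr ?_⟩
    exact (eq_inv_of_mul_eq_one_right hw)
  · refine ⟨z * z', M.mul_mem hzM hz'M, hw, ?_, Or.inl ?_⟩
    · rw [(show Commute z z' from hzz').mul_pow, hzp, hz', conj_pow, hzp]; simp
    · calc y * (z * z') * y⁻¹ = (y * z * y⁻¹) * (y * z' * y⁻¹) := by group
        _ = z' * z := by rw [hyz']
        _ = z * z' := hzz'.symm

/-- Let p be an odd prime, Q a p-subgroup of the finite group G and y an involution normalizing Q. Then Q is maximal among the p-subgroups of G normalized by y if and only if the image of y in N_G(Q) ⧸ Q neither inverts nor centralizes any element of order p there; the latter is phrased inside N_G(Q): for every x in N_G(Q) outside Q with x ^ p ∈ Q, neither y x y⁻¹ x nor y x y⁻¹ x⁻¹ lies in Q. -/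
theorem result {G : Type*} [Group G] [Finite G] (p : ℕ) [Fact p.Prime] (hp2 : p ≠ 2) (Q : Subgroup G) (hQ : IsPGroup p ↥Q) (y : G) (hy : orderOf y = 2) (hyQ : y ∈ Subgroup.normalizer (Q : Set G)) : (∀ R : Subgroup G, IsPGroup p ↥R → Q ≤ R → y ∈ Subgroup.normalizer (R : Set G) → R = Q) ↔ ∀ x : G, x ∈ Subgroup.normalizer (Q : Set G) → x ∉ Q → x ^ p ∈ Q → (y * x * y⁻¹ * x ∉ Q ∧ y * x * y⁻¹ * x⁻¹ ∉ Q) := by
  have hp : p.Prime := Fact.out
  have hy2 : y * y = 1 := by rw [← sq, ← hy]; exact pow_orderOf_eq_one y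
  have hyinv : y⁻¹ = y := inv_eq_of_mul_eq_one_left hy2
  have hyQ' : ∀ q ∈ Q, y * q * y⁻¹ ∈ Q := fun q hq => (Subgroup.mem_normalizer_iff.mp hyQ q).mp hq
  constructor
  · intro hmax x hxN hxQ hxp
    by_contra hcon
    rw [not_and_or, not_not, not_not] at hcon
    -- R = Q ⊔ zpowers x
    have hxpow : IsPGroup p (Subgroup.zpowers x) := by
      obtain ⟨k, hk⟩ := (IsPGroup.iff_orderOf.mp hQ) ⟨x ^ p, hxp⟩
      rw [Subgroup.orderOf_mk] at hk
      have h1 : x ^ (p * p ^ k) = 1 := by rw [pow_mul, ← hk]; exact pow_orderOf_eq_one _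
      have h2 : orderOf x ∣ p ^ (k + 1) := by
        rw [pow_succ']; exact orderOf_dvd_of_pow_eq_one h1
      obtain ⟨j, _, hj⟩ := (Nat.dvd_prime_pow hp).mp h2
      apply IsPGroup.of_card (n := j)
      rw [Nat.card_zpowers, hj]
    have hle : Subgroup.zpowers x ≤ Subgroup.normalizer (Q : Set G) := by
      rw [Subgroup.zpowers_le]; exact hxN
    have hR : IsPGroup p (Subgroup.zpowers x ⊔ Q : Subgroup G) :=
      IsPGroup.to_sup_of_normal_right' hxpow hQ hle
    have hyx : y * x * y⁻¹ ∈ Subgroup.zpowers x ⊔ Q := by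
      rcases hcon with h | h
      · have : y * x * y⁻¹ = (y * x * y⁻¹ * x) * x⁻¹ := by group
        rw [this]
        exact Subgroup.mul_mem _ (Subgroup.mem_sup_right h)
          (Subgroup.inv_mem _ (Subgroup.mem_sup_left (Subgroup.mem_zpowers x)))
      · have : y * x * y⁻¹ = (y * x * y⁻¹ * x⁻¹) * x := by group
        rw [this]
        exact Subgroup.mul_mem _ (Subgroup.mem_sup_right h)
          (Subgroup.mem_sup_left (Subgroup.mem_zpowers x))
    have hconjR : ∀ e ∈ Subgroup.zpowers x ⊔ Q, y * e * y⁻¹ ∈ Subgroup.zpowers x ⊔ Q := by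
      intro e he
      have : Subgroup.zpowers x ⊔ Q = Subgroup.closure ({x} ∪ (Q : Set G)) := by
        rw [Subgroup.closure_union, Subgroup.closure_eq, Subgroup.zpowers_eq_closure]
      rw [this] at he ⊢
      refine conj_closure_mem ?_ e he
      rintro d (hd | hd)
      · rw [Set.mem_singleton_iff] at hd
        rw [hd, ← this]; exact hyx
      · exact Subgroup.subset_closure (Or.inr (hyQ' d hd))
    have hyR : y ∈ Subgroup.normalizer ((Subgroup.zpowers x ⊔ Q : Subgroup G) : Set G) := by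
      apply mem_normalizer_of_conj_mem hconjR
      intro e he
      have := hconjR e he
      rwa [hyinv] at this ⊢
    have := hmax _ hR le_sup_right hyR
    apply hxQ
    rw [← this]
    exact Subgroup.mem_sup_left (Subgroup.mem_zpowers x)
  · intro hcond R hR hQR hyR
    by_contra hne
    have hlt : Q < R := lt_of_le_of_ne hQR (Ne.symm hne)
    have h1 := Cfsg.Agent.Lib.Helper13.lt_inf_normalizer_of_lt R Q hR hlt
    set N := Subgroup.normalizer (Q : Set G) with hN
    set N1 := R ⊓ N with hN1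
    -- work in N ⧸ Q
    haveI : (Q.subgroupOf N).Normal := Subgroup.normal_in_normalizer
    let π := QuotientGroup.mk' (Q.subgroupOf N)
    set M : Subgroup (N ⧸ Q.subgroupOf N) := (N1.subgroupOf N).map π with hMdef
    have hMp : IsPGroup p M := ((hR.to_le inf_le_left).comap_subtype).map π
    have hM1 : M ≠ ⊥ := by
      intro hbot
      obtain ⟨u, huN1, huQ⟩ := SetLike.exists_of_lt h1
      have huN : u ∈ N := huN1.2
      have : π ⟨u, huN⟩ ∈ M := ⟨⟨u, huN⟩, Subgroup.mem_subgroupOf.mpr huN1, rfl⟩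
      rw [hbot, Subgroup.mem_bot, ← MonoidHom.mem_ker, QuotientGroup.ker_mk', Subgroup.mem_subgroupOf] at this
      exact huQ this
    let yb : N ⧸ Q.subgroupOf N := π ⟨y, hyQ⟩
    have hyb2 : yb * yb = 1 := by
      change π ⟨y, hyQ⟩ * π ⟨y, hyQ⟩ = 1
      rw [← map_mul]
      have : (⟨y, hyQ⟩ : N) * ⟨y, hyQ⟩ = 1 := Subtype.ext hy2
      rw [this, map_one]
    have hybM : ∀ m ∈ M, yb * m * yb⁻¹ ∈ M := by
      rintro _ ⟨⟨u, huN⟩, hu, rfl⟩
      rw [SetLike.mem_coe, Subgroup.mem_subgroupOf] at hu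
      refine ⟨⟨y, hyQ⟩ * ⟨u, huN⟩ * ⟨y, hyQ⟩⁻¹, ?_, by simp only [map_mul, map_inv]; rfl⟩
      rw [SetLike.mem_coe, Subgroup.mem_subgroupOf]
      refine ⟨?_, (⟨y, hyQ⟩ * ⟨u, huN⟩ * ⟨y, hyQ⟩⁻¹ : N).2⟩
      exact (Subgroup.mem_normalizer_iff.mp hyR u).mp hu.1
    obtain ⟨v, hvM, hv1, hvp, hv⟩ := exists_fixed_or_inverted M hMp hM1 yb hyb2 hybM
    obtain ⟨⟨x, hxN⟩, hx, rfl⟩ := hvM
    rw [SetLike.mem_coe, Subgroup.mem_subgroupOf] at hx
    have hxQ : x ∉ Q := by
      intro hxQ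
      apply hv1
      rw [← MonoidHom.mem_ker, QuotientGroup.ker_mk', Subgroup.mem_subgroupOf]
      exact hxQ
    have hxp : x ^ p ∈ Q := by
      rw [← map_pow, ← MonoidHom.mem_ker, QuotientGroup.ker_mk', Subgroup.mem_subgroupOf] at hvp
      exact hvp
    have hc := hcond x hxN hxQ hxp
    rcases hv with h | h
    · apply hc.2
      have : π (⟨y, hyQ⟩ * ⟨x, hxN⟩ * ⟨y, hyQ⟩⁻¹ * ⟨x, hxN⟩⁻¹) = 1 := by
        simp only [map_mul, map_inv]
        change yb * π ⟨x, hxN⟩ * yb⁻¹ * (π ⟨x, hxN⟩)⁻¹ = 1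
        rw [h]; group
      rw [← MonoidHom.mem_ker, QuotientGroup.ker_mk', Subgroup.mem_subgroupOf] at this
      exact this
    · apply hc.1
      have : π (⟨y, hyQ⟩ * ⟨x, hxN⟩ * ⟨y, hyQ⟩⁻¹ * ⟨x, hxN⟩) = 1 := by
        simp only [map_mul, map_inv]
        change yb * π ⟨x, hxN⟩ * yb⁻¹ * (π ⟨x, hxN⟩) = 1
        rw [h]; group
      rw [← MonoidHom.mem_ker, QuotientGroup.ker_mk', Subgroup.mem_subgroupOf] at this
      exact this

end Cfsg.Agent.S3981
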