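import Cfsg.Statements.S3982
import Mathlib
import Cfsg.Agent.Lib.Helper13.PGroup
import Cfsg.Agent.Lib.Helper10.PGroup
import Cfsg.Agent.Lib.Helper21.IrrCyclic

set_option autoImplicit false
open Cfsg

namespace Cfsg.Agent.S3982

open Cfsg.Agent.Lib.Helper21
open scoped Pointwise

/-- conjugation by `t` restricted to `Q` -/
def conjHom {G : Type*} [Group G] (Q : Subgroup G) (t : G) (ht : ∀ x ∈ Q, t * x * t⁻¹ ∈ Q) :
    ↥Q →* ↥Q where
  toFun x := ⟨t * x * t⁻¹, ht x x.2⟩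
  map_one' := by ext; simp
  map_mul' x y := by ext; simp

/-- conjugation by `t` restricted to `C`, as an automorphism -/
def conjEquiv {G : Type*} [Group G] (C : Subgroup G) (t : G) (ht : ∀ c ∈ C, t * c * t⁻¹ ∈ C)
    (ht' : ∀ c ∈ C, t⁻¹ * c * t ∈ C) : ↥C ≃* ↥C where
  toFun c := ⟨t * c * t⁻¹, ht c c.2⟩
  invFun c := ⟨t⁻¹ * c * t, ht' c c.2⟩
  left_inv c := by ext; simp [mul_assoc]
  right_inv c := by ext; simp [mul_assoc]
  map_mul' a b := by ext; simp [mul_assoc]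

/-- an involution acting without nontrivial fixed points inverts. -/
theorem inverts {G : Type*} [Group G] [Finite G] (Q : Subgroup G) (t : G) (ht2 : t * t = 1)
    (ht : ∀ x ∈ Q, t * x * t⁻¹ ∈ Q) (hfpf : ∀ x ∈ Q, t * x * t⁻¹ = x → x = 1) :
    ∀ x ∈ Q, t * x * t⁻¹ = x⁻¹ := by
  have h1 : MonoidHom.FixedPointFree (conjHom Q t ht) := by
    intro x hx
    have := hfpf x x.2 (congrArg Subtype.val hx)
    exact Subtype.ext this
  have htinv : t⁻¹ = t := inv_eq_of_mul_eq_one_left ht2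
  have h2 : Function.Involutive (conjHom Q t ht) := by
    intro x
    apply Subtype.ext
    show t * (t * x * t⁻¹) * t⁻¹ = x
    rw [htinv]
    calc t * (t * x * t) * t = (t * t) * x * (t * t) := by group
      _ = x := by rw [ht2]; simp
  intro x hx
  have := congrFun (h1.coe_eq_inv_of_involutive h2) ⟨x, hx⟩
  exact congrArg Subtype.val this

theorem step {G : Type*} [Group G] [Finite G] (p : ℕ) [Fact p.Prime]
    (hC : ∀ g : G, g ≠ 1 → (∃ k : ℕ, orderOf g = p ^ k) →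
      Odd (Nat.card ↥(Subgroup.centralizer ({g} : Set G))))
    (Q : Subgroup G) (hQ : IsPGroup p ↥Q) (hQ1 : Q ≠ ⊥)
    (hev : Even (Nat.card ↥(Subgroup.normalizer (Q : Set G))))
    (S : Subgroup G) (hS : IsPGroup p S) (hQS : Q < S) :
    ∃ R₁ : Subgroup G, IsPGroup p R₁ ∧ Nat.card Q < Nat.card R₁ ∧
      Even (Nat.card ↥(Subgroup.normalizer (R₁ : Set G))) := by
  classical
  have hp : p.Prime := Fact.out
  -- an involution in the normalizer
  haveI : Fact (Nat.Prime 2) := ⟨Nat.prime_two⟩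
  obtain ⟨t', ht'⟩ := exists_prime_orderOf_dvd_card' (G := ↥(Subgroup.normalizer (Q : Set G))) 2
    (even_iff_two_dvd.mp hev)
  obtain ⟨t, htN⟩ := t'
  rw [Subgroup.orderOf_mk] at ht'
  have ht2 : t * t = 1 := by
    have := pow_orderOf_eq_one t
    rw [ht', sq] at this
    exact this
  have htinv : t⁻¹ = t := inv_eq_of_mul_eq_one_left ht2
  have htQ : ∀ x ∈ Q, t * x * t⁻¹ ∈ Q := fun x hx =>
    (Subgroup.mem_normalizer_iff.mp htN x).mp hx
  have hpel : ∀ x ∈ S, ∃ k : ℕ, orderOf x = p ^ k := by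
    intro x hx
    obtain ⟨k, hk⟩ := hS ⟨x, hx⟩
    have h1 : x ^ p ^ k = 1 := by
      have := congrArg Subtype.val hk
      simpa using this
    obtain ⟨m, -, hm⟩ := (Nat.dvd_prime_pow hp).mp (orderOf_dvd_of_pow_eq_one h1)
    exact ⟨m, hm⟩
  have hnocomm : ∀ x ∈ S, x ≠ 1 → t * x ≠ x * t := by
    intro x hx hx1 hcomm
    have hodd := hC x hx1 (hpel x hx)
    have htC : t ∈ Subgroup.centralizer ({x} : Set G) :=
      Subgroup.mem_centralizer_singleton_iff.mpr hcomm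
    have h1 : orderOf (⟨t, htC⟩ : ↥(Subgroup.centralizer ({x} : Set G))) ∣
        Nat.card ↥(Subgroup.centralizer ({x} : Set G)) := orderOf_dvd_natCard _
    rw [Subgroup.orderOf_mk, ht'] at h1
    exact (Nat.not_even_iff_odd.mpr hodd) (even_iff_two_dvd.mpr h1)
  have hfpf : ∀ x ∈ Q, t * x * t⁻¹ = x → x = 1 := by
    intro x hx hfix
    by_contra hx1
    apply hnocomm x (hQS.le hx) hx1
    calc t * x = (t * x * t⁻¹) * t := by group
      _ = x * t := by rw [hfix]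
  have hinv := inverts Q t ht2 htQ hfpf
  -- the subgroup `R`
  obtain ⟨R, hRdef⟩ : ∃ R : Subgroup G, R = S ⊓ Subgroup.normalizer (Q : Set G) := ⟨_, rfl⟩
  have hQR : Q < R := by
    rw [hRdef]; exact Cfsg.Agent.Lib.Helper13.lt_inf_normalizer_of_lt S Q hS hQS
  have hRS : R ≤ S := by rw [hRdef]; exact inf_le_left
  have hRN : R ≤ Subgroup.normalizer (Q : Set G) := by rw [hRdef]; exact inf_le_right
  have hR : IsPGroup p R := hS.to_le hRS
  haveI hQRn : (Q.subgroupOf R).Normal := Subgroup.normal_subgroupOf_of_le_normalizer hRN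
  have hQRne : Q.subgroupOf R ≠ ⊥ := by
    obtain ⟨⟨q, hq⟩, hq1⟩ := Subgroup.ne_bot_iff_exists_ne_one.mp hQ1
    intro hbot
    have : (⟨q, hQR.le hq⟩ : ↥R) ∈ Q.subgroupOf R := Subgroup.mem_subgroupOf.mpr hq
    rw [hbot, Subgroup.mem_bot] at this
    apply hq1
    apply Subtype.ext
    have h3 := congrArg Subtype.val this
    simpa using h3
  have hmeet := Cfsg.Agent.Lib.Helper10.normal_inf_center_ne_bot hR (Q.subgroupOf R) hQRne
  obtain ⟨⟨z, hz⟩, hz1⟩ := Subgroup.ne_bot_iff_exists_ne_one.mp hmeet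
  obtain ⟨hzQ, hzc⟩ := Subgroup.mem_inf.mp hz
  obtain ⟨x, hxR⟩ := z
  have hxQ : x ∈ Q := Subgroup.mem_subgroupOf.mp hzQ
  have hx1 : x ≠ 1 := by
    intro h
    apply hz1
    apply Subtype.ext
    apply Subtype.ext
    exact h
  have hxcomm : ∀ r ∈ R, r * x = x * r := by
    intro r hr
    have := Subgroup.mem_center_iff.mp hzc ⟨r, hr⟩
    exact congrArg Subtype.val this
  -- the centralizer `C` of `x`
  obtain ⟨C, hCdef⟩ : ∃ C : Subgroup G, C = Subgroup.centralizer ({x} : Set G) := ⟨_, rfl⟩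
  have hCodd : Odd (Nat.card ↥C) := by
    rw [hCdef]; exact hC x hx1 (hpel x (hQS.le hxQ))
  have hmemC : ∀ c, c ∈ C ↔ c * x = x * c := by
    intro c; rw [hCdef]; exact Subgroup.mem_centralizer_singleton_iff
  have hRC : R ≤ C := fun r hr => (hmemC r).mpr (hxcomm r hr)
  have htx : t * x * t⁻¹ = x⁻¹ := hinv x hxQ
  have htC : ∀ c ∈ C, t * c * t⁻¹ ∈ C := by
    intro c hc
    rw [hmemC] at hc ⊢
    have h1 : t * x⁻¹ * t⁻¹ = x := by
      have h0 : (t * x * t⁻¹)⁻¹ = x := by rw [htx, inv_inv]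
      calc t * x⁻¹ * t⁻¹ = (t * x * t⁻¹)⁻¹ := by group
        _ = x := h0
    have hc' : c * x⁻¹ = x⁻¹ * c := by
      have : x⁻¹ * (c * x) * x⁻¹ = x⁻¹ * (x * c) * x⁻¹ := by rw [hc]
      simp only [mul_assoc, mul_inv_cancel, mul_one, inv_mul_cancel_left] at this
      exact this.symm
    calc t * c * t⁻¹ * x = t * c * t⁻¹ * (t * x⁻¹ * t⁻¹) := by rw [h1]
      _ = t * (c * x⁻¹) * t⁻¹ := by group
      _ = t * (x⁻¹ * c) * t⁻¹ := by rw [hc']
      _ = (t * x⁻¹ * t⁻¹) * (t * c * t⁻¹) := by group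
      _ = x * (t * c * t⁻¹) := by rw [h1]
  have htC' : ∀ c ∈ C, t⁻¹ * c * t ∈ C := by
    intro c hc
    have := htC c hc
    rw [htinv] at this ⊢
    exact this
  have htnotC : t ∉ C := by
    intro htC0
    have h1 : orderOf (⟨t, htC0⟩ : ↥C) ∣ Nat.card ↥C := orderOf_dvd_natCard _
    rw [Subgroup.orderOf_mk, ht'] at h1
    exact (Nat.not_even_iff_odd.mpr hCodd) (even_iff_two_dvd.mpr h1)
  -- a Sylow subgroup of `C` containing `R`
  have hRCp : IsPGroup p (R.subgroupOf C) := hR.comap_subtype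
  obtain ⟨R₁', hR₁'⟩ := hRCp.exists_le_sylow
  obtain ⟨R₁, hR₁def⟩ : ∃ R₁ : Subgroup G, R₁ = (R₁' : Subgroup ↥C).map C.subtype := ⟨_, rfl⟩
  have hR₁p : IsPGroup p R₁ := by rw [hR₁def]; exact R₁'.2.map _
  have hRR₁ : R ≤ R₁ := by
    intro r hr
    rw [hR₁def]
    exact ⟨⟨r, hRC hr⟩, hR₁' (Subgroup.mem_subgroupOf.mpr hr), rfl⟩
  have hcard : Nat.card Q < Nat.card R₁ :=
    lt_of_lt_of_le (Cfsg.Agent.Lib.Helper13.card_lt_card_of_lt hQR) (Subgroup.card_le_of_le hRR₁)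
  refine ⟨R₁, hR₁p, hcard, ?_⟩
  -- Frattini argument
  obtain ⟨φ, hφ⟩ : ∃ φ : MulAut ↥C, φ = conjEquiv C t htC htC' := ⟨_, rfl⟩
  obtain ⟨c, hc⟩ := MulAction.exists_smul_eq ↥C (φ • R₁') R₁'
  obtain ⟨g, hgdef⟩ : ∃ g : G, g = (c : G) * t := ⟨_, rfl⟩
  have hgN : g ∈ Subgroup.normalizer (R₁ : Set G) := by
    apply mem_normalizer_of_conj_mem_finite
    intro y hy
    rw [hR₁def] at hy
    obtain ⟨y', hy', rfl⟩ := hy
    have h1 : φ • y' ∈ φ • (R₁' : Subgroup ↥C) := Subgroup.smul_mem_pointwise_smul _ _ _ hy'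
    rw [← Sylow.pointwise_smul_def] at h1
    have h2 : MulAut.conj c • (φ • y') ∈ MulAut.conj c • ((φ • R₁' : Sylow p ↥C) : Subgroup ↥C) :=
      Subgroup.smul_mem_pointwise_smul _ _ _ h1
    have h3 : ((c • (φ • R₁') : Sylow p ↥C) : Subgroup ↥C) =
        MulAut.conj c • ((φ • R₁' : Sylow p ↥C) : Subgroup ↥C) := Sylow.coe_subgroup_smul
    rw [← h3, hc] at h2
    rw [hR₁def]
    refine ⟨_, h2, ?_⟩
    rw [MulAut.smul_def, MulAut.smul_def, hφ, hgdef]
    simp only [MulAut.conj_apply, conjEquiv, MulEquiv.coe_mk, Equiv.coe_fn_mk, Subgroup.subtype_apply,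
      Subgroup.coe_mul, Subgroup.coe_inv]
    group
  -- powers of `g`
  have hpow : ∀ k : ℕ, ∃ c' ∈ C, g ^ k = c' * t ^ k := by
    intro k
    induction k with
    | zero => exact ⟨1, C.one_mem, by simp⟩
    | succ k ih =>
      obtain ⟨c', hc', hk⟩ := ih
      refine ⟨(c : G) * (t * c' * t⁻¹), C.mul_mem c.2 (htC c' hc'), ?_⟩
      rw [pow_succ', hk, hgdef, pow_succ']
      group
  by_contra hodd
  rw [Nat.not_even_iff_odd] at hodd
  have h1 : orderOf (⟨g, hgN⟩ : ↥(Subgroup.normalizer (R₁ : Set G))) ∣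
      Nat.card ↥(Subgroup.normalizer (R₁ : Set G)) := orderOf_dvd_natCard _
  rw [Subgroup.orderOf_mk] at h1
  have hgodd : Odd (orderOf g) := Odd.of_dvd_nat hodd h1
  obtain ⟨j, hj⟩ := hgodd
  obtain ⟨c', hc', hk⟩ := hpow (orderOf g)
  rw [pow_orderOf_eq_one] at hk
  have htpow : t ^ orderOf g = t := by
    rw [hj, pow_succ, pow_mul, sq, ht2, one_pow, one_mul]
  rw [htpow] at hk
  apply htnotC
  have : t = c'⁻¹ := eq_inv_of_mul_eq_one_right hk.symm
  rw [this]; exact C.inv_mem hc'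

/-- Let p be an odd prime and G a finite group of even order divisible by p in which the centralizer of every non-identity p-element has odd order. If some nontrivial p-subgroup of G has a normalizer of even order, then the normalizer of every Sylow p-subgroup of G has even order. -/
theorem result {G : Type*} [Group G] [Finite G] (p : ℕ) [Fact p.Prime] (hp2 : p ≠ 2) (hpG : p ∣ Nat.card G) (h2G : 2 ∣ Nat.card G) (hC : ∀ g : G, g ≠ 1 → (∃ k : ℕ, orderOf g = p ^ k) → Odd (Nat.card ↥(Subgroup.centralizer ({g} : Set G)))) (Q : Subgroup G) (hQ : IsPGroup p ↥Q) (hQ1 : Q ≠ ⊥) (hev : Even (Nat.card ↥(Subgroup.normalizer (Q : Set G)))) (P : Sylow p G) : Even (Nat.card ↥(Subgroup.normalizer ((P : Subgroup G) : Set G))) := by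
  classical
  obtain ⟨s, hs⟩ : ∃ s : Set (Subgroup G), s = {Q' : Subgroup G | IsPGroup p ↥Q' ∧ Q' ≠ ⊥ ∧
    Even (Nat.card ↥(Subgroup.normalizer (Q' : Set G)))} := ⟨_, rfl⟩
  have hQs : Q ∈ s := by rw [hs]; exact ⟨hQ, hQ1, hev⟩
  obtain ⟨Q₀, hQ₀s, hmax⟩ := Set.exists_max_image s (fun Q' => Nat.card ↥Q') (Set.toFinite s) ⟨Q, hQs⟩
  rw [hs] at hQ₀s
  obtain ⟨hQ₀p, hQ₀1, hQ₀ev⟩ := hQ₀s
  obtain ⟨S₀, hS₀⟩ := hQ₀p.exists_le_sylow
  have heq : Q₀ = (S₀ : Subgroup G) := by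
    by_contra hne
    have hlt : Q₀ < (S₀ : Subgroup G) := lt_of_le_of_ne hS₀ hne
    obtain ⟨R₁, hR₁p, hcard, hR₁ev⟩ := step p hC Q₀ hQ₀p hQ₀1 hQ₀ev S₀ S₀.2 hlt
    have hR₁1 : R₁ ≠ ⊥ := by
      intro h
      rw [h, Subgroup.card_bot] at hcard
      have : 0 < Nat.card ↥Q₀ := Nat.card_pos
      omega
    have := hmax R₁ (by rw [hs]; exact ⟨hR₁p, hR₁1, hR₁ev⟩)
    omega
  obtain ⟨g, hg⟩ := MulAction.exists_smul_eq G S₀ P
  have e1 : ∀ P' : Sylow p G, MulAction.stabilizer G P' =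
      Subgroup.normalizer ((P' : Subgroup G) : Set G) := fun P' => Sylow.stabilizer_eq_normalizer P'
  rw [← e1, ← hg, MulAction.stabilizer_smul_eq_stabilizer_map_conj,
    Subgroup.card_map_of_injective (MulEquiv.injective _), e1, ← heq]
  exact hQ₀ev

end Cfsg.Agent.S3982
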