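import Cfsg.Statements.S3983
import Mathlib
import Cfsg.Agent.Lib.Helper21.TISylow

set_option autoImplicit false
open scoped Pointwise
open Cfsg

namespace Cfsg.Agent.S3983

open scoped Pointwise
open Cfsg.Agent.Lib.Helper21

/-- Let P be a Sylow p-subgroup of the finite group G that meets each conjugate g P g⁻¹ with g outside N_G(P) trivially, and let U be a subgroup of G of order divisible by p. Then a Sylow p-subgroup Q of U has the same property inside U: Q meets each conjugate u Q u⁻¹ with u ∈ U outside N_U(Q) trivially. -/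
theorem result {G : Type*} [Group G] [Finite G] (p : ℕ) [Fact p.Prime] (P : Sylow p G) (hTI : ∀ g : G, g ∉ Subgroup.normalizer ((P : Subgroup G) : Set G) → (P : Subgroup G) ⊓ (MulAut.conj g • (P : Subgroup G)) = ⊥) (U : Subgroup G) (hU : p ∣ Nat.card ↥U) (Q : Sylow p ↥U) : ∀ u : ↥U, u ∉ Subgroup.normalizer ((Q : Subgroup ↥U) : Set ↥U) → (Q : Subgroup ↥U) ⊓ (MulAut.conj u • (Q : Subgroup ↥U)) = ⊥ := by
  intro u hu
  have hne : u • Q ≠ Q := fun h => hu (Sylow.smul_eq_iff_mem_normalizer.mp h)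
  have hti := sylow_inf_eq_bot_of_ti P hTI
  -- Sylow subgroups of G containing the images
  obtain ⟨P1, hP1⟩ := (Q.2.map U.subtype).exists_le_sylow
  obtain ⟨P2, hP2⟩ := ((u • Q).2.map U.subtype).exists_le_sylow
  have key : ∀ (Q' : Sylow p U) (P' : Sylow p G), (Q' : Subgroup U).map U.subtype ≤ P' →
      (Q' : Subgroup U) = (P' : Subgroup G).subgroupOf U := by
    intro Q' P' hQP
    have hle : (Q' : Subgroup U) ≤ (P' : Subgroup G).subgroupOf U := by
      intro x hx
      rw [Subgroup.mem_subgroupOf]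
      exact hQP ⟨x, hx, rfl⟩
    exact (Q'.3 (P'.2.comap_subtype) hle).symm
  have hP12 : P1 ≠ P2 := by
    intro h
    apply hne
    apply Sylow.ext
    rw [key _ _ hP2, key _ _ hP1, h]
  have h0 := hti P1 P2 hP12
  rw [eq_bot_iff]
  intro z hz
  rw [Subgroup.mem_bot]
  have hz1 : (z : G) ∈ (P1 : Subgroup G) := hP1 ⟨z, hz.1, rfl⟩
  have hz2 : (z : G) ∈ (P2 : Subgroup G) := by
    apply hP2
    refine ⟨z, ?_, rfl⟩
    rw [Sylow.coe_subgroup_smul]
    exact hz.2
  have : (z : G) ∈ (P1 : Subgroup G) ⊓ (P2 : Subgroup G) := ⟨hz1, hz2⟩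
  rw [h0, Subgroup.mem_bot] at this
  exact Subtype.ext this

end Cfsg.Agent.S3983
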