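import Cfsg.Statements.S3984
import Mathlib
import Cfsg.Agent.Lib.Helper21.TISylow
import Cfsg.Agent.Lib.Helper13.Sylow

set_option autoImplicit false
open scoped Pointwise
open Cfsg

namespace Cfsg.Agent.S3984

open scoped Pointwise
open Cfsg.Agent.Lib.Helper21

/-- Let P be a Sylow p-subgroup of the finite group G that meets each conjugate g P g⁻¹ with g outside N_G(P) trivially, and let N be a normal subgroup of G of order prime to p. Then every Sylow p-subgroup Q of G ⧸ N meets each conjugate x Q x⁻¹ with x outside its normalizer trivially. -/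
theorem result {G : Type*} [Group G] [Finite G] (p : ℕ) [Fact p.Prime] (P : Sylow p G) (hTI : ∀ g : G, g ∉ Subgroup.normalizer ((P : Subgroup G) : Set G) → (P : Subgroup G) ⊓ (MulAut.conj g • (P : Subgroup G)) = ⊥) (N : Subgroup G) [N.Normal] (hN : (Nat.card ↥N).Coprime p) (Q : Sylow p (G ⧸ N)) : ∀ x : G ⧸ N, x ∉ Subgroup.normalizer ((Q : Subgroup (G ⧸ N)) : Set (G ⧸ N)) → (Q : Subgroup (G ⧸ N)) ⊓ (MulAut.conj x • (Q : Subgroup (G ⧸ N))) = ⊥ := by
  have hp : p.Prime := Fact.out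
  have hti := sylow_inf_eq_bot_of_ti P hTI
  have hsurj : Function.Surjective (QuotientGroup.mk' N) := QuotientGroup.mk'_surjective N
  apply ti_of_sylow_inf_eq_bot
  intro Q1 Q2 hQ12
  obtain ⟨P1, rfl⟩ := Sylow.mapSurjective_surjective hsurj p Q1
  obtain ⟨P2, rfl⟩ := Sylow.mapSurjective_surjective hsurj p Q2
  rw [eq_bot_iff]
  intro zb hzb
  rw [Subgroup.mem_bot]
  by_contra hzb1
  rw [Subgroup.mem_inf, Sylow.coe_mapSurjective, Sylow.coe_mapSurjective] at hzb
  obtain ⟨z, hz1, rfl⟩ := hzb.1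
  obtain ⟨y, hy2, hyz⟩ := hzb.2
  have hz_ne : z ≠ 1 := by
    intro h; apply hzb1; rw [h, map_one]
  -- z ∈ P2 ⊔ N
  have hzH : z ∈ (P2 : Subgroup G) ⊔ N := by
    have : y⁻¹ * z ∈ N := by
      rw [← QuotientGroup.eq]; exact hyz
    have h2 : z = y * (y⁻¹ * z) := by group
    rw [h2]
    exact Subgroup.mul_mem_sup hy2 this
  have hzp : IsPGroup p (Subgroup.zpowers z) := P1.2.to_le (Subgroup.zpowers_le.mpr hz1)
  have hidx : ¬ p ∣ (P2 : Subgroup G).relIndex ((P2 : Subgroup G) ⊔ N) := by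
    intro hdvd
    exact P2.not_dvd_index (hdvd.trans (Subgroup.relIndex_dvd_index_of_le le_sup_left))
  obtain ⟨h, hh, hconj⟩ := Cfsg.Agent.Lib.Helper13.exists_conj_le_of_relIndex
    ((P2 : Subgroup G) ⊔ N) (P2 : Subgroup G) (Subgroup.zpowers z) P2.2 hidx
    (Subgroup.zpowers_le.mpr hzH) hzp
  have hz2 := hconj z (Subgroup.mem_zpowers z)
  obtain ⟨a, ha, n, hn, rfl⟩ := Subgroup.mem_sup_of_normal_right.mp hh
  have hz3 : n * z * n⁻¹ ∈ (P2 : Subgroup G) := by
    have : n * z * n⁻¹ = a⁻¹ * (a * n * z * (a * n)⁻¹) * a := by group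
    rw [this]
    exact mul_mem (mul_mem (inv_mem ha) hz2) ha
  -- P2' = n⁻¹ • P2 contains z
  have hz4 : z ∈ ((n⁻¹ • P2 : Sylow p G) : Subgroup G) := by
    rw [Cfsg.Agent.Lib.Helper13.mem_smul_sylow_iff]
    simpa using hz3
  have hP12 : P1 = n⁻¹ • P2 := by
    by_contra hne
    have := hti P1 (n⁻¹ • P2) hne
    have hmem : z ∈ (P1 : Subgroup G) ⊓ ((n⁻¹ • P2 : Sylow p G) : Subgroup G) := ⟨hz1, hz4⟩
    rw [this, Subgroup.mem_bot] at hmem
    exact hz_ne hmem
  apply hQ12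
  apply Sylow.ext
  rw [Sylow.coe_mapSurjective, Sylow.coe_mapSurjective, hP12]
  ext w
  constructor
  · rintro ⟨v, hv, rfl⟩
    rw [SetLike.mem_coe, Cfsg.Agent.Lib.Helper13.mem_smul_sylow_iff] at hv
    refine ⟨n⁻¹⁻¹ * v * n⁻¹, hv, ?_⟩
    simp only [map_mul, map_inv]
    have : QuotientGroup.mk' N n = 1 := by
      rw [← MonoidHom.mem_ker, QuotientGroup.ker_mk']; exact hn
    rw [this]; simp
  · rintro ⟨v, hv, rfl⟩
    refine ⟨n⁻¹ * v * n, ?_, ?_⟩
    · rw [SetLike.mem_coe, Cfsg.Agent.Lib.Helper13.mem_smul_sylow_iff]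
      have : n⁻¹⁻¹ * (n⁻¹ * v * n) * n⁻¹ = v := by group
      rw [this]; exact hv
    · simp only [map_mul, map_inv]
      have : QuotientGroup.mk' N n = 1 := by
        rw [← MonoidHom.mem_ker, QuotientGroup.ker_mk']; exact hn
      rw [this]; simp

end Cfsg.Agent.S3984
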