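import Cfsg.Statements.S3985
import Mathlib
import Cfsg.Agent.Lib.Helper21.TISylow

set_option autoImplicit false
open scoped Pointwise
open Cfsg

namespace Cfsg.Agent.S3985

open scoped Pointwise
open Cfsg.Agent.Lib.Helper21

theorem conj_pow_iter {G : Type*} [Group G] (t h : G) (k : ℕ) (hk : h * t * h⁻¹ = t ^ k) (i : ℕ) :
    h ^ i * t * (h ^ i)⁻¹ = t ^ (k ^ i) := by
  induction i with
  | zero => simp
  | succ i ih =>
    have : h ^ (i + 1) * t * (h ^ (i + 1))⁻¹ = h * (h ^ i * t * (h ^ i)⁻¹) * h⁻¹ := by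
      rw [pow_succ']; group
    rw [this, ih, ← conj_pow, hk, ← pow_mul, pow_succ, mul_comm]

theorem core {G : Type*} [Group G] {p : ℕ} (hp : p.Prime) (t h : G) (n : ℕ) (ht : orderOf t = p ^ n)
    (k j : ℕ) (hk : h * t * h⁻¹ = t ^ k) (hx : t ^ j ≠ 1) (hfix : h * t ^ j * h⁻¹ = t ^ j) :
    h ^ (p ^ (n - 1)) * t * (h ^ (p ^ (n - 1)))⁻¹ = t := by
  have hn : 1 ≤ n := by
    by_contra hn0
    have : n = 0 := by omega
    rw [this, pow_zero, orderOf_eq_one_iff] at ht
    rw [ht, one_pow] at hx
    exact hx rfl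
  -- t^(k j) = t^j
  have h1 : t ^ (k * j) = t ^ j := by
    rw [pow_mul, ← hk, conj_pow, hfix]
  have h2 : k * j ≡ j [MOD p ^ n] := by
    rw [← ht]; exact pow_eq_pow_iff_modEq.mp h1
  have hj : ¬ (p ^ n ∣ j) := by
    intro hdvd
    apply hx
    rw [← ht] at hdvd
    exact orderOf_dvd_iff_pow_eq_one.mp hdvd
  have h3 : (p : ℤ) ∣ (k : ℤ) - 1 := by
    have h4 : ((p ^ n : ℕ) : ℤ) ∣ ((k * j : ℕ) : ℤ) - (j : ℤ) := by
      have := (Nat.modEq_iff_dvd.mp h2.symm)
      exact this
    have h5 : ((p : ℤ) ^ n) ∣ ((k : ℤ) - 1) * j := by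
      have : ((k * j : ℕ) : ℤ) - (j : ℤ) = ((k : ℤ) - 1) * j := by push_cast; ring
      rw [this] at h4
      exact_mod_cast h4
    by_contra hnd
    have hcop : IsCoprime ((p : ℤ) ^ n) ((k : ℤ) - 1) := by
      apply IsCoprime.pow_left
      exact (Prime.coprime_iff_not_dvd (Nat.prime_iff_prime_int.mp hp)).mpr hnd
    have h6 : ((p : ℤ) ^ n) ∣ (j : ℤ) := hcop.dvd_of_dvd_mul_left h5
    apply hj
    exact_mod_cast h6
  have h7 : ((p : ℤ) ^ n) ∣ (k : ℤ) ^ (p ^ (n - 1)) - 1 := by
    have := dvd_sub_pow_of_dvd_sub (R := ℤ) (p := p) (a := (k : ℤ)) (b := 1) h3 (n - 1)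
    rw [Nat.sub_add_cancel hn, one_pow] at this
    exact this
  have h8 : k ^ (p ^ (n - 1)) ≡ 1 [MOD p ^ n] := by
    apply Nat.ModEq.symm
    rw [Nat.modEq_iff_dvd]
    push_cast
    exact h7
  rw [conj_pow_iter t h k hk]
  have : t ^ (k ^ (p ^ (n - 1))) = t ^ 1 := by
    rw [pow_eq_pow_iff_modEq, ht]; exact h8
  rw [this, pow_one]

/-- Let P be a cyclic Sylow p-subgroup of the finite group G. Then P meets each conjugate g P g⁻¹ with g outside N_G(P) trivially if and only if P is weakly self-centralizing: C_G(x) = C_G(P) for every non-identity x ∈ P. -/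
theorem result {G : Type*} [Group G] [Finite G] (p : ℕ) [Fact p.Prime] (P : Sylow p G) (hcyc : IsCyclic ↥(P : Subgroup G)) : (∀ g : G, g ∉ Subgroup.normalizer ((P : Subgroup G) : Set G) → (P : Subgroup G) ⊓ (MulAut.conj g • (P : Subgroup G)) = ⊥) ↔ ∀ x : G, x ∈ (P : Subgroup G) → x ≠ 1 → Subgroup.centralizer ({x} : Set G) = Subgroup.centralizer ((P : Subgroup G) : Set G) := by
  have hp : p.Prime := Fact.out
  have hPcomm : ∀ a ∈ (P : Subgroup G), ∀ b ∈ (P : Subgroup G), a * b = b * a := by
    intro a ha b hb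
    have := (IsCyclic.commGroup (α := (P : Subgroup G))).mul_comm ⟨a, ha⟩ ⟨b, hb⟩
    exact congrArg Subtype.val this
  constructor
  · intro hTI x hxP hx1
    apply le_antisymm
    · intro g hg
      rw [Subgroup.mem_centralizer_singleton_iff] at hg
      -- g normalizes P
      have hgN : g ∈ Subgroup.normalizer ((P : Subgroup G) : Set G) := by
        by_contra hgN
        have h0 := hTI g hgN
        have : x ∈ (P : Subgroup G) ⊓ (MulAut.conj g • (P : Subgroup G)) := by
          refine Subgroup.mem_inf.mpr ⟨hxP, ?_⟩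
          rw [Subgroup.mem_pointwise_smul_iff_inv_smul_mem]
          simp only [MulAut.smul_def, MulAut.conj_inv_apply]
          have : g⁻¹ * x * g = x := by
            calc g⁻¹ * x * g = g⁻¹ * (g * x) := by rw [hg]; group
              _ = x := by group
          rw [this]; exact hxP
        rw [h0, Subgroup.mem_bot] at this
        exact hx1 this
      -- generator of P
      obtain ⟨⟨t, htP⟩, hgen⟩ := hcyc.exists_generator
      have hgen' : ∀ y ∈ (P : Subgroup G), ∃ i : ℕ, t ^ i = y := by
        intro y hy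
        have h1 := hgen ⟨y, hy⟩
        rw [← mem_powers_iff_mem_zpowers] at h1
        obtain ⟨i, hi⟩ := h1
        exact ⟨i, congrArg Subtype.val hi⟩
      obtain ⟨n, hn⟩ := IsPGroup.iff_card.mp P.2
      have hot : orderOf t = p ^ n := by
        rw [← hn, ← Subgroup.orderOf_mk t htP]
        exact orderOf_eq_card_of_forall_mem_zpowers hgen
      obtain ⟨j, hj⟩ := hgen' x hxP
      have hgt : g * t * g⁻¹ ∈ (P : Subgroup G) := by
        rw [Subgroup.mem_normalizer_iff] at hgN
        exact (hgN t).mp htP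
      obtain ⟨k, hk⟩ := hgen' _ hgt
      have hcore := core hp t g n hot k j hk.symm (by rw [hj]; exact hx1)
        (by rw [hj]; calc g * x * g⁻¹ = x * g * g⁻¹ := by rw [hg]
                        _ = x := by group)
      -- g^(p^(n-1)) centralizes P
      set C := Subgroup.centralizer ((P : Subgroup G) : Set G) with hC
      set N := Subgroup.normalizer ((P : Subgroup G) : Set G) with hN
      have hpowC : g ^ (p ^ (n - 1)) ∈ C := by
        rw [hC, Subgroup.mem_centralizer_iff]
        intro y hy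
        obtain ⟨i, rfl⟩ := hgen' y hy
        have e : g ^ (p ^ (n - 1)) * t = t * g ^ (p ^ (n - 1)) := by
          calc g ^ (p ^ (n - 1)) * t = (g ^ (p ^ (n - 1)) * t * (g ^ (p ^ (n - 1)))⁻¹) * g ^ (p ^ (n - 1)) := by group
            _ = t * g ^ (p ^ (n - 1)) := by rw [hcore]
        exact ((Commute.pow_right (show Commute (g ^ (p ^ (n - 1))) t from e) i).eq).symm
      -- quotient argument
      have hCN : C ≤ N := Subgroup.centralizer_le_normalizer _
      have hPC : (P : Subgroup G) ≤ C := by
        intro a ha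
        rw [hC, Subgroup.mem_centralizer_iff]
        intro b hb
        exact hPcomm b hb a ha
      have hidx : ¬ p ∣ C.relIndex N := by
        intro hdvd
        have h1 : C.relIndex N ∣ (P : Subgroup G).relIndex N := Subgroup.relIndex_dvd_of_le_left N hPC
        have h2 : (P : Subgroup G).relIndex N ∣ (P : Subgroup G).index :=
          Subgroup.relIndex_dvd_index_of_le Subgroup.le_normalizer
        exact P.not_dvd_index (hdvd.trans (h1.trans h2))
      have : (C.subgroupOf N).Normal := Subgroup.normal_subgroupOf_centralizer_normalizer _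
      let gbar : N ⧸ C.subgroupOf N := QuotientGroup.mk ⟨g, hgN⟩
      have hb1 : gbar ^ (p ^ (n - 1)) = 1 := by
        change (QuotientGroup.mk ((⟨g, hgN⟩ : N) ^ (p ^ (n - 1))) : N ⧸ C.subgroupOf N) = 1
        rw [QuotientGroup.eq_one_iff, Subgroup.mem_subgroupOf]
        exact hpowC
      have hb2 : gbar ^ (C.relIndex N) = 1 := by
        have : Nat.card (N ⧸ C.subgroupOf N) = C.relIndex N := rfl
        rw [← this]
        exact pow_card_eq_one'
      have hb3 : orderOf gbar = 1 := by
        have d1 : orderOf gbar ∣ p ^ (n - 1) := orderOf_dvd_of_pow_eq_one hb1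
        have d2 : orderOf gbar ∣ C.relIndex N := orderOf_dvd_of_pow_eq_one hb2
        have hcop : (p ^ (n - 1)).Coprime (C.relIndex N) :=
          Nat.Coprime.pow_left _ ((Nat.Prime.coprime_iff_not_dvd hp).mpr hidx)
        exact Nat.eq_one_of_dvd_coprimes hcop d1 d2
      rw [orderOf_eq_one_iff, QuotientGroup.eq_one_iff, Subgroup.mem_subgroupOf] at hb3
      exact hb3
    · apply Subgroup.centralizer_le
      rw [Set.singleton_subset_iff]; exact hxP
  · intro hC g hg
    rw [eq_bot_iff]
    intro z hz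
    rw [Subgroup.mem_bot]
    by_contra hz1
    rw [Subgroup.mem_inf] at hz
    have hCz := hC z hz.1 hz1
    -- g • P centralizes z
    have hle : MulAut.conj g • (P : Subgroup G) ≤ Subgroup.centralizer ((P : Subgroup G) : Set G) := by
      rw [← hCz]
      intro w hw
      rw [Subgroup.mem_centralizer_singleton_iff]
      have hz2 := hz.2
      rw [Subgroup.mem_pointwise_smul_iff_inv_smul_mem] at hw hz2
      simp only [MulAut.smul_def, MulAut.conj_inv_apply] at hw hz2
      have := hPcomm _ hw _ hz2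
      have e : g * ((g⁻¹ * w * g) * (g⁻¹ * z * g)) * g⁻¹ = g * ((g⁻¹ * z * g) * (g⁻¹ * w * g)) * g⁻¹ := by
        rw [this]
      calc w * z = g * ((g⁻¹ * w * g) * (g⁻¹ * z * g)) * g⁻¹ := by group
        _ = g * ((g⁻¹ * z * g) * (g⁻¹ * w * g)) * g⁻¹ := e
        _ = z * w := by group
    have hle2 : MulAut.conj g • (P : Subgroup G) ≤ Subgroup.normalizer ((P : Subgroup G) : Set G) :=
      hle.trans (Subgroup.centralizer_le_normalizer _)
    have hpg : IsPGroup p (↑(MulAut.conj g • (P : Subgroup G)) ⊔ (P : Subgroup G) : Subgroup G) := by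
      have hgP : IsPGroup p (MulAut.conj g • (P : Subgroup G) : Subgroup G) := by
        have := (g • P).2
        rwa [Sylow.coe_subgroup_smul] at this
      exact IsPGroup.to_sup_of_normal_right' hgP P.2 hle2
    have h1 : (P : Subgroup G) = (↑(MulAut.conj g • (P : Subgroup G)) ⊔ (P : Subgroup G) : Subgroup G) :=
      (P.3 hpg le_sup_right).symm
    have h2 : MulAut.conj g • (P : Subgroup G) ≤ (P : Subgroup G) :=
      le_sup_left.trans (le_of_eq h1.symm)
    have h3 : g • P = P := by
      apply Sylow.ext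
      rw [Sylow.coe_subgroup_smul]
      have := (g • P).3 P.2 (by rw [Sylow.coe_subgroup_smul]; exact h2)
      rw [Sylow.coe_subgroup_smul] at this
      exact this.symm
    exact hg (Sylow.smul_eq_iff_mem_normalizer.mp h3)

end Cfsg.Agent.S3985
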