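import Cfsg.Statements.S3987
import Mathlib
import Cfsg.Agent.S3986

set_option autoImplicit false
open Cfsg

namespace Cfsg.Agent.S3987

/-- conjugacy class as a set. -/
def cls {G : Type*} [Group G] (z : G) : Set G := {w | ∃ g : G, g * z * g⁻¹ = w}

theorem self_mem_cls {G : Type*} [Group G] (z : G) : z ∈ cls z := ⟨1, by simp⟩

theorem ncard_cls {G : Type*} [Group G] [Finite G] (z : G) :
    (cls z).ncard = (Subgroup.centralizer ({z} : Set G)).index := by
  rw [← Nat.card_coe_set_eq, Subgroup.index]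
  symm
  let f : G ⧸ Subgroup.centralizer ({z} : Set G) → cls z :=
    Quotient.lift (fun g : G => (⟨g * z * g⁻¹, g, rfl⟩ : cls z)) (by
      intro a b hab
      have hab' : a⁻¹ * b ∈ Subgroup.centralizer ({z} : Set G) := QuotientGroup.leftRel_apply.mp hab
      rw [Subgroup.mem_centralizer_singleton_iff] at hab'
      apply Subtype.ext
      simp only
      have : a⁻¹ * b * z * (a⁻¹ * b)⁻¹ = z := by rw [hab']; group
      calc a * z * a⁻¹ = a * (a⁻¹ * b * z * (a⁻¹ * b)⁻¹) * a⁻¹ := by rw [this]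
        _ = b * z * b⁻¹ := by group)
  apply Nat.card_congr
  refine Equiv.ofBijective f ⟨?_, ?_⟩
  · intro a b
    induction a using QuotientGroup.induction_on with | _ a => ?_
    induction b using QuotientGroup.induction_on with | _ b => ?_
    intro hab
    have h1 : a * z * a⁻¹ = b * z * b⁻¹ := congrArg Subtype.val hab
    rw [QuotientGroup.eq, Subgroup.mem_centralizer_singleton_iff]
    calc a⁻¹ * b * z = a⁻¹ * (b * z * b⁻¹) * b := by group
      _ = a⁻¹ * (a * z * a⁻¹) * b := by rw [h1]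
      _ = z * (a⁻¹ * b) := by group
  · rintro ⟨w, g, rfl⟩
    exact ⟨QuotientGroup.mk g, rfl⟩

theorem commute_of_index_eq {G : Type*} [Group G] [Finite G] (x y : G)
    (h : (Subgroup.centralizer ({x * y} : Set G)).index = (Subgroup.centralizer ({x} : Set G)).index * (Subgroup.centralizer ({y} : Set G)).index) :
    x * y = y * x := by
  let f : G × G → G := fun ab => ab.1 * ab.2
  have hsub : cls (x * y) ⊆ f '' (cls x ×ˢ cls y) := by
    rintro w ⟨g, rfl⟩
    exact ⟨(g * x * g⁻¹, g * y * g⁻¹), ⟨⟨g, rfl⟩, ⟨g, rfl⟩⟩, by simp [f]⟩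
  have h1 : (cls (x * y)).ncard ≤ (f '' (cls x ×ˢ cls y)).ncard := Set.ncard_le_ncard hsub
  have h2 : (f '' (cls x ×ˢ cls y)).ncard ≤ (cls x ×ˢ cls y).ncard := Set.ncard_image_le
  have h3 : (cls x ×ˢ cls y).ncard = (cls (x * y)).ncard := by
    rw [Set.ncard_prod, ncard_cls, ncard_cls, ncard_cls, h]
  have hinj : Set.InjOn f (cls x ×ˢ cls y) := by
    rw [← Set.ncard_image_iff]
    omega
  have hm1 : (x, y) ∈ cls x ×ˢ cls y := ⟨self_mem_cls x, self_mem_cls y⟩
  have hm2 : ((x * y) * x * (x * y)⁻¹, x * y * x⁻¹) ∈ cls x ×ˢ cls y := ⟨⟨x * y, rfl⟩, ⟨x, rfl⟩⟩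
  have heq : f (x, y) = f ((x * y) * x * (x * y)⁻¹, x * y * x⁻¹) := by
    simp only [f]; group
  have := hinj hm1 hm2 heq
  have h4 : y = x * y * x⁻¹ := (Prod.ext_iff.mp this).2
  calc x * y = (x * y * x⁻¹) * x := by group
    _ = y * x := by rw [← h4]

theorem mem_compl {G : Type*} [Group G] [Finite G] (p : ℕ) [Fact p.Prime] (P : Sylow p G) (K : Subgroup G)
    (hKn : K.Normal) (hsup : (P : Subgroup G) ⊔ K = ⊤) (y : G)
    (hy : ∃ q b : ℕ, q.Prime ∧ q ≠ p ∧ orderOf y = q ^ b) : y ∈ K := by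
  have hp : p.Prime := Fact.out
  obtain ⟨q, b, hq, hqp, hy⟩ := hy
  have hquot : IsPGroup p (G ⧸ K) := by
    have hsurj : Function.Surjective ((QuotientGroup.mk' K).comp (P : Subgroup G).subtype) := by
      intro z
      obtain ⟨g, rfl⟩ := QuotientGroup.mk'_surjective K z
      have hg : g ∈ (P : Subgroup G) ⊔ K := by rw [hsup]; trivial
      obtain ⟨a, ha, k, hk, rfl⟩ := Subgroup.mem_sup_of_normal_right.mp hg
      refine ⟨⟨a, ha⟩, ?_⟩
      simp only [MonoidHom.coe_comp, Function.comp_apply, Subgroup.subtype_apply,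
        QuotientGroup.mk'_apply]
      rw [QuotientGroup.eq]
      simpa using hk
    exact P.2.of_surjective _ hsurj
  obtain ⟨k, hk⟩ := hquot (QuotientGroup.mk' K y)
  have h1 : orderOf (QuotientGroup.mk' K y) ∣ p ^ k := orderOf_dvd_of_pow_eq_one hk
  have h2 : orderOf (QuotientGroup.mk' K y) ∣ q ^ b := by
    rw [← hy]; exact orderOf_map_dvd _ y
  have h3 : orderOf (QuotientGroup.mk' K y) = 1 := by
    have hcop : (p ^ k).Coprime (q ^ b) :=
      Nat.Coprime.pow _ _ ((Nat.coprime_primes hp hq).mpr (Ne.symm hqp))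
    exact Nat.eq_one_of_dvd_coprimes hcop h1 h2
  rw [orderOf_eq_one_iff] at h3
  rw [← QuotientGroup.ker_mk' K, MonoidHom.mem_ker]; exact h3

/-- Let p be a prime and G a finite group. Then some Sylow p-subgroup of G is a direct factor of G (normal with a normal complement) if and only if for every element x of p-power order and every element y whose order is a power of a prime other than p, the conjugacy class of x y has as many elements as the product of the sizes of the classes of x and of y. -/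
theorem result {G : Type*} [Group G] [Finite G] (p : ℕ) [Fact p.Prime] : (∃ (P : Sylow p G) (K : Subgroup G), (P : Subgroup G).Normal ∧ K.Normal ∧ (P : Subgroup G) ⊓ K = ⊥ ∧ (P : Subgroup G) ⊔ K = ⊤) ↔ ∀ x y : G, (∃ a : ℕ, orderOf x = p ^ a) → (∃ q b : ℕ, q.Prime ∧ q ≠ p ∧ orderOf y = q ^ b) → (Subgroup.centralizer ({x * y} : Set G)).index = (Subgroup.centralizer ({x} : Set G)).index * (Subgroup.centralizer ({y} : Set G)).index := by
  constructor
  · intro hex x y hx hy
    have hcomm := (Cfsg.Agent.S3986.result (G := G) p).mp hex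
    obtain ⟨P, K, hPn, hKn, hinf, hsup⟩ := hex
    -- all conjugates of x commute with all conjugates of y
    have hxc : ∀ g : G, ∃ a : ℕ, orderOf (g * x * g⁻¹) = p ^ a := by
      intro g
      obtain ⟨a, ha⟩ := hx
      refine ⟨a, ?_⟩
      rw [← ha, ← MulAut.conj_apply, MulEquiv.orderOf_eq]
    have hyc : ∀ g : G, ∃ q b : ℕ, q.Prime ∧ q ≠ p ∧ orderOf (g * y * g⁻¹) = q ^ b := by
      intro g
      obtain ⟨q, b, hq, hqp, hb⟩ := hy
      refine ⟨q, b, hq, hqp, ?_⟩
      rw [← hb, ← MulAut.conj_apply, MulEquiv.orderOf_eq]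
    have hxP : x ∈ (P : Subgroup G) := Cfsg.Agent.S3986.mem_normal_sylow P hPn x hx
    have hyK : y ∈ K := mem_compl p P K hKn hsup y hy
    have hPK : ∀ a ∈ (P : Subgroup G), ∀ k ∈ K, a * k = k * a := fun a ha k hk =>
      Subgroup.commute_of_normal_of_disjoint _ _ hPn hKn (disjoint_iff.mpr hinf) a k ha hk
    let f : G × G → G := fun ab => ab.1 * ab.2
    have himg : f '' (cls x ×ˢ cls y) = cls (x * y) := by
      apply Set.Subset.antisymm
      · rintro w ⟨⟨x1, y1⟩, ⟨⟨g, rfl⟩, ⟨h, rfl⟩⟩, rfl⟩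
        have hg : g ∈ (P : Subgroup G) ⊔ K := by rw [hsup]; trivial
        obtain ⟨a, ha, k, hk, rfl⟩ := Subgroup.mem_sup_of_normal_right.mp hg
        have hh : h ∈ (P : Subgroup G) ⊔ K := by rw [hsup]; trivial
        obtain ⟨a', ha', k', hk', rfl⟩ := Subgroup.mem_sup_of_normal_right.mp hh
        refine ⟨a * k', ?_⟩
        simp only [f]
        have e1 : k * x = x * k := (hPK x hxP k hk).symm
        have e2 : k' * x = x * k' := (hPK x hxP k' hk').symm
        have hyk' : k' * y * k'⁻¹ ∈ K := hKn.conj_mem y hyK k'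
        have e3 : a * (k' * y * k'⁻¹) = (k' * y * k'⁻¹) * a := hPK a ha _ hyk'
        have e4 : a' * (k' * y * k'⁻¹) = (k' * y * k'⁻¹) * a' := hPK a' ha' _ hyk'
        have l1 : a * k * x * (a * k)⁻¹ = a * x * a⁻¹ := by
          calc a * k * x * (a * k)⁻¹ = a * (k * x) * k⁻¹ * a⁻¹ := by group
            _ = a * x * a⁻¹ := by rw [e1]; group
        have l2 : a' * k' * y * (a' * k')⁻¹ = k' * y * k'⁻¹ := by
          calc a' * k' * y * (a' * k')⁻¹ = a' * (k' * y * k'⁻¹) * a'⁻¹ := by group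
            _ = k' * y * k'⁻¹ := by rw [e4]; group
        have l3 : a * k' * (x * y) * (a * k')⁻¹ = (a * (k' * x) * k'⁻¹ * a⁻¹) * (a * (k' * y * k'⁻¹) * a⁻¹) := by
          group
        rw [l1, l2, l3, e2, e3]
        group
      · rintro w ⟨g, rfl⟩
        exact ⟨(g * x * g⁻¹, g * y * g⁻¹), ⟨⟨g, rfl⟩, ⟨g, rfl⟩⟩, by simp [f]⟩
    have hinj : Set.InjOn f (cls x ×ˢ cls y) := by
      rintro ⟨x1, y1⟩ ⟨⟨g1, rfl⟩, ⟨h1, rfl⟩⟩ ⟨x2, y2⟩ ⟨⟨g2, rfl⟩, ⟨h2, rfl⟩⟩ heq
      simp only [f] at heq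
      have hx1 : g1 * x * g1⁻¹ ∈ (P : Subgroup G) := hPn.conj_mem x hxP g1
      have hx2 : g2 * x * g2⁻¹ ∈ (P : Subgroup G) := hPn.conj_mem x hxP g2
      have hy1 : h1 * y * h1⁻¹ ∈ K := hKn.conj_mem y hyK h1
      have hy2 : h2 * y * h2⁻¹ ∈ K := hKn.conj_mem y hyK h2
      have hmem : (g2 * x * g2⁻¹)⁻¹ * (g1 * x * g1⁻¹) ∈ (P : Subgroup G) ⊓ K := by
        refine ⟨(P : Subgroup G).mul_mem ((P : Subgroup G).inv_mem hx2) hx1, ?_⟩
        have : (g2 * x * g2⁻¹)⁻¹ * (g1 * x * g1⁻¹) = (h2 * y * h2⁻¹) * (h1 * y * h1⁻¹)⁻¹ := by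
          rw [inv_mul_eq_iff_eq_mul, ← mul_assoc, ← heq]; group
        rw [this]
        exact K.mul_mem hy2 (K.inv_mem hy1)
      rw [hinf, Subgroup.mem_bot, inv_mul_eq_one] at hmem
      have hy12 : h1 * y * h1⁻¹ = h2 * y * h2⁻¹ := by
        rw [← hmem] at heq
        exact mul_left_cancel heq
      rw [hmem, hy12]
    rw [← ncard_cls, ← ncard_cls, ← ncard_cls, ← himg, hinj.ncard_image, Set.ncard_prod]
  · intro h
    rw [Cfsg.Agent.S3986.result (G := G) p]
    intro x y hx hy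
    exact commute_of_index_eq x y (h x y hx hy)

end Cfsg.Agent.S3987
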