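import Cfsg.Statements.S3992
import Mathlib
import Cfsg.Agent.S1475
import Cfsg.Agent.Lib.Helper1.FpfCyclic
import Cfsg.Agent.Lib.Helper1.Cores
import Cfsg.Agent.Lib.Helper21.MaxCent3
import Cfsg.Agent.Lib.Helper9.Misc

set_option autoImplicit false
open Cfsg

namespace Cfsg.Agent.S3992

open Cfsg.Agent.Lib.Helper21.MaxCent
open scoped commutatorElement

universe u

/-- local name for the EPPO property -/
abbrev EP (G : Type*) [Group G] : Prop := Cfsg.Agent.S1475.EPPO G

theorem EP.subgroup {G : Type*} [Group G] (h : EP G) (H : Subgroup G) : EP ↥H := by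
  intro g
  rcases h (g : G) with h1 | h1
  · left; rwa [Subgroup.orderOf_coe] at h1
  · right; exact Subtype.ext h1

/-- an element commuting with a nontrivial `q`-element is a `q`-element -/
theorem EP.orderOf_of_commute {G : Type*} [Group G] [Finite G] (h : EP G) {q : ℕ} (hq : q.Prime)
    {z x : G} (hz1 : z ≠ 1) {m : ℕ} (hz : orderOf z = q ^ m) (hc : x * z = z * x) :
    ∃ k, orderOf x = q ^ k := by
  rcases h x with hpp | h1
  · obtain ⟨s, k, hs, hk, hsk⟩ := (isPrimePow_nat_iff _).mp hpp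
    by_cases hsq : s = q
    · exact ⟨k, by rw [← hsk, hsq]⟩
    · exfalso
      have hcop : (orderOf x).Coprime (orderOf z) := by
        rw [← hsk, hz]
        exact Nat.Coprime.pow _ _ ((Nat.coprime_primes hs hq).mpr hsq)
      rcases Cfsg.Agent.S1475.EPPO.eq_one_or h hc hcop with h2 | h2
      · rw [h2, orderOf_one] at hsk
        exact absurd hsk (Nat.one_lt_pow hk.ne' hs.one_lt).ne'
      · exact hz1 h2
  · exact ⟨0, by rw [h1, orderOf_one, pow_zero]⟩

/-- a nontrivial abelian subgroup of an EPPO group has prime power order -/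
theorem isPGroup_of_abelian {G : Type*} [Group G] [Finite G] (h : EP G) (V : Subgroup G)
    (hV : V ≠ ⊥) (hab : ∀ a ∈ V, ∀ b ∈ V, a * b = b * a) : ∃ p : ℕ, p.Prime ∧ IsPGroup p ↥V := by
  obtain ⟨⟨a, ha⟩, ha1⟩ := (Subgroup.ne_bot_iff_exists_ne_one).mp hV
  have ha1' : a ≠ 1 := fun e => ha1 (Subtype.ext e)
  rcases h a with hpp | h1
  · obtain ⟨s, k, hs, hk, hsk⟩ := (isPrimePow_nat_iff _).mp hpp
    refine ⟨s, hs, ?_⟩
    intro b
    obtain ⟨j, hj⟩ := h.orderOf_of_commute hs ha1' hsk.symm (hab b b.2 a ha)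
    refine ⟨j, Subtype.ext ?_⟩
    rw [Subgroup.coe_pow, ← hj, pow_orderOf_eq_one]; rfl
  · exact absurd h1 ha1'

/-- a solvable minimal normal subgroup is abelian -/
theorem minNormal_abelian {G : Type*} [Group G] {V : Subgroup G} (hV : MinNormal V)
    (hVs : Group.IsSolvable ↥V) : ∀ a ∈ V, ∀ b ∈ V, a * b = b * a := by
  haveI := hV.normal
  have hn : (⁅V, V⁆ : Subgroup G).Normal := inferInstance
  rcases hV.min ⁅V, V⁆ hn (Subgroup.commutator_le_left V V) with h0 | h0
  · intro a ha b hb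
    have : ⁅a, b⁆ ∈ (⁅V, V⁆ : Subgroup G) := Subgroup.commutator_mem_commutator ha hb
    rw [h0, Subgroup.mem_bot] at this
    exact commutatorElement_eq_one_iff_mul_comm.mp this
  · exfalso
    haveI : Nontrivial ↥V := (Subgroup.nontrivial_iff_ne_bot V).mpr hV.ne_bot
    have hlt := Group.IsSolvable.commutator_lt_top_of_nontrivial (G := ↥V)
    have h1 : (commutator ↥V).map V.subtype = (⊤ : Subgroup ↥V).map V.subtype := by
      rw [Subgroup.map_subtype_commutator, h0, ← MonoidHom.range_eq_map, Subgroup.range_subtype]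
    exact hlt.ne (Subgroup.map_injective V.subtype_injective h1)

theorem mulAut_comm_cyclic {C : Type*} [Group C] [IsCyclic C] (α β : MulAut C) :
    α * β = β * α := by
  apply (IsCyclic.mulAutMulEquiv C).injective
  rw [map_mul, map_mul, mul_comm]

/-- the key step: `V` a normal `p`-subgroup, `N = V Q` with `Q` a `q`-subgroup, Frattini -/
theorem solvable_of_frattini {G : Type*} [Group G] [Finite G] (hE : EP G) {p q : ℕ}
    (hp : p.Prime) (hq : q.Prime) (hpq : p ≠ q) (V : Subgroup G) [V.Normal] (hV0 : V ≠ ⊥)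
    (hVs : Group.IsSolvable ↥V)
    (hVp : IsPGroup p ↥V) (Q : Subgroup G) (hQ : IsPGroup q ↥Q) (hQ0 : Q ≠ ⊥)
    (hFr : Subgroup.normalizer (Q : Set G) ⊔ V = ⊤) : Group.IsSolvable G := by
  haveI : Fact p.Prime := ⟨hp⟩
  haveI : Fact q.Prime := ⟨hq⟩
  set L := Subgroup.normalizer (Q : Set G) with hL
  set Z := Q ⊓ Subgroup.centralizer (Q : Set G) with hZ
  -- Z nontrivial
  haveI : Nontrivial ↥Q := (Subgroup.nontrivial_iff_ne_bot Q).mpr hQ0
  haveI : Nontrivial ↥(Subgroup.center ↥Q) := hQ.center_nontrivial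
  obtain ⟨⟨z, hzc⟩, hz1⟩ := exists_ne (1 : ↥(Subgroup.center ↥Q))
  have hz1' : (z : G) ≠ 1 := by
    intro e
    apply hz1
    apply Subtype.ext
    exact Subtype.ext e
  have hzZ : (z : G) ∈ Z := by
    refine Subgroup.mem_inf.mpr ⟨z.2, ?_⟩
    rw [Subgroup.mem_centralizer_iff]
    intro y hy
    have := Subgroup.mem_center_iff.mp hzc ⟨y, hy⟩
    exact congrArg Subtype.val this
  have hqel : ∀ a ∈ Q, ∃ j, orderOf a = q ^ j := by
    intro a ha
    obtain ⟨j, hj⟩ := (IsPGroup.iff_orderOf.mp hQ) ⟨a, ha⟩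
    exact ⟨j, by rw [← hj, Subgroup.orderOf_mk]⟩
  have hpel : ∀ v ∈ V, ∃ j, orderOf v = p ^ j := by
    intro a ha
    obtain ⟨j, hj⟩ := (IsPGroup.iff_orderOf.mp hVp) ⟨a, ha⟩
    exact ⟨j, by rw [← hj, Subgroup.orderOf_mk]⟩
  haveI hZc : IsMulCommutative ↥Z := by
    refine ⟨⟨fun a b => Subtype.ext ?_⟩⟩
    have ha := (Subgroup.mem_inf.mp a.2).2
    have hb := (Subgroup.mem_inf.mp b.2).1
    rw [Subgroup.mem_centralizer_iff] at ha
    exact (ha b hb).symm
  have hZV : Z ≤ Subgroup.normalizer (V : Set G) := le_normalizer_of_normal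
  have hfpf : ∀ a ∈ Z, a ≠ 1 → V ⊓ Subgroup.centralizer {a} = ⊥ := by
    intro a ha ha1
    rw [eq_bot_iff]
    intro v hv
    obtain ⟨hvV, hvc⟩ := Subgroup.mem_inf.mp hv
    rw [Subgroup.mem_centralizer_singleton_iff] at hvc
    obtain ⟨i, hi⟩ := hpel v hvV
    obtain ⟨j, hj⟩ := hqel a (Subgroup.mem_inf.mp ha).1
    have hcop : (orderOf v).Coprime (orderOf a) := by
      rw [hi, hj]
      exact Nat.Coprime.pow _ _ ((Nat.coprime_primes hp hq).mpr hpq)
    rcases Cfsg.Agent.S1475.EPPO.eq_one_or hE hvc hcop with h2 | h2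
    · rw [Subgroup.mem_bot]; exact h2
    · exact absurd h2 ha1
  haveI hZcyc : IsCyclic ↥Z := Cfsg.Agent.Lib.Helper1.isCyclic_of_fpf_of_comm Z V hV0 hZV hfpf
  have hLZ : L ≤ Subgroup.normalizer (Z : Set G) :=
    le_normalizer_inf (le_refl _) (normalizer_le_normalizer_centralizer Q)
  set φ := Cfsg.Agent.Lib.Helper1.conjHomOn L Z hLZ with hφ
  have hker : IsPGroup q ↥φ.ker := by
    intro x
    have hx : φ (x : ↥L) = 1 := x.2
    have h1 : ((φ (x : ↥L)) ⟨(z : G), hzZ⟩ : G) = ((x : ↥L) : G) * z * ((x : ↥L) : G)⁻¹ :=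
      Cfsg.Agent.Lib.Helper1.conjHomOn_apply L Z hLZ (x : ↥L) ⟨(z : G), hzZ⟩
    rw [hx] at h1
    have h2 : ((x : ↥L) : G) * z = z * ((x : ↥L) : G) := by
      have h3 : (z : G) = ((x : ↥L) : G) * z * ((x : ↥L) : G)⁻¹ := h1
      calc ((x : ↥L) : G) * z = ((x : ↥L) : G) * z * ((x : ↥L) : G)⁻¹ * ((x : ↥L) : G) := by group
        _ = z * ((x : ↥L) : G) := by rw [← h3]
    obtain ⟨m, hm⟩ := hqel (z : G) z.2
    obtain ⟨k, hk⟩ := hE.orderOf_of_commute hq hz1' hm h2
    refine ⟨k, ?_⟩
    apply Subtype.ext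
    apply Subtype.ext
    rw [Subgroup.coe_pow, Subgroup.coe_pow, ← hk, pow_orderOf_eq_one]; rfl
  haveI : Group.IsSolvable ↥φ.ker := by
    haveI := hker.isNilpotent
    infer_instance
  haveI : Group.IsSolvable (MulAut ↥Z) := Group.isSolvable_of_comm mulAut_comm_cyclic
  haveI hLs : Group.IsSolvable ↥L :=
    Group.isSolvable_of_ker_le_range φ.ker.subtype φ (by rw [Subgroup.range_subtype])
  have hsurj : Function.Surjective ((QuotientGroup.mk' V).comp L.subtype) := by
    intro gb
    obtain ⟨g, rfl⟩ := QuotientGroup.mk'_surjective V gb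
    have hg : g ∈ V ⊔ L := by rw [sup_comm, hFr]; trivial
    obtain ⟨v, hv, l, hl, rfl⟩ :=
      (Cfsg.Agent.Lib.Helper9.mem_sup_of_le_normalizer (A := V) (B := L) le_normalizer_of_normal).mp hg
    refine ⟨⟨v⁻¹ * (v * l), ?_⟩, ?_⟩
    · rw [inv_mul_cancel_left]; exact hl
    · show QuotientGroup.mk' V (v⁻¹ * (v * l)) = QuotientGroup.mk' V (v * l)
      rw [map_mul]
      have : QuotientGroup.mk' V v⁻¹ = 1 := by
        rw [QuotientGroup.mk'_apply, QuotientGroup.eq_one_iff]; exact inv_mem hv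
      rw [this, one_mul]
  haveI : Group.IsSolvable (G ⧸ V) := Group.isSolvable_of_surjective hsurj
  exact Group.isSolvable_of_ker_le_range V.subtype (QuotientGroup.mk' V)
    (by rw [QuotientGroup.ker_mk', Subgroup.range_subtype])


/-- an EPPO group with a solvable normal subgroup not of prime power order is solvable -/
theorem lemmaX (n : ℕ) : ∀ (G : Type u) [Group G] [Finite G], Nat.card G = n → EP G →
    ∀ N : Subgroup G, N.Normal → Group.IsSolvable ↥N → (∀ p : ℕ, p.Prime → ¬ IsPGroup p ↥N) →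
    Group.IsSolvable G := by
  induction n using Nat.strong_induction_on with
  | _ n ih =>
  intro G _ _ hcard hE N hNn hNs hNp
  haveI := hNn
  have hN0 : N ≠ ⊥ := by
    rintro rfl
    exact hNp 2 Nat.prime_two IsPGroup.of_bot
  obtain ⟨V, hV, hVN⟩ := exists_minNormal_le N hN0
  haveI := hV.normal
  haveI hVs : Group.IsSolvable ↥V :=
    Group.isSolvable_of_isSolvable_injective (Subgroup.inclusion_injective hVN)
  have hVab := minNormal_abelian hV hVs
  obtain ⟨p, hp, hVp⟩ := isPGroup_of_abelian hE V hV.ne_bot hVab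
  haveI : Fact p.Prime := ⟨hp⟩
  by_cases hcase : ∀ r : ℕ, r.Prime → ¬ IsPGroup r ↥(N.map (QuotientGroup.mk' V))
  · have hlt : Nat.card (G ⧸ V) < n := by
      have h1 := Subgroup.card_eq_card_quotient_mul_card_subgroup V
      have h2 : 1 < Nat.card ↥V := (Subgroup.one_lt_card_iff_ne_bot V).mpr hV.ne_bot
      have h3 : 0 < Nat.card (G ⧸ V) := Nat.card_pos
      rw [← hcard, h1]
      nlinarith
    haveI : Group.IsSolvable ↥(N.map (QuotientGroup.mk' V)) :=
      Group.isSolvable_of_surjective ((QuotientGroup.mk' V).subgroupMap_surjective N)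
    haveI : Group.IsSolvable (G ⧸ V) := ih _ hlt (G ⧸ V) rfl (Cfsg.Agent.S1475.EPPO.quotient hE V)
      (N.map (QuotientGroup.mk' V)) (Subgroup.Normal.map hNn _ (QuotientGroup.mk'_surjective V))
      inferInstance hcase
    exact Group.isSolvable_of_ker_le_range V.subtype (QuotientGroup.mk' V)
      (by rw [QuotientGroup.ker_mk', Subgroup.range_subtype])
  · push Not at hcase
    obtain ⟨q, hq, hNq⟩ := hcase
    haveI : Fact q.Prime := ⟨hq⟩
    have hkey : ∀ g ∈ N, ∃ k, g ^ (q ^ k) ∈ V := by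
      intro g hg
      obtain ⟨k, hk⟩ := hNq ⟨QuotientGroup.mk' V g, Subgroup.mem_map_of_mem _ hg⟩
      refine ⟨k, ?_⟩
      have h1 := congrArg Subtype.val hk
      rw [Subgroup.coe_pow] at h1
      have h2 : (QuotientGroup.mk' V g) ^ (q ^ k) = 1 := h1
      rw [← map_pow, QuotientGroup.mk'_apply, QuotientGroup.eq_one_iff] at h2
      exact h2
    have hpq : p ≠ q := by
      rintro rfl
      apply hNp p hp
      intro g
      obtain ⟨k, hk⟩ := hkey (g : G) g.2
      obtain ⟨j, hj⟩ := hVp ⟨_, hk⟩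
      refine ⟨k + j, Subtype.ext ?_⟩
      have h1 := congrArg Subtype.val hj
      rw [Subgroup.coe_pow] at h1
      rw [Subgroup.coe_pow, pow_add, pow_mul]
      exact h1
    obtain ⟨Q⟩ : Nonempty (Sylow q ↥N) := inferInstance
    set W : Subgroup ↥N := V.subgroupOf N with hW
    have hWQ : W ⊔ (Q : Subgroup ↥N) = ⊤ := by
      rw [← Subgroup.index_eq_one]
      have hd1 : (W ⊔ (Q : Subgroup ↥N)).index ∣ W.index := Subgroup.index_dvd_of_le le_sup_left
      have hd2 : (W ⊔ (Q : Subgroup ↥N)).index ∣ (Q : Subgroup ↥N).index :=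
        Subgroup.index_dvd_of_le le_sup_right
      have hWp : IsPGroup q (↥N ⧸ W) := by
        intro xb
        obtain ⟨x, rfl⟩ := QuotientGroup.mk'_surjective W xb
        obtain ⟨k, hk⟩ := hkey (x : G) x.2
        refine ⟨k, ?_⟩
        rw [← map_pow, QuotientGroup.mk'_apply, QuotientGroup.eq_one_iff, hW, Subgroup.mem_subgroupOf,
          Subgroup.coe_pow]
        exact hk
      obtain ⟨k, hk⟩ := IsPGroup.iff_card.mp hWp
      rw [Subgroup.index_eq_card W, hk] at hd1
      obtain ⟨j, -, hj⟩ := (Nat.dvd_prime_pow hq).mp hd1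
      rcases Nat.eq_zero_or_pos j with h0 | h0
      · rw [hj, h0, pow_zero]
      · exfalso
        apply Q.not_dvd_index
        exact (dvd_pow_self q h0.ne').trans (hj ▸ hd2)
    set Q' : Subgroup G := (Q : Subgroup ↥N).map N.subtype with hQ'
    have hFr0 : Subgroup.normalizer (Q' : Set G) ⊔ N = ⊤ := Sylow.normalizer_sup_eq_top Q
    have hNVQ : N = V ⊔ Q' := by
      have h1 : N = (⊤ : Subgroup ↥N).map N.subtype := by
        rw [← MonoidHom.range_eq_map, Subgroup.range_subtype]
      have h2 : (⊤ : Subgroup ↥N).map N.subtype = V ⊔ Q' := by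
        rw [← hWQ, Subgroup.map_sup, hW, Subgroup.subgroupOf_map_subtype, inf_of_le_left hVN]
      exact h1.trans h2
    have hQ'p : IsPGroup q ↥Q' := Q.isPGroup'.map N.subtype
    have hQ'0 : Q' ≠ ⊥ := by
      intro h0
      apply hNp p hp
      rw [h0, sup_bot_eq] at hNVQ
      intro g
      have hgV : (g : G) ∈ V := by rw [← hNVQ]; exact g.2
      obtain ⟨k, hk⟩ := hVp ⟨g, hgV⟩
      refine ⟨k, Subtype.ext ?_⟩
      have h1 := congrArg Subtype.val hk
      rw [Subgroup.coe_pow] at h1 ⊢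
      exact h1
    have hFr : Subgroup.normalizer (Q' : Set G) ⊔ V = ⊤ := by
      rw [eq_top_iff, ← hFr0]
      refine sup_le le_sup_left ?_
      exact hNVQ.le.trans (sup_le le_sup_right (le_sup_of_le_left Subgroup.le_normalizer))
    exact solvable_of_frattini hE hp hq hpq V hV.ne_bot hVs hVp Q' hQ'p hQ'0 hFr

/-- minimal normal subgroups of EPPO groups without normal `p`-subgroups are simple -/
theorem simple_of_minNormal {Gb : Type*} [Group Gb] [Finite Gb] (hE : EP Gb)
    (hnor : ∀ (r : ℕ), r.Prime → ∀ K : Subgroup Gb, K.Normal → IsPGroup r ↥K → K = ⊥)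
    (M : Subgroup Gb) (hM : MinNormal M) : IsSimpleGroup ↥M := by
  haveI := hM.normal
  haveI : Nontrivial ↥M := (Subgroup.nontrivial_iff_ne_bot M).mpr hM.ne_bot
  refine { eq_bot_or_eq_top_of_normal := fun T hT => ?_ }
  by_cases hT0 : T = ⊥
  · exact Or.inl hT0
  right
  haveI := hT
  obtain ⟨S, hS, hST⟩ := exists_minNormal_le T hT0
  haveI := hS.normal
  suffices hS_top : S = ⊤ by exact top_le_iff.mp (hS_top ▸ hST)
  have hSnp : ∀ r : ℕ, r.Prime → ¬ IsPGroup r ↥S := by
    intro r hr hSr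
    have h1 : S ≤ pCore r ↥M := Cfsg.Agent.Lib.Helper1.le_pCore hS.normal hSr
    haveI := Cfsg.Agent.Lib.Helper1.pCore_characteristic (G := ↥M) r
    have h2 : ((pCore r ↥M).map M.subtype).Normal := inferInstance
    have h3 : IsPGroup r ↥((pCore r ↥M).map M.subtype) :=
      (Cfsg.Agent.Lib.Helper1.pCore_isPGroup (G := ↥M) r).map _
    have h4 := hnor r hr _ h2 h3
    rw [Subgroup.map_eq_bot_iff_of_injective _ M.subtype_injective] at h4
    rw [h4, le_bot_iff] at h1
    exact hS.ne_bot h1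
  have hEM : EP ↥M := hE.subgroup M
  obtain ⟨⟨a, haS⟩, ha1⟩ := (Subgroup.ne_bot_iff_exists_ne_one).mp hS.ne_bot
  have ha1' : a ≠ 1 := fun e => ha1 (Subtype.ext e)
  obtain ⟨p, k, hp, hk, hpk⟩ : ∃ p k : ℕ, p.Prime ∧ 0 < k ∧ p ^ k = orderOf a := by
    rcases hEM a with h | h
    · exact (isPrimePow_nat_iff _).mp h
    · exact absurd h ha1'
  have h1 := hSnp p hp
  unfold IsPGroup at h1
  push Not at h1
  obtain ⟨⟨b, hbS⟩, hb⟩ := h1
  have hb1 : b ≠ 1 := by
    intro e
    apply hb 0
    rw [pow_zero, pow_one]; exact Subtype.ext e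
  obtain ⟨q, j, hq, hj, hqj⟩ : ∃ q j : ℕ, q.Prime ∧ 0 < j ∧ q ^ j = orderOf b := by
    rcases hEM b with h | h
    · exact (isPrimePow_nat_iff _).mp h
    · exact absurd h hb1
  have hpq : p ≠ q := by
    rintro rfl
    apply hb j
    apply Subtype.ext
    show b ^ (p ^ j) = 1
    rw [hqj, pow_orderOf_eq_one]
  set S' : Subgroup Gb := S.map M.subtype with hS'
  have hS'M : S' ≤ M := by
    rintro _ ⟨s, -, rfl⟩; exact s.2
  have hcomap : S'.subgroupOf M = S :=
    Subgroup.comap_map_eq_self_of_injective M.subtype_injective S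
  have hMS' : M ≤ Subgroup.normalizer (S' : Set Gb) := by
    rw [← Subgroup.normal_subgroupOf_iff_le_normalizer hS'M, hcomap]; exact hS.normal
  have hconj : ∀ g : Gb, S'.map (MulAut.conj g).toMonoidHom = S' := by
    intro g
    by_contra hne
    set Sg := S'.map (MulAut.conj g).toMonoidHom with hSg
    have hMg : M.map (MulAut.conj g).toMonoidHom = M :=
      (Cfsg.Agent.Lib.Helper13.map_conj_eq_self_iff_mem_normalizer M g).mpr
        (by rw [Subgroup.normalizer_eq_top]; trivial)
    have hSgM : Sg ≤ M := by rw [← hMg]; exact Subgroup.map_mono hS'M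
    have hMSg : M ≤ Subgroup.normalizer (Sg : Set Gb) := by
      calc M = M.map (MulAut.conj g).toMonoidHom := hMg.symm
        _ ≤ (Subgroup.normalizer (S' : Set Gb)).map (MulAut.conj g).toMonoidHom :=
            Subgroup.map_mono hMS'
        _ ≤ Subgroup.normalizer (Sg : Set Gb) := Subgroup.le_normalizer_map _
    set K : Subgroup ↥M := (S' ⊓ Sg).subgroupOf M with hK
    have hKn : K.Normal := by
      rw [hK, Subgroup.normal_subgroupOf_iff_le_normalizer (inf_le_left.trans hS'M)]
      exact le_normalizer_inf hMS' hMSg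
    have hKS : K ≤ S := by
      rw [← hcomap]
      intro x hx
      rw [hK, Subgroup.mem_subgroupOf] at hx
      rw [Subgroup.mem_subgroupOf]
      exact (Subgroup.mem_inf.mp hx).1
    rcases hS.min K hKn hKS with hK0 | hK1
    · have hdisj : S' ⊓ Sg = ⊥ := by
        rw [eq_bot_iff]
        intro x hx
        have hxM : x ∈ M := hS'M (Subgroup.mem_inf.mp hx).1
        have : (⟨x, hxM⟩ : ↥M) ∈ K := by rw [hK, Subgroup.mem_subgroupOf]; exact hx
        rw [hK0, Subgroup.mem_bot] at this
        rw [Subgroup.mem_bot]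
        exact congrArg Subtype.val this
      set a' : Gb := (a : Gb) with ha'
      set b' : Gb := MulAut.conj g (b : Gb) with hb'
      have ha'S : a' ∈ S' := Subgroup.mem_map_of_mem M.subtype haS
      have hb'S : b' ∈ Sg :=
        Subgroup.mem_map_of_mem (MulAut.conj g).toMonoidHom (Subgroup.mem_map_of_mem M.subtype hbS)
      have hcomm : a' * b' * a'⁻¹ * b'⁻¹ ∈ S' ⊓ Sg := by
        refine Subgroup.mem_inf.mpr ⟨?_, ?_⟩
        · have h1 : b' * a'⁻¹ * b'⁻¹ ∈ S' :=
            (Subgroup.mem_normalizer_iff.mp (hMS' (hSgM hb'S)) a'⁻¹).mp (inv_mem ha'S)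
          have h2 : a' * b' * a'⁻¹ * b'⁻¹ = a' * (b' * a'⁻¹ * b'⁻¹) := by group
          rw [h2]; exact mul_mem ha'S h1
        · have h1 : a' * b' * a'⁻¹ ∈ Sg :=
            (Subgroup.mem_normalizer_iff.mp (hMSg (hS'M ha'S)) b').mp hb'S
          exact mul_mem h1 (inv_mem hb'S)
      rw [hdisj, Subgroup.mem_bot] at hcomm
      have hc : a' * b' = b' * a' := by
        have : a' * b' = (a' * b' * a'⁻¹ * b'⁻¹) * (b' * a') := by group
        rw [this, hcomm, one_mul]
      have hoa : orderOf a' = p ^ k := by rw [ha', Subgroup.orderOf_coe, hpk]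
      have hob : orderOf b' = q ^ j := by rw [hb', MulEquiv.orderOf_eq, Subgroup.orderOf_coe, hqj]
      rcases Cfsg.Agent.S1475.EPPO.eq_one_or hE hc (by
        rw [hoa, hob]; exact Nat.Coprime.pow _ _ ((Nat.coprime_primes hp hq).mpr hpq)) with h | h
      · exact ha1' (Subtype.ext h)
      · exact hb1 (Subtype.ext ((MulEquiv.map_eq_one_iff _).mp h))
    · have hle : S' ≤ Sg := by
        rintro _ ⟨s, hs, rfl⟩
        have : s ∈ K := by rw [hK1]; exact hs
        rw [hK, Subgroup.mem_subgroupOf] at this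
        exact (Subgroup.mem_inf.mp this).2
      apply hne
      symm
      exact Subgroup.eq_of_le_of_card_ge hle
        (Subgroup.card_map_of_injective (MulAut.conj g).injective).le
  have hS'n : S'.Normal := by
    refine ⟨fun x hx g => ?_⟩
    have : (MulAut.conj g).toMonoidHom x ∈ S'.map (MulAut.conj g).toMonoidHom :=
      Subgroup.mem_map_of_mem _ hx
    rw [hconj g] at this
    exact this
  rcases hM.min S' hS'n hS'M with h0 | h0
  · exfalso
    rw [hS', Subgroup.map_eq_bot_iff_of_injective _ M.subtype_injective] at h0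
    exact hS.ne_bot h0
  · rw [eq_top_iff]
    intro m _
    have : (m : Gb) ∈ S' := by rw [h0]; exact m.2
    exact (coe_mem_map_subtype S m).mp this

/-- Let G be a finite non-solvable group in which every element has prime-power order, and let R be its largest solvable normal subgroup. Then R is a p-group for some prime p; G/R has a non-abelian simple normal subgroup contained in every nontrivial normal subgroup of G/R (its unique minimal normal subgroup); and the order of every solvable subgroup of G has at most two prime divisors. -/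
theorem result {G : Type*} [Group G] [Finite G] (hns : ¬ Group.IsSolvable G) (hpp : ∀ g : G, g ≠ 1 → IsPrimePow (orderOf g))
    (R : Subgroup G) [R.Normal] (hRs : Group.IsSolvable ↥R) (hRmax : ∀ N : Subgroup G, N.Normal → Group.IsSolvable ↥N → N ≤ R) :
    (∃ p : ℕ, p.Prime ∧ IsPGroup p ↥R) ∧
      (∃ M : Subgroup (G ⧸ R), M.Normal ∧ IsSimpleGroup ↥M ∧ ¬ IsMulCommutative ↥M ∧
        ∀ N : Subgroup (G ⧸ R), N.Normal → N ≠ ⊥ → M ≤ N) ∧
      ∀ H : Subgroup G, Group.IsSolvable ↥H → (Nat.card ↥H).primeFactors.card ≤ 2 := by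
  have hE : EP G := fun g => by
    by_cases h : g = 1
    · right; exact h
    · left; exact hpp g h
  refine ⟨?_, ?_, ?_⟩
  · by_contra hcon
    push Not at hcon
    exact hns (lemmaX _ G rfl hE R inferInstance hRs hcon)
  · have hEb : EP (G ⧸ R) := Cfsg.Agent.S1475.EPPO.quotient hE R
    have hrad : ∀ K : Subgroup (G ⧸ R), K.Normal → Group.IsSolvable ↥K → K = ⊥ := by
      intro K hKn hKs
      have hcn : (K.comap (QuotientGroup.mk' R)).Normal := hKn.comap _
      have hRle : R ≤ K.comap (QuotientGroup.mk' R) := by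
        intro x hx
        rw [Subgroup.mem_comap, QuotientGroup.mk'_apply, (QuotientGroup.eq_one_iff x).mpr hx]
        exact one_mem K
      have hcs : Group.IsSolvable ↥(K.comap (QuotientGroup.mk' R)) := by
        refine Group.isSolvable_of_ker_le_range (Subgroup.inclusion hRle)
          ((QuotientGroup.mk' R).subgroupComap K) ?_
        intro x hx
        rw [MonoidHom.mem_ker] at hx
        have h1 : QuotientGroup.mk' R (x : G) = 1 := congrArg Subtype.val hx
        rw [QuotientGroup.mk'_apply, QuotientGroup.eq_one_iff] at h1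
        exact ⟨⟨(x : G), h1⟩, Subtype.ext rfl⟩
      have hle := hRmax _ hcn hcs
      rw [eq_bot_iff]
      intro xb hxb
      obtain ⟨x, rfl⟩ := QuotientGroup.mk'_surjective R xb
      rw [Subgroup.mem_bot, QuotientGroup.mk'_apply, QuotientGroup.eq_one_iff]
      exact hle hxb
    have hnsq : ¬ Group.IsSolvable (G ⧸ R) := by
      intro h
      haveI := h
      exact hns (Group.isSolvable_of_ker_le_range R.subtype (QuotientGroup.mk' R)
        (by rw [QuotientGroup.ker_mk', Subgroup.range_subtype]))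
    have htop : (⊤ : Subgroup (G ⧸ R)) ≠ ⊥ := fun h => hnsq (Group.isSolvable_of_top_eq_bot _ h)
    obtain ⟨M, hM, -⟩ := exists_minNormal_le (⊤ : Subgroup (G ⧸ R)) htop
    haveI hMn := hM.normal
    have hMns : ¬ Group.IsSolvable ↥M := fun h => hM.ne_bot (hrad M hM.normal h)
    have hnor : ∀ (r : ℕ), r.Prime → ∀ K : Subgroup (G ⧸ R), K.Normal → IsPGroup r ↥K → K = ⊥ := by
      intro r hr K hKn hKr
      haveI : Fact r.Prime := ⟨hr⟩
      apply hrad K hKn
      haveI := hKr.isNilpotent
      infer_instance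
    have hMel : ∀ r : ℕ, r.Prime → ∃ m ∈ M, m ≠ 1 ∧ ∃ s j : ℕ, s.Prime ∧ s ≠ r ∧ orderOf m = s ^ j := by
      intro r hr
      have h1 : ¬ IsPGroup r ↥M := fun h => hM.ne_bot (hnor r hr M hM.normal h)
      unfold IsPGroup at h1
      push Not at h1
      obtain ⟨m, hm⟩ := h1
      have hm1 : (m : G ⧸ R) ≠ 1 := by
        intro e
        apply hm 0
        rw [pow_zero, pow_one]; exact Subtype.ext e
      rcases hEb (m : G ⧸ R) with hpp' | h1'
      · obtain ⟨s, j, hs, hj, hsj⟩ := (isPrimePow_nat_iff _).mp hpp'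
        refine ⟨m, m.2, hm1, s, j, hs, ?_, hsj.symm⟩
        rintro rfl
        apply hm j
        apply Subtype.ext
        rw [Subgroup.coe_pow, hsj, pow_orderOf_eq_one]; rfl
      · exact absurd h1' hm1
    refine ⟨M, hM.normal, simple_of_minNormal hEb hnor M hM, ?_, ?_⟩
    · intro hc
      apply hMns
      exact Group.isSolvable_of_comm (fun a b => hc.is_comm.comm a b)
    · intro K hKn hK0
      haveI := hKn
      have hMK : (M ⊓ K).Normal := inferInstance
      rcases hM.min (M ⊓ K) hMK inf_le_left with h0 | h0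
      · exfalso
        obtain ⟨⟨n, hnK⟩, hn1⟩ := (Subgroup.ne_bot_iff_exists_ne_one).mp hK0
        have hn1' : n ≠ 1 := fun e => hn1 (Subtype.ext e)
        obtain ⟨r, i, hr, hi, hri⟩ : ∃ r i : ℕ, r.Prime ∧ 0 < i ∧ r ^ i = orderOf n := by
          rcases hEb n with h | h
          · exact (isPrimePow_nat_iff _).mp h
          · exact absurd h hn1'
        obtain ⟨m, hmM, hm1, s, j, hs, hsr, hmo⟩ := hMel r hr
        have hc : Commute m n := Subgroup.commute_of_normal_of_disjoint M K hM.normal hKn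
          (disjoint_iff.mpr h0) m n hmM hnK
        rcases Cfsg.Agent.S1475.EPPO.eq_one_or hEb hc.eq (by
          rw [hmo, ← hri]; exact Nat.Coprime.pow _ _ ((Nat.coprime_primes hs hr).mpr hsr)) with h | h
        · exact hm1 h
        · exact hn1' h
      · exact inf_eq_left.mp h0
  · intro H hH
    haveI := hH
    exact Cfsg.Agent.S1475.result (G := ↥H) (hE.subgroup H)

end Cfsg.Agent.S3992
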