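import Cfsg.Statements.S3995
import Mathlib
import Cfsg.Agent.Lib.Helper21.FrobeniusCount
import Cfsg.Agent.Lib.Helper10.UniqueOrderP

set_option autoImplicit false
open Cfsg

namespace Cfsg.Agent.S3995

open Cfsg.Agent.Lib.Helper21

/-- number of elements of order `m` -/
noncomputable def cnt (G : Type*) [Group G] (m : ℕ) : ℕ := Nat.card {g : G // orderOf g = m}

theorem sum_divisors_mul_coprime {a b : ℕ} (hab : a.Coprime b) (f : ℕ → ℕ) :
    ∑ d ∈ (a * b).divisors, f d = ∑ x ∈ a.divisors, ∑ y ∈ b.divisors, f (x * y) := by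
  rw [← Finset.sum_product', Nat.divisors_mul, Finset.mul_def, Finset.sum_image]
  exact hab.mul_injOn_divisors

section
variable {G : Type*} [Group G] [Finite G]

omit [Finite G] in
theorem cnt_one : cnt G 1 = 1 := by
  unfold cnt
  simp only [orderOf_eq_one_iff]
  exact Nat.card_unique

theorem cnt_pos_of (g : G) : 0 < cnt G (orderOf g) := by
  unfold cnt
  haveI : Nonempty {x : G // orderOf x = orderOf g} := ⟨⟨g, rfl⟩⟩
  exact Nat.card_pos

omit [Finite G] in
theorem exists_of_cnt_ne_zero {m : ℕ} (h : cnt G m ≠ 0) : ∃ g : G, orderOf g = m := by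
  unfold cnt at h
  by_contra hne
  push Not at hne
  haveI : IsEmpty {g : G // orderOf g = m} := ⟨fun x => hne x.1 x.2⟩
  exact h Nat.card_of_isEmpty

theorem totient_dvd_cnt (m : ℕ) : Nat.totient m ∣ cnt G m := by
  classical
  haveI : Fintype G := Fintype.ofFinite G
  have h := dvd_card_of_zpowers_invariant (G := G) (fun x => orderOf x = m)
    (fun x x' hxx hx => by
      rw [← hx, ← Nat.card_zpowers, ← Nat.card_zpowers, hxx]) (Nat.totient m)
    (fun x hx => by rw [hx])
  unfold cnt
  rw [Nat.card_eq_fintype_card, Fintype.card_subtype]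
  exact h

theorem sum_cnt (m : ℕ) (hm : m ≠ 0) :
    ∑ d ∈ m.divisors, cnt G d = Nat.card {g : G // g ^ m = 1} := by
  classical
  haveI : Fintype G := Fintype.ofFinite G
  have h := sum_card_orderOf_eq_card_pow_eq_one (G := G) hm
  rw [Nat.card_eq_fintype_card, Fintype.card_subtype, ← h]
  apply Finset.sum_congr rfl
  intro d _
  unfold cnt
  rw [Nat.card_eq_fintype_card, Fintype.card_subtype]

theorem frob (m : ℕ) (hm : m ∣ Nat.card G) : m ∣ ∑ d ∈ m.divisors, cnt G d := by
  have hm0 : m ≠ 0 := by
    rintro rfl
    have := Nat.card_pos (α := G)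
    simp at hm
    omega
  rw [sum_cnt m hm0]
  exact frobenius_dvd_card_pow_eq_one m hm

end

theorem pgroup_of_uniform {K : Type*} [Group K] [Finite K] [Nontrivial K] (n : ℕ)
    (hK : ∀ g : K, g ≠ 1 → cnt K (orderOf g) = n) :
    ∃ p : ℕ, p.Prime ∧ IsPGroup p K ∧ Monoid.exponent K = p := by
  have ha : ∀ p : ℕ, p.Prime → p ∣ Nat.card K → cnt K p = n ∧ p ∣ 1 + n := by
    intro p hp hpK
    haveI := Fact.mk hp
    obtain ⟨g, hg⟩ := exists_prime_orderOf_dvd_card' p hpK
    have hg1 : g ≠ 1 := by
      rintro rfl
      rw [orderOf_one] at hg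
      exact hp.one_lt.ne hg
    have h1 : cnt K p = n := by rw [← hg]; exact hK g hg1
    refine ⟨h1, ?_⟩
    have h2 := frob (G := K) p hpK
    rw [hp.divisors, Finset.sum_pair hp.one_lt.ne, cnt_one, h1] at h2
    exact h2
  have hb : ∀ p : ℕ, p.Prime → ∀ g : K, orderOf g ≠ p ^ 2 := by
    intro p hp g hg
    have hg1 : g ≠ 1 := by
      rintro rfl
      rw [orderOf_one] at hg
      have := hp.one_lt
      nlinarith
    have h1 : cnt K (p ^ 2) = n := by rw [← hg]; exact hK g hg1
    have h2 : Nat.totient (p ^ 2) ∣ n := h1 ▸ totient_dvd_cnt (G := K) (p ^ 2)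
    rw [Nat.totient_prime_pow hp (by norm_num)] at h2
    have h3 : p ∣ n := by
      refine Dvd.dvd.trans ?_ h2
      simp
    have hpK : p ∣ Nat.card K := by
      have : orderOf g ∣ Nat.card K := orderOf_dvd_natCard g
      rw [hg] at this
      exact (dvd_pow_self p two_ne_zero).trans this
    have h4 := (ha p hp hpK).2
    have : p ∣ 1 := (Nat.dvd_add_left h3).mp h4
    exact hp.one_lt.ne' (Nat.dvd_one.mp this)
  have hc : ∀ p q : ℕ, p.Prime → q.Prime → p ∣ Nat.card K → q ∣ Nat.card K → p = q := by
    intro p q hp hq hpK hqK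
    by_contra hpq
    have hcop : Nat.Coprime p q := (Nat.coprime_primes hp hq).mpr hpq
    have hpqK : p * q ∣ Nat.card K := hcop.mul_dvd_of_dvd_of_dvd hpK hqK
    have h1 := frob (G := K) (p * q) hpqK
    rw [sum_divisors_mul_coprime hcop, hp.divisors, hq.divisors,
      Finset.sum_pair hp.one_lt.ne, Finset.sum_pair hq.one_lt.ne, Finset.sum_pair hq.one_lt.ne] at h1
    simp only [one_mul, mul_one] at h1
    rw [cnt_one, (ha p hp hpK).1, (ha q hq hqK).1] at h1
    have hpn := (ha p hp hpK).2
    have hqn := (ha q hq hqK).2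
    by_cases h0 : cnt K (p * q) = 0
    · rw [h0] at h1
      have h2 : p ∣ 1 + n + (n + 0) := (Dvd.intro _ rfl).trans h1
      have h3 : p ∣ n := by
        have : 1 + n + (n + 0) = (1 + n) + n := by ring
        rw [this] at h2
        exact (Nat.dvd_add_right hpn).mp h2
      have : p ∣ 1 := (Nat.dvd_add_left h3).mp hpn
      exact hp.one_lt.ne' (Nat.dvd_one.mp this)
    · obtain ⟨g, hg⟩ := exists_of_cnt_ne_zero h0
      have hg1 : g ≠ 1 := by
        rintro rfl
        rw [orderOf_one] at hg
        have := hp.one_lt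
        have := hq.one_lt
        nlinarith
      have h5 : cnt K (p * q) = n := by rw [← hg]; exact hK g hg1
      rw [h5] at h1
      have key : ∀ r : ℕ, r.Prime → r ∣ 1 + n → r ∣ 1 + n + (n + n) → r = 2 := by
        intro r hr hr1 hr2
        have h6 : r ∣ n + n := (Nat.dvd_add_right hr1).mp hr2
        have h7 : r ∣ 2 * n := by rwa [two_mul]
        rcases (Nat.Prime.dvd_mul hr).mp h7 with h8 | h8
        · exact (Nat.prime_dvd_prime_iff_eq hr Nat.prime_two).mp h8
        · have : r ∣ 1 := (Nat.dvd_add_left h8).mp hr1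
          exact absurd (Nat.dvd_one.mp this) hr.one_lt.ne'
      have hp2 := key p hp hpn ((Dvd.intro _ rfl).trans h1)
      have hq2 := key q hq hqn ((Dvd.intro_left _ rfl).trans h1)
      exact hpq (hp2.trans hq2.symm)
  -- unique prime
  have hcard1 : Nat.card K ≠ 1 := by
    intro h
    have := (Nat.card_eq_one_iff_unique.mp h).1
    exact not_subsingleton K this
  obtain ⟨p, hp, hpK⟩ := Nat.exists_prime_and_dvd hcard1
  have hpow : Nat.card K = p ^ (Nat.card K).primeFactorsList.length :=
    Nat.eq_prime_pow_of_unique_prime_dvd Nat.card_pos.ne' (fun {d} hd hdK => hc d p hd hp hdK hpK)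
  have hPG : IsPGroup p K := by
    haveI := Fact.mk hp
    exact IsPGroup.of_card hpow
  refine ⟨p, hp, hPG, ?_⟩
  have hexp : ∀ g : K, g ^ p = 1 := by
    intro g
    haveI := Fact.mk hp
    obtain ⟨j, hj⟩ := IsPGroup.iff_orderOf.mp hPG g
    rcases Nat.lt_or_ge j 2 with hj2 | hj2
    · rw [← orderOf_dvd_iff_pow_eq_one, hj]
      interval_cases j
      · simp
      · simp
    · exfalso
      apply hb p hp (g ^ (p ^ (j - 2)))
      rw [orderOf_pow' g (pow_ne_zero _ hp.pos.ne'), hj]
      have : Nat.gcd (p ^ j) (p ^ (j - 2)) = p ^ (j - 2) :=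
        Nat.gcd_eq_right (pow_dvd_pow p (by omega))
      rw [this]
      exact Nat.pow_div (by omega) hp.pos |>.trans (by congr 1; omega)
  have h1 : Monoid.exponent K ∣ p := Monoid.exponent_dvd_of_forall_pow_eq_one hexp
  rcases (Nat.dvd_prime hp).mp h1 with h2 | h2
  · exfalso
    rw [Monoid.exp_eq_one_iff] at h2
    exact not_subsingleton K h2
  · exact h2


theorem exists_small_model (K : Type*) [Group K] [Finite K] :
    ∃ (P : Type) (_ : Group P) (_ : Finite P), Nonempty (P ≃* K) := by
  let e0 : {i : ℕ // i < Nat.card K} ≃ K := Fin.equivSubtype.symm.trans (Finite.equivFin K).symm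
  letI grp : Group {i : ℕ // i < Nat.card K} := e0.group
  exact ⟨{i : ℕ // i < Nat.card K}, grp, Finite.of_equiv _ e0.symm, ⟨e0.mulEquiv⟩⟩

theorem exists_orderOf_eq_of_dvd {G : Type*} [Group G] [Finite G] (g : G) (m : ℕ) (hm : m ∣ orderOf g) :
    ∃ x : G, orderOf x = m :=
  ⟨g ^ (orderOf g / m), orderOf_pow_orderOf_div (orderOf_pos g).ne' hm⟩

/-- Let G be a finite group such that the numbers of elements of each order that occurs in G (the numbers #{g : o(g) = m}, m ranging over the element orders of G) take exactly two values, 1 and some n ≠ 1. Then either G is a p-group of exponent p and order at least 3 for some prime p, or G is the quaternion group of order 8, or G is cyclic of order 4, or G ≅ Z₂ × P for a p-group P of exponent p with p an odd prime. -/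
theorem result {G : Type*} [Group G] [Finite G] (n : ℕ) (hn : n ≠ 1) (h : ((fun m : ℕ => Nat.card {g : G // orderOf g = m}) '' Set.range (orderOf : G → ℕ)) = {1, n}) :
    (∃ p : ℕ, p.Prime ∧ IsPGroup p G ∧ 3 ≤ Nat.card G ∧ Monoid.exponent G = p) ∨
      Nonempty (G ≃* QuaternionGroup 2) ∨ (IsCyclic G ∧ Nat.card G = 4) ∨
      (∃ (p : ℕ) (P : Type) (_ : Group P) (_ : Finite P), p.Prime ∧ p ≠ 2 ∧ IsPGroup p P ∧ Monoid.exponent P = p ∧
        Nonempty (G ≃* Multiplicative (ZMod 2) × P)) := by
  have F1 : ∀ g : G, cnt G (orderOf g) = 1 ∨ cnt G (orderOf g) = n := by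
    intro g
    have : cnt G (orderOf g) ∈ ((fun m : ℕ => Nat.card {g : G // orderOf g = m}) '' Set.range (orderOf : G → ℕ)) :=
      ⟨orderOf g, ⟨g, rfl⟩, rfl⟩
    rw [h] at this
    simpa using this
  have F2 : ∃ g : G, cnt G (orderOf g) = n := by
    have : n ∈ ({1, n} : Set ℕ) := by simp
    rw [← h] at this
    obtain ⟨m, ⟨g, rfl⟩, hm⟩ := this
    exact ⟨g, hm⟩
  obtain ⟨g0, hg0⟩ := F2
  have hg01 : g0 ≠ 1 := by
    rintro rfl
    rw [orderOf_one, cnt_one] at hg0
    exact hn hg0.symm
  haveI : Nontrivial G := ⟨⟨g0, 1, hg01⟩⟩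
  have F3 : ∀ g : G, 3 ≤ orderOf g → cnt G (orderOf g) = n := by
    intro g hg
    rcases F1 g with h1 | h1
    · exfalso
      have := totient_dvd_cnt (G := G) (orderOf g)
      rw [h1, Nat.dvd_one, Nat.totient_eq_one_iff] at this
      omega
    · exact h1
  have hsum2 : cnt G 1 + cnt G 2 ≤ Nat.card G := by
    have h1 := sum_cnt (G := G) 2 two_ne_zero
    rw [Nat.prime_two.divisors, Finset.sum_pair (by norm_num)] at h1
    rw [h1]
    exact Finite.card_subtype_le _
  by_cases hu : cnt G 2 = 1
  swap
  · -- Case I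
    left
    have hK : ∀ g : G, g ≠ 1 → cnt G (orderOf g) = n := by
      intro g hg
      have h1 : orderOf g ≠ 1 := by rwa [Ne, orderOf_eq_one_iff]
      have h0 : 0 < orderOf g := orderOf_pos g
      by_cases h2 : orderOf g = 2
      · rcases F1 g with h3 | h3
        · rw [h2] at h3; exact absurd h3 hu
        · exact h3
      · exact F3 g (by omega)
    obtain ⟨p, hp, hPG, hexp⟩ := pgroup_of_uniform n hK
    refine ⟨p, hp, hPG, ?_, hexp⟩
    by_contra hlt
    push Not at hlt
    have hc2 : Nat.card G = 2 := by
      have : 1 < Nat.card G := Finite.one_lt_card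
      omega
    have h2 : orderOf g0 = 2 := by
      have h3 : orderOf g0 ∣ 2 := hc2 ▸ orderOf_dvd_natCard g0
      rcases (Nat.dvd_prime Nat.prime_two).mp h3 with h4 | h4
      · exact absurd (orderOf_eq_one_iff.mp h4) hg01
      · exact h4
    rw [h2] at hg0
    rw [cnt_one, hc2, hg0] at hsum2
    have h5 : 0 < cnt G (orderOf g0) := cnt_pos_of g0
    rw [h2, hg0] at h5
    omega
  · -- Case II : unique involution
    obtain ⟨z, hz⟩ := exists_of_cnt_ne_zero (G := G) (m := 2) (by rw [hu]; exact one_ne_zero)
    have hzuniq : ∀ y : G, orderOf y = 2 → y = z := by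
      intro y hy
      have h1 : Nat.card {g : G // orderOf g = 2} = 1 := hu
      obtain ⟨hs, _⟩ := Nat.card_eq_one_iff_unique.mp h1
      have := @Subsingleton.elim _ hs ⟨y, hy⟩ ⟨z, hz⟩
      exact congrArg Subtype.val this
    have hzc : ∀ g : G, g * z * g⁻¹ = z := by
      intro g
      apply hzuniq
      have := (MulAut.conj g).orderOf_eq z
      rw [MulAut.conj_apply] at this
      rw [this, hz]
    have hzcomm : ∀ g : G, Commute z g := by
      intro g
      have := hzc g
      have h2 : g * z = z * g := by
        calc g * z = (g * z * g⁻¹) * g := by group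
          _ = z * g := by rw [this]
      exact h2.symm
    have h2G : 2 ∣ Nat.card G := hz ▸ orderOf_dvd_natCard z
    by_cases h4 : 4 ∣ Nat.card G
    · -- IIa
      have hf4 := frob (G := G) 4 h4
      have hd4 : Nat.divisors 4 = {1, 2, 4} := by decide
      rw [hd4, Finset.sum_insert (by decide), Finset.sum_pair (by decide), cnt_one, hu] at hf4
      have hc4 : cnt G 4 ≠ 0 := by
        intro h0
        rw [h0] at hf4
        omega
      obtain ⟨g4, hg4⟩ := exists_of_cnt_ne_zero hc4
      have hn4 : cnt G 4 = n := by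
        rw [← hg4]; exact F3 g4 (by omega)
      rw [hn4] at hf4
      have hno8 : ∀ g : G, orderOf g ≠ 8 := by
        intro g hg
        have h1 : cnt G 8 = n := by rw [← hg]; exact F3 g (by omega)
        have h2 := totient_dvd_cnt (G := G) 8
        rw [h1] at h2
        have h3 : Nat.totient 8 = 4 := by
          show Nat.totient (2 ^ 3) = 4
          rw [Nat.totient_prime_pow Nat.prime_two (by norm_num)]
          norm_num
        rw [h3] at h2
        omega
      have hnoodd : ∀ p : ℕ, p.Prime → p ∣ Nat.card G → p = 2 := by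
        intro p hp hpG
        by_contra hp2
        have hp3 : 3 ≤ p := by
          have := hp.two_le
          omega
        haveI := Fact.mk hp
        obtain ⟨x, hx⟩ := exists_prime_orderOf_dvd_card' p hpG
        have hcp : cnt G p = n := by rw [← hx]; exact F3 x (by omega)
        have hpn : p ∣ 1 + n := by
          have h2 := frob (G := G) p hpG
          rw [hp.divisors, Finset.sum_pair hp.one_lt.ne, cnt_one, hcp] at h2
          exact h2
        have hcop2 : Nat.Coprime 2 p := (Nat.coprime_primes Nat.prime_two hp).mpr (Ne.symm hp2)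
        have hzx : orderOf (z * x) = 2 * p := by
          rw [(hzcomm x).orderOf_mul_eq_mul_orderOf_of_coprime (by rw [hz, hx]; exact hcop2), hz, hx]
        have hc2p : cnt G (2 * p) = n := by rw [← hzx]; exact F3 _ (by omega)
        have hcop4 : Nat.Coprime 4 p := by
          have : Nat.Coprime (2 ^ 2) p := Nat.Coprime.pow_left 2 hcop2
          simpa using this
        have h4pG : 4 * p ∣ Nat.card G := hcop4.mul_dvd_of_dvd_of_dvd h4 hpG
        have h1 := frob (G := G) (4 * p) h4pG
        have hsum : ∑ x ∈ ({1, 2, 4} : Finset ℕ), ∑ y ∈ ({1, p} : Finset ℕ), cnt G (x * y) =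
            (cnt G 1 + cnt G p) + ((cnt G 2 + cnt G (2 * p)) + (cnt G 4 + cnt G (4 * p))) := by
          have hs3 : ∀ f : ℕ → ℕ, ∑ x ∈ ({1, 2, 4} : Finset ℕ), f x = f 1 + (f 2 + f 4) := by
            intro f
            rw [Finset.sum_insert (by decide), Finset.sum_pair (by decide)]
          rw [hs3]
          simp only [Finset.sum_pair hp.one_lt.ne, one_mul, mul_one]
        rw [sum_divisors_mul_coprime hcop4, hd4, hp.divisors, hsum] at h1
        rw [cnt_one, hcp, hu, hc2p, hn4] at h1
        have h1' : p ∣ 1 + n + (1 + n + (n + cnt G (4 * p))) := (Dvd.intro_left _ rfl).trans h1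
        have h2' : p ∣ n + cnt G (4 * p) := by
          have h3 : p ∣ 1 + n + (n + cnt G (4 * p)) := (Nat.dvd_add_right hpn).mp h1'
          exact (Nat.dvd_add_right hpn).mp h3
        have hpn' : ¬ p ∣ n := by
          intro h3
          have : p ∣ 1 := (Nat.dvd_add_left h3).mp hpn
          exact hp.one_lt.ne' (Nat.dvd_one.mp this)
        by_cases h0 : cnt G (4 * p) = 0
        · rw [h0, add_zero] at h2'
          exact hpn' h2'
        · obtain ⟨y, hy⟩ := exists_of_cnt_ne_zero h0
          have h5 : cnt G (4 * p) = n := by rw [← hy]; exact F3 y (by omega)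
          rw [h5, ← two_mul] at h2'
          rcases (Nat.Prime.dvd_mul hp).mp h2' with h8 | h8
          · exact hp2 ((Nat.prime_dvd_prime_iff_eq hp Nat.prime_two).mp h8)
          · exact hpn' h8
      have hpow : Nat.card G = 2 ^ (Nat.card G).primeFactorsList.length :=
        Nat.eq_prime_pow_of_unique_prime_dvd Nat.card_pos.ne' (fun {d} hd hdK => hnoodd d hd hdK)
      haveI : Fact (Nat.Prime 2) := ⟨Nat.prime_two⟩
      have hPG : IsPGroup 2 G := IsPGroup.of_card hpow
      have hU : Cfsg.Agent.Lib.Helper10.UniqueOrderP 2 G := by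
        intro x y hx hx1 hy
        have hox : orderOf x = 2 := orderOf_eq_prime hx hx1
        have hxz : x = z := hzuniq x hox
        by_cases hy1 : y = 1
        · rw [hy1]; exact one_mem _
        · have hoy : orderOf y = 2 := orderOf_eq_prime hy hy1
          rw [hzuniq y hoy, hxz]
          exact Subgroup.mem_zpowers z
      have hno8' : ∀ g : G, ¬ 8 ∣ orderOf g := by
        intro g hg
        obtain ⟨x, hx⟩ := exists_orderOf_eq_of_dvd g 8 hg
        exact hno8 x hx
      rcases Cfsg.Agent.Lib.Helper10.isCyclic_or_quaternion_of_uniqueOrderP hPG hU with hcyc | ⟨_, j, ⟨e⟩⟩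
      · right; right; left
        refine ⟨hcyc, ?_⟩
        obtain ⟨g, hg⟩ := hcyc.exists_generator
        have hog : orderOf g = Nat.card G := orderOf_eq_card_of_forall_mem_zpowers hg
        have h8 := hno8' g
        rw [hog] at h8
        obtain ⟨k, hk⟩ : ∃ k, Nat.card G = 2 ^ k := ⟨_, hpow⟩
        rw [hk] at h8 h4 ⊢
        have hk2 : 2 ≤ k := by
          have : (2:ℕ) ^ 2 ∣ 2 ^ k := h4
          exact (Nat.pow_dvd_pow_iff_le_right (by norm_num)).mp this
        have hk3 : ¬ 3 ≤ k := by
          intro hk3
          exact h8 (pow_dvd_pow 2 hk3)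
        have : k = 2 := by omega
        rw [this]
        norm_num
      · -- quaternion
        have hord : orderOf (e.symm (QuaternionGroup.a 1)) = 2 * 2 ^ j := by
          rw [MulEquiv.orderOf_eq, QuaternionGroup.orderOf_a_one]
        have h8 := hno8' (e.symm (QuaternionGroup.a 1))
        rw [hord] at h8
        have hj : j < 2 := by
          by_contra hj
          push Not at hj
          apply h8
          calc (8:ℕ) = 2 ^ 3 := by norm_num
            _ ∣ 2 ^ (j + 1) := pow_dvd_pow 2 (by omega)
            _ = 2 * 2 ^ j := by ring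
        interval_cases j
        · right; right; left
          haveI : IsCyclic (QuaternionGroup (2 ^ 0)) := by
            rw [pow_zero]; exact QuaternionGroup.quaternionGroup_one_isCyclic
          refine ⟨isCyclic_of_surjective e.symm e.symm.surjective, ?_⟩
          rw [Nat.card_congr e.toEquiv, Nat.card_eq_fintype_card, QuaternionGroup.card]
          norm_num
        · right; left
          exact ⟨e⟩
    · -- IIb
      right; right; right
      haveI : Fact (Nat.Prime 2) := ⟨Nat.prime_two⟩
      have hfac : (Nat.card G).factorization 2 = 1 := by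
        have h1 : 1 ≤ (Nat.card G).factorization 2 :=
          (Nat.prime_two.pow_dvd_iff_le_factorization Nat.card_pos.ne').mp
            (by simpa using h2G)
        have h2 : ¬ 2 ≤ (Nat.card G).factorization 2 := by
          intro h2
          apply h4
          have := (Nat.prime_two.pow_dvd_iff_le_factorization Nat.card_pos.ne').mpr h2
          simpa using this
        omega
      have hcz : Nat.card (Subgroup.zpowers z) = 2 ^ (Nat.card G).factorization 2 := by
        rw [Nat.card_zpowers, hz, hfac, pow_one]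
      obtain ⟨P, hPcoe⟩ : ∃ P : Sylow 2 G, (P : Subgroup G) = Subgroup.zpowers z :=
        ⟨Sylow.ofCard (Subgroup.zpowers z) hcz, rfl⟩
      have hPcen : (P : Subgroup G) ≤ Subgroup.center G := by
        rw [hPcoe, Subgroup.zpowers_le, Subgroup.mem_center_iff]
        intro g
        exact (hzcomm g).eq.symm
      have hP : Subgroup.normalizer (P : Set G) ≤ Subgroup.centralizer (P : Set G) := by
        have : Subgroup.centralizer ((P : Subgroup G) : Set G) = ⊤ :=
          Subgroup.centralizer_eq_top_iff_subset.mpr hPcen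
        rw [show Subgroup.centralizer (P : Set G) = ⊤ from this]
        exact le_top
      obtain ⟨K, hKdef⟩ : ∃ K : Subgroup G, K = (MonoidHom.transferSylow P hP).ker := ⟨_, rfl⟩
      have hcompl : K.IsComplement' P := by
        rw [hKdef]; exact MonoidHom.ker_transferSylow_isComplement' P hP
      have hcardKP : Nat.card K * Nat.card (P : Subgroup G) = Nat.card G := hcompl.card_mul
      have hcardP : Nat.card (P : Subgroup G) = 2 := by rw [hPcoe, Nat.card_zpowers, hz]
      have hKodd : Odd (Nat.card K) := by
        rw [hcardP] at hcardKP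
        by_contra hev
        rw [Nat.not_odd_iff_even] at hev
        obtain ⟨t, ht⟩ := hev
        apply h4
        rw [← hcardKP, ht]
        exact ⟨t, by ring⟩
      have hoddK : ∀ g : G, Odd (orderOf g) → g ∈ K := by
        intro g hg
        rw [hKdef, MonoidHom.mem_ker]
        have h1 : orderOf (MonoidHom.transferSylow P hP g) ∣ orderOf g := orderOf_map_dvd _ g
        have h2 : orderOf (MonoidHom.transferSylow P hP g) ∣ 2 := by
          have := orderOf_dvd_natCard (MonoidHom.transferSylow P hP g)
          rwa [hcardP] at this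
        have h3 : orderOf (MonoidHom.transferSylow P hP g) ∣ Nat.gcd (orderOf g) 2 := Nat.dvd_gcd h1 h2
        have h4 : Nat.gcd (orderOf g) 2 = 1 := Nat.Coprime.gcd_eq_one (Nat.coprime_two_right.mpr hg)
        rw [h4, Nat.dvd_one, orderOf_eq_one_iff] at h3
        exact h3
      have hKord : ∀ k : K, Odd (orderOf (k : G)) := by
        intro k
        rw [Subgroup.orderOf_coe]
        exact Odd.of_dvd_nat hKodd (orderOf_dvd_natCard k)
      have hcntK : ∀ m : ℕ, Odd m → cnt K m = cnt G m := by
        intro m hm
        unfold cnt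
        apply Nat.card_congr
        exact {
          toFun := fun x => ⟨x.1.1, by rw [Subgroup.orderOf_coe]; exact x.2⟩
          invFun := fun y => ⟨⟨y.1, hoddK y.1 (by rw [y.2]; exact hm)⟩, by rw [← Subgroup.orderOf_coe]; exact y.2⟩
          left_inv := fun x => rfl
          right_inv := fun y => rfl }
      haveI hKnt : Nontrivial K := by
        have h1 : g0 ^ 2 ∈ K := by
          rw [hKdef, MonoidHom.mem_ker, map_pow]
          have := pow_card_eq_one' (G := (P : Subgroup G)) (x := MonoidHom.transferSylow P hP g0)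
          rwa [hcardP] at this
        have h2 : g0 ^ 2 ≠ 1 := by
          intro h3
          have h5 : orderOf g0 ∣ 2 := orderOf_dvd_of_pow_eq_one h3
          rcases (Nat.dvd_prime Nat.prime_two).mp h5 with h6 | h6
          · exact hg01 (orderOf_eq_one_iff.mp h6)
          · rw [h6, hu] at hg0; exact hn hg0.symm
        exact ⟨⟨⟨g0 ^ 2, h1⟩, 1, fun h => h2 (congrArg Subtype.val h)⟩⟩
      have hKunif : ∀ k : K, k ≠ 1 → cnt K (orderOf k) = n := by
        intro k hk
        have hodd := hKord k
        rw [Subgroup.orderOf_coe] at hodd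
        rw [hcntK _ hodd, ← Subgroup.orderOf_coe]
        apply F3
        rw [Subgroup.orderOf_coe]
        have h1 : orderOf k ≠ 1 := by rwa [Ne, orderOf_eq_one_iff]
        have h0 := orderOf_pos k
        obtain ⟨t, ht⟩ := hodd
        omega
      obtain ⟨p, hp, hPGK, hexpK⟩ := pgroup_of_uniform n hKunif
      have hp2 : p ≠ 2 := by
        rintro rfl
        have h1 : 2 ∣ Nat.card K := by
          rw [← hexpK]; exact Group.exponent_dvd_nat_card
        obtain ⟨t, ht⟩ := hKodd
        omega
      obtain ⟨P', grp, fin', ⟨eK⟩⟩ := exists_small_model K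
      refine ⟨p, P', grp, fin', hp, hp2, hPGK.of_equiv eK.symm, ?_, ?_⟩
      · rw [Monoid.exponent_eq_of_mulEquiv eK]; exact hexpK
      · let φ : K × (P : Subgroup G) →* G :=
          MonoidHom.noncommCoprod K.subtype (P : Subgroup G).subtype (fun k c => by
            have hc : (c : G) ∈ Subgroup.center G := hPcen c.2
            exact ((Subgroup.mem_center_iff.mp hc) (k : G)))
        have hφ : Function.Bijective φ := hcompl
        let e1 : K × (P : Subgroup G) ≃* G := MulEquiv.ofBijective φ hφ
        let e2 : (P : Subgroup G) ≃* Multiplicative (ZMod 2) :=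
          mulEquivOfPrimeCardEq (p := 2) hcardP (by simp)
        exact ⟨e1.symm.trans (MulEquiv.prodComm.trans (MulEquiv.prodCongr e2 eK.symm))⟩

end Cfsg.Agent.S3995
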