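import Cfsg.Statements.S3997
import Mathlib

set_option autoImplicit false
open Cfsg

namespace Cfsg.Agent.S3997

/-- an order preserving bijection from equal order statistics -/
theorem exists_equiv {G H : Type*} [Group G] [Finite G] [Group H] [Finite H]
    (hT : ∀ m : ℕ, Nat.card {g : G // orderOf g = m} = Nat.card {h : H // orderOf h = m}) :
    ∃ φ : G ≃ H, ∀ g, orderOf (φ g) = orderOf g := by
  have he : ∀ m : ℕ, Nonempty ({g : G // orderOf g = m} ≃ {h : H // orderOf h = m}) :=
    fun m => Finite.card_eq.mp (hT m)
  choose e _ using fun m => (he m).elim (fun x => (⟨x, trivial⟩ : ∃ _ : {g : G // orderOf g = m} ≃ {h : H // orderOf h = m}, True))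
  let φ : G ≃ H :=
    ((Equiv.sigmaFiberEquiv (orderOf : G → ℕ)).symm.trans (Equiv.sigmaCongrRight e)).trans
      (Equiv.sigmaFiberEquiv (orderOf : H → ℕ))
  refine ⟨φ, fun g => ?_⟩
  simp only [φ, Equiv.trans_apply, Equiv.sigmaFiberEquiv, Equiv.coe_fn_mk, Equiv.coe_fn_symm_mk,
    Equiv.sigmaCongrRight_apply]
  exact (e (orderOf g) ⟨g, rfl⟩).2

/-- Let G and H be finite groups with the same order type: for every m they have the same number of elements of order m. If G is nilpotent then so is H. -/
theorem result {G H : Type*} [Group G] [Finite G] [Group H] [Finite H] (hT : (∀ m : ℕ, Nat.card {g : G // orderOf g = m} = Nat.card {h : H // orderOf h = m})) (hG : Group.IsNilpotent G) :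
    Group.IsNilpotent H := by
  obtain ⟨φ, hφ⟩ := exists_equiv hT
  have hcard : Nat.card G = Nat.card H := Nat.card_congr φ
  apply (Group.isNilpotent_of_finite_tfae.out 0 3 rfl rfl).mpr
  intro p hp Q
  have hGn := (Group.isNilpotent_of_finite_tfae (G := G).out 0 3 rfl rfl).mp hG p hp
  obtain ⟨P⟩ : Nonempty (Sylow p G) := inferInstance
  have hPn := hGn P
  -- every Sylow of H equals φ '' P as a set
  have hset : ∀ Q : Sylow p H, (Q : Set H) = φ '' (P : Set G) := by
    intro Q
    have hsub : (Q : Set H) ⊆ φ '' (P : Set G) := by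
      intro h hh
      refine ⟨φ.symm h, ?_, by simp⟩
      -- φ.symm h is a p-element hence in the normal Sylow P
      obtain ⟨k, hk⟩ := (IsPGroup.iff_orderOf.mp Q.2) ⟨h, hh⟩
      have hk' : orderOf h = p ^ k := by
        rw [← hk]; exact Subgroup.orderOf_coe ⟨h, hh⟩
      have ho : orderOf (φ.symm h) = p ^ k := by
        rw [← hφ, Equiv.apply_symm_apply, hk']
      have hz : IsPGroup p (Subgroup.zpowers (φ.symm h)) := by
        rw [IsPGroup.iff_card]
        exact ⟨k, by rw [Nat.card_zpowers, ho]⟩
      obtain ⟨P', hP'⟩ := hz.exists_le_sylow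
      have huniq := Sylow.unique_of_normal P hPn
      have : P' = P := Subsingleton.elim _ _
      rw [this] at hP'
      exact hP' (Subgroup.mem_zpowers _)
    have h1 : (Q : Set H).ncard = p ^ (Nat.card H).factorization p := by
      rw [← Nat.card_coe_set_eq]; exact Q.card_eq_multiplicity
    have h2 : (P : Set G).ncard = p ^ (Nat.card G).factorization p := by
      rw [← Nat.card_coe_set_eq]; exact P.card_eq_multiplicity
    apply Set.eq_of_subset_of_ncard_le hsub
    · rw [Set.ncard_image_of_injective _ φ.injective, h1, h2, hcard]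
  have hsub : Subsingleton (Sylow p H) := by
    constructor
    intro Q1 Q2
    apply Sylow.ext
    apply SetLike.coe_injective
    rw [Sylow.coe_coe, Sylow.coe_coe, hset, hset]
  exact Sylow.normal_of_subsingleton Q

end Cfsg.Agent.S3997
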