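import Cfsg.Statements.S4001
import Mathlib
import Cfsg.Agent.Lib.Helper21.FrobTools
import Cfsg.Agent.S0042

set_option autoImplicit false
open Cfsg

namespace Cfsg.Agent.S4001

open Cfsg.Agent.Lib.Helper1 Cfsg.Agent.Lib.Helper10 Cfsg.Agent.Lib.Helper20.FrobQuot
open Cfsg.Agent.Lib.Helper21.FrobTools

/-- the Frobenius kernel is nilpotent -/
theorem FrobData_nilpotent {Q : Type*} [Group Q] [Finite Q] {C N : Subgroup Q} (d : FrobData C N) :
    Group.IsNilpotent ↥N := by
  obtain ⟨N', h1, _, h3⟩ := Cfsg.Agent.S0042.result C d.frob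
  have : N' = N := SetLike.coe_injective (h1.trans d.ker.symm)
  rw [← this]
  exact h3

/-- numerical data of a 2-Frobenius group -/
theorem card_facts {G : Type*} [Group G] [Finite G] (H K : Subgroup G) [H.Normal] [K.Normal] (hle : H ≤ K)
    (C : Subgroup ↥K) (Cb : Subgroup (G ⧸ H))
    (dK : FrobData C (H.subgroupOf K)) (dQ : FrobData Cb (K.map (QuotientGroup.mk' H))) :
    Nat.card (K.map (QuotientGroup.mk' H)) = Nat.card C ∧
    Nat.card (↥K ⧸ H.subgroupOf K) = Nat.card C ∧
    Nat.card (G ⧸ K) = Nat.card Cb ∧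
    Nat.card G = Nat.card H * Nat.card C * Nat.card Cb ∧
    (Nat.card C).Coprime (Nat.card H) ∧ (Nat.card Cb).Coprime (Nat.card C) := by
  have hHK : Nat.card (H.subgroupOf K) = Nat.card H :=
    Nat.card_congr (Subgroup.subgroupOfEquivOfLe hle).toEquiv
  have h1 : Nat.card (H.subgroupOf K) * Nat.card C = Nat.card K := dK.card_mul
  have h2 : Nat.card (K.map (QuotientGroup.mk' H)) * Nat.card Cb = Nat.card (G ⧸ H) := dQ.card_mul
  have h3 : (H.subgroupOf K).index * Nat.card (H.subgroupOf K) = Nat.card K :=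
    Subgroup.index_mul_card _
  have hpos : 0 < Nat.card (H.subgroupOf K) := Nat.card_pos
  have h4 : (H.subgroupOf K).index = Nat.card C := by
    have : (H.subgroupOf K).index * Nat.card (H.subgroupOf K) = Nat.card C * Nat.card (H.subgroupOf K) := by
      rw [h3, ← h1, mul_comm]
    exact Nat.eq_of_mul_eq_mul_right hpos this
  -- |Kb|
  have h5 : Nat.card (K.map (QuotientGroup.mk' H)) = Nat.card C := by
    let φ : ↥K →* G ⧸ H := (QuotientGroup.mk' H).comp K.subtype
    have hker : φ.ker = H.subgroupOf K := by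
      ext x
      simp only [φ, MonoidHom.mem_ker, MonoidHom.comp_apply, Subgroup.subtype_apply,
        QuotientGroup.mk'_apply, QuotientGroup.eq_one_iff, Subgroup.mem_subgroupOf]
    have hrange : φ.range = K.map (QuotientGroup.mk' H) := by
      rw [MonoidHom.range_comp, Subgroup.range_subtype]
    rw [← hrange, ← Subgroup.index_ker, hker, h4]
  have h6 : Nat.card G = Nat.card H * Nat.card C * Nat.card Cb := by
    rw [← Subgroup.index_mul_card H, Subgroup.index_eq_card, ← h2, h5]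
    ring
  have h7 : K.index = Nat.card Cb := by
    have h8 : K.index * Nat.card K = Nat.card G := Subgroup.index_mul_card K
    rw [← h1, hHK, h6] at h8
    have hpos2 : 0 < Nat.card H * Nat.card C := Nat.mul_pos Nat.card_pos Nat.card_pos
    have : K.index * (Nat.card H * Nat.card C) = Nat.card Cb * (Nat.card H * Nat.card C) := by
      rw [h8]; ring
    exact Nat.eq_of_mul_eq_mul_right hpos2 this
  refine ⟨h5, ?_, ?_, h6, ?_, ?_⟩
  · rw [← Subgroup.index_eq_card, h4]
  · rw [← Subgroup.index_eq_card, h7]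
  · have := dK.coprime
    rwa [hHK] at this
  · have := dQ.coprime
    rwa [h5] at this

/-- an involution of a Frobenius complement inverts the kernel -/
theorem conj_eq_inv_of_involution {K : Type*} [Group K] [Finite K] {C N : Subgroup K} (d : FrobData C N)
    (t : K) (ht : t ∈ C) (ht2 : t ^ 2 = 1) (ht1 : t ≠ 1) (n : K) (hn : n ∈ N) :
    t * n * t⁻¹ = n⁻¹ := by
  haveI := d.normal
  let φ : ↥N →* ↥N := (MulAut.conjNormal t : MulAut ↥N).toMonoidHom
  have hφ : ∀ x : ↥N, ((φ x : ↥N) : K) = t * x * t⁻¹ := fun x => MulAut.conjNormal_apply t x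
  have hfpf : MonoidHom.FixedPointFree φ := by
    intro x hx
    have h1 : t * (x : K) * t⁻¹ = x := by
      rw [← hφ, hx]
    have h2 : t * (x : K) = x * t := by
      calc t * (x : K) = (t * x * t⁻¹) * t := by group
        _ = x * t := by rw [h1]
    exact Subtype.ext (d.fpf ht ht1 x.2 h2)
  have hinv : Function.Involutive φ := by
    intro x
    apply Subtype.ext
    rw [hφ, hφ]
    have h3 : t⁻¹ = t := by
      rw [inv_eq_iff_mul_eq_one, ← sq, ht2]
    rw [h3]
    calc t * (t * (x : K) * t) * t = t ^ 2 * x * t ^ 2 := by simp only [sq, mul_assoc]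
      _ = x := by rw [ht2, one_mul, mul_one]
  have h4 := MonoidHom.FixedPointFree.coe_eq_inv_of_involutive hfpf hinv
  have h5 := congrFun h4 ⟨n, hn⟩
  have h6 := congrArg Subtype.val h5
  rw [hφ] at h6
  exact h6

/-- a Frobenius complement has at most one involution -/
theorem involution_unique {K : Type*} [Group K] [Finite K] {C N : Subgroup K} (d : FrobData C N)
    (t u : K) (ht : t ∈ C) (ht2 : t ^ 2 = 1) (ht1 : t ≠ 1) (hu : u ∈ C) (hu2 : u ^ 2 = 1) (hu1 : u ≠ 1) :
    t = u := by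
  have hNne : N ≠ ⊥ := by
    intro hN
    have h1 := d.card_mul
    rw [hN, Subgroup.card_bot, one_mul] at h1
    exact d.frob.2.1 (Subgroup.eq_top_of_card_eq _ h1)
  obtain ⟨⟨n, hn⟩, hn1⟩ := (Subgroup.ne_bot_iff_exists_ne_one.mp hNne)
  have hn1' : n ≠ 1 := fun h => hn1 (Subtype.ext h)
  have h1 := conj_eq_inv_of_involution d t ht ht2 ht1 n hn
  have h2 := conj_eq_inv_of_involution d u hu hu2 hu1 n hn
  by_contra htu
  have h3 : u⁻¹ * t ≠ 1 := by
    intro h
    apply htu
    have : t = u * (u⁻¹ * t) := by group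
    rw [this, h, mul_one]
  have h4 : (u⁻¹ * t) * n = n * (u⁻¹ * t) := by
    have e1 : t * n = n⁻¹ * t := by
      calc t * n = (t * n * t⁻¹) * t := by group
        _ = n⁻¹ * t := by rw [h1]
    have e2 : u⁻¹ * n⁻¹ = n * u⁻¹ := by
      have : u * n = n⁻¹ * u := by
        calc u * n = (u * n * u⁻¹) * u := by group
          _ = n⁻¹ * u := by rw [h2]
      calc u⁻¹ * n⁻¹ = u⁻¹ * (n⁻¹ * u) * u⁻¹ := by group
        _ = u⁻¹ * (u * n) * u⁻¹ := by rw [this]
        _ = n * u⁻¹ := by group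
    calc (u⁻¹ * t) * n = u⁻¹ * (t * n) := by group
      _ = u⁻¹ * (n⁻¹ * t) := by rw [e1]
      _ = (u⁻¹ * n⁻¹) * t := by group
      _ = (n * u⁻¹) * t := by rw [e2]
      _ = n * (u⁻¹ * t) := by group
  exact hn1' (d.fpf (C.mul_mem (C.inv_mem hu) ht) h3 hn h4)

/-- the embedding of the complement of `K` into `G/H` -/
noncomputable def emb {G : Type*} [Group G] (H K : Subgroup G) [H.Normal] (C : Subgroup ↥K) :
    ↥C →* G ⧸ H :=
  (QuotientGroup.mk' H).comp (K.subtype.comp C.subtype)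

theorem emb_injective {G : Type*} [Group G] {H K : Subgroup G} [H.Normal] {C : Subgroup ↥K}
    (dK : FrobData C (H.subgroupOf K)) : Function.Injective (emb H K C) := by
  rw [injective_iff_map_eq_one]
  intro c hc
  have h1 : ((c : ↥K) : G) ∈ H := (QuotientGroup.eq_one_iff _).mp hc
  have h2 : (c : ↥K) ∈ H.subgroupOf K ⊓ C := ⟨Subgroup.mem_subgroupOf.mpr h1, c.2⟩
  rw [dK.inf_eq_bot, Subgroup.mem_bot] at h2
  exact Subtype.ext h2

theorem emb_range {G : Type*} [Group G] [Finite G] {H K : Subgroup G} [H.Normal] {C : Subgroup ↥K}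
    (dK : FrobData C (H.subgroupOf K))
    (hcard : Nat.card (K.map (QuotientGroup.mk' H)) = Nat.card C) :
    (emb H K C).range = K.map (QuotientGroup.mk' H) := by
  apply Subgroup.eq_of_le_of_card_ge
  · rintro _ ⟨c, rfl⟩
    exact Subgroup.mem_map_of_mem _ (c : ↥K).2
  · rw [hcard, Nat.card_congr (MonoidHom.ofInjective (emb_injective dK)).toEquiv.symm]

theorem structure_facts {G : Type*} [Group G] [Finite G] (H K : Subgroup G) [H.Normal] [K.Normal]
    (hle : H ≤ K) (C : Subgroup ↥K) (Cb : Subgroup (G ⧸ H))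
    (dK : FrobData C (H.subgroupOf K)) (dQ : FrobData Cb (K.map (QuotientGroup.mk' H))) :
    Odd (Nat.card C) ∧ IsCyclic ↥C ∧ IsCyclic ↥Cb ∧ IsCyclic (G ⧸ K) := by
  obtain ⟨cKb, cKH, cGK, cG, cop1, cop2⟩ := card_facts H K hle C Cb dK dQ
  have hinj := emb_injective dK
  have hrange := emb_range dK cKb
  have hfmem : ∀ c : ↥C, emb H K C c ∈ K.map (QuotientGroup.mk' H) := by
    intro c
    rw [← hrange]
    exact ⟨c, rfl⟩
  have hHKne : H.subgroupOf K ≠ ⊥ := by
    intro hN
    have h1 := dK.card_mul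
    rw [hN, Subgroup.card_bot, one_mul] at h1
    exact dK.frob.2.1 (Subgroup.eq_top_of_card_eq _ h1)
  have hKbne : K.map (QuotientGroup.mk' H) ≠ ⊥ := by
    intro hN
    have h1 : Nat.card C = 1 := by rw [← cKb, hN, Subgroup.card_bot]
    exact dK.frob.1 (Subgroup.card_eq_one.mp h1)
  have hodd : Odd (Nat.card C) := by
    by_contra hev
    rw [Nat.not_odd_iff_even, even_iff_two_dvd] at hev
    haveI : Fact (Nat.Prime 2) := ⟨Nat.prime_two⟩
    obtain ⟨t, ht⟩ := exists_prime_orderOf_dvd_card' (G := C) 2 hev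
    have ht1 : t ≠ 1 := by
      rintro rfl
      rw [orderOf_one] at ht
      omega
    have ht2 : t ^ 2 = 1 := by rw [← ht]; exact pow_orderOf_eq_one t
    have hcentral : ∀ g : G ⧸ H, g * emb H K C t * g⁻¹ = emb H K C t := by
      intro g
      have hmem : g * emb H K C t * g⁻¹ ∈ K.map (QuotientGroup.mk' H) :=
        dQ.normal.conj_mem _ (hfmem t) g
      rw [← hrange] at hmem
      obtain ⟨u, hu⟩ := hmem
      have hu2 : u ^ 2 = 1 := by
        apply hinj
        rw [map_pow, hu, conj_pow, ← map_pow, ht2, map_one, mul_one, mul_inv_cancel]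
      have hu1 : u ≠ 1 := by
        rintro rfl
        rw [map_one] at hu
        apply ht1
        apply hinj
        rw [map_one]
        have : emb H K C t = g⁻¹ * (g * emb H K C t * g⁻¹) * g := by group
        rw [this, ← hu]
        group
      have h3 := involution_unique dK (t : ↥K) (u : ↥K) t.2
        (by rw [← Subgroup.coe_pow, ht2, Subgroup.coe_one])
        (fun h => ht1 (Subtype.ext h)) u.2
        (by rw [← Subgroup.coe_pow, hu2, Subgroup.coe_one])
        (fun h => hu1 (Subtype.ext h))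
      rw [← hu, Subtype.ext h3]
    obtain ⟨⟨x, hx⟩, hx1⟩ := Subgroup.ne_bot_iff_exists_ne_one.mp dQ.frob.1
    have h1 : x * emb H K C t = emb H K C t * x := by
      calc x * emb H K C t = (x * emb H K C t * x⁻¹) * x := by group
        _ = emb H K C t * x := by rw [hcentral x]
    have h2 : emb H K C t = 1 := dQ.fpf hx (fun h => hx1 (Subtype.ext h)) (hfmem t) h1
    exact ht1 (hinj (h2.trans (map_one _).symm))
  have hKbnil : Group.IsNilpotent ↥(K.map (QuotientGroup.mk' H)) := FrobData_nilpotent dQ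
  have hCnil : Group.IsNilpotent ↥C := by
    haveI h1 : Group.IsNilpotent ↥(emb H K C).range := by rw [hrange]; exact hKbnil
    exact Group.nilpotent_of_mulEquiv (MonoidHom.ofInjective hinj).symm
  have hCcyc : IsCyclic ↥C := by
    haveI := dK.normal
    exact isCyclic_of_nilpotent_fpf_of_odd C (H.subgroupOf K) hCnil hHKne
      (by rw [Subgroup.normalizer_eq_top]; exact le_top) dK.coprime
      (fun e he he1 k hk hc => dK.fpf he he1 hk hc) hodd
  obtain ⟨c0, hc0⟩ := hCcyc.exists_generator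
  have hk0gen : ∀ k ∈ K.map (QuotientGroup.mk' H), ∃ i : ℤ, k = (emb H K C c0) ^ i := by
    intro k hk
    rw [← hrange] at hk
    obtain ⟨c, rfl⟩ := hk
    obtain ⟨i, hi⟩ := Subgroup.mem_zpowers_iff.mp (hc0 c)
    exact ⟨i, by rw [← hi, map_zpow]⟩
  have hk0mem := hfmem c0
  have hk01 : emb H K C c0 ≠ 1 := by
    intro h
    have h0 : c0 = 1 := hinj (h.trans (map_one _).symm)
    apply dK.frob.1
    rw [eq_bot_iff]
    intro x hx
    obtain ⟨i, hi⟩ := Subgroup.mem_zpowers_iff.mp (hc0 ⟨x, hx⟩)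
    rw [h0, one_zpow] at hi
    rw [Subgroup.mem_bot]
    exact (congrArg Subtype.val hi).symm
  have hcomm : ∀ a ∈ Cb, ∀ b ∈ Cb, a * b = b * a := by
    intro a ha b hb
    obtain ⟨i, hi⟩ := hk0gen (a * emb H K C c0 * a⁻¹) (dQ.normal.conj_mem _ hk0mem a)
    obtain ⟨j, hj⟩ := hk0gen (b * emb H K C c0 * b⁻¹) (dQ.normal.conj_mem _ hk0mem b)
    obtain ⟨k0, hk0⟩ : ∃ k0, k0 = emb H K C c0 := ⟨_, rfl⟩
    rw [← hk0] at hi hj hk01 hk0mem
    have h1 : (a * b) * k0 * (a * b)⁻¹ = k0 ^ (i * j) := by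
      calc (a * b) * k0 * (a * b)⁻¹ = a * (b * k0 * b⁻¹) * a⁻¹ := by group
        _ = a * k0 ^ j * a⁻¹ := by rw [hj]
        _ = (a * k0 * a⁻¹) ^ j := by rw [conj_zpow]
        _ = k0 ^ (i * j) := by rw [hi, zpow_mul]
    have h2 : (b * a) * k0 * (b * a)⁻¹ = k0 ^ (i * j) := by
      calc (b * a) * k0 * (b * a)⁻¹ = b * (a * k0 * a⁻¹) * b⁻¹ := by group
        _ = b * k0 ^ i * b⁻¹ := by rw [hi]
        _ = (b * k0 * b⁻¹) ^ i := by rw [conj_zpow]
        _ = k0 ^ (i * j) := by rw [hj, ← zpow_mul, mul_comm]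
    by_contra hab
    have h3 : (b * a)⁻¹ * (a * b) ≠ 1 := by
      intro h
      apply hab
      have : a * b = (b * a) * ((b * a)⁻¹ * (a * b)) := by group
      rw [this, h, mul_one]
    have h4 : ((b * a)⁻¹ * (a * b)) * k0 = k0 * ((b * a)⁻¹ * (a * b)) := by
      have e : (a * b) * k0 * (a * b)⁻¹ = (b * a) * k0 * (b * a)⁻¹ := h1.trans h2.symm
      calc ((b * a)⁻¹ * (a * b)) * k0 = (b * a)⁻¹ * ((a * b) * k0 * (a * b)⁻¹) * (a * b) := by group
        _ = (b * a)⁻¹ * ((b * a) * k0 * (b * a)⁻¹) * (a * b) := by rw [e]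
        _ = k0 * ((b * a)⁻¹ * (a * b)) := by group
    exact hk01 (dQ.fpf (Cb.mul_mem (Cb.inv_mem (Cb.mul_mem hb ha)) (Cb.mul_mem ha hb)) h3 hk0mem h4)
  have hCbcyc : IsCyclic ↥Cb := by
    haveI := dQ.normal
    exact isCyclic_of_comm_fpf Cb (K.map (QuotientGroup.mk' H)) hcomm hKbne
      (by rw [Subgroup.normalizer_eq_top]; exact le_top) dQ.coprime
      (fun e he he1 k hk hc => dQ.fpf he he1 hk hc)
  refine ⟨hodd, hCcyc, hCbcyc, ?_⟩
  let ψ : G ⧸ H →* G ⧸ K := QuotientGroup.map H K (MonoidHom.id G) (fun x hx => hle hx)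
  have hψ : ∀ g : G, ψ (QuotientGroup.mk' H g) = QuotientGroup.mk' K g := fun g => rfl
  let θ : ↥Cb →* G ⧸ K := ψ.comp Cb.subtype
  have hsurj : Function.Surjective θ := by
    intro y
    obtain ⟨g, rfl⟩ := QuotientGroup.mk'_surjective K y
    obtain ⟨⟨⟨n, hn⟩, ⟨c, hc⟩⟩, hnc⟩ := dQ.compl.2 (QuotientGroup.mk' H g)
    refine ⟨⟨c, hc⟩, ?_⟩
    obtain ⟨k, hk, rfl⟩ := hn
    have h1 : ψ (QuotientGroup.mk' H k) = 1 := by
      rw [hψ]
      exact (QuotientGroup.eq_one_iff k).mpr hk
    show ψ c = QuotientGroup.mk' K g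
    rw [← hψ g, ← hnc]
    show ψ c = ψ (QuotientGroup.mk' H k * c)
    rw [map_mul, h1, one_mul]
  exact isCyclic_of_surjective θ hsurj

theorem solvable_facts {G : Type*} [Group G] [Finite G] (H K : Subgroup G) [H.Normal] [K.Normal]
    (C : Subgroup ↥K) (dK : FrobData C (H.subgroupOf K)) (hCcyc : IsCyclic ↥C)
    (hGK : IsCyclic (G ⧸ K)) : Group.IsSolvable G := by
  haveI h1 : Group.IsSolvable ↥(H.subgroupOf K) := by
    haveI h0 : Group.IsNilpotent ↥(H.subgroupOf K) := FrobData_nilpotent dK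
    infer_instance
  haveI : (H.subgroupOf K).Normal := dK.normal
  haveI h2 : Group.IsSolvable (↥K ⧸ H.subgroupOf K) := by
    have hs : Function.Surjective ((QuotientGroup.mk' (H.subgroupOf K)).comp C.subtype) := by
      intro y
      obtain ⟨k, rfl⟩ := QuotientGroup.mk'_surjective _ y
      obtain ⟨⟨⟨n, hn⟩, ⟨c, hc⟩⟩, hnc⟩ := dK.compl.2 k
      refine ⟨⟨c, hc⟩, ?_⟩
      show QuotientGroup.mk' (H.subgroupOf K) c = QuotientGroup.mk' (H.subgroupOf K) k
      rw [← hnc]
      show QuotientGroup.mk' (H.subgroupOf K) c = QuotientGroup.mk' (H.subgroupOf K) (n * c)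
      have h1 : QuotientGroup.mk' (H.subgroupOf K) n = 1 := (QuotientGroup.eq_one_iff n).mpr hn
      rw [map_mul, h1, one_mul]
    have hcyc : IsCyclic (↥K ⧸ H.subgroupOf K) := isCyclic_of_surjective _ hs
    exact Group.isSolvable_of_comm (fun a b => mul_comm_of_isCyclic hcyc a b)
  haveI h3 : Group.IsSolvable ↥K :=
    Group.isSolvable_of_ker_le_range (H.subgroupOf K).subtype (QuotientGroup.mk' (H.subgroupOf K))
      (by rw [QuotientGroup.ker_mk', Subgroup.range_subtype])
  haveI h4 : Group.IsSolvable (G ⧸ K) :=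
    Group.isSolvable_of_comm (fun a b => mul_comm_of_isCyclic hGK a b)
  exact Group.isSolvable_of_ker_le_range K.subtype (QuotientGroup.mk' K)
    (by rw [QuotientGroup.ker_mk', Subgroup.range_subtype])

/-- elements of `K` outside `H` centralize no nontrivial element of `H` -/
theorem fpf_K {G : Type*} [Group G] {H K : Subgroup G} (hle : H ≤ K)
    {C : Subgroup ↥K} (dK : FrobData C (H.subgroupOf K)) {x : G} (hxK : x ∈ K) (hxH : x ∉ H)
    {n : G} (hn : n ∈ H) (hc : x * n = n * x) : n = 1 := by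
  have h1 : (⟨x, hxK⟩ : ↥K) ∉ H.subgroupOf K := fun h => hxH (Subgroup.mem_subgroupOf.mp h)
  have h2 : (⟨n, hle hn⟩ : ↥K) ∈ H.subgroupOf K := Subgroup.mem_subgroupOf.mpr hn
  have h3 := eq_one_of_commute_of_not_mem dK h1 h2 (Subtype.ext hc)
  exact congrArg Subtype.val h3

theorem dvd_of_orderOf_mul {G : Type*} [Group G] [Finite G] (H K : Subgroup G) [H.Normal] [K.Normal]
    (hle : H ≤ K) (C : Subgroup ↥K) (Cb : Subgroup (G ⧸ H))
    (dK : FrobData C (H.subgroupOf K)) (dQ : FrobData Cb (K.map (QuotientGroup.mk' H)))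
    (p q : ℕ) (hp : p.Prime) (hq : q.Prime) (g : G) (hg : orderOf g = p * q)
    (hpm : p ∣ Nat.card C) : q ∣ Nat.card C := by
  obtain ⟨cKb, cKH, cGK, cG, cop1, cop2⟩ := card_facts H K hle C Cb dK dQ
  have hg0 : orderOf g ≠ 0 := (orderOf_pos g).ne'
  have hx : orderOf (g ^ q) = p := by
    have := orderOf_pow_orderOf_div hg0 (show p ∣ orderOf g from hg ▸ Dvd.intro _ rfl)
    rwa [hg, Nat.mul_div_cancel_left _ hp.pos] at this
  have hy : orderOf (g ^ p) = q := by
    have := orderOf_pow_orderOf_div hg0 (show q ∣ orderOf g from hg ▸ Dvd.intro_left _ rfl)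
    rwa [hg, Nat.mul_div_cancel _ hq.pos] at this
  have hcomm : g ^ q * g ^ p = g ^ p * g ^ q := by rw [← pow_add, ← pow_add, add_comm]
  have hpH : ¬ p ∣ Nat.card H := by
    intro h
    have := Nat.dvd_gcd hpm h
    rw [cop1.gcd_eq_one] at this
    exact hp.one_lt.ne' (Nat.dvd_one.mp this)
  have hpCb : ¬ p ∣ Nat.card Cb := by
    intro h
    have := Nat.dvd_gcd h hpm
    rw [cop2.gcd_eq_one] at this
    exact hp.one_lt.ne' (Nat.dvd_one.mp this)
  have hxK : g ^ q ∈ K := by
    rw [← QuotientGroup.eq_one_iff, ← orderOf_eq_one_iff]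
    have h1 : orderOf ((g ^ q : G) : G ⧸ K) ∣ p := by
      have := orderOf_map_dvd (QuotientGroup.mk' K) (g ^ q)
      rwa [hx] at this
    have h2 : orderOf ((g ^ q : G) : G ⧸ K) ∣ Nat.card Cb := by
      rw [← cGK]; exact orderOf_dvd_natCard _
    rcases (Nat.dvd_prime hp).mp h1 with h3 | h3
    · exact h3
    · rw [h3] at h2; exact absurd h2 hpCb
  have hxH : g ^ q ∉ H := by
    intro h
    have := Subgroup.orderOf_dvd_natCard H h
    rw [hx] at this
    exact hpH this
  by_contra hqm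
  have hxb : (QuotientGroup.mk' H (g ^ q)) ∈ K.map (QuotientGroup.mk' H) :=
    Subgroup.mem_map_of_mem _ hxK
  have hxb1 : (QuotientGroup.mk' H (g ^ q)) ≠ 1 := by
    intro h
    exact hxH ((QuotientGroup.eq_one_iff _).mp h)
  have hcb : QuotientGroup.mk' H (g ^ p) * QuotientGroup.mk' H (g ^ q) =
      QuotientGroup.mk' H (g ^ q) * QuotientGroup.mk' H (g ^ p) := by
    rw [← map_mul, ← map_mul, hcomm]
  have hyb : QuotientGroup.mk' H (g ^ p) ∈ K.map (QuotientGroup.mk' H) := by
    by_contra hnot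
    exact hxb1 (eq_one_of_commute_of_not_mem dQ hnot hxb hcb)
  have hyH : g ^ p ∈ H := by
    rw [← QuotientGroup.eq_one_iff, ← orderOf_eq_one_iff]
    have h1 : orderOf ((g ^ p : G) : G ⧸ H) ∣ q := by
      have := orderOf_map_dvd (QuotientGroup.mk' H) (g ^ p)
      rwa [hy] at this
    have h2 : orderOf ((g ^ p : G) : G ⧸ H) ∣ Nat.card C := by
      rw [← cKb]
      exact Subgroup.orderOf_dvd_natCard _ hyb
    rcases (Nat.dvd_prime hq).mp h1 with h3 | h3
    · exact h3
    · rw [h3] at h2; exact absurd h2 hqm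
  have h1 := fpf_K hle dK hxK hxH hyH hcomm
  rw [← orderOf_eq_one_iff, hy] at h1
  exact hq.one_lt.ne' h1

theorem mixed {G : Type*} [Group G] [Finite G] (H K : Subgroup G) [hHn : H.Normal] [K.Normal]
    (hlt : H < K) (C : Subgroup ↥K) (Cb : Subgroup (G ⧸ H))
    (dK : FrobData C (H.subgroupOf K)) (dQ : FrobData Cb (K.map (QuotientGroup.mk' H)))
    (p q : ℕ) (hp : p.Prime) (hq : q.Prime) (hpq : p ≠ q)
    (hpH : p ∣ Nat.card H) (hqCb : q ∣ Nat.card Cb) : ∃ g : G, orderOf g = p * q := by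
  have hle := hlt.le
  obtain ⟨cKb, cKH, cGK, cG, cop1, cop2⟩ := card_facts H K hle C Cb dK dQ
  haveI := Fact.mk hp
  haveI := Fact.mk hq
  haveI hHnil : Group.IsNilpotent ↥H := by
    haveI := FrobData_nilpotent dK
    exact Group.nilpotent_of_mulEquiv (Subgroup.subgroupOfEquivOfLe hle)
  obtain ⟨z, hzc, hzo⟩ := exists_mem_center_orderOf_eq_prime (H := ↥H) p hpH
  let V : Subgroup G :=
    { carrier := {g | g ∈ H ∧ (∀ h ∈ H, h * g = g * h) ∧ g ^ p = 1}
      one_mem' := ⟨H.one_mem, fun h _ => by rw [mul_one, one_mul], one_pow p⟩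
      mul_mem' := by
        rintro a b ⟨ha, hac, hap⟩ ⟨hb, hbc, hbp⟩
        refine ⟨H.mul_mem ha hb, fun h hh => ?_, ?_⟩
        · rw [← mul_assoc, hac h hh, mul_assoc, hbc h hh, mul_assoc]
        · have : Commute a b := (hbc a ha)
          rw [this.mul_pow, hap, hbp, one_mul]
      inv_mem' := by
        rintro a ⟨ha, hac, hap⟩
        refine ⟨H.inv_mem ha, fun h hh => ?_, by rw [inv_pow, hap, inv_one]⟩
        have := hac h hh
        calc h * a⁻¹ = a⁻¹ * (a * h) * a⁻¹ := by group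
          _ = a⁻¹ * (h * a) * a⁻¹ := by rw [this]
          _ = a⁻¹ * h := by group }
  haveI hVn : V.Normal := by
    constructor
    intro v hv g
    obtain ⟨hvH, hvc, hvp⟩ := hv
    refine ⟨hHn.conj_mem v hvH g, fun h hh => ?_, by rw [conj_pow, hvp]; group⟩
    have h1 : g⁻¹ * h * g ∈ H := by
      have := hHn.conj_mem h hh g⁻¹
      rwa [inv_inv] at this
    have h2 := hvc _ h1
    calc h * (g * v * g⁻¹) = g * ((g⁻¹ * h * g) * v) * g⁻¹ := by group
      _ = g * (v * (g⁻¹ * h * g)) * g⁻¹ := by rw [h2]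
      _ = g * v * g⁻¹ * h := by group
  have hzV : (z : G) ∈ V := by
    refine ⟨z.2, fun h hh => ?_, ?_⟩
    · have := (Subgroup.mem_center_iff.mp hzc) ⟨h, hh⟩
      exact congrArg Subtype.val this
    · rw [← Subgroup.coe_pow, ← hzo, pow_orderOf_eq_one, Subgroup.coe_one]
  have hz1 : (z : G) ≠ 1 := by
    intro h
    have : z = 1 := Subtype.ext h
    rw [this, orderOf_one] at hzo
    exact hp.one_lt.ne hzo
  haveI hVnt : Nontrivial ↥V := ⟨⟨⟨z, hzV⟩, 1, fun h => hz1 (congrArg Subtype.val h)⟩⟩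
  letI : CommGroup ↥V :=
    { (inferInstance : Group ↥V) with
      mul_comm := fun a b => Subtype.ext ((a.2.2.1 b b.2.1).symm) }
  have hVp : IsPGroup p ↥V := fun v =>
    ⟨1, by rw [pow_one]; exact Subtype.ext (by rw [Subgroup.coe_pow]; exact v.2.2.2)⟩
  obtain ⟨k, hk⟩ := IsPGroup.iff_card.mp hVp
  have hpm : ¬ p ∣ Nat.card C := by
    intro h
    have := Nat.dvd_gcd h hpH
    rw [cop1.gcd_eq_one] at this
    exact hp.one_lt.ne' (Nat.dvd_one.mp this)
  have hcopV : (Nat.card ↥V).Coprime (Nat.card (K.map (QuotientGroup.mk' H))) := by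
    rw [hk, cKb]
    exact Nat.Coprime.pow_left k ((Nat.Prime.coprime_iff_not_dvd hp).mpr hpm)
  let ρ0 : G →* MulAut ↥V := MulAut.conjNormal
  have hρ0 : ∀ (g : G) (v : ↥V), ((ρ0 g v : ↥V) : G) = g * v * g⁻¹ :=
    fun g v => MulAut.conjNormal_apply g v
  have hker : ∀ h ∈ H, ρ0 h = 1 := by
    intro h hh
    ext v
    rw [hρ0, MulAut.one_apply]
    have := v.2.2.1 h hh
    rw [this]
    group
  let ρ : G ⧸ H →* MulAut ↥V := QuotientGroup.lift H ρ0 hker
  have hρ : ∀ g : G, ρ (QuotientGroup.mk' H g) = ρ0 g := fun g => rfl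
  obtain ⟨x, hxK, hxH⟩ := SetLike.exists_of_lt hlt
  obtain ⟨v, hv1, hvfix⟩ := exists_fixed_of_frobenius ρ (K.map (QuotientGroup.mk' H)) Cb
    (by haveI := dQ.normal; rw [Subgroup.normalizer_eq_top]; exact le_top)
    (fun g hg hg1 m hm hc => dQ.fpf hg hg1 hm hc.symm)
    (fun v hv => by
      have h1 := hv (QuotientGroup.mk' H x) (Subgroup.mem_map_of_mem _ hxK)
      rw [hρ] at h1
      have h2 : x * (v : G) * x⁻¹ = v := by rw [← hρ0, h1]
      have h3 : x * (v : G) = v * x := by
        calc x * (v : G) = (x * v * x⁻¹) * x := by group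
          _ = v * x := by rw [h2]
      exact Subtype.ext (fpf_K hle dK hxK hxH v.2.1 h3))
    hcopV
  obtain ⟨yb, hyb⟩ := exists_prime_orderOf_dvd_card' (G := ↥Cb) q hqCb
  obtain ⟨y, hy⟩ := QuotientGroup.mk'_surjective H (yb : G ⧸ H)
  have h1 := hvfix (yb : G ⧸ H) yb.2
  rw [← hy, hρ] at h1
  have hyv : y * (v : G) * y⁻¹ = v := by rw [← hρ0, h1]
  have hqy : q ∣ orderOf y := by
    have := orderOf_map_dvd (QuotientGroup.mk' H) y
    rw [hy, Subgroup.orderOf_coe, hyb] at this
    exact this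
  obtain ⟨y', hy'⟩ : ∃ y', y' = y ^ (orderOf y / q) := ⟨_, rfl⟩
  have hy'o : orderOf y' = q := by
    rw [hy']; exact orderOf_pow_orderOf_div (orderOf_pos y).ne' hqy
  have hcomm : Commute (v : G) y' := by
    have h2 : Commute y (v : G) := by
      show y * v = v * y
      calc y * (v : G) = (y * v * y⁻¹) * y := by group
        _ = v * y := by rw [hyv]
    rw [hy']
    exact (h2.pow_left _).symm
  have hvo : orderOf (v : G) = p := by
    apply orderOf_eq_prime v.2.2.2
    intro h
    exact hv1 (Subtype.ext h)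
  refine ⟨(v : G) * y', ?_⟩
  rw [hcomm.orderOf_mul_eq_mul_orderOf_of_coprime
    (by rw [hvo, hy'o]; exact (Nat.coprime_primes hp hq).mpr hpq), hvo, hy'o]

/-- Let G be a 2-Frobenius group: it has normal subgroups H < K with K a Frobenius group with kernel H and G/H a Frobenius group with kernel K/H. Then G is solvable; K/H has odd order coprime to the order of H and to the order of G/K (it is the image of an odd-order Hall subgroup); G/K is cyclic; and the prime graph of G has exactly two connected components, both complete: for distinct primes p, q dividing the order of G, G has an element of order pq exactly when p and q either both divide the order of K/H or both do not. -/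
theorem result {G : Type*} [Group G] [Finite G] (H K : Subgroup G) [H.Normal] [K.Normal] (hlt : H < K)
    (hK : ∃ C : Subgroup ↥K, Cfsg.IsFrobeniusComplement C ∧ Cfsg.frobeniusKernel C = (H.subgroupOf K : Set ↥K))
    (hGH : ∃ C : Subgroup (G ⧸ H), Cfsg.IsFrobeniusComplement C ∧ Cfsg.frobeniusKernel C = (K.map (QuotientGroup.mk' H) : Set (G ⧸ H))) :
    Group.IsSolvable G ∧ Odd (Nat.card (↥K ⧸ H.subgroupOf K)) ∧
      Nat.Coprime (Nat.card (↥K ⧸ H.subgroupOf K)) (Nat.card ↥H * Nat.card (G ⧸ K)) ∧ IsCyclic (G ⧸ K) ∧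
      ∀ p q : ℕ, p.Prime → q.Prime → p ≠ q → p ∣ Nat.card G → q ∣ Nat.card G →
        ((∃ g : G, orderOf g = p * q) ↔ (p ∣ Nat.card (↥K ⧸ H.subgroupOf K) ↔ q ∣ Nat.card (↥K ⧸ H.subgroupOf K))) := by
  obtain ⟨C, hC, hCker⟩ := hK
  obtain ⟨Cb, hCb, hCbker⟩ := hGH
  have hle : H ≤ K := hlt.le
  have dK : FrobData C (H.subgroupOf K) := frobData_of_ker _ C hC hCker
  have dQ : FrobData Cb (K.map (QuotientGroup.mk' H)) := frobData_of_ker _ Cb hCb hCbker
  obtain ⟨cKb, cKH, cGK, cG, cop1, cop2⟩ := card_facts H K hle C Cb dK dQ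
  obtain ⟨hodd, hCcyc, hCbcyc, hGKcyc⟩ := structure_facts H K hle C Cb dK dQ
  refine ⟨solvable_facts H K C dK hCcyc hGKcyc, ?_, ?_, hGKcyc, ?_⟩
  · rw [cKH]; exact hodd
  · rw [cKH, cGK]; exact Nat.Coprime.mul_right cop1 cop2.symm
  · intro p q hp hq hpq hpG hqG
    rw [cKH]
    have hcoppq : Nat.Coprime p q := (Nat.coprime_primes hp hq).mpr hpq
    constructor
    · rintro ⟨g, hg⟩
      constructor
      · intro hpm
        exact dvd_of_orderOf_mul H K hle C Cb dK dQ p q hp hq g hg hpm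
      · intro hqm
        exact dvd_of_orderOf_mul H K hle C Cb dK dQ q p hq hp g (by rw [hg, mul_comm]) hqm
    · intro hiff
      by_cases hpm : p ∣ Nat.card C
      · have hqm := hiff.mp hpm
        have hpqm : p * q ∣ Nat.card C := hcoppq.mul_dvd_of_dvd_of_dvd hpm hqm
        obtain ⟨c0, hc0⟩ := hCcyc.exists_generator
        have ho : orderOf c0 = Nat.card C := orderOf_eq_card_of_forall_mem_zpowers hc0
        refine ⟨(((c0 ^ (orderOf c0 / (p * q)) : ↥C) : ↥K) : G), ?_⟩
        rw [Subgroup.orderOf_coe, Subgroup.orderOf_coe]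
        exact orderOf_pow_orderOf_div (orderOf_pos c0).ne' (ho ▸ hpqm)
      · have hqm : ¬ q ∣ Nat.card C := fun h => hpm (hiff.mpr h)
        have hp' : p ∣ Nat.card H ∨ p ∣ Nat.card Cb := by
          rw [cG] at hpG
          rcases (Nat.Prime.dvd_mul hp).mp hpG with h | h
          · rcases (Nat.Prime.dvd_mul hp).mp h with h | h
            · exact Or.inl h
            · exact absurd h hpm
          · exact Or.inr h
        have hq' : q ∣ Nat.card H ∨ q ∣ Nat.card Cb := by
          rw [cG] at hqG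
          rcases (Nat.Prime.dvd_mul hq).mp hqG with h | h
          · rcases (Nat.Prime.dvd_mul hq).mp h with h | h
            · exact Or.inl h
            · exact absurd h hqm
          · exact Or.inr h
        rcases hp' with hpH | hpCb <;> rcases hq' with hqH | hqCb
        · haveI := Fact.mk hp
          haveI := Fact.mk hq
          haveI hHnil : Group.IsNilpotent ↥H := by
            haveI := FrobData_nilpotent dK
            exact Group.nilpotent_of_mulEquiv (Subgroup.subgroupOfEquivOfLe hle)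
          obtain ⟨x, hx⟩ := exists_prime_orderOf_dvd_card' (G := ↥H) p hpH
          obtain ⟨y, hy⟩ := exists_prime_orderOf_dvd_card' (G := ↥H) q hqH
          have hcop : (orderOf x).Coprime (orderOf y) := by rw [hx, hy]; exact hcoppq
          have hc := commute_of_coprime_orderOf ↥H x y hcop
          refine ⟨((x * y : ↥H) : G), ?_⟩
          rw [Subgroup.orderOf_coe, hc.orderOf_mul_eq_mul_orderOf_of_coprime hcop, hx, hy]
        · exact mixed H K hlt C Cb dK dQ p q hp hq hpq hpH hqCb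
        · obtain ⟨g, hg⟩ := mixed H K hlt C Cb dK dQ q p hq hp hpq.symm hqH hpCb
          exact ⟨g, by rw [hg, mul_comm]⟩
        · have hpqc : p * q ∣ Nat.card (G ⧸ K) := by
            rw [cGK]; exact hcoppq.mul_dvd_of_dvd_of_dvd hpCb hqCb
          obtain ⟨yb, hyb⟩ := hGKcyc.exists_generator
          have ho : orderOf yb = Nat.card (G ⧸ K) := orderOf_eq_card_of_forall_mem_zpowers hyb
          obtain ⟨y, rfl⟩ := QuotientGroup.mk'_surjective K yb
          have h1 : p * q ∣ orderOf y :=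
            (ho ▸ hpqc).trans (orderOf_map_dvd (QuotientGroup.mk' K) y)
          exact ⟨y ^ (orderOf y / (p * q)), orderOf_pow_orderOf_div (orderOf_pos y).ne' h1⟩

end Cfsg.Agent.S4001
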