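import Cfsg.Statements.S4002
import Cfsg.Agent.Lib.Helper1.FpfCyclic
import Cfsg.Agent.Lib.Helper1.SylowSystem
import Cfsg.Agent.Lib.Helper10.FrobFpf
import Cfsg.Agent.Lib.Helper4.MinNormal

set_option autoImplicit false
open Cfsg

namespace Cfsg.Agent.S4002

/-- three primes up to `n` with pairwise products exceeding `n`. -/
theorem exists_three_primes (n : ℕ) (hn : 7 ≤ n) :
    ∃ p q r : ℕ, p.Prime ∧ q.Prime ∧ r.Prime ∧ p < q ∧ q < r ∧ r ≤ n ∧ n < p * q := by
  by_cases h1 : n ≤ 14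
  · exact ⟨3, 5, 7, by norm_num, by norm_num, by norm_num, by norm_num, by norm_num, hn, by omega⟩
  by_cases h2 : n ≤ 34
  · exact ⟨5, 7, 11, by norm_num, by norm_num, by norm_num, by norm_num, by norm_num, by omega,
      by omega⟩
  push Not at h1 h2
  obtain ⟨r, hr, hr1, hr2⟩ := Nat.exists_prime_lt_and_le_two_mul (n / 2) (by omega)
  obtain ⟨q, hq, hq1, hq2⟩ := Nat.exists_prime_lt_and_le_two_mul (n / 2 / 2) (by omega)
  obtain ⟨p, hp, hp1, hp2⟩ := Nat.exists_prime_lt_and_le_two_mul (n / 2 / 2 / 2) (by omega)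
  refine ⟨p, q, r, hp, hq, hr, by omega, by omega, by omega, ?_⟩
  set m2 := n / 2 / 2 with hm2
  have e1 : n ≤ 4 * m2 + 3 := by omega
  have e2 : m2 + 1 ≤ q := hq1
  have e3 : m2 + 1 ≤ 2 * p := by omega
  have e4 : 8 ≤ m2 := by omega
  nlinarith

/-- an element of order `a ^ j`, `j ≥ 1`, has a power of order `a`. -/
theorem exists_pow_orderOf_eq_prime {G : Type*} [Group G] {a : ℕ} (ha : a.Prime) {x : G}
    (hx1 : x ≠ 1) {j : ℕ} (hx : x ^ a ^ j = 1) : ∃ i : ℕ, orderOf (x ^ i) = a := by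
  have hd : orderOf x ∣ a ^ j := orderOf_dvd_of_pow_eq_one hx
  obtain ⟨k, _, hk⟩ := (Nat.dvd_prime_pow ha).mp hd
  have hk1 : k ≠ 0 := by
    rintro rfl
    rw [pow_zero, orderOf_eq_one_iff] at hk
    exact hx1 hk
  refine ⟨a ^ (k - 1), ?_⟩
  rw [orderOf_pow' x (pow_ne_zero _ ha.ne_zero), hk, Nat.gcd_eq_right (pow_dvd_pow a (Nat.sub_le k 1)),
    Nat.pow_div (Nat.sub_le k 1) ha.pos]
  rw [show k - (k - 1) = 1 by omega, pow_one]

theorem mulAut_pow_apply_eq {V : Type*} [Group V] (f : MulAut V) (x : V) (h : f x = x) (n : ℕ) :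
    (f ^ n) x = x := by
  induction n with
  | zero => simp
  | succ n ih => rw [pow_succ, MulAut.mul_apply, h, ih]

open Cfsg.Agent.Lib.Helper1 Cfsg.Agent.Lib.Helper10 in
open scoped IsMulCommutative in
theorem false_of_fpf_frobenius {G : Type*} [Group G] [Finite G] {t w w' : ℕ}
    (ht : t.Prime) (hw : w.Prime) (hw' : w'.Prime) (htw : t ≠ w) (htw' : t ≠ w') (hww' : w ≠ w')
    (hno1 : ∀ x : G, orderOf x ≠ t * w) (hno2 : ∀ x : G, orderOf x ≠ t * w')
    (hno3 : ∀ x : G, orderOf x ≠ w * w')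
    (N : Subgroup G) [IsMulCommutative N] (hNt : IsPGroup t N) (hN1 : N ≠ ⊥)
    (K : Subgroup G) (hKN : K ≤ Subgroup.normalizer (N : Set G))
    (hK : ∀ ℓ : ℕ, ℓ.Prime → ℓ ∣ Nat.card K → ℓ = w ∨ ℓ = w')
    (M : Subgroup K) (hMn : M.Normal) (hMw : IsPGroup w M) (hM1 : M ≠ ⊥)
    (y : K) (hy : orderOf y = w') : False := by
  set ρ : K →* MulAut N := conjHomOn K N hKN with hρ
  -- key fixed-point-freeness
  have hF : ∀ (k : K) (ℓ : ℕ), ℓ.Prime → (ℓ = w ∨ ℓ = w') → orderOf k = ℓ →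
      ∀ x : N, ρ k x = x → x = 1 := by
    intro k ℓ hℓ hℓw hk x hx
    by_contra hx1
    obtain ⟨j, hj⟩ := hNt x
    obtain ⟨i, hi⟩ := exists_pow_orderOf_eq_prime ht hx1 hj
    have h1 : ρ k (x ^ i) = x ^ i := by rw [map_pow, hx]
    have h2 : (k : G) * ((x ^ i : N) : G) * (k : G)⁻¹ = ((x ^ i : N) : G) := by
      rw [← conjHomOn_apply K N hKN k (x ^ i)]
      exact congrArg Subtype.val h1
    have hcomm : Commute ((x ^ i : N) : G) (k : G) := by
      have : (k : G) * ((x ^ i : N) : G) = ((x ^ i : N) : G) * (k : G) := by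
        calc (k : G) * ((x ^ i : N) : G) = (k : G) * ((x ^ i : N) : G) * (k : G)⁻¹ * k := by group
          _ = _ := by rw [h2]
      exact this.symm
    have ho1 : orderOf ((x ^ i : N) : G) = t := by rw [Subgroup.orderOf_coe]; exact hi
    have ho2 : orderOf (k : G) = ℓ := by rw [Subgroup.orderOf_coe]; exact hk
    have hcop : Nat.Coprime t ℓ := by
      rw [Nat.coprime_primes ht hℓ]
      rcases hℓw with rfl | rfl
      · exact htw
      · exact htw'
    have h3 := hcomm.orderOf_mul_eq_mul_orderOf_of_coprime (by rw [ho1, ho2]; exact hcop)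
    rw [ho1, ho2] at h3
    rcases hℓw with rfl | rfl
    · exact hno1 _ h3
    · exact hno2 _ h3
  -- elements of prime order inside any nontrivial element
  have hF' : ∀ k : K, k ≠ 1 → ∀ x : N, ρ k x = x → x = 1 := by
    intro k hk1 x hx
    have hne : orderOf k ≠ 1 := fun h => hk1 (orderOf_eq_one_iff.mp h)
    obtain ⟨ℓ, hℓ, hℓd⟩ := Nat.exists_prime_and_dvd hne
    have hℓK := hK ℓ hℓ (hℓd.trans (orderOf_dvd_natCard k))
    have ho : orderOf (k ^ (orderOf k / ℓ)) = ℓ :=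
      orderOf_pow_orderOf_div (orderOf_pos k).ne' hℓd
    apply hF _ ℓ hℓ hℓK ho x
    rw [map_pow]
    exact mulAut_pow_apply_eq _ x hx _
  have hy1 : y ≠ 1 := by
    rintro rfl
    rw [orderOf_one] at hy
    exact hw'.one_lt.ne hy
  have hXM : Subgroup.zpowers y ≤ Subgroup.normalizer (M : Set K) := by
    rw [Subgroup.normalizer_eq_top]; exact le_top
  have hfrob : ∀ g ∈ Subgroup.zpowers y, g ≠ 1 → ∀ m ∈ M, m * g = g * m → m = 1 := by
    intro g hg hg1 m hm hmg
    by_contra hm1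
    have hog : orderOf g = w' := by
      have h1 : orderOf g ∣ w' := hy ▸ orderOf_dvd_of_mem_zpowers hg
      rcases (Nat.dvd_prime hw').mp h1 with h2 | h2
      · exact absurd (orderOf_eq_one_iff.mp h2) hg1
      · exact h2
    obtain ⟨j, hj⟩ := hMw ⟨m, hm⟩
    have hj' : m ^ w ^ j = 1 := by
      have := congrArg Subtype.val hj
      simpa using this
    obtain ⟨i, hi⟩ := exists_pow_orderOf_eq_prime hw hm1 hj'
    have hcomm : Commute (m ^ i) g := (show Commute m g from hmg).pow_left i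
    have h3 := hcomm.orderOf_mul_eq_mul_orderOf_of_coprime
      (by rw [hi, hog]; exact (Nat.coprime_primes hw hw').mpr hww')
    rw [hi, hog, ← Subgroup.orderOf_coe] at h3
    exact hno3 _ h3
  have hM : ∀ v : N, (∀ m ∈ M, ρ m v = v) → v = 1 := by
    intro v hv
    obtain ⟨⟨m₀, hm₀⟩, hm₀1⟩ := Subgroup.ne_bot_iff_exists_ne_one.mp hM1
    exact hF' m₀ (fun h => hm₀1 (Subtype.ext h)) v (hv m₀ hm₀)
  have hX : ∀ v : N, (∀ g ∈ Subgroup.zpowers y, ρ g v = v) → v = 1 := by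
    intro v hv
    exact hF' y hy1 v (hv y (Subgroup.mem_zpowers y))
  have hexp := pow_card_eq_one_of_frobenius_fpf ρ M (Subgroup.zpowers y) hXM hfrob hM hX
  obtain ⟨⟨v, hvN⟩, hv1⟩ := Subgroup.ne_bot_iff_exists_ne_one.mp hN1
  apply hv1
  have : Fact w.Prime := ⟨hw⟩
  obtain ⟨k, hk⟩ := IsPGroup.iff_card.mp hMw
  obtain ⟨j, hj⟩ := hNt ⟨v, hvN⟩
  have h1 : orderOf (⟨v, hvN⟩ : N) ∣ w ^ k := by
    rw [← hk]; exact orderOf_dvd_of_pow_eq_one (hexp _)
  have h2 : orderOf (⟨v, hvN⟩ : N) ∣ t ^ j := orderOf_dvd_of_pow_eq_one hj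
  have hcop : Nat.Coprime (w ^ k) (t ^ j) :=
    Nat.Coprime.pow _ _ ((Nat.coprime_primes hw ht).mpr (Ne.symm htw))
  exact orderOf_eq_one_iff.mp (Nat.eq_one_of_dvd_coprimes hcop h1 h2)

theorem exists_normal_pGroup {K : Type*} [Group K] [Finite K] [Group.IsSolvable K] [Nontrivial K] :
    ∃ (p : ℕ) (N : Subgroup K), p.Prime ∧ N.Normal ∧ N ≠ ⊥ ∧ IsPGroup p N ∧
      IsMulCommutative N := by
  obtain ⟨N, hN⟩ := Cfsg.Agent.Lib.Helper4.exists_minNormal (G := K)
  obtain ⟨p, hp, hpow⟩ := hN.exists_prime_pow_eq_one hN.le_centralizer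
  refine ⟨p, N, hp, hN.1, hN.2.1, ?_, ?_⟩
  · intro x
    exact ⟨1, by rw [pow_one]; exact Subtype.ext (by simpa using hpow x x.2)⟩
  · refine ⟨⟨fun a b => Subtype.ext ?_⟩⟩
    have := Subgroup.mem_centralizer_iff.mp (hN.le_centralizer b.2) a a.2
    exact this

theorem prime_dvd_card_of_ne_bot {K : Type*} [Group K] [Finite K] {p : ℕ} (hp : p.Prime)
    (N : Subgroup K) (hN : IsPGroup p N) (hN1 : N ≠ ⊥) : p ∣ Nat.card N := by
  have : Fact p.Prime := ⟨hp⟩
  obtain ⟨k, hk⟩ := IsPGroup.iff_card.mp hN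
  have h1 : 1 < Nat.card N := (Subgroup.one_lt_card_iff_ne_bot N).mpr hN1
  rcases Nat.eq_zero_or_pos k with rfl | hk0
  · rw [hk, pow_zero] at h1; omega
  · rw [hk]; exact dvd_pow_self p hk0.ne'

open Cfsg.Agent.Lib.Helper1 Pointwise in
theorem false_of_three {G : Type*} [Group G] [Finite G] [Group.IsSolvable G] {t u v : ℕ}
    (ht : t.Prime) (hu : u.Prime) (hv : v.Prime) (htu : t ≠ u) (htv : t ≠ v) (huv : u ≠ v)
    (hno1 : ∀ x : G, orderOf x ≠ t * u) (hno2 : ∀ x : G, orderOf x ≠ t * v)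
    (hno3 : ∀ x : G, orderOf x ≠ u * v)
    (N : Subgroup G) [IsMulCommutative N] (hNt : IsPGroup t N) (hN1 : N ≠ ⊥)
    (B C : Subgroup G) (hperm : (B : Set G) * (C : Set G) = (C : Set G) * (B : Set G)) {j k : ℕ} (hj : j ≠ 0)
    (hk : k ≠ 0) (hB : Nat.card B = u ^ j) (hC : Nat.card C = v ^ k)
    (hBN : B ≤ Subgroup.normalizer (N : Set G)) (hCN : C ≤ Subgroup.normalizer (N : Set G)) :
    False := by
  set K : Subgroup G := B ⊔ C with hKdef
  have hKcard : Nat.card K = u ^ j * v ^ k := by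
    rw [hKdef, card_sup_of_mul_comm_of_coprime B C hperm, hB, hC]
    rw [hB, hC]
    exact Nat.Coprime.pow _ _ ((Nat.coprime_primes hu hv).mpr huv)
  have hKN : K ≤ Subgroup.normalizer (N : Set G) := sup_le hBN hCN
  have hK : ∀ ℓ : ℕ, ℓ.Prime → ℓ ∣ Nat.card K → ℓ = u ∨ ℓ = v := by
    intro ℓ hℓ hd
    rw [hKcard] at hd
    rcases (Nat.Prime.dvd_mul hℓ).mp hd with h | h
    · left; exact (Nat.prime_dvd_prime_iff_eq hℓ hu).mp (hℓ.dvd_of_dvd_pow h)
    · right; exact (Nat.prime_dvd_prime_iff_eq hℓ hv).mp (hℓ.dvd_of_dvd_pow h)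
  have huK : u ∣ Nat.card K := by rw [hKcard]; exact Dvd.dvd.mul_right (dvd_pow_self u hj) _
  have hvK : v ∣ Nat.card K := by rw [hKcard]; exact Dvd.dvd.mul_left (dvd_pow_self v hk) _
  have hnt : Nontrivial K := by
    rw [← Finite.one_lt_card_iff_nontrivial]
    have := Nat.le_of_dvd Nat.card_pos huK
    have := hu.two_le
    omega
  obtain ⟨w, M, hw, hMn, hM1, hMw, _⟩ := exists_normal_pGroup (K := K)
  have hwK : w = u ∨ w = v :=
    hK w hw ((prime_dvd_card_of_ne_bot hw M hMw hM1).trans (Subgroup.card_subgroup_dvd_card M))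
  rcases hwK with rfl | rfl
  · have : Fact v.Prime := ⟨hv⟩
    obtain ⟨y, hy⟩ := exists_prime_orderOf_dvd_card' (G := K) v hvK
    exact false_of_fpf_frobenius ht hw hv htu htv huv hno1 hno2 hno3 N hNt hN1 K hKN hK M hMn hMw
      hM1 y hy
  · have : Fact u.Prime := ⟨hu⟩
    obtain ⟨y, hy⟩ := exists_prime_orderOf_dvd_card' (G := K) u huK
    exact false_of_fpf_frobenius ht hw hu htv htu (Ne.symm huv) hno2 hno1
      (fun x hx => hno3 x (by rw [hx, mul_comm])) N hNt hN1 K hKN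
      (fun ℓ hℓ hd => (hK ℓ hℓ hd).symm) M hMn hMw hM1 y hy

open Cfsg.Agent.Lib.Helper1 Pointwise in
/-- A finite solvable group whose order is divisible by three distinct primes has an element whose
order is the product of two of them. -/
theorem exists_orderOf_eq_mul {G : Type*} [Group G] [Finite G] [Group.IsSolvable G] {p q r : ℕ}
    (hp : p.Prime) (hq : q.Prime) (hr : r.Prime) (hpq : p ≠ q) (hpr : p ≠ r) (hqr : q ≠ r)
    (hpG : p ∣ Nat.card G) (hqG : q ∣ Nat.card G) (hrG : r ∣ Nat.card G) :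
    ∃ x : G, orderOf x = p * q ∨ orderOf x = p * r ∨ orderOf x = q * r := by
  by_contra hno
  push Not at hno
  have : Fact p.Prime := ⟨hp⟩
  have : Fact q.Prime := ⟨hq⟩
  have : Fact r.Prime := ⟨hr⟩
  obtain ⟨S, hS⟩ := exists_sylow_system (G := G)
  set P : Subgroup G := (S ⟨p, hp⟩ : Subgroup G) with hPdef
  set Q : Subgroup G := (S ⟨q, hq⟩ : Subgroup G) with hQdef
  set R : Subgroup G := (S ⟨r, hr⟩ : Subgroup G) with hRdef
  have hn0 : Nat.card G ≠ 0 := Nat.card_pos.ne'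
  have hPcard : Nat.card P = p ^ (Nat.card G).factorization p := (S ⟨p, hp⟩).card_eq_multiplicity
  have hQcard : Nat.card Q = q ^ (Nat.card G).factorization q := (S ⟨q, hq⟩).card_eq_multiplicity
  have hRcard : Nat.card R = r ^ (Nat.card G).factorization r := (S ⟨r, hr⟩).card_eq_multiplicity
  have ha : (Nat.card G).factorization p ≠ 0 := (hp.factorization_pos_of_dvd hn0 hpG).ne'
  have hb : (Nat.card G).factorization q ≠ 0 := (hq.factorization_pos_of_dvd hn0 hqG).ne'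
  have hc : (Nat.card G).factorization r ≠ 0 := (hr.factorization_pos_of_dvd hn0 hrG).ne'
  have hPQ : (P : Set G) * (Q : Set G) = (Q : Set G) * (P : Set G) := hS ⟨p, hp⟩ ⟨q, hq⟩
  have hPR : (P : Set G) * (R : Set G) = (R : Set G) * (P : Set G) := hS ⟨p, hp⟩ ⟨r, hr⟩
  have hQR : (Q : Set G) * (R : Set G) = (R : Set G) * (Q : Set G) := hS ⟨q, hq⟩ ⟨r, hr⟩
  have hQRcoe : ((Q ⊔ R : Subgroup G) : Set G) = (Q : Set G) * (R : Set G) :=
    coe_sup_of_mul_comm Q R hQR
  have hQRcard : Nat.card (Q ⊔ R : Subgroup G) = Nat.card Q * Nat.card R := by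
    apply card_sup_of_mul_comm_of_coprime Q R hQR
    rw [hQcard, hRcard]
    exact Nat.Coprime.pow _ _ ((Nat.coprime_primes hq hr).mpr hqr)
  have hP_QR : (P : Set G) * ((Q ⊔ R : Subgroup G) : Set G) =
      ((Q ⊔ R : Subgroup G) : Set G) * (P : Set G) := by
    rw [hQRcoe, ← mul_assoc, hPQ, mul_assoc, hPR, ← mul_assoc]
  set H : Subgroup G := P ⊔ (Q ⊔ R) with hHdef
  have hHcard : Nat.card H = Nat.card P * (Nat.card Q * Nat.card R) := by
    rw [hHdef, card_sup_of_mul_comm_of_coprime P (Q ⊔ R) hP_QR, hQRcard]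
    rw [hQRcard, hPcard, hQcard, hRcard]
    apply Nat.Coprime.mul_right
    · exact Nat.Coprime.pow _ _ ((Nat.coprime_primes hp hq).mpr hpq)
    · exact Nat.Coprime.pow _ _ ((Nat.coprime_primes hp hr).mpr hpr)
  have hPH : P ≤ H := le_sup_left
  have hQH : Q ≤ H := le_sup_left.trans le_sup_right
  have hRH : R ≤ H := le_sup_right.trans le_sup_right
  have hHnt : Nontrivial H := by
    rw [← Finite.one_lt_card_iff_nontrivial, hHcard, hPcard]
    have h1 : 2 ≤ p ^ (Nat.card G).factorization p :=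
      le_trans hp.two_le (Nat.le_self_pow ha p)
    have h2 : 0 < Nat.card Q * Nat.card R := Nat.mul_pos Nat.card_pos Nat.card_pos
    nlinarith
  obtain ⟨t, N₀, ht, hN₀n, hN₀1, hN₀t, hN₀ab⟩ := exists_normal_pGroup (K := H)
  have htH : t ∣ Nat.card H :=
    (prime_dvd_card_of_ne_bot ht N₀ hN₀t hN₀1).trans (Subgroup.card_subgroup_dvd_card N₀)
  set N : Subgroup G := N₀.map H.subtype with hNdef
  have hNab : IsMulCommutative N := by
    refine ⟨⟨?_⟩⟩
    rintro ⟨a, ha'⟩ ⟨b, hb'⟩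
    obtain ⟨a₀, ha₀, rfl⟩ := Subgroup.mem_map.mp ha'
    obtain ⟨b₀, hb₀, rfl⟩ := Subgroup.mem_map.mp hb'
    apply Subtype.ext
    have := hN₀ab.is_comm.comm ⟨a₀, ha₀⟩ ⟨b₀, hb₀⟩
    have := congrArg (fun z : N₀ => ((z : H) : G)) this
    simpa using this
  have hNt : IsPGroup t N := hN₀t.map H.subtype
  have hN1 : N ≠ ⊥ := by
    intro h
    apply hN₀1
    rw [hNdef, Subgroup.map_eq_bot_iff_of_injective _ H.subtype_injective] at h
    exact h
  have hHN : H ≤ Subgroup.normalizer (N : Set G) := by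
    have h1 := Subgroup.le_normalizer_map (H := N₀) H.subtype
    rw [Subgroup.normalizer_eq_top, ← MonoidHom.range_eq_map, Subgroup.range_subtype] at h1
    exact h1
  have htpqr : t = p ∨ t = q ∨ t = r := by
    rw [hHcard, hPcard, hQcard, hRcard] at htH
    rcases (Nat.Prime.dvd_mul ht).mp htH with h | h
    · left; exact (Nat.prime_dvd_prime_iff_eq ht hp).mp (ht.dvd_of_dvd_pow h)
    · rcases (Nat.Prime.dvd_mul ht).mp h with h | h
      · right; left; exact (Nat.prime_dvd_prime_iff_eq ht hq).mp (ht.dvd_of_dvd_pow h)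
      · right; right; exact (Nat.prime_dvd_prime_iff_eq ht hr).mp (ht.dvd_of_dvd_pow h)
  rcases htpqr with rfl | rfl | rfl
  · exact false_of_three ht hq hr hpq hpr hqr (fun x => (hno x).1) (fun x => (hno x).2.1)
      (fun x => (hno x).2.2) N hNt hN1 Q R hQR hb hc hQcard hRcard (hQH.trans hHN) (hRH.trans hHN)
  · exact false_of_three ht hp hr (Ne.symm hpq) hqr hpr
      (fun x hx => (hno x).1 (by rw [hx, mul_comm])) (fun x => (hno x).2.2)
      (fun x => (hno x).2.1) N hNt hN1 P R hPR ha hc hPcard hRcard (hPH.trans hHN) (hRH.trans hHN)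
  · exact false_of_three ht hp hq (Ne.symm hpr) (Ne.symm hqr) hpq
      (fun x hx => (hno x).2.1 (by rw [hx, mul_comm]))
      (fun x hx => (hno x).2.2 (by rw [hx, mul_comm]))
      (fun x => (hno x).1) N hNt hN1 P Q hPQ ha hb hPcard hQcard (hPH.trans hHN) (hQH.trans hHN)

/-- If the set of element orders of a finite group G is {1, 2, …, n} with n ≥ 7, then G is not solvable. -/
theorem result {G : Type*} [Group G] [Finite G] (n : ℕ) (hn : 7 ≤ n) (h : Set.range (orderOf : G → ℕ) = {k : ℕ | 1 ≤ k ∧ k ≤ n}) : ¬ Group.IsSolvable G := by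
  intro hsol
  obtain ⟨p, q, r, hp, hq, hr, hpq, hqr, hrn, hnpq⟩ := exists_three_primes n hn
  have hmem : ∀ k : ℕ, 1 ≤ k → k ≤ n → k ∣ Nat.card G := by
    intro k h1 h2
    have : k ∈ Set.range (orderOf : G → ℕ) := by rw [h]; exact ⟨h1, h2⟩
    obtain ⟨g, rfl⟩ := this
    exact orderOf_dvd_natCard g
  have hle : ∀ x : G, orderOf x ≤ n := by
    intro x
    have : orderOf x ∈ Set.range (orderOf : G → ℕ) := ⟨x, rfl⟩
    rw [h] at this
    exact this.2
  obtain ⟨x, hx⟩ := exists_orderOf_eq_mul hp hq hr (by omega) (by omega) (by omega)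
    (hmem p hp.one_lt.le (by omega)) (hmem q hq.one_lt.le (by omega)) (hmem r hr.one_lt.le hrn)
  have h1 := hle x
  have h2 : p * q < p * r := Nat.mul_lt_mul_of_pos_left hqr hp.pos
  have h3 : p * q < q * r := by
    calc p * q = q * p := mul_comm p q
      _ < q * r := Nat.mul_lt_mul_of_pos_left (by omega) hq.pos
  rcases hx with hx | hx | hx <;> omega

end Cfsg.Agent.S4002
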