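import Mathlib
import Cfsg.Statements.S4003
import Cfsg.Agent.Lib.Helper22.Miller

set_option autoImplicit false
open Cfsg

namespace Cfsg.Agent.S4003

open Cfsg.Agent.Lib.Helper22.Miller
open scoped Pointwise

variable {G : Type*} [Group G] [Finite G] {p : ℕ} [hp : Fact p.Prime]

omit [Finite G] hp in
/-- a `p`-subgroup normalized by a Sylow `p`-subgroup lies in it -/
theorem le_sylow_of_normalized (P : Sylow p G) (Z : Subgroup G) (hZ : IsPGroup p Z)
    (h : ∀ a ∈ (P : Subgroup G), MulAut.conj a • Z = Z) : Z ≤ P := by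
  have hN : (P : Subgroup G) ≤ Subgroup.normalizer (Z : Set G) := by
    intro a ha
    rw [Subgroup.mem_normalizer_iff]
    intro z
    have h1 := h a ha
    constructor
    · intro hz
      have := Subgroup.smul_mem_pointwise_smul z (MulAut.conj a) Z hz
      rw [h1] at this
      simpa [MulAut.smul_def] using this
    · intro hz
      rw [← h1, Subgroup.mem_pointwise_smul_iff_inv_smul_mem] at hz
      simpa [MulAut.smul_def, mul_assoc] using hz
  have hsup : IsPGroup p ↥((P : Subgroup G) ⊔ Z) := P.isPGroup'.to_sup_of_normal_right' hZ hN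
  have := P.is_maximal' hsup le_sup_left
  rw [← this]; exact le_sup_right

/-- Miller's theorem in terms of fixed points -/
theorem dvd_card_fixed (hodd : p ≠ 2) (K : Type*) [Group K] [Finite K] (hK : IsPGroup p K)
    (hnc : ¬ IsCyclic K) (s : ℕ) (hs : 2 ≤ s) :
    p ∣ Nat.card (MulAction.fixedPoints K (ZPair K (p ^ s) 1)) := by
  have hp1 := hp.out
  have h1 := miller hK hodd hnc s hs
  have h2 := card_orderOf_eq (G := K) (n := p ^ s) (m := 1) (pow_pos hp1.pos s) Nat.one_pos
    (Nat.coprime_one_right _)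
  rw [mul_one] at h2
  rw [h2, Nat.totient_prime_pow hp1 (by omega : 0 < s)] at h1
  have h3 : p ∣ (p - 1) * Nat.card (ZPair K (p ^ s) 1) := by
    have e : p ^ s = p ^ (s - 1) * p := by rw [← pow_succ]; congr 1; omega
    have h1' : p ^ (s - 1) * p ∣ p ^ (s - 1) * ((p - 1) * Nat.card (ZPair K (p ^ s) 1)) := by
      rw [← e, ← mul_assoc]; exact h1
    exact Nat.dvd_of_mul_dvd_mul_left (pow_pos hp1.pos _) h1'
  have h4 : p ∣ Nat.card (ZPair K (p ^ s) 1) := by
    rcases (Nat.Prime.dvd_mul hp1).mp h3 with h | h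
    · exfalso
      have h5 := hp1.two_le
      have := Nat.le_of_dvd (by omega) h
      omega
    · exact h
  have h5 := hK.card_modEq_card_fixedPoints (ZPair K (p ^ s) 1)
  exact Nat.modEq_zero_iff_dvd.mp (h5.symm.trans (Nat.modEq_zero_iff_dvd.mpr h4))

section fixed

variable (P : Sylow p G) (s m : ℕ)

omit [Finite G] hp in
theorem fixed_iff (z : ZPair G (p ^ s) m) :
    z ∈ MulAction.fixedPoints ↥(P : Subgroup G) (ZPair G (p ^ s) m) ↔
      (∀ a ∈ (P : Subgroup G), MulAut.conj a • z.Z = z.Z) ∧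
        ∀ a ∈ (P : Subgroup G), a * z.y * a⁻¹ = z.y := by
  rw [MulAction.mem_fixedPoints]
  constructor
  · intro h
    refine ⟨fun a ha => ?_, fun a ha => ?_⟩
    · exact congrArg ZPair.Z (h ⟨a, ha⟩)
    · exact congrArg ZPair.y (h ⟨a, ha⟩)
  · rintro ⟨h1, h2⟩ a
    apply ZPair.ext
    · exact h1 a a.2
    · exact h2 a a.2

omit [Finite G] hp in
theorem fixed_iff_self {K : Type*} [Group K] {n m' : ℕ} (z : ZPair K n m') :
    z ∈ MulAction.fixedPoints K (ZPair K n m') ↔
      (∀ a : K, MulAut.conj a • z.Z = z.Z) ∧ ∀ a : K, a * z.y * a⁻¹ = z.y := by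
  rw [MulAction.mem_fixedPoints]
  constructor
  · intro h
    exact ⟨fun a => congrArg ZPair.Z (h a), fun a => congrArg ZPair.y (h a)⟩
  · rintro ⟨h1, h2⟩ a
    exact ZPair.ext (h1 a) (h2 a)

omit [Finite G] hp in
theorem conj_subgroupOf {H Z : Subgroup G} (a : G) (ha : a ∈ H)
    (h : MulAut.conj a • Z = Z) :
    MulAut.conj (⟨a, ha⟩ : ↥H) • Z.subgroupOf H = Z.subgroupOf H := by
  ext w
  rw [Subgroup.mem_pointwise_smul_iff_inv_smul_mem, Subgroup.mem_subgroupOf,
    Subgroup.mem_subgroupOf]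
  conv_rhs => rw [← h, Subgroup.mem_pointwise_smul_iff_inv_smul_mem]
  simp [MulAut.smul_def]

omit [Finite G] hp in
theorem conj_map_subtype {H : Subgroup G} (Z' : Subgroup ↥H) (a : ↥H)
    (h : MulAut.conj a • Z' = Z') :
    MulAut.conj (a : G) • Z'.map H.subtype = Z'.map H.subtype := by
  ext g
  rw [Subgroup.mem_pointwise_smul_iff_inv_smul_mem]
  simp only [MulAut.smul_def, MulAut.conj_inv_apply, Subgroup.mem_map, Subgroup.coe_subtype]
  constructor
  · rintro ⟨w, hw, hwg⟩
    refine ⟨a * w * a⁻¹, ?_, ?_⟩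
    · rw [← h]
      have := Subgroup.smul_mem_pointwise_smul w (MulAut.conj a) Z' hw
      simpa [MulAut.smul_def] using this
    · simp only [Subgroup.coe_mul, Subgroup.coe_inv, hwg]
      group
  · rintro ⟨w, hw, rfl⟩
    refine ⟨a⁻¹ * w * a, ?_, by simp⟩
    rw [← h, Subgroup.mem_pointwise_smul_iff_inv_smul_mem] at hw
    simpa [MulAut.smul_def] using hw

/-- forward transfer of pairs -/
def fwdPair (z : ZPair G (p ^ s) m) (hZP : z.Z ≤ (P : Subgroup G)) :
    ZPair ↥(P : Subgroup G) (p ^ s) 1 where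
  Z := z.Z.subgroupOf (P : Subgroup G)
  y := 1
  cyc := (Subgroup.subgroupOfEquivOfLe hZP).isCyclic.mpr z.cyc
  card := (Nat.card_congr (Subgroup.subgroupOfEquivOfLe hZP).toEquiv).trans z.card
  ord := orderOf_one
  comm := fun u _ => by rw [mul_one, one_mul]

/-- backward transfer of pairs -/
def bwdPair (w : ZPair ↥(P : Subgroup G) (p ^ s) 1) (y : G) (hy : orderOf y = m)
    (hyc : ∀ a ∈ (P : Subgroup G), a * y * a⁻¹ = y) : ZPair G (p ^ s) m where
  Z := w.Z.map (P : Subgroup G).subtype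
  y := y
  cyc := (w.Z.equivMapOfInjective _ (Subgroup.subtype_injective _)).isCyclic.mp w.cyc
  card := (Subgroup.card_map_of_injective (Subgroup.subtype_injective _)).trans w.card
  ord := hy
  comm := by
    rintro _ ⟨u, -, rfl⟩
    have := hyc u u.2
    calc (u : G) * y = ((u : G) * y * (u : G)⁻¹) * u := by group
      _ = y * u := by rw [this]

theorem card_fixed :
    Nat.card (MulAction.fixedPoints ↥(P : Subgroup G) (ZPair G (p ^ s) m)) =
      Nat.card (MulAction.fixedPoints ↥(P : Subgroup G) (ZPair ↥(P : Subgroup G) (p ^ s) 1)) *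
        Nat.card {y : G // orderOf y = m ∧ ∀ a ∈ (P : Subgroup G), a * y * a⁻¹ = y} := by
  rw [← Nat.card_prod]
  have hZP : ∀ z : MulAction.fixedPoints ↥(P : Subgroup G) (ZPair G (p ^ s) m),
      z.1.Z ≤ (P : Subgroup G) := fun z =>
    le_sylow_of_normalized P z.1.Z (IsPGroup.of_card z.1.card) ((fixed_iff P s m z.1).mp z.2).1
  apply Nat.card_congr
  refine
  { toFun := fun z => (⟨fwdPair P s m z.1 (hZP z), ?_⟩, ⟨z.1.y, z.1.ord,
      ((fixed_iff P s m z.1).mp z.2).2⟩)
    invFun := fun wb => ⟨bwdPair P s m wb.1.1 wb.2.1 wb.2.2.1 wb.2.2.2, ?_⟩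
    left_inv := ?_
    right_inv := ?_ }
  · rw [fixed_iff_self]
    refine ⟨fun a => ?_, fun a => by simp [fwdPair]⟩
    exact conj_subgroupOf (a : G) a.2 (((fixed_iff P s m z.1).mp z.2).1 a a.2)
  · rw [fixed_iff]
    refine ⟨fun a ha => ?_, fun a ha => wb.2.2.2 a ha⟩
    exact conj_map_subtype wb.1.1.Z ⟨a, ha⟩ (((fixed_iff_self wb.1.1).mp wb.1.2).1 ⟨a, ha⟩)
  · intro z
    apply Subtype.ext
    apply ZPair.ext
    · exact Subgroup.map_subgroupOf_eq_of_le (hZP z)
    · rfl
  · intro wb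
    apply Prod.ext
    · apply Subtype.ext
      apply ZPair.ext
      · exact Subgroup.comap_map_eq_self_of_injective (Subgroup.subtype_injective _) wb.1.1.Z
      · show (1 : ↥(P : Subgroup G)) = wb.1.1.y
        exact (orderOf_eq_one_iff.mp wb.1.1.ord).symm
    · rfl

end fixed

/-- If p is odd, the Sylow p-subgroups of G are non-cyclic, and s ≥ 2, then p^s divides the number of elements of order p^s·m for every m coprime to p. -/
theorem result {G : Type*} [Group G] [Finite G] (p : ℕ) [Fact p.Prime] (hodd : p ≠ 2) (hpG : p ∣ Nat.card G)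
    (P : Sylow p G) (hP : ¬ IsCyclic ↥(P : Subgroup G)) (s m : ℕ) (hs : 1 < s) (hm : Nat.Coprime p m) :
    p ^ s ∣ Nat.card {g : G // orderOf g = p ^ s * m} := by
  have hp1 : p.Prime := Fact.out
  have hm0 : 0 < m := by
    rcases Nat.eq_zero_or_pos m with rfl | h
    · rw [Nat.coprime_zero_right] at hm
      exact absurd hm hp1.one_lt.ne'
    · exact h
  rw [card_orderOf_eq (pow_pos hp1.pos s) hm0 (Nat.Coprime.pow_left s hm),
    Nat.totient_prime_pow hp1 (by omega : 0 < s)]
  have h1 := dvd_card_fixed hodd ↥(P : Subgroup G) P.isPGroup' hP s hs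
  have h2 := card_fixed P s m
  have h3 : p ∣ Nat.card (MulAction.fixedPoints ↥(P : Subgroup G) (ZPair G (p ^ s) m)) := by
    rw [h2]; exact dvd_mul_of_dvd_left h1 _
  have h4 := P.isPGroup'.card_modEq_card_fixedPoints (ZPair G (p ^ s) m)
  have h5 : p ∣ Nat.card (ZPair G (p ^ s) m) :=
    Nat.modEq_zero_iff_dvd.mp (h4.trans (Nat.modEq_zero_iff_dvd.mpr h3))
  obtain ⟨c, hc⟩ := h5
  rw [hc]
  have : p ^ s = p ^ (s - 1) * p := by rw [← pow_succ]; congr 1; omega
  rw [this]
  exact ⟨(p - 1) * c, by ring⟩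

end Cfsg.Agent.S4003
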