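import Cfsg.Statements.S4005
import Cfsg.Agent.Lib.Helper1.Cores
import Cfsg.Agent.Lib.Helper1.Fitting
import Cfsg.Agent.Lib.Helper1.FpfComplement
import Cfsg.Agent.Lib.Helper2.BurnsidePQ
import Cfsg.Agent.Lib.Helper10.FrobComplement
import Cfsg.Agent.Lib.Helper22.PElt

set_option autoImplicit false
open Cfsg

namespace Cfsg.Agent.S4005

open Cfsg.Agent.Lib.Helper1 Cfsg.Agent.Lib.Helper22

section

variable {G : Type*} [Group G] [Finite G]

/-- a natural number all of whose prime divisors are `2` or `3` is `2 ^ a * 3 ^ b`. -/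
theorem eq_two_pow_mul_three_pow (n : ℕ) (hn : n ≠ 0)
    (h : ∀ r : ℕ, r.Prime → r ∣ n → r = 2 ∨ r = 3) : ∃ a b : ℕ, n = 2 ^ a * 3 ^ b := by
  obtain ⟨a, m, hm, hnm⟩ := Nat.exists_eq_pow_mul_and_not_dvd hn 2 (by norm_num)
  have hm0 : m ≠ 0 := by
    rintro rfl
    rw [mul_zero] at hnm
    exact hn hnm
  obtain ⟨b, m', hm', hmm'⟩ := Nat.exists_eq_pow_mul_and_not_dvd hm0 3 (by norm_num)
  have hm'1 : m' = 1 := by
    by_contra hne
    obtain ⟨r, hr, hrm⟩ := Nat.exists_prime_and_dvd hne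
    have hrm2 : r ∣ m := hmm' ▸ Dvd.dvd.mul_left hrm _
    have hrn : r ∣ n := hnm ▸ Dvd.dvd.mul_left hrm2 _
    rcases h r hr hrn with rfl | rfl
    · exact hm hrm2
    · exact hm' hrm
  refine ⟨a, b, ?_⟩
  rw [hnm, hmm', hm'1, mul_one]


/-- basic consequences of the hypothesis on element orders. -/
structure Hyp (G : Type*) [Group G] : Prop where
  le3 : ∀ g : G, orderOf g = 1 ∨ orderOf g = 2 ∨ orderOf g = 3
  ex2 : ∃ t : G, orderOf t = 2
  ex3 : ∃ s : G, orderOf s = 3

omit [Finite G] in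
theorem hyp_of (h : Set.range (orderOf : G → ℕ) = {k : ℕ | 1 ≤ k ∧ k ≤ 3}) : Hyp G := by
  refine ⟨fun g => ?_, ?_, ?_⟩
  · have : orderOf g ∈ Set.range (orderOf : G → ℕ) := ⟨g, rfl⟩
    rw [h] at this
    obtain ⟨h1, h2⟩ := this
    omega
  · have : (2 : ℕ) ∈ Set.range (orderOf : G → ℕ) := by rw [h]; constructor <;> norm_num
    exact this
  · have : (3 : ℕ) ∈ Set.range (orderOf : G → ℕ) := by rw [h]; constructor <;> norm_num
    exact this

omit [Finite G] in
/-- commuting elements of orders `2` and `3` do not exist. -/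
theorem Hyp.no_six (hG : Hyp G) {t s : G} (ht : orderOf t = 2) (hs : orderOf s = 3)
    (hc : t * s = s * t) : False := by
  have h1 := (show Commute t s from hc).orderOf_mul_eq_mul_orderOf_of_coprime
    (by rw [ht, hs]; norm_num)
  rw [ht, hs] at h1
  rcases hG.le3 (t * s) with h | h | h <;> omega

theorem Hyp.card (hG : Hyp G) : ∃ a b : ℕ, Nat.card G = 2 ^ a * 3 ^ b := by
  apply eq_two_pow_mul_three_pow _ Nat.card_pos.ne'
  intro r hr hrn
  have : Fact r.Prime := ⟨hr⟩
  obtain ⟨x, hx⟩ := exists_prime_orderOf_dvd_card' (G := G) r hrn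
  rcases hG.le3 x with h | h | h
  · rw [hx] at h; exact absurd h hr.one_lt.ne'
  · left; rw [← hx, h]
  · right; rw [← hx, h]

theorem Hyp.isSolvable (hG : Hyp G) : Group.IsSolvable G := by
  obtain ⟨a, b, hab⟩ := hG.card
  exact Cfsg.Agent.Lib.Helper2.isSolvable_of_card_eq_prime_pow_mul_prime_pow 2 3 Nat.prime_two
    Nat.prime_three _ G rfl ⟨a, b, hab⟩

omit [Finite G] in
/-- elements of a `2`-subgroup have order dividing `2`. -/
theorem Hyp.sq_eq_one (hG : Hyp G) {H : Subgroup G} (hH : IsPGroup 2 H) {x : G} (hx : x ∈ H) :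
    x ^ 2 = 1 := by
  obtain ⟨k, hk⟩ := isPElt_of_mem_isPGroup Nat.prime_two H hH x hx
  rcases hG.le3 x with h | h | h
  · rw [orderOf_eq_one_iff.mp h, one_pow]
  · rw [← h, pow_orderOf_eq_one]
  · exfalso
    have : 2 ∣ 3 := by
      rw [← h, hk]
      rcases Nat.eq_zero_or_pos k with h0 | h0
      · rw [h0, pow_zero] at hk; omega
      · exact dvd_pow_self 2 h0.ne'
    omega

omit [Finite G] in
/-- elements of a `3`-subgroup have order dividing `3`. -/
theorem Hyp.cube_eq_one (hG : Hyp G) {H : Subgroup G} (hH : IsPGroup 3 H) {x : G} (hx : x ∈ H) :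
    x ^ 3 = 1 := by
  obtain ⟨k, hk⟩ := isPElt_of_mem_isPGroup Nat.prime_three H hH x hx
  rcases hG.le3 x with h | h | h
  · rw [orderOf_eq_one_iff.mp h, one_pow]
  · exfalso
    have : 3 ∣ 2 := by
      rw [← h, hk]
      rcases Nat.eq_zero_or_pos k with h0 | h0
      · rw [h0, pow_zero] at hk; omega
      · exact dvd_pow_self 3 h0.ne'
    omega
  · rw [← h, pow_orderOf_eq_one]


omit [Finite G] in
theorem Hyp.core_eq_bot (hG : Hyp G) : pCore 2 G = ⊥ ∨ pCore 3 G = ⊥ := by
  by_contra hcon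
  push Not at hcon
  obtain ⟨h2, h3⟩ := hcon
  obtain ⟨t, ht1⟩ := (Subgroup.ne_bot_iff_exists_ne_one).mp h2
  obtain ⟨s, hs1⟩ := (Subgroup.ne_bot_iff_exists_ne_one).mp h3
  have ht1' : (t : G) ≠ 1 := fun h => ht1 (Subtype.ext h)
  have hs1' : (s : G) ≠ 1 := fun h => hs1 (Subtype.ext h)
  have hot : orderOf (t : G) = 2 :=
    orderOf_eq_prime (hG.sq_eq_one (pCore_isPGroup 2) t.2) ht1'
  have hos : orderOf (s : G) = 3 :=
    orderOf_eq_prime (hG.cube_eq_one (pCore_isPGroup 3) s.2) hs1'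
  have hdisj : Disjoint (pCore 2 G) (pCore 3 G) := by
    rw [Subgroup.disjoint_def]
    intro x hx2 hx3
    have e2 := hG.sq_eq_one (pCore_isPGroup 2) hx2
    have e3 := hG.cube_eq_one (pCore_isPGroup 3) hx3
    calc x = x ^ 3 * (x ^ 2)⁻¹ := by group
      _ = 1 := by rw [e2, e3]; simp
  have hc := Subgroup.commute_of_normal_of_disjoint _ _ (pCore_normal (G := G) 2)
    (pCore_normal (G := G) 3) hdisj (t : G) (s : G) t.2 s.2
  exact hG.no_six hot hos hc.eq

omit [Finite G] in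
theorem isPGroup_two_of_coprime {a b : ℕ} (hcard : Nat.card G = 2 ^ a * 3 ^ b) (H : Subgroup G)
    (hcop : (Nat.card H).Coprime 3) : IsPGroup 2 H := by
  have h1 : Nat.card H ∣ 2 ^ a * 3 ^ b := hcard ▸ Subgroup.card_subgroup_dvd_card H
  have h2 : Nat.card H ∣ 2 ^ a := (Nat.Coprime.pow_right b hcop).dvd_of_dvd_mul_right h1
  obtain ⟨j, -, hj⟩ := (Nat.dvd_prime_pow Nat.prime_two).mp h2
  exact IsPGroup.of_card hj

omit [Finite G] in
theorem isPGroup_three_of_coprime {a b : ℕ} (hcard : Nat.card G = 2 ^ a * 3 ^ b) (H : Subgroup G)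
    (hcop : (Nat.card H).Coprime 2) : IsPGroup 3 H := by
  have h1 : Nat.card H ∣ 2 ^ a * 3 ^ b := hcard ▸ Subgroup.card_subgroup_dvd_card H
  have h2 : Nat.card H ∣ 3 ^ b := (Nat.Coprime.pow_right a hcop).dvd_of_dvd_mul_left h1
  obtain ⟨j, -, hj⟩ := (Nat.dvd_prime_pow Nat.prime_three).mp h2
  exact IsPGroup.of_card hj


theorem Hyp.caseA (hG : Hyp G) (h2 : pCore 2 G = ⊥) :
    ∃ N : Subgroup G, N.Normal ∧ Cfsg.IsElementaryAbelian 3 N ∧ N.index = 2 := by
  have hsol : Group.IsSolvable G := hG.isSolvable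
  obtain ⟨a, b, hcard⟩ := hG.card
  have : Fact (Nat.Prime 3) := ⟨Nat.prime_three⟩
  have : Fact (Nat.Prime 2) := ⟨Nat.prime_two⟩
  -- `O_{3'}(G) = 1`
  have hpp : pPrimeCore 3 G = ⊥ := by
    rw [eq_bot_iff, ← h2]
    exact le_pCore (pPrimeCore_normal (G := G) 3)
      (isPGroup_two_of_coprime hcard _ (pPrimeCore_coprime 3))
  set N := pCore 3 G with hN
  have hNn : N.Normal := pCore_normal (G := G) 3
  have hNp : IsPGroup 3 N := pCore_isPGroup 3
  have hCN : Subgroup.centralizer (N : Set G) ≤ N := centralizer_pCore_le 3 hpp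
  obtain ⟨t, ht⟩ := hG.ex2
  have ht2 : t * t = 1 := by rw [← sq, ← ht, pow_orderOf_eq_one]
  have htinv : t⁻¹ = t := inv_eq_of_mul_eq_one_left ht2
  -- involutions act fixed point freely on `N`
  have hfpf : ∀ u : G, orderOf u = 2 → N ⊓ Subgroup.centralizer {u} = ⊥ := by
    intro u hu
    rw [eq_bot_iff]
    intro x hx
    obtain ⟨hxN, hxc⟩ := Subgroup.mem_inf.mp hx
    rw [Subgroup.mem_bot]
    by_contra hx1
    have hox : orderOf x = 3 := orderOf_eq_prime (hG.cube_eq_one hNp hxN) hx1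
    exact hG.no_six hu hox ((Subgroup.mem_centralizer_iff.mp hxc) u (Set.mem_singleton u))
  have hinv : ∀ u : G, orderOf u = 2 → ∀ k ∈ N, u * k * u⁻¹ = k⁻¹ := by
    intro u hu
    have hu2 : u * u = 1 := by rw [← sq, ← hu, pow_orderOf_eq_one]
    exact involution_inverts_of_fpf N u hu2 (hfpf u hu)
  -- `N` is abelian
  have hNc : ∀ x ∈ N, ∀ y ∈ N, x * y = y * x := by
    intro x hx y hy
    have h1 := hinv t ht (x * y) (N.mul_mem hx hy)
    have h3 : t * (x * y) * t⁻¹ = (t * x * t⁻¹) * (t * y * t⁻¹) := by group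
    rw [h3, hinv t ht x hx, hinv t ht y hy, mul_inv_rev] at h1
    have h4 : (x⁻¹ * y⁻¹)⁻¹ = (y⁻¹ * x⁻¹)⁻¹ := by rw [h1]
    simpa using h4.symm
  -- every involution lies in `tN`
  have hinvol : ∀ u : G, orderOf u = 2 → t * u ∈ N := by
    intro u hu
    apply hCN
    rw [Subgroup.mem_centralizer_iff]
    intro k hk
    have h1 := hinv u hu k hk
    have h2 := hinv t ht k⁻¹ (N.inv_mem hk)
    rw [inv_inv] at h2
    have h3 : t * u * k * (t * u)⁻¹ = k := by
      calc t * u * k * (t * u)⁻¹ = t * (u * k * u⁻¹) * t⁻¹ := by group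
        _ = k := by rw [h1, h2]
    calc k * (t * u) = (t * u * k * (t * u)⁻¹) * (t * u) := by rw [h3]
      _ = t * u * k := by group
  have htN : t ∉ N := by
    intro h
    have h3 := hG.cube_eq_one hNp h
    have : t = 1 := by
      calc t = t ^ 3 * (t * t)⁻¹ := by group
        _ = 1 := by rw [h3, ht2]; simp
    rw [this, orderOf_one] at ht
    omega
  -- elements of order 3 lie in `N`
  have hthree : ∀ s : G, orderOf s = 3 → s ∈ N := by
    intro s hs
    by_contra hsN
    have hs3 : s ^ 3 = 1 := by rw [← hs, pow_orderOf_eq_one]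
    have hou : orderOf (s * t * s⁻¹) = 2 := by
      have := (MulAut.conj s).orderOf_eq t
      rw [← ht]; simpa using this
    have h1 := hinvol _ hou
    have hcomm : Commute (QuotientGroup.mk t : G ⧸ N) (QuotientGroup.mk s : G ⧸ N) := by
      have h2 : (QuotientGroup.mk (t * (s * t * s⁻¹)) : G ⧸ N) = 1 :=
        (QuotientGroup.eq_one_iff _).mpr h1
      have ht2' : (QuotientGroup.mk t : G ⧸ N) * QuotientGroup.mk t = 1 := by
        rw [← QuotientGroup.mk_mul, ht2, QuotientGroup.mk_one]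
      simp only [QuotientGroup.mk_mul, QuotientGroup.mk_inv] at h2
      show (QuotientGroup.mk t : G ⧸ N) * QuotientGroup.mk s = QuotientGroup.mk s * QuotientGroup.mk t
      have h5 := eq_inv_of_mul_eq_one_right h2
      have h6 : (QuotientGroup.mk t : G ⧸ N)⁻¹ = QuotientGroup.mk t := inv_eq_of_mul_eq_one_left ht2'
      rw [h6] at h5
      calc (QuotientGroup.mk t : G ⧸ N) * QuotientGroup.mk s
          = (QuotientGroup.mk s * QuotientGroup.mk t * (QuotientGroup.mk s)⁻¹) * QuotientGroup.mk s := by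
            rw [h5]
        _ = QuotientGroup.mk s * QuotientGroup.mk t := by group
    have hpow : ∀ k : ℕ, (QuotientGroup.mk (t * s) : G ⧸ N) ^ k =
        QuotientGroup.mk (t ^ k) * QuotientGroup.mk (s ^ k) := by
      intro k
      rw [QuotientGroup.mk_mul, hcomm.mul_pow, QuotientGroup.mk_pow, QuotientGroup.mk_pow]
    have hg2 : (t * s) ^ 2 = 1 ∨ (t * s) ^ 3 = 1 := by
      rcases hG.le3 (t * s) with h | h | h
      · left; rw [orderOf_eq_one_iff.mp h, one_pow]
      · left; rw [← h, pow_orderOf_eq_one]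
      · right; rw [← h, pow_orderOf_eq_one]
    rcases hg2 with h | h
    · have h3 : (QuotientGroup.mk ((t * s) ^ 2) : G ⧸ N) =
          QuotientGroup.mk (t ^ 2) * QuotientGroup.mk (s ^ 2) := by
        rw [QuotientGroup.mk_pow]; exact hpow 2
      rw [h, QuotientGroup.mk_one, sq t, ht2, QuotientGroup.mk_one, one_mul] at h3
      have h4 : s ^ 2 ∈ N := (QuotientGroup.eq_one_iff _).mp h3.symm
      apply hsN
      have : s = (s ^ 2) ^ 2 * (s ^ 3)⁻¹ := by group
      rw [this, hs3, inv_one, mul_one]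
      exact N.pow_mem h4 2
    · have h3 : (QuotientGroup.mk ((t * s) ^ 3) : G ⧸ N) =
          QuotientGroup.mk (t ^ 3) * QuotientGroup.mk (s ^ 3) := by
        rw [QuotientGroup.mk_pow]; exact hpow 3
      have ht3 : t ^ 3 = t := by rw [pow_succ, sq, ht2, one_mul]
      rw [h, QuotientGroup.mk_one, hs3, QuotientGroup.mk_one, mul_one, ht3] at h3
      exact htN ((QuotientGroup.eq_one_iff _).mp h3.symm)
  have hall : ∀ g : G, g ∈ N ∨ t * g ∈ N := by
    intro g
    rcases hG.le3 g with h | h | h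
    · left; rw [orderOf_eq_one_iff.mp h]; exact N.one_mem
    · right; exact hinvol g h
    · left; exact hthree g h
  refine ⟨N, hNn, ⟨⟨⟨fun x y => Subtype.ext (hNc x x.2 y y.2)⟩⟩, fun x hx => hG.cube_eq_one hNp hx⟩, ?_⟩
  rw [Subgroup.index_eq_two_iff]
  refine ⟨t, fun g => ?_⟩
  by_cases hg : g ∈ N
  · right
    refine ⟨hg, fun h => htN ?_⟩
    have : t = g⁻¹ * (g * t) := by group
    rw [this]
    exact N.mul_mem (N.inv_mem hg) h
  · left
    refine ⟨?_, hg⟩
    have h1 : t * g ∈ N := (hall g).resolve_left hg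
    have : g * t = t⁻¹ * (t * g) * t⁻¹⁻¹ := by group
    rw [this]
    exact hNn.conj_mem _ h1 _


theorem Hyp.caseB (hG : Hyp G) (h3 : pCore 3 G = ⊥) :
    ∃ N : Subgroup G, N.Normal ∧ Cfsg.IsElementaryAbelian 2 N ∧ N.index = 3 := by
  have hsol : Group.IsSolvable G := hG.isSolvable
  obtain ⟨a, b, hcard⟩ := hG.card
  have : Fact (Nat.Prime 3) := ⟨Nat.prime_three⟩
  have : Fact (Nat.Prime 2) := ⟨Nat.prime_two⟩
  have hpp : pPrimeCore 2 G = ⊥ := by
    rw [eq_bot_iff, ← h3]
    exact le_pCore (pPrimeCore_normal (G := G) 2)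
      (isPGroup_three_of_coprime hcard _ (pPrimeCore_coprime 2))
  set N := pCore 2 G with hN
  have hNn : N.Normal := pCore_normal (G := G) 2
  have hNp : IsPGroup 2 N := pCore_isPGroup 2
  have hCN : Subgroup.centralizer (N : Set G) ≤ N := centralizer_pCore_le 2 hpp
  -- groups of exponent two are abelian
  have hab : ∀ H : Subgroup G, IsPGroup 2 H → ∀ x ∈ H, ∀ y ∈ H, x * y = y * x := by
    intro H hH x hx y hy
    have hx2 := hG.sq_eq_one hH hx
    have hy2 := hG.sq_eq_one hH hy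
    have hxy2 := hG.sq_eq_one hH (H.mul_mem hx hy)
    have hxi : x⁻¹ = x := inv_eq_of_mul_eq_one_left (by rw [← sq]; exact hx2)
    have hyi : y⁻¹ = y := inv_eq_of_mul_eq_one_left (by rw [← sq]; exact hy2)
    have hxyi : (x * y)⁻¹ = x * y := inv_eq_of_mul_eq_one_left (by rw [← sq]; exact hxy2)
    rw [mul_inv_rev, hxi, hyi] at hxyi
    exact hxyi.symm
  -- `N` is a Sylow 2-subgroup
  obtain ⟨T⟩ : Nonempty (Sylow 2 G) := inferInstance
  have hNT : N ≤ (T : Subgroup G) := pCore_le_sylow T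
  have hTN : (T : Subgroup G) ≤ N := by
    intro x hx
    apply hCN
    rw [Subgroup.mem_centralizer_iff]
    intro k hk
    exact hab T T.2 k (hNT hk) x hx
  have hNeq : N = (T : Subgroup G) := le_antisymm hNT hTN
  obtain ⟨t, ht⟩ := hG.ex2
  obtain ⟨s₀, hs₀⟩ := hG.ex3
  have hNbot : N ≠ ⊥ := by
    intro hbot
    have htC : t ∈ Subgroup.centralizer (N : Set G) := by
      rw [Subgroup.mem_centralizer_iff]
      intro k hk
      have hk' : k ∈ N := hk
      rw [hbot, Subgroup.mem_bot] at hk'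
      rw [hk', one_mul, mul_one]
    have := hCN htC
    rw [hbot, Subgroup.mem_bot] at this
    rw [this, orderOf_one] at ht
    omega
  obtain ⟨S⟩ : Nonempty (Sylow 3 G) := inferInstance
  have hfpf : ∀ s ∈ (S : Subgroup G), s ≠ 1 → ∀ k ∈ N, s * k = k * s → k = 1 := by
    intro s hs hs1 k hk hc
    by_contra hk1
    have hos : orderOf s = 3 := orderOf_eq_prime (hG.cube_eq_one S.2 hs) hs1
    have hok : orderOf k = 2 := orderOf_eq_prime (hG.sq_eq_one hNp hk) hk1
    exact hG.no_six hok hos hc.symm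
  have hSK : (S : Subgroup G) ≤ Subgroup.normalizer (N : Set G) := by
    rw [Subgroup.normalizer_eq_top_iff.mpr hNn]; exact le_top
  have hrK : ¬ 3 ∣ Nat.card N := by
    obtain ⟨j, hj⟩ := IsPGroup.iff_card.mp hNp
    rw [hj]
    intro h
    have := Nat.Prime.dvd_of_dvd_pow Nat.prime_three h
    omega
  have hcyc : IsCyclic ↥(S : Subgroup G) := by
    rcases Cfsg.Agent.Lib.Helper10.isCyclic_or_quaternion_of_fpf (S : Subgroup G) N S.2 hNbot hSK
      hrK hfpf with h | ⟨h, -⟩
    · exact h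
    · omega
  have hScard : Nat.card (S : Subgroup G) ∣ 3 := by
    obtain ⟨g, hg⟩ := hcyc.exists_generator
    rw [← orderOf_eq_card_of_forall_mem_zpowers hg]
    apply orderOf_dvd_of_pow_eq_one
    apply Subtype.ext
    have := hG.cube_eq_one S.2 g.2
    simpa using this
  -- the index of `N`
  have h2idx : ¬ 2 ∣ N.index := by rw [hNeq]; exact T.not_dvd_index
  have hidxdvd : N.index ∣ 2 ^ a * 3 ^ b := hcard ▸ Subgroup.index_dvd_card N
  have hidx3 : N.index ∣ 3 ^ b :=
    (Nat.Coprime.pow_right a ((Nat.Prime.coprime_iff_not_dvd Nat.prime_two).mpr h2idx).symm).dvd_of_dvd_mul_left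
      hidxdvd
  obtain ⟨j, -, hj⟩ := (Nat.dvd_prime_pow Nat.prime_three).mp hidx3
  have hjS : N.index ∣ Nat.card (S : Subgroup G) := by
    rw [S.card_eq_multiplicity, hj]
    apply pow_dvd_pow
    apply (Nat.Prime.pow_dvd_iff_le_factorization Nat.prime_three Nat.card_pos.ne').mp
    rw [← hj]
    exact Subgroup.index_dvd_card N
  have hidx : N.index = 1 ∨ N.index = 3 :=
    (Nat.dvd_prime Nat.prime_three).mp (hjS.trans hScard)
  refine ⟨N, hNn, ⟨⟨⟨fun x y => Subtype.ext (hab N hNp x x.2 y y.2)⟩⟩, fun x hx => hG.sq_eq_one hNp hx⟩, ?_⟩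
  rcases hidx with h | h
  · exfalso
    have htop : N = ⊤ := Subgroup.index_eq_one.mp h
    have hs2 : s₀ ^ 2 = 1 := hG.sq_eq_one hNp (by rw [htop]; exact Subgroup.mem_top s₀)
    have : orderOf s₀ ∣ 2 := orderOf_dvd_of_pow_eq_one hs2
    rw [hs₀] at this
    omega
  · exact h


end

/-- A finite group whose set of element orders is exactly {1, 2, 3} has either a normal elementary abelian 3-subgroup of index 2 or a normal elementary abelian 2-subgroup of index 3. -/
theorem result {G : Type*} [Group G] [Finite G] (h : Set.range (orderOf : G → ℕ) = {k : ℕ | 1 ≤ k ∧ k ≤ 3}) :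
    (∃ N : Subgroup G, N.Normal ∧ Cfsg.IsElementaryAbelian 3 N ∧ N.index = 2) ∨
      (∃ N : Subgroup G, N.Normal ∧ Cfsg.IsElementaryAbelian 2 N ∧ N.index = 3) := by
  have hG := hyp_of h
  rcases hG.core_eq_bot with h2 | h3
  · exact Or.inl (hG.caseA h2)
  · exact Or.inr (hG.caseB h3)

end Cfsg.Agent.S4005
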