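import Mathlib
import Cfsg.Statements.S4010
import Cfsg.Agent.H5.PGroupRep

set_option autoImplicit false
open Cfsg

namespace Cfsg.Agent.S4010

open Module
open scoped commutatorElement

/-! ### Part 1: derived series of a subgroup containing the commutator subgroup -/

theorem derivedSeries_succ_le_map {P : Type*} [Group P] (K : Subgroup P)
    (hK : commutator P ≤ K) (m : ℕ) :
    derivedSeries P (m + 1) ≤ (derivedSeries K m).map K.subtype := by
  induction m with
  | zero =>
    intro x hx
    rw [zero_add, derivedSeries_one] at hx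
    exact Subgroup.mem_map.mpr
      ⟨⟨x, hK hx⟩, by rw [derivedSeries_zero]; exact Subgroup.mem_top _, rfl⟩
  | succ m ih =>
    rw [derivedSeries_succ P (m + 1), derivedSeries_succ K m, Subgroup.map_commutator]
    exact Subgroup.commutator_mono ih ih

/-! ### Generalities on representations -/

section Basic

variable {F : Type*} [Field F] {V : Type*} [AddCommGroup V] [Module F V] {P : Type*} [Group P]

theorem rep_mul_apply (ρ : Representation F P V) (x y : P) (v : V) :
    ρ (x * y) v = ρ x (ρ y v) := by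
  rw [map_mul]; rfl

theorem rep_inv_apply (ρ : Representation F P V) (g : P) (v : V) : ρ g⁻¹ (ρ g v) = v := by
  rw [← rep_mul_apply, inv_mul_cancel, map_one]; rfl

theorem apply_eq_of_mem_ker {ρ : Representation F P V} (S : Subrepresentation ρ) {g : P}
    (hg : g ∈ MonoidHom.ker S.toRepresentation) : ∀ w ∈ S.toSubmodule, ρ g w = w := by
  intro w hw
  have h1 : S.toRepresentation g = 1 := MonoidHom.mem_ker.mp hg
  have h2 := LinearMap.congr_fun h1 ⟨w, hw⟩
  exact congrArg Subtype.val h2

theorem eq_one_of_sup_eq_top (T : V →ₗ[F] V) (W W' : Submodule F V) (h : W ⊔ W' = ⊤)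
    (h1 : ∀ w ∈ W, T w = w) (h2 : ∀ w ∈ W', T w = w) : T = 1 := by
  apply LinearMap.ext
  intro v
  have hv : v ∈ W ⊔ W' := by rw [h]; exact Submodule.mem_top
  obtain ⟨x, hx, y, hy, rfl⟩ := Submodule.mem_sup.mp hv
  rw [map_add, h1 x hx, h2 y hy]; rfl

end Basic

/-! ### Part 2: the defining characteristic -/

section CharPCase

variable {F : Type*} [Field F] {V : Type*} [AddCommGroup V] [Module F V] {P : Type*} [Group P]

/-- The augmentation submodule `[W, P]`. -/
noncomputable def aug (ρ : Representation F P V) (W : Submodule F V) : Submodule F V :=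
  Submodule.span F {x | ∃ g : P, ∃ v ∈ W, x = ρ g v - v}

theorem mem_aug (ρ : Representation F P V) {W : Submodule F V} {v : V} (hv : v ∈ W) (g : P) :
    ρ g v - v ∈ aug ρ W :=
  Submodule.subset_span ⟨g, v, hv, rfl⟩

theorem aug_le (ρ : Representation F P V) {W : Submodule F V}
    (hinv : ∀ g, ∀ w ∈ W, ρ g w ∈ W) : aug ρ W ≤ W := by
  apply Submodule.span_le.mpr
  rintro _ ⟨g, v, hv, rfl⟩
  exact W.sub_mem (hinv g v hv) hv

theorem aug_inv (ρ : Representation F P V) {W : Submodule F V}
    (hinv : ∀ g, ∀ w ∈ W, ρ g w ∈ W) : ∀ g, ∀ w ∈ aug ρ W, ρ g w ∈ aug ρ W := by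
  intro g w hw
  change w ∈ Submodule.span F {x | ∃ g : P, ∃ v ∈ W, x = ρ g v - v} at hw
  induction hw using Submodule.span_induction with
  | mem x hx =>
    obtain ⟨h, u, hu, rfl⟩ := hx
    apply Submodule.subset_span
    refine ⟨g * h * g⁻¹, ρ g u, hinv g u hu, ?_⟩
    have e : ρ (g * h * g⁻¹) (ρ g u) = ρ g (ρ h u) := by
      rw [← rep_mul_apply ρ, ← rep_mul_apply ρ]
      have : g * h * g⁻¹ * g = g * h := by group
      rw [this]
    rw [map_sub, e]
  | zero => rw [map_zero]; exact Submodule.zero_mem _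
  | add x y _ _ hx hy => rw [map_add]; exact Submodule.add_mem _ hx hy
  | smul c x _ hx => rw [map_smul]; exact Submodule.smul_mem _ _ hx

/-- The filtration `V ≥ [V,P] ≥ [V,P,P] ≥ ...`. -/
noncomputable def fil (ρ : Representation F P V) (i : ℕ) : Submodule F V := (aug ρ)^[i] ⊤

theorem fil_zero (ρ : Representation F P V) : fil ρ 0 = ⊤ := rfl

theorem fil_succ (ρ : Representation F P V) (i : ℕ) : fil ρ (i + 1) = aug ρ (fil ρ i) :=
  Function.iterate_succ_apply' _ _ _

theorem fil_inv (ρ : Representation F P V) : ∀ i g, ∀ w ∈ fil ρ i, ρ g w ∈ fil ρ i := by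
  intro i
  induction i with
  | zero => intro g w _; rw [fil_zero]; exact Submodule.mem_top
  | succ i ih => rw [fil_succ]; exact aug_inv ρ ih

theorem fil_succ_le (ρ : Representation F P V) (i : ℕ) : fil ρ (i + 1) ≤ fil ρ i := by
  rw [fil_succ]; exact aug_le ρ (fil_inv ρ i)

theorem fil_antitone (ρ : Representation F P V) : Antitone (fil ρ) :=
  antitone_nat_of_succ_le (fil_succ_le ρ)

theorem aug_lt [Finite P] {p : ℕ} [Fact p.Prime] [CharP F p] (hP : IsPGroup p P)
    (ρ : Representation F P V) (W : Submodule F V) (hinv : ∀ g, ∀ w ∈ W, ρ g w ∈ W)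
    (hne : W ≠ ⊥) : aug ρ W < W := by
  refine lt_of_le_of_ne (aug_le ρ hinv) ?_
  intro heq
  let S : Subrepresentation ρ := ⟨W, fun g v hv => hinv g v hv⟩
  let σ : Representation F P W := S.toRepresentation
  have htop : (⊤ : Submodule F (Module.Dual F W)) ≠ ⊥ := by
    intro h
    obtain ⟨w, hwW, hw0⟩ := (Submodule.ne_bot_iff W).mp hne
    apply hw0
    have h1 : ∀ φ : Module.Dual F W, φ ⟨w, hwW⟩ = 0 := by
      intro φ
      have hφ : φ ∈ (⊤ : Submodule F (Module.Dual F W)) := Submodule.mem_top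
      rw [h, Submodule.mem_bot] at hφ
      rw [hφ]; rfl
    have h2 := (Module.forall_dual_apply_eq_zero_iff F (⟨w, hwW⟩ : W)).mp h1
    exact congrArg Subtype.val h2
  obtain ⟨u, -, hu0, hufix⟩ := Cfsg.H5.exists_fixed_vector_of_isPGroup hP σ.dual ⊤
    (fun _ _ _ => Submodule.mem_top) htop
  apply hu0
  have hfix : ∀ g (w : W), u (σ g w) = u w := by
    intro g w
    have h2 : (σ.dual g⁻¹ u) w = u w := by rw [hufix g⁻¹]
    have h3 : (σ.dual g⁻¹ u) w = u (σ g w) := by
      simp [Representation.dual_apply, Module.Dual.transpose_apply]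
    rw [← h3, h2]
  have hker : aug ρ W ≤ (LinearMap.ker u).map W.subtype := by
    apply Submodule.span_le.mpr
    rintro _ ⟨g, v, hv, rfl⟩
    refine ⟨σ g ⟨v, hv⟩ - ⟨v, hv⟩, ?_, ?_⟩
    · rw [SetLike.mem_coe, LinearMap.mem_ker, map_sub, hfix, sub_self]
    · rw [map_sub]; rfl
  apply LinearMap.ext
  intro w
  have hw : (w : V) ∈ aug ρ W := by rw [heq]; exact w.2
  obtain ⟨w', hw', he⟩ := hker hw
  have hww : w' = w := Subtype.ext he
  rw [← hww, LinearMap.mem_ker.mp hw']; rfl

theorem fil_finrank [Finite P] [FiniteDimensional F V] {p : ℕ} [Fact p.Prime] [CharP F p]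
    (hP : IsPGroup p P) (ρ : Representation F P V) :
    ∀ i, Module.finrank F (fil ρ i) ≤ Module.finrank F V - i := by
  intro i
  induction i with
  | zero => rw [fil_zero, finrank_top, Nat.sub_zero]
  | succ i ih =>
    by_cases h : fil ρ i = ⊥
    · have h0 : fil ρ (i + 1) = ⊥ := by
        have := fil_succ_le ρ i
        rw [h] at this
        exact le_bot_iff.mp this
      rw [h0, finrank_bot]; exact Nat.zero_le _
    · have hlt : fil ρ (i + 1) < fil ρ i := by
        rw [fil_succ]; exact aug_lt hP ρ _ (fil_inv ρ i) h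
      have := Submodule.finrank_lt_finrank_of_lt hlt
      omega

theorem fil_eq_bot [Finite P] [FiniteDimensional F V] {p : ℕ} [Fact p.Prime] [CharP F p]
    (hP : IsPGroup p P) (ρ : Representation F P V) : fil ρ (Module.finrank F V) = ⊥ := by
  have := fil_finrank hP ρ (Module.finrank F V)
  rw [Nat.sub_self, Nat.le_zero] at this
  exact Submodule.finrank_eq_zero.mp this

/-- Elements shifting the filtration by `a` steps. -/
noncomputable def shiftSub (ρ : Representation F P V) (a : ℕ) : Subgroup P where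
  carrier := {g | ∀ i, ∀ v ∈ fil ρ i, ρ g v - v ∈ fil ρ (i + a)}
  one_mem' := by
    intro i v _
    rw [map_one, Module.End.one_apply, sub_self]; exact Submodule.zero_mem _
  mul_mem' := by
    intro g h hg hh i v hv
    have e : ρ (g * h) v - v = (ρ g (ρ h v) - ρ h v) + (ρ h v - v) := by
      rw [rep_mul_apply]; abel
    rw [e]
    exact Submodule.add_mem _ (hg i _ (fil_inv ρ i h v hv)) (hh i v hv)
  inv_mem' := by
    intro g hg i v hv
    have e : ρ g⁻¹ v - v = - ρ g⁻¹ (ρ g v - v) := by
      rw [map_sub, rep_inv_apply]; abel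
    rw [e]
    exact Submodule.neg_mem _ (fil_inv ρ _ g⁻¹ _ (hg i v hv))

theorem mem_shiftSub (ρ : Representation F P V) (a : ℕ) (g : P) :
    g ∈ shiftSub ρ a ↔ ∀ i, ∀ v ∈ fil ρ i, ρ g v - v ∈ fil ρ (i + a) := Iff.rfl

theorem comm_mem_shift (ρ : Representation F P V) {a b : ℕ} {g h : P}
    (hg : g ∈ shiftSub ρ a) (hh : h ∈ shiftSub ρ b) : ⁅g, h⁆ ∈ shiftSub ρ (a + b) := by
  rw [mem_shiftSub] at hg hh ⊢
  intro i v hv
  obtain ⟨w, hw⟩ : ∃ w, w = ρ (g⁻¹ * h⁻¹) v := ⟨_, rfl⟩
  have hwi : w ∈ fil ρ i := by rw [hw]; exact fil_inv ρ i _ v hv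
  have e1 : ρ ⁅g, h⁆ v = ρ g (ρ h w) := by
    rw [hw, ← rep_mul_apply ρ, ← rep_mul_apply ρ, commutatorElement_def]
    have : g * h * g⁻¹ * h⁻¹ = g * h * (g⁻¹ * h⁻¹) := by group
    rw [this]
  have e2 : v = ρ h (ρ g w) := by
    rw [hw, ← rep_mul_apply ρ, ← rep_mul_apply ρ]
    have : h * g * (g⁻¹ * h⁻¹) = 1 := by group
    rw [this, map_one]; rfl
  have key : ρ g (ρ h w) - ρ h (ρ g w)
      = (ρ g (ρ h w - w) - (ρ h w - w)) - (ρ h (ρ g w - w) - (ρ g w - w)) := by
    simp only [map_sub]; abel
  have e3 : ρ ⁅g, h⁆ v - v = ρ g (ρ h w) - ρ h (ρ g w) := by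
    rw [e1]
    exact congrArg (fun t => ρ g (ρ h w) - t) e2
  rw [e3, key]
  have h1 : ρ g (ρ h w - w) - (ρ h w - w) ∈ fil ρ (i + b + a) := hg (i + b) _ (hh i w hwi)
  have h2 : ρ h (ρ g w - w) - (ρ g w - w) ∈ fil ρ (i + a + b) := hh (i + a) _ (hg i w hwi)
  have ea : i + b + a = i + (a + b) := by omega
  have eb : i + a + b = i + (a + b) := by omega
  rw [ea] at h1
  rw [eb] at h2
  exact Submodule.sub_mem _ h1 h2

theorem derivedSeries_le_shift (ρ : Representation F P V) :
    ∀ k, derivedSeries P k ≤ shiftSub ρ (2 ^ k) := by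
  intro k
  induction k with
  | zero =>
    intro g _
    rw [mem_shiftSub]
    intro i v hv
    rw [pow_zero, fil_succ]
    exact mem_aug ρ hv g
  | succ k ih =>
    rw [derivedSeries_succ, Subgroup.commutator_le]
    intro g hg h hh
    have := comm_mem_shift ρ (ih hg) (ih hh)
    have e : 2 ^ (k + 1) = 2 ^ k + 2 ^ k := by ring
    rw [e]; exact this

theorem charp_main [Finite P] [FiniteDimensional F V] {p : ℕ} [Fact p.Prime] [CharP F p]
    (hP : IsPGroup p P) (ρ : Representation F P V) {N : ℕ} (hN : Module.finrank F V = N) :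
    derivedSeries P (Nat.log 2 N + 1) ≤ MonoidHom.ker ρ := by
  intro g hg
  have h1 := derivedSeries_le_shift ρ _ hg
  rw [mem_shiftSub] at h1
  rw [MonoidHom.mem_ker]
  apply LinearMap.ext
  intro v
  have h2 := h1 0 v (by rw [fil_zero]; exact Submodule.mem_top)
  have hlt : N < 2 ^ (Nat.log 2 N + 1) := Nat.lt_pow_succ_log_self (by norm_num) N
  have h3 : fil ρ (0 + 2 ^ (Nat.log 2 N + 1)) ≤ fil ρ N := fil_antitone ρ (by omega)
  have h4 : fil ρ N = ⊥ := by rw [← hN]; exact fil_eq_bot hP ρ
  have h5 := h3 h2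
  rw [h4, Submodule.mem_bot, sub_eq_zero] at h5
  rw [h5]; rfl

end CharPCase

/-! ### Part 3: the cross characteristic, algebraically closed case -/

section Good

universe u v w

variable {F : Type u} [Field F]

theorem comm_case {P : Type v} [Group P] {V : Type w} [AddCommGroup V] [Module F V]
    (ρ : Representation F P V) (hcomm : ∀ g h : P, ρ g * ρ h = ρ h * ρ g) :
    derivedSeries P 1 ≤ MonoidHom.ker ρ := by
  rw [derivedSeries_one, commutator_def, Subgroup.commutator_le]
  intro g _ h _
  rw [MonoidHom.mem_ker, commutatorElement_def, map_mul, map_mul, map_mul, hcomm g h,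
    ← map_mul, ← map_mul, ← map_mul]
  have : h * g * g⁻¹ * h⁻¹ = 1 := by group
  rw [this, map_one]

/-- Elements whose image is central in the image of `ρ`. -/
def centZ {P : Type v} [Group P] {V : Type w} [AddCommGroup V] [Module F V]
    (ρ : Representation F P V) : Subgroup P where
  carrier := {z | ∀ g, ρ z * ρ g = ρ g * ρ z}
  one_mem' := by
    intro g
    rw [map_one, one_mul, mul_one]
  mul_mem' := by
    intro x y hx hy g
    calc ρ (x * y) * ρ g = ρ x * (ρ y * ρ g) := by rw [map_mul, mul_assoc]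
      _ = ρ x * (ρ g * ρ y) := by rw [hy g]
      _ = (ρ x * ρ g) * ρ y := by rw [mul_assoc]
      _ = (ρ g * ρ x) * ρ y := by rw [hx g]
      _ = ρ g * ρ (x * y) := by rw [map_mul, mul_assoc]
  inv_mem' := by
    intro x hx g
    have h1 : ρ x⁻¹ * ρ x = 1 := by rw [← map_mul, inv_mul_cancel, map_one]
    have h2 : ρ x * ρ x⁻¹ = 1 := by rw [← map_mul, mul_inv_cancel, map_one]
    calc ρ x⁻¹ * ρ g = ρ x⁻¹ * ρ g * (ρ x * ρ x⁻¹) := by rw [h2, mul_one]
      _ = ρ x⁻¹ * (ρ g * ρ x) * ρ x⁻¹ := by simp only [mul_assoc]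
      _ = ρ x⁻¹ * (ρ x * ρ g) * ρ x⁻¹ := by rw [hx g]
      _ = (ρ x⁻¹ * ρ x) * ρ g * ρ x⁻¹ := by simp only [mul_assoc]
      _ = ρ g * ρ x⁻¹ := by rw [h1, one_mul]

theorem mem_centZ {P : Type v} [Group P] {V : Type w} [AddCommGroup V] [Module F V]
    (ρ : Representation F P V) (z : P) : z ∈ centZ ρ ↔ ∀ g, ρ z * ρ g = ρ g * ρ z := Iff.rfl

theorem centZ_normal {P : Type v} [Group P] {V : Type w} [AddCommGroup V] [Module F V]
    (ρ : Representation F P V) : (centZ ρ).Normal := by
  constructor
  intro z hz x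
  rw [mem_centZ] at hz ⊢
  intro g
  have h2 : ρ x * ρ x⁻¹ = 1 := by rw [← map_mul, mul_inv_cancel, map_one]
  have h3 : ρ (x * z * x⁻¹) = ρ z := by
    rw [map_mul, map_mul, ← hz x, mul_assoc, h2, mul_one]
  rw [h3]; exact hz g

theorem schur [IsAlgClosed F] {V : Type w} [AddCommGroup V] [Module F V] [FiniteDimensional F V]
    [Nontrivial V] {P : Type v} [Group P] (ρ : Representation F P V)
    (hirr : ∀ S : Subrepresentation ρ, S.toSubmodule = ⊥ ∨ S.toSubmodule = ⊤)
    (T : V →ₗ[F] V) (hT : ∀ g, T * ρ g = ρ g * T) : ∃ c : F, T = c • (1 : V →ₗ[F] V) := by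
  obtain ⟨c, hc⟩ := Module.End.exists_eigenvalue T
  refine ⟨c, ?_⟩
  let S : Subrepresentation ρ :=
    { toSubmodule := Module.End.eigenspace T c
      apply_mem_toSubmodule := by
        intro g v hv
        rw [Module.End.mem_eigenspace_iff] at hv ⊢
        have h1 := LinearMap.congr_fun (hT g) v
        rw [Module.End.mul_apply, Module.End.mul_apply, hv, map_smul] at h1
        exact h1 }
  rcases hirr S with h | h
  · exact absurd h (Module.End.hasEigenvalue_iff.mp hc)
  · apply LinearMap.ext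
    intro v
    have hv : v ∈ Module.End.eigenspace T c := by
      have : v ∈ S.toSubmodule := by rw [h]; exact Submodule.mem_top
      exact this
    rw [Module.End.mem_eigenspace_iff] at hv
    rw [hv]; rfl

theorem irred_step [IsAlgClosed F] {p : ℕ} [hp : Fact p.Prime] (N : ℕ)
    (ih : ∀ m < N, ∀ (V : Type w) [AddCommGroup V] [Module F V] [FiniteDimensional F V]
      (P : Type v) [Group P] [Finite P], IsPGroup p P → ∀ ρ : Representation F P V,
        Module.finrank F V = m → derivedSeries P (Nat.log 2 m + 1) ≤ MonoidHom.ker ρ)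
    (V : Type w) [AddCommGroup V] [Module F V] [FiniteDimensional F V] [Nontrivial V]
    (P : Type v) [Group P] [Finite P] (hP : IsPGroup p P) (ρ : Representation F P V)
    (hN : Module.finrank F V = N)
    (hirr : ∀ S : Subrepresentation ρ, S.toSubmodule = ⊥ ∨ S.toSubmodule = ⊤)
    (hnc : ∃ g h : P, ρ g * ρ h ≠ ρ h * ρ g) :
    derivedSeries P (Nat.log 2 N + 1) ≤ MonoidHom.ker ρ := by
  classical
  haveI := centZ_normal ρ
  -- an element `a` outside `Z` which is central modulo `Z`
  obtain ⟨x0, hx0⟩ : ∃ x, x ∉ centZ ρ := by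
    obtain ⟨g, h, hgh⟩ := hnc
    exact ⟨g, fun hg => hgh (hg h)⟩
  haveI : Nontrivial (P ⧸ centZ ρ) := by
    refine ⟨⟨(QuotientGroup.mk x0 : P ⧸ centZ ρ), 1, ?_⟩⟩
    intro h
    exact hx0 ((QuotientGroup.eq_one_iff x0).mp h)
  have hQ : IsPGroup p (P ⧸ centZ ρ) := hP.to_quotient (centZ ρ)
  haveI := hQ.center_nontrivial
  obtain ⟨c, hc⟩ := exists_ne (1 : Subgroup.center (P ⧸ centZ ρ))
  obtain ⟨a, ha⟩ := QuotientGroup.mk_surjective (c : P ⧸ centZ ρ)
  have haZ : a ∉ centZ ρ := by
    intro h
    apply hc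
    apply Subtype.ext
    rw [← ha]
    exact (QuotientGroup.eq_one_iff a).mpr h
  have hcomm : ∀ g : P, a * g * a⁻¹ * g⁻¹ ∈ centZ ρ := by
    intro g
    rw [← QuotientGroup.eq_one_iff]
    have h1 : (QuotientGroup.mk g : P ⧸ centZ ρ) * (c : P ⧸ centZ ρ)
        = (c : P ⧸ centZ ρ) * (QuotientGroup.mk g : P ⧸ centZ ρ) :=
      Subgroup.mem_center_iff.mp c.2 _
    rw [← ha] at h1
    simp only [QuotientGroup.mk_mul, QuotientGroup.mk_inv]
    rw [← h1]
    group
  -- the scalars
  have hex : ∀ g : P, ∃ c : F, ρ a * ρ g = c • (ρ g * ρ a) := by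
    intro g
    obtain ⟨c, hc⟩ := schur ρ hirr (ρ (a * g * a⁻¹ * g⁻¹)) (hcomm g)
    refine ⟨c, ?_⟩
    have h1 : ρ a * ρ g = ρ (a * g * a⁻¹ * g⁻¹) * (ρ g * ρ a) := by
      rw [← map_mul ρ a g, ← map_mul ρ g a, ← map_mul ρ]
      congr 1; group
    rw [h1, hc, smul_mul_assoc, one_mul]
  choose d hd using hex
  obtain ⟨v0, hv0⟩ := exists_ne (0 : V)
  have huniq : ∀ (g : P) (c c' : F), c • (ρ g * ρ a) = c' • (ρ g * ρ a) → c = c' := by
    intro g c c' h
    have h1 : ρ g * ρ a * ρ (a⁻¹ * g⁻¹) = 1 := by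
      rw [← map_mul, ← map_mul]
      have : g * a * (a⁻¹ * g⁻¹) = 1 := by group
      rw [this, map_one]
    have h2 := congrArg (fun X => X * ρ (a⁻¹ * g⁻¹)) h
    simp only [smul_mul_assoc, h1] at h2
    have h3 := LinearMap.congr_fun h2 v0
    simp only [LinearMap.smul_apply, Module.End.one_apply] at h3
    exact smul_left_injective F hv0 h3
  have hd1 : d 1 = 1 := by
    apply huniq 1
    rw [← hd 1, map_one, one_smul, mul_one, one_mul]
  have hdmul : ∀ g h, d (g * h) = d g * d h := by
    intro g h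
    apply huniq (g * h)
    rw [← hd (g * h)]
    calc ρ a * ρ (g * h) = (ρ a * ρ g) * ρ h := by rw [map_mul, mul_assoc]
      _ = d g • (ρ g * (ρ a * ρ h)) := by rw [hd g, smul_mul_assoc, mul_assoc]
      _ = d g • (ρ g * (d h • (ρ h * ρ a))) := by rw [hd h]
      _ = (d g * d h) • (ρ (g * h) * ρ a) := by
        rw [mul_smul_comm, smul_smul, map_mul, mul_assoc]
  let D : P →* F := { toFun := d, map_one' := hd1, map_mul' := hdmul }
  have hDd : ∀ g, D g = d g := fun _ => rfl
  have hKcomm : commutator P ≤ MonoidHom.ker D := by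
    rw [commutator_def, Subgroup.commutator_le]
    intro g _ h _
    rw [MonoidHom.mem_ker, commutatorElement_def]
    have e1 : D g * D g⁻¹ = 1 := by rw [← map_mul, mul_inv_cancel, map_one]
    have e2 : D h * D h⁻¹ = 1 := by rw [← map_mul, mul_inv_cancel, map_one]
    rw [map_mul, map_mul, map_mul]
    calc D g * D h * D g⁻¹ * D h⁻¹ = (D g * D g⁻¹) * (D h * D h⁻¹) := by ring
      _ = 1 := by rw [e1, e2, one_mul]
  have hKd : ∀ k : MonoidHom.ker D, d (k : P) = 1 := fun k => MonoidHom.mem_ker.mp k.2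
  -- eigenspaces of `ρ a`
  have hE : ∀ (g : P) (μ : F) (v : V), v ∈ Module.End.eigenspace (ρ a) μ →
      ρ g v ∈ Module.End.eigenspace (ρ a) (d g * μ) := by
    intro g μ v hv
    rw [Module.End.mem_eigenspace_iff] at hv ⊢
    have h1 := LinearMap.congr_fun (hd g) v
    simp only [Module.End.mul_apply, LinearMap.smul_apply] at h1
    rw [hv, map_smul, smul_smul] at h1
    exact h1
  let S : Subrepresentation ρ :=
    { toSubmodule := ⨆ μ, Module.End.eigenspace (ρ a) μ
      apply_mem_toSubmodule := by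
        intro g v hv
        refine Submodule.iSup_induction (p := fun μ => Module.End.eigenspace (ρ a) μ)
          (motive := fun v => ρ g v ∈ ⨆ μ, Module.End.eigenspace (ρ a) μ) hv ?_ ?_ ?_
        · intro μ x hx
          exact Submodule.mem_iSup_of_mem (d g * μ) (hE g μ x hx)
        · rw [map_zero]; exact Submodule.zero_mem _
        · intro x y hx hy
          rw [map_add]; exact Submodule.add_mem _ hx hy }
  obtain ⟨μ1, hμ1⟩ := Module.End.exists_eigenvalue (ρ a)
  have hμ1' : Module.End.eigenspace (ρ a) μ1 ≠ ⊥ := Module.End.hasEigenvalue_iff.mp hμ1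
  have hStop : (⨆ μ, Module.End.eigenspace (ρ a) μ) = ⊤ := by
    rcases hirr S with h | h
    · exfalso
      apply hμ1'
      have h1 : Module.End.eigenspace (ρ a) μ1 ≤ ⨆ μ, Module.End.eigenspace (ρ a) μ :=
        le_iSup (fun μ => Module.End.eigenspace (ρ a) μ) μ1
      have h2 : (⨆ μ, Module.End.eigenspace (ρ a) μ) = ⊥ := h
      rw [h2] at h1
      exact le_bot_iff.mp h1
    · exact h
  have hg0 : ∃ g0, d g0 ≠ 1 := by
    by_contra hcon
    push Not at hcon
    apply haZ
    rw [mem_centZ]
    intro g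
    rw [hd g, hcon g, one_smul]
  obtain ⟨g0, hg0⟩ := hg0
  have hdim : ∀ μ : F, 2 * Module.finrank F (Module.End.eigenspace (ρ a) μ) ≤ N := by
    intro μ
    by_cases hμ : μ = 0
    · have h0 : Module.End.eigenspace (ρ a) μ = ⊥ := by
        rw [Submodule.eq_bot_iff]
        intro v hv
        rw [Module.End.mem_eigenspace_iff, hμ, zero_smul] at hv
        rw [← rep_inv_apply ρ a v, hv, map_zero]
      rw [h0, finrank_bot]; omega
    · have hne : d g0 * μ ≠ μ := by
        intro h
        apply hg0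
        have h1 : d g0 * μ = 1 * μ := by rw [one_mul]; exact h
        exact mul_right_cancel₀ hμ h1
      let f : Module.End.eigenspace (ρ a) μ →ₗ[F] Module.End.eigenspace (ρ a) (d g0 * μ) :=
        (ρ g0).restrict (fun v hv => hE g0 μ v hv)
      have hf : Function.Injective f := by
        intro x y hxy
        apply Subtype.ext
        have h1 : ρ g0 (x : V) = ρ g0 (y : V) := congrArg Subtype.val hxy
        have h2 := congrArg (ρ g0⁻¹) h1
        rw [rep_inv_apply, rep_inv_apply] at h2
        exact h2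
      have hle := LinearMap.finrank_le_finrank_of_injective hf
      have hinf : Module.End.eigenspace (ρ a) μ ⊓ Module.End.eigenspace (ρ a) (d g0 * μ) = ⊥ := by
        rw [Submodule.eq_bot_iff]
        intro v hv
        obtain ⟨hv1, hv2⟩ := Submodule.mem_inf.mp hv
        rw [Module.End.mem_eigenspace_iff] at hv1 hv2
        have h1 : (d g0 * μ - μ) • v = 0 := by
          rw [sub_smul, ← hv1, ← hv2, sub_self]
        rcases smul_eq_zero.mp h1 with h | h
        · exact absurd (sub_eq_zero.mp h) hne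
        · exact h
      have hsum := Submodule.finrank_sup_add_finrank_inf_eq (Module.End.eigenspace (ρ a) μ)
        (Module.End.eigenspace (ρ a) (d g0 * μ))
      rw [hinf, finrank_bot, add_zero] at hsum
      have hle2 := Submodule.finrank_le (Module.End.eigenspace (ρ a) μ ⊔
        Module.End.eigenspace (ρ a) (d g0 * μ))
      rw [hN] at hle2
      omega
  have hN2 : 2 ≤ N := by
    have h1 := hdim μ1
    have h2 : 1 ≤ Module.finrank F (Module.End.eigenspace (ρ a) μ1) :=
      Submodule.one_le_finrank_iff.mpr hμ1'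
    omega
  -- the kernel `K` of `D` acts on each eigenspace
  have hPK : IsPGroup p (MonoidHom.ker D) := hP.to_subgroup _
  have hKtriv : ∀ x ∈ derivedSeries (MonoidHom.ker D) (Nat.log 2 N), ρ (x : P) = 1 := by
    intro x hx
    have hall : ∀ μ : F, ∀ v ∈ Module.End.eigenspace (ρ a) μ, ρ (x : P) v = v := by
      intro μ
      let Sμ : Subrepresentation (ρ.comp (MonoidHom.ker D).subtype) :=
        { toSubmodule := Module.End.eigenspace (ρ a) μ
          apply_mem_toSubmodule := by
            intro k v hv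
            have h1 := hE (k : P) μ v hv
            rw [hKd k, one_mul] at h1
            exact h1 }
      have hlt : Module.finrank F Sμ.toSubmodule < N := by
        have := hdim μ
        have h2 : Module.finrank F Sμ.toSubmodule
            = Module.finrank F (Module.End.eigenspace (ρ a) μ) := rfl
        omega
      have h1 := ih _ hlt _ (MonoidHom.ker D) hPK Sμ.toRepresentation rfl
      have hmle : Nat.log 2 (Module.finrank F Sμ.toSubmodule) + 1 ≤ Nat.log 2 N := by
        have h2 : Module.finrank F Sμ.toSubmodule ≤ N / 2 := by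
          have := hdim μ
          have h2 : Module.finrank F Sμ.toSubmodule
              = Module.finrank F (Module.End.eigenspace (ρ a) μ) := rfl
          omega
        have h3 := Nat.log_mono_right (b := 2) h2
        rw [Nat.log_div_base] at h3
        have h4 := Nat.log_pos (b := 2) (by norm_num) hN2
        omega
      have h2 := h1 (derivedSeries_antitone _ hmle hx)
      intro v hv
      exact apply_eq_of_mem_ker Sμ h2 v hv
    apply LinearMap.ext
    intro v
    have hv : v ∈ ⨆ μ, Module.End.eigenspace (ρ a) μ := by rw [hStop]; exact Submodule.mem_top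
    refine Submodule.iSup_induction (p := fun μ => Module.End.eigenspace (ρ a) μ)
      (motive := fun v => ρ (x : P) v = (1 : V →ₗ[F] V) v) hv ?_ ?_ ?_
    · intro μ y hy
      rw [hall μ y hy]; rfl
    · rw [map_zero, map_zero]
    · intro y z hy hz
      rw [map_add, map_add, hy, hz]
  calc derivedSeries P (Nat.log 2 N + 1)
      ≤ (derivedSeries (MonoidHom.ker D) (Nat.log 2 N)).map (MonoidHom.ker D).subtype :=
        derivedSeries_succ_le_map _ hKcomm _
    _ ≤ MonoidHom.ker ρ := by
      intro y hy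
      obtain ⟨x, hx, rfl⟩ := Subgroup.mem_map.mp hy
      rw [MonoidHom.mem_ker]
      exact hKtriv x hx

theorem good_main [IsAlgClosed F] {p : ℕ} [hp : Fact p.Prime] (hpF : (p : F) ≠ 0) :
    ∀ (N : ℕ) (V : Type w) [AddCommGroup V] [Module F V] [FiniteDimensional F V]
      (P : Type v) [Group P] [Finite P], IsPGroup p P → ∀ ρ : Representation F P V,
        Module.finrank F V = N → derivedSeries P (Nat.log 2 N + 1) ≤ MonoidHom.ker ρ := by
  intro N
  induction N using Nat.strong_induction_on with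
  | _ N ih =>
  intro V _ _ _ P _ _ hP ρ hN
  classical
  by_cases hsub : Subsingleton V
  · intro g _
    rw [MonoidHom.mem_ker]
    apply LinearMap.ext
    intro v
    exact Subsingleton.elim _ _
  rw [not_subsingleton_iff_nontrivial] at hsub
  haveI := hsub
  by_cases hcomm : ∀ g h : P, ρ g * ρ h = ρ h * ρ g
  · have h1 : derivedSeries P 1 ≤ MonoidHom.ker ρ := comm_case ρ hcomm
    exact le_trans (derivedSeries_antitone P (by omega)) h1
  push Not at hcomm
  by_cases hirr : ∀ S : Subrepresentation ρ, S.toSubmodule = ⊥ ∨ S.toSubmodule = ⊤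
  · exact irred_step N ih V P hP ρ hN hirr hcomm
  push Not at hirr
  obtain ⟨S, hS0, hS1⟩ := hirr
  haveI : NeZero (Nat.card P : F) := by
    obtain ⟨k, hk⟩ := (IsPGroup.iff_card).mp hP
    rw [hk, Nat.cast_pow]
    exact ⟨pow_ne_zero _ hpF⟩
  obtain ⟨S', hS'⟩ := exists_isCompl S
  have hinf : S.toSubmodule ⊓ S'.toSubmodule = ⊥ := by
    rw [← Subrepresentation.toSubmodule_inf, hS'.inf_eq_bot]; rfl
  have hsup : S.toSubmodule ⊔ S'.toSubmodule = ⊤ := by
    rw [← Subrepresentation.toSubmodule_sup, hS'.sup_eq_top]; rfl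
  have hS'1 : S'.toSubmodule ≠ ⊤ := by
    intro h
    apply hS0
    rw [h, inf_top_eq] at hinf
    exact hinf
  have hlt : Module.finrank F S.toSubmodule < N := by
    rw [← hN]; exact Submodule.finrank_lt hS1
  have hlt' : Module.finrank F S'.toSubmodule < N := by
    rw [← hN]; exact Submodule.finrank_lt hS'1
  have h1 := ih _ hlt _ P hP S.toRepresentation rfl
  have h2 := ih _ hlt' _ P hP S'.toRepresentation rfl
  have hm1 : Nat.log 2 (Module.finrank F S.toSubmodule) + 1 ≤ Nat.log 2 N + 1 := by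
    have := Nat.log_mono_right (b := 2) hlt.le
    omega
  have hm2 : Nat.log 2 (Module.finrank F S'.toSubmodule) + 1 ≤ Nat.log 2 N + 1 := by
    have := Nat.log_mono_right (b := 2) hlt'.le
    omega
  intro g hg
  rw [MonoidHom.mem_ker]
  apply eq_one_of_sup_eq_top (ρ g) _ _ hsup
  · exact apply_eq_of_mem_ker S (h1 (derivedSeries_antitone P hm1 hg))
  · exact apply_eq_of_mem_ker S' (h2 (derivedSeries_antitone P hm2 hg))

end Good

/-! ### Part 4: base change to the algebraic closure and conclusion -/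

noncomputable def liftRep {P : Type*} [Group P] {F : Type*} [Field F] (Fb : Type*) [Field Fb]
    [Algebra F Fb] {n : ℕ} (ρ : P →* Matrix.GeneralLinearGroup (Fin n) F) :
    Representation Fb P (Fin n → Fb) where
  toFun g := Matrix.toLin' ((ρ g).1.map (algebraMap F Fb))
  map_one' := by
    have h1 : ρ 1 = 1 := map_one ρ
    rw [h1, Units.val_one, Matrix.map_one _ (map_zero _) (map_one _), Matrix.toLin'_one]
    rfl
  map_mul' g h := by
    have h1 : ρ (g * h) = ρ g * ρ h := map_mul ρ g h
    rw [h1, Units.val_mul, Matrix.map_mul, Matrix.toLin'_mul]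
    rfl

theorem liftRep_eq_one {P : Type*} [Group P] {F : Type*} [Field F] (Fb : Type*) [Field Fb]
    [Algebra F Fb] {n : ℕ} (ρ : P →* Matrix.GeneralLinearGroup (Fin n) F)
    (hρ : Function.Injective ρ) (g : P) (hg : liftRep Fb ρ g = 1) : g = 1 := by
  apply hρ
  rw [map_one]
  apply Units.ext
  have h1 : Matrix.toLin' ((ρ g).1.map (algebraMap F Fb))
      = Matrix.toLin' (1 : Matrix (Fin n) (Fin n) Fb) := by
    rw [Matrix.toLin'_one]; exact hg
  have h2 := (Matrix.toLin' (R := Fb) (m := Fin n) (n := Fin n)).injective h1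
  have h3 : (ρ g).1.map (algebraMap F Fb)
      = (1 : Matrix (Fin n) (Fin n) F).map (algebraMap F Fb) := by
    rw [h2, Matrix.map_one _ (map_zero _) (map_one _)]
  exact Matrix.map_injective (algebraMap F Fb).injective h3

/-- Let F be a field, n ≥ 1, and P a finite p-group (p a prime) admitting an injective homomorphism into the general linear group of degree n over F. Then the derived length of P is at most ⌊log₂ n⌋ + 1: that term of the derived series of P is trivial. -/
theorem result {P : Type*} [Group P] [Finite P] (p : ℕ) [Fact p.Prime] (hP : IsPGroup p P) (F : Type*) [Field F] (n : ℕ) (hn : 1 ≤ n) (ρ : P →* Matrix.GeneralLinearGroup (Fin n) F) (hρ : Function.Injective ρ) : derivedSeries P (Nat.log 2 n + 1) = ⊥ := by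
  classical
  have hfin : Module.finrank (AlgebraicClosure F) (Fin n → AlgebraicClosure F) = n :=
    Module.finrank_fin_fun _
  have hmain : derivedSeries P (Nat.log 2 n + 1)
      ≤ MonoidHom.ker (liftRep (AlgebraicClosure F) ρ) := by
    by_cases hpF : (p : AlgebraicClosure F) = 0
    · haveI : CharP (AlgebraicClosure F) p :=
        (CharP.charP_iff_prime_eq_zero (Fact.out : p.Prime)).mpr hpF
      exact charp_main hP _ hfin
    · exact good_main hpF n (Fin n → AlgebraicClosure F) P hP _ hfin
  rw [eq_bot_iff]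
  intro g hg
  rw [Subgroup.mem_bot]
  exact liftRep_eq_one _ ρ hρ g (MonoidHom.mem_ker.mp (hmain hg))

end Cfsg.Agent.S4010
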