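import Cfsg.Statements.S4013
import Mathlib
import Cfsg.Agent.Lib.Helper22.Conj

set_option autoImplicit false
open Cfsg

namespace Cfsg.Agent.S4013

open Cfsg.Agent.Lib.Helper22

theorem card_mul_relIndex {G : Type*} [Group G] (N M : Subgroup G) (h : N ≤ M) :
    Nat.card N * N.relIndex M = Nat.card M := by
  have := Subgroup.relIndex_mul_relIndex (⊥ : Subgroup G) N M bot_le h
  simpa [Subgroup.relIndex_bot_left] using this

/-- arithmetic core: `p^c * (p^a - 1) = p^b` with `a ≥ 1` forces `p = 2`, `a = 1`. -/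
theorem arith {p a b c : ℕ} (hp : p.Prime) (ha : 1 ≤ a) (h : p ^ c * (p ^ a - 1) = p ^ b) :
    p = 2 ∧ a = 1 := by
  have h1 : p ^ a - 1 ∣ p ^ b := Dvd.intro_left _ h
  obtain ⟨d, _, hd⟩ := (Nat.dvd_prime_pow hp).mp h1
  have hpa : 1 < p ^ a := Nat.one_lt_pow (by omega) hp.one_lt
  have hd0 : d = 0 := by
    by_contra hd0
    have h2 : p ∣ p ^ a - 1 := by rw [hd]; exact dvd_pow_self p hd0
    have h3 : p ∣ p ^ a := dvd_pow_self p (by omega)
    have h4 : p ∣ p ^ a - (p ^ a - 1) := Nat.dvd_sub h3 h2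
    have h5 : p ^ a - (p ^ a - 1) = 1 := by omega
    rw [h5] at h4
    exact hp.one_lt.ne' (Nat.dvd_one.mp h4)
  rw [hd0, pow_zero] at hd
  have h6 : p ^ a = 2 := by omega
  have h7 : p ∣ 2 := by rw [← h6]; exact dvd_pow_self p (by omega)
  have h8 : p = 2 := (Nat.prime_dvd_prime_iff_eq hp Nat.prime_two).mp h7
  refine ⟨h8, ?_⟩
  rw [h8] at h6
  have : (2 : ℕ) ^ a = 2 ^ 1 := by simpa using h6
  exact Nat.pow_right_injective (le_refl 2) this

theorem result {G : Type*} [Group G] [Finite G] (p : ℕ) [Fact p.Prime] (hG : IsPGroup p G) (N M : Subgroup G) [N.Normal] [M.Normal] (hNM : N < M) (g : G) (hgM : g ∈ M) (hgN : g ∉ N) (hcl : {h : G | IsConj g h} = (M : Set G) \ (N : Set G)) : p = 2 ∧ N.relIndex M = 2 := by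
  have hp : p.Prime := Fact.out
  have h1 : (Subgroup.centralizer ({g} : Set G)).index = Nat.card M - Nat.card N := by
    rw [index_centralizer_eq_ncard_setOf_isConj, hcl, Set.ncard_sdiff hNM.le (Set.toFinite _)]
    rfl
  obtain ⟨b, hb⟩ := hG.index (Subgroup.centralizer ({g} : Set G))
  obtain ⟨c, hc⟩ := (hG.to_subgroup N).exists_card_eq
  obtain ⟨a, ha⟩ := (hG.to_subgroup M).index (N.subgroupOf M)
  have ha' : N.relIndex M = p ^ a := ha
  have h2 := card_mul_relIndex N M hNM.le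
  rw [hc, ha'] at h2
  have ha1 : 1 ≤ a := by
    by_contra h0
    have : a = 0 := by omega
    rw [this, pow_zero] at ha'
    exact (not_le_of_gt hNM) (Subgroup.relIndex_eq_one.mp ha')
  have h3 : p ^ c * (p ^ a - 1) = p ^ b := by
    rw [← hb, h1, ← h2, hc, Nat.mul_sub, mul_one]
  obtain ⟨h4, h5⟩ := arith hp ha1 h3
  refine ⟨h4, ?_⟩
  rw [ha', h4, h5, pow_one]

end Cfsg.Agent.S4013
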