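import Mathlib
import Cfsg.Statements.S4014

set_option autoImplicit false
open Cfsg

namespace Cfsg.Agent.S4014

universe u

/-! ### lower bound: derived series of wreath products -/

section Wreath

variable {D Q : Type*} [Group D] [Group Q]

open RegularWreathProduct
open scoped commutatorElement

/-- elements of `D` that are `q₀`-coordinates of base elements of the `(j+1)`-st derived subgroup -/
def coordSubgroup (D Q : Type*) [Group D] [Group Q] (q₀ : Q) (j : ℕ) : Subgroup D where
  carrier := {d | ∃ w ∈ derivedSeries (RegularWreathProduct D Q) (j + 1), w.right = 1 ∧ w.left q₀ = d}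
  one_mem' := ⟨1, Subgroup.one_mem _, rfl, rfl⟩
  mul_mem' := by
    rintro a b ⟨w, hw, hwr, hwl⟩ ⟨w', hw', hwr', hwl'⟩
    refine ⟨w * w', Subgroup.mul_mem _ hw hw', ?_, ?_⟩
    · rw [mul_right, hwr, hwr', one_mul]
    · simp only [mul_left, Pi.mul_apply, hwr, inv_one, one_mul, hwl, hwl']
  inv_mem' := by
    rintro a ⟨w, hw, hwr, hwl⟩
    refine ⟨w⁻¹, Subgroup.inv_mem _ hw, ?_, ?_⟩
    · rw [inv_right, hwr, inv_one]
    · simp only [inv_left, hwr, one_mul, Pi.inv_apply, hwl]

theorem derivedSeries_le_coordSubgroup [DecidableEq Q] (q q₀ : Q) (hq : q ≠ 1) :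
    ∀ j : ℕ, derivedSeries D j ≤ coordSubgroup D Q q₀ j := by
  intro j
  induction j with
  | zero =>
    intro d _
    refine ⟨⁅(⟨Pi.mulSingle q₀ d, 1⟩ : RegularWreathProduct D Q), (inl q : RegularWreathProduct D Q)⁆,
      ?_, ?_, ?_⟩
    · rw [derivedSeries_succ, derivedSeries_zero]
      exact Subgroup.commutator_mem_commutator (Subgroup.mem_top _) (Subgroup.mem_top _)
    · simp [commutatorElement_def, mul_right, inv_right]
    · have hne : q⁻¹ * q₀ ≠ q₀ := by
        intro h
        apply hq
        have : q⁻¹ = 1 := mul_eq_right.mp h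
        simpa using this
      simp [commutatorElement_def, mul_left, inv_left, mul_right, inv_right, Pi.mulSingle_eq_of_ne hne]
  | succ j ih =>
    rw [derivedSeries_succ, Subgroup.commutator_le]
    intro d₁ hd₁ d₂ hd₂
    obtain ⟨w₁, hw₁, hwr₁, hwl₁⟩ := ih hd₁
    obtain ⟨w₂, hw₂, hwr₂, hwl₂⟩ := ih hd₂
    refine ⟨⁅w₁, w₂⁆, ?_, ?_, ?_⟩
    · rw [derivedSeries_succ]
      exact Subgroup.commutator_mem_commutator hw₁ hw₂
    · simp [commutatorElement_def, mul_right, inv_right, hwr₁, hwr₂]
    · simp [commutatorElement_def, mul_left, inv_left, mul_right, inv_right, hwr₁, hwr₂, hwl₁, hwl₂]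

end Wreath

theorem iwp_derived_ne_bot (G : Type u) [Group G] [Nontrivial G] [DecidableEq G] :
    ∀ m : ℕ, derivedSeries (IteratedWreathProduct G (m + 1)) m ≠ ⊥ := by
  intro m
  induction m with
  | zero =>
    rw [derivedSeries_zero]
    obtain ⟨g, hg⟩ := exists_ne (1 : G)
    intro h
    have h1 : (RegularWreathProduct.inl g : RegularWreathProduct (IteratedWreathProduct G 0) G) ∈
        (⊤ : Subgroup (RegularWreathProduct (IteratedWreathProduct G 0) G)) := Subgroup.mem_top _
    have h2 : (⊤ : Subgroup (RegularWreathProduct (IteratedWreathProduct G 0) G)) = ⊥ := h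
    rw [h2, Subgroup.mem_bot] at h1
    apply hg
    have := congrArg RegularWreathProduct.right h1
    exact this
  | succ m ih =>
    obtain ⟨g, hg⟩ := exists_ne (1 : G)
    obtain ⟨d, hd1⟩ := (Subgroup.ne_bot_iff_exists_ne_one).mp ih
    intro h
    obtain ⟨w, hw, -, hwl⟩ := derivedSeries_le_coordSubgroup (D := IteratedWreathProduct G (m + 1))
      (Q := G) g 1 hg m d.2
    have h2 : derivedSeries (RegularWreathProduct (IteratedWreathProduct G (m + 1)) G) (m + 1) = ⊥ := h
    rw [h2, Subgroup.mem_bot] at hw
    apply hd1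
    apply Subtype.ext
    rw [← hwl, hw]
    rfl

/-! ### upper bound -/

theorem derivedSeries_succ_eq_map (G : Type*) [Group G] (n : ℕ) :
    derivedSeries G (n + 1) =
      (derivedSeries (derivedSeries G 1) n).map (derivedSeries G 1).subtype := by
  induction n with
  | zero =>
    rw [derivedSeries_zero, ← MonoidHom.range_eq_map, Subgroup.range_subtype]
  | succ n ih =>
    rw [derivedSeries_succ, ih, derivedSeries_succ (↥(derivedSeries G 1)), Subgroup.map_commutator]

theorem derivedSeries_eq_bot_of_orbits {p : ℕ} [hp : Fact p.Prime] {Ω : Type*} [Finite Ω] :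
    ∀ (j : ℕ) (P : Type u) [Group P] [Finite P] [MulAction P Ω] [FaithfulSMul P Ω],
      IsPGroup p P → (∀ α : Ω, (MulAction.orbit P α).ncard ≤ p ^ j) → derivedSeries P j = ⊥ := by
  intro j
  induction j with
  | zero =>
    intro P _ _ _ _ _ horb
    have hsub : Subsingleton P := by
      refine ⟨fun g h => ?_⟩
      apply FaithfulSMul.eq_of_smul_eq_smul (α := Ω)
      intro α
      have h1 := (Set.ncard_le_one (Set.toFinite _)).mp (by have := horb α; rwa [pow_zero] at this)
      exact h1 _ ⟨g, rfl⟩ _ ⟨h, rfl⟩
    exact Subgroup.eq_bot_of_subsingleton _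
  | succ j ih =>
    intro P _ _ _ _ hP horb
    rw [derivedSeries_succ_eq_map]
    have key : derivedSeries (↥(derivedSeries P 1)) j = ⊥ := by
      apply ih (↥(derivedSeries P 1)) (hP.to_subgroup _)
      intro α
      by_cases hS : MulAction.stabilizer P α = ⊤
      · have hsub : MulAction.orbit (↥(derivedSeries P 1)) α ⊆ {α} := by
          rintro x ⟨g, rfl⟩
          have : (g : P) ∈ MulAction.stabilizer P α := by rw [hS]; exact Subgroup.mem_top _
          exact MulAction.mem_stabilizer_iff.mp this
        calc (MulAction.orbit (↥(derivedSeries P 1)) α).ncard ≤ ({α} : Set Ω).ncard :=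
              Set.ncard_le_ncard hsub (Set.toFinite _)
          _ = 1 := Set.ncard_singleton α
          _ ≤ p ^ j := Nat.one_le_pow _ _ hp.out.pos
      · set S := MulAction.stabilizer P α with hSdef
        obtain ⟨a, ha⟩ := IsPGroup.iff_card.mp hP
        obtain ⟨i, hi⟩ := IsPGroup.iff_card.mp (hP.to_subgroup S)
        have hlt : Nat.card S < Nat.card P := by
          rcases Nat.lt_or_ge (Nat.card S) (Nat.card P) with h | h
          · exact h
          · exact absurd (Subgroup.eq_top_of_card_eq S (le_antisymm (Subgroup.card_le_card_group S) h)) hS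
        have hia : i < a := by
          rw [ha, hi] at hlt
          exact (Nat.pow_lt_pow_iff_right hp.out.one_lt).mp hlt
        have hdvd : p ^ (a - 1) ∣ Nat.card P := by
          rw [ha]
          exact pow_dvd_pow p (Nat.sub_le a 1)
        obtain ⟨M, hMcard, hSM⟩ := Sylow.exists_subgroup_card_pow_prime_le p hdvd S hi (by omega)
        have hMidx : M.index = p := by
          have h1 := Subgroup.index_mul_card M
          rw [hMcard, ha] at h1
          have h2 : p ^ a = p * p ^ (a - 1) := by
            rw [← pow_succ']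
            congr 1
            omega
          rw [h2] at h1
          exact Nat.eq_of_mul_eq_mul_right (pow_pos hp.out.pos _) h1
        have hMn : M.Normal := by
          apply Subgroup.normal_of_index_eq_minFac_card
          rw [hMidx, ha, Nat.pow_minFac (by omega), Nat.Prime.minFac_eq hp.out]
        have hquot : Nat.card (P ⧸ M) = p := by rw [← Subgroup.index_eq_card, hMidx]
        haveI : IsCyclic (P ⧸ M) := isCyclic_of_prime_card hquot
        have hcomm : IsMulCommutative (P ⧸ M) := IsCyclic.isMulCommutative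
        have hle : derivedSeries P 1 ≤ M := by
          rw [derivedSeries_one]
          exact Subgroup.Normal.quotient_commutative_iff_commutator_le.mp hcomm
        have hsub : MulAction.orbit (↥(derivedSeries P 1)) α ⊆ MulAction.orbit (↥M) α := by
          rintro x ⟨g, rfl⟩
          exact ⟨⟨g, hle g.2⟩, rfl⟩
        have hstab : MulAction.stabilizer (↥M) α = S.subgroupOf M := by
          ext g
          rw [MulAction.mem_stabilizer_iff, Subgroup.mem_subgroupOf, hSdef,
            MulAction.mem_stabilizer_iff]
          rfl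
        have h1 : (MulAction.orbit (↥M) α).ncard = S.relIndex M := by
          rw [← MulAction.index_stabilizer, hstab]
          rfl
        have h2 := Subgroup.relIndex_mul_index hSM
        have h3 : S.index = (MulAction.orbit P α).ncard := MulAction.index_stabilizer P α
        have h4 := horb α
        rw [← h3, ← h2, hMidx, pow_succ] at h4
        have h5 : S.relIndex M ≤ p ^ j := Nat.le_of_mul_le_mul_right h4 hp.out.pos
        calc (MulAction.orbit (↥(derivedSeries P 1)) α).ncard ≤ (MulAction.orbit (↥M) α).ncard :=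
              Set.ncard_le_ncard hsub (Set.toFinite _)
          _ = S.relIndex M := h1
          _ ≤ p ^ j := h5
    rw [key, Subgroup.map_bot]

theorem result (p : ℕ) [Fact p.Prime] (n : ℕ) (hn : 1 ≤ n) (P : Sylow p (Equiv.Perm (Fin n))) : derivedSeries ↥(P : Subgroup (Equiv.Perm (Fin n))) (Nat.log p n) = ⊥ ∧ (1 ≤ Nat.log p n → derivedSeries ↥(P : Subgroup (Equiv.Perm (Fin n))) (Nat.log p n - 1) ≠ ⊥) := by
  have hp : p.Prime := Fact.out
  constructor
  · apply derivedSeries_eq_bot_of_orbits (p := p) (Ω := Fin n) _ _ P.isPGroup'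
    intro α
    have h1 : (MulAction.orbit (↥(P : Subgroup (Equiv.Perm (Fin n)))) α).ncard ∣
        Nat.card (↥(P : Subgroup (Equiv.Perm (Fin n)))) := by
      rw [← MulAction.index_stabilizer]
      exact Subgroup.index_dvd_card _
    obtain ⟨a, ha⟩ := IsPGroup.iff_card.mp P.isPGroup'
    rw [ha] at h1
    obtain ⟨i, -, hi⟩ := (Nat.dvd_prime_pow hp).mp h1
    have h2 : (MulAction.orbit (↥(P : Subgroup (Equiv.Perm (Fin n)))) α).ncard ≤ n := by
      calc (MulAction.orbit (↥(P : Subgroup (Equiv.Perm (Fin n)))) α).ncard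
          ≤ (Set.univ : Set (Fin n)).ncard := Set.ncard_le_ncard (Set.subset_univ _) (Set.toFinite _)
        _ = n := by rw [Set.ncard_univ, Nat.card_fin]
    have h3 : n < p ^ (Nat.log p n + 1) := Nat.lt_pow_succ_log_self hp.one_lt n
    rw [hi] at h2 ⊢
    have h4 : i < Nat.log p n + 1 := (Nat.pow_lt_pow_iff_right hp.one_lt).mp (lt_of_le_of_lt h2 h3)
    exact Nat.pow_le_pow_right hp.pos (by omega)
  · intro hk
    classical
    obtain ⟨m, hm⟩ : ∃ m, Nat.log p n = m + 1 := ⟨Nat.log p n - 1, by omega⟩
    rw [hm, Nat.add_sub_cancel]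
    -- the iterated wreath product
    let G := Multiplicative (ZMod p)
    haveI : Fact (1 < p) := ⟨hp.one_lt⟩
    haveI : NeZero p := ⟨hp.ne_zero⟩
    have hGcard : Nat.card G = p := by
      show Nat.card (Multiplicative (ZMod p)) = p
      rw [Nat.card_eq_fintype_card, Fintype.card_multiplicative, ZMod.card]
    haveI : Nontrivial G := by
      rw [← Finite.one_lt_card_iff_nontrivial, hGcard]
      exact hp.one_lt
    have hW := iwp_derived_ne_bot G m
    have hWp : IsPGroup p (IteratedWreathProduct G (m + 1)) := by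
      apply IsPGroup.of_card (n := ∑ i ∈ Finset.range (m + 1), p ^ i)
      rw [IteratedWreathProduct.card, hGcard]
    -- embedding into Perm (Fin n)
    have hcard : Fintype.card (Fin (m + 1) → G) ≤ Fintype.card (Fin n) := by
      rw [← Nat.card_eq_fintype_card, Nat.card_fun, Nat.card_fin, hGcard, Fintype.card_fin, ← hm]
      exact Nat.pow_log_le_self p (by omega)
    obtain ⟨ι⟩ := Function.Embedding.nonempty_of_card_le hcard
    let f : IteratedWreathProduct G (m + 1) →* Equiv.Perm (Fin n) :=
      (Equiv.Perm.viaEmbeddingHom ι).comp (iteratedWreathToPermHom G (m + 1))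
    have hf : Function.Injective f :=
      (Equiv.Perm.viaEmbeddingHom_injective ι).comp (iteratedWreathToPermHomInj G (m + 1))
    have hrange : IsPGroup p f.range := hWp.of_equiv (MonoidHom.ofInjective hf)
    obtain ⟨Q, hQ⟩ := hrange.exists_le_sylow
    obtain ⟨g, hg⟩ := MulAction.exists_smul_eq (Equiv.Perm (Fin n)) Q P
    have hmem : ∀ w, (MulAut.conj g).toMonoidHom.comp f w ∈ (P : Subgroup (Equiv.Perm (Fin n))) := by
      intro w
      have h1 : f w ∈ (Q : Subgroup (Equiv.Perm (Fin n))) := hQ ⟨w, rfl⟩
      have h2 := Subgroup.smul_mem_pointwise_smul (f w) (MulAut.conj g)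
        (Q : Subgroup (Equiv.Perm (Fin n))) h1
      rw [← Sylow.pointwise_smul_def, ← Sylow.smul_def, hg] at h2
      exact h2
    let φ : IteratedWreathProduct G (m + 1) →* ↥(P : Subgroup (Equiv.Perm (Fin n))) :=
      MonoidHom.codRestrict ((MulAut.conj g).toMonoidHom.comp f) (P : Subgroup (Equiv.Perm (Fin n))) hmem
    have hφ : Function.Injective φ := by
      intro w w' h
      have h1 : (MulAut.conj g) (f w) = (MulAut.conj g) (f w') := congrArg Subtype.val h
      exact hf ((MulAut.conj g).injective h1)
    have hle := map_derivedSeries_le_derivedSeries φ m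
    obtain ⟨d, hd1⟩ := (Subgroup.ne_bot_iff_exists_ne_one).mp hW
    intro hbot
    have h1 : φ d ∈ derivedSeries (↥(P : Subgroup (Equiv.Perm (Fin n)))) m :=
      hle (Subgroup.mem_map_of_mem φ d.2)
    rw [hbot, Subgroup.mem_bot] at h1
    apply hd1
    apply Subtype.ext
    apply hφ
    rw [h1, Subgroup.coe_one, map_one]

end Cfsg.Agent.S4014
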