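import Mathlib
import Cfsg.Statements.S4015

set_option autoImplicit false
open Cfsg

namespace Cfsg.Agent.S4015

open scoped Nat commutatorElement

universe u

/-! ### relative derived series -/

section DS
variable {G : Type*} [Group G]

/-- the derived series starting from a subgroup -/
def ds (H : Subgroup G) : ℕ → Subgroup G
  | 0 => H
  | k + 1 => ⁅ds H k, ds H k⁆

theorem ds_zero (H : Subgroup G) : ds H 0 = H := rfl

theorem ds_succ (H : Subgroup G) (k : ℕ) : ds H (k + 1) = ⁅ds H k, ds H k⁆ := rfl

theorem ds_top (k : ℕ) : ds (⊤ : Subgroup G) k = derivedSeries G k := by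
  induction k with
  | zero => rfl
  | succ k ih => rw [ds_succ, ih, derivedSeries_succ]

theorem ds_mono {H K : Subgroup G} (h : H ≤ K) (k : ℕ) : ds H k ≤ ds K k := by
  induction k with
  | zero => exact h
  | succ k ih => exact Subgroup.commutator_mono ih ih

theorem ds_map {G' : Type*} [Group G'] (f : G →* G') (H : Subgroup G) (k : ℕ) :
    (ds H k).map f = ds (H.map f) k := by
  induction k with
  | zero => rfl
  | succ k ih => rw [ds_succ, ds_succ, Subgroup.map_commutator, ih]

theorem ds_derived (j k : ℕ) : ds (derivedSeries G j) k = derivedSeries G (j + k) := by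
  induction k with
  | zero => rfl
  | succ k ih => rw [ds_succ, ih, ← add_assoc, derivedSeries_succ]

end DS

section Basic
variable {X Y : Type*} [Group X] [Group Y]

theorem ds_pi_bot {ι : Type*} (k : ℕ) (h : derivedSeries X k = ⊥) :
    derivedSeries (ι → X) k = ⊥ := by
  rw [eq_bot_iff]
  intro f hf
  rw [Subgroup.mem_bot]
  funext i
  have h1 : (Pi.evalMonoidHom (fun _ : ι => X) i) f ∈
      (derivedSeries (ι → X) k).map (Pi.evalMonoidHom (fun _ : ι => X) i) :=
    Subgroup.mem_map_of_mem _ hf
  have h2 := map_derivedSeries_le_derivedSeries (Pi.evalMonoidHom (fun _ : ι => X) i) k h1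
  rw [h, Subgroup.mem_bot] at h2
  exact h2

theorem ds_pi_ne_bot {ι : Type*} [Nonempty ι] (k : ℕ) (h : derivedSeries X k ≠ ⊥) :
    derivedSeries (ι → X) k ≠ ⊥ := by
  intro h0
  obtain ⟨i⟩ := ‹Nonempty ι›
  have hs : Function.Surjective (Pi.evalMonoidHom (fun _ : ι => X) i) :=
    fun x => ⟨fun _ => x, rfl⟩
  have := map_derivedSeries_eq (f := Pi.evalMonoidHom (fun _ : ι => X) i) hs k
  rw [h0, Subgroup.map_bot] at this
  exact h this.symm

theorem ds_prod_bot (k : ℕ) (hX : derivedSeries X k = ⊥) (hY : derivedSeries Y k = ⊥) :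
    derivedSeries (X × Y) k = ⊥ := by
  rw [eq_bot_iff]
  intro z hz
  rw [Subgroup.mem_bot]
  have h1 := map_derivedSeries_le_derivedSeries (MonoidHom.fst X Y) k
    (Subgroup.mem_map_of_mem _ hz)
  have h2 := map_derivedSeries_le_derivedSeries (MonoidHom.snd X Y) k
    (Subgroup.mem_map_of_mem _ hz)
  rw [hX, Subgroup.mem_bot] at h1
  rw [hY, Subgroup.mem_bot] at h2
  exact Prod.ext h1 h2

theorem ds_prod_ne_bot (k : ℕ) (hX : derivedSeries X k ≠ ⊥) : derivedSeries (X × Y) k ≠ ⊥ := by
  intro h0
  have hs : Function.Surjective (MonoidHom.fst X Y) := fun x => ⟨(x, 1), rfl⟩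
  have := map_derivedSeries_eq (f := MonoidHom.fst X Y) hs k
  rw [h0, Subgroup.map_bot] at this
  exact hX this.symm

theorem ds_equiv (e : X ≃* Y) (k : ℕ) : derivedSeries X k = ⊥ ↔ derivedSeries Y k = ⊥ := by
  have := map_derivedSeries_eq (f := e.toMonoidHom) e.surjective k
  rw [← this, Subgroup.map_eq_bot_iff_of_injective _ e.injective]

theorem sylow_equiv_of_model_p {p : ℕ} [Fact p.Prime] {G W : Type*} [Group G] [Finite G]
    [Group W] (Ψ : W →* G) (hΨ : Function.Injective Ψ)
    (hW : Nat.card W = p ^ (Nat.card G).factorization p)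
    (S : Sylow p G) : Nonempty (W ≃* (S : Subgroup G)) := by
  have hr : Nat.card Ψ.range = p ^ (Nat.card G).factorization p := by
    rw [← hW]
    exact Nat.card_congr (MonoidHom.ofInjective hΨ).toEquiv.symm
  let P0 : Sylow p G := Sylow.ofCard _ hr
  have e1 : W ≃* (P0 : Subgroup G) := MonoidHom.ofInjective hΨ
  exact ⟨e1.trans (Sylow.equiv P0 S)⟩

end Basic

/-! ### wreath products with `C_p` -/

section Wreath
variable (p : ℕ) [Fact p.Prime] (X : Type*) [Group X]

/-- translation action of `C_p` on functions `ZMod p → X` -/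
def shiftAut : Multiplicative (ZMod p) →* MulAut (ZMod p → X) where
  toFun c :=
    { toFun := fun f i => f (i + Multiplicative.toAdd c)
      invFun := fun f i => f (i - Multiplicative.toAdd c)
      left_inv := fun f => by funext i; simp
      right_inv := fun f => by funext i; simp
      map_mul' := fun f g => rfl }
  map_one' := by
    ext f i
    simp
  map_mul' c d := by
    ext f i
    simp [add_assoc]

theorem shiftAut_apply (c : Multiplicative (ZMod p)) (f : ZMod p → X) (i : ZMod p) :
    shiftAut p X c f i = f (i + Multiplicative.toAdd c) := rfl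

/-- the wreath product `X ≀ C_p` -/
abbrev Wr := (ZMod p → X) ⋊[shiftAut p X] Multiplicative (ZMod p)

instance [Finite X] : Finite (Wr p X) := Finite.of_equiv _ SemidirectProduct.equivProd.symm

theorem card_Wr [Finite X] : Nat.card (Wr p X) = Nat.card X ^ p * p := by
  rw [SemidirectProduct.card, Nat.card_fun, Nat.card_zmod]
  congr 1
  exact (Nat.card_congr Multiplicative.toAdd).trans (Nat.card_zmod p)

theorem comm_le_range :
    commutator (Wr p X) ≤ (SemidirectProduct.inl : (ZMod p → X) →* Wr p X).range := by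
  rw [SemidirectProduct.range_inl_eq_ker_rightHom]
  exact Abelianization.commutator_subset_ker _

/-- the derived subgroup of the wreath product, seen inside the base group -/
def Ecomm : Subgroup (ZMod p → X) :=
  (commutator (Wr p X)).comap (SemidirectProduct.inl : (ZMod p → X) →* Wr p X)

theorem map_Ecomm :
    (Ecomm p X).map (SemidirectProduct.inl : (ZMod p → X) →* Wr p X) = commutator (Wr p X) := by
  rw [Ecomm, Subgroup.map_comap_eq, inf_eq_right]
  exact comm_le_range p X

theorem derived_Wr (k : ℕ) : derivedSeries (Wr p X) (k + 1) =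
    (ds (Ecomm p X) k).map (SemidirectProduct.inl : (ZMod p → X) →* Wr p X) := by
  rw [ds_map, map_Ecomm, ← derivedSeries_one, ds_derived, add_comm]

theorem wr_upper (k : ℕ) (h : derivedSeries X k = ⊥) :
    derivedSeries (Wr p X) (k + 1) = ⊥ := by
  rw [derived_Wr]
  have h1 : ds (Ecomm p X) k ≤ ds ⊤ k := ds_mono le_top k
  rw [ds_top, ds_pi_bot k h, le_bot_iff] at h1
  rw [h1, Subgroup.map_bot]

theorem map_eval_Ecomm :
    (Ecomm p X).map (Pi.evalMonoidHom (fun _ : ZMod p => X) 0) = ⊤ := by
  classical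
  rw [eq_top_iff]
  intro x _
  set c : Multiplicative (ZMod p) := Multiplicative.ofAdd 1 with hc
  refine ⟨Pi.mulSingle 0 x * shiftAut p X c (Pi.mulSingle 0 x)⁻¹, ?_, ?_⟩
  · show (SemidirectProduct.inl (Pi.mulSingle 0 x * shiftAut p X c (Pi.mulSingle 0 x)⁻¹) :
      Wr p X) ∈ commutator (Wr p X)
    have e : (SemidirectProduct.inl
        (Pi.mulSingle 0 x * shiftAut p X c (Pi.mulSingle 0 x)⁻¹) : Wr p X) =
        ⁅(SemidirectProduct.inl (Pi.mulSingle 0 x) : Wr p X), SemidirectProduct.inr c⁆ := by
      simp only [commutatorElement_def, map_mul, map_inv, SemidirectProduct.inl_aut]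
      group
    rw [e, commutator_def]
    exact Subgroup.commutator_mem_commutator (Subgroup.mem_top _) (Subgroup.mem_top _)
  · rw [Pi.evalMonoidHom_apply, Pi.mul_apply, shiftAut_apply, Pi.inv_apply, Pi.mulSingle_eq_same, zero_add, hc,
      toAdd_ofAdd, Pi.mulSingle_eq_of_ne one_ne_zero, inv_one, mul_one]

theorem wr_lower (k : ℕ) (h : derivedSeries X k ≠ ⊥) :
    derivedSeries (Wr p X) (k + 1) ≠ ⊥ := by
  rw [derived_Wr]
  intro h0
  rw [Subgroup.map_eq_bot_iff_of_injective _ SemidirectProduct.inl_injective] at h0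
  have h1 := ds_map (Pi.evalMonoidHom (fun _ : ZMod p => X) 0) (Ecomm p X) k
  rw [h0, Subgroup.map_bot, map_eval_Ecomm, ds_top] at h1
  exact h h1.symm

end Wreath

/-! ### linear representations -/

section Rep
variable {F : Type u} [Field F]

/-- componentwise representation of a power -/
def baseRep {ι : Type*} {X : Type*} [Group X] {W : Type*} [AddCommGroup W] [Module F W]
    (g : X →* (W ≃ₗ[F] W)) : (ι → X) →* ((ι → W) ≃ₗ[F] (ι → W)) where
  toFun u := LinearEquiv.piCongrRight fun i => g (u i)
  map_one' := by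
    ext v i
    simp
  map_mul' u u' := by
    ext v i
    simp

theorem baseRep_apply {ι : Type*} {X : Type*} [Group X] {W : Type*} [AddCommGroup W] [Module F W]
    (g : X →* (W ≃ₗ[F] W)) (u : ι → X) (v : ι → W) (i : ι) :
    baseRep g u v i = g (u i) (v i) := rfl

theorem baseRep_injective {ι : Type*} {X : Type*} [Group X] {W : Type*} [AddCommGroup W]
    [Module F W] (g : X →* (W ≃ₗ[F] W)) (hg : Function.Injective g) :
    Function.Injective (baseRep (ι := ι) g) := by
  classical
  rw [injective_iff_map_eq_one]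
  intro u hu
  funext i
  apply hg
  rw [Pi.one_apply, map_one]
  ext w
  have := congrFun (congrArg (fun f : (ι → W) ≃ₗ[F] (ι → W) => f (Pi.single i w)) hu) i
  simpa [baseRep_apply] using this

/-- translation representation of `C_p` -/
def topRep (p : ℕ) [Fact p.Prime] (W : Type*) [AddCommGroup W] [Module F W] :
    Multiplicative (ZMod p) →* ((ZMod p → W) ≃ₗ[F] (ZMod p → W)) where
  toFun c := LinearEquiv.funCongrLeft F W (Equiv.addRight (Multiplicative.toAdd c))
  map_one' := by
    ext v i
    simp [LinearEquiv.funCongrLeft_apply, LinearMap.funLeft_apply]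
  map_mul' c d := by
    ext v i
    simp [LinearEquiv.funCongrLeft_apply, LinearMap.funLeft_apply, add_assoc]

theorem topRep_apply (p : ℕ) [Fact p.Prime] (W : Type*) [AddCommGroup W] [Module F W]
    (c : Multiplicative (ZMod p)) (v : ZMod p → W) (i : ZMod p) :
    topRep (F := F) p W c v i = v (i + Multiplicative.toAdd c) := by
  simp [topRep, LinearEquiv.funCongrLeft_apply, LinearMap.funLeft_apply]

theorem wr_compat (p : ℕ) [Fact p.Prime] {X : Type*} [Group X] {W : Type*} [AddCommGroup W]
    [Module F W] (g : X →* (W ≃ₗ[F] W)) (c : Multiplicative (ZMod p)) :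
    (baseRep (ι := ZMod p) g).comp (MulEquiv.toMonoidHom (shiftAut p X c)) =
      (MulEquiv.toMonoidHom (MulAut.conj (topRep (F := F) p W c))).comp (baseRep g) := by
  apply MonoidHom.ext
  intro u
  simp only [MonoidHom.coe_comp, Function.comp_apply, MulEquiv.coe_toMonoidHom, MulAut.conj_apply]
  rw [eq_mul_inv_iff_mul_eq]
  ext v i
  simp only [LinearEquiv.mul_apply, baseRep_apply, topRep_apply, shiftAut_apply]

/-- the representation of the wreath product -/
def wrRep (p : ℕ) [Fact p.Prime] {X : Type*} [Group X] {W : Type*} [AddCommGroup W]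
    [Module F W] (g : X →* (W ≃ₗ[F] W)) : Wr p X →* ((ZMod p → W) ≃ₗ[F] (ZMod p → W)) :=
  SemidirectProduct.lift (baseRep g) (topRep p W) (wr_compat p g)

theorem wrRep_injective (p : ℕ) [Fact p.Prime] {X : Type*} [Group X] {W : Type*}
    [AddCommGroup W] [Module F W] [Nontrivial W] (g : X →* (W ≃ₗ[F] W))
    (hg : Function.Injective g) : Function.Injective (wrRep p g) := by
  classical
  rw [injective_iff_map_eq_one]
  intro x hx
  have e : wrRep p g x = baseRep g x.left * topRep (F := F) p W x.right := by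
    conv_lhs => rw [← SemidirectProduct.inl_left_mul_inr_right x]
    rw [map_mul, wrRep, SemidirectProduct.lift_inl, SemidirectProduct.lift_inr]
  rw [e] at hx
  have hc : Multiplicative.toAdd x.right = 0 := by
    by_contra hne
    obtain ⟨w₀, hw₀⟩ := exists_ne (0 : W)
    have h1 := congrFun (congrArg (fun f : (ZMod p → W) ≃ₗ[F] (ZMod p → W) =>
      f (Pi.single (Multiplicative.toAdd x.right) w₀)) hx) 0
    simp only [LinearEquiv.mul_apply, baseRep_apply, topRep_apply, zero_add, Pi.single_eq_same,
      LinearEquiv.coe_one, id_eq] at h1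
    rw [Pi.single_eq_of_ne (Ne.symm hne)] at h1
    exact hw₀ ((LinearEquiv.map_eq_zero_iff _).mp h1)
  have hr : x.right = 1 := by
    apply Multiplicative.toAdd.injective
    rw [hc, toAdd_one]
  rw [hr, map_one, mul_one] at hx
  have hl : x.left = 1 := baseRep_injective g hg (by rw [hx, map_one])
  ext
  · rw [hl]; rfl
  · rw [hr]; rfl

/-- product of two representations -/
def prodRep {X₁ X₂ : Type*} [Group X₁] [Group X₂] {W₁ W₂ : Type*} [AddCommGroup W₁]
    [Module F W₁] [AddCommGroup W₂] [Module F W₂] (g₁ : X₁ →* (W₁ ≃ₗ[F] W₁))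
    (g₂ : X₂ →* (W₂ ≃ₗ[F] W₂)) : X₁ × X₂ →* ((W₁ × W₂) ≃ₗ[F] (W₁ × W₂)) where
  toFun x := (g₁ x.1).prodCongr (g₂ x.2)
  map_one' := by
    ext v <;> simp
  map_mul' x y := by
    ext v <;> simp

theorem prodRep_injective {X₁ X₂ : Type*} [Group X₁] [Group X₂] {W₁ W₂ : Type*} [AddCommGroup W₁]
    [Module F W₁] [AddCommGroup W₂] [Module F W₂] (g₁ : X₁ →* (W₁ ≃ₗ[F] W₁))
    (g₂ : X₂ →* (W₂ ≃ₗ[F] W₂)) (h₁ : Function.Injective g₁) (h₂ : Function.Injective g₂) :
    Function.Injective (prodRep g₁ g₂) := by
  rw [injective_iff_map_eq_one]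
  intro x hx
  refine Prod.ext (h₁ ?_) (h₂ ?_)
  · rw [Prod.fst_one, map_one]
    ext w
    have := congrArg (fun f : (W₁ × W₂) ≃ₗ[F] (W₁ × W₂) => (f (w, 0)).1) hx
    simpa [prodRep] using this
  · rw [Prod.snd_one, map_one]
    ext w
    have := congrArg (fun f : (W₁ × W₂) ≃ₗ[F] (W₁ × W₂) => (f (0, w)).2) hx
    simpa [prodRep] using this

/-- padding by a trivial summand -/
def padRep {W : Type*} [AddCommGroup W] [Module F W] (V₂ : Type*) [AddCommGroup V₂]
    [Module F V₂] : (W ≃ₗ[F] W) →* ((W × V₂) ≃ₗ[F] (W × V₂)) where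
  toFun f := f.prodCongr (LinearEquiv.refl F V₂)
  map_one' := by
    ext v <;> simp
  map_mul' x y := by
    ext v <;> simp

theorem padRep_injective {W : Type*} [AddCommGroup W] [Module F W] (V₂ : Type*) [AddCommGroup V₂]
    [Module F V₂] : Function.Injective (padRep (F := F) (W := W) V₂) := by
  intro f g h
  ext w
  have := congrArg (fun t : (W × V₂) ≃ₗ[F] (W × V₂) => (t (w, 0)).1) h
  simpa [padRep] using this

/-- transport along a linear equivalence -/
def conjHom {V V' : Type*} [AddCommGroup V] [Module F V] [AddCommGroup V'] [Module F V']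
    (ε : V ≃ₗ[F] V') : (V ≃ₗ[F] V) →* (V' ≃ₗ[F] V') where
  toFun f := (ε.symm.trans f).trans ε
  map_one' := by
    ext x
    simp
  map_mul' f g := by
    ext x
    simp

theorem conjHom_injective {V V' : Type*} [AddCommGroup V] [Module F V] [AddCommGroup V']
    [Module F V'] (ε : V ≃ₗ[F] V') : Function.Injective (conjHom ε) := by
  intro f g h
  ext x
  have := congrArg (fun t : V' ≃ₗ[F] V' => ε.symm (t (ε x))) h
  simpa [conjHom] using this

end Rep

/-! ### models: finite groups with a faithful linear representation -/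

/-- a finite group together with a faithful finite-dimensional representation -/
structure Mdl (F : Type u) [Field F] where
  X : Type
  [gX : Group X]
  [fX : Finite X]
  W : Type
  [aW : AddCommGroup W]
  [mW : Module F W]
  [fW : Module.Finite F W]
  g : X →* (W ≃ₗ[F] W)
  inj : Function.Injective g

attribute [instance] Mdl.gX Mdl.fX Mdl.aW Mdl.mW Mdl.fW

section MdlOps
variable {F : Type u} [Field F]

/-- wreath product with `C_p` -/
def Mdl.wr (M : Mdl F) (p : ℕ) [Fact p.Prime] [Nontrivial M.W] : Mdl F where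
  X := Wr p M.X
  W := ZMod p → M.W
  g := wrRep p M.g
  inj := wrRep_injective p M.g M.inj

/-- direct product -/
def Mdl.prod (M₁ M₂ : Mdl F) : Mdl F where
  X := M₁.X × M₂.X
  W := M₁.W × M₂.W
  g := prodRep M₁.g M₂.g
  inj := prodRep_injective M₁.g M₂.g M₁.inj M₂.inj

/-- direct power -/
def Mdl.pow (M : Mdl F) (r : ℕ) : Mdl F where
  X := Fin r → M.X
  W := Fin r → M.W
  g := baseRep M.g
  inj := baseRep_injective M.g M.inj

theorem main_rec (p : ℕ) [hp : Fact p.Prime] :
    ∀ w : ℕ, 1 ≤ w → ∀ (M : Mdl F) (β δ : ℕ), Nontrivial M.W → Nat.card M.X = p ^ β →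
      derivedSeries M.X (δ + 1) = ⊥ → derivedSeries M.X δ ≠ ⊥ →
      ∃ M' : Mdl F, Module.finrank F M'.W = w * Module.finrank F M.W ∧
        Nat.card M'.X = p ^ (β * w + padicValNat p w !) ∧
        derivedSeries M'.X (δ + 1 + Nat.log p w) = ⊥ ∧
        derivedSeries M'.X (δ + Nat.log p w) ≠ ⊥ := by
  intro w
  induction w using Nat.strong_induction_on with
  | _ w ih =>
    intro hw M β δ hW hcard hd1 hd0
    haveI := hW
    have hp2 : 2 ≤ p := hp.out.two_le
    obtain ⟨m, r, hrp, hwe⟩ : ∃ m r, r < p ∧ p * m + r = w :=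
      ⟨w / p, w % p, Nat.mod_lt _ (by omega), Nat.div_add_mod w p⟩
    subst hwe
    have powcard : Nat.card (M.pow r).X = p ^ (β * r) := by
      show Nat.card (Fin r → M.X) = _
      rw [Nat.card_fun, Nat.card_fin, hcard, ← pow_mul]
    have powrank : Module.finrank F (M.pow r).W = r * Module.finrank F M.W := by
      show Module.finrank F (Fin r → M.W) = _
      rw [Module.finrank_pi_fintype, Finset.sum_const, Finset.card_univ, Fintype.card_fin,
        smul_eq_mul]
    have powd1 : derivedSeries (M.pow r).X (δ + 1) = ⊥ := ds_pi_bot _ hd1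
    by_cases hm0 : m = 0
    · subst hm0
      have hr1 : 1 ≤ r := by omega
      have hlog : Nat.log p (p * 0 + r) = 0 := Nat.log_of_lt (by omega)
      have hval : padicValNat p (p * 0 + r) ! = 0 := by
        apply padicValNat.eq_zero_of_not_dvd
        rw [hp.out.dvd_factorial]
        omega
      refine ⟨M.pow r, ?_, ?_, ?_, ?_⟩
      · rw [powrank]
        congr 1
        omega
      · rw [powcard, hval]
        congr 1
        ring
      · rw [hlog, add_zero]
        exact powd1
      · rw [hlog, add_zero]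
        haveI : Nonempty (Fin r) := ⟨⟨0, by omega⟩⟩
        exact ds_pi_ne_bot _ hd0
    · have hm1 : 1 ≤ m := by omega
      have hmw : m < p * m + r := by nlinarith
      have c1 : Nat.card (M.wr p).X = p ^ (p * β + 1) := by
        show Nat.card (Wr p M.X) = _
        rw [card_Wr, hcard, ← pow_mul, pow_succ, mul_comm β p]
      have d1 : derivedSeries (M.wr p).X (δ + 1 + 1) = ⊥ := wr_upper p M.X _ hd1
      have d0 : derivedSeries (M.wr p).X (δ + 1) ≠ ⊥ := wr_lower p M.X _ hd0
      have nt : Nontrivial (M.wr p).W := by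
        show Nontrivial (ZMod p → M.W)
        infer_instance
      have rk : Module.finrank F (M.wr p).W = p * Module.finrank F M.W := by
        show Module.finrank F (ZMod p → M.W) = _
        rw [Module.finrank_pi_fintype, Finset.sum_const, Finset.card_univ, ZMod.card,
          smul_eq_mul]
      obtain ⟨M₂, h1, h2, h3, h4⟩ := ih m hmw hm1 (M.wr p) (p * β + 1) (δ + 1) nt c1 d1 d0
      have hdiv : (p * m + r) / p = m := by
        rw [Nat.mul_add_div (by omega), Nat.div_eq_of_lt hrp, add_zero]
      have hlog : Nat.log p (p * m + r) = Nat.log p m + 1 := by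
        rw [Nat.log_of_one_lt_of_le (by omega) (by nlinarith), hdiv]
      have hval : padicValNat p (p * m + r) ! = padicValNat p m ! + m := by
        rw [padicValNat_factorial_mul_add m hrp, padicValNat_factorial_mul]
      refine ⟨M₂.prod (M.pow r), ?_, ?_, ?_, ?_⟩
      · show Module.finrank F (M₂.W × (M.pow r).W) = _
        rw [Module.finrank_prod, h1, powrank, rk]
        ring
      · show Nat.card (M₂.X × (M.pow r).X) = _
        rw [Nat.card_prod, h2, powcard, ← pow_add, hval]
        congr 1
        ring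
      · rw [hlog]
        apply ds_prod_bot
        · have e : δ + 1 + (Nat.log p m + 1) = δ + 1 + 1 + Nat.log p m := by ring
          rw [e]
          exact h3
        · apply le_bot_iff.mp
          rw [← powd1]
          exact derivedSeries_antitone _ (by omega)
      · rw [hlog]
        apply ds_prod_ne_bot
        have e : δ + (Nat.log p m + 1) = δ + 1 + Nat.log p m := by ring
        rw [e]
        exact h4

end MdlOps

/-! ### valuations -/

section Val

theorem prod_val_p (p : ℕ) (hp : p.Prime) (q N : ℕ) (hpq : ¬ p ∣ q) (hq1 : 1 < q) :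
    (∏ i ∈ Finset.range N, (q ^ N - q ^ i)).factorization p =
      ∑ j ∈ Finset.range N, (q ^ (j + 1) - 1).factorization p := by
  have hq0 : q ≠ 0 := by omega
  have hvq : ∀ i, (q ^ i).factorization p = 0 := by
    intro i
    apply Nat.factorization_eq_zero_of_not_dvd
    intro h
    exact hpq (hp.dvd_of_dvd_pow h)
  have hpow : ∀ k : ℕ, k ≠ 0 → q ^ k - 1 ≠ 0 := by
    intro k hk
    have : 1 < q ^ k := Nat.one_lt_pow hk hq1
    omega
  rw [Nat.factorization_prod, Finsupp.finsetSum_apply]
  · rw [← Finset.sum_range_reflect (fun j => (q ^ (j + 1) - 1).factorization p) N]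
    apply Finset.sum_congr rfl
    intro i hi
    rw [Finset.mem_range] at hi
    have h1 : q ^ N - q ^ i = q ^ i * (q ^ (N - 1 - i + 1) - 1) := by
      rw [Nat.mul_sub_one, ← pow_add]
      congr 2
      omega
    rw [h1, Nat.factorization_mul (pow_ne_zero _ hq0) (hpow _ (by omega))]
    simp only [Finsupp.coe_add, Pi.add_apply]
    rw [hvq, zero_add]
  · intro i hi
    rw [Finset.mem_range] at hi
    have : q ^ i < q ^ N := Nat.pow_lt_pow_right hq1 hi
    omega

theorem sum_val_p (p : ℕ) [hp : Fact p.Prime] (hodd : p ≠ 2) (q : ℕ) (hpq : ¬ p ∣ q)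
    (hq1 : 1 < q) (he0 : 0 < orderOf (q : ZMod p)) (n : ℕ) :
    ∑ j ∈ Finset.range n, (q ^ (j + 1) - 1).factorization p =
      (q ^ orderOf (q : ZMod p) - 1).factorization p * (n / orderOf (q : ZMod p)) +
        padicValNat p (n / orderOf (q : ZMod p)) ! := by
  have key : ∀ k, p ∣ q ^ k - 1 ↔ orderOf (q : ZMod p) ∣ k := by
    intro k
    have h1 : 1 ≤ q ^ k := Nat.one_le_pow _ _ (by omega)
    rw [orderOf_dvd_iff_pow_eq_one, ← ZMod.natCast_eq_zero_iff, Nat.cast_sub h1,
      Nat.cast_pow, Nat.cast_one, sub_eq_zero]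
  generalize orderOf (q : ZMod p) = e at *
  have hqe : 1 < q ^ e := Nat.one_lt_pow (by omega) hq1
  induction n with
  | zero => simp
  | succ n ih =>
    rw [Finset.sum_range_succ, ih, Nat.succ_div]
    by_cases hdiv : e ∣ n + 1
    · rw [if_pos hdiv]
      obtain ⟨t, ht⟩ := hdiv
      have ht0 : t ≠ 0 := by
        rintro rfl
        omega
      have hlte : (q ^ (n + 1) - 1).factorization p =
          (q ^ e - 1).factorization p + padicValNat p t := by
        have h := padicValNat.pow_sub_pow (p := p) (hp.out.odd_of_ne_two hodd) (x := q ^ e)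
          (y := 1) hqe ((key e).mpr dvd_rfl)
          (fun h => hpq (hp.out.dvd_of_dvd_pow h)) ht0
        rw [one_pow, ← pow_mul, ← ht] at h
        rw [Nat.factorization_def _ hp.out, Nat.factorization_def _ hp.out, h]
      have htn : n / e + 1 = t := by
        have h1 : (n + 1) / e = t := by
          rw [ht]
          exact Nat.mul_div_cancel_left t he0
        have h2 := @Nat.succ_div n e
        rw [if_pos ⟨t, ht⟩] at h2
        omega
      rw [hlte, ← htn, Nat.factorial_succ,
        padicValNat.mul (by omega) (Nat.factorial_ne_zero _)]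
      ring
    · rw [if_neg hdiv, add_zero,
        Nat.factorization_eq_zero_of_not_dvd (fun h => hdiv ((key _).mp h)), add_zero]

theorem val_GL_p (p : ℕ) [hp : Fact p.Prime] (hodd : p ≠ 2) {F : Type*} [Field F] [Fintype F]
    (hpq : ¬ p ∣ Fintype.card F) (he0 : 0 < orderOf ((Fintype.card F : ℕ) : ZMod p)) (n : ℕ) :
    (Nat.card (Matrix.GeneralLinearGroup (Fin n) F)).factorization p =
      (Fintype.card F ^ orderOf ((Fintype.card F : ℕ) : ZMod p) - 1).factorization p *
        (n / orderOf ((Fintype.card F : ℕ) : ZMod p)) +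
        padicValNat p (n / orderOf ((Fintype.card F : ℕ) : ZMod p)) ! := by
  have hq1 : 1 < Fintype.card F := Fintype.one_lt_card
  rw [Matrix.card_GL_field,
    Fin.prod_univ_eq_prod_range (fun i => Fintype.card F ^ n - Fintype.card F ^ i),
    prod_val_p p hp.out _ _ hpq hq1, sum_val_p p hodd _ hpq hq1 he0]

end Val

/-! ### the base model: a Sylow `p`-subgroup of the multiplicative group of an extension field -/

theorem base_of_field (p : ℕ) [hp : Fact p.Prime] {F : Type u} [Field F] (K : Type) [Field K]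
    [Finite K] [Algebra F K] [Module.Finite F K] :
    ∃ M : Mdl F, Nontrivial M.W ∧ Module.finrank F M.W = Module.finrank F K ∧
      Nat.card M.X = p ^ (Nat.card K - 1).factorization p ∧
      derivedSeries M.X 1 = ⊥ ∧
      (1 ≤ (Nat.card K - 1).factorization p → derivedSeries M.X 0 ≠ ⊥) := by
  classical
  let B : Sylow p Kˣ := Classical.arbitrary _
  have hinj : Function.Injective
      ((DistribMulAction.toModuleAut F K).comp (B : Subgroup Kˣ).subtype) := by
    intro a b hab
    have h1 : ((a : Kˣ) : K) = ((b : Kˣ) : K) := by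
      have := congrArg (fun f : K ≃ₗ[F] K => f 1) hab
      simpa [Units.smul_def] using this
    exact Subtype.ext (Units.ext h1)
  let M : Mdl F :=
    { X := ↥(B : Subgroup Kˣ)
      W := K
      g := (DistribMulAction.toModuleAut F K).comp (B : Subgroup Kˣ).subtype
      inj := hinj }
  have hcard : Nat.card ↥(B : Subgroup Kˣ) = p ^ (Nat.card K - 1).factorization p := by
    rw [Sylow.card_eq_multiplicity, Nat.card_units]
  refine ⟨M, ?_, ?_, hcard, ?_, ?_⟩
  · show Nontrivial K
    infer_instance
  · rfl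
  · show derivedSeries ↥(B : Subgroup Kˣ) 1 = ⊥
    rw [derivedSeries_one, commutator_def, Subgroup.commutator_eq_bot_iff_le_centralizer]
    intro x _
    rw [Subgroup.mem_centralizer_iff]
    intro y _
    exact mul_comm _ _
  · intro ha
    show derivedSeries ↥(B : Subgroup Kˣ) 0 ≠ ⊥
    rw [derivedSeries_zero]
    intro h
    have hc : Nat.card ↥(B : Subgroup Kˣ) = 1 := by
      have := Subgroup.card_top (G := ↥(B : Subgroup Kˣ))
      rw [h, Subgroup.card_bot] at this
      exact this.symm
    rw [hcard] at hc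
    have h2 : p ^ 1 ≤ p ^ (Nat.card K - 1).factorization p :=
      Nat.pow_le_pow_right hp.out.pos ha
    rw [pow_one] at h2
    have := hp.out.two_le
    omega

theorem base_exists (p : ℕ) [hp : Fact p.Prime] {F : Type u} [Field F] [Fintype F]
    (hpq : ¬ p ∣ Fintype.card F) :
    0 < orderOf ((Fintype.card F : ℕ) : ZMod p) ∧
    ∃ M : Mdl F, Nontrivial M.W ∧
      Module.finrank F M.W = orderOf ((Fintype.card F : ℕ) : ZMod p) ∧
      Nat.card M.X =
        p ^ (Fintype.card F ^ orderOf ((Fintype.card F : ℕ) : ZMod p) - 1).factorization p ∧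
      derivedSeries M.X 1 = ⊥ ∧ derivedSeries M.X 0 ≠ ⊥ := by
  classical
  have hq1 : 1 < Fintype.card F := Fintype.one_lt_card
  have hunit : ((Fintype.card F : ℕ) : ZMod p) ≠ 0 := by
    rw [Ne, ZMod.natCast_eq_zero_iff]
    exact hpq
  have hfin : IsOfFinOrder ((Fintype.card F : ℕ) : ZMod p) := by
    rw [isOfFinOrder_iff_pow_eq_one]
    exact ⟨p - 1, by have := hp.out.two_le; omega, ZMod.pow_card_sub_one_eq_one hunit⟩
  have he0 : 0 < orderOf ((Fintype.card F : ℕ) : ZMod p) := hfin.orderOf_pos
  refine ⟨he0, ?_⟩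
  have hpow1 : ((Fintype.card F : ℕ) : ZMod p) ^ orderOf ((Fintype.card F : ℕ) : ZMod p) = 1 :=
    pow_orderOf_eq_one _
  generalize orderOf ((Fintype.card F : ℕ) : ZMod p) = e at *
  have hqe : 1 < Fintype.card F ^ e := Nat.one_lt_pow (by omega) hq1
  have hdvd : p ∣ Fintype.card F ^ e - 1 := by
    rw [← ZMod.natCast_eq_zero_iff, Nat.cast_sub hqe.le, Nat.cast_pow, Nat.cast_one, sub_eq_zero]
    exact hpow1
  have ha1 : 1 ≤ (Fintype.card F ^ e - 1).factorization p := by
    rw [Nat.factorization_def _ hp.out]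
    exact one_le_padicValNat_of_dvd (by omega) hdvd
  obtain ⟨ℓ, hℓ⟩ := CharP.exists F
  haveI := hℓ
  haveI : Fact ℓ.Prime := ⟨CharP.char_is_prime F ℓ⟩
  haveI : NeZero e := ⟨by omega⟩
  obtain ⟨M, h1, h2, h3, h4, h5⟩ := base_of_field p (F := F) (FiniteField.Extension F ℓ e)
  have hK : Nat.card (FiniteField.Extension F ℓ e) = Fintype.card F ^ e := by
    rw [FiniteField.natCard_extension, Nat.card_eq_fintype_card]
  rw [hK] at h3 h5
  rw [FiniteField.finrank_extension] at h2
  exact ⟨M, h1, h2, h3, h4, h5 ha1⟩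

/-! ### the main theorem -/

/-- Let p be an odd prime, F a finite field with q elements where p does not divide q, and e the multiplicative order of q modulo p. Let n ≥ e and write w = ⌊n/e⌋ and k = ⌊log_p w⌋. Then a Sylow p-subgroup of GL(n, F) has derived length exactly k + 1: its (k+1)-st derived subgroup is trivial and its k-th is not. -/
theorem result (p : ℕ) [Fact p.Prime] (hp : p ≠ 2) (F : Type*) [Field F] [Fintype F] (q : ℕ) (hq : Fintype.card F = q) (hpq : ¬ p ∣ q) (n : ℕ) (hn : orderOf (q : ZMod p) ≤ n) (P : Sylow p (Matrix.GeneralLinearGroup (Fin n) F)) : derivedSeries ↥(P : Subgroup (Matrix.GeneralLinearGroup (Fin n) F)) (Nat.log p (n / orderOf (q : ZMod p)) + 1) = ⊥ ∧ derivedSeries ↥(P : Subgroup (Matrix.GeneralLinearGroup (Fin n) F)) (Nat.log p (n / orderOf (q : ZMod p))) ≠ ⊥ := by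
  subst hq
  classical
  obtain ⟨he0, M, hnt, hrk, hcard, hd1, hd0⟩ := base_exists p (F := F) hpq
  have hvalGL := val_GL_p p hp hpq he0 n
  generalize orderOf ((Fintype.card F : ℕ) : ZMod p) = e at *
  have hw : 1 ≤ n / e := (Nat.one_le_div_iff he0).mpr hn
  obtain ⟨M', h1, h2, h3, h4⟩ := main_rec p (n / e) hw M _ 0 hnt hcard (by simpa using hd1) hd0
  have hfr : Module.finrank F (M'.W × (Fin (n % e) → F)) = Module.finrank F (Fin n → F) := by
    rw [Module.finrank_prod, h1, hrk, Module.finrank_fin_fun, Module.finrank_fin_fun]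
    exact Nat.div_add_mod' n e
  let ε : (M'.W × (Fin (n % e) → F)) ≃ₗ[F] (Fin n → F) := LinearEquiv.ofFinrankEq _ _ hfr
  let Λ : Matrix.GeneralLinearGroup (Fin n) F ≃* ((Fin n → F) ≃ₗ[F] (Fin n → F)) :=
    Matrix.GeneralLinearGroup.toLin.trans (LinearMap.GeneralLinearGroup.generalLinearEquiv F _)
  let Ψ : M'.X →* Matrix.GeneralLinearGroup (Fin n) F :=
    Λ.symm.toMonoidHom.comp ((conjHom ε).comp ((padRep (Fin (n % e) → F)).comp M'.g))
  have hΨ : Function.Injective Ψ :=
    Λ.symm.injective.comp ((conjHom_injective ε).comp ((padRep_injective _).comp M'.inj))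
  have hW : Nat.card M'.X =
      p ^ (Nat.card (Matrix.GeneralLinearGroup (Fin n) F)).factorization p := by
    rw [h2, hvalGL]
  obtain ⟨φ'⟩ := sylow_equiv_of_model_p Ψ hΨ hW P
  constructor
  · rw [← ds_equiv φ']
    have e1 : Nat.log p (n / e) + 1 = 0 + 1 + Nat.log p (n / e) := by ring
    rw [e1]
    exact h3
  · intro h
    apply h4
    rw [ds_equiv φ', zero_add]
    exact h

end Cfsg.Agent.S4015
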