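import Cfsg.Statements.S4018
import Cfsg.Agent.Lib.Helper29.S4018F
import Cfsg.Agent.Lib.Helper27.S4018C2

set_option autoImplicit false
open Cfsg

namespace Cfsg.Agent.S4018

/-- Let G be a finite group with an abelian Sylow 3-subgroup P such that the normalizer of P has order 4·#P, the centralizer C of P has order 2·#P, C meets each of its conjugates by elements outside its normalizer trivially, and every proper subgroup of G of even order has order dividing 4·#P. Then G is not simple. -/
theorem result {G : Type*} [Group G] [Finite G]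
    (P : Sylow 3 G) (hab : IsMulCommutative P)
    (hN : Nat.card (Subgroup.normalizer ((P : Subgroup G) : Set G)) = 4 * Nat.card P)
    (hC : Nat.card (Subgroup.centralizer (P : Set G)) = 2 * Nat.card P)
    (hTI : Cfsg.IsTISubset (Subgroup.centralizer (P : Set G) : Set G))
    (heven : ∀ H : Subgroup G, H ≠ ⊤ → 2 ∣ Nat.card H → Nat.card H ∣ 4 * Nat.card P) :
    ¬ IsSimpleGroup G := by
  intro hs
  classical
  have h : Cfsg.Agent.Lib.Helper29.S4018.Setup P := ⟨hab, hN, hC, hTI, heven, hs⟩
  haveI : Fintype G := Fintype.ofFinite G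
  obtain ⟨a, ha, hm⟩ := h.exists_card
  obtain ⟨v, hvC, hv⟩ := h.exists_v
  obtain ⟨K, hK⟩ := h.exists_K
  haveI : Fintype (Subgroup.centralizer ((P : Subgroup G) : Set G)) := Fintype.ofFinite _
  apply Cfsg.Agent.Lib.Helper29.S4018.final (Subgroup.centralizer ((P : Subgroup G) : Set G)) v a
    (Nat.card P) K ha hm h.hC (h.card_Cv hvC hv) hK
  intro χ hχ
  exact Cfsg.Agent.Lib.Helper27.S4018C.char_identity'
    (Subgroup.centralizer ((P : Subgroup G) : Set G)) v (Nat.card P) K h.card_pos hv h.hTI
    (by rw [h.normalizer_C]; exact h.hN) h.hC (h.card_Cv hvC hv) hK (h.pair_one hvC hv hK)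
    (fun w hw hw1 => h.pair_C hvC hv hw hw1) (fun w hw1 hw => h.pair_zero hvC hv hw1 hw) χ hχ

end Cfsg.Agent.S4018
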