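import Cfsg.Statements.S4023
import Cfsg.Agent.Lib.Helper10.UniqueOrderP
import Cfsg.Agent.Lib.Helper9.Signalizer
import Cfsg.Agent.Lib.Helper23.SylowCount
import Cfsg.Agent.Lib.Helper22.Conj
import Cfsg.Agent.Lib.Helper1.Cores

set_option autoImplicit false
open Cfsg

namespace Cfsg.Agent.S4023

open Subgroup Cfsg.Agent.Lib.Helper10

/-- In a group with elements `a`, `x` satisfying the generalized quaternion relations with
`a` of order `2^(m+3)`, there are subgroups of order `8`, one commutative and one not. -/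
theorem exists_subgroups_card_eight {Q : Type*} [Group Q] [Finite Q] (m : ℕ) (a x : Q)
    (ha : orderOf a = 2 ^ (m + 3)) (hx : orderOf x = 4) (hinv : x * a * x⁻¹ = a⁻¹)
    (hx2 : x ^ 2 = a ^ (2 ^ (m + 2))) :
    ∃ H1 H2 : Subgroup Q, Nat.card H1 = 8 ∧ Nat.card H2 = 8 ∧ IsMulCommutative H1 ∧
      ¬ IsMulCommutative H2 := by
  set b := a ^ (2 ^ (m + 1)) with hb
  set c := a ^ (2 ^ m) with hc
  have hoc : orderOf c = 8 := by
    rw [hc, orderOf_pow_of_dvd (by positivity) (by rw [ha]; exact pow_dvd_pow 2 (by omega)), ha]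
    rw [pow_add]
    rw [Nat.mul_div_cancel_left _ (by positivity)]
    norm_num
  have hob : orderOf b = 4 := by
    rw [hb, orderOf_pow_of_dvd (by positivity) (by rw [ha]; exact pow_dvd_pow 2 (by omega)), ha]
    have : 2 ^ (m + 3) = 2 ^ (m + 1) * 4 := by rw [pow_add, pow_add]; ring
    rw [this, Nat.mul_div_cancel_left _ (by positivity)]
  have hb2 : b ^ 2 = x ^ 2 := by
    rw [hx2, hb, ← pow_mul, pow_succ 2 (m + 1)]
  have hbinv : x * b * x⁻¹ = b⁻¹ := by
    rw [hb, ← conj_pow, hinv, inv_pow]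
  have hbne : b ≠ b⁻¹ := by
    intro h
    have h1 : b ^ 2 = 1 := by rw [pow_two]; nth_rewrite 2 [h]; exact mul_inv_cancel b
    have := orderOf_dvd_of_pow_eq_one h1
    rw [hob] at this
    omega
  have hncomm : x * b ≠ b * x := by
    intro h
    apply hbne
    rw [← hbinv, h]
    group
  have hx2ne : x ^ 2 ≠ 1 := by
    intro h
    have := orderOf_dvd_of_pow_eq_one h
    rw [hx] at this
    omega
  refine ⟨zpowers c, zpowers b ⊔ zpowers x, ?_, ?_, ?_, ?_⟩
  · rw [Nat.card_zpowers, hoc]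
  · have hcA : Nat.card (zpowers b) = 4 := by rw [Nat.card_zpowers, hob]
    have hcB : Nat.card (zpowers x) = 4 := by rw [Nat.card_zpowers, hx]
    have hnorm : zpowers x ≤ normalizer (zpowers b : Set Q) := by
      apply Cfsg.Agent.Lib.Helper9.zpowers_le_normalizer_of_conj_mem
      intro u hu
      obtain ⟨k, rfl⟩ := mem_zpowers_iff.mp hu
      have : x * b ^ k * x⁻¹ = (b⁻¹) ^ k := by rw [← hbinv, ← conj_zpow]
      rw [this]
      exact zpow_mem (inv_mem (mem_zpowers b)) k
    have h1 := Cfsg.Agent.Lib.Helper23.relIndex_sup_of_le_normalizer hnorm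
    have e1 := Cfsg.Agent.Lib.Helper23.relIndex_mul_card' (le_sup_left : zpowers b ≤ zpowers b ⊔ zpowers x)
    have e4 := Cfsg.Agent.Lib.Helper23.relIndex_mul_card' (inf_le_right : zpowers b ⊓ zpowers x ≤ zpowers x)
    rw [Subgroup.inf_relIndex_right] at e4
    rw [h1, hcA] at e1
    rw [hcB] at e4
    have hinfne : zpowers b ⊓ zpowers x ≠ ⊥ := by
      intro h
      have hmem : x ^ 2 ∈ zpowers b ⊓ zpowers x :=
        ⟨hb2 ▸ pow_mem (mem_zpowers b) 2, pow_mem (mem_zpowers x) 2⟩
      rw [h, mem_bot] at hmem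
      exact hx2ne hmem
    have hinf2 : 1 < Nat.card (zpowers b ⊓ zpowers x : Subgroup Q) :=
      (Subgroup.one_lt_card_iff_ne_bot _).mpr hinfne
    have hr1 : (zpowers b).relIndex (zpowers x) ≠ 1 := by
      intro h
      rw [Subgroup.relIndex_eq_one] at h
      have hxb : x ∈ zpowers b := h (mem_zpowers x)
      obtain ⟨k, hk⟩ := mem_zpowers_iff.mp hxb
      apply hncomm
      rw [← hk]
      exact ((Commute.refl b).zpow_left k).eq
    have hr2 : (zpowers b).relIndex (zpowers x) ≤ 2 := by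
      by_contra hgt
      push Not at hgt
      nlinarith
    have hr0 : (zpowers b).relIndex (zpowers x) ≠ 0 := by
      intro h
      rw [h] at e4
      omega
    have : (zpowers b).relIndex (zpowers x) = 2 := by omega
    rw [this] at e1
    omega
  · exact (zpowers_isMulCommutative c)
  · intro hcomm
    have h1 := hcomm.is_comm.comm (⟨x, mem_sup_right (mem_zpowers x)⟩ : ↥(zpowers b ⊔ zpowers x))
      ⟨b, mem_sup_left (mem_zpowers b)⟩
    exact hncomm (congrArg Subtype.val h1)

/-- the quaternion relations in `QuaternionGroup (2 ^ (m + 2))` -/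
theorem quaternion_facts (m : ℕ) :
    orderOf (QuaternionGroup.a 1 : QuaternionGroup (2 ^ (m + 2))) = 2 ^ (m + 3) ∧
    orderOf (QuaternionGroup.xa 0 : QuaternionGroup (2 ^ (m + 2))) = 4 ∧
    (QuaternionGroup.xa 0 : QuaternionGroup (2 ^ (m + 2))) * QuaternionGroup.a 1 *
      (QuaternionGroup.xa 0)⁻¹ = (QuaternionGroup.a 1)⁻¹ ∧
    (QuaternionGroup.xa 0 : QuaternionGroup (2 ^ (m + 2))) ^ 2 =
      (QuaternionGroup.a 1) ^ (2 ^ (m + 2)) := by
  have : NeZero (2 ^ (m + 2)) := ⟨by positivity⟩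
  refine ⟨?_, QuaternionGroup.orderOf_xa 0, ?_, ?_⟩
  · rw [QuaternionGroup.orderOf_a_one, pow_succ 2 (m + 2), mul_comm]
  · have h1 : (QuaternionGroup.a 1 : QuaternionGroup (2 ^ (m + 2)))⁻¹ = QuaternionGroup.a (-1) := by
      symm
      apply eq_inv_of_mul_eq_one_left
      rw [QuaternionGroup.a_mul_a, neg_add_cancel, QuaternionGroup.a_zero]
    rw [h1, mul_inv_eq_iff_eq_mul, QuaternionGroup.xa_mul_a, QuaternionGroup.a_mul_xa]
    simp
  · rw [QuaternionGroup.xa_sq, QuaternionGroup.a_one_pow]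

section main

variable {p : ℕ} [hp : Fact p.Prime] {Q : Type*} [Group Q] [Finite Q]

theorem isMulCommutative_of_mulEquiv {H K : Type*} [Group H] [Group K] (e : H ≃* K)
    (hK : IsMulCommutative K) : IsMulCommutative H :=
  ⟨⟨fun a b => e.injective (by rw [map_mul, map_mul]; exact hK.is_comm.comm _ _)⟩⟩

theorem mul_card_le_of_lt (hQ : IsPGroup p Q) {H K : Subgroup Q} (h : H < K) :
    p * Nat.card H ≤ Nat.card K := by
  have hdvd : Nat.card H ∣ Nat.card K := Subgroup.card_dvd_of_le h.le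
  obtain ⟨a, ha⟩ := (hQ.to_subgroup H).exists_card_eq
  obtain ⟨b, hb⟩ := (hQ.to_subgroup K).exists_card_eq
  have hne : Nat.card H ≠ Nat.card K := by
    intro heq
    exact h.ne (Subgroup.eq_of_le_of_card_ge h.le heq.ge)
  rw [ha, hb] at hdvd hne ⊢
  have hab : a ≤ b := (Nat.pow_dvd_pow_iff_le_right hp.out.one_lt).mp hdvd
  have hab' : a < b := lt_of_le_of_ne hab (fun h => hne (by rw [h]))
  calc p * p ^ a = p ^ (a + 1) := by rw [pow_succ, mul_comm]
    _ ≤ p ^ b := Nat.pow_le_pow_right hp.out.pos hab'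

omit [Finite Q] in
theorem normal_zpowers_of_mem_center {z : Q} (hz : z ∈ center Q) : (zpowers z).Normal := by
  constructor
  intro n hn g
  obtain ⟨k, rfl⟩ := mem_zpowers_iff.mp hn
  have h1 : z ^ k ∈ center Q := zpow_mem hz k
  rw [mem_center_iff] at h1
  rw [h1 g, mul_inv_cancel_right]
  exact zpow_mem (mem_zpowers z) k

theorem exists_central_order_p (hQ : IsPGroup p Q) [Nontrivial Q] :
    ∃ z : Q, z ∈ center Q ∧ orderOf z = p := by
  have hcn := hQ.center_nontrivial
  have hpc : p ∣ Nat.card (center Q) := by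
    rcases (hQ.to_subgroup (center Q)).card_eq_or_dvd with h | h
    · exfalso
      have := (Subgroup.one_lt_card_iff_ne_bot (center Q)).mpr ((Subgroup.nontrivial_iff_ne_bot _).mp hcn)
      omega
    · exact h
  obtain ⟨z, hz⟩ := exists_prime_orderOf_dvd_card' p hpc
  exact ⟨z, z.2, by rw [Subgroup.orderOf_coe]; exact hz⟩

theorem comm_of_card_pow_le_two (n : ℕ) (hn : n ≤ 2) {H : Type*} [Group H] [Finite H]
    (hc : Nat.card H = p ^ n) : IsMulCommutative H := by
  interval_cases n
  · rw [pow_zero, Nat.card_eq_one_iff_unique] at hc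
    obtain ⟨hs, _⟩ := hc
    exact ⟨⟨fun a b => Subsingleton.elim _ _⟩⟩
  · rw [pow_one] at hc
    have := isCyclic_of_prime_card hc
    exact IsCyclic.isMulCommutative
  · exact IsPGroup.isMulCommutative_of_card_eq_prime_sq hc

theorem pow_eq_one_of_not_unique (hQ : IsPGroup p Q)
    (hiso : ∀ H K : Subgroup Q, Nat.card H = Nat.card K → Nonempty (H ≃* K))
    (hnu : ¬ UniqueOrderP p Q) : ∀ v : Q, v ^ p = 1 := by
  have hpp := hp.out
  unfold UniqueOrderP at hnu
  push Not at hnu
  obtain ⟨x, y, hx, hx1, hy, hyx⟩ := hnu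
  have hy1 : y ≠ 1 := fun h => hyx (h ▸ one_mem _)
  have : Nontrivial Q := ⟨⟨x, 1, hx1⟩⟩
  obtain ⟨z, hzc, hz⟩ := exists_central_order_p hQ
  have hcz : Nat.card (zpowers z) = p := by rw [Nat.card_zpowers, hz]
  obtain ⟨w, hw, hw1, hwz⟩ : ∃ w : Q, w ^ p = 1 ∧ w ≠ 1 ∧ w ∉ zpowers z := by
    by_cases hxz : x ∈ zpowers z
    · refine ⟨y, hy, hy1, ?_⟩
      intro hyz
      have hle : zpowers x ≤ zpowers z := zpowers_le.mpr hxz
      have hcx : Nat.card (zpowers x) = p := by rw [Nat.card_zpowers, orderOf_eq_prime hx hx1]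
      have heq : zpowers x = zpowers z := Subgroup.eq_of_le_of_card_ge hle (by rw [hcx, hcz])
      exact hyx (heq ▸ hyz)
    · exact ⟨x, hx, hx1, hxz⟩
  have how : orderOf w = p := orderOf_eq_prime hw hw1
  have hcw : Nat.card (zpowers w) = p := by rw [Nat.card_zpowers, how]
  have hzn : (zpowers z).Normal := normal_zpowers_of_mem_center hzc
  have hEdvd : Nat.card (zpowers w ⊔ zpowers z : Subgroup Q) ∣ p * p := by
    have := Cfsg.Agent.Lib.Helper1.card_sup_dvd_of_normal (zpowers w) (zpowers z)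
    rwa [hcw, hcz] at this
  have hlt : zpowers z < zpowers w ⊔ zpowers z := by
    refine lt_of_le_of_ne le_sup_right ?_
    intro h
    apply hwz
    rw [h]
    exact mem_sup_left (mem_zpowers w)
  have hEge : p * p ≤ Nat.card (zpowers w ⊔ zpowers z : Subgroup Q) := by
    have := mul_card_le_of_lt hQ hlt
    rwa [hcz] at this
  have hE : Nat.card (zpowers w ⊔ zpowers z : Subgroup Q) = p * p :=
    Nat.le_antisymm (Nat.le_of_dvd (Nat.mul_pos hpp.pos hpp.pos) hEdvd) hEge
  intro v
  by_contra hv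
  obtain ⟨k, hk⟩ := hQ v
  obtain ⟨j, hj, hjo⟩ := (Nat.dvd_prime_pow hpp).mp (orderOf_dvd_of_pow_eq_one hk)
  have hj2 : 2 ≤ j := by
    by_contra hlt2
    apply hv
    have : orderOf v ∣ p := by
      rw [hjo]
      interval_cases j
      · simp
      · simp
    exact orderOf_dvd_iff_pow_eq_one.mp this
  obtain ⟨i, rfl⟩ := Nat.exists_eq_add_of_le' hj2
  have hov' : orderOf (v ^ (p ^ i)) = p * p := by
    rw [orderOf_pow_of_dvd (pow_ne_zero i hpp.ne_zero) (by rw [hjo]; exact pow_dvd_pow p (by omega)),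
      hjo, pow_add, Nat.mul_div_cancel_left _ (pow_pos hpp.pos i), pow_two]
  have hcv : Nat.card (zpowers (v ^ (p ^ i))) = p * p := by rw [Nat.card_zpowers, hov']
  obtain ⟨e⟩ := hiso (zpowers w ⊔ zpowers z) (zpowers (v ^ (p ^ i))) (by rw [hE, hcv])
  have hEc : IsCyclic ↥(zpowers w ⊔ zpowers z : Subgroup Q) :=
    isCyclic_of_surjective e.symm e.symm.surjective
  have heq : zpowers w = zpowers z :=
    Cfsg.Agent.Lib.Helper10.eq_of_card_eq_of_le_isCyclic (zpowers w ⊔ zpowers z) _ _
      le_sup_left le_sup_right (by rw [hcw, hcz])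
  exact hwz (heq ▸ mem_zpowers w)

theorem exists_nonabelian_card_cube (hQ : IsPGroup p Q) (hexp : ∀ v : Q, v ^ p = 1)
    (hnc : ¬ IsMulCommutative Q) :
    ∃ H : Subgroup Q, Nat.card H = p ^ 3 ∧ ¬ IsMulCommutative H := by
  have hpp := hp.out
  have hcne : center Q ≠ ⊤ := fun h => hnc (center_eq_top_iff.mp h)
  have hnt : Nontrivial (Q ⧸ center Q) := by
    rw [QuotientGroup.nontrivial_iff]
    exact hcne
  have hQq : IsPGroup p (Q ⧸ center Q) := hQ.to_quotient _
  have hcn := hQq.center_nontrivial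
  obtain ⟨⟨yb, hybc⟩, hyb1⟩ := exists_ne (1 : center (Q ⧸ center Q))
  obtain ⟨y, rfl⟩ := QuotientGroup.mk_surjective yb
  have hyc : y ∉ center Q := by
    intro h
    apply hyb1
    apply Subtype.ext
    exact (QuotientGroup.eq_one_iff y).mpr h
  have hcomm : ∀ g : Q, g⁻¹ * y⁻¹ * g * y ∈ center Q := by
    intro g
    rw [mem_center_iff] at hybc
    have h1 := hybc (QuotientGroup.mk g)
    rw [← QuotientGroup.mk_mul, ← QuotientGroup.mk_mul, QuotientGroup.eq] at h1
    have h2 : (g * y)⁻¹ * (y * g) = (g⁻¹ * y⁻¹ * g * y)⁻¹ := by group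
    rw [h2] at h1
    exact (inv_mem_iff).mp h1
  obtain ⟨x, hxy⟩ : ∃ x : Q, x * y ≠ y * x := by
    by_contra hall
    push Not at hall
    exact hyc (mem_center_iff.mpr hall)
  set z := x⁻¹ * y⁻¹ * x * y with hz
  have hzc : z ∈ center Q := hcomm x
  have hzn : (zpowers z).Normal := normal_zpowers_of_mem_center hzc
  have hcard_le : ∀ t : Q, Nat.card (zpowers t) ∣ p := by
    intro t
    rw [Nat.card_zpowers]
    exact orderOf_dvd_of_pow_eq_one (hexp t)
  have hconj : y⁻¹ * x * (y⁻¹)⁻¹ = x * z := by rw [hz]; group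
  have hconjz : y⁻¹ * z * (y⁻¹)⁻¹ = z := by
    have h1 := mem_center_iff.mp hzc y⁻¹
    rw [h1, mul_inv_cancel_right]
  have hMdvd : Nat.card (zpowers x ⊔ zpowers z : Subgroup Q) ∣ p * p :=
    (Cfsg.Agent.Lib.Helper1.card_sup_dvd_of_normal (zpowers x) (zpowers z)).trans
      (Nat.mul_dvd_mul (hcard_le x) (hcard_le z))
  have hnorm : zpowers y⁻¹ ≤ normalizer ((zpowers x ⊔ zpowers z : Subgroup Q) : Set Q) := by
    apply Cfsg.Agent.Lib.Helper9.zpowers_le_normalizer_of_conj_mem
    have hle : (zpowers x ⊔ zpowers z).map (MulAut.conj y⁻¹).toMonoidHom ≤ zpowers x ⊔ zpowers z := by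
      rw [Subgroup.map_sup, MonoidHom.map_zpowers, MonoidHom.map_zpowers]
      apply sup_le
      · rw [zpowers_le]
        show y⁻¹ * x * (y⁻¹)⁻¹ ∈ _
        rw [hconj]
        exact mul_mem (mem_sup_left (mem_zpowers x)) (mem_sup_right (mem_zpowers z))
      · rw [zpowers_le]
        show y⁻¹ * z * (y⁻¹)⁻¹ ∈ _
        rw [hconjz]
        exact mem_sup_right (mem_zpowers z)
    intro u hu
    exact hle ⟨u, hu, rfl⟩
  have hHdvd : Nat.card ((zpowers x ⊔ zpowers z) ⊔ zpowers y⁻¹ : Subgroup Q) ∣ p ^ 3 := by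
    refine (Cfsg.Agent.Lib.Helper9.card_sup_dvd_of_le_normalizer hnorm).trans ?_
    have : p ^ 3 = p * p * p := by ring
    rw [this]
    exact Nat.mul_dvd_mul hMdvd (hcard_le _)
  have hHnc : ¬ IsMulCommutative ↥((zpowers x ⊔ zpowers z) ⊔ zpowers y⁻¹ : Subgroup Q) := by
    intro hcm
    have h1 := hcm.is_comm.comm
      (⟨x, mem_sup_left (mem_sup_left (mem_zpowers x))⟩ : ↥((zpowers x ⊔ zpowers z) ⊔ zpowers y⁻¹ : Subgroup Q))
      ⟨y⁻¹, mem_sup_right (mem_zpowers y⁻¹)⟩
    have h2 : x * y⁻¹ = y⁻¹ * x := congrArg Subtype.val h1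
    apply hxy
    calc x * y = y * (y⁻¹ * x) * y := by group
      _ = y * (x * y⁻¹) * y := by rw [h2]
      _ = y * x := by group
  refine ⟨_, ?_, hHnc⟩
  obtain ⟨j, hj, hjc⟩ := (Nat.dvd_prime_pow hpp).mp hHdvd
  have hj3 : j = 3 := by
    by_contra hne
    exact hHnc (comm_of_card_pow_le_two j (by omega) hjc)
  rw [hjc, hj3]

theorem exists_abelian_card_cube (hQ : IsPGroup p Q) (hexp : ∀ v : Q, v ^ p = 1)
    (hcard : p ^ 4 ∣ Nat.card Q) :
    ∃ A : Subgroup Q, Nat.card A = p ^ 3 ∧ IsMulCommutative A := by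
  have hpp := hp.out
  have hp4 : p < p ^ 4 := by
    calc p = p ^ 1 := (pow_one p).symm
      _ < p ^ 4 := Nat.pow_lt_pow_right hpp.one_lt (by norm_num)
  have hnt : Nontrivial Q := by
    rw [← Finite.one_lt_card_iff_nontrivial]
    have h1 := Nat.le_of_dvd Nat.card_pos hcard
    have h2 := hpp.one_lt
    omega
  obtain ⟨z, hzc, hz⟩ := exists_central_order_p hQ
  have hcz : Nat.card (zpowers z) = p := by rw [Nat.card_zpowers, hz]
  have hzn : (zpowers z).Normal := normal_zpowers_of_mem_center hzc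
  have hqcard : Nat.card Q = Nat.card (Q ⧸ zpowers z) * p := by
    rw [Subgroup.card_eq_card_quotient_mul_card_subgroup (zpowers z), hcz]
  have hnt' : Nontrivial (Q ⧸ zpowers z) := by
    rw [← Finite.one_lt_card_iff_nontrivial]
    by_contra hle
    have h0 := Nat.card_pos (α := Q ⧸ zpowers z)
    have h1 : Nat.card (Q ⧸ zpowers z) = 1 := by omega
    rw [h1, one_mul] at hqcard
    rw [hqcard] at hcard
    have := Nat.le_of_dvd hpp.pos hcard
    omega
  have hQq : IsPGroup p (Q ⧸ zpowers z) := hQ.to_quotient _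
  have hcn := hQq.center_nontrivial
  obtain ⟨⟨yb, hybc⟩, hyb1⟩ := exists_ne (1 : center (Q ⧸ zpowers z))
  obtain ⟨y, rfl⟩ := QuotientGroup.mk_surjective yb
  have hyz : y ∉ zpowers z := by
    intro h
    apply hyb1
    apply Subtype.ext
    exact (QuotientGroup.eq_one_iff y).mpr h
  have hcomm : ∀ g : Q, g⁻¹ * y⁻¹ * g * y ∈ zpowers z := by
    intro g
    rw [mem_center_iff] at hybc
    have h1 := hybc (QuotientGroup.mk g)
    rw [← QuotientGroup.mk_mul, ← QuotientGroup.mk_mul, QuotientGroup.eq] at h1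
    have h2 : (g * y)⁻¹ * (y * g) = (g⁻¹ * y⁻¹ * g * y)⁻¹ := by group
    rw [h2] at h1
    exact (inv_mem_iff).mp h1
  have hidx : (centralizer ({y} : Set Q)).index ≤ p := by
    rw [Cfsg.Agent.Lib.Helper22.index_centralizer_eq_ncard_setOf_isConj]
    have hsub : {h : Q | IsConj y h} ⊆ (fun t => y * t) '' (zpowers z : Set Q) := by
      intro h hh
      obtain ⟨c, hc⟩ := isConj_iff.mp hh
      refine ⟨y⁻¹ * c * y * c⁻¹, ?_, ?_⟩
      · have h1 := hcomm c⁻¹
        have h2 : y⁻¹ * c * y * c⁻¹ = (c⁻¹⁻¹ * y⁻¹ * c⁻¹ * y)⁻¹ := by group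
        rw [h2]
        exact inv_mem h1
      · show y * (y⁻¹ * c * y * c⁻¹) = h
        rw [← hc]
        group
    calc {h : Q | IsConj y h}.ncard
        ≤ ((fun t => y * t) '' (zpowers z : Set Q)).ncard := Set.ncard_le_ncard hsub (Set.toFinite _)
      _ ≤ (zpowers z : Set Q).ncard := Set.ncard_image_le (Set.toFinite _)
      _ = p := by rw [← hcz]; exact (Nat.card_coe_set_eq _).symm
  have hCcard : p ^ 3 ≤ Nat.card (centralizer ({y} : Set Q)) := by
    have h1 := Subgroup.index_mul_card (centralizer ({y} : Set Q))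
    have h2 : p ^ 4 ≤ Nat.card Q := Nat.le_of_dvd Nat.card_pos hcard
    have h4 : p ^ 4 ≤ p * Nat.card (centralizer ({y} : Set Q)) := by
      rw [← h1] at h2
      exact h2.trans (Nat.mul_le_mul_right _ hidx)
    have h3 : p ^ 4 = p * p ^ 3 := by ring
    rw [h3] at h4
    exact Nat.le_of_mul_le_mul_left h4 hpp.pos
  have hcard_le : ∀ t : Q, Nat.card (zpowers t) ∣ p := by
    intro t
    rw [Nat.card_zpowers]
    exact orderOf_dvd_of_pow_eq_one (hexp t)
  have hMdvd : Nat.card (zpowers y ⊔ zpowers z : Subgroup Q) ∣ p * p :=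
    (Cfsg.Agent.Lib.Helper1.card_sup_dvd_of_normal (zpowers y) (zpowers z)).trans
      (Nat.mul_dvd_mul (hcard_le y) (hcard_le z))
  have hyC : y ∈ centralizer ({y} : Set Q) := by
    rw [mem_centralizer_iff]
    intro h hh
    rw [Set.mem_singleton_iff.mp hh]
  have hzC : z ∈ centralizer ({y} : Set Q) := by
    rw [mem_centralizer_iff]
    intro h _
    exact mem_center_iff.mp hzc h
  have hMC : zpowers y ⊔ zpowers z ≤ centralizer ({y} : Set Q) :=
    sup_le (zpowers_le.mpr hyC) (zpowers_le.mpr hzC)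
  have hMlt : zpowers y ⊔ zpowers z < centralizer ({y} : Set Q) := by
    refine lt_of_le_of_ne hMC ?_
    intro h
    rw [← h] at hCcard
    have h1 := Nat.le_of_dvd (Nat.mul_pos hpp.pos hpp.pos) hMdvd
    have h2 : p * p < p ^ 3 := by
      have : p ^ 3 = p * p * p := by ring
      rw [this]
      have := hpp.one_lt
      nlinarith [Nat.mul_pos hpp.pos hpp.pos]
    omega
  obtain ⟨u, huC, huM⟩ := SetLike.exists_of_lt hMlt
  have hlt1 : zpowers z < zpowers y ⊔ zpowers z := by
    refine lt_of_le_of_ne le_sup_right ?_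
    intro h
    apply hyz
    rw [h]
    exact mem_sup_left (mem_zpowers y)
  have hlt2 : zpowers y ⊔ zpowers z < (zpowers y ⊔ zpowers z) ⊔ zpowers u := by
    refine lt_of_le_of_ne le_sup_left ?_
    intro h
    apply huM
    rw [h]
    exact mem_sup_right (mem_zpowers u)
  have hge1 := mul_card_le_of_lt hQ hlt1
  have hge2 := mul_card_le_of_lt hQ hlt2
  rw [hcz] at hge1
  have hcomS : ∀ a ∈ ({y, z, u} : Set Q), ∀ b ∈ ({y, z, u} : Set Q), a * b = b * a := by
    have hyu : u * y = y * u := by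
      rw [mem_centralizer_iff] at huC
      exact (huC y rfl).symm
    have hzall := mem_center_iff.mp hzc
    intro a ha b hb
    simp only [Set.mem_insert_iff, Set.mem_singleton_iff] at ha hb
    rcases ha with rfl | rfl | rfl <;> rcases hb with rfl | rfl | rfl
    · rfl
    · exact hzall a
    · exact hyu.symm
    · exact (hzall b).symm
    · rfl
    · exact (hzall b).symm
    · exact hyu
    · exact hzall a
    · rfl
  have hAcomm : IsMulCommutative ↥(closure ({y, z, u} : Set Q)) :=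
    Subgroup.isMulCommutative_closure hcomS
  have hle : (zpowers y ⊔ zpowers z) ⊔ zpowers u ≤ closure ({y, z, u} : Set Q) := by
    refine sup_le (sup_le ?_ ?_) ?_ <;> rw [zpowers_le] <;> apply Subgroup.subset_closure <;> simp
  have hAge : p ^ 3 ≤ Nat.card ↥(closure ({y, z, u} : Set Q)) := by
    have h1 := Subgroup.card_le_of_le hle
    have h3 : p ^ 3 = p * (p * p) := by ring
    rw [h3]
    exact (Nat.mul_le_mul_left p hge1).trans (hge2.trans h1)
  obtain ⟨j, hj⟩ := (hQ.to_subgroup (closure ({y, z, u} : Set Q))).exists_card_eq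
  have hj3 : 3 ≤ j := by
    rw [hj] at hAge
    exact (Nat.pow_le_pow_iff_right hpp.one_lt).mp hAge
  have hdvd3 : p ^ 3 ∣ Nat.card ↥(closure ({y, z, u} : Set Q)) := by
    rw [hj]
    exact pow_dvd_pow p hj3
  obtain ⟨K, hK⟩ := Sylow.exists_subgroup_card_pow_prime p hdvd3
  refine ⟨K.map (closure ({y, z, u} : Set Q)).subtype, ?_, ?_⟩
  · rw [Subgroup.card_map_of_injective (Subgroup.subtype_injective _), hK]
  · have hKc : IsMulCommutative ↥K :=
      ⟨⟨fun a b => Subtype.ext (hAcomm.is_comm.comm a.1 b.1)⟩⟩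
    exact isMulCommutative_of_mulEquiv
      (K.equivMapOfInjective _ (Subgroup.subtype_injective _)).symm hKc

theorem main_thm (hQ : IsPGroup p Q)
    (hiso : ∀ H K : Subgroup Q, Nat.card H = Nat.card K → Nonempty (H ≃* K)) :
    IsCyclic Q ∨ (IsMulCommutative Q ∧ ∀ a : Q, a ^ p = 1) ∨
      (p = 2 ∧ Nonempty (Q ≃* QuaternionGroup 2)) ∨
      (p ≠ 2 ∧ ¬ IsMulCommutative Q ∧ Nat.card Q = p ^ 3 ∧ Monoid.exponent Q = p) := by
  have hpp := hp.out
  by_cases hu : UniqueOrderP p Q
  · rcases isCyclic_or_quaternion_of_uniqueOrderP hQ hu with h | ⟨hp2, n, ⟨e⟩⟩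
    · left; exact h
    · match n, e with
      | 0, e =>
        left
        rw [pow_zero] at e
        have := QuaternionGroup.quaternionGroup_one_isCyclic
        exact isCyclic_of_surjective e.symm e.symm.surjective
      | 1, e =>
        right; right; left
        rw [pow_one] at e
        exact ⟨hp2, ⟨e⟩⟩
      | m + 2, e =>
        exfalso
        obtain ⟨f1, f2, f3, f4⟩ := quaternion_facts m
        obtain ⟨H1, H2, h1, h2, h3, h4⟩ := exists_subgroups_card_eight m
          (e.symm (QuaternionGroup.a 1)) (e.symm (QuaternionGroup.xa 0))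
          (by rw [MulEquiv.orderOf_eq]; exact f1) (by rw [MulEquiv.orderOf_eq]; exact f2)
          (by rw [← map_inv, ← map_mul, ← map_mul, f3, map_inv])
          (by rw [← map_pow, f4, map_pow])
        obtain ⟨e'⟩ := hiso H2 H1 (by rw [h1, h2])
        exact h4 (isMulCommutative_of_mulEquiv e' h3)
  · have hexp := pow_eq_one_of_not_unique hQ hiso hu
    by_cases hc : IsMulCommutative Q
    · right; left; exact ⟨hc, hexp⟩
    · right; right; right
      have hp2 : p ≠ 2 := by
        rintro rfl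
        apply hc
        refine ⟨⟨fun a b => ?_⟩⟩
        have h1 : ∀ g : Q, g⁻¹ = g := fun g => inv_eq_of_mul_eq_one_left (by rw [← pow_two]; exact hexp g)
        calc a * b = (a * b)⁻¹ := (h1 _).symm
          _ = b⁻¹ * a⁻¹ := mul_inv_rev a b
          _ = b * a := by rw [h1, h1]
      obtain ⟨n, hn⟩ := hQ.exists_card_eq
      have hn3 : 3 ≤ n := by
        by_contra hlt
        exact hc (comm_of_card_pow_le_two n (by omega) hn)
      have hn4 : n < 4 := by
        by_contra hge
        have hdvd : p ^ 4 ∣ Nat.card Q := by rw [hn]; exact pow_dvd_pow p (by omega)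
        obtain ⟨A, hA, hAc⟩ := exists_abelian_card_cube hQ hexp hdvd
        obtain ⟨H, hH, hHc⟩ := exists_nonabelian_card_cube hQ hexp hc
        obtain ⟨e'⟩ := hiso H A (by rw [hA, hH])
        exact hHc (isMulCommutative_of_mulEquiv e' hAc)
      have hn' : n = 3 := by omega
      refine ⟨hp2, hc, by rw [hn, hn'], ?_⟩
      have hdvd : Monoid.exponent Q ∣ p := Monoid.exponent_dvd_of_forall_pow_eq_one hexp
      rcases (Nat.dvd_prime hpp).mp hdvd with h1 | h1
      · exfalso
        apply hc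
        have : Subsingleton Q := Monoid.exp_eq_one_iff.mp h1
        exact ⟨⟨fun a b => Subsingleton.elim _ _⟩⟩
      · exact h1

end main

theorem result {G : Type*} [Group G] [Finite G]
    {p : ℕ} [Fact p.Prime] (hC : ∀ H K : Subgroup G, IsPGroup p H → IsPGroup p K → Nat.card H = Nat.card K →
      ∃ g : G, K = H.map (MulAut.conj g).toMonoidHom) (P : Sylow p G) :
    IsCyclic P ∨ Cfsg.IsElementaryAbelian p (P : Subgroup G) ∨
      (p = 2 ∧ Nonempty ((P : Subgroup G) ≃* QuaternionGroup 2)) ∨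
      (p ≠ 2 ∧ ¬ IsMulCommutative P ∧ Nat.card P = p ^ 3 ∧ Monoid.exponent P = p) := by
  have hQ : IsPGroup p ↥(P : Subgroup G) := P.isPGroup'
  have hiso : ∀ H K : Subgroup ↥(P : Subgroup G), Nat.card H = Nat.card K → Nonempty (H ≃* K) := by
    intro H K hHK
    have hinj := Subgroup.subtype_injective (P : Subgroup G)
    obtain ⟨g, hg⟩ := hC (H.map (P : Subgroup G).subtype) (K.map (P : Subgroup G).subtype)
      ((hQ.to_subgroup H).map _) ((hQ.to_subgroup K).map _)
      (by rw [Subgroup.card_map_of_injective hinj, Subgroup.card_map_of_injective hinj, hHK])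
    have e1 := H.equivMapOfInjective _ hinj
    have e2 := K.equivMapOfInjective _ hinj
    have e3 := (H.map (P : Subgroup G).subtype).equivMapOfInjective (MulAut.conj g).toMonoidHom (MulAut.conj g).injective
    have e4 := MulEquiv.subgroupCongr hg
    exact ⟨e1.trans (e3.trans (e4.symm.trans e2.symm))⟩
  rcases main_thm hQ hiso with h | ⟨h1, h2⟩ | h | h
  · left; exact h
  · right; left
    refine ⟨h1, ?_⟩
    intro a ha
    have := h2 ⟨a, ha⟩
    exact congrArg Subtype.val this
  · right; right; left; exact h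
  · right; right; right; exact h

end Cfsg.Agent.S4023
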