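import Cfsg.Statements.S4024
import Cfsg.Agent.S4023
import Cfsg.Agent.H5.PSolvable
import Cfsg.Agent.Lib.Helper10.Transport
import Cfsg.Agent.Lib.Helper10.PComponent
import Cfsg.Agent.Lib.Helper1.Cores

set_option autoImplicit false
open Cfsg

namespace Cfsg.Agent.S4024

open Subgroup

variable {G : Type*} [Group G] [Finite G] {p : ℕ} [Fact p.Prime]

/-- Under the conjugacy hypothesis, a Sylow `p`-subgroup of exponent `p` lies in every normal
subgroup of order divisible by `p`. -/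
theorem sylow_le_of_exp
    (hC : ∀ H K : Subgroup G, IsPGroup p H → IsPGroup p K → Nat.card H = Nat.card K →
      ∃ g : G, K = H.map (MulAut.conj g).toMonoidHom) (P : Sylow p G)
    (hexp : ∀ x ∈ (P : Subgroup G), x ^ p = 1)
    (K : Subgroup G) [K.Normal] (hK : p ∣ Nat.card K) : (P : Subgroup G) ≤ K := by
  have hpp : p.Prime := Fact.out
  have hmapK : ∀ (X : Subgroup G) (g : G), X ≤ K → X.map (MulAut.conj g).toMonoidHom ≤ K := by
    rintro X g hX _ ⟨x, hx, rfl⟩
    exact (inferInstance : K.Normal).conj_mem x (hX hx) g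
  -- `P ⊓ K ≠ ⊥`
  have hpG : p ∣ Nat.card G := hK.trans (Subgroup.card_subgroup_dvd_card K)
  have hpP : p ∣ Nat.card (P : Subgroup G) := by
    rw [Sylow.card_eq_multiplicity]
    exact dvd_pow_self p ((Nat.Prime.factorization_pos_of_dvd hpp Nat.card_pos.ne' hpG).ne')
  obtain ⟨x, hx⟩ := exists_prime_orderOf_dvd_card' p hK
  obtain ⟨y, hy⟩ := exists_prime_orderOf_dvd_card' p hpP
  have hx' : orderOf (x : G) = p := by rw [Subgroup.orderOf_coe]; exact hx
  have hy' : orderOf (y : G) = p := by rw [Subgroup.orderOf_coe]; exact hy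
  have hcx : Nat.card (zpowers (x : G)) = p ^ 1 := by rw [Nat.card_zpowers, hx', pow_one]
  have hcy : Nat.card (zpowers (y : G)) = p ^ 1 := by rw [Nat.card_zpowers, hy', pow_one]
  obtain ⟨g, hg⟩ := hC (zpowers (x : G)) (zpowers (y : G)) (IsPGroup.of_card hcx) (IsPGroup.of_card hcy)
    (by rw [hcx, hcy])
  have hyK : (y : G) ∈ K := by
    have h1 : zpowers (y : G) ≤ K := by
      rw [hg]
      exact hmapK _ g (zpowers_le.mpr x.2)
    exact h1 (mem_zpowers _)
  have hRne : (P : Subgroup G) ⊓ K ≠ ⊥ := by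
    intro h
    have h1 : (y : G) ∈ (P : Subgroup G) ⊓ K := ⟨y.2, hyK⟩
    rw [h, mem_bot] at h1
    rw [h1, orderOf_one] at hy'
    exact hpp.one_lt.ne hy'
  have hRp : IsPGroup p ↥((P : Subgroup G) ⊓ K) := P.isPGroup'.to_le inf_le_left
  obtain ⟨k, hk⟩ := hRp.exists_card_eq
  have hk1 : 1 ≤ k := by
    by_contra h0
    have : k = 0 := by omega
    rw [this, pow_zero] at hk
    exact hRne ((Subgroup.card_eq_one).mp hk)
  have hdvdP : p ^ k ∣ Nat.card ↥(P : Subgroup G) := by
    rw [← hk]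
    exact Subgroup.card_dvd_of_le inf_le_left
  intro t ht
  by_cases ht1 : t = 1
  · rw [ht1]; exact K.one_mem
  have hto : orderOf (⟨t, ht⟩ : ↥(P : Subgroup G)) = p := by
    apply orderOf_eq_prime
    · apply Subtype.ext
      rw [Subgroup.coe_pow]
      exact hexp t ht
    · intro h
      exact ht1 (congrArg Subtype.val h)
  have hct : Nat.card (zpowers (⟨t, ht⟩ : ↥(P : Subgroup G))) = p ^ 1 := by
    rw [Nat.card_zpowers, hto, pow_one]
  obtain ⟨K', hK'card, hK'le⟩ := Sylow.exists_subgroup_card_pow_prime_le p hdvdP _ hct hk1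
  have hinj := Subgroup.subtype_injective (P : Subgroup G)
  have hXcard : Nat.card (K'.map (P : Subgroup G).subtype) = p ^ k := by
    rw [Subgroup.card_map_of_injective hinj, hK'card]
  obtain ⟨g', hg'⟩ := hC ((P : Subgroup G) ⊓ K) (K'.map (P : Subgroup G).subtype) hRp
    (IsPGroup.of_card hXcard) (by rw [hk, hXcard])
  have hXK : K'.map (P : Subgroup G).subtype ≤ K := by
    rw [hg']
    exact hmapK _ g' inf_le_right
  exact hXK ⟨⟨t, ht⟩, hK'le (mem_zpowers _), rfl⟩

/-- the first two terms of the upper `p`-series of a normal `p`-solvable subgroup, inside `G` -/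
theorem exists_series (H : Subgroup G) [H.Normal]
    (hsolv : Cfsg.IsPSolvable p H) (hdiv : p ∣ Nat.card H) :
    ∃ N M : Subgroup G, N.Normal ∧ M.Normal ∧ N ≤ M ∧ (Nat.card N).Coprime p ∧
      ∃ k : ℕ, 1 ≤ k ∧ Nat.card M = Nat.card N * p ^ k := by
  have hpp : p.Prime := Fact.out
  have hinj := Subgroup.subtype_injective H
  have hc1 : (pPrimeCore p ↥H).Characteristic := Cfsg.Agent.Lib.Helper1.pPrimeCore_characteristic p
  have hc2 : (pPrimePCore p ↥H).Characteristic := Cfsg.Agent.Lib.Helper10.pPrimePCore_characteristic p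
  have hn1 : ((pPrimeCore p ↥H).map H.subtype).Normal := ConjAct.normal_of_characteristic_of_normal
  have hn2 : ((pPrimePCore p ↥H).map H.subtype).Normal := ConjAct.normal_of_characteristic_of_normal
  have hle : pPrimeCore p ↥H ≤ pPrimePCore p ↥H := Cfsg.Agent.Lib.Helper10.pPrimeCore_le_pPrimePCore p
  have hcop : (Nat.card (pPrimeCore p ↥H)).Coprime p := Cfsg.Agent.Lib.Helper1.pPrimeCore_coprime p
  have hNn : (pPrimeCore p ↥H).Normal := Cfsg.Agent.Lib.Helper1.pPrimeCore_normal p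
  refine ⟨_, _, hn1, hn2, Subgroup.map_mono hle, ?_, ?_⟩
  · rw [Subgroup.card_map_of_injective hinj]
    exact hcop
  · rw [Subgroup.card_map_of_injective hinj, Subgroup.card_map_of_injective hinj]
    have h1 := Cfsg.Agent.Lib.Helper1.card_mul_relIndex_of_le hle
    have h2 : (pPrimeCore p ↥H).relIndex (pPrimePCore p ↥H) =
        Nat.card (pCore p (↥H ⧸ pPrimeCore p ↥H)) := by
      rw [← Cfsg.H5.card_map_mk', Cfsg.Agent.Lib.Helper10.map_mk_pPrimePCore]
    obtain ⟨k, hk⟩ := (Cfsg.Agent.Lib.Helper1.pCore_isPGroup (G := ↥H ⧸ pPrimeCore p ↥H) p).exists_card_eq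
    refine ⟨k, ?_, by rw [← h1, h2, hk]⟩
    -- `k ≥ 1`
    by_contra h0
    have hk0 : k = 0 := by omega
    rw [hk0, pow_zero] at hk
    have hbot : pCore p (↥H ⧸ pPrimeCore p ↥H) = ⊥ := (Subgroup.card_eq_one).mp hk
    have hqs : Cfsg.IsPSolvable p (↥H ⧸ pPrimeCore p ↥H) := Cfsg.H5.isPSolvable_quotient _ hsolv
    have htop : (⊤ : Subgroup (↥H ⧸ pPrimeCore p ↥H)) ≠ ⊥ := by
      intro h
      have h3 : Nat.card (↥H ⧸ pPrimeCore p ↥H) = 1 := by
        rw [← Subgroup.card_top (G := ↥H ⧸ pPrimeCore p ↥H), h, Subgroup.card_bot]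
      have h4 := Subgroup.card_eq_card_quotient_mul_card_subgroup (pPrimeCore p ↥H)
      rw [h3, one_mul] at h4
      rw [h4] at hdiv
      exact (Nat.Prime.coprime_iff_not_dvd hpp).mp hcop.symm hdiv
    obtain ⟨L, -, hLn, hL1, hL⟩ := Cfsg.H5.exists_normal_p_or_pPrime_le hqs ⊤ inferInstance htop
    rcases hL with hL | hL
    · have := Cfsg.Agent.Lib.Helper1.le_pCore hLn hL
      rw [hbot] at this
      exact hL1 (le_bot_iff.mp this)
    · have := Cfsg.Agent.Lib.Helper1.le_pPrimeCore hLn hL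
      rw [Cfsg.Agent.Lib.Helper10.pPrimeCore_quotient_eq_bot] at this
      exact hL1 (le_bot_iff.mp this)

/-- fusion of elements of order `p` in a Sylow subgroup lying in `M = N P` -/
theorem central_of_order_p
    (hC : ∀ H K : Subgroup G, IsPGroup p H → IsPGroup p K → Nat.card H = Nat.card K →
      ∃ g : G, K = H.map (MulAut.conj g).toMonoidHom) (P : Sylow p G)
    (N M : Subgroup G) [N.Normal] [M.Normal] (hNP : (Nat.card N).Coprime p)
    (hPM : (P : Subgroup G) ≤ M) (hM : M ≤ N ⊔ (P : Subgroup G))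
    (y : G) (hy : y ∈ (P : Subgroup G)) (hyp : y ^ p = 1) :
    ∀ t ∈ (P : Subgroup G), t * y = y * t := by
  have hpp : p.Prime := Fact.out
  by_cases hy1 : y = 1
  · intro t _; rw [hy1, mul_one, one_mul]
  have hyo : orderOf y = p := orderOf_eq_prime hyp hy1
  have hnt : Nontrivial ↥(P : Subgroup G) := ⟨⟨⟨y, hy⟩, 1, fun h => hy1 (congrArg Subtype.val h)⟩⟩
  obtain ⟨z, hzc, hzo⟩ := Cfsg.Agent.S4023.exists_central_order_p (Q := ↥(P : Subgroup G)) P.isPGroup'
  have hzo' : orderOf (z : G) = p := by rw [Subgroup.orderOf_coe]; exact hzo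
  have hcz : Nat.card (zpowers (z : G)) = p ^ 1 := by rw [Nat.card_zpowers, hzo', pow_one]
  have hcy : Nat.card (zpowers y) = p ^ 1 := by rw [Nat.card_zpowers, hyo, pow_one]
  obtain ⟨g, hg⟩ := hC (zpowers (z : G)) (zpowers y) (IsPGroup.of_card hcz) (IsPGroup.of_card hcy)
    (by rw [hcz, hcy])
  have hymem : y ∈ (zpowers (z : G)).map (MulAut.conj g).toMonoidHom := hg ▸ mem_zpowers y
  obtain ⟨w, hw, hwy⟩ := hymem
  have hwy' : g * w * g⁻¹ = y := hwy
  obtain ⟨j, rfl⟩ := mem_zpowers_iff.mp hw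
  -- `w = z ^ j` is central in `P`
  have hwP : (z : G) ^ j ∈ (P : Subgroup G) := zpow_mem z.2 j
  have hwc : ∀ t ∈ (P : Subgroup G), t * (z : G) ^ j = (z : G) ^ j * t := by
    intro t ht
    have h1 : z ^ j ∈ center ↥(P : Subgroup G) := zpow_mem hzc j
    have h2 := mem_center_iff.mp h1 ⟨t, ht⟩
    have h3 := congrArg Subtype.val h2
    simpa using h3
  -- Frattini
  have hfr : normalizer ((P : Subgroup G) : Set G) ⊔ M = ⊤ := by
    have h1 := Sylow.normalizer_sup_eq_top (P.subtype hPM)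
    rwa [Sylow.coe_subtype, Subgroup.subgroupOf_map_subtype, inf_of_le_left hPM] at h1
  have hgtop : g ∈ normalizer ((P : Subgroup G) : Set G) ⊔ M := by rw [hfr]; exact mem_top g
  obtain ⟨h, hh, m, hm, rfl⟩ := Subgroup.mem_sup_of_normal_right.mp hgtop
  obtain ⟨n, hn, x, hx, rfl⟩ := Subgroup.mem_sup_of_normal_left.mp (hM hm)
  -- `v = h⁻¹ y h = n w n⁻¹`
  have hxw : x * (z : G) ^ j * x⁻¹ = (z : G) ^ j := by rw [hwc x hx, mul_inv_cancel_right]
  have hv : h⁻¹ * y * h = n * (z : G) ^ j * n⁻¹ := by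
    rw [← hwy']
    calc h⁻¹ * (h * (n * x) * (z : G) ^ j * (h * (n * x))⁻¹) * h
        = n * (x * (z : G) ^ j * x⁻¹) * n⁻¹ := by group
      _ = n * (z : G) ^ j * n⁻¹ := by rw [hxw]
  have hvP : h⁻¹ * y * h ∈ (P : Subgroup G) := by
    rw [(mem_normalizer_iff.mp hh) (h⁻¹ * y * h)]
    have : h * (h⁻¹ * y * h) * h⁻¹ = y := by group
    rw [this]
    exact hy
  have hdisj : ∀ u : G, u ∈ N → u ∈ (P : Subgroup G) → u = 1 := by
    intro u huN huP
    have h1 : orderOf u ∣ Nat.card N := by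
      have := orderOf_dvd_natCard (⟨u, huN⟩ : ↥N)
      rwa [Subgroup.orderOf_mk] at this
    obtain ⟨e, he⟩ := (IsPGroup.iff_orderOf).mp P.isPGroup' ⟨u, huP⟩
    rw [Subgroup.orderOf_mk] at he
    rw [he] at h1
    have h2 : (p ^ e).Coprime (Nat.card N) := (Nat.Coprime.pow_left e hNP.symm)
    have h3 : p ^ e = 1 := Nat.eq_one_of_dvd_one (by have := Nat.Coprime.dvd_of_dvd_mul_left h2 (h1.mul_right 1); simpa using this)
    rw [h3] at he
    exact orderOf_eq_one_iff.mp he
  have hvw : h⁻¹ * y * h = (z : G) ^ j := by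
    have h1 : h⁻¹ * y * h * ((z : G) ^ j)⁻¹ ∈ N := by
      rw [hv]
      have h2 : n * (z : G) ^ j * n⁻¹ * ((z : G) ^ j)⁻¹ = n * ((z : G) ^ j * n⁻¹ * ((z : G) ^ j)⁻¹) := by
        group
      rw [h2]
      exact N.mul_mem hn ((inferInstance : N.Normal).conj_mem _ (N.inv_mem hn) _)
    have h3 : h⁻¹ * y * h * ((z : G) ^ j)⁻¹ ∈ (P : Subgroup G) :=
      mul_mem hvP (inv_mem hwP)
    exact mul_inv_eq_one.mp (hdisj _ h1 h3)
  have hyh : y = h * (z : G) ^ j * h⁻¹ := by rw [← hvw]; group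
  intro t ht
  have htP : h⁻¹ * t * h ∈ (P : Subgroup G) := by
    rw [(mem_normalizer_iff.mp hh) (h⁻¹ * t * h)]
    have : h * (h⁻¹ * t * h) * h⁻¹ = t := by group
    rw [this]
    exact ht
  have h1 := hwc _ htP
  rw [hyh]
  calc t * (h * (z : G) ^ j * h⁻¹) = h * (h⁻¹ * t * h * (z : G) ^ j) * h⁻¹ := by group
    _ = h * ((z : G) ^ j * (h⁻¹ * t * h)) * h⁻¹ := by rw [h1]
    _ = h * (z : G) ^ j * h⁻¹ * t := by group

omit [Finite G] [Fact p.Prime] in
theorem hiso_of_conj
    (hC : ∀ H K : Subgroup G, IsPGroup p H → IsPGroup p K → Nat.card H = Nat.card K →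
      ∃ g : G, K = H.map (MulAut.conj g).toMonoidHom) (P : Sylow p G) :
    ∀ H K : Subgroup ↥(P : Subgroup G), Nat.card H = Nat.card K → Nonempty (H ≃* K) := by
  have hQ : IsPGroup p ↥(P : Subgroup G) := P.isPGroup'
  intro H K hHK
  have hinj := Subgroup.subtype_injective (P : Subgroup G)
  obtain ⟨g, hg⟩ := hC (H.map (P : Subgroup G).subtype) (K.map (P : Subgroup G).subtype)
    ((hQ.to_subgroup H).map _) ((hQ.to_subgroup K).map _)
    (by rw [Subgroup.card_map_of_injective hinj, Subgroup.card_map_of_injective hinj, hHK])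
  have e1 := H.equivMapOfInjective _ hinj
  have e2 := K.equivMapOfInjective _ hinj
  have e3 := (H.map (P : Subgroup G).subtype).equivMapOfInjective (MulAut.conj g).toMonoidHom
    (MulAut.conj g).injective
  have e4 := MulEquiv.subgroupCongr hg
  exact ⟨e1.trans (e3.trans (e4.symm.trans e2.symm))⟩

theorem result {G : Type*} [Group G] [Finite G]
    {p : ℕ} [Fact p.Prime] (hp : p ≠ 2) (hC : ∀ H K : Subgroup G, IsPGroup p H → IsPGroup p K → Nat.card H = Nat.card K →
      ∃ g : G, K = H.map (MulAut.conj g).toMonoidHom) (P : Sylow p G)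
    (H : Subgroup G) [H.Normal] (hsolv : Cfsg.IsPSolvable p H) (hdiv : p ∣ Nat.card H) :
    IsMulCommutative P ∧ ((P : Subgroup G) ≤ H ∨ IsCyclic P) := by
  have hpp : p.Prime := Fact.out
  have hQ : IsPGroup p ↥(P : Subgroup G) := P.isPGroup'
  rcases Cfsg.Agent.S4023.main_thm hQ (hiso_of_conj hC P) with h | ⟨h1, h2⟩ | ⟨h1, -⟩ | ⟨-, hnc, -, hexp⟩
  · exact ⟨IsCyclic.isMulCommutative, Or.inr h⟩
  · refine ⟨h1, Or.inl ?_⟩
    apply sylow_le_of_exp hC P _ H hdiv
    intro x hx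
    exact congrArg Subtype.val (h2 ⟨x, hx⟩)
  · exact absurd h1 hp
  · exfalso
    have hexp' : ∀ x ∈ (P : Subgroup G), x ^ p = 1 := by
      intro x hx
      have h1 := Monoid.pow_exponent_eq_one (⟨x, hx⟩ : ↥(P : Subgroup G))
      rw [hexp] at h1
      exact congrArg Subtype.val h1
    obtain ⟨N, M, hNn, hMn, hNM, hNcop, k, hk1, hMcard⟩ := exists_series H hsolv hdiv
    have hpM : p ∣ Nat.card M := by
      rw [hMcard]
      exact Dvd.dvd.mul_left (dvd_pow_self p (by omega)) _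
    have hPM : (P : Subgroup G) ≤ M := sylow_le_of_exp hC P hexp' M hpM
    -- `M = N ⊔ P`
    have hPk : Nat.card (P : Subgroup G) = p ^ k := by
      have h1 : Nat.card (P : Subgroup G) ∣ Nat.card N * p ^ k := hMcard ▸ Subgroup.card_dvd_of_le hPM
      obtain ⟨e, he⟩ := hQ.exists_card_eq
      have h2 : (p ^ e).Coprime (Nat.card N) := Nat.Coprime.pow_left e hNcop.symm
      have h3 : Nat.card (P : Subgroup G) ∣ p ^ k := by
        rw [he] at h1 ⊢
        exact Nat.Coprime.dvd_of_dvd_mul_left h2 h1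
      have h4 : p ^ k ∣ Nat.card (P : Subgroup G) := by
        rw [Sylow.card_eq_multiplicity]
        apply pow_dvd_pow
        rw [← Nat.Prime.pow_dvd_iff_le_factorization hpp Nat.card_pos.ne']
        exact (Dvd.intro_left _ hMcard.symm).trans (Subgroup.card_subgroup_dvd_card M)
      exact Nat.dvd_antisymm h3 h4
    have hsup : M ≤ N ⊔ (P : Subgroup G) := by
      have hle : N ⊔ (P : Subgroup G) ≤ M := sup_le hNM hPM
      have h1 : Nat.card N * Nat.card (P : Subgroup G) ∣ Nat.card ↥(N ⊔ (P : Subgroup G)) := by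
        apply Nat.Coprime.mul_dvd_of_dvd_of_dvd
        · rw [hPk]; exact Nat.Coprime.pow_right k hNcop
        · exact Subgroup.card_dvd_of_le le_sup_left
        · exact Subgroup.card_dvd_of_le le_sup_right
      rw [hPk, ← hMcard] at h1
      have h2 := Nat.le_of_dvd Nat.card_pos h1
      exact (Subgroup.eq_of_le_of_card_ge hle h2).ge
    apply hnc
    refine ⟨⟨fun a b => ?_⟩⟩
    apply Subtype.ext
    have := central_of_order_p hC P N M hNcop hPM hsup (b : G) b.2 (hexp' _ b.2) (a : G) a.2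
    simpa using this

end Cfsg.Agent.S4024
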