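import Cfsg.Statements.S4027
import Cfsg.Agent.Lib.Helper22.TwoClosed

set_option autoImplicit false
open Cfsg

namespace Cfsg.Agent.S4027

open Subgroup Cfsg.Agent.Lib.Helper22

universe u

/-- the hypothesis, as a property of groups -/
def Pr (G : Type u) [Group G] : Prop :=
  ∀ x : G, (∀ r : ℕ, r.Prime → r ∣ orderOf x → r ≠ 2) →
    Subgroup.normalizer ((Subgroup.zpowers x : Subgroup G) : Set G) ≤ Subgroup.centralizer {x}

theorem pr_involutions (G : Type u) [Group G] [Finite G] (hG : Pr G) (s t : G)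
    (hs : orderOf s = 2) (_ht : orderOf t = 2) : ∃ k : ℕ, (s * t) ^ 2 ^ k = 1 := by
  have hs2 : s ^ 2 = 1 := by rw [← hs]; exact pow_orderOf_eq_one s
  have ht2 : t ^ 2 = 1 := by rw [← _ht]; exact pow_orderOf_eq_one t
  have hsinv : s⁻¹ = s := inv_eq_of_mul_eq_one_left (by rw [← pow_two]; exact hs2)
  have htinv : t⁻¹ = t := inv_eq_of_mul_eq_one_left (by rw [← pow_two]; exact ht2)
  have hconj : s * (s * t) * s⁻¹ = (s * t)⁻¹ := by
    rw [mul_inv_rev, hsinv, htinv, ← mul_assoc, ← pow_two, hs2, one_mul]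
  have hn0 : orderOf (s * t) ≠ 0 := (orderOf_pos (s * t)).ne'
  obtain ⟨a, m, hm, hnm⟩ := Nat.exists_eq_two_pow_mul_odd hn0
  refine ⟨a, ?_⟩
  set w' := (s * t) ^ 2 ^ a with hw'
  have hw'm : w' ^ m = 1 := by
    rw [hw', ← pow_mul, ← hnm]
    exact pow_orderOf_eq_one _
  have hconj' : s * w' * s⁻¹ = w'⁻¹ := by
    rw [hw', ← conj_pow, hconj, inv_pow]
  have hodd : ∀ r : ℕ, r.Prime → r ∣ orderOf w' → r ≠ 2 := by
    rintro r hr hrw rfl
    have h1 : 2 ∣ m := hrw.trans (orderOf_dvd_of_pow_eq_one hw'm)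
    exact (Nat.not_even_iff_odd.mpr hm) (even_iff_two_dvd.mpr h1)
  have hnorm : s ∈ normalizer ((zpowers w' : Subgroup G) : Set G) := by
    have h1 : zpowers s ≤ normalizer ((zpowers w' : Subgroup G) : Set G) := by
      apply Cfsg.Agent.Lib.Helper9.zpowers_le_normalizer_of_conj_mem
      intro u hu
      obtain ⟨j, rfl⟩ := mem_zpowers_iff.mp hu
      rw [← conj_zpow, hconj']
      exact zpow_mem (inv_mem (mem_zpowers _)) j
    exact h1 (mem_zpowers s)
  have hcent := hG w' hodd hnorm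
  rw [mem_centralizer_iff] at hcent
  have h2 : w' * s = s * w' := hcent w' rfl
  have h3 : w' = w'⁻¹ := by
    rw [← hconj', ← h2, mul_inv_cancel_right]
  have h4 : w' ^ 2 = 1 := by
    rw [pow_two]; nth_rewrite 2 [h3]; exact mul_inv_cancel w'
  have h5 : orderOf w' ∣ Nat.gcd 2 m :=
    Nat.dvd_gcd (orderOf_dvd_of_pow_eq_one h4) (orderOf_dvd_of_pow_eq_one hw'm)
  have h6 : Nat.gcd 2 m = 1 := Nat.coprime_two_left.mpr hm
  rw [h6, Nat.dvd_one] at h5
  exact orderOf_eq_one_iff.mp h5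

theorem pr_quotient (G : Type u) [Group G] [Finite G] (hG : Pr G) (N : Subgroup G) [N.Normal]
    (hN : IsPGroup 2 N) : Pr (G ⧸ N) := by
  intro xb hxb gb hgb
  have hodd : ¬ 2 ∣ Nat.card (zpowers xb) := by
    rw [Nat.card_zpowers]
    intro h
    exact hxb 2 Nat.prime_two h rfl
  obtain ⟨H₁, hmap, hcard⟩ := exists_lift_odd_subgroup N hN (zpowers xb) hodd
  have hxmem : xb ∈ H₁.map (QuotientGroup.mk' N) := hmap ▸ mem_zpowers xb
  obtain ⟨x₁, hx₁, hx₁b⟩ := hxmem
  have hox : orderOf x₁ ∣ orderOf xb := by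
    have h1 : orderOf x₁ ∣ Nat.card H₁ := by
      have := orderOf_dvd_natCard (⟨x₁, hx₁⟩ : ↥H₁)
      rwa [Subgroup.orderOf_mk] at this
    rwa [hcard, Nat.card_zpowers] at h1
  have hx₁odd : ∀ r : ℕ, r.Prime → r ∣ orderOf x₁ → r ≠ 2 :=
    fun r hr hrx => hxb r hr (hrx.trans hox)
  have hA : ¬ 2 ∣ Nat.card (zpowers x₁) := by
    rw [Nat.card_zpowers]
    intro h
    exact hx₁odd 2 Nat.prime_two h rfl
  obtain ⟨g, rfl⟩ := QuotientGroup.mk'_surjective N gb
  have hmapA : (zpowers x₁).map (QuotientGroup.mk' N) = zpowers xb := by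
    rw [MonoidHom.map_zpowers, hx₁b]
  obtain ⟨n, hn, hng⟩ := exists_mul_mem_normalizer_of_map N hN (zpowers x₁) hA g
    (by rw [hmapA]; exact hgb)
  have hcent := hG x₁ hx₁odd hng
  rw [mem_centralizer_iff] at hcent ⊢
  intro h hh
  rw [Set.mem_singleton_iff] at hh
  subst hh
  have h1 : x₁ * (n⁻¹ * g) = n⁻¹ * g * x₁ := hcent x₁ rfl
  have h2 := congrArg (QuotientGroup.mk' N) h1
  have hn1 : QuotientGroup.mk' N n⁻¹ = 1 := by
    rw [map_inv, inv_eq_one]
    exact (QuotientGroup.eq_one_iff n).mpr hn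
  rw [map_mul, map_mul, map_mul, map_mul, hn1, one_mul, hx₁b] at h2
  exact h2

theorem result {G : Type*} [Group G] [Finite G]
    (hirr : ∀ x : G, (∀ r : ℕ, r.Prime → r ∣ orderOf x → r ≠ 2) →
      Subgroup.normalizer ((Subgroup.zpowers x : Subgroup G) : Set G) ≤ Subgroup.centralizer {x}) (P : Sylow 2 G) :
    (P : Subgroup G).Normal :=
  sylow_two_normal_of_hereditary (fun G _ => Pr G) pr_involutions pr_quotient (Nat.card G) G rfl hirr P

end Cfsg.Agent.S4027
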