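import Cfsg.Statements.S4028
import Mathlib

set_option autoImplicit false
open Cfsg

namespace Cfsg.Agent.S4028

open scoped Pointwise

/-- In a finite group, `m` normalizes `⟨y⟩` iff `m y m⁻¹ ∈ ⟨y⟩`. -/
theorem mem_normalizer_zpowers_iff {G : Type*} [Group G] [Finite G] (m y : G) :
    m ∈ Subgroup.normalizer ((Subgroup.zpowers y : Subgroup G) : Set G) ↔ m * y * m⁻¹ ∈ Subgroup.zpowers y := by
  constructor
  · intro h
    exact (Subgroup.mem_set_normalizer_iff.mp h y).mp (Subgroup.mem_zpowers y)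
  · intro h
    have hfwd : ∀ z ∈ Subgroup.zpowers y, m * z * m⁻¹ ∈ Subgroup.zpowers y := by
      rintro _ ⟨i, rfl⟩
      show m * y ^ i * m⁻¹ ∈ Subgroup.zpowers y
      rw [← conj_zpow]
      exact Subgroup.zpow_mem _ h i
    rw [Subgroup.mem_set_normalizer_iff]
    intro z
    refine ⟨hfwd z, ?_⟩
    intro hz
    let f : Subgroup.zpowers y → Subgroup.zpowers y := fun w => ⟨m * w * m⁻¹, hfwd w w.2⟩
    have hf : Function.Injective f := by
      intro a b hab
      have := congrArg Subtype.val hab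
      simp only [f] at this
      exact Subtype.ext (by simpa using this)
    obtain ⟨w, hw⟩ := (Finite.injective_iff_surjective.mp hf) ⟨m * z * m⁻¹, hz⟩
    have := congrArg Subtype.val hw
    simp only [f] at this
    have hwz : (w : G) = z := by simpa using this
    rw [← hwz]
    exact w.2

/-- decomposition into a 2-element and an odd order element, both powers of `n`. -/
theorem exists_two_odd_decomp {G : Type*} [Group G] [Finite G] (n : G) :
    ∃ t u : G, t ∈ Subgroup.zpowers n ∧ u ∈ Subgroup.zpowers n ∧ n = t * u ∧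
      (∃ k : ℕ, orderOf t = 2 ^ k) ∧ Odd (orderOf u) := by
  have hpos : 0 < orderOf n := orderOf_pos n
  obtain ⟨k, m, hm, hkm⟩ := Nat.exists_eq_two_pow_mul_odd (n := orderOf n) hpos.ne'
  have hcop : Nat.Coprime (2 ^ k) m := Nat.Coprime.pow_left k (Nat.coprime_two_left.mpr hm)
  have h1 : orderOf (n ^ (2 ^ k)) = m := by
    rw [orderOf_pow, hkm, Nat.gcd_eq_right (Dvd.intro _ rfl), Nat.mul_div_cancel_left _ (by positivity)]
  have h3 : orderOf (n ^ m) = 2 ^ k := by
    rw [orderOf_pow, hkm, Nat.gcd_eq_right (Dvd.intro_left _ rfl), Nat.mul_div_cancel _ (Odd.pos hm)]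
  have hb := Nat.gcd_eq_gcd_ab (2 ^ k) m
  rw [hcop.gcd_eq_one] at hb
  refine ⟨(n ^ m) ^ (Nat.gcdB (2 ^ k) m), (n ^ (2 ^ k)) ^ (Nat.gcdA (2 ^ k) m), ?_, ?_, ?_, ?_, ?_⟩
  · exact Subgroup.zpow_mem _ (Subgroup.pow_mem _ (Subgroup.mem_zpowers n) _) _
  · exact Subgroup.zpow_mem _ (Subgroup.pow_mem _ (Subgroup.mem_zpowers n) _) _
  · rw [← zpow_natCast n (2 ^ k), ← zpow_natCast n m, ← zpow_mul, ← zpow_mul, ← zpow_add, add_comm, ← hb]
    simp
  · have : orderOf ((n ^ m) ^ (Nat.gcdB (2 ^ k) m)) ∣ 2 ^ k := by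
      rw [← h3]; exact orderOf_dvd_of_pow_eq_one (by
        rw [← zpow_natCast, ← zpow_mul, mul_comm, zpow_mul, zpow_natCast, pow_orderOf_eq_one, one_zpow])
    obtain ⟨j, _, hj⟩ := (Nat.dvd_prime_pow Nat.prime_two).mp this
    exact ⟨j, hj⟩
  · have : orderOf ((n ^ (2 ^ k)) ^ (Nat.gcdA (2 ^ k) m)) ∣ m := by
      rw [← h1]; exact orderOf_dvd_of_pow_eq_one (by
        rw [← zpow_natCast, ← zpow_mul, mul_comm, zpow_mul, zpow_natCast, pow_orderOf_eq_one, one_zpow])
    exact Odd.of_dvd_nat hm this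

/-- An element of odd order normalizing a cyclic 2-group centralizes it. -/
theorem odd_normalizes_centralizes {G : Type*} [Group G] [Finite G] (x u : G) (k : ℕ) (hx : orderOf x = 2 ^ k)
    (hu : Odd (orderOf u)) (hN : u ∈ Subgroup.normalizer ((Subgroup.zpowers x : Subgroup G) : Set G)) :
    u * x = x * u := by
  have hcard : Nat.card (Subgroup.zpowers x) = 2 ^ k := by rw [Nat.card_zpowers, hx]
  set X := Subgroup.zpowers x with hX
  let σ : MulAut X := X.normalizerMonoidHom ⟨u, hN⟩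
  have h1 : orderOf σ ∣ orderOf u := by
    have := orderOf_map_dvd X.normalizerMonoidHom (⟨u, hN⟩ : Subgroup.normalizer (X : Set G))
    have h2 : orderOf (⟨u, hN⟩ : Subgroup.normalizer (X : Set G)) = orderOf u := Subgroup.orderOf_mk u hN
    rwa [h2] at this
  have hcyc : IsCyclic X := by rw [hX]; infer_instance
  have h2 : orderOf σ ∣ 2 ^ k := by
    have h3 : orderOf σ ∣ Nat.card (MulAut X) := orderOf_dvd_natCard σ
    rw [IsCyclic.card_mulAut, hcard] at h3
    rcases Nat.eq_zero_or_pos k with h0 | h0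
    · rw [h0] at h3 ⊢; simpa using h3
    · rw [Nat.totient_prime_pow Nat.prime_two h0] at h3
      have : 2 ^ (k - 1) * (2 - 1) ∣ 2 ^ k := by
        simp only [Nat.add_one_sub_one, mul_one]
        exact pow_dvd_pow 2 (Nat.sub_le k 1)
      exact h3.trans this
  have h3 : orderOf σ = 1 := by
    have hc : Nat.Coprime (orderOf u) (2 ^ k) := Nat.Coprime.pow_right k (Nat.coprime_two_right.mpr hu)
    exact Nat.eq_one_of_dvd_coprimes hc h1 h2
  have h4 : σ = 1 := orderOf_eq_one_iff.mp h3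
  have h5 : σ ⟨x, Subgroup.mem_zpowers x⟩ = ⟨x, Subgroup.mem_zpowers x⟩ := by rw [h4]; rfl
  have h6 := congrArg Subtype.val h5
  simp only [σ, Subgroup.normalizerMonoidHom_apply_apply_coe] at h6
  calc u * x = u * x * u⁻¹ * u := by group
    _ = x * u := by rw [h6]

theorem two_pow_of_primes {n : ℕ} (hn : 0 < n) (h : ∀ r : ℕ, r.Prime → r ∣ n → r = 2) : ∃ k : ℕ, n = 2 ^ k :=
  ⟨_, Nat.eq_prime_pow_of_unique_prime_dvd hn.ne' (fun {d} hd hdn => h d hd hdn)⟩

theorem result {G : Type*} [Group G] [Finite G] (P : Sylow 2 G) :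
    (∀ x : G, (∀ r : ℕ, r.Prime → r ∣ orderOf x → r = 2) →
      Subgroup.normalizer ((Subgroup.zpowers x : Subgroup G) : Set G) ≤ Subgroup.centralizer {x}) ↔
    (∀ y : ↥(P : Subgroup G), Subgroup.normalizer ((Subgroup.zpowers y : Subgroup ↥(P : Subgroup G)) : Set ↥(P : Subgroup G)) ≤
        Subgroup.centralizer {y}) := by
  have : Fact (Nat.Prime 2) := ⟨Nat.prime_two⟩
  -- translate the property in `P` to `G`
  have hzp : ∀ (y m : (P : Subgroup G)), m * y * m⁻¹ ∈ Subgroup.zpowers y ↔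
      (m : G) * y * (m : G)⁻¹ ∈ Subgroup.zpowers (y : G) := by
    intro y m
    simp only [Subgroup.mem_zpowers_iff]
    constructor
    · rintro ⟨i, hi⟩
      exact ⟨i, by simpa using congrArg Subtype.val hi⟩
    · rintro ⟨i, hi⟩
      exact ⟨i, Subtype.ext (by simpa using hi)⟩
  constructor
  · intro h y m hm
    rw [mem_normalizer_zpowers_iff, hzp, ← mem_normalizer_zpowers_iff] at hm
    have hy2 : ∀ r : ℕ, r.Prime → r ∣ orderOf (y : G) → r = 2 := by
      intro r hr hry
      obtain ⟨k, hk⟩ := P.2 y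
      have : orderOf (y : G) ∣ 2 ^ k := orderOf_dvd_of_pow_eq_one (by simpa using congrArg Subtype.val hk)
      exact (Nat.prime_dvd_prime_iff_eq hr Nat.prime_two).mp (hr.dvd_of_dvd_pow (hry.trans this))
    have := h y hy2 hm
    rw [Subgroup.mem_centralizer_iff] at this ⊢
    intro z hz
    rw [Set.mem_singleton_iff] at hz
    subst hz
    exact Subtype.ext (this (z : G) rfl)
  · intro h x hx n hn
    -- property inside P, at the level of G
    have hP : ∀ y m : G, y ∈ (P : Subgroup G) → m ∈ (P : Subgroup G) →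
        m * y * m⁻¹ ∈ Subgroup.zpowers y → m * y = y * m := by
      intro y m hy hm hmy
      have h1 : (⟨m, hm⟩ : (P : Subgroup G)) ∈ Subgroup.normalizer
          ((Subgroup.zpowers (⟨y, hy⟩ : (P : Subgroup G)) : Subgroup (P : Subgroup G)) : Set (P : Subgroup G)) := by
        rw [mem_normalizer_zpowers_iff, hzp]
        exact hmy
      have h2 := h ⟨y, hy⟩ h1
      rw [Subgroup.mem_centralizer_iff] at h2
      exact (congrArg Subtype.val (h2 ⟨y, hy⟩ rfl)).symm
    obtain ⟨k, hk⟩ := two_pow_of_primes (orderOf_pos x) hx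
    obtain ⟨t, u, ht, hu, hntu, ⟨l, hl⟩, hodd⟩ := exists_two_odd_decomp n
    have hzn : Subgroup.zpowers n ≤ Subgroup.normalizer ((Subgroup.zpowers x : Subgroup G) : Set G) :=
      Subgroup.zpowers_le.mpr hn
    have hux : u * x = x * u := odd_normalizes_centralizes x u k hk hodd (hzn hu)
    have htN := hzn ht
    -- the 2-group generated by x and t
    have hX : IsPGroup 2 (Subgroup.zpowers x) := IsPGroup.of_card (n := k) (by rw [Nat.card_zpowers, hk])
    have hT : IsPGroup 2 (Subgroup.zpowers t) := IsPGroup.of_card (n := l) (by rw [Nat.card_zpowers, hl])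
    have hsup : IsPGroup 2 (Subgroup.zpowers t ⊔ Subgroup.zpowers x : Subgroup G) :=
      hT.to_sup_of_normal_right' hX (Subgroup.zpowers_le.mpr htN)
    obtain ⟨Q, hQ⟩ := hsup.exists_le_sylow
    obtain ⟨g, hg⟩ := MulAction.exists_smul_eq G Q P
    have hmem : ∀ q : G, q ∈ (Q : Subgroup G) → g * q * g⁻¹ ∈ (P : Subgroup G) := by
      intro q hq
      rw [← hg, Sylow.coe_subgroup_smul, Subgroup.mem_smul_pointwise_iff_exists]
      exact ⟨q, hq, by simp [MulAut.smul_def]⟩
    have hxQ : x ∈ (Q : Subgroup G) := hQ (le_sup_right (a := Subgroup.zpowers t) (Subgroup.mem_zpowers x))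
    have htQ : t ∈ (Q : Subgroup G) := hQ (le_sup_left (b := Subgroup.zpowers x) (Subgroup.mem_zpowers t))
    have htx : t * x * t⁻¹ ∈ Subgroup.zpowers x := (mem_normalizer_zpowers_iff t x).mp htN
    have hconj : (g * t * g⁻¹) * (g * x * g⁻¹) * (g * t * g⁻¹)⁻¹ ∈ Subgroup.zpowers (g * x * g⁻¹) := by
      obtain ⟨i, hi⟩ := Subgroup.mem_zpowers_iff.mp htx
      rw [Subgroup.mem_zpowers_iff]
      refine ⟨i, ?_⟩
      rw [conj_zpow, hi]; group
    have hcomm := hP _ _ (hmem x hxQ) (hmem t htQ) hconj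
    have htx' : t * x = x * t := by
      have e1 : t * x = g⁻¹ * ((g * t * g⁻¹) * (g * x * g⁻¹)) * g := by group
      rw [e1, hcomm]; group
    rw [Subgroup.mem_centralizer_iff]
    intro z hz
    rw [Set.mem_singleton_iff] at hz
    subst hz
    rw [hntu]
    calc z * (t * u) = (z * t) * u := by rw [mul_assoc]
      _ = (t * z) * u := by rw [htx']
      _ = t * (z * u) := by rw [mul_assoc]
      _ = t * (u * z) := by rw [hux]
      _ = t * u * z := by rw [mul_assoc]

end Cfsg.Agent.S4028
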