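import Cfsg.Statements.S4029
import Cfsg.Agent.Lib.Helper2.PermLemma
import Cfsg.Agent.Lib.Helper1.Frattini
import Cfsg.Agent.Lib.Helper9.Signalizer

set_option autoImplicit false
open Cfsg

namespace Cfsg.Agent.S4029

open Subgroup
open scoped commutatorElement

/-- a finite abelian quotient of exponent two gives that many real irreducible characters -/
theorem card_le_card_real_irr {P A : Type*} [Group P] [Fintype P] [Group A] [Finite A]
    (hcomm : ∀ a b : A, a * b = b * a) (hexp : ∀ a : A, a ^ 2 = 1) (π : P →* A)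
    (hπ : Function.Surjective π) :
    Nat.card A ≤ Nat.card {χ : Cfsg.IrrCharacter P // ∀ g : P, ((χ : P → ℂ) g).im = 0} := by
  let _ : CommGroup A := { (inferInstance : Group A) with mul_comm := hcomm }
  have hne : NeZero (Monoid.exponent A) := ⟨(Monoid.exponent_ne_zero_of_finite)⟩
  have hne' : NeZero ((Monoid.exponent A : ℕ) : ℂ) := ⟨by exact_mod_cast hne.ne⟩
  rw [← CommGroup.card_monoidHom_of_hasEnoughRootsOfUnity A ℂ]
  have hreal : ∀ (lam : A →* ℂˣ) (g : P), ((lam (π g) : ℂ)).im = 0 := by
    intro lam g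
    have h1 : (lam (π g) : ℂ) ^ 2 = 1 := by
      rw [← Units.val_pow_eq_pow_val, ← map_pow, hexp, map_one, Units.val_one]
    rcases sq_eq_one_iff.mp h1 with h | h
    · rw [h]; simp
    · rw [h]; simp
  let f : (A →* ℂˣ) → {χ : Cfsg.IrrCharacter P // ∀ g : P, ((χ : P → ℂ) g).im = 0} := fun lam =>
    ⟨⟨fun g => ((lam.comp π) g : ℂ), Cfsg.Agent.Lib.Helper2.isIrrCharacter_of_monoidHom (lam.comp π)⟩,
      fun g => hreal lam g⟩
  have hf : Function.Injective f := by
    intro l1 l2 h12
    have h1 : (fun g => ((l1.comp π) g : ℂ)) = (fun g => ((l2.comp π) g : ℂ)) :=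
      congrArg (fun x => ((x : {χ : Cfsg.IrrCharacter P // ∀ g : P, ((χ : P → ℂ) g).im = 0}) :
        Cfsg.IrrCharacter P).1) h12
    ext a
    obtain ⟨g, rfl⟩ := hπ a
    exact congrFun h1 g
  exact Nat.card_le_card_of_injective f hf

theorem sq_eq_one_of_isConj_inv {P : Type*} [Group P] [Finite P]
    (hirr : ∀ y : P, Subgroup.normalizer ((Subgroup.zpowers y : Subgroup P) : Set P) ≤ Subgroup.centralizer {y})
    (g : P) (h : IsConj g g⁻¹) : g ^ 2 = 1 := by
  obtain ⟨c, hc⟩ := isConj_iff.mp h
  have h1 : zpowers c ≤ normalizer ((zpowers g : Subgroup P) : Set P) := by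
    apply Cfsg.Agent.Lib.Helper9.zpowers_le_normalizer_of_conj_mem
    intro u hu
    obtain ⟨k, rfl⟩ := mem_zpowers_iff.mp hu
    rw [← conj_zpow, hc]
    exact zpow_mem (inv_mem (mem_zpowers g)) k
  have h2 := hirr g (h1 (mem_zpowers c))
  rw [mem_centralizer_iff] at h2
  have h3 : g * c = c * g := h2 g rfl
  have h4 : c * g * c⁻¹ = g := by rw [← h3, mul_inv_cancel_right]
  rw [h4] at hc
  rw [pow_two]
  nth_rewrite 2 [hc]
  exact mul_inv_cancel g

theorem result {P : Type*} [Group P] [Finite P] (hP : IsPGroup 2 P)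
    (hirr : ∀ y : P, Subgroup.normalizer ((Subgroup.zpowers y : Subgroup P) : Set P) ≤ Subgroup.centralizer {y}) :
    Nat.card (P ⧸ frattini P) ≤ Nat.card {c : ConjClasses P // ∃ y : P, ConjClasses.mk y = c ∧ orderOf y = 2} + 1 ∧
    Nat.card (P ⧸ frattini P) ≤ Nat.card (Subgroup.closure {y : P | orderOf y = 2}) := by
  classical
  have : Fintype P := Fintype.ofFinite P
  have : Fact (Nat.Prime 2) := ⟨Nat.prime_two⟩
  -- the quotient is elementary abelian
  have hcomm : ∀ a b : P ⧸ frattini P, a * b = b * a := by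
    intro a b
    obtain ⟨x, rfl⟩ := QuotientGroup.mk_surjective a
    obtain ⟨y, rfl⟩ := QuotientGroup.mk_surjective b
    rw [← QuotientGroup.mk_mul, ← QuotientGroup.mk_mul, QuotientGroup.eq]
    apply Cfsg.Agent.Lib.Helper1.IsPGroup.commutator_le_frattini hP
    rw [commutator_def]
    have h1 : (x * y)⁻¹ * (y * x) = ⁅y⁻¹, x⁻¹⁆ := by
      rw [commutatorElement_def]; group
    rw [h1]
    exact Subgroup.commutator_mem_commutator (mem_top _) (mem_top _)
  have hexp : ∀ a : P ⧸ frattini P, a ^ 2 = 1 := by
    intro a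
    obtain ⟨x, rfl⟩ := QuotientGroup.mk_surjective a
    rw [← QuotientGroup.mk_pow, QuotientGroup.eq_one_iff]
    exact Cfsg.Agent.Lib.Helper1.IsPGroup.pow_mem_frattini hP x
  have h1 := card_le_card_real_irr hcomm hexp (QuotientGroup.mk' (frattini P))
    (QuotientGroup.mk'_surjective _)
  rw [Cfsg.Agent.Lib.Helper2.card_real_irr_eq_card_real_classes] at h1
  -- real classes inject into `Option` of the involution classes
  have hrep : ∀ C : {C : ConjClasses P // ∀ g : P, ConjClasses.mk g = C → IsConj g g⁻¹},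
      C.1 ≠ ConjClasses.mk 1 → ∃ y : P, ConjClasses.mk y = C.1 ∧ orderOf y = 2 := by
    intro C hC
    obtain ⟨g, hg⟩ := ConjClasses.exists_rep C.1
    refine ⟨g, hg, ?_⟩
    apply orderOf_eq_prime (sq_eq_one_of_isConj_inv hirr g (C.2 g hg))
    rintro rfl
    exact hC hg.symm
  let f : {C : ConjClasses P // ∀ g : P, ConjClasses.mk g = C → IsConj g g⁻¹} →
      Option {c : ConjClasses P // ∃ y : P, ConjClasses.mk y = c ∧ orderOf y = 2} := fun C =>
    if h : C.1 = ConjClasses.mk 1 then none else some ⟨C.1, hrep C h⟩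
  have hf : Function.Injective f := by
    intro C C' hCC'
    by_cases h : C.1 = ConjClasses.mk 1 <;> by_cases h' : C'.1 = ConjClasses.mk 1
    · exact Subtype.ext (h.trans h'.symm)
    · simp only [f, dif_pos h, dif_neg h'] at hCC'
      exact absurd hCC' (by simp)
    · simp only [f, dif_neg h, dif_pos h'] at hCC'
      exact absurd hCC' (by simp)
    · simp only [f, dif_neg h, dif_neg h', Option.some.injEq, Subtype.mk.injEq] at hCC'
      exact Subtype.ext hCC'
  have h2 := Nat.card_le_card_of_injective f hf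
  rw [Finite.card_option] at h2
  have h3 := h1.trans h2
  refine ⟨h3, h3.trans ?_⟩
  -- involution classes plus one inject into the subgroup generated by involutions
  have hch : ∀ c : {c : ConjClasses P // ∃ y : P, ConjClasses.mk y = c ∧ orderOf y = 2},
      ∃ y : P, ConjClasses.mk y = c.1 ∧ orderOf y = 2 := fun c => c.2
  choose r hr1 hr2 using hch
  let e : Option {c : ConjClasses P // ∃ y : P, ConjClasses.mk y = c ∧ orderOf y = 2} →
      ↥(Subgroup.closure {y : P | orderOf y = 2}) := fun o =>
    match o with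
    | none => 1
    | some c => ⟨r c, Subgroup.subset_closure (hr2 c)⟩
  have he : Function.Injective e := by
    intro o o' hoo'
    match o, o' with
    | none, none => rfl
    | none, some c =>
      exfalso
      have h4 : (1 : P) = r c := congrArg Subtype.val hoo'
      have h5 := hr2 c
      rw [← h4, orderOf_one] at h5
      omega
    | some c, none =>
      exfalso
      have h4 : r c = (1 : P) := congrArg Subtype.val hoo'
      have h5 := hr2 c
      rw [h4, orderOf_one] at h5
      omega
    | some c, some c' =>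
      have h4 : r c = r c' := congrArg Subtype.val hoo'
      congr 1
      apply Subtype.ext
      rw [← hr1 c, ← hr1 c', h4]
  have h4 := Nat.card_le_card_of_injective e he
  rwa [Finite.card_option] at h4

end Cfsg.Agent.S4029
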