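import Cfsg.Statements.S4032
import Cfsg.Agent.Lib.Helper1.Coprime

set_option autoImplicit false
open Cfsg

namespace Cfsg.Agent.S4032

open Cfsg.Agent.Lib.Helper1
open scoped Pointwise

theorem exists_pi_lift {G : Type*} [Group G] [Finite G] (π : Set ℕ) (N : Subgroup G) [N.Normal]
    (y : G ⧸ N) (hy : ∀ r : ℕ, r.Prime → r ∣ orderOf y → r ∈ π) :
    ∃ x : G, (QuotientGroup.mk x : G ⧸ N) = y ∧ ∀ r : ℕ, r.Prime → r ∣ orderOf x → r ∈ π := by
  suffices h : ∀ n : ℕ, ∀ g : G, orderOf g = n → (QuotientGroup.mk g : G ⧸ N) = y →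
      ∃ x : G, (QuotientGroup.mk x : G ⧸ N) = y ∧ ∀ r : ℕ, r.Prime → r ∣ orderOf x → r ∈ π by
    obtain ⟨g, hg⟩ := QuotientGroup.mk_surjective y
    exact h _ g rfl hg
  intro n
  induction n using Nat.strong_induction_on with
  | _ n ih =>
    intro g hgn hgy
    by_cases hall : ∀ r : ℕ, r.Prime → r ∣ orderOf g → r ∈ π
    · exact ⟨g, hgy, hall⟩
    · push Not at hall
      obtain ⟨r, hr, hrd, hrπ⟩ := hall
      have hcop : Nat.Coprime r (orderOf y) := by
        rw [Nat.Prime.coprime_iff_not_dvd hr]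
        intro h; exact hrπ (hy r hr h)
      obtain ⟨s, hs⟩ : ∃ s : ℕ, y ^ (r * s) = y := by
        obtain ⟨s, hs⟩ := exists_pow_eq_self_of_coprime hcop
        exact ⟨s, by rw [pow_mul, hs]⟩
      refine ih (orderOf (g ^ (r * s))) ?_ (g ^ (r * s)) rfl ?_
      · have h1 : orderOf (g ^ (r * s)) ∣ orderOf (g ^ r) := by
          rw [pow_mul]; exact orderOf_pow_dvd s
        have h2 : orderOf (g ^ r) = orderOf g / r := orderOf_pow_of_dvd hr.ne_zero hrd
        have h3 : 0 < orderOf g := orderOf_pos g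
        have h4 : orderOf g / r < orderOf g := Nat.div_lt_self h3 hr.one_lt
        have h5 : 0 < orderOf g / r := Nat.div_pos (Nat.le_of_dvd h3 hrd) hr.pos
        rw [h2] at h1
        rw [← hgn]
        exact lt_of_le_of_lt (Nat.le_of_dvd h5 h1) h4
      · rw [QuotientGroup.mk_pow, hgy, hs]

/-- Let π be a set of primes and G a finite group in which N_G(⟨x⟩) = C_G(x) for every π-element x. If N is a normal subgroup of G whose order is divisible by no prime of π, then G/N has the same property: N_{G/N}(⟨y⟩) = C_{G/N}(y) for every π-element y of G/N. -/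
theorem result {G : Type*} [Group G] [Finite G] (π : Set ℕ)
    (hirr : ∀ x : G, (∀ r : ℕ, r.Prime → r ∣ orderOf x → r ∈ π) →
      Subgroup.normalizer ((Subgroup.zpowers x : Subgroup G) : Set G) ≤ Subgroup.centralizer {x})
    (N : Subgroup G) [N.Normal] (hN : ∀ r : ℕ, r.Prime → r ∣ Nat.card N → r ∉ π) :
    ∀ y : G ⧸ N, (∀ r : ℕ, r.Prime → r ∣ orderOf y → r ∈ π) →
      Subgroup.normalizer ((Subgroup.zpowers y : Subgroup (G ⧸ N)) : Set (G ⧸ N)) ≤ Subgroup.centralizer {y} := by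
  intro y hy zbar hz
  obtain ⟨x, hxy, hxπ⟩ := exists_pi_lift π N y hy
  obtain ⟨z, rfl⟩ := QuotientGroup.mk_surjective zbar
  -- z x z⁻¹ ∈ x^j N
  have h1 : (QuotientGroup.mk z : G ⧸ N) * y * (QuotientGroup.mk z : G ⧸ N)⁻¹ ∈ Subgroup.zpowers y := by
    rw [Subgroup.mem_set_normalizer_iff] at hz
    exact (hz y).mp (Subgroup.mem_zpowers y)
  obtain ⟨j, hj⟩ := Subgroup.mem_zpowers_iff.mp h1
  have h2 : (x ^ j)⁻¹ * (z * x * z⁻¹) ∈ N := by
    rw [← QuotientGroup.eq]
    rw [QuotientGroup.mk_zpow, QuotientGroup.mk_mul, QuotientGroup.mk_mul, QuotientGroup.mk_inv, hxy, hj]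
  have hact : CoprimeAct (Subgroup.zpowers x) N := by
    refine ⟨?_, ?_, ?_⟩
    · rw [Subgroup.normalizer_eq_top]; exact le_top
    · rw [Nat.card_zpowers]
      apply Nat.coprime_of_dvd
      intro r hr hrx hrN
      exact hN r hr hrN (hxπ r hr hrx)
    · left
      exact Group.isSolvable_of_comm (fun a b => by
        have := (Subgroup.zpowers_isMulCommutative x).is_comm.comm a b
        exact this)
  have hB : MulAut.conj z • Subgroup.zpowers x ≤ Subgroup.zpowers x ⊔ N := by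
    intro b hb
    rw [mem_conj_smul] at hb
    obtain ⟨i, hi⟩ := Subgroup.mem_zpowers_iff.mp hb
    have hb' : b = (z * x * z⁻¹) ^ i := by
      have : (z * x * z⁻¹) ^ i = z * x ^ i * z⁻¹ := by
        rw [← MulAut.conj_apply, ← MulAut.conj_apply, map_zpow]
      rw [this, hi]; group
    rw [hb']
    apply Subgroup.zpow_mem
    have : z * x * z⁻¹ = x ^ j * ((x ^ j)⁻¹ * (z * x * z⁻¹)) := by group
    rw [this]
    exact Subgroup.mul_mem_sup (Subgroup.zpow_mem _ (Subgroup.mem_zpowers x) j) h2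
  obtain ⟨k, hkN, hk⟩ := hact.exists_conj_eq (MulAut.conj z • Subgroup.zpowers x) hB (card_conj_smul z _)
  have hw : k⁻¹ * z ∈ Subgroup.normalizer ((Subgroup.zpowers x : Subgroup G) : Set G) := by
    rw [← conj_smul_eq_self_iff_mem_normalizer, map_mul, mul_smul, ← hk, ← mul_smul, ← map_mul,
      inv_mul_cancel, map_one, one_smul]
  have hc := hirr x hxπ hw
  rw [Subgroup.mem_centralizer_iff] at hc ⊢
  intro w hw'
  rw [Set.mem_singleton_iff] at hw'
  rw [hw']
  have h3 := hc x (Set.mem_singleton x)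
  have h4 : (QuotientGroup.mk (k⁻¹ * z) : G ⧸ N) = QuotientGroup.mk z := by
    rw [QuotientGroup.mk_mul, QuotientGroup.mk_inv, (QuotientGroup.eq_one_iff k).mpr hkN, inv_one, one_mul]
  rw [← h4, ← hxy, ← QuotientGroup.mk_mul, ← QuotientGroup.mk_mul, h3]

end Cfsg.Agent.S4032
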