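import Cfsg.Statements.S4034
import Cfsg.Agent.Lib.Helper22.PRegular
import Cfsg.Agent.Lib.Helper22.Conj

set_option autoImplicit false
open Cfsg

namespace Cfsg.Agent.S4034

open Cfsg.Agent.Lib.Helper22

/-- Let G be a finite group and p a prime. Every conjugacy class of p-regular elements of G (elements of order prime to p) has p-power size if and only if G has an abelian p-complement, i.e. an abelian subgroup of order prime to p and p-power index. -/
theorem result {G : Type*} [Group G] [Finite G] {p : ℕ} (hp : p.Prime) :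
    (∀ x : G, (orderOf x).Coprime p → ∃ k : ℕ, (ConjClasses.mk x).carrier.ncard = p ^ k) ↔
    (∃ H : Subgroup G, IsMulCommutative H ∧ ¬ p ∣ Nat.card H ∧ ∃ k : ℕ, H.index = p ^ k) := by
  have : Fact p.Prime := ⟨hp⟩
  constructor
  · intro h
    have hstar : PStar p G := by
      intro x hx
      obtain ⟨k, hk⟩ := h x hx
      exact ⟨k, by rw [index_centralizer_eq_ncard_carrier, hk]⟩
    obtain ⟨H, hab, hHp, hk⟩ := PStar.exists_abelian_complement p _ G rfl hstar
    refine ⟨H, ?_, hHp, hk⟩
    exact ⟨⟨fun a b => Subtype.ext (hab a a.2 b b.2)⟩⟩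
  · rintro ⟨H, hcomm, hHp, ⟨k, hk⟩⟩ x hx
    have hab : ∀ a ∈ H, ∀ b ∈ H, a * b = b * a := by
      intro a ha b hb
      have := hcomm.is_comm.comm (⟨a, ha⟩ : H) ⟨b, hb⟩
      exact congrArg Subtype.val this
    obtain ⟨g, hg⟩ := exists_conj_mem_of_abelian_complement p _ G rfl H hab hHp ⟨k, hk⟩ x hx
    have hconj : ConjClasses.mk x = ConjClasses.mk (g⁻¹ * x * g) := by
      rw [ConjClasses.mk_eq_mk_iff_isConj, isConj_iff]
      exact ⟨g⁻¹, by simp⟩
    have hHC : H ≤ Subgroup.centralizer ({g⁻¹ * x * g} : Set G) := by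
      intro h hh
      rw [Subgroup.mem_centralizer_singleton_iff]
      exact hab h hh _ hg
    have hdvd : (Subgroup.centralizer ({g⁻¹ * x * g} : Set G)).index ∣ p ^ k := by
      rw [← hk]; exact Subgroup.index_dvd_of_le hHC
    obtain ⟨j, hj⟩ := dvd_prime_pow_exists hp hdvd
    exact ⟨j, by rw [hconj, ← index_centralizer_eq_ncard_carrier, hj]⟩

end Cfsg.Agent.S4034
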