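import Cfsg.Statements.S4036

set_option autoImplicit false
open Cfsg

namespace Cfsg.Agent.S4036

/-- Let P be a finite abelian p-group and K a group of automorphisms of P (a subgroup of Aut P) whose order is divisible by p. If all non-identity elements of K have the same fixed-point subgroup on P, then K has no non-trivial normal subgroup of order prime to p. -/
theorem result {P : Type*} [CommGroup P] [Finite P] {p : ℕ}
    [Fact p.Prime] (hP : IsPGroup p P) (K : Subgroup (MulAut P)) (hK : p ∣ Nat.card K)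
    (hfix : ∀ x y : MulAut P, x ∈ K → y ∈ K → x ≠ 1 → y ≠ 1 → ∀ v : P, x v = v ↔ y v = v) :
    ∀ N : Subgroup ↥K, N.Normal → ¬ p ∣ Nat.card N → N = ⊥ := by
  intro N hNn hpN
  by_contra hN1
  have hp : p.Prime := Fact.out
  obtain ⟨a, ha⟩ := exists_prime_orderOf_dvd_card' p hK
  obtain ⟨n₀, hn₀N, hn₀1⟩ : ∃ n₀ ∈ N, n₀ ≠ 1 := by
    by_contra h
    push Not at h
    apply hN1
    rw [Subgroup.eq_bot_iff_forall]
    exact h
  have : Fintype N := Fintype.ofFinite N
  -- the norm map
  let τ : P → P := fun v => ∏ n : N, ((n : K) : MulAut P) v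
  have hτmul : ∀ v w, τ (v * w) = τ v * τ w := by
    intro v w
    simp only [τ, map_mul, Finset.prod_mul_distrib]
  have hτone : τ 1 = 1 := by
    simp only [τ, map_one, Finset.prod_const_one]
  have hτinv : ∀ v, τ v⁻¹ = (τ v)⁻¹ := by
    intro v
    simp only [τ, map_inv, Finset.prod_inv_distrib]
  -- equivariance
  have hτK : ∀ (k : K) (v : P), τ ((k : MulAut P) v) = (k : MulAut P) (τ v) := by
    intro k v
    simp only [τ]
    rw [map_prod]
    rw [← Equiv.prod_comp (MulAut.conjNormal (H := N) k).toEquiv]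
    apply Finset.prod_congr rfl
    intro n _
    have : ((((MulAut.conjNormal (H := N) k).toEquiv n : N) : K) : MulAut P) =
        (k : MulAut P) * ((n : K) : MulAut P) * (k : MulAut P)⁻¹ := by
      have h1 : (((MulAut.conjNormal (H := N) k).toEquiv n : N) : K) = k * n * k⁻¹ :=
        MulAut.conjNormal_apply k n
      rw [h1]
      simp
    rw [this]
    simp [MulAut.mul_apply]
  have hτN : ∀ (n : N) (v : P), τ (((n : K) : MulAut P) v) = τ v := by
    intro n v
    show ∏ m : N, ((m : K) : MulAut P) (((n : K) : MulAut P) v) = ∏ m : N, ((m : K) : MulAut P) v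
    rw [← Equiv.prod_comp (Equiv.mulRight n) (fun m : N => ((m : K) : MulAut P) v)]
    apply Finset.prod_congr rfl
    intro m _
    simp [MulAut.mul_apply]
  have hτfix : ∀ w : P, (∀ n : N, ((n : K) : MulAut P) w = w) → τ w = 1 → w = 1 := by
    intro w hw hτw
    have h1 : τ w = w ^ Nat.card N := by
      simp only [τ]
      rw [Finset.prod_congr rfl (fun n _ => hw n), Finset.prod_const, Finset.card_univ,
        Nat.card_eq_fintype_card]
    rw [h1] at hτw
    obtain ⟨k, hk⟩ := hP w
    have h2 : orderOf w ∣ Nat.card N := orderOf_dvd_of_pow_eq_one hτw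
    have h3 : orderOf w ∣ p ^ k := orderOf_dvd_of_pow_eq_one hk
    have h4 : (Nat.card N).Coprime (p ^ k) :=
      Nat.Coprime.pow_right k ((Nat.Prime.coprime_iff_not_dvd hp).mpr hpN).symm
    exact orderOf_eq_one_iff.mp (Nat.eq_one_of_dvd_coprimes h4 h2 h3)
  -- the kernel of τ
  let W : Subgroup P :=
    { carrier := {v | τ v = 1}
      mul_mem' := by
        intro v w hv hw
        show τ (v * w) = 1
        rw [hτmul, show τ v = 1 from hv, show τ w = 1 from hw, one_mul]
      one_mem' := hτone
      inv_mem' := by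
        intro v hv
        show τ v⁻¹ = 1
        rw [hτinv, show τ v = 1 from hv, inv_one] }
  have hWmem : ∀ v, v ∈ W ↔ τ v = 1 := fun v => Iff.rfl
  have hWK : ∀ (k : K) (v : P), v ∈ W → (k : MulAut P) v ∈ W := by
    intro k v hv
    rw [hWmem] at hv ⊢
    rw [hτK, hv, map_one]
  -- W is nontrivial
  have hn₀' : ((n₀ : K) : MulAut P) ≠ 1 := by
    intro h
    apply hn₀1
    exact Subtype.ext h
  obtain ⟨u, hu⟩ : ∃ u : P, ((n₀ : K) : MulAut P) u ≠ u := by
    by_contra h
    push Not at h
    apply hn₀'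
    ext v
    simpa using h v
  have hvW : ((n₀ : K) : MulAut P) u * u⁻¹ ∈ W := by
    rw [hWmem, hτmul, hτinv, hτN ⟨n₀, hn₀N⟩ u, mul_inv_cancel]
  have hv1 : ((n₀ : K) : MulAut P) u * u⁻¹ ≠ 1 := by
    intro h
    apply hu
    exact mul_inv_eq_one.mp h
  have hpW : p ∣ Nat.card W := by
    have hWp : IsPGroup p W := hP.to_subgroup W
    obtain ⟨k, hk⟩ := IsPGroup.iff_card.mp hWp
    rw [hk]
    rcases Nat.eq_zero_or_pos k with h0 | hpos
    · exfalso
      rw [h0, pow_zero] at hk
      have := Subgroup.card_eq_one.mp hk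
      rw [this, Subgroup.mem_bot] at hvW
      exact hv1 hvW
    · exact dvd_pow_self p hpos.ne'
  -- action of ⟨a⟩ on W
  have hA : IsPGroup p (Subgroup.zpowers a) := IsPGroup.of_card (n := 1) (by rw [Nat.card_zpowers, ha, pow_one])
  letI : MulAction (Subgroup.zpowers a) W :=
    { smul := fun z w => ⟨((z : K) : MulAut P) w, hWK z w w.2⟩
      one_smul := by
        intro w
        apply Subtype.ext
        show (((1 : Subgroup.zpowers a) : K) : MulAut P) w = w
        simp
      mul_smul := by
        intro z z' w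
        apply Subtype.ext
        show (((z * z' : Subgroup.zpowers a) : K) : MulAut P) w = ((z : K) : MulAut P) (((z' : K) : MulAut P) w)
        simp [MulAut.mul_apply] }
  have hsmul : ∀ (z : Subgroup.zpowers a) (w : W), ((z • w : W) : P) = ((z : K) : MulAut P) w := by
    intro z w
    rfl
  have h1 : (1 : W) ∈ MulAction.fixedPoints (Subgroup.zpowers a) W := by
    intro z
    apply Subtype.ext
    rw [hsmul]
    simp
  obtain ⟨b, hb, hb1⟩ := hA.exists_fixed_point_of_prime_dvd_card_of_fixed_point W hpW h1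
  have hab : (a : MulAut P) (b : P) = b := by
    have := hb ⟨a, Subgroup.mem_zpowers a⟩
    have h2 := congrArg Subtype.val this
    rw [hsmul] at h2
    exact h2
  have ha1 : (a : MulAut P) ≠ 1 := by
    intro h
    have : a = 1 := Subtype.ext h
    rw [this, orderOf_one] at ha
    exact hp.one_lt.ne ha
  have hbN : ∀ n : N, ((n : K) : MulAut P) (b : P) = b := by
    intro n
    by_cases hn1 : ((n : K) : MulAut P) = 1
    · rw [hn1]; rfl
    · exact (hfix (a : MulAut P) ((n : K) : MulAut P) a.2 (n : K).2 ha1 hn1 b).mp hab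
  have hb1' : (b : P) = 1 := hτfix b hbN ((hWmem b).mp b.2)
  apply hb1
  exact Subtype.ext hb1'.symm

end Cfsg.Agent.S4036
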