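import Cfsg.Statements.S4043
import Cfsg.Agent.Lib.Helper1.Coprime
import Cfsg.Agent.Lib.Helper1.Basic
import Cfsg.Agent.Lib.Helper22.Jordan
import Cfsg.Agent.Lib.Helper22.Frobenius
import Cfsg.Agent.Lib.Helper22.PElt

set_option autoImplicit false
open Cfsg

namespace Cfsg.Agent.S4043

open Subgroup Pointwise Cfsg.Agent.Lib.Helper1

variable {G : Type*} [Group G]

/-- unpack a normal `p`-complement of a subgroup into subgroups of the ambient group -/
theorem unpack [Finite G] {p : ℕ} [Fact p.Prime] (A : Subgroup G) (h : Cfsg.HasNormalPComplement p A) :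
    ∃ K P : Subgroup G, K ≤ A ∧ P ≤ A ∧ A ≤ normalizer (K : Set G) ∧ (Nat.card K).Coprime p ∧
      IsPGroup p P ∧ Nat.card K * Nat.card P = Nat.card A ∧
      ∀ a ∈ A, ∃ k ∈ K, ∃ q ∈ P, a = k * q := by
  obtain ⟨P, N', hN'n, hcompl⟩ := h
  refine ⟨N'.map A.subtype, (P : Subgroup A).map A.subtype, map_subtype_le _, map_subtype_le _,
    ?_, ?_, ?_, ?_, ?_⟩
  · intro a ha
    rw [mem_normalizer_iff]
    intro x
    constructor
    · rintro ⟨y, hy, rfl⟩
      exact ⟨⟨a, ha⟩ * y * ⟨a, ha⟩⁻¹, hN'n.conj_mem y hy _, rfl⟩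
    · rintro ⟨y, hy, hyx⟩
      refine ⟨⟨a, ha⟩⁻¹ * y * ⟨a, ha⟩, ?_, ?_⟩
      · have := hN'n.conj_mem y hy ⟨a, ha⟩⁻¹
        simpa using this
      · simp only [Subgroup.subtype_apply, Subgroup.coe_mul, Subgroup.coe_inv]
        have hyx' : (y : G) = a * x * a⁻¹ := hyx
        rw [hyx']; group
  · rw [Subgroup.card_subtype, ← hcompl.index_eq_card]
    exact ((Nat.Prime.coprime_iff_not_dvd (Fact.out : p.Prime)).mpr P.not_dvd_index).symm
  · exact P.2.map _
  · rw [Subgroup.card_subtype, Subgroup.card_subtype]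
    exact hcompl.card_mul_card
  · intro a ha
    have hsup : N' ⊔ (P : Subgroup A) = ⊤ := hcompl.sup_eq_top
    obtain ⟨n, hn, q, hq, hnq⟩ := Cfsg.Agent.Lib.Helper22.exists_mul_of_sup_eq_top N' (P : Subgroup A) hsup ⟨a, ha⟩
    exact ⟨n, ⟨n, hn, rfl⟩, q, ⟨q, hq, rfl⟩, congrArg Subtype.val hnq⟩

/-- conjugation action of a subgroup on a subgroup it normalizes -/
@[instance_reducible]
def conjActOn (P D : Subgroup G) (h : P ≤ normalizer (D : Set G)) : MulAction P D where
  smul g d := ⟨(g : G) * d * (g : G)⁻¹, (mem_normalizer_iff.mp (h g.2) d).mp d.2⟩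
  one_smul d := by
    apply Subtype.ext
    show ((1 : P) : G) * d * ((1 : P) : G)⁻¹ = d
    simp
  mul_smul g h d := by
    apply Subtype.ext
    show ((g * h : P) : G) * d * ((g * h : P) : G)⁻¹ = (g : G) * ((h : G) * d * (h : G)⁻¹) * (g : G)⁻¹
    simp only [Subgroup.coe_mul]
    group

/-- under the fixed-point-free hypothesis, `N_G(K) ≤ B` -/
theorem normalizer_le [Finite G] {p : ℕ} [Fact p.Prime] (N : Subgroup G) [hNn : N.Normal] (hN : IsPGroup p N)
    (B K P : Subgroup G) (hsup : N ⊔ B = ⊤) (hPB : P ≤ B)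
    (hnorm : B ≤ normalizer (K : Set G)) (hcop : (Nat.card K).Coprime p) (hP : IsPGroup p P)
    (hdec : ∀ a ∈ B, ∃ k ∈ K, ∃ q ∈ P, a = k * q)
    (hC : ∀ n : G, n ∈ N → (∀ a : G, a ∈ B → a * n * a⁻¹ = n) → n = 1) :
    normalizer (K : Set G) ≤ B := by
  -- D = C_N(K)
  set D : Subgroup G := N ⊓ centralizer (K : Set G) with hD
  have hKN : K ⊓ N = ⊥ := by
    have hNc : ∃ j, Nat.card N = p ^ j := IsPGroup.iff_card.mp hN
    obtain ⟨j, hj⟩ := hNc
    have : (Nat.card K).Coprime (Nat.card N) := by rw [hj]; exact Nat.Coprime.pow_right j hcop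
    exact disjoint_iff.mp (Subgroup.disjoint_of_coprime_natCard this)
  have hBD : B ≤ normalizer (D : Set G) := by
    intro b hb
    have hbK := hnorm hb
    rw [mem_normalizer_iff] at hbK ⊢
    have key : ∀ c : G, ∀ d ∈ D, c ∈ normalizer (K : Set G) → c * d * c⁻¹ ∈ D := by
      intro c d hd hc
      rw [mem_normalizer_iff] at hc
      refine ⟨hNn.conj_mem d hd.1 c, ?_⟩
      show c * d * c⁻¹ ∈ centralizer (K : Set G)
      rw [mem_centralizer_iff]
      intro k hk
      have hk' : c⁻¹ * k * c ∈ K := by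
        have := (hc (c⁻¹ * k * c)).mpr (by
          have : c * (c⁻¹ * k * c) * c⁻¹ = k := by group
          rw [this]; exact hk)
        exact this
      have hcomm := (mem_centralizer_iff.mp hd.2) (c⁻¹ * k * c) hk'
      calc k * (c * d * c⁻¹) = c * ((c⁻¹ * k * c) * d) * c⁻¹ := by group
        _ = c * (d * (c⁻¹ * k * c)) * c⁻¹ := by rw [hcomm]
        _ = c * d * c⁻¹ * k := by group
    intro d
    constructor
    · intro hd
      exact key b d hd (hnorm hb)
    · intro hd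
      have := key b⁻¹ _ hd ((normalizer (K : Set G)).inv_mem (hnorm hb))
      have h2 : b⁻¹ * (b * d * b⁻¹) * b⁻¹⁻¹ = d := by group
      rwa [h2] at this
  have hDbot : D = ⊥ := by
    by_contra hne
    have hDp : IsPGroup p D := hN.to_le inf_le_left
    have hdvd : p ∣ Nat.card D := by
      rcases hDp.card_eq_or_dvd with h | h
      · exact absurd (Subgroup.card_eq_one.mp h) hne
      · exact h
    let _ := conjActOn P D (hPB.trans hBD)
    have hPp : IsPGroup p P := hP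
    have hfix1 : (1 : D) ∈ MulAction.fixedPoints P D := by
      intro g
      apply Subtype.ext
      show (g : G) * ((1 : D) : G) * (g : G)⁻¹ = ((1 : D) : G)
      simp
    obtain ⟨z, hz, hz1⟩ := hPp.exists_fixed_point_of_prime_dvd_card_of_fixed_point D hdvd hfix1
    apply hz1
    apply Subtype.ext
    symm
    apply hC z z.2.1
    intro a ha
    obtain ⟨k, hk, q, hq, rfl⟩ := hdec a ha
    have hq' : q * (z : G) * q⁻¹ = z := congrArg Subtype.val (hz ⟨q, hq⟩)
    have hk' : k * (z : G) = (z : G) * k := ((mem_centralizer_iff.mp z.2.2) k hk).symm ▸ rfl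
    calc k * q * (z : G) * (k * q)⁻¹ = k * (q * (z : G) * q⁻¹) * k⁻¹ := by group
      _ = k * (z : G) * k⁻¹ := by rw [hq']
      _ = (z : G) * k * k⁻¹ := by rw [hk']
      _ = z := by group
  intro g hg
  obtain ⟨n, hn, b, hb, rfl⟩ := Cfsg.Agent.Lib.Helper22.exists_mul_of_sup_eq_top N B hsup g
  have hnK : n ∈ normalizer (K : Set G) := by
    have := (normalizer (K : Set G)).mul_mem hg ((normalizer (K : Set G)).inv_mem (hnorm hb))
    rwa [mul_inv_cancel_right] at this
  have hnD : n ∈ D := by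
    refine ⟨hn, ?_⟩
    show n ∈ centralizer (K : Set G)
    rw [mem_centralizer_iff]
    intro k hk
    rw [mem_normalizer_iff] at hnK
    have h1 : n * k * n⁻¹ * k⁻¹ ∈ K := K.mul_mem ((hnK k).mp hk) (K.inv_mem hk)
    have h2 : n * k * n⁻¹ * k⁻¹ ∈ N := by
      have : n * k * n⁻¹ * k⁻¹ = n * (k * n⁻¹ * k⁻¹) := by group
      rw [this]
      exact N.mul_mem hn (hNn.conj_mem _ (N.inv_mem hn) k)
    have h3 : n * k * n⁻¹ * k⁻¹ ∈ K ⊓ N := ⟨h1, h2⟩
    rw [hKN, mem_bot] at h3
    have : n * k = k * n := by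
      calc n * k = (n * k * n⁻¹ * k⁻¹) * (k * n) := by group
        _ = k * n := by rw [h3, one_mul]
    exact this.symm
  rw [hDbot, mem_bot] at hnD
  rw [hnD, one_mul]
  exact hb


/-- Let G be a finite group that is the semidirect product of a normal p-subgroup N by a subgroup A, and also of N by a subgroup A₁, where p is a prime and A and A₁ both have normal p-complements. If C_N(A) = C_N(A₁) = 1, then A₁ is conjugate to A by an element of N. -/
theorem result {G : Type*} [Group G] [Finite G] {p : ℕ}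
    [Fact p.Prime] (N : Subgroup G) [N.Normal] (hN : IsPGroup p N) (A A₁ : Subgroup G)
    (hA : A.IsComplement' N) (hA₁ : A₁.IsComplement' N)
    (hAp : Cfsg.HasNormalPComplement p A) (hA₁p : Cfsg.HasNormalPComplement p A₁)
    (hC : ∀ n : G, n ∈ N → (∀ a : G, a ∈ A → a * n * a⁻¹ = n) → n = 1)
    (hC₁ : ∀ n : G, n ∈ N → (∀ a : G, a ∈ A₁ → a * n * a⁻¹ = n) → n = 1) :
    ∃ n : G, n ∈ N ∧ A₁ = A.map (MulAut.conj n).toMonoidHom := by
  have hp : p.Prime := Fact.out
  have hNn : N.Normal := inferInstance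
  obtain ⟨K, P, hKA, hPA, hAK, hKcop, hPp, hcardA, hdecA⟩ := unpack A hAp
  obtain ⟨K₁, P₁, hK₁A, hP₁A, hAK₁, hK₁cop, hP₁p, hcardA₁, hdecA₁⟩ := unpack A₁ hA₁p
  have hcA : Nat.card A = N.index := hA.index_eq_card.symm
  have hcA₁ : Nat.card A₁ = N.index := hA₁.index_eq_card.symm
  obtain ⟨a, ha⟩ := IsPGroup.iff_card.mp hPp
  obtain ⟨a₁, ha₁⟩ := IsPGroup.iff_card.mp hP₁p
  have hKK : Nat.card K = Nat.card K₁ := by
    have e : Nat.card K * p ^ a = Nat.card K₁ * p ^ a₁ := by
      rw [← ha, ← ha₁, hcardA, hcardA₁, hcA, hcA₁]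
    have d1 : Nat.card K ∣ Nat.card K₁ :=
      Nat.Coprime.dvd_of_dvd_mul_right (Nat.Coprime.pow_right a₁ hKcop) (Dvd.intro _ e)
    have d2 : Nat.card K₁ ∣ Nat.card K :=
      Nat.Coprime.dvd_of_dvd_mul_right (Nat.Coprime.pow_right a hK₁cop) (Dvd.intro _ e.symm)
    exact Nat.dvd_antisymm d1 d2
  have hsupA : N ⊔ A = ⊤ := by rw [sup_comm]; exact hA.sup_eq_top
  have hsupA₁ : N ⊔ A₁ = ⊤ := by rw [sup_comm]; exact hA₁.sup_eq_top
  have hAN : A ⊓ N = ⊥ := disjoint_iff.mp hA.disjoint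
  -- K₁ ≤ K ⊔ N
  have hK₁le : K₁ ≤ K ⊔ N := by
    intro x hx
    obtain ⟨n, hn, b, hb, hxnb⟩ := Cfsg.Agent.Lib.Helper22.exists_mul_of_sup_eq_top N A hsupA x
    -- order of b divides order of x
    have hbx : orderOf b ∣ orderOf x := by
      apply orderOf_dvd_of_pow_eq_one
      have h1 : (QuotientGroup.mk b : G ⧸ N) = QuotientGroup.mk x := by
        rw [hxnb, QuotientGroup.mk_mul, (QuotientGroup.eq_one_iff n).mpr hn, one_mul]
      have h2 : (QuotientGroup.mk (b ^ orderOf x) : G ⧸ N) = 1 := by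
        rw [QuotientGroup.mk_pow, h1, ← QuotientGroup.mk_pow, pow_orderOf_eq_one]
        rfl
      have h3 : b ^ orderOf x ∈ N := (QuotientGroup.eq_one_iff _).mp h2
      have h4 : b ^ orderOf x ∈ A ⊓ N := ⟨A.pow_mem hb _, h3⟩
      rwa [hAN, mem_bot] at h4
    have hxcop : (orderOf x).Coprime p :=
      Nat.Coprime.coprime_dvd_left (orderOf_dvd_natCard (⟨x, hx⟩ : K₁) |> fun h => by
        rwa [Subgroup.orderOf_mk] at h) hK₁cop
    have hbcop : (orderOf b).Coprime p := Nat.Coprime.coprime_dvd_left hbx hxcop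
    have hKn : (K.subgroupOf A).Normal := (normal_subgroupOf_iff_le_normalizer hKA).mpr hAK
    have hidx : (K.subgroupOf A).index = p ^ a := by
      have h1 : Nat.card K * K.relIndex A = Nat.card A :=
        Cfsg.Agent.Lib.Helper22.card_mul_relIndex K A hKA
      rw [← hcardA, ha] at h1
      have hKpos : 0 < Nat.card K := Nat.card_pos
      exact Nat.eq_of_mul_eq_mul_left hKpos h1
    have hbK : (⟨b, hb⟩ : A) ∈ K.subgroupOf A := by
      apply Cfsg.Agent.Lib.Helper22.mem_of_coprime_index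
      rw [hidx, Subgroup.orderOf_mk]
      exact Nat.Coprime.pow_right a hbcop
    have hbK' : b ∈ K := hbK
    rw [hxnb]
    exact (K ⊔ N).mul_mem (mem_sup_right hn) (mem_sup_left hbK')
  have hNsolv : Group.IsSolvable N := by
    have := hN.isNilpotent
    infer_instance
  obtain ⟨j, hj⟩ := IsPGroup.iff_card.mp hN
  have hact : CoprimeAct K N :=
    ⟨by rw [normalizer_eq_top]; exact le_top, by rw [hj]; exact Nat.Coprime.pow_right j hKcop,
      Or.inr hNsolv⟩
  obtain ⟨n, hn, hconj⟩ := hact.exists_conj_eq K₁ hK₁le hKK.symm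
  refine ⟨n, hn, ?_⟩
  have hNA : normalizer (K : Set G) = A :=
    le_antisymm (normalizer_le N hN A K P hsupA hPA hAK hKcop hPp hdecA hC) hAK
  have hNA₁ : normalizer (K₁ : Set G) = A₁ :=
    le_antisymm (normalizer_le N hN A₁ K₁ P₁ hsupA₁ hP₁A hAK₁ hK₁cop hP₁p hdecA₁ hC₁) hAK₁
  ext g
  rw [← conj_smul_eq_map, mem_conj_smul, ← hNA₁, ← hNA, ← hconj]
  constructor
  · intro hg
    rw [mem_normalizer_iff] at hg ⊢
    intro h'
    have := hg (n * h' * n⁻¹)
    rw [mem_conj_smul, mem_conj_smul] at this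
    have e1 : n⁻¹ * (n * h' * n⁻¹) * n = h' := by group
    have e2 : n⁻¹ * (g * (n * h' * n⁻¹) * g⁻¹) * n = n⁻¹ * g * n * h' * (n⁻¹ * g * n)⁻¹ := by group
    rwa [e1, e2] at this
  · intro hg
    rw [mem_normalizer_iff] at hg ⊢
    intro h
    have := hg (n⁻¹ * h * n)
    rw [mem_conj_smul, mem_conj_smul]
    have e2 : n⁻¹ * g * n * (n⁻¹ * h * n) * (n⁻¹ * g * n)⁻¹ = n⁻¹ * (g * h * g⁻¹) * n := by group
    rwa [e2] at this

end Cfsg.Agent.S4043
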