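import Cfsg.Statements.S4049
import Cfsg.Agent.Lib.Helper22.TwoClosed

set_option autoImplicit false
open Cfsg

namespace Cfsg.Agent.S4049

open Subgroup Cfsg.Agent.Lib.Helper22

universe u

/-- the hypothesis, as a property of groups -/
def Pr (G : Type u) [Group G] : Prop :=
  ∀ H : Subgroup G, H ≠ ⊥ → ¬ 2 ∣ Nat.card ↥H →
    ¬ 2 ∣ (Subgroup.centralizer (H : Set G)).relIndex (Subgroup.normalizer (H : Set G))

/-- a `2`-element normalizing a nontrivial odd order subgroup centralizes it -/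
theorem mem_centralizer_of_two_elt (G : Type u) [Group G] [Finite G] (hG : Pr G)
    (H : Subgroup G) (hH : H ≠ ⊥) (hodd : ¬ 2 ∣ Nat.card ↥H) (g : G)
    (hg : g ∈ normalizer (H : Set G)) (k : ℕ) (hgk : g ^ 2 ^ k = 1) :
    g ∈ centralizer (H : Set G) := by
  have hidx := hG H hH hodd
  have hn : ((centralizer (H : Set G)).subgroupOf (normalizer (H : Set G))).Normal := by
    rw [← Subgroup.normalizerMonoidHom_ker]
    infer_instance
  have h1 : (⟨g, hg⟩ : ↥(normalizer (H : Set G))) ^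
      ((centralizer (H : Set G)).subgroupOf (normalizer (H : Set G))).index ∈
      (centralizer (H : Set G)).subgroupOf (normalizer (H : Set G)) :=
    Subgroup.pow_index_mem _ _
  have h2 : (⟨g, hg⟩ : ↥(normalizer (H : Set G))) ^ 2 ^ k ∈
      (centralizer (H : Set G)).subgroupOf (normalizer (H : Set G)) := by
    have : (⟨g, hg⟩ : ↥(normalizer (H : Set G))) ^ 2 ^ k = 1 := by
      apply Subtype.ext
      rw [Subgroup.coe_pow]
      exact hgk
    rw [this]
    exact one_mem _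
  have hcop : (((centralizer (H : Set G)).subgroupOf (normalizer (H : Set G))).index).Coprime (2 ^ k) := by
    apply Nat.Coprime.pow_right
    rw [Nat.coprime_comm, Nat.Prime.coprime_iff_not_dvd Nat.prime_two]
    exact hidx
  have h3 := mem_of_pow_mem_of_coprime _ _ hcop h1 h2
  exact Subgroup.mem_subgroupOf.mp h3

theorem pr_involutions (G : Type u) [Group G] [Finite G] (hG : Pr G) (s t : G)
    (hs : orderOf s = 2) (_ht : orderOf t = 2) : ∃ k : ℕ, (s * t) ^ 2 ^ k = 1 := by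
  have hs2 : s ^ 2 = 1 := by rw [← hs]; exact pow_orderOf_eq_one s
  have ht2 : t ^ 2 = 1 := by rw [← _ht]; exact pow_orderOf_eq_one t
  have hsinv : s⁻¹ = s := inv_eq_of_mul_eq_one_left (by rw [← pow_two]; exact hs2)
  have htinv : t⁻¹ = t := inv_eq_of_mul_eq_one_left (by rw [← pow_two]; exact ht2)
  have hconj : s * (s * t) * s⁻¹ = (s * t)⁻¹ := by
    rw [mul_inv_rev, hsinv, htinv, ← mul_assoc, ← pow_two, hs2, one_mul]
  have hn0 : orderOf (s * t) ≠ 0 := (orderOf_pos (s * t)).ne'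
  obtain ⟨a, m, hm, hnm⟩ := Nat.exists_eq_two_pow_mul_odd hn0
  refine ⟨a, ?_⟩
  set w' := (s * t) ^ 2 ^ a with hw'
  by_contra hw1
  have hw'm : w' ^ m = 1 := by
    rw [hw', ← pow_mul, ← hnm]
    exact pow_orderOf_eq_one _
  have hconj' : s * w' * s⁻¹ = w'⁻¹ := by
    rw [hw', ← conj_pow, hconj, inv_pow]
  have hHne : zpowers w' ≠ ⊥ := by
    intro h
    exact hw1 (Subgroup.zpowers_eq_bot.mp h)
  have hodd : ¬ 2 ∣ Nat.card (zpowers w') := by
    rw [Nat.card_zpowers]
    intro h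
    have h1 : 2 ∣ m := h.trans (orderOf_dvd_of_pow_eq_one hw'm)
    exact (Nat.not_even_iff_odd.mpr hm) (even_iff_two_dvd.mpr h1)
  have hnorm : s ∈ normalizer ((zpowers w' : Subgroup G) : Set G) := by
    have h1 : zpowers s ≤ normalizer ((zpowers w' : Subgroup G) : Set G) := by
      apply Cfsg.Agent.Lib.Helper9.zpowers_le_normalizer_of_conj_mem
      intro u hu
      obtain ⟨j, rfl⟩ := mem_zpowers_iff.mp hu
      rw [← conj_zpow, hconj']
      exact zpow_mem (inv_mem (mem_zpowers _)) j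
    exact h1 (mem_zpowers s)
  have hcent := mem_centralizer_of_two_elt G hG (zpowers w') hHne hodd s hnorm 1
    (by rw [pow_one]; exact hs2)
  rw [mem_centralizer_iff] at hcent
  have h2 : w' * s = s * w' := hcent w' (mem_zpowers w')
  have h3 : w' = w'⁻¹ := by
    rw [← hconj', ← h2, mul_inv_cancel_right]
  have h4 : w' ^ 2 = 1 := by
    rw [pow_two]; nth_rewrite 2 [h3]; exact mul_inv_cancel w'
  have h5 : orderOf w' ∣ Nat.gcd 2 m :=
    Nat.dvd_gcd (orderOf_dvd_of_pow_eq_one h4) (orderOf_dvd_of_pow_eq_one hw'm)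
  have h6 : Nat.gcd 2 m = 1 := Nat.coprime_two_left.mpr hm
  rw [h6, Nat.dvd_one] at h5
  exact hw1 (orderOf_eq_one_iff.mp h5)

theorem pr_quotient (G : Type u) [Group G] [Finite G] (hG : Pr G) (N : Subgroup G) [N.Normal]
    (hN : IsPGroup 2 N) : Pr (G ⧸ N) := by
  have : Fact (Nat.Prime 2) := ⟨Nat.prime_two⟩
  intro Hb hHb hodd h2dvd
  obtain ⟨H₁, hmap, hcard⟩ := exists_lift_odd_subgroup N hN Hb hodd
  have hH₁ne : H₁ ≠ ⊥ := by
    intro h
    apply hHb
    rw [← hmap, h, Subgroup.map_bot]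
  have hodd₁ : ¬ 2 ∣ Nat.card H₁ := by rw [hcard]; exact hodd
  obtain ⟨S⟩ : Nonempty (Sylow 2 ↥(normalizer (Hb : Set (G ⧸ N)))) := inferInstance
  have hSle : (S : Subgroup ↥(normalizer (Hb : Set (G ⧸ N)))) ≤
      (centralizer (Hb : Set (G ⧸ N))).subgroupOf (normalizer (Hb : Set (G ⧸ N))) := by
    intro y hy
    rw [Subgroup.mem_subgroupOf]
    obtain ⟨k, hk⟩ := S.isPGroup' ⟨y, hy⟩
    have hk' : ((y : G ⧸ N)) ^ 2 ^ k = 1 := by
      have h1 := congrArg Subtype.val hk
      rw [Subgroup.coe_pow] at h1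
      have h2 := congrArg Subtype.val h1
      rw [Subgroup.coe_pow] at h2
      exact h2
    obtain ⟨g, hg⟩ := QuotientGroup.mk'_surjective N (y : G ⧸ N)
    obtain ⟨n, hn, hng⟩ := exists_mul_mem_normalizer_of_map N hN H₁ hodd₁ g
      (by rw [hmap, hg]; exact y.2)
    have hn1 : QuotientGroup.mk' N n⁻¹ = 1 := by
      rw [map_inv, inv_eq_one]
      exact (QuotientGroup.eq_one_iff n).mpr hn
    have hmk : QuotientGroup.mk' N (n⁻¹ * g) = (y : G ⧸ N) := by
      rw [map_mul, hn1, one_mul, hg]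
    obtain ⟨j, hj⟩ := exists_pow_eq_one_of_mk N hN (n⁻¹ * g) k (by rw [hmk]; exact hk')
    have hcent := mem_centralizer_of_two_elt G hG H₁ hH₁ne hodd₁ (n⁻¹ * g) hng j hj
    rw [mem_centralizer_iff] at hcent ⊢
    intro hb hhb
    rw [← hmap] at hhb
    obtain ⟨h₁, hh₁, rfl⟩ := hhb
    have h3 := congrArg (QuotientGroup.mk' N) (hcent h₁ hh₁)
    rw [map_mul _ h₁ (n⁻¹ * g), map_mul _ (n⁻¹ * g) h₁, hmk] at h3
    exact h3
  have h1 := Subgroup.index_dvd_of_le hSle
  exact S.not_dvd_index (h2dvd.trans h1)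

theorem result {G : Type*} [Group G] [Finite G]
    (hhom : ∀ H : Subgroup G, H ≠ ⊥ → ¬ 2 ∣ Nat.card ↥H →
        ¬ 2 ∣ (Subgroup.centralizer (H : Set G)).relIndex (Subgroup.normalizer (H : Set G))) (P : Sylow 2 G) :
    (P : Subgroup G).Normal :=
  sylow_two_normal_of_hereditary (fun G _ => Pr G) pr_involutions pr_quotient (Nat.card G) G rfl hhom P

end Cfsg.Agent.S4049
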