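import Cfsg.Statements.S4051
import Cfsg.Agent.Lib.Helper1.PiClosed

set_option autoImplicit false
open Cfsg

namespace Cfsg.Agent.S4051

/-- Let π be a set of primes and G a finite group such that N_G(H)/C_G(H) is a π'-group for every nontrivial π'-subgroup H of G. If K is a normal subgroup of G such that the π-elements of K form a subgroup and the π-elements of G/K form a subgroup, then the π-elements of G form a subgroup. -/
theorem result {G : Type*} [Group G] [Finite G] (π : Set ℕ)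
    (hπ : ∀ p ∈ π, p.Prime) (hhom : (∀ H : Subgroup G, H ≠ ⊥ → (∀ p : ℕ, p.Prime → p ∣ Nat.card ↥H → p ∉ π) →
        ∀ p : ℕ, p.Prime → p ∣ (Subgroup.centralizer (H : Set G)).relIndex (Subgroup.normalizer (H : Set G)) → p ∉ π))
    (K : Subgroup G) [K.Normal]
    (hK : ∃ L : Subgroup ↥K, ∀ x : ↥K, x ∈ L ↔ ∀ p : ℕ, p.Prime → p ∣ orderOf x → p ∈ π)
    (hQ : ∃ L : Subgroup (G ⧸ K), ∀ x : G ⧸ K, x ∈ L ↔ ∀ p : ℕ, p.Prime → p ∣ orderOf x → p ∈ π) :
    (∃ K : Subgroup G, ∀ x : G, x ∈ K ↔ ∀ p : ℕ, p.Prime → p ∣ orderOf x → p ∈ π) := by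
  obtain ⟨L₀, hL₀⟩ := hK
  obtain ⟨M₀, hM₀⟩ := hQ
  have hLK : ∀ x, x ∈ L₀.map K.subtype ↔
      x ∈ K ∧ Cfsg.Agent.Lib.Helper1.PiClosed.PiNat π (orderOf x) := by
    intro x
    constructor
    · rintro ⟨y, hy, rfl⟩
      refine ⟨y.2, ?_⟩
      have := (hL₀ y).mp hy
      rw [Subgroup.coe_subtype, Subgroup.orderOf_coe]
      exact this
    · rintro ⟨hxK, hx⟩
      refine ⟨⟨x, hxK⟩, (hL₀ _).mpr ?_, rfl⟩
      rw [← Subgroup.orderOf_coe]
      exact hx
  have hX : Cfsg.Agent.Lib.Helper1.PiClosed.PiNat π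
      (K.relIndex (M₀.comap (QuotientGroup.mk' K))) := by
    rw [← Cfsg.H5.card_map_mk',
      Subgroup.map_comap_eq_self_of_surjective (QuotientGroup.mk'_surjective K)]
    exact Cfsg.Agent.Lib.Helper1.PiClosed.piNat_card_of_forall M₀ (fun x hx => (hM₀ x).mp hx)
  obtain ⟨D, hD⟩ := Cfsg.Agent.Lib.Helper1.PiClosed.core hhom K _ _ hLK hX
  refine ⟨D, fun x => ?_⟩
  rw [hD]
  constructor
  · exact fun h => h.2
  · intro hx
    refine ⟨?_, hx⟩
    change QuotientGroup.mk' K x ∈ M₀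
    rw [hM₀]
    exact Cfsg.Agent.Lib.Helper1.PiClosed.PiNat.of_dvd hx (orderOf_map_dvd _ _)

end Cfsg.Agent.S4051
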