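import Cfsg.Statements.S4056
import Cfsg.Agent.Lib.Helper17.Frattini

set_option autoImplicit false
open Cfsg

namespace Cfsg.Agent.S4056

open scoped commutatorElement

/-- In a group of exponent dividing 4 in which the commutator `c = [x,y]` is central, `c ^ 2 = 1`. -/
theorem comm_sq_eq_one {P : Type*} [Group P] (hexp : ∀ z : P, z * z * z * z = 1) (x y : P)
    (hc : ∀ z : P, (x * y * x⁻¹ * y⁻¹) * z = z * (x * y * x⁻¹ * y⁻¹)) :
    (x * y * x⁻¹ * y⁻¹) * (x * y * x⁻¹ * y⁻¹) = 1 := by
  set c := x * y * x⁻¹ * y⁻¹ with hcdef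
  have h2 : x * y = c * (y * x) := by rw [hcdef]; group
  have h1 : y * x = c⁻¹ * (x * y) := by rw [h2]; group
  have hci : ∀ z : P, c⁻¹ * z = z * c⁻¹ := by
    intro z
    calc c⁻¹ * z = c⁻¹ * (z * c) * c⁻¹ := by group
      _ = c⁻¹ * (c * z) * c⁻¹ := by rw [hc z]
      _ = z * c⁻¹ := by group
  have h3 : x * (y * y) = (c * c) * ((y * y) * x) := by
    calc x * (y * y) = (x * y) * y := by group
      _ = c * (y * x) * y := by rw [h2]
      _ = c * y * (x * y) := by group
      _ = c * y * (c * (y * x)) := by rw [h2]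
      _ = c * (y * c) * (y * x) := by group
      _ = c * (c * y) * (y * x) := by rw [hc y]
      _ = (c * c) * ((y * y) * x) := by group
  have hc2 : ∀ z : P, (c * c) * z = z * (c * c) := by
    intro z
    calc (c * c) * z = c * (c * z) := by group
      _ = c * (z * c) := by rw [hc z]
      _ = (c * z) * c := by group
      _ = (z * c) * c := by rw [hc z]
      _ = z * (c * c) := by group
  have h4 : (x * x) * (y * y) = (c * c * c * c) * ((y * y) * (x * x)) := by
    calc (x * x) * (y * y) = x * (x * (y * y)) := by group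
      _ = x * ((c * c) * ((y * y) * x)) := by rw [h3]
      _ = (x * (c * c)) * ((y * y) * x) := by group
      _ = ((c * c) * x) * ((y * y) * x) := by rw [hc2 x]
      _ = (c * c) * (x * (y * y)) * x := by group
      _ = (c * c) * ((c * c) * ((y * y) * x)) * x := by rw [h3]
      _ = (c * c * c * c) * ((y * y) * (x * x)) := by group
  have h5 : (x * x) * (y * y) = (y * y) * (x * x) := by rw [h4, hexp c, one_mul]
  have h6 : (x * y) * (x * y) = c⁻¹ * ((x * x) * (y * y)) := by
    calc (x * y) * (x * y) = x * (y * x) * y := by group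
      _ = x * (c⁻¹ * (x * y)) * y := by rw [h1]
      _ = (x * c⁻¹) * (x * y) * y := by group
      _ = (c⁻¹ * x) * (x * y) * y := by rw [hci x]
      _ = c⁻¹ * ((x * x) * (y * y)) := by group
  have h7 : (x * y) * (x * y) * (x * y) * (x * y) = (c * c)⁻¹ := by
    calc (x * y) * (x * y) * (x * y) * (x * y) = ((x * y) * (x * y)) * ((x * y) * (x * y)) := by group
      _ = c⁻¹ * ((x * x) * (y * y)) * (c⁻¹ * ((x * x) * (y * y))) := by rw [h6]
      _ = c⁻¹ * (((x * x) * (y * y)) * c⁻¹) * ((x * x) * (y * y)) := by group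
      _ = c⁻¹ * (c⁻¹ * ((x * x) * (y * y))) * ((x * x) * (y * y)) := by rw [← hci ((x * x) * (y * y))]
      _ = c⁻¹ * c⁻¹ * (x * x) * ((y * y) * (x * x)) * (y * y) := by group
      _ = c⁻¹ * c⁻¹ * (x * x) * ((x * x) * (y * y)) * (y * y) := by rw [h5]
      _ = c⁻¹ * c⁻¹ * (x * x * x * x) * (y * y * y * y) := by group
      _ = (c * c)⁻¹ := by rw [hexp x, hexp y]; group
  rw [hexp] at h7
  exact inv_eq_one.mp h7.symm

/-- In a finite 2-group of nilpotency class at most 2 and exponent dividing 4, the Frattini subgroup lies in the centre and is elementary abelian. -/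
theorem result {P : Type*} [Group P] [Finite P] (hP : IsPGroup 2 P)
    (hcl : Group.nilpotencyClass P ≤ 2) (hexp : Monoid.exponent P ∣ 4) :
    frattini P ≤ Subgroup.center P ∧ Cfsg.IsElementaryAbelian 2 (frattini P) := by
  have : Fact (Nat.Prime 2) := ⟨Nat.prime_two⟩
  have : Group.IsNilpotent P := hP.isNilpotent
  have hexp' : ∀ z : P, z ^ 4 = 1 := by
    intro z
    obtain ⟨k, hk⟩ := hexp
    rw [hk, pow_mul, Monoid.pow_exponent_eq_one, one_pow]
  have htop : Subgroup.upperCentralSeries P 2 = ⊤ :=
    Subgroup.upperCentralSeries_eq_top_iff_nilpotencyClass_le.mpr hcl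
  have hcent : ∀ x y : P, ⁅x, y⁆ ∈ Subgroup.center P := by
    intro x y
    have hx : x ∈ Subgroup.upperCentralSeries P (1 + 1) := by
      rw [show (1 + 1 : ℕ) = 2 from rfl, htop]; trivial
    rw [Subgroup.mem_upperCentralSeries_succ_iff] at hx
    have := hx y
    rwa [Subgroup.upperCentralSeries_one] at this
  have hcent' : ∀ x y z : P, (x * y * x⁻¹ * y⁻¹) * z = z * (x * y * x⁻¹ * y⁻¹) := by
    intro x y z
    have := hcent x y
    rw [commutatorElement_def, Subgroup.mem_center_iff] at this
    exact (this z).symm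
  have hexp'' : ∀ z : P, z * z * z * z = 1 := by
    intro z
    rw [← hexp' z]
    simp [pow_succ]
  have hsq : ∀ x y : P, (x * y * x⁻¹ * y⁻¹) ^ 2 = 1 := fun x y => by
    rw [pow_two]; exact comm_sq_eq_one hexp'' x y (hcent' x y)
  -- squares are central
  have hsqc : ∀ x : P, x ^ 2 ∈ Subgroup.center P := by
    intro x
    rw [Subgroup.mem_center_iff]
    intro y
    set c := x * y * x⁻¹ * y⁻¹ with hcdef
    have h2 : x * y = c * (y * x) := by rw [hcdef]; group
    have hc := hcent' x y
    have hsq' : c * c = 1 := by rw [← pow_two]; exact hsq x y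
    rw [pow_two]
    calc y * (x * x) = 1 * (y * (x * x)) := by rw [one_mul]
      _ = (c * c) * (y * (x * x)) := by rw [hsq']
      _ = c * ((c * (y * x)) * x) := by group
      _ = c * ((x * y) * x) := by rw [← h2]
      _ = (c * x) * (y * x) := by group
      _ = (x * c) * (y * x) := by rw [hc x]
      _ = x * (c * (y * x)) := by group
      _ = x * (x * y) := by rw [← h2]
      _ = (x * x) * y := by group
  -- the subgroup of central elements of order at most two
  let E : Subgroup P :=
    { carrier := {z | z ∈ Subgroup.center P ∧ z ^ 2 = 1}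
      mul_mem' := by
        rintro a b ⟨ha, ha2⟩ ⟨hb, hb2⟩
        refine ⟨Subgroup.mul_mem _ ha hb, ?_⟩
        have hab : Commute a b := by
          rw [Subgroup.mem_center_iff] at ha
          exact (ha b).symm
        rw [hab.mul_pow, ha2, hb2, one_mul]
      one_mem' := ⟨Subgroup.one_mem _, one_pow 2⟩
      inv_mem' := by
        rintro a ⟨ha, ha2⟩
        exact ⟨Subgroup.inv_mem _ ha, by rw [inv_pow, ha2, inv_one]⟩ }
  have hEmem : ∀ z, z ∈ E ↔ (z ∈ Subgroup.center P ∧ z ^ 2 = 1) := fun z => Iff.rfl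
  have hFE : frattini P ≤ E := by
    apply Cfsg.Agent.Lib.Helper17.frattini_le_of_pow_comm (p := 2) E
    · intro x
      rw [hEmem]
      refine ⟨hsqc x, ?_⟩
      rw [← pow_mul]; exact hexp' x
    · intro x y
      rw [hEmem]
      refine ⟨hcent x y, ?_⟩
      rw [commutatorElement_def]; exact hsq x y
  have hFZ : frattini P ≤ Subgroup.center P := fun z hz => ((hEmem z).mp (hFE hz)).1
  refine ⟨hFZ, ?_, ?_⟩
  · rw [isMulCommutative_iff]
    intro a b
    apply Subtype.ext
    have ha := hFZ a.2
    rw [Subgroup.mem_center_iff] at ha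
    exact (ha b).symm
  · intro a ha
    exact ((hEmem a).mp (hFE ha)).2

end Cfsg.Agent.S4056
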