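import Cfsg.Statements.S4058
import Cfsg.Agent.Lib.Helper24.FrobSchur
import Cfsg.Agent.Lib.Helper2.Linear
import Cfsg.Agent.Lib.Helper2.OddOrderChars
import Cfsg.Agent.Lib.Helper11.Clifford
import Cfsg.Agent.Lib.Helper1.Frattini

set_option autoImplicit false
open Cfsg

namespace Cfsg.Agent.S4058

open scoped ComplexConjugate
open Cfsg.Agent.Lib.Helper2

noncomputable section

universe u

/-! ### orbit sums -/

theorem orbit_dvd_sum {L X : Type*} [Group L] [MulAction L X] [Fintype X] (a : X → ℤ)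
    (hinv : ∀ (c : L) (x : X), a (c • x) = a x) (m : ℤ)
    (h : ∀ x : X, m ∣ (Nat.card (MulAction.orbit L x) : ℤ) * a x) : m ∣ ∑ x, a x := by
  classical
  have : Fintype (Quotient (MulAction.orbitRel L X)) := Fintype.ofFinite _
  rw [← Finset.sum_fiberwise Finset.univ (fun x : X => Quotient.mk (MulAction.orbitRel L X) x) a]
  apply Finset.dvd_sum
  intro ω _
  obtain ⟨y, hy⟩ := Quotient.exists_rep ω
  have hmem : ∀ x : X, Quotient.mk (MulAction.orbitRel L X) x = ω ↔ x ∈ MulAction.orbit L y := by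
    intro x
    rw [← hy]
    constructor
    · intro hx
      exact Quotient.exact hx
    · intro hx
      exact Quotient.sound hx
  have key : ∀ s : Finset X, (∀ x, x ∈ s ↔ x ∈ MulAction.orbit L y) → m ∣ ∑ x ∈ s, a x := by
    intro s hs
    have h1 : ∀ x ∈ s, a x = a y := by
      intro x hx
      obtain ⟨c, rfl⟩ := MulAction.mem_orbit_iff.mp ((hs x).mp hx)
      exact hinv c y
    rw [Finset.sum_congr rfl h1, Finset.sum_const, nsmul_eq_mul]
    have h2 : Nat.card (MulAction.orbit L y) = s.card := Nat.subtype_card s hs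
    rw [← h2]
    exact h y
  apply key
  intro x
  rw [Finset.mem_filter]
  constructor
  · intro hx
    exact (hmem x).mp hx.2
  · intro hx
    exact ⟨Finset.mem_univ _, (hmem x).mpr hx⟩

/-! ### duality for finite commutative groups -/

theorem dual_card {V : Type*} [Group V] [Finite V] (hc : ∀ a b : V, a * b = b * a) :
    Nat.card (V →* ℂˣ) = Nat.card V := by
  let _ : CommGroup V := { (inferInstance : Group V) with mul_comm := hc }
  have : NeZero (Monoid.exponent V) := ⟨Monoid.exponent_ne_zero_of_finite⟩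
  exact CommGroup.card_monoidHom_of_hasEnoughRootsOfUnity V ℂ

theorem dual_sep {V : Type*} [Group V] [Finite V] (hc : ∀ a b : V, a * b = b * a) {v : V}
    (hv : v ≠ 1) : ∃ c : V →* ℂˣ, c v ≠ 1 := by
  let _ : CommGroup V := { (inferInstance : Group V) with mul_comm := hc }
  have : NeZero (Monoid.exponent V) := ⟨Monoid.exponent_ne_zero_of_finite⟩
  exact CommGroup.exists_apply_ne_one_of_hasEnoughRootsOfUnity V ℂ hv

/-! ### twisting -/

/-- twist of a representation by a linear character -/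
def twRep {G V : Type*} [Group G] [AddCommGroup V] [Module ℂ V] (c : G →* ℂˣ)
    (ρ : Representation ℂ G V) : Representation ℂ G V where
  toFun g := ((c g : ℂˣ) : ℂ) • ρ g
  map_one' := by simp
  map_mul' a b := by
    rw [map_mul, map_mul, Units.val_mul, smul_mul_smul_comm]

theorem twRep_character {G V : Type*} [Group G] [AddCommGroup V] [Module ℂ V] (c : G →* ℂˣ)
    (ρ : Representation ℂ G V) (g : G) :
    (twRep c ρ).character g = ((c g : ℂˣ) : ℂ) * ρ.character g := by
  show LinearMap.trace ℂ V (((c g : ℂˣ) : ℂ) • ρ g) = _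
  rw [map_smul, smul_eq_mul]
  rfl

section Twist

variable {G : Type u} [Group G] (N : Subgroup G) [N.Normal]

/-- the dual group of the quotient -/
abbrev Dual : Type u := (G ⧸ N) →* ℂˣ

/-- the complex function on `G` attached to a linear character of `G ⧸ N` -/
def lam (c : Dual N) (g : G) : ℂ := ((c (QuotientGroup.mk g) : ℂˣ) : ℂ)

theorem lam_one (g : G) : lam N 1 g = 1 := by
  unfold lam
  rw [MonoidHom.one_apply, Units.val_one]

theorem lam_mul (c c' : Dual N) (g : G) :
    lam N (c * c') g = lam N c g * lam N c' g := by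
  unfold lam
  rw [MonoidHom.mul_apply, Units.val_mul]

theorem lam_map_mul (c : Dual N) (g h : G) :
    lam N c (g * h) = lam N c g * lam N c h := by
  unfold lam
  rw [QuotientGroup.mk_mul, map_mul, Units.val_mul]

theorem lam_of_mem (c : Dual N) {g : G} (hg : g ∈ N) : lam N c g = 1 := by
  unfold lam
  rw [(QuotientGroup.eq_one_iff g).mpr hg, map_one, Units.val_one]

theorem lam_map_one (c : Dual N) : lam N c 1 = 1 := lam_of_mem N c N.one_mem

theorem lam_sq (hsq : ∀ g : G, g * g ∈ N) (c : Dual N) (g : G) :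
    lam N c g * lam N c g = 1 := by
  rw [← lam_map_mul, lam_of_mem N c (hsq g)]

theorem lam_conj (hsq : ∀ g : G, g * g ∈ N) (c : Dual N) (g : G) :
    conj (lam N c g) = lam N c g := by
  rcases mul_self_eq_one_iff.mp (lam_sq N hsq c g) with h | h
  · rw [h, map_one]
  · rw [h, map_neg, map_one]

variable [Fintype G]

theorem isIrr_tw (hsq : ∀ g : G, g * g ∈ N) (c : Dual N) (χ : IrrCharacter G) :
    IsIrrCharacter G (fun g => (χ : G → ℂ) g * lam N c g) := by
  apply isIrrCharacter_of_classInner_self_eq_one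
  · obtain ⟨n, ρ, -, hρ⟩ := χ.2
    refine ⟨n, twRep (c.comp (QuotientGroup.mk' N)) ρ, ?_⟩
    funext g
    rw [twRep_character, hρ]
    exact mul_comm _ _
  · have h1 := classInner_irrCharacter_self χ
    rw [classInner_def] at h1 ⊢
    refine Eq.trans ?_ h1
    congr 1
    apply Finset.sum_congr rfl
    intro g _
    show (χ : G → ℂ) g * lam N c g * conj ((χ : G → ℂ) g * lam N c g)
      = (χ : G → ℂ) g * conj ((χ : G → ℂ) g)
    rw [map_mul, lam_conj N hsq c g]
    have h2 := lam_sq N hsq c g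
    calc (χ : G → ℂ) g * lam N c g * (conj ((χ : G → ℂ) g) * lam N c g)
        = (χ : G → ℂ) g * conj ((χ : G → ℂ) g) * (lam N c g * lam N c g) := by ring
      _ = (χ : G → ℂ) g * conj ((χ : G → ℂ) g) := by rw [h2, mul_one]

variable [hsq : Fact (∀ g : G, g * g ∈ N)]

local instance twAction : MulAction (Dual N) (IrrCharacter G) where
  smul c χ := ⟨fun g => (χ : G → ℂ) g * lam N c g, isIrr_tw N hsq.out c χ⟩
  one_smul χ := by
    apply Subtype.ext
    funext g
    show (χ : G → ℂ) g * lam N 1 g = (χ : G → ℂ) g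
    rw [lam_one, mul_one]
  mul_smul c c' χ := by
    apply Subtype.ext
    funext g
    show (χ : G → ℂ) g * lam N (c * c') g = (χ : G → ℂ) g * lam N c' g * lam N c g
    rw [lam_mul]
    ring

theorem smul_apply (c : Dual N) (χ : IrrCharacter G) (g : G) :
    ((c • χ : IrrCharacter G) : G → ℂ) g = (χ : G → ℂ) g * lam N c g := rfl

/-! ### the integer-valued invariant -/

/-- degree of an irreducible character as a natural number -/
def deg (χ : IrrCharacter G) : ℕ := Classical.choose (IrrCharacter.exists_degree χ)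

theorem deg_spec (χ : IrrCharacter G) :
    (χ : G → ℂ) 1 = (deg χ : ℂ) ∧ deg χ ∣ Nat.card G ∧ 0 < deg χ :=
  Classical.choose_spec (IrrCharacter.exists_degree χ)

/-- the Frobenius–Schur indicator as an integer -/
def fsInd (χ : IrrCharacter G) : ℤ :=
  Classical.choose (Cfsg.Agent.Lib.Helper24.irr_fsIndicator χ)

theorem fsInd_spec (χ : IrrCharacter G) :
    (fsInd χ : ℂ) = (Nat.card G : ℂ)⁻¹ * ∑ s : G, (χ : G → ℂ) (s * s) :=
  (Classical.choose_spec (Cfsg.Agent.Lib.Helper24.irr_fsIndicator χ)).2.1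

/-- degree times indicator -/
def aInt (χ : IrrCharacter G) : ℤ := (deg χ : ℤ) * fsInd χ

theorem aInt_cast (χ : IrrCharacter G) :
    ((aInt χ : ℤ) : ℂ)
      = (χ : G → ℂ) 1 * ((Nat.card G : ℂ)⁻¹ * ∑ s : G, (χ : G → ℂ) (s * s)) := by
  unfold aInt
  rw [Int.cast_mul, Int.cast_natCast, fsInd_spec, (deg_spec χ).1]

theorem aInt_smul (c : Dual N) (χ : IrrCharacter G) : aInt (c • χ) = aInt χ := by
  have h : ((aInt (c • χ) : ℤ) : ℂ) = ((aInt χ : ℤ) : ℂ) := by
    rw [aInt_cast, aInt_cast, smul_apply, lam_map_one, mul_one]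
    congr 2
    apply Finset.sum_congr rfl
    intro s _
    rw [smul_apply, lam_of_mem N c (hsq.out s), mul_one]
  exact_mod_cast h

/-! ### the stabilizer bound -/

omit [Fintype G] hsq in
theorem sum_lam [Fintype (Dual N)]
    (hsep : ∀ g : G, g ∉ N → ∃ c : Dual N, lam N c g ≠ 1) (g : G) [Decidable (g ∈ N)] :
    ∑ c : Dual N, lam N c g = if g ∈ N then (Fintype.card (Dual N) : ℂ) else 0 := by
  split_ifs with hg
  · rw [Finset.sum_congr rfl (fun c _ => lam_of_mem N c hg), Finset.sum_const, Finset.card_univ,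
      nsmul_eq_mul, mul_one]
  · obtain ⟨c₀, hc₀⟩ := hsep g hg
    have h1 : ∑ c : Dual N, lam N (c₀ * c) g = ∑ c : Dual N, lam N c g :=
      Equiv.sum_comp (Equiv.mulLeft c₀) (fun c => lam N c g)
    have h1' : ∑ c : Dual N, lam N (c₀ * c) g = lam N c₀ g * ∑ c : Dual N, lam N c g := by
      rw [Finset.mul_sum]
      exact Finset.sum_congr rfl (fun c _ => lam_mul N c₀ c g)
    have h2 : (1 - lam N c₀ g) * ∑ c : Dual N, lam N c g = 0 := by
      rw [sub_mul, one_mul, ← h1', h1, sub_self]
    rcases mul_eq_zero.mp h2 with h3 | h3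
    · exact absurd (sub_eq_zero.mp h3).symm hc₀
    · exact h3

theorem card_stabilizer_le [Fintype (Dual N)]
    (hLN : Nat.card (Dual N) * Nat.card N = Nat.card G)
    (hsep : ∀ g : G, g ∉ N → ∃ c : Dual N, lam N c g ≠ 1) (χ : IrrCharacter G) :
    Nat.card (MulAction.stabilizer (Dual N) χ) ≤ deg χ ^ 2 := by
  classical
  have hcount : Nat.card (MulAction.stabilizer (Dual N) χ)
      = ∑ c : Dual N, if c • χ = χ then 1 else 0 := by
    rw [← Finset.card_filter]
    exact Nat.subtype_card _ (fun c => by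
      rw [Finset.mem_filter]
      exact ⟨fun h => h.2, fun h => ⟨Finset.mem_univ _, h⟩⟩)
  have h1 : ∀ c : Dual N, (((if c • χ = χ then 1 else 0 : ℕ)) : ℂ)
      = (Nat.card G : ℂ)⁻¹ * ∑ g : G, (χ : G → ℂ) g * lam N c g * conj ((χ : G → ℂ) g) := by
    intro c
    have h0 : Cfsg.classInner ((c • χ : IrrCharacter G) : G → ℂ) (χ : G → ℂ)
        = (Nat.card G : ℂ)⁻¹ * ∑ g : G, (χ : G → ℂ) g * lam N c g * conj ((χ : G → ℂ) g) := rfl
    rw [← h0]
    by_cases hc : c • χ = χ
    · rw [if_pos hc, hc, classInner_irrCharacter_self, Nat.cast_one]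
    · rw [if_neg hc, classInner_irrCharacter_ne hc, Nat.cast_zero]
  have hC0 : ((Nat.card (MulAction.stabilizer (Dual N) χ) : ℕ) : ℂ)
      = (Nat.card G : ℂ)⁻¹ * ∑ g : G, ((χ : G → ℂ) g * conj ((χ : G → ℂ) g) *
          (if g ∈ N then (Fintype.card (Dual N) : ℂ) else 0)) := by
    rw [hcount, Nat.cast_sum, Finset.sum_congr rfl (fun c _ => h1 c), ← Finset.mul_sum,
      Finset.sum_comm]
    congr 1
    apply Finset.sum_congr rfl
    intro g _
    rw [← sum_lam N hsep g, Finset.mul_sum]
    apply Finset.sum_congr rfl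
    intro c _
    ring
  have hR : (Nat.card G : ℝ) * (Nat.card (MulAction.stabilizer (Dual N) χ) : ℝ)
      = ∑ g : G, Complex.normSq ((χ : G → ℂ) g) *
          (if g ∈ N then (Fintype.card (Dual N) : ℝ) else 0) := by
    apply Complex.ofReal_injective
    rw [Complex.ofReal_mul, Complex.ofReal_natCast, Complex.ofReal_natCast, hC0,
      mul_inv_cancel_left₀ card_ne_zero_complex, Complex.ofReal_sum]
    apply Finset.sum_congr rfl
    intro g _
    rw [Complex.ofReal_mul, ← Complex.mul_conj]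
    congr 1
    split_ifs
    · rw [Complex.ofReal_natCast]
    · rw [Complex.ofReal_zero]
  obtain ⟨n, hn1, hnle⟩ :=
    Cfsg.Agent.Lib.Helper11.IsCharacter.exists_degree_norm_le (IsIrrCharacter.isCharacter χ.2)
  have hnd : n = deg χ := by
    have h3 := (deg_spec χ).1
    rw [hn1] at h3
    exact_mod_cast h3
  subst hnd
  have hbound : ∀ g : G, Complex.normSq ((χ : G → ℂ) g) ≤ ((deg χ : ℝ)) ^ 2 := by
    intro g
    rw [Complex.normSq_eq_norm_sq]
    exact pow_le_pow_left₀ (norm_nonneg _) (hnle g) 2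
  have h5 : (Nat.card G : ℝ) = (Fintype.card (Dual N) : ℝ) * (Nat.card N : ℝ) := by
    rw [← hLN, Nat.card_eq_fintype_card, Nat.cast_mul]
  have hle : (Nat.card G : ℝ) * (Nat.card (MulAction.stabilizer (Dual N) χ) : ℝ)
      ≤ (Nat.card G : ℝ) * ((deg χ : ℝ)) ^ 2 := by
    rw [hR]
    calc ∑ g : G, Complex.normSq ((χ : G → ℂ) g) *
            (if g ∈ N then (Fintype.card (Dual N) : ℝ) else 0)
        ≤ ∑ g : G, (if g ∈ N then ((deg χ : ℝ)) ^ 2 * (Fintype.card (Dual N) : ℝ) else 0) := by
          apply Finset.sum_le_sum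
          intro g _
          split_ifs
          · exact mul_le_mul_of_nonneg_right (hbound g) (Nat.cast_nonneg _)
          · rw [mul_zero]
      _ = (Nat.card N : ℝ) * (((deg χ : ℝ)) ^ 2 * (Fintype.card (Dual N) : ℝ)) := by
          rw [← Finset.sum_filter, Finset.sum_const, nsmul_eq_mul]
          congr 1
          norm_cast
          exact (Nat.subtype_card _ (fun g => by simp)).symm
      _ = (Nat.card G : ℝ) * ((deg χ : ℝ)) ^ 2 := by
          rw [h5]
          ring
  have hpos : (0 : ℝ) < (Nat.card G : ℝ) := by exact_mod_cast Nat.card_pos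
  have h6 := le_of_mul_le_mul_left hle hpos
  exact_mod_cast h6

/-! ### the main divisibility -/

theorem main_general [Fintype (Dual N)]
    (hLN : Nat.card (Dual N) * Nat.card N = Nat.card G)
    (hsep : ∀ g : G, g ∉ N → ∃ c : Dual N, lam N c g ≠ 1)
    (n d k : ℕ) (hG : Nat.card G = 2 ^ n) (hL : Nat.card (Dual N) = 2 ^ d)
    (hd : 2 * k + 1 ≤ d) :
    ((2 : ℤ) ^ (k + 1)) ∣ (Nat.card {x : G // x * x = 1} : ℤ) := by
  classical
  have : Fintype (IrrCharacter G) := Fintype.ofFinite _
  have hcard0 : Nat.card {x : G // x * x = 1}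
      = (Finset.univ.filter (fun s : G => s * s = 1)).card :=
    Nat.subtype_card _ (fun x => by simp)
  have hsum := Cfsg.Agent.Lib.Helper24.sum_fs_degree (G := G)
  have hcard : ((Finset.univ.filter (fun s : G => s * s = 1)).card : ℤ)
      = ∑ χ : IrrCharacter G, aInt χ := by
    have h : (((Finset.univ.filter (fun s : G => s * s = 1)).card : ℤ) : ℂ)
        = ((∑ χ : IrrCharacter G, aInt χ : ℤ) : ℂ) := by
      rw [Int.cast_natCast, Int.cast_sum, ← hsum]
      apply Finset.sum_congr rfl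
      intro χ _
      exact (aInt_cast χ).symm
    exact_mod_cast h
  rw [hcard0, hcard]
  apply orbit_dvd_sum (L := Dual N) aInt (fun c χ => aInt_smul N c χ)
  intro χ
  obtain ⟨-, hdegdvd, -⟩ := deg_spec χ
  rw [hG] at hdegdvd
  obtain ⟨j, -, hj⟩ := (Nat.dvd_prime_pow Nat.prime_two).mp hdegdvd
  have hSdvd : Nat.card (MulAction.stabilizer (Dual N) χ) ∣ 2 ^ d := by
    rw [← hL]
    exact Subgroup.card_subgroup_dvd_card _
  obtain ⟨s, hsd, hs⟩ := (Nat.dvd_prime_pow Nat.prime_two).mp hSdvd
  have hSle := card_stabilizer_le N hLN hsep χ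
  rw [hs, hj, ← pow_mul] at hSle
  have hs2 : s ≤ j * 2 := (Nat.pow_le_pow_iff_right (by norm_num)).mp hSle
  have horb : Nat.card (MulAction.orbit (Dual N) χ) * 2 ^ s = 2 ^ d := by
    rw [← hs, ← hL, ← Nat.card_prod]
    exact Nat.card_congr (MulAction.orbitProdStabilizerEquivGroup _ χ)
  have horb2 : Nat.card (MulAction.orbit (Dual N) χ) = 2 ^ (d - s) := by
    have h1 : 2 ^ (d - s) * 2 ^ s = 2 ^ d := by rw [← pow_add, Nat.sub_add_cancel hsd]
    exact Nat.eq_of_mul_eq_mul_right (by positivity) (horb.trans h1.symm)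
  rw [horb2]
  unfold aInt
  rw [hj]
  have h2 : ((2 ^ (d - s) : ℕ) : ℤ) * (((2 ^ j : ℕ) : ℤ) * fsInd χ)
      = (2 : ℤ) ^ (d - s + j) * fsInd χ := by
    push_cast
    ring
  rw [h2]
  exact Dvd.dvd.mul_right (pow_dvd_pow 2 (by omega)) _

end Twist

/-- Let G be a finite 2-group with #(G/Φ(G)) ≥ 2^(2k+1). Then the number of elements x of G with x² = 1 is divisible by 2^(k+1). -/
theorem result {G : Type*} [Group G] [Finite G] (hG : IsPGroup 2 G) (k : ℕ)
    (hgen : 2 ^ (2 * k + 1) ≤ Nat.card (G ⧸ frattini G)) :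
    2 ^ (k + 1) ∣ Nat.card {x : G // x ^ 2 = 1} := by
  classical
  have : Fintype G := Fintype.ofFinite G
  have : Fact (Nat.Prime 2) := ⟨Nat.prime_two⟩
  have hsq : ∀ g : G, g * g ∈ frattini G := by
    intro g
    rw [← sq]
    exact Cfsg.Agent.Lib.Helper1.IsPGroup.pow_mem_frattini hG g
  have hfact : Fact (∀ g : G, g * g ∈ frattini G) := ⟨hsq⟩
  have hcomm : ∀ a b : G ⧸ frattini G, a * b = b * a := by
    have h1 : IsMulCommutative (G ⧸ frattini G) :=
      Subgroup.Normal.quotient_commutative_iff_commutator_le.mpr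
        (Cfsg.Agent.Lib.Helper1.IsPGroup.commutator_le_frattini hG)
    exact fun a b => h1.is_comm.comm a b
  have hV2 : IsPGroup 2 (G ⧸ frattini G) := hG.to_quotient (frattini G)
  obtain ⟨d, hd⟩ := IsPGroup.iff_card.mp hV2
  obtain ⟨n, hn⟩ := IsPGroup.iff_card.mp hG
  have hcardL : Nat.card (Dual (frattini G)) = Nat.card (G ⧸ frattini G) := dual_card hcomm
  have hLfin : Finite (Dual (frattini G)) := by
    apply Nat.finite_of_card_ne_zero
    rw [hcardL]
    exact Nat.card_pos.ne'
  have : Fintype (Dual (frattini G)) := Fintype.ofFinite _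
  have hLN : Nat.card (Dual (frattini G)) * Nat.card (frattini G) = Nat.card G := by
    rw [hcardL]
    exact (frattini G).index_mul_card
  have hsep : ∀ g : G, g ∉ frattini G → ∃ c : Dual (frattini G), lam (frattini G) c g ≠ 1 := by
    intro g hg
    have hv : (QuotientGroup.mk g : G ⧸ frattini G) ≠ 1 :=
      fun h => hg ((QuotientGroup.eq_one_iff g).mp h)
    obtain ⟨c, hc⟩ := dual_sep hcomm hv
    refine ⟨c, fun h => hc ?_⟩
    exact Units.ext h
  have hdk : 2 * k + 1 ≤ d := by
    rw [hd] at hgen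
    exact (Nat.pow_le_pow_iff_right (by norm_num)).mp hgen
  have hmain := main_general (frattini G) hLN hsep n d k hn (hcardL.trans hd) hdk
  have hcard : Nat.card {x : G // x ^ 2 = 1} = Nat.card {x : G // x * x = 1} := by
    simp only [sq]
  rw [hcard]
  exact Int.natCast_dvd_natCast.mp (by exact_mod_cast hmain)

end

end Cfsg.Agent.S4058
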