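import Cfsg.Statements.S4195
import Mathlib
import Cfsg.Agent.Lib.Helper22.Conj

set_option autoImplicit false
open Cfsg

namespace Cfsg.Agent.S4195

open Cfsg.Agent.Lib.Helper22

/-- If the class of `x` has odd size and `x` is real then `x ^ 2 = 1`. -/
theorem sq_eq_one_of_real_of_odd_class {G : Type*} [Group G] [Finite G] (x : G)
    (hodd : ¬ 2 ∣ (Subgroup.centralizer ({x} : Set G)).index) (hreal : IsConj x x⁻¹) : x ^ 2 = 1 := by
  classical
  have : Fintype G := Fintype.ofFinite G
  rw [index_centralizer_eq_card_isConj, Nat.card_eq_fintype_card] at hodd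
  let σ : Equiv.Perm {h : G // IsConj x h} :=
    { toFun := fun h => ⟨(h : G)⁻¹, hreal.trans (isConj_inv_inv h.2)⟩
      invFun := fun h => ⟨(h : G)⁻¹, hreal.trans (isConj_inv_inv h.2)⟩
      left_inv := fun h => by simp
      right_inv := fun h => by simp }
  have hσ : σ ^ 2 ^ 1 = 1 := by
    ext h
    simp [σ, pow_two]
  have : Fact (Nat.Prime 2) := ⟨Nat.prime_two⟩
  obtain ⟨⟨h, hh⟩, hfix⟩ := Equiv.Perm.exists_fixed_point_of_prime (p := 2) (n := 1) hodd hσ
  have h1 : h⁻¹ = h := by
    have := congrArg Subtype.val hfix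
    simpa [σ] using this
  have h2 : h ^ 2 = 1 := by
    rw [pow_two]
    nth_rewrite 1 [← h1]
    simp
  obtain ⟨c, hc⟩ := isConj_iff.mp hh
  have : (c * x * c⁻¹) ^ 2 = 1 := by rw [hc]; exact h2
  rw [conj_pow] at this
  have h3 : x ^ 2 = c⁻¹ * (c * x ^ 2 * c⁻¹) * c := by group
  rw [h3, this]; group

/-- Let x be a non-identity element of a finite group G whose centralizer contains a Sylow 2-subgroup of G. If x is conjugate to its inverse, then x has order 2. -/
theorem result {G : Type*} [Group G] [Finite G] (x : G) (hx : x ≠ 1) (P : Sylow 2 G) (hP : (P : Subgroup G) ≤ Subgroup.centralizer ({x} : Set G)) (hreal : IsConj x x⁻¹) : orderOf x = 2 := by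
  have : Fact (Nat.Prime 2) := ⟨Nat.prime_two⟩
  have hodd : ¬ 2 ∣ (Subgroup.centralizer ({x} : Set G)).index := by
    intro h
    exact P.not_dvd_index (h.trans (Subgroup.index_dvd_of_le hP))
  exact orderOf_eq_prime (sq_eq_one_of_real_of_odd_class x hodd hreal) hx

end Cfsg.Agent.S4195
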