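import Cfsg.Statements.S4059
import Mathlib
import Cfsg.Agent.S4195

set_option autoImplicit false
open Cfsg

namespace Cfsg.Agent.S4059

open scoped commutatorElement

/-- An odd power of an element inverting `y` inverts `y`. -/
theorem conj_pow_odd_inv {G : Type*} [Group G] (g y : G) (h : g * y * g⁻¹ = y⁻¹) (j : ℕ) :
    g ^ (2 * j + 1) * y * (g ^ (2 * j + 1))⁻¹ = y⁻¹ := by
  have h2 : g ^ 2 * y * (g ^ 2)⁻¹ = y := by
    have : g ^ 2 * y * (g ^ 2)⁻¹ = g * (g * y * g⁻¹) * g⁻¹ := by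
      simp [pow_two, mul_assoc]
    rw [this, h]
    have : g * y⁻¹ * g⁻¹ = (g * y * g⁻¹)⁻¹ := by group
    rw [this, h, inv_inv]
  induction j with
  | zero => simpa using h
  | succ j ih =>
    have : g ^ (2 * (j + 1) + 1) * y * (g ^ (2 * (j + 1) + 1))⁻¹
        = g ^ (2 * j + 1) * (g ^ 2 * y * (g ^ 2)⁻¹) * (g ^ (2 * j + 1))⁻¹ := by
      have e : 2 * (j + 1) + 1 = (2 * j + 1) + 2 := by ring
      rw [e, pow_add]
      simp [mul_assoc]
    rw [this, h2, ih]

/-- In a finite group, every element is a product of powers of itself of 2-power and odd orders;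
so if a subgroup contains all 2-elements and all odd order elements, it is everything. -/
theorem mem_of_two_and_odd {G : Type*} [Group G] [Finite G] (T : Subgroup G)
    (h2 : ∀ x : G, (∃ k : ℕ, orderOf x = 2 ^ k) → x ∈ T)
    (hodd : ∀ x : G, Odd (orderOf x) → x ∈ T) (x : G) : x ∈ T := by
  have hpos : 0 < orderOf x := orderOf_pos x
  obtain ⟨k, m, hm, hkm⟩ := Nat.exists_eq_two_pow_mul_odd (n := orderOf x) hpos.ne'
  have hcop : Nat.Coprime (2 ^ k) m := Nat.Coprime.pow_left k (Nat.coprime_two_left.mpr hm)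
  have h1 : orderOf (x ^ (2 ^ k)) = m := by
    rw [orderOf_pow, hkm, Nat.gcd_eq_right (Dvd.intro _ rfl), Nat.mul_div_cancel_left _ (by positivity)]
  have h3 : orderOf (x ^ m) = 2 ^ k := by
    rw [orderOf_pow, hkm, Nat.gcd_eq_right (Dvd.intro_left _ rfl), Nat.mul_div_cancel _ (Odd.pos hm)]
  have m1 : x ^ (2 ^ k) ∈ T := hodd _ (h1 ▸ hm)
  have m2 : x ^ m ∈ T := h2 _ ⟨k, h3⟩
  have hb := Nat.gcd_eq_gcd_ab (2 ^ k) m
  rw [hcop.gcd_eq_one] at hb
  have : x = (x ^ (2 ^ k)) ^ (Nat.gcdA (2 ^ k) m) * (x ^ m) ^ (Nat.gcdB (2 ^ k) m) := by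
    rw [← zpow_natCast x (2 ^ k), ← zpow_natCast x m, ← zpow_mul, ← zpow_mul, ← zpow_add]
    rw [← hb]
    simp
  rw [this]
  exact T.mul_mem (T.zpow_mem m1 _) (T.zpow_mem m2 _)

theorem orderOf_conj' {G : Type*} [Group G] (c g : G) : orderOf (c * g * c⁻¹) = orderOf g :=
  (MulAut.conj c).orderOf_eq g

theorem mem_zpowers_sq_of_odd {G : Type*} [Group G] (y : G) (h : Odd (orderOf y)) :
    y ∈ Subgroup.zpowers (y ^ 2) := by
  obtain ⟨j, hj⟩ := h
  refine ⟨((j + 1 : ℕ) : ℤ), ?_⟩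
  show (y ^ 2) ^ ((j + 1 : ℕ) : ℤ) = y
  rw [zpow_natCast, ← pow_mul]
  have : 2 * (j + 1) = orderOf y + 1 := by omega
  rw [this, pow_succ, pow_orderOf_eq_one, one_mul]

/-- If `y` is inverted by some element, it is inverted by a 2-element. -/
theorem exists_two_elt_inverting {G : Type*} [Group G] [Finite G] (y c : G) (h : c * y * c⁻¹ = y⁻¹) :
    ∃ g : G, (∃ k : ℕ, orderOf g = 2 ^ k) ∧ g * y * g⁻¹ = y⁻¹ := by
  have hpos : 0 < orderOf c := orderOf_pos c
  obtain ⟨k, m, hm, hkm⟩ := Nat.exists_eq_two_pow_mul_odd (n := orderOf c) hpos.ne'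
  obtain ⟨j, rfl⟩ := hm
  refine ⟨c ^ (2 * j + 1), ⟨k, ?_⟩, conj_pow_odd_inv c y h j⟩
  rw [orderOf_pow, hkm, Nat.gcd_eq_right (Dvd.intro_left _ rfl), Nat.mul_div_cancel _ (by omega)]

theorem result {G : Type*} [Group G] [Finite G] (hamb : ∀ x : G, IsConj x x⁻¹) :
    (∀ (S : Sylow 2 G) (x : G), x ∈ Subgroup.centralizer ((S : Subgroup G) : Set G) → x ≠ 1 → orderOf x = 2) ∧
    (∀ z : G, z ∈ Subgroup.center G → z ^ 2 = 1) ∧
    (∀ x : G, x ^ 2 ∈ commutator G) ∧
    Subgroup.closure {x : G | ∃ k : ℕ, orderOf x = 2 ^ k} = ⊤ := by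
  refine ⟨?_, ?_, ?_, ?_⟩
  · intro S x hx hx1
    refine Cfsg.Agent.S4195.result x hx1 S ?_ (hamb x)
    intro s hs
    rw [Subgroup.mem_centralizer_iff]
    intro h hh
    rw [Set.mem_singleton_iff] at hh
    subst hh
    exact (Subgroup.mem_centralizer_iff.mp hx s hs).symm
  · intro z hz
    obtain ⟨c, hc⟩ := isConj_iff.mp (hamb z)
    have h1 : c * z * c⁻¹ = z := by
      rw [Subgroup.mem_center_iff] at hz
      rw [hz c]; group
    rw [h1] at hc
    rw [pow_two]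
    nth_rewrite 1 [hc]
    simp
  · intro x
    obtain ⟨c, hc⟩ := isConj_iff.mp (hamb x)
    have h1 : x ^ 2 = ⁅x, c⁆ := by
      rw [commutatorElement_def, pow_two]
      have : c * x⁻¹ * c⁻¹ = (c * x * c⁻¹)⁻¹ := by group
      rw [mul_assoc x c, mul_assoc x, this, hc, inv_inv]
    rw [h1, commutator_def]
    exact Subgroup.commutator_mem_commutator (Subgroup.mem_top x) (Subgroup.mem_top c)
  · rw [eq_top_iff]
    intro x _
    apply mem_of_two_and_odd
    · intro x hx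
      exact Subgroup.subset_closure hx
    · intro y hy
      obtain ⟨c, hc⟩ := isConj_iff.mp (hamb y)
      obtain ⟨g, ⟨k, hk⟩, hg⟩ := exists_two_elt_inverting y c hc
      have h1 : y ^ 2 = (y * g * y⁻¹) * g⁻¹ := by
        have : g * y⁻¹ * g⁻¹ = (g * y * g⁻¹)⁻¹ := by group
        rw [pow_two, mul_assoc y g, mul_assoc y, this, hg, inv_inv]
      have h2 : y ^ 2 ∈ Subgroup.closure {x : G | ∃ k : ℕ, orderOf x = 2 ^ k} := by
        rw [h1]
        refine Subgroup.mul_mem _ (Subgroup.subset_closure ⟨k, ?_⟩) (Subgroup.inv_mem _ (Subgroup.subset_closure ⟨k, hk⟩))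
        rw [orderOf_conj', hk]
      have h3 := mem_zpowers_sq_of_odd y hy
      exact (Subgroup.zpowers_le.mpr h2) h3

end Cfsg.Agent.S4059
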