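import Cfsg.Statements.S4060
import Cfsg.Agent.Lib.Helper1.SZ
import Cfsg.Agent.Lib.Helper22.PElt

set_option autoImplicit false
open Cfsg

namespace Cfsg.Agent.S4060

open Cfsg.Agent.Lib.Helper22
open scoped Pointwise

/-- an element of odd order inverted by an element of odd order is trivial -/
theorem eq_one_of_inverted_by_odd {G : Type*} [Group G] (x u : G) (hx : Odd (orderOf x))
    (hu : Odd (orderOf u)) (h : u * x * u⁻¹ = x⁻¹) : x = 1 := by
  have h2 : Commute (u ^ 2) x := by
    show u ^ 2 * x = x * u ^ 2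
    have h' : u * x⁻¹ * u⁻¹ = x := by
      calc u * x⁻¹ * u⁻¹ = (u * x * u⁻¹)⁻¹ := by group
        _ = x := by rw [h, inv_inv]
    calc u ^ 2 * x = u * (u * x * u⁻¹) * u := by rw [pow_two]; group
      _ = (u * x⁻¹ * u⁻¹) * (u * u) := by rw [h]; group
      _ = x * u ^ 2 := by rw [h', pow_two]
  obtain ⟨k, hk⟩ := hu
  have h3 : Commute (u ^ (2 * k)) x := by
    rw [pow_mul]; exact h2.pow_left k
  have h4 : u ^ (2 * k) * u = 1 := by
    rw [← pow_succ, ← hk, pow_orderOf_eq_one]
  have h5 : u = (u ^ (2 * k))⁻¹ := by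
    rw [eq_comm, inv_eq_iff_eq_inv, eq_inv_iff_mul_eq_one]; exact h4
  have h6 : Commute u x := by
    rw [h5]; exact h3.inv_left
  have h7 : x = x⁻¹ := by
    rw [← h, h6.eq]; group
  have h8 : x ^ 2 = 1 := by
    rw [pow_two]
    calc x * x = x * x⁻¹ := by rw [← h7]
      _ = 1 := mul_inv_cancel x
  have h9 : orderOf x ∣ 2 := orderOf_dvd_of_pow_eq_one h8
  have h10 : orderOf x = 1 := by
    rcases (Nat.dvd_prime Nat.prime_two).mp h9 with h1 | h2'
    · exact h1
    · exfalso
      rw [h2'] at hx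
      exact (by decide : ¬ Odd 2) hx
  exact orderOf_eq_one_iff.mp h10

theorem key : ∀ (n : ℕ) (G : Type*) [Group G] [Finite G] [Group.IsSolvable G], Nat.card G = n →
    ∀ (S : Sylow 2 G) (x : G), Odd (orderOf x) →
      x ∈ Subgroup.normalizer ((S : Subgroup G) : Set G) → IsConj x x⁻¹ → x = 1 := by
  intro n
  induction n using Nat.strong_induction_on with
  | _ n ih =>
    intro G _ _ _ hn S x hodd hnorm hconj
    have : Fact (Nat.Prime 2) := ⟨Nat.prime_two⟩
    by_cases htriv : (⊤ : Subgroup G) = ⊥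
    · have : x ∈ (⊤ : Subgroup G) := Subgroup.mem_top x
      rw [htriv, Subgroup.mem_bot] at this
      exact this
    -- a nontrivial normal elementary abelian subgroup
    have hsolvtop : Group.IsSolvable (⊤ : Subgroup G) :=
      Group.isSolvable_of_isSolvable_injective (f := (⊤ : Subgroup G).subtype) (Subgroup.subtype_injective _)
    obtain ⟨r, hr, A, hAn, -, hA1, hAc, hAr⟩ :=
      Cfsg.Agent.Lib.Helper1.exists_normal_elementary_abelian_le (G := G) _ (⊤ : Subgroup G) rfl htriv hsolvtop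
    -- the quotient
    have hlt : Nat.card (G ⧸ A) < n := by
      rw [← hn, ← Subgroup.index_eq_card, ← Subgroup.card_mul_index A]
      have h1 : 1 < Nat.card A := by
        rw [Subgroup.one_lt_card_iff_ne_bot]; exact hA1
      have h2 : 0 < A.index := Nat.pos_of_ne_zero Subgroup.index_ne_zero_of_finite
      nlinarith
    have hsurj : Function.Surjective (QuotientGroup.mk' A) := QuotientGroup.mk'_surjective A
    have hxA : x ∈ A := by
      rw [← QuotientGroup.eq_one_iff]
      apply ih _ hlt (G ⧸ A) rfl (S.mapSurjective hsurj) (QuotientGroup.mk x)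
      · have h1 : orderOf (QuotientGroup.mk x : G ⧸ A) ∣ orderOf x := orderOf_map_dvd (QuotientGroup.mk' A) x
        exact Odd.of_dvd_nat hodd h1
      · have h1 := Subgroup.le_normalizer_map (H := (S : Subgroup G)) (QuotientGroup.mk' A)
        apply h1
        exact ⟨x, hnorm, rfl⟩
      · obtain ⟨g, hg⟩ := isConj_iff.mp hconj
        rw [isConj_iff]
        refine ⟨QuotientGroup.mk g, ?_⟩
        rw [← QuotientGroup.mk_inv, ← QuotientGroup.mk_mul, ← QuotientGroup.mk_mul, hg, QuotientGroup.mk_inv]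
    -- x has order dividing r, so r is odd
    have hxr : x ^ r = 1 := hAr x hxA
    by_cases hx1 : x = 1
    · exact hx1
    exfalso
    have hox : orderOf x = r := by
      rcases (Nat.dvd_prime hr).mp (orderOf_dvd_of_pow_eq_one hxr) with h1 | h2
      · exact absurd (orderOf_eq_one_iff.mp h1) hx1
      · exact h2
    have hrodd : Odd r := by rw [← hox]; exact hodd
    -- A ∩ S = 1
    have hAS : ∀ y, y ∈ A → y ∈ (S : Subgroup G) → y = 1 := by
      intro y hyA hyS
      obtain ⟨k, hk⟩ := isPElt_of_mem_sylow S y hyS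
      have h1 : orderOf y ∣ r := orderOf_dvd_of_pow_eq_one (hAr y hyA)
      have h2 : (2 ^ k).Coprime r := Nat.Coprime.pow_left k (Nat.coprime_two_left.mpr hrodd)
      rw [← hk] at h2
      have h3 : orderOf y = 1 := Nat.eq_one_of_dvd_coprimes h2 dvd_rfl h1
      exact orderOf_eq_one_iff.mp h3
    -- x centralizes S
    have hxS : ∀ s ∈ (S : Subgroup G), x * s = s * x := by
      intro s hs
      have h1 : x * s * x⁻¹ * s⁻¹ ∈ (S : Subgroup G) := by
        rw [Subgroup.mem_set_normalizer_iff] at hnorm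
        exact Subgroup.mul_mem _ ((hnorm s).mp hs) (Subgroup.inv_mem _ hs)
      have h2 : x * s * x⁻¹ * s⁻¹ ∈ A := by
        have : x * s * x⁻¹ * s⁻¹ = x * (s * x⁻¹ * s⁻¹) := by group
        rw [this]
        exact A.mul_mem hxA (hAn.conj_mem _ (A.inv_mem hxA) s)
      have h3 := hAS _ h2 h1
      calc x * s = (x * s * x⁻¹ * s⁻¹) * (s * x) := by group
        _ = s * x := by rw [h3, one_mul]
    obtain ⟨g, hg⟩ := isConj_iff.mp hconj
    have hg' : g * x⁻¹ * g⁻¹ = x := by
      calc g * x⁻¹ * g⁻¹ = (g * x * g⁻¹)⁻¹ := by group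
        _ = x := by rw [hg, inv_inv]
    have hg'' : g⁻¹ * x * g = x⁻¹ := by
      calc g⁻¹ * x * g = g⁻¹ * (g * x⁻¹ * g⁻¹) * g := by rw [hg']
        _ = x⁻¹ := by group
    have hxS' : ∀ s ∈ (S : Subgroup G), x⁻¹ * s = s * x⁻¹ := by
      intro s hs
      calc x⁻¹ * s = x⁻¹ * (s * x) * x⁻¹ := by group
        _ = x⁻¹ * (x * s) * x⁻¹ := by rw [hxS s hs]
        _ = s * x⁻¹ := by group
    have hSC : (S : Subgroup G) ≤ Subgroup.centralizer {x} := by
      intro s hs
      rw [Subgroup.mem_centralizer_iff]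
      intro z hz
      rw [Set.mem_singleton_iff] at hz
      rw [hz]; exact hxS s hs
    have hgSC : ((g • S : Sylow 2 G) : Subgroup G) ≤ Subgroup.centralizer {x} := by
      intro y hy
      rw [Sylow.coe_subgroup_smul, Cfsg.Agent.Lib.Helper1.mem_conj_smul] at hy
      rw [Subgroup.mem_centralizer_iff]
      intro z hz
      rw [Set.mem_singleton_iff] at hz
      rw [hz]
      have h1 := hxS' _ hy
      calc x * y = g * ((g⁻¹ * x * g) * (g⁻¹ * y * g)) * g⁻¹ := by group
        _ = g * (x⁻¹ * (g⁻¹ * y * g)) * g⁻¹ := by rw [hg'']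
        _ = g * ((g⁻¹ * y * g) * x⁻¹) * g⁻¹ := by rw [h1]
        _ = y * (g * x⁻¹ * g⁻¹) := by group
        _ = y * x := by rw [hg']
    obtain ⟨c, hc⟩ := MulAction.exists_smul_eq (Subgroup.centralizer {x}) (S.subtype hSC)
      ((g • S).subtype hgSC)
    rw [Sylow.smul_subtype] at hc
    have hc' : c • S = g • S := Sylow.subtype_injective hc
    have hc'' : ((c : G)⁻¹ * g) • S = S := by
      rw [mul_smul, ← hc', Subgroup.smul_def, inv_smul_smul]
    have hg1 : (c : G)⁻¹ * g ∈ Subgroup.normalizer ((S : Subgroup G) : Set G) :=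
      Sylow.smul_eq_iff_mem_normalizer.mp hc''
    have hcx : (c : G) * x = x * (c : G) := by
      have := c.2
      rw [Subgroup.mem_centralizer_iff] at this
      exact (this x (Set.mem_singleton x)).symm
    have hg2 : ((c : G)⁻¹ * g) * x * ((c : G)⁻¹ * g)⁻¹ = x⁻¹ := by
      calc ((c : G)⁻¹ * g) * x * ((c : G)⁻¹ * g)⁻¹ = (c : G)⁻¹ * (g * x * g⁻¹) * c := by group
        _ = (c : G)⁻¹ * x⁻¹ * c := by rw [hg]
        _ = ((c : G)⁻¹ * x * c)⁻¹ := by group
        _ = ((c : G)⁻¹ * (c * x))⁻¹ := by rw [hcx, mul_assoc]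
        _ = x⁻¹ := by group
    obtain ⟨t, u, ht, hu, hgtu, ⟨k, hk⟩, hucop⟩ := exists_p_decomp 2 ((c : G)⁻¹ * g)
    have htN : t ∈ Subgroup.normalizer ((S : Subgroup G) : Set G) :=
      (Subgroup.zpowers_le.mpr hg1) ht
    have htS : t ∈ (S : Subgroup G) := by
      have hP : IsPGroup 2 (Subgroup.zpowers t) := IsPGroup.of_card (n := k) (by rw [Nat.card_zpowers, hk])
      have h1 := hP.inf_normalizer_sylow S
      have h2 : t ∈ Subgroup.zpowers t ⊓ Subgroup.normalizer (S : Set G) :=
        ⟨Subgroup.mem_zpowers t, htN⟩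
      rw [h1] at h2
      exact h2.2
    have htx : t * x⁻¹ = x⁻¹ * t := (hxS' t htS).symm
    have hu2 : u * x * u⁻¹ = x⁻¹ := by
      have hu' : u = t⁻¹ * ((c : G)⁻¹ * g) := by rw [hgtu]; group
      calc u * x * u⁻¹ = t⁻¹ * (((c : G)⁻¹ * g) * x * ((c : G)⁻¹ * g)⁻¹) * t := by rw [hu']; group
        _ = t⁻¹ * x⁻¹ * t := by rw [hg2]
        _ = t⁻¹ * (x⁻¹ * t) := by group
        _ = t⁻¹ * (t * x⁻¹) := by rw [htx]
        _ = x⁻¹ := by group
    have huodd : Odd (orderOf u) := Nat.Coprime.odd_of_right hucop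
    exact hx1 (eq_one_of_inverted_by_odd x u hodd huodd hu2)

/-- Let G be a finite solvable group with Sylow 2-subgroup S, and let x ≠ 1 be an element of odd order normalizing S. Then x is not conjugate to its inverse in G. -/
theorem result {G : Type*} [Group G] [Finite G] [Group.IsSolvable G]
    (S : Sylow 2 G) (x : G) (hx : x ≠ 1) (hodd : Odd (orderOf x))
    (hnorm : x ∈ Subgroup.normalizer ((S : Subgroup G) : Set G)) : ¬ IsConj x x⁻¹ := by
  intro hconj
  exact hx (key _ G rfl S x hodd hnorm hconj)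

end Cfsg.Agent.S4060
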