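import Cfsg.Statements.S4061
import Mathlib
import Cfsg.Agent.Lib.Helper22.SemiReg
import Cfsg.Agent.Lib.Helper1.Cores
import Cfsg.Agent.Lib.Helper12.Components
import Cfsg.Agent.Lib.Helper18.Cores
import Cfsg.Agent.Lib.Helper10.UniqueOrderP

set_option autoImplicit false
open Cfsg

namespace Cfsg.Agent.S4061

open Cfsg.Agent.Lib.Helper22.SemiReg

open scoped commutatorElement

section basic

variable {G : Type*} [Group G]

/-- if `c` inverts `d` then `c ^ 2` commutes with `d` -/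
theorem commute_sq_of_inverts {c d : G} (hc : c * d * c⁻¹ = d⁻¹) : Commute (c ^ 2) d := by
  have h1 : c * d = d⁻¹ * c := by
    calc c * d = (c * d * c⁻¹) * c := by group
      _ = d⁻¹ * c := by rw [hc]
  have h2 : c * d⁻¹ = d * c := by
    have h3 : c * d⁻¹ * c⁻¹ = d := by rw [← conj_inv, hc, inv_inv]
    calc c * d⁻¹ = (c * d⁻¹ * c⁻¹) * c := by group
      _ = d * c := by rw [h3]
  show c ^ 2 * d = d * c ^ 2
  rw [pow_two, mul_assoc, h1, ← mul_assoc, h2, mul_assoc]

theorem odd_pow_inverts {c d : G} (hc : c * d * c⁻¹ = d⁻¹) {j : ℕ} (hj : Odd j) :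
    c ^ j * d * (c ^ j)⁻¹ = d⁻¹ := by
  obtain ⟨i, rfl⟩ := hj
  have hc2 : Commute ((c ^ 2) ^ i) d⁻¹ := ((commute_sq_of_inverts hc).pow_left i).inv_right
  have e : c ^ (2 * i + 1) = (c ^ 2) ^ i * c := by rw [pow_succ, pow_mul]
  rw [e]
  calc (c ^ 2) ^ i * c * d * ((c ^ 2) ^ i * c)⁻¹
      = (c ^ 2) ^ i * (c * d * c⁻¹) * ((c ^ 2) ^ i)⁻¹ := by group
    _ = (c ^ 2) ^ i * d⁻¹ * ((c ^ 2) ^ i)⁻¹ := by rw [hc]
    _ = d⁻¹ := by rw [hc2.eq, mul_assoc, mul_inv_cancel, mul_one]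

theorem eq_one_of_eq_inv_of_odd {y : G} {j : ℕ} (hj : Odd j) (hyj : y ^ j = 1) (hy : y = y⁻¹) :
    y = 1 := by
  obtain ⟨i, rfl⟩ := hj
  have h2 : y ^ 2 = 1 := by
    have h3 : y * y = y * y⁻¹ := by rw [← hy]
    rw [pow_two, h3, mul_inv_cancel]
  rw [pow_succ, pow_mul, h2, one_pow, one_mul] at hyj
  exact hyj

theorem inv_eq_self_of_odd_inverts {c y : G} (hc : c * y * c⁻¹ = y⁻¹) {j : ℕ} (hj : Odd j)
    (hcj : c ^ j = 1) : y = y⁻¹ := by
  have := odd_pow_inverts hc hj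
  rw [hcj, one_mul, inv_one, mul_one] at this
  exact this

/-- a term of the derived series that is abelian modulo `C` but not inside `C` -/
theorem exists_normal_abelian_mod [Group.IsSolvable G] (C : Subgroup G) (hC : C ≠ ⊤) :
    ∃ D : Subgroup G, D.Normal ∧ ¬ D ≤ C ∧ ⁅D, D⁆ ≤ C := by
  classical
  have hex : ∃ n, derivedSeries G n ≤ C := by
    obtain ⟨n, hn⟩ := (Group.isSolvable_def G).mp inferInstance
    exact ⟨n, by rw [hn]; exact bot_le⟩
  have hspec : derivedSeries G (Nat.find hex) ≤ C := Nat.find_spec hex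
  have hn0 : Nat.find hex ≠ 0 := by
    intro h
    rw [h, derivedSeries_zero] at hspec
    exact hC (top_le_iff.mp hspec)
  obtain ⟨k, hk⟩ := Nat.exists_eq_succ_of_ne_zero hn0
  refine ⟨derivedSeries G k, derivedSeries_normal G k, ?_, ?_⟩
  · exact Nat.find_min hex (by omega)
  · have h1 : ⁅derivedSeries G k, derivedSeries G k⁆ = derivedSeries G (Nat.find hex) := by
      rw [hk]; rfl
    rw [h1]
    exact hspec

/-- elements of order at most 2 in an abelian subgroup -/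
def omegaTwo (B : Subgroup G) (hB : ∀ a ∈ B, ∀ b ∈ B, a * b = b * a) : Subgroup G where
  carrier := {x | x ∈ B ∧ x * x = 1}
  one_mem' := ⟨B.one_mem, mul_one 1⟩
  mul_mem' := by
    rintro a b ⟨ha, ha2⟩ ⟨hb, hb2⟩
    refine ⟨B.mul_mem ha hb, ?_⟩
    calc a * b * (a * b) = a * (b * a) * b := by group
      _ = a * (a * b) * b := by rw [hB b hb a ha]
      _ = (a * a) * (b * b) := by group
      _ = 1 := by rw [ha2, hb2, mul_one]
  inv_mem' := by
    rintro a ⟨ha, ha2⟩
    refine ⟨B.inv_mem ha, ?_⟩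
    rw [← mul_inv_rev, ha2, inv_one]

end basic

/-- A finite solvable ambivalent group with one class of involutions and no nontrivial normal
subgroup of odd order has at most one involution. -/
theorem involution_unique {G : Type*} [Group G] [Finite G] [Group.IsSolvable G]
    (hamb : ∀ x : G, IsConj x x⁻¹)
    (hone : ∀ s t : G, orderOf s = 2 → orderOf t = 2 → IsConj s t)
    (hO : ∀ N : Subgroup G, N.Normal → Odd (Nat.card N) → N = ⊥)
    (s t : G) (hs : orderOf s = 2) (ht : orderOf t = 2) : s = t := by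
  classical
  by_contra hst
  have hGnt : (⊥ : Subgroup G) ≠ ⊤ := by
    intro h
    have h1 : s ∈ (⊥ : Subgroup G) := h ▸ Subgroup.mem_top s
    rw [Subgroup.mem_bot] at h1
    rw [h1, orderOf_one] at hs
    omega
  obtain ⟨B, hBn, hBne, hBab⟩ := exists_normal_abelian_mod (⊥ : Subgroup G) hGnt
  have hBcomm : ∀ a ∈ B, ∀ b ∈ B, a * b = b * a := by
    intro a ha b hb
    have h1 : ⁅a, b⁆ ∈ ⁅B, B⁆ := Subgroup.commutator_mem_commutator ha hb
    have h2 : ⁅a, b⁆ = 1 := by
      have := hBab h1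
      rwa [Subgroup.mem_bot] at this
    rw [commutatorElement_def] at h2
    calc a * b = (a * b * a⁻¹ * b⁻¹) * (b * a) := by group
      _ = b * a := by rw [h2, one_mul]
  have hBeven : Even (Nat.card B) := by
    rw [← Nat.not_odd_iff_even]
    intro hodd
    apply hBne
    rw [hO B hBn hodd]
  have hF : Fact (Nat.Prime 2) := ⟨Nat.prime_two⟩
  obtain ⟨b0, hb0⟩ := exists_prime_orderOf_dvd_card' 2 hBeven.two_dvd
  have hv0o : orderOf (b0 : G) = 2 := by rw [Subgroup.orderOf_coe]; exact hb0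
  obtain ⟨V, hV⟩ : ∃ V : Subgroup G, V = omegaTwo B hBcomm := ⟨_, rfl⟩
  have hmemV : ∀ x : G, x ∈ V ↔ x ∈ B ∧ x * x = 1 := by
    intro x; rw [hV]; exact Iff.rfl
  have hVn : V.Normal := by
    refine ⟨fun n hn g => ?_⟩
    rw [hmemV] at hn ⊢
    refine ⟨hBn.conj_mem n hn.1 g, ?_⟩
    calc g * n * g⁻¹ * (g * n * g⁻¹) = g * (n * n) * g⁻¹ := by group
      _ = 1 := by rw [hn.2, mul_one, mul_inv_cancel]
  have hsq_of_order : ∀ u : G, orderOf u = 2 → u * u = 1 := by
    intro u hu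
    have := pow_orderOf_eq_one u
    rwa [hu, pow_two] at this
  have hv0V : (b0 : G) ∈ V := (hmemV _).mpr ⟨b0.2, hsq_of_order _ hv0o⟩
  have hinvV : ∀ u : G, orderOf u = 2 → u ∈ V := by
    intro u hu
    obtain ⟨c, hc⟩ := isConj_iff.mp (hone (b0 : G) u hv0o hu)
    rw [← hc]
    exact hVn.conj_mem _ hv0V c
  have hVcomm : ∀ a ∈ V, ∀ b ∈ V, a * b = b * a := fun a ha b hb =>
    hBcomm a ((hmemV a).mp ha).1 b ((hmemV b).mp hb).1
  let _ : CommGroup ↥V := { (inferInstance : Group ↥V) with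
    mul_comm := fun a b => Subtype.ext (hVcomm a a.2 b b.2) }
  have := hVn
  obtain ⟨φ, hφdef⟩ : ∃ φ : G →* MulAut ↥V, φ = MulAut.conjNormal := ⟨_, rfl⟩
  have hφ : ∀ (g : G) (v : ↥V), ((φ g v : ↥V) : G) = g * v * g⁻¹ := by
    intro g v
    rw [hφdef]
    exact MulAut.conjNormal_apply g v
  have hV2' : ∀ v : ↥V, v * v = 1 := fun v => Subtype.ext ((hmemV v).mp v.2).2
  have hord : ∀ v : ↥V, v ≠ 1 → orderOf (v : G) = 2 := by
    intro v hv
    refine orderOf_eq_prime ?_ ?_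
    · rw [pow_two]; exact ((hmemV v).mp v.2).2
    · intro h; exact hv (Subtype.ext h)
  have htrans : ∀ v w : ↥V, v ≠ 1 → w ≠ 1 → ∃ g : G, φ g v = w := by
    intro v w hv hw
    obtain ⟨c, hc⟩ := isConj_iff.mp (hone (v : G) (w : G) (hord v hv) (hord w hw))
    exact ⟨c, Subtype.ext ((hφ c v).trans hc)⟩
  have hsV : s ∈ V := hinvV s hs
  have htV : t ∈ V := hinvV t ht
  have hker : φ.ker ≠ ⊤ := by
    intro h
    obtain ⟨c, hc⟩ := isConj_iff.mp (hone s t hs ht)
    have h1 : φ c = 1 := by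
      have : c ∈ φ.ker := h ▸ Subgroup.mem_top c
      exact MonoidHom.mem_ker.mp this
    have h2 := hφ c ⟨s, hsV⟩
    rw [h1] at h2
    apply hst
    rw [← hc]
    exact h2
  obtain ⟨D, hDn, hDne, hDab⟩ := exists_normal_abelian_mod φ.ker hker
  have := hDn
  have hcomm : ∀ d ∈ D, ∀ e ∈ D, φ d * φ e = φ e * φ d := by
    intro d hd e he
    have h1 : ⁅d, e⁆ ∈ φ.ker := hDab (Subgroup.commutator_mem_commutator hd he)
    rw [MonoidHom.mem_ker, commutatorElement_def, map_mul, map_mul, map_mul, map_inv, map_inv,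
      mul_inv_eq_one, mul_inv_eq_iff_eq_mul] at h1
    exact h1
  obtain ⟨d0, hd0, hd0ker⟩ := SetLike.not_le_iff_exists.mp hDne
  have hd0ne : φ d0 ≠ 1 := fun h => hd0ker (MonoidHom.mem_ker.mpr h)
  obtain ⟨k, m, hm, hkm⟩ := Nat.exists_eq_two_pow_mul_odd (orderOf_pos d0).ne'
  obtain ⟨d, hd⟩ : ∃ d : G, d = d0 ^ 2 ^ k := ⟨_, rfl⟩
  have hdD : d ∈ D := by rw [hd]; exact D.pow_mem hd0 _
  have hdm1 : d ^ m = 1 := by rw [hd, ← pow_mul, ← hkm, pow_orderOf_eq_one]
  have hdm : φ d ^ m = 1 := by rw [← map_pow, hdm1, map_one]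
  have hφd : φ d ≠ 1 := by
    intro h
    apply hd0ne
    refine fixes_all_of_two_power φ D hV2' hcomm htrans d0 hd0 k ?_
    rw [← map_pow, ← hd]
    exact h
  have hsemi : ∀ v : ↥V, v ≠ 1 → φ d v ≠ v := fun v hv hfix =>
    hφd (eq_one_of_fixed_point φ D hV2' hcomm htrans d hdD m hm hdm v hv hfix)
  have hd1 : d ≠ 1 := by
    intro h; apply hφd; rw [h, map_one]
  -- ambivalence
  obtain ⟨c, hc⟩ := isConj_iff.mp (hamb d)
  obtain ⟨a, b, hb, hab⟩ := Nat.exists_eq_two_pow_mul_odd (orderOf_pos c).ne'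
  obtain ⟨t', ht'def⟩ : ∃ t' : G, t' = c ^ b := ⟨_, rfl⟩
  have ht' : t' * d * t'⁻¹ = d⁻¹ := by rw [ht'def]; exact odd_pow_inverts hc hb
  have ht'pow : t' ^ 2 ^ a = 1 := by
    rw [ht'def, ← pow_mul, mul_comm, ← hab, pow_orderOf_eq_one]
  obtain ⟨j, -, hj⟩ := (Nat.dvd_prime_pow Nat.prime_two).mp (orderOf_dvd_of_pow_eq_one ht'pow)
  rcases j with _ | j'
  · rw [pow_zero, orderOf_eq_one_iff] at hj
    rw [hj, one_mul, inv_one, mul_one] at ht'
    exact hd1 (eq_one_of_eq_inv_of_odd hm hdm1 ht')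
  · obtain ⟨u, hu⟩ : ∃ u : G, u = t' ^ 2 ^ j' := ⟨_, rfl⟩
    have hu2 : u * u = 1 := by
      rw [hu, ← pow_two, ← pow_mul, ← pow_succ, ← hj, pow_orderOf_eq_one]
    have hu1 : u ≠ 1 := by
      rw [hu]
      refine pow_ne_one_of_lt_orderOf (by positivity) ?_
      rw [hj]
      exact Nat.pow_lt_pow_right (by norm_num) (Nat.lt_succ_self j')
    have huo : orderOf u = 2 := orderOf_eq_prime (by rw [pow_two]; exact hu2) hu1
    have huV : u ∈ V := hinvV u huo
    rcases j' with _ | j''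
    · rw [pow_zero, pow_one] at hu
      rw [← hu] at ht'
      have hφu : φ u = 1 := by
        ext v
        rw [hφ u v]
        change u * (v : G) * u⁻¹ = (v : G)
        rw [hVcomm u huV v v.2, mul_inv_cancel_right]
      have h1 : φ d⁻¹ = φ d := by
        rw [← ht', map_mul, map_mul, map_inv, hφu, inv_one, one_mul, mul_one]
      rw [map_inv] at h1
      exact hφd (eq_one_of_eq_inv_of_odd hm hdm h1.symm)
    · have hcomm2 : Commute (t' ^ 2) d := commute_sq_of_inverts ht'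
      have hu' : u = (t' ^ 2) ^ 2 ^ j'' := by rw [hu, ← pow_mul, ← pow_succ']
      have hcu : Commute u d := by rw [hu']; exact hcomm2.pow_left _
      have hfix : φ d ⟨u, huV⟩ = ⟨u, huV⟩ := by
        apply Subtype.ext
        rw [hφ d ⟨u, huV⟩]
        change d * u * d⁻¹ = u
        rw [← hcu.eq, mul_inv_cancel_right]
      exact hsemi ⟨u, huV⟩ (fun h => hu1 (congrArg Subtype.val h)) hfix

theorem lift_involution {G : Type*} [Group G] [Finite G] (N : Subgroup G) [N.Normal]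
    (hN : Odd (Nat.card N)) (s : G ⧸ N) (hs : orderOf s = 2) :
    ∃ g : G, orderOf g = 2 ∧ (QuotientGroup.mk g : G ⧸ N) = s := by
  have hF : Fact (Nat.Prime 2) := ⟨Nat.prime_two⟩
  obtain ⟨g, rfl⟩ := QuotientGroup.mk_surjective s
  have hs2 : (QuotientGroup.mk g : G ⧸ N) ^ 2 = 1 := by rw [← hs]; exact pow_orderOf_eq_one _
  have hg2 : g ^ 2 ∈ N := by
    rw [← QuotientGroup.eq_one_iff, QuotientGroup.mk_pow]; exact hs2
  obtain ⟨i, hi⟩ := hN
  have hmk : (QuotientGroup.mk (g ^ Nat.card N) : G ⧸ N) = QuotientGroup.mk g := by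
    rw [QuotientGroup.mk_pow, hi, pow_succ, pow_mul, hs2, one_pow, one_mul]
  refine ⟨g ^ Nat.card N, ?_, hmk⟩
  refine orderOf_eq_prime ?_ ?_
  · rw [← pow_mul, mul_comm, pow_mul]
    have h3 : ((⟨g ^ 2, hg2⟩ : ↥N) ^ Nat.card ↥N : ↥N) = 1 := pow_card_eq_one'
    have h4 := congrArg Subtype.val h3
    rw [Subgroup.coe_pow, Subgroup.coe_one] at h4
    exact h4
  · intro h
    rw [h, QuotientGroup.mk_one] at hmk
    rw [← hmk, orderOf_one] at hs
    omega

/-- the product of the inverse of an involution with another lies in `O(G)` -/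
theorem involution_mul_mem_oddCore {G : Type*} [Group G] [Finite G] [Group.IsSolvable G]
    (hamb : ∀ x : G, IsConj x x⁻¹)
    (hone : ∀ s t : G, orderOf s = 2 → orderOf t = 2 → IsConj s t)
    (x y : G) (hx : orderOf x = 2) (hy : orderOf y = 2) : x⁻¹ * y ∈ Cfsg.oddCore G := by
  classical
  have hF : Fact (Nat.Prime 2) := ⟨Nat.prime_two⟩
  have hNn : (Cfsg.oddCore G).Normal := Cfsg.Agent.Lib.Helper1.pPrimeCore_normal 2
  have hNodd : Odd (Nat.card ↥(Cfsg.oddCore G)) :=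
    Nat.coprime_two_right.mp (Cfsg.Agent.Lib.Helper1.pPrimeCore_coprime 2)
  have hambQ : ∀ q : G ⧸ Cfsg.oddCore G, IsConj q q⁻¹ := by
    intro q
    obtain ⟨g, rfl⟩ := QuotientGroup.mk_surjective q
    have h := (QuotientGroup.mk' (Cfsg.oddCore G)).map_isConj (hamb g)
    rw [map_inv] at h
    exact h
  have honeQ : ∀ s t : G ⧸ Cfsg.oddCore G, orderOf s = 2 → orderOf t = 2 → IsConj s t := by
    intro s t hs ht
    obtain ⟨gs, hgs, rfl⟩ := lift_involution (Cfsg.oddCore G) hNodd s hs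
    obtain ⟨gt, hgt, rfl⟩ := lift_involution (Cfsg.oddCore G) hNodd t ht
    exact (QuotientGroup.mk' (Cfsg.oddCore G)).map_isConj (hone gs gt hgs hgt)
  have hOQ : ∀ M : Subgroup (G ⧸ Cfsg.oddCore G), M.Normal → Odd (Nat.card M) → M = ⊥ := by
    intro M hMn hodd
    have h1 : M ≤ Cfsg.pPrimeCore 2 (G ⧸ Cfsg.oddCore G) :=
      Cfsg.Agent.Lib.Helper1.le_pPrimeCore hMn (Nat.coprime_two_right.mpr hodd)
    have h2 : Cfsg.pPrimeCore 2 (G ⧸ Cfsg.oddCore G) = ⊥ :=
      Cfsg.Agent.Lib.Helper12.pPrimeCore_quotient_pPrimeCore Nat.prime_two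
    rw [h2] at h1
    exact le_bot_iff.mp h1
  have hmk : ∀ z : G, orderOf z = 2 → orderOf (QuotientGroup.mk z : G ⧸ Cfsg.oddCore G) = 2 := by
    intro z hz
    refine orderOf_eq_prime ?_ ?_
    · rw [← QuotientGroup.mk_pow, ← hz, pow_orderOf_eq_one, QuotientGroup.mk_one]
    · intro h
      rw [QuotientGroup.eq_one_iff] at h
      have h1 : orderOf z ∣ Nat.card ↥(Cfsg.oddCore G) := Subgroup.orderOf_dvd_natCard _ h
      rw [hz] at h1
      exact (Nat.not_even_iff_odd.mpr hNodd) (even_iff_two_dvd.mpr h1)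
  have := involution_unique hambQ honeQ hOQ _ _ (hmk x hx) (hmk y hy)
  exact QuotientGroup.eq.mp this

theorem card_eq_two_of_isCyclic {G : Type*} [Group G] [Finite G]
    (hamb : ∀ x : G, IsConj x x⁻¹) (heven : 2 ∣ Nat.card G) (S : Sylow 2 G)
    (hcyc : IsCyclic ↥(S : Subgroup G)) : Nat.card ↥(S : Subgroup G) = 2 := by
  have hF : Fact (Nat.Prime 2) := ⟨Nat.prime_two⟩
  obtain ⟨x, hx⟩ := hcyc.exists_generator
  obtain ⟨c, hc⟩ := isConj_iff.mp (hamb (x : G))
  have hpow : ∀ y : G, y ∈ (S : Subgroup G) → ∃ i : ℤ, (x : G) ^ i = y := by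
    intro y hy
    obtain ⟨i, hi⟩ := Subgroup.mem_zpowers_iff.mp (hx ⟨y, hy⟩)
    refine ⟨i, ?_⟩
    have := congrArg Subtype.val hi
    simpa using this
  have hcinv : c⁻¹ * (x : G) * c = (x : G)⁻¹ := by
    have h1 : (x : G) = c⁻¹ * (x : G)⁻¹ * c := by rw [← hc]; group
    calc c⁻¹ * (x : G) * c = (c⁻¹ * (x : G)⁻¹ * c)⁻¹ := by group
      _ = (x : G)⁻¹ := by rw [← h1]
  have hcN : c ∈ Subgroup.normalizer ((S : Subgroup G) : Set G) := by
    rw [Subgroup.mem_normalizer_iff]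
    intro h
    constructor
    · intro hh
      obtain ⟨i, rfl⟩ := hpow h hh
      rw [← conj_zpow, hc]
      exact (S : Subgroup G).zpow_mem ((S : Subgroup G).inv_mem x.2) i
    · intro hh
      obtain ⟨i, hi⟩ := hpow _ hh
      have h1 : h = c⁻¹ * (x : G) ^ i * c := by rw [hi]; group
      have h2 : c⁻¹ * (x : G) ^ i * c = (c⁻¹ * (x : G) * c) ^ i := by
        have h3 := conj_zpow (a := c⁻¹) (b := (x : G)) (i := i)
        rw [inv_inv] at h3
        exact h3.symm
      rw [h1, h2, hcinv]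
      exact (S : Subgroup G).zpow_mem ((S : Subgroup G).inv_mem x.2) i
  obtain ⟨a, b, hb, hab⟩ := Nat.exists_eq_two_pow_mul_odd (orderOf_pos c).ne'
  have ht' : c ^ b * (x : G) * (c ^ b)⁻¹ = (x : G)⁻¹ := odd_pow_inverts hc hb
  have ht'pow : (c ^ b) ^ 2 ^ a = 1 := by
    rw [← pow_mul, mul_comm, ← hab, pow_orderOf_eq_one]
  have ht'N : c ^ b ∈ Subgroup.normalizer ((S : Subgroup G) : Set G) := Subgroup.pow_mem _ hcN b
  have ht'2 : IsPGroup 2 ↥(Subgroup.zpowers (c ^ b)) := by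
    rintro ⟨g, hg⟩
    obtain ⟨i, rfl⟩ := Subgroup.mem_zpowers_iff.mp hg
    refine ⟨a, Subtype.ext ?_⟩
    change ((c ^ b) ^ i) ^ 2 ^ a = 1
    rw [← zpow_natCast, ← zpow_mul, mul_comm, zpow_mul, zpow_natCast, ht'pow, one_zpow]
  have ht'S : c ^ b ∈ (S : Subgroup G) := by
    have h5 := ht'2.inf_normalizer_sylow S
    have h6 : c ^ b ∈ Subgroup.zpowers (c ^ b) ⊓ (S : Subgroup G) := by
      rw [← h5]
      exact ⟨Subgroup.mem_zpowers _, ht'N⟩
    exact h6.2
  obtain ⟨i, hi⟩ := hpow _ ht'S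
  rw [← hi] at ht'
  have hxx : (x : G) = (x : G)⁻¹ := by
    rw [← ht']
    have h1 : Commute ((x : G) ^ i) (x : G) := (Commute.refl (x : G)).zpow_left i
    rw [h1.eq, mul_inv_cancel_right]
  have hx2 : (x : G) ^ 2 = 1 := by
    have h3 : (x : G) * x = x * (x : G)⁻¹ := by rw [← hxx]
    rw [pow_two, h3, mul_inv_cancel]
  have h1 : orderOf (x : G) ∣ 2 := orderOf_dvd_of_pow_eq_one hx2
  rw [Subgroup.orderOf_coe, orderOf_eq_card_of_forall_mem_zpowers hx] at h1
  exact Nat.dvd_antisymm h1 (S.dvd_card_of_dvd_card heven)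

theorem part_two {G : Type*} [Group G] [Finite G]
    (hamb : ∀ x : G, IsConj x x⁻¹) (S : Sylow 2 G) (h2 : Nat.card ↥(S : Subgroup G) = 2) :
    (S : Subgroup G).IsComplement' (Cfsg.oddCore G) ∧ Cfsg.oddCore G = commutator G ∧
      ∀ t : G, t ∈ (S : Subgroup G) → t ≠ 1 → ∀ x : G, x ∈ Cfsg.oddCore G →
        t * x * t⁻¹ = x⁻¹ := by
  classical
  have hF : Fact (Nat.Prime 2) := ⟨Nat.prime_two⟩
  obtain ⟨t0, ht0, huniq⟩ := (Nat.card_eq_two_iff' (1 : ↥(S : Subgroup G))).mp h2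
  have hP : Subgroup.normalizer ((S : Subgroup G) : Set G) ≤
      Subgroup.centralizer ((S : Subgroup G) : Set G) := by
    intro g hg
    rw [Subgroup.mem_centralizer_iff]
    intro y hy
    by_cases hy1 : y = 1
    · rw [hy1, one_mul, mul_one]
    have hgy : g * y * g⁻¹ ∈ (S : Subgroup G) := (Subgroup.mem_normalizer_iff.mp hg y).mp hy
    have e1 : (⟨y, hy⟩ : ↥(S : Subgroup G)) = t0 :=
      huniq _ (fun h => hy1 (congrArg Subtype.val h))
    have e2 : (⟨g * y * g⁻¹, hgy⟩ : ↥(S : Subgroup G)) = t0 :=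
      huniq _ (fun h => hy1 (conj_eq_one_iff.mp (congrArg Subtype.val h)))
    have e3 : g * y * g⁻¹ = y := congrArg Subtype.val (e2.trans e1.symm)
    calc y * g = (g * y * g⁻¹) * g := by rw [e3]
      _ = g * y := by group
  have hcomp : (MonoidHom.transferSylow S hP).ker.IsComplement' (S : Subgroup G) :=
    MonoidHom.ker_transferSylow_isComplement' S hP
  have hN : Cfsg.oddCore G = (MonoidHom.transferSylow S hP).ker :=
    Cfsg.Agent.Lib.Helper18.pPrimeCore_eq_of_isComplement' S _ hcomp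
  have hNn : (Cfsg.oddCore G).Normal := Cfsg.Agent.Lib.Helper1.pPrimeCore_normal 2
  have hNodd : Odd (Nat.card ↥(Cfsg.oddCore G)) :=
    Nat.coprime_two_right.mp (Cfsg.Agent.Lib.Helper1.pPrimeCore_coprime 2)
  have hcomp' : (S : Subgroup G).IsComplement' (Cfsg.oddCore G) := by
    rw [hN]; exact hcomp.symm
  have hidx : (Cfsg.oddCore G).index = 2 := by rw [hcomp'.index_eq_card, h2]
  have hoddmem : ∀ y ∈ Cfsg.oddCore G, Odd (orderOf y) := fun y hy =>
    hNodd.of_dvd_nat (Subgroup.orderOf_dvd_natCard _ hy)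
  refine ⟨hcomp', ?_, ?_⟩
  · apply le_antisymm
    · intro x hx
      obtain ⟨c, hc⟩ := isConj_iff.mp (hamb x)
      have h1 : x⁻¹ * x⁻¹ ∈ commutator G := by
        have h3 : ⁅x⁻¹, c⁆ ∈ commutator G := by
          rw [commutator_def]
          exact Subgroup.commutator_mem_commutator (Subgroup.mem_top _) (Subgroup.mem_top _)
        rw [commutatorElement_def, inv_inv] at h3
        have e : x⁻¹ * c * x * c⁻¹ = x⁻¹ * x⁻¹ := by
          calc x⁻¹ * c * x * c⁻¹ = x⁻¹ * (c * x * c⁻¹) := by group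
            _ = x⁻¹ * x⁻¹ := by rw [hc]
        rwa [e] at h3
      obtain ⟨i, hi⟩ := hoddmem x hx
      have hx1 : x ^ (2 * i + 1) = 1 := by rw [← hi]; exact pow_orderOf_eq_one x
      have e : x = (x⁻¹ * x⁻¹) ^ i := by
        rw [← pow_two, ← pow_mul, inv_pow, eq_inv_iff_mul_eq_one, ← pow_succ']
        exact hx1
      rw [e]
      exact Subgroup.pow_mem _ h1 i
    · rw [commutator_eq_closure, Subgroup.closure_le]
      rintro _ ⟨a, b, rfl⟩
      have e : ⁅a, b⁆ = (a * b) * (a⁻¹ * b⁻¹) := by rw [commutatorElement_def]; group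
      rw [SetLike.mem_coe, e, Subgroup.mul_mem_iff_of_index_two hidx,
        Subgroup.mul_mem_iff_of_index_two hidx, Subgroup.mul_mem_iff_of_index_two hidx,
        inv_mem_iff, inv_mem_iff]
  · intro t htS ht1
    have ht2 : t * t = 1 := by
      have := pow_card_eq_one' (G := ↥(S : Subgroup G)) (x := ⟨t, htS⟩)
      rw [h2] at this
      have h3 := congrArg Subtype.val this
      simpa [pow_two] using h3
    have hto : orderOf t = 2 := orderOf_eq_prime (by rw [pow_two]; exact ht2) ht1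
    have htN : t ∉ Cfsg.oddCore G := by
      intro h
      have h1 := hoddmem t h
      rw [hto] at h1
      exact absurd h1 (by decide)
    have hcent : ∀ y ∈ Cfsg.oddCore G, t * y = y * t → y = 1 := by
      intro y hy hty
      obtain ⟨c, hc⟩ := isConj_iff.mp (hamb y)
      have key : ∀ c' ∈ Cfsg.oddCore G, c' * y * c'⁻¹ = y⁻¹ → y = 1 := by
        intro c' hc' hinv
        have h1 := inv_eq_self_of_odd_inverts hinv (hoddmem c' hc') (pow_orderOf_eq_one c')
        exact eq_one_of_eq_inv_of_odd (hoddmem y hy) (pow_orderOf_eq_one y) h1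
      by_cases hcN : c ∈ Cfsg.oddCore G
      · exact key c hcN hc
      · have htc : t * c ∈ Cfsg.oddCore G :=
          (Subgroup.mul_mem_iff_of_index_two hidx).mpr
            ⟨fun h => absurd h htN, fun h => absurd h hcN⟩
        apply key (t * c) htc
        calc t * c * y * (t * c)⁻¹ = t * (c * y * c⁻¹) * t⁻¹ := by group
          _ = t * y⁻¹ * t⁻¹ := by rw [hc]
          _ = y⁻¹ := by
              have h1 : Commute t y⁻¹ := (show Commute t y from hty).inv_right
              rw [h1.eq, mul_inv_cancel_right]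
    intro x hx
    have hf : Function.Injective (fun y : ↥(Cfsg.oddCore G) =>
        (⟨(y : G)⁻¹ * (t * y * t⁻¹), (Cfsg.oddCore G).mul_mem ((Cfsg.oddCore G).inv_mem y.2)
          (hNn.conj_mem y y.2 t)⟩ : ↥(Cfsg.oddCore G))) := by
      intro a b hab
      have h1 : (a : G)⁻¹ * (t * a * t⁻¹) = (b : G)⁻¹ * (t * b * t⁻¹) := congrArg Subtype.val hab
      have h3 : (a : G)⁻¹ * t * a = (b : G)⁻¹ * t * b := by
        calc (a : G)⁻¹ * t * a = ((a : G)⁻¹ * (t * a * t⁻¹)) * t := by group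
          _ = ((b : G)⁻¹ * (t * b * t⁻¹)) * t := by rw [h1]
          _ = (b : G)⁻¹ * t * b := by group
      have h2 : t * ((b : G) * (a : G)⁻¹) = (b : G) * (a : G)⁻¹ * t := by
        calc t * ((b : G) * (a : G)⁻¹) = b * ((b : G)⁻¹ * t * b) * (a : G)⁻¹ := by group
          _ = b * ((a : G)⁻¹ * t * a) * (a : G)⁻¹ := by rw [h3]
          _ = b * (a : G)⁻¹ * t := by group
      have h4 := hcent _ ((Cfsg.oddCore G).mul_mem b.2 ((Cfsg.oddCore G).inv_mem a.2)) h2
      apply Subtype.ext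
      exact (mul_inv_eq_one.mp h4).symm
    obtain ⟨y, hy⟩ := (Finite.injective_iff_surjective.mp hf) ⟨x, hx⟩
    have hy' : (y : G)⁻¹ * (t * y * t⁻¹) = x := congrArg Subtype.val hy
    calc t * x * t⁻¹ = (t * y * t⁻¹)⁻¹ * ((t * t) * y * (t * t)⁻¹) := by rw [← hy']; group
      _ = (t * y * t⁻¹)⁻¹ * y := by rw [ht2]; group
      _ = x⁻¹ := by rw [← hy']; group

/-- Let G be a finite solvable group of even order in which every element is conjugate to its inverse and all involutions are conjugate. Then a Sylow 2-subgroup S of G has order 2 or is a generalized quaternion group (of order at least 8). Moreover, if S has order 2, then G is the semidirect product of its largest normal subgroup of odd order O(G) by S, O(G) equals the derived subgroup of G, and the involution of S inverts every element of O(G). -/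
theorem result {G : Type*} [Group G] [Finite G] [Group.IsSolvable G]
    (hamb : ∀ x : G, IsConj x x⁻¹) (heven : 2 ∣ Nat.card G) (hone : ∀ s t : G, orderOf s = 2 → orderOf t = 2 → IsConj s t) (S : Sylow 2 G) :
    (Nat.card S = 2 ∨ ∃ n : ℕ, Nonempty ((S : Subgroup G) ≃* QuaternionGroup (2 ^ (n + 1)))) ∧
    (Nat.card S = 2 → (S : Subgroup G).IsComplement' (Cfsg.oddCore G) ∧ Cfsg.oddCore G = commutator G ∧
        ∀ t : G, t ∈ S → t ≠ 1 → ∀ x : G, x ∈ Cfsg.oddCore G → t * x * t⁻¹ = x⁻¹) := by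
  classical
  have hF : Fact (Nat.Prime 2) := ⟨Nat.prime_two⟩
  have hNodd : Odd (Nat.card ↥(Cfsg.oddCore G)) :=
    Nat.coprime_two_right.mp (Cfsg.Agent.Lib.Helper1.pPrimeCore_coprime 2)
  have hS2 : IsPGroup 2 ↥(S : Subgroup G) := S.2
  have huniq : Cfsg.Agent.Lib.Helper10.UniqueOrderP 2 ↥(S : Subgroup G) := by
    intro x y hx hx1 hy
    by_cases hy1 : y = 1
    · rw [hy1]; exact Subgroup.one_mem _
    have hxo : orderOf (x : G) = 2 := by
      rw [Subgroup.orderOf_coe]; exact orderOf_eq_prime hx hx1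
    have hyo : orderOf (y : G) = 2 := by
      rw [Subgroup.orderOf_coe]; exact orderOf_eq_prime hy hy1
    have key := involution_mul_mem_oddCore hamb hone (x : G) (y : G) hxo hyo
    have hzS : (x : G)⁻¹ * (y : G) ∈ (S : Subgroup G) :=
      (S : Subgroup G).mul_mem ((S : Subgroup G).inv_mem x.2) y.2
    obtain ⟨k, hk⟩ := hS2 ⟨_, hzS⟩
    have hk' : ((x : G)⁻¹ * (y : G)) ^ 2 ^ k = 1 := by
      have := congrArg Subtype.val hk
      simpa using this
    have h1 : orderOf ((x : G)⁻¹ * (y : G)) ∣ 2 ^ k := orderOf_dvd_of_pow_eq_one hk'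
    have h2 : orderOf ((x : G)⁻¹ * (y : G)) ∣ Nat.card ↥(Cfsg.oddCore G) :=
      Subgroup.orderOf_dvd_natCard _ key
    have hc : Nat.Coprime (2 ^ k) (Nat.card ↥(Cfsg.oddCore G)) :=
      Nat.Coprime.pow_left k (Nat.coprime_two_left.mpr hNodd)
    have h3 : orderOf ((x : G)⁻¹ * (y : G)) = 1 := Nat.eq_one_of_dvd_coprimes hc h1 h2
    rw [orderOf_eq_one_iff, inv_mul_eq_one] at h3
    have h4 : x = y := Subtype.ext h3
    rw [← h4]
    exact Subgroup.mem_zpowers x
  refine ⟨?_, ?_⟩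
  · rcases Cfsg.Agent.Lib.Helper10.isCyclic_or_quaternion_of_uniqueOrderP hS2 huniq with
      hcyc | ⟨-, n, hn⟩
    · left
      exact card_eq_two_of_isCyclic hamb heven S hcyc
    · rcases n with _ | n'
      · left
        rw [pow_zero] at hn
        obtain ⟨e⟩ := hn
        have hcyc : IsCyclic ↥(S : Subgroup G) := by
          have := QuaternionGroup.quaternionGroup_one_isCyclic
          exact isCyclic_of_surjective e.symm e.symm.surjective
        exact card_eq_two_of_isCyclic hamb heven S hcyc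
      · right
        exact ⟨n', hn⟩
  · intro h2
    exact part_two hamb S h2

end Cfsg.Agent.S4061
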