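import Cfsg.Statements.S4062
import Cfsg.Agent.Lib.Helper22.PElt
import Cfsg.Agent.Lib.Helper22.Conj
import Cfsg.Agent.Lib.Helper1.FpfComplement
import Cfsg.Agent.Lib.Helper4.MinNormal

set_option autoImplicit false
open Cfsg

namespace Cfsg.Agent.S4062

open Cfsg.Agent.Lib.Helper22

variable {G : Type*} [Group G]

/-- `x` has order a power of two. -/
def IsTwoElt (x : G) : Prop := ∃ k : ℕ, orderOf x = 2 ^ k

/-- `2`-elements of the same order are conjugate. -/
def TwoOC (G : Type*) [Group G] : Prop :=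
  ∀ x y : G, IsTwoElt x → orderOf x = orderOf y → IsConj x y

theorem isTwoElt_pow {x : G} (hx : IsTwoElt x) (n : ℕ) : IsTwoElt (x ^ n) := by
  obtain ⟨k, hk⟩ := hx
  have h : orderOf (x ^ n) ∣ 2 ^ k := by
    rw [← hk]; exact orderOf_pow_dvd n
  obtain ⟨j, _, hj⟩ := (Nat.dvd_prime_pow Nat.prime_two).mp h
  exact ⟨j, hj⟩

theorem orderOf_pow_two_pow {x : G} {b : ℕ} (hx : orderOf x = 2 ^ b) {a : ℕ} (hab : a ≤ b) :
    orderOf (x ^ 2 ^ (b - a)) = 2 ^ a := by
  rw [orderOf_pow' x (pow_ne_zero _ (by norm_num)), hx, Nat.gcd_eq_right (pow_dvd_pow 2 (Nat.sub_le b a))]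
  rw [Nat.pow_div (Nat.sub_le b a) (by norm_num)]
  congr 1; omega

theorem odd_mem_of_index_two {H : Subgroup G} (hH : ∀ x : G, x ^ 2 ∈ H) {x : G} {m : ℕ}
    (hm : Odd m) (hx : x ^ m = 1) : x ∈ H := by
  obtain ⟨k, rfl⟩ := hm
  have h1 : x = ((x ^ 2) ^ (k + 1)) := by
    rw [← pow_mul, show 2 * (k + 1) = (2 * k + 1) + 1 by ring, pow_succ, hx, one_mul]
  rw [h1]
  exact H.pow_mem (hH x) _

theorem two_pow_mem_of_index_two {H : Subgroup G} (hH : ∀ x : G, x ^ 2 ∈ H) (x : G) {n : ℕ} (hn : 1 ≤ n) :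
    x ^ 2 ^ n ∈ H := by
  obtain ⟨m, rfl⟩ := Nat.exists_eq_add_of_le hn
  rw [pow_add, pow_one, pow_mul]
  exact H.pow_mem (hH x) _

/-- a `2`-element of an index two subgroup has smaller order than a `2`-element outside. -/
theorem orderOf_lt_of_mem [Finite G] (hoc : TwoOC G) {H : Subgroup G} [H.Normal]
    {x u : G} (hx : IsTwoElt x) (hxH : x ∈ H) (hu : IsTwoElt u) (huH : u ∉ H) :
    orderOf x < orderOf u := by
  by_contra hlt
  obtain ⟨b, hb⟩ := hx
  obtain ⟨a, ha⟩ := id hu
  have hab : a ≤ b := by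
    rw [not_lt, ha, hb] at hlt
    exact (Nat.pow_le_pow_iff_right (by norm_num)).mp hlt
  have h1 : orderOf (x ^ 2 ^ (b - a)) = 2 ^ a := orderOf_pow_two_pow hb hab
  have h2 : IsConj u (x ^ 2 ^ (b - a)) := hoc u _ hu (by rw [h1, ha])
  obtain ⟨c, hc⟩ := isConj_iff.mp h2
  have h3 : x ^ 2 ^ (b - a) ∈ H := H.pow_mem hxH _
  apply huH
  have : u = c⁻¹ * (x ^ 2 ^ (b - a)) * c⁻¹⁻¹ := by rw [← hc]; group
  rw [this]
  exact Subgroup.Normal.conj_mem inferInstance _ h3 _

/-- two `2`-elements outside an index two subgroup have the same order. -/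
theorem orderOf_eq_of_not_mem [Finite G] (hoc : TwoOC G) {H : Subgroup G} [H.Normal]
    (hH : ∀ x : G, x ^ 2 ∈ H)
    {u v : G} (hu : IsTwoElt u) (huH : u ∉ H) (hv : IsTwoElt v) (hvH : v ∉ H) :
    orderOf u = orderOf v := by
  have key : ∀ u v : G, IsTwoElt u → u ∉ H → IsTwoElt v → v ∉ H → ¬ orderOf u < orderOf v := by
    intro u v hu huH hv hvH hlt
    obtain ⟨a, ha⟩ := id hu
    obtain ⟨b, hb⟩ := id hv
    have hab : a < b := by
      rw [ha, hb] at hlt
      exact (Nat.pow_lt_pow_iff_right (by norm_num)).mp hlt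
    have h1 : orderOf (v ^ 2 ^ (b - a)) = 2 ^ a := orderOf_pow_two_pow hb hab.le
    have h3 : v ^ 2 ^ (b - a) ∈ H := two_pow_mem_of_index_two hH v (by omega)
    exact absurd (orderOf_lt_of_mem hoc (isTwoElt_pow hv _) h3 hu huH) (by rw [h1, ha]; exact lt_irrefl _)
  exact le_antisymm (not_lt.mp (key v u hv hvH hu huH)) (not_lt.mp (key u v hu huH hv hvH))

/-- there is a `2`-element outside an index two subgroup. -/
theorem exists_twoElt_not_mem [Finite G] {H : Subgroup G} [H.Normal] (hH : ∀ x : G, x ^ 2 ∈ H)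
    (g : G) (hg : g ∉ H) :
    ∃ u : G, IsTwoElt u ∧ u ∉ H ∧ g * u⁻¹ ∈ H := by
  have : Fact (Nat.Prime 2) := ⟨Nat.prime_two⟩
  obtain ⟨t, u, _, _, hgtu, ht, hu⟩ := exists_p_decomp 2 g
  have huH : u ∈ H := by
    apply odd_mem_of_index_two hH (m := orderOf u) _ (pow_orderOf_eq_one u)
    rw [← Nat.not_even_iff_odd, even_iff_two_dvd]
    intro h2
    have := Nat.dvd_gcd h2 (dvd_refl 2)
    rw [Nat.Coprime] at hu
    rw [hu] at this
    omega
  refine ⟨t, ht, ?_, ?_⟩
  · intro htH
    exact hg (hgtu ▸ H.mul_mem htH huH)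
  · have : g * t⁻¹ = t * u * t⁻¹ := by rw [hgtu]
    rw [this]
    exact Subgroup.Normal.conj_mem inferInstance _ huH _

theorem twoOC_quotient [Finite G] (hoc : TwoOC G) (M : Subgroup G) [M.Normal] (e : ℕ)
    (h1 : ∀ x ∈ M, IsTwoElt x → orderOf x ≤ 2 ^ e)
    (h2 : ∀ x : G, IsTwoElt x → orderOf x ≤ 2 ^ e → x ∈ M) : TwoOC (G ⧸ M) := by
  have : Fact (Nat.Prime 2) := ⟨Nat.prime_two⟩
  intro xb yb hxb hxy
  obtain ⟨j, hj⟩ := id hxb
  rcases Nat.eq_zero_or_pos j with rfl | hjpos
  · have hx1 : xb = 1 := orderOf_eq_one_iff.mp (by simpa using hj)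
    have hy1 : yb = 1 := orderOf_eq_one_iff.mp (by rw [← hxy]; simpa using hj)
    rw [hx1, hy1]
  · have key : ∀ zb : G ⧸ M, orderOf zb = 2 ^ j →
        ∃ z : G, IsTwoElt z ∧ (z : G ⧸ M) = zb ∧ orderOf z = 2 ^ (j + e) := by
      intro zb hzb
      obtain ⟨z, hz2, hzmk⟩ := exists_pElt_lift 2 M zb ⟨j, hzb⟩
      refine ⟨z, hz2, hzmk, ?_⟩
      obtain ⟨i, hi⟩ := id hz2
      have hji : j ≤ i := by
        have h3 : zb ^ 2 ^ i = 1 := by
          rw [← hzmk, ← QuotientGroup.mk_pow, ← hi, pow_orderOf_eq_one]; rfl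
        have h4 := orderOf_dvd_of_pow_eq_one h3
        rw [hzb] at h4
        exact (Nat.pow_dvd_pow_iff_le_right (by norm_num)).mp h4
      have hmem : z ^ 2 ^ j ∈ M := by
        rw [← QuotientGroup.eq_one_iff, QuotientGroup.mk_pow, hzmk, ← hzb, pow_orderOf_eq_one]
      have ho1 : orderOf (z ^ 2 ^ j) = 2 ^ (i - j) := by
        have h3 := orderOf_pow_two_pow hi (a := i - j) (Nat.sub_le i j)
        rwa [show i - (i - j) = j by omega] at h3
      have hle1 : i - j ≤ e := by
        have h3 := h1 _ hmem (isTwoElt_pow hz2 _)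
        rw [ho1] at h3
        exact (Nat.pow_le_pow_iff_right (by norm_num)).mp h3
      have hnmem : z ^ 2 ^ (j - 1) ∉ M := by
        intro hm
        rw [← QuotientGroup.eq_one_iff, QuotientGroup.mk_pow, hzmk] at hm
        have h3 := orderOf_dvd_of_pow_eq_one hm
        rw [hzb] at h3
        have h4 := (Nat.pow_dvd_pow_iff_le_right (by norm_num)).mp h3
        omega
      have ho2 : orderOf (z ^ 2 ^ (j - 1)) = 2 ^ (i - j + 1) := by
        have h3 := orderOf_pow_two_pow hi (a := i - j + 1) (by omega)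
        rwa [show i - (i - j + 1) = j - 1 by omega] at h3
      have hgt : e < i - j + 1 := by
        by_contra hh
        apply hnmem
        apply h2 _ (isTwoElt_pow hz2 _)
        rw [ho2]
        exact Nat.pow_le_pow_right (by norm_num) (by omega)
      rw [hi]; congr 1; omega
    obtain ⟨x, hx2, hxmk, hxo⟩ := key xb hj
    obtain ⟨y, hy2, hymk, hyo⟩ := key yb (by rw [← hxy]; exact hj)
    have h3 := hoc x y hx2 (by rw [hxo, hyo])
    rw [← hxmk, ← hymk]
    obtain ⟨c, hc⟩ := isConj_iff.mp h3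
    exact isConj_iff.mpr ⟨(c : G ⧸ M), by rw [← hc]; rfl⟩

theorem card_mul_card_centralizer_dvd [Finite G] (Q : Subgroup G) [Q.Normal] (u : G)
    (h : ∀ q ∈ Q, IsConj u (u * q)) :
    Nat.card Q * Nat.card (Subgroup.centralizer ({u} : Set G)) ∣ Nat.card G := by
  set K : Set G := {x | IsConj u x} with hK
  have hsat : K = (QuotientGroup.mk : G → G ⧸ Q) ⁻¹' ((QuotientGroup.mk : G → G ⧸ Q) '' K) := by
    apply Set.Subset.antisymm (Set.subset_preimage_image _ _)
    rintro x ⟨v, hv, hvx⟩
    have hq : v⁻¹ * x ∈ Q := QuotientGroup.eq.mp hvx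
    obtain ⟨g, hg⟩ := isConj_iff.mp hv
    have hq' : g⁻¹ * (v⁻¹ * x) * g⁻¹⁻¹ ∈ Q := Subgroup.Normal.conj_mem inferInstance _ hq _
    have h3 := h _ hq'
    have h4 : IsConj (u * (g⁻¹ * (v⁻¹ * x) * g⁻¹⁻¹)) x :=
      isConj_iff.mpr ⟨g, by rw [← hg]; group⟩
    exact h3.trans h4
  have hcard : Nat.card K = Nat.card Q * Nat.card ((QuotientGroup.mk : G → G ⧸ Q) '' K) := by
    conv_lhs => rw [hsat]
    exact QuotientGroup.card_preimage_mk Q _
  have hidx : (Subgroup.centralizer ({u} : Set G)).index = Nat.card K := by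
    rw [index_centralizer_eq_card_isConj]; rfl
  have h5 := Subgroup.card_mul_index (Subgroup.centralizer ({u} : Set G))
  rw [hidx, hcard] at h5
  rw [← h5]
  exact ⟨Nat.card ((QuotientGroup.mk : G → G ⧸ Q) '' K), by ring⟩

theorem exists_normal_pGroup [Finite G] [Group.IsSolvable G] [Nontrivial G] :
    ∃ (p : ℕ) (N : Subgroup G), p.Prime ∧ N.Normal ∧ N ≠ ⊥ ∧ IsPGroup p N := by
  obtain ⟨N, hN⟩ := Cfsg.Agent.Lib.Helper4.exists_minNormal (G := G)
  obtain ⟨p, hp, hpow⟩ := hN.exists_prime_pow_eq_one hN.le_centralizer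
  refine ⟨p, N, hp, hN.1, hN.2.1, ?_⟩
  intro x
  exact ⟨1, by rw [pow_one]; exact Subtype.ext (by simpa using hpow x x.2)⟩

theorem isTwoElt_map {G' : Type*} [Group G'] (f : G →* G') {x : G} (hx : IsTwoElt x) :
    IsTwoElt (f x) := by
  obtain ⟨k, hk⟩ := hx
  have h : orderOf (f x) ∣ 2 ^ k := by rw [← hk]; exact orderOf_map_dvd f x
  obtain ⟨j, _, hj⟩ := (Nat.dvd_prime_pow Nat.prime_two).mp h
  exact ⟨j, hj⟩

theorem index_map_mk_eq_two [Finite G] {H : Subgroup G} (hH : H.index = 2) (M : Subgroup G)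
    [M.Normal] (hMH : M ≤ H) : (H.map (QuotientGroup.mk' M)).index = 2 := by
  rw [Subgroup.index_map, QuotientGroup.ker_mk', sup_eq_left.mpr hMH,
    MonoidHom.range_eq_top.mpr (QuotientGroup.mk'_surjective M), Subgroup.index_top, mul_one, hH]

theorem card_quotient_lt [Finite G] (M : Subgroup G) [M.Normal] (hM : M ≠ ⊥) :
    Nat.card (G ⧸ M) < Nat.card G := by
  have h1 := Subgroup.card_mul_index M
  rw [Subgroup.index_eq_card] at h1
  have h2 : 1 < Nat.card M := by
    rw [Finite.one_lt_card_iff_nontrivial]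
    exact (Subgroup.nontrivial_iff_ne_bot M).mpr hM
  have h3 : 0 < Nat.card (G ⧸ M) := Nat.card_pos
  nlinarith

universe u

/-- In a finite solvable group in which `2`-elements of the same order are conjugate, a subgroup of
index two has odd order. -/
theorem twoElt_eq_one_of_mem : ∀ (n : ℕ) (G : Type u) [Group G] [Finite G] [Group.IsSolvable G],
    Nat.card G = n → TwoOC G → ∀ H : Subgroup G, H.index = 2 →
      ∀ x ∈ H, IsTwoElt x → x = 1 := by
  intro n
  induction n using Nat.strong_induction_on with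
  | _ n ih =>
  intro G _ _ _ hn hoc H hH x hxH hx2
  have hHn : H.Normal := Subgroup.normal_of_index_eq_two hH
  have hsq : ∀ x : G, x ^ 2 ∈ H := Subgroup.sq_mem_of_index_two hH
  have : Fact (Nat.Prime 2) := ⟨Nat.prime_two⟩
  have hHtop : H ≠ ⊤ := by
    intro h; rw [h, Subgroup.index_top] at hH; omega
  obtain ⟨g, hg⟩ : ∃ g : G, g ∉ H := by
    by_contra hh
    push Not at hh
    exact hHtop (eq_top_iff.mpr fun y _ => hh y)
  obtain ⟨u, hu2, huH, _⟩ := exists_twoElt_not_mem hsq g hg
  by_cases hu : orderOf u ≤ 2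
  · have h1 := orderOf_lt_of_mem hoc hx2 hxH hu2 huH
    have h2 : 0 < orderOf x := orderOf_pos x
    exact orderOf_eq_one_iff.mp (by omega)
  · exfalso
    push Not at hu
    have hu1 : u ≠ 1 := by
      intro h; rw [h, orderOf_one] at hu; omega
    have : Nontrivial G := ⟨⟨u, 1, hu1⟩⟩
    obtain ⟨p, N, hp, hNn, hNbot, hNp⟩ := exists_normal_pGroup (G := G)
    -- the general consequence of the induction hypothesis
    have step : ∀ (M : Subgroup G) [M.Normal], M ≠ ⊥ → M ≤ H → TwoOC (G ⧸ M) →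
        ∀ y ∈ H, IsTwoElt y → y ∈ M := by
      intro M _ hMbot hMH hocM y hyH hy2
      have h1 := ih (Nat.card (G ⧸ M)) (by rw [← hn]; exact card_quotient_lt M hMbot) (G ⧸ M) rfl
        hocM (H.map (QuotientGroup.mk' M)) (index_map_mk_eq_two hH M hMH)
        (QuotientGroup.mk' M y) (Subgroup.mem_map_of_mem _ hyH) (isTwoElt_map _ hy2)
      exact (QuotientGroup.eq_one_iff y).mp h1
    by_cases hp2 : p = 2
    · subst hp2
      -- the 2-group case
      set M : Subgroup G := N ⊓ H with hM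
      have hMn : M.Normal := Subgroup.normal_inf_normal N H
      have hMH : M ≤ H := inf_le_right
      have hMp : IsPGroup 2 M := hNp.to_le inf_le_left
      have hMbot : M ≠ ⊥ := by
        intro hbot
        obtain ⟨⟨v, hvN⟩, hv1⟩ := (Subgroup.ne_bot_iff_exists_ne_one.mp hNbot)
        have hv1' : v ≠ 1 := fun h => hv1 (Subtype.ext h)
        have hv2 : IsTwoElt v := isPElt_of_mem_isPGroup Nat.prime_two N hNp v hvN
        have hvH : v ∉ H := by
          intro hvH
          have : v ∈ M := ⟨hvN, hvH⟩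
          rw [hbot, Subgroup.mem_bot] at this
          exact hv1' this
        have h1 := orderOf_eq_of_not_mem hoc hsq hu2 huH hv2 hvH
        have h2 : v ^ 2 ∈ M := ⟨N.pow_mem hvN 2, Subgroup.sq_mem_of_index_two hH v⟩
        rw [hbot, Subgroup.mem_bot] at h2
        have h3 := Nat.le_of_dvd (by norm_num) (orderOf_dvd_of_pow_eq_one h2)
        omega
      obtain ⟨z, hz⟩ := Finite.exists_max (fun m : M => orderOf (m : G))
      obtain ⟨e, he⟩ := isPElt_of_mem_isPGroup Nat.prime_two M hMp z z.2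
      have hocM : TwoOC (G ⧸ M) := by
        apply twoOC_quotient hoc M e
        · intro y hyM _
          rw [← he]; exact hz ⟨y, hyM⟩
        · intro y hy2 hyle
          obtain ⟨i, hi⟩ := id hy2
          have hie : i ≤ e := by
            rw [hi] at hyle
            exact (Nat.pow_le_pow_iff_right (by norm_num)).mp hyle
          have hw : orderOf ((z : G) ^ 2 ^ (e - i)) = 2 ^ i := orderOf_pow_two_pow he hie
          have hc := hoc ((z : G) ^ 2 ^ (e - i)) y ⟨i, hw⟩ (by rw [hw, hi])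
          obtain ⟨c, hc⟩ := isConj_iff.mp hc
          rw [← hc]
          exact hMn.conj_mem _ (M.pow_mem z.2 _) c
      have hall : ∀ y ∈ H, IsTwoElt y → y ∈ M := step M hMbot hMH hocM
      have hconj : ∀ q ∈ M, IsConj u (u * q) := by
        intro q hq
        have h1 : u * q ∉ H := by
          intro h
          apply huH
          have : u = (u * q) * q⁻¹ := by group
          rw [this]
          exact H.mul_mem h (H.inv_mem (hMH hq))
        have h2 : IsTwoElt (u * q) := by
          obtain ⟨k, hk⟩ := id hu2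
          have hzp : IsPGroup 2 (Subgroup.zpowers u) :=
            IsPGroup.of_card (n := k) (by rw [Nat.card_zpowers, hk])
          have hsup : IsPGroup 2 (Subgroup.zpowers u ⊔ M : Subgroup G) :=
            IsPGroup.to_sup_of_normal_right hzp hMp
          exact isPElt_of_mem_isPGroup Nat.prime_two _ hsup _
            (Subgroup.mul_mem_sup (Subgroup.mem_zpowers u) hq)
        exact hoc u (u * q) hu2 (orderOf_eq_of_not_mem hoc hsq hu2 huH h2 h1)
      have hdvd := card_mul_card_centralizer_dvd M u hconj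
      have hou : orderOf u ∣ Nat.card (Subgroup.centralizer ({u} : Set G)) := by
        have hmem : u ∈ Subgroup.centralizer ({u} : Set G) :=
          Subgroup.mem_centralizer_singleton_iff.mpr rfl
        have := orderOf_dvd_natCard (⟨u, hmem⟩ : Subgroup.centralizer ({u} : Set G))
        rwa [Subgroup.orderOf_mk] at this
      have hdvd2 : Nat.card M * orderOf u ∣ Nat.card G :=
        (Nat.mul_dvd_mul_left _ hou).trans hdvd
      obtain ⟨P, hMP⟩ := hMp.exists_le_sylow
      have hPM : H ⊓ (P : Subgroup G) = M := by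
        apply le_antisymm
        · intro y hy
          exact hall y hy.1 (isPElt_of_mem_sylow P y hy.2)
        · exact le_inf hMH hMP
      have hrel : M.relIndex (P : Subgroup G) ∣ 2 := by
        rw [← hPM, Subgroup.inf_relIndex_right]
        have h1 := Subgroup.relIndex_dvd_index_of_normal H (P : Subgroup G)
        rwa [hH] at h1
      have hcardP := card_mul_relIndex M (P : Subgroup G) hMP
      obtain ⟨a, ha⟩ := IsPGroup.exists_card_eq hMp
      obtain ⟨c, hc⟩ := id hu2
      have h2pow : Nat.card M * orderOf u = 2 ^ (a + c) := by rw [ha, hc, pow_add]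
      have hcop : Nat.Coprime (2 ^ (a + c)) (P : Subgroup G).index := by
        apply Nat.Coprime.pow_left
        rw [Nat.Prime.coprime_iff_not_dvd Nat.prime_two]
        exact P.not_dvd_index
      have h3 : Nat.card M * orderOf u ∣ Nat.card (P : Subgroup G) := by
        rw [h2pow]
        rw [h2pow, ← Subgroup.card_mul_index (P : Subgroup G)] at hdvd2
        exact hcop.dvd_of_dvd_mul_right hdvd2
      rw [← hcardP] at h3
      have h4 : orderOf u ∣ M.relIndex (P : Subgroup G) :=
        Nat.dvd_of_mul_dvd_mul_left Nat.card_pos h3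
      have h5 := Nat.le_of_dvd (by norm_num) (h4.trans hrel)
      omega
    · -- the odd case
      have hodd : ∀ y ∈ N, IsTwoElt y → y = 1 := by
        intro y hyN hy2
        obtain ⟨k, hk⟩ := hy2
        obtain ⟨j, hj⟩ := isPElt_of_mem_isPGroup hp N hNp y hyN
        have hcop : Nat.Coprime (2 ^ k) (p ^ j) :=
          Nat.Coprime.pow _ _ ((Nat.coprime_primes Nat.prime_two hp).mpr (Ne.symm hp2))
        rw [← hk] at hcop
        rw [← hj, Nat.coprime_self] at hcop
        exact orderOf_eq_one_iff.mp hcop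
      have hNH : N ≤ H := by
        intro y hyN
        obtain ⟨j, hj⟩ := isPElt_of_mem_isPGroup hp N hNp y hyN
        apply odd_mem_of_index_two hsq (m := orderOf y) _ (pow_orderOf_eq_one y)
        rw [hj]
        exact Odd.pow (hp.odd_of_ne_two hp2)
      have hocN : TwoOC (G ⧸ N) := by
        apply twoOC_quotient hoc N 0
        · intro y hyN hy2
          rw [hodd y hyN hy2, orderOf_one]; norm_num
        · intro y _ hy
          have : orderOf y = 1 := by
            have := orderOf_pos y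
            simp at hy; omega
          rw [orderOf_eq_one_iff.mp this]; exact N.one_mem
      have h1 := step N hNbot hNH hocN (u ^ 2) (Subgroup.sq_mem_of_index_two hH u) (isTwoElt_pow hu2 2)
      have h2 := hodd _ h1 (isTwoElt_pow hu2 2)
      have := orderOf_dvd_of_pow_eq_one h2
      exact absurd (Nat.le_of_dvd (by norm_num) this) (by omega)

theorem conj_pow_inv {g k : G} (hg : g * k * g⁻¹ = k⁻¹) {n : ℕ} (hn : Odd n) :
    g ^ n * k * (g ^ n)⁻¹ = k⁻¹ := by
  obtain ⟨j, rfl⟩ := hn
  have h2 : g ^ 2 * k * (g ^ 2)⁻¹ = k := by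
    have e1 : g ^ 2 * k * (g ^ 2)⁻¹ = g * (g * k * g⁻¹) * g⁻¹ := by rw [pow_two]; group
    rw [e1, hg]
    have e2 : g * k⁻¹ * g⁻¹ = (g * k * g⁻¹)⁻¹ := by group
    rw [e2, hg, inv_inv]
  have h3 : ∀ j : ℕ, (g ^ 2) ^ j * k * ((g ^ 2) ^ j)⁻¹ = k := by
    intro j
    induction j with
    | zero => simp
    | succ j ih =>
      have e1 : (g ^ 2) ^ (j + 1) * k * ((g ^ 2) ^ (j + 1))⁻¹ =
          (g ^ 2) ^ j * (g ^ 2 * k * (g ^ 2)⁻¹) * ((g ^ 2) ^ j)⁻¹ := by
        rw [pow_succ]; group
      rw [e1, h2, ih]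
  have e3 : g ^ (2 * j + 1) * k * (g ^ (2 * j + 1))⁻¹ =
      (g ^ 2) ^ j * (g * k * g⁻¹) * ((g ^ 2) ^ j)⁻¹ := by
    rw [pow_succ, pow_mul]; group
  rw [e3, hg]
  have e4 : (g ^ 2) ^ j * k⁻¹ * ((g ^ 2) ^ j)⁻¹ = ((g ^ 2) ^ j * k * ((g ^ 2) ^ j)⁻¹)⁻¹ := by group
  rw [e4, h3 j]

/-- a group of order six with a non-normal subgroup of order two is the symmetric group. -/
theorem nonempty_mulEquiv_perm_fin_three [Finite G] (hcard : Nat.card G = 6) (K : Subgroup G)
    (hK : Nat.card K = 2) (hKn : K.normalCore = ⊥) : Nonempty (G ≃* Equiv.Perm (Fin 3)) := by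
  have hidx : K.index = 3 := by
    have := Subgroup.card_mul_index K
    rw [hK, hcard] at this; omega
  have hq : Nat.card (G ⧸ K) = 3 := by rw [← Subgroup.index_eq_card, hidx]
  let f : G →* Equiv.Perm (G ⧸ K) := MulAction.toPermHom G (G ⧸ K)
  have hker : f.ker = ⊥ := by rw [← hKn, Subgroup.normalCore_eq_ker]
  have hinj : Function.Injective f := (MonoidHom.ker_eq_bot_iff f).mp hker
  have : Finite (G ⧸ K) := Nat.finite_of_card_ne_zero (by rw [hq]; norm_num)
  have hcardP : Nat.card (Equiv.Perm (G ⧸ K)) = 6 := by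
    rw [Nat.card_perm, hq]; rfl
  have hbij : Function.Bijective f :=
    (Nat.bijective_iff_injective_and_card f).mpr ⟨hinj, by rw [hcard, hcardP]⟩
  have e : G ⧸ K ≃ Fin 3 := Finite.equivFinOfCardEq hq
  exact ⟨(MulEquiv.ofBijective f hbij).trans e.permCongrHom⟩

open scoped commutatorElement in
/-- A finite solvable group in which any two elements of the same order are conjugate has order 1 or 2 or is isomorphic to the symmetric group of degree 3. -/
theorem result {G : Type*} [Group G] [Finite G] [Group.IsSolvable G]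
    (h : ∀ x y : G, orderOf x = orderOf y → IsConj x y) :
    Nat.card G = 1 ∨ Nat.card G = 2 ∨ Nonempty (G ≃* Equiv.Perm (Fin 3)) := by
  by_cases hcard1 : Nat.card G = 1
  · left; exact hcard1
  right
  have hnt : Nontrivial G := by
    rw [← Finite.one_lt_card_iff_nontrivial]
    have := Nat.card_pos (α := G); omega
  have hoc : TwoOC G := fun x y _ hxy => h x y hxy
  set H : Subgroup G := commutator G with hHdef
  have hHn : H.Normal := by rw [hHdef]; infer_instance
  have hconjH : ∀ a b : G, IsConj a b → b * a⁻¹ ∈ H := by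
    intro a b hab
    obtain ⟨c, hc⟩ := isConj_iff.mp hab
    have e1 : b * a⁻¹ = ⁅c, a⁆ := by rw [← hc, commutatorElement_def]
    rw [e1]
    exact Subgroup.commutator_mem_commutator (Subgroup.mem_top c) (Subgroup.mem_top a)
  have hsq : ∀ x : G, x ^ 2 ∈ H := by
    intro x
    have h1 := hconjH x x⁻¹ (h x x⁻¹ (orderOf_inv x).symm)
    have e1 : x ^ 2 = (x⁻¹ * x⁻¹)⁻¹ := by rw [mul_inv_rev, inv_inv, pow_two]
    rw [e1]; exact H.inv_mem h1
  have hHtop : H ≠ ⊤ := (Group.IsSolvable.commutator_lt_top_of_nontrivial G).ne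
  obtain ⟨g, hg⟩ : ∃ g : G, g ∉ H := by
    by_contra hh
    push Not at hh
    exact hHtop (eq_top_iff.mpr fun y _ => hh y)
  obtain ⟨u, hu2, huH, _⟩ := exists_twoElt_not_mem hsq g hg
  have hidx : H.index = 2 := by
    rw [Subgroup.index_eq_two_iff]
    refine ⟨u, fun b => ?_⟩
    by_cases hb : b ∈ H
    · right
      refine ⟨hb, fun hbu => huH ?_⟩
      have e1 : u = b⁻¹ * (b * u) := by group
      rw [e1]; exact H.mul_mem (H.inv_mem hb) hbu
    · left
      refine ⟨?_, hb⟩
      obtain ⟨t, ht2, htH, hbt⟩ := exists_twoElt_not_mem hsq b hb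
      have h1 := orderOf_eq_of_not_mem hoc hsq ht2 htH hu2 huH
      have h2 := hconjH t u (h t u h1)
      have e1 : b * u = (b * t⁻¹) * (t * (u * t⁻¹) * t⁻¹) * t ^ 2 := by rw [pow_two]; group
      rw [e1]
      exact H.mul_mem (H.mul_mem hbt (hHn.conj_mem _ h2 _)) (hsq t)
  have hodd2 := twoElt_eq_one_of_mem (Nat.card G) G rfl hoc H hidx
  have hu_sq : u * u = 1 := by
    have := hodd2 (u ^ 2) (hsq u) (isTwoElt_pow hu2 2)
    rwa [pow_two] at this
  have hu1 : u ≠ 1 := fun h => huH (h ▸ H.one_mem)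
  have huinv : u⁻¹ = u := inv_eq_of_mul_eq_one_left hu_sq
  have hoddH : ∀ y ∈ H, Odd (orderOf y) := by
    intro y hy
    rw [← Nat.not_even_iff_odd, even_iff_two_dvd]
    intro h2
    have h3 : orderOf (y ^ (orderOf y / 2)) = 2 :=
      orderOf_pow_orderOf_div (orderOf_pos y).ne' h2
    have h4 := hodd2 _ (H.pow_mem hy _) ⟨1, by rw [h3, pow_one]⟩
    rw [h4, orderOf_one] at h3; omega
  have hinvH : ∀ k ∈ H, ∀ g ∈ H, g * k * g⁻¹ = k⁻¹ → k = 1 := by
    intro k hk g hg hgk
    have h1 := conj_pow_inv hgk (hoddH g hg)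
    rw [pow_orderOf_eq_one, one_mul, inv_one, mul_one] at h1
    have h2 : k ^ 2 ^ 1 = 1 := by
      rw [pow_one, pow_two]; nth_rewrite 1 [h1]; exact inv_mul_cancel k
    exact hodd2 k hk (isPElt_of_pow_eq_one Nat.prime_two k 1 h2)
  have hfpf : H ⊓ Subgroup.centralizer {u} = ⊥ := by
    rw [eq_bot_iff]
    rintro k ⟨hkH, hkC⟩
    rw [Subgroup.mem_bot]
    have hcomm : u * k = k * u := Subgroup.mem_centralizer_iff.mp hkC u (Set.mem_singleton u)
    obtain ⟨g, hg⟩ := isConj_iff.mp (h k k⁻¹ (orderOf_inv k).symm)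
    by_cases hgH : g ∈ H
    · exact hinvH k hkH g hgH hg
    · have hug : u * g ∈ H := (Subgroup.mul_mem_iff_of_index_two hidx).mpr (iff_of_false huH hgH)
      apply hinvH k hkH (u * g) hug
      have e1 : u * g * k * (u * g)⁻¹ = u * (g * k * g⁻¹) * u⁻¹ := by group
      rw [e1, hg]
      have e2 : u * k⁻¹ * u⁻¹ = (u * k * u⁻¹)⁻¹ := by group
      rw [e2, hcomm, mul_assoc, mul_inv_cancel, mul_one]
  have hinv := Cfsg.Agent.Lib.Helper1.involution_inverts_of_fpf H u hu_sq hfpf
  have hab : ∀ a ∈ H, ∀ b ∈ H, a * b = b * a := by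
    intro a ha b hb
    have h1 := hinv (a * b) (H.mul_mem ha hb)
    have h2 := hinv a ha
    have h3 := hinv b hb
    have e1 : u * (a * b) * u⁻¹ = (u * a * u⁻¹) * (u * b * u⁻¹) := by group
    rw [e1, h2, h3, mul_inv_rev] at h1
    have := congrArg Inv.inv h1
    simpa using this.symm
  have hclass : ∀ k ∈ H, ∀ g : G, g * k * g⁻¹ = k ∨ g * k * g⁻¹ = k⁻¹ := by
    intro k hk g
    by_cases hgH : g ∈ H
    · left; rw [hab g hgH k hk, mul_assoc, mul_inv_cancel, mul_one]
    · right
      have hug : u * g ∈ H := (Subgroup.mul_mem_iff_of_index_two hidx).mpr (iff_of_false huH hgH)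
      have e1 : g * k * g⁻¹ = u⁻¹ * ((u * g) * k * (u * g)⁻¹) * u⁻¹⁻¹ := by group
      rw [e1, hab (u * g) hug k hk, mul_assoc _ _ ((u * g)⁻¹), mul_inv_cancel, mul_one, huinv]
      exact hinv k hk
  have hcube : ∀ k ∈ H, k ^ 3 = 1 := by
    intro k hk
    have h1 : orderOf (k ^ 2) = orderOf k := by
      apply Nat.Coprime.orderOf_pow
      exact Nat.coprime_two_right.mpr (hoddH k hk)
    obtain ⟨g, hg⟩ := isConj_iff.mp (h k (k ^ 2) h1.symm)
    rcases hclass k hk g with h2 | h2
    · rw [h2] at hg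
      have h3 : k = 1 := by
        have e1 : k * 1 = k * k := by rw [mul_one, ← pow_two]; exact hg
        exact (mul_left_cancel e1).symm
      rw [h3, one_pow]
    · rw [h2] at hg
      rw [pow_succ, ← hg, inv_mul_cancel]
  by_cases hHbot : H = ⊥
  · left
    have h1 := Subgroup.card_mul_index H
    rw [hidx, hHbot, Subgroup.card_bot] at h1
    omega
  · right
    obtain ⟨⟨k, hkH⟩, hk1⟩ := Subgroup.ne_bot_iff_exists_ne_one.mp hHbot
    have hk1' : k ≠ 1 := fun h => hk1 (Subtype.ext h)
    have : Fact (Nat.Prime 3) := ⟨Nat.prime_three⟩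
    have hok : orderOf k = 3 := orderOf_eq_prime (hcube k hkH) hk1'
    have hmemH : ∀ k' ∈ H, k' = 1 ∨ k' = k ∨ k' = k⁻¹ := by
      intro k' hk'
      by_cases h1 : k' = 1
      · left; exact h1
      · right
        have hok' : orderOf k' = 3 := orderOf_eq_prime (hcube k' hk') h1
        obtain ⟨g, hg⟩ := isConj_iff.mp (h k k' (by rw [hok, hok']))
        rcases hclass k hkH g with h2 | h2
        · left; rw [← hg, h2]
        · right; rw [← hg, h2]
    classical
    have hcardH : Nat.card H = 3 := by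
      have hle : Nat.card H ≤ 3 := by
        let S : Finset G := {1, k, k⁻¹}
        have hHS : (H : Set G) ⊆ (S : Set G) := by
          intro x hx
          have := hmemH x hx
          simp only [S, Finset.coe_insert, Finset.coe_singleton, Set.mem_insert_iff,
            Set.mem_singleton_iff]
          exact this
        have e1 : Nat.card H = (H : Set G).ncard := (Nat.card_coe_set_eq (H : Set G))
        rw [e1]
        calc (H : Set G).ncard ≤ (S : Set G).ncard := Set.ncard_le_ncard hHS S.finite_toSet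
          _ = S.card := Set.ncard_coe_finset S
          _ ≤ 3 := Finset.card_le_three
      have hdvd : 3 ∣ Nat.card H := by
        have := orderOf_dvd_natCard (⟨k, hkH⟩ : H)
        rwa [Subgroup.orderOf_mk, hok] at this
      have := Nat.le_of_dvd Nat.card_pos hdvd
      omega
    have hcardG : Nat.card G = 6 := by
      have h1 := Subgroup.card_mul_index H
      rw [hidx, hcardH] at h1
      omega
    have : Fact (Nat.Prime 2) := ⟨Nat.prime_two⟩
    have hou : orderOf u = 2 := orderOf_eq_prime (by rw [pow_two]; exact hu_sq) hu1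
    have hKmem : ∀ x ∈ Subgroup.zpowers u, x = 1 ∨ x = u := by
      intro x hx
      rw [Subgroup.mem_zpowers_iff] at hx
      obtain ⟨n, rfl⟩ := hx
      rw [← zpow_mod_orderOf, hou]
      rcases Int.emod_two_eq_zero_or_one n with h0 | h1
      · left; rw [show (n % ((2 : ℕ) : ℤ)) = 0 from h0, zpow_zero]
      · right; rw [show (n % ((2 : ℕ) : ℤ)) = 1 from h1, zpow_one]
    apply nonempty_mulEquiv_perm_fin_three hcardG (Subgroup.zpowers u)
      (by rw [Nat.card_zpowers, hou])
    rw [eq_bot_iff]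
    intro x hx
    rw [Subgroup.mem_bot]
    have hxK : x ∈ Subgroup.zpowers u := Subgroup.normalCore_le _ hx
    rcases hKmem x hxK with h1 | h1
    · exact h1
    · exfalso
      subst h1
      have h2 : k * x * k⁻¹ ∈ Subgroup.zpowers x := hx k
      rcases hKmem _ h2 with h3 | h3
      · apply hu1
        have e1 : x = k⁻¹ * (k * x * k⁻¹) * k := by group
        rw [e1, h3]; group
      · have h4 : k * x = x * k := by
          have e1 : k * x = (k * x * k⁻¹) * k := by group
          rw [e1, h3]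
        have h5 := hinv k hkH
        rw [← h4, mul_assoc, mul_inv_cancel, mul_one] at h5
        apply hk1'
        have h6 := hcube k hkH
        have h7 : k * k = 1 := by nth_rewrite 1 [h5]; exact inv_mul_cancel k
        rw [pow_succ, pow_two, h7, one_mul] at h6
        exact h6

end Cfsg.Agent.S4062
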