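import Cfsg.Statements.S4065
import Cfsg.Agent.Lib.Helper14.SL2DegSet
import Cfsg.Agent.Lib.Helper14.GL2Cent

set_option autoImplicit false
open Cfsg

namespace Cfsg.Agent.S4065

open Matrix Cfsg.Agent.Lib.Helper14

/-- In a group whose non-identity elements have commutative centralizers, every element
centralizer is a TI-subset. -/
theorem ti_of_CA {G : Type*} [Group G]
    (hCA : ∀ a : G, a ≠ 1 → ∀ x y : G, x * a = a * x → y * a = a * y → x * y = y * x) (a : G) :
    Cfsg.IsTISubset (Subgroup.centralizer ({a} : Set G) : Set G) := by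
  intro g hg x hx hgx
  by_contra hx1
  apply hg
  have hmem : ∀ b h : G, h ∈ Subgroup.centralizer ({b} : Set G) ↔ h * b = b * h := by
    intro b h
    rw [Subgroup.mem_centralizer_iff]
    constructor
    · intro H
      exact (H b rfl).symm
    · intro H c hc
      rw [Set.mem_singleton_iff] at hc
      rw [hc]
      exact H.symm
  by_cases ha : a = 1
  · subst ha
    rw [Subgroup.mem_normalizer_iff]
    intro h
    simp only [SetLike.mem_coe, hmem, mul_one, one_mul]
  · -- key: for `u ≠ 1` in `C(a)`, `C(a) = C(u)`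
    have key : ∀ u : G, u ≠ 1 → u * a = a * u → ∀ h : G, h * a = a * h ↔ h * u = u * h := by
      intro u hu hua h
      constructor
      · intro hha
        exact hCA a ha h u hha hua
      · intro hhu
        exact hCA u hu h a hhu hua.symm
    have hxa : x * a = a * x := (hmem a x).mp hx
    have hya : g * x * g⁻¹ * a = a * (g * x * g⁻¹) := (hmem a _).mp hgx
    have hy1 : g * x * g⁻¹ ≠ 1 := by
      intro h
      apply hx1
      have : x = g⁻¹ * (g * x * g⁻¹) * g := by group
      rw [this, h]; group
    rw [Subgroup.mem_normalizer_iff]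
    intro h
    simp only [SetLike.mem_coe, hmem]
    rw [key x hx1 hxa h, key (g * x * g⁻¹) hy1 hya (g * h * g⁻¹)]
    constructor
    · intro H
      calc g * h * g⁻¹ * (g * x * g⁻¹) = g * (h * x) * g⁻¹ := by group
        _ = g * (x * h) * g⁻¹ := by rw [H]
        _ = g * x * g⁻¹ * (g * h * g⁻¹) := by group
    · intro H
      have : g⁻¹ * (g * h * g⁻¹ * (g * x * g⁻¹)) * g = g⁻¹ * (g * x * g⁻¹ * (g * h * g⁻¹)) * g := by
        rw [H]
      calc h * x = g⁻¹ * (g * h * g⁻¹ * (g * x * g⁻¹)) * g := by group
        _ = g⁻¹ * (g * x * g⁻¹ * (g * h * g⁻¹)) * g := this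
        _ = x * h := by group

/-- Centralizers of non-identity elements of `SL₂` in characteristic 2 are commutative. -/
theorem ca_SL2 {F : Type*} [Field F] [Fintype F] [CharP F 2]
    (a : SpecialLinearGroup (Fin 2) F) (ha : a ≠ 1) (x y : SpecialLinearGroup (Fin 2) F)
    (hx : x * a = a * x) (hy : y * a = a * y) : x * y = y * x := by
  have hns : ¬ IsScalar2 (a : Matrix (Fin 2) (Fin 2) F) := by
    intro hs
    apply ha
    have hc : a ∈ Subgroup.center (SpecialLinearGroup (Fin 2) F) := by
      rw [Matrix.SpecialLinearGroup.mem_center_iff]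
      refine ⟨(a : Matrix (Fin 2) (Fin 2) F) 0 0, ?_, ?_⟩
      · have hd := a.det_coe
        rw [Matrix.det_fin_two, hs.1, hs.2.1, ← hs.2.2] at hd
        rw [Fintype.card_fin]
        linear_combination hd
      · apply mat2_ext
        · simp
        · simp [hs.1]
        · simp [hs.2.1]
        · simp [hs.2.2]
    rw [center_SL2_eq_bot, Subgroup.mem_bot] at hc
    exact hc
  have hx' : (x : Matrix (Fin 2) (Fin 2) F) * a = (a : Matrix (Fin 2) (Fin 2) F) * x :=
    congrArg Subtype.val hx
  have hy' : (y : Matrix (Fin 2) (Fin 2) F) * a = (a : Matrix (Fin 2) (Fin 2) F) * y :=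
    congrArg Subtype.val hy
  obtain ⟨p, q, hpq⟩ := exists_eq_add_smul_of_commute _ _ hns hx'
  obtain ⟨p', q', hpq'⟩ := exists_eq_add_smul_of_commute _ _ hns hy'
  apply Subtype.ext
  show (x : Matrix (Fin 2) (Fin 2) F) * y = (y : Matrix (Fin 2) (Fin 2) F) * x
  rw [hpq, hpq']
  have h1 : Commute (a : Matrix (Fin 2) (Fin 2) F)
      (p' • (1 : Matrix (Fin 2) (Fin 2) F) + q' • (a : Matrix (Fin 2) (Fin 2) F)) :=
    Commute.add_right (Commute.smul_right (Commute.one_right _) p')
      (Commute.smul_right (Commute.refl _) q')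
  exact Commute.add_left (Commute.smul_left (Commute.one_left _) p) (Commute.smul_left h1 q)

/-- Let F be a finite field with 2ⁿ elements, n ≥ 2. In PSL₂(F) the centralizer of every element meets each of its conjugates by elements outside its normalizer trivially. -/
theorem result (n : ℕ) (hn : 2 ≤ n)
    (x : Matrix.ProjectiveSpecialLinearGroup (Fin 2) (GaloisField 2 n)) :
    Cfsg.IsTISubset (Subgroup.centralizer ({x} : Set (Matrix.ProjectiveSpecialLinearGroup (Fin 2) (GaloisField 2 n))) :
      Set (Matrix.ProjectiveSpecialLinearGroup (Fin 2) (GaloisField 2 n))) := by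
  have : Fintype (GaloisField 2 n) := Fintype.ofFinite _
  let e : Matrix.ProjectiveSpecialLinearGroup (Fin 2) (GaloisField 2 n) ≃*
      SpecialLinearGroup (Fin 2) (GaloisField 2 n) :=
    (QuotientGroup.quotientMulEquivOfEq center_SL2_eq_bot).trans QuotientGroup.quotientBot
  apply ti_of_CA
  intro a ha u v hu hv
  apply e.injective
  rw [map_mul, map_mul]
  apply ca_SL2 (e a)
  · intro h
    apply ha
    apply e.injective
    rw [h, map_one]
  · rw [← map_mul, ← map_mul, hu]
  · rw [← map_mul, ← map_mul, hv]

end Cfsg.Agent.S4065
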