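import Cfsg.Statements.S4066
import Mathlib

set_option autoImplicit false
open Cfsg

namespace Cfsg.Agent.S4066

open scoped Pointwise

/-- A subgroup generated by pairwise commuting `p`-elements is a `p`-group. -/
theorem isPGroup_closure_of_comm {G : Type*} [Group G] (p : ℕ) (S : Set G)
    (hcomm : ∀ x ∈ S, ∀ y ∈ S, x * y = y * x) (hS : ∀ x ∈ S, ∃ k : ℕ, x ^ p ^ k = 1) :
    IsPGroup p (Subgroup.closure S) := by
  have hcm := Subgroup.isMulCommutative_closure hcomm
  have hc : ∀ a b : G, a ∈ Subgroup.closure S → b ∈ Subgroup.closure S → a * b = b * a := by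
    intro a b ha hb
    have := (isMulCommutative_iff.mp hcm) (⟨a, ha⟩ : Subgroup.closure S) ⟨b, hb⟩
    exact congrArg Subtype.val this
  rintro ⟨a, ha⟩
  have : ∃ k : ℕ, a ^ p ^ k = 1 := by
    induction ha using Subgroup.closure_induction with
    | mem x hx => exact hS x hx
    | one => exact ⟨0, by simp⟩
    | mul x y hx hy ihx ihy =>
      obtain ⟨k, hk⟩ := ihx
      obtain ⟨l, hl⟩ := ihy
      refine ⟨k + l, ?_⟩
      have hxy : Commute x y := hc x y hx hy
      rw [hxy.mul_pow, pow_add, pow_mul, hk, one_pow, one_mul, mul_comm (p ^ k), pow_mul, hl, one_pow]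
    | inv x hx ih =>
      obtain ⟨k, hk⟩ := ih
      exact ⟨k, by rw [inv_pow, hk, inv_one]⟩
  obtain ⟨k, hk⟩ := this
  exact ⟨k, Subtype.ext (by simpa using hk)⟩

theorem result {G : Type*} [Group G] [Finite G] (hTI : ∀ x : G, Cfsg.IsTISubset (Subgroup.centralizer ({x} : Set G) : Set G))
    {p : ℕ} [Fact p.Prime] (P Q : Sylow p G) (hPQ : P ≠ Q) : (P : Subgroup G) ⊓ (Q : Subgroup G) = ⊥ := by
  by_contra hne
  obtain ⟨y, hyPQ, hy1⟩ := (((P : Subgroup G) ⊓ (Q : Subgroup G)).bot_or_exists_ne_one).resolve_left hne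
  have hyP : y ∈ (P : Subgroup G) := hyPQ.1
  have hyQ : y ∈ (Q : Subgroup G) := hyPQ.2
  -- nontrivial central element of P
  haveI : Nontrivial (P : Subgroup G) := ⟨⟨⟨y, hyP⟩, 1, fun h => hy1 (congrArg Subtype.val h)⟩⟩
  haveI := IsPGroup.center_nontrivial P.2
  obtain ⟨⟨z, hz⟩, hz1⟩ := exists_ne (1 : Subgroup.center (P : Subgroup G))
  have hz1 : (z : G) ≠ 1 := fun h => hz1 (Subtype.ext (Subtype.ext h))
  set z0 : G := (z : G) with hz0
  have hPM : (P : Subgroup G) ≤ Subgroup.centralizer ({z0} : Set G) := by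
    intro s hs
    rw [Subgroup.mem_centralizer_iff]
    intro h hh
    rw [Set.mem_singleton_iff] at hh
    subst hh
    have := (Subgroup.mem_center_iff.mp hz) ⟨s, hs⟩
    exact (congrArg Subtype.val this).symm
  -- conjugating element
  obtain ⟨g, hg⟩ := MulAction.exists_smul_eq G P Q
  have hQ : ∀ q : G, q ∈ (Q : Subgroup G) ↔ ∃ s ∈ (P : Subgroup G), g * s * g⁻¹ = q := by
    intro q
    rw [← hg, Sylow.coe_subgroup_smul, Subgroup.mem_smul_pointwise_iff_exists]
    simp only [MulAut.smul_def, MulAut.conj_apply]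
  -- g normalizes M = C(z0)
  have hgN : g ∈ Subgroup.normalizer (Subgroup.centralizer ({z0} : Set G) : Set G) := by
    by_contra hgN
    obtain ⟨s, hs, hsy⟩ := (hQ y).mp hyQ
    have := hTI z0 g hgN s (hPM hs) (by rw [hsy]; exact hPM hyP)
    rw [this] at hsy
    apply hy1
    rw [← hsy]; group
  have hQM : (Q : Subgroup G) ≤ Subgroup.centralizer ({z0} : Set G) := by
    intro q hq
    obtain ⟨s, hs, rfl⟩ := (hQ q).mp hq
    exact (Subgroup.mem_set_normalizer_iff.mp hgN s).mp (hPM hs)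
  -- key commutation
  have hkey : ∀ x ∈ (Q : Subgroup G), ∀ m ∈ Subgroup.centralizer ({z0} : Set G),
      (m * x * m⁻¹) * x = x * (m * x * m⁻¹) := by
    intro x hx m hm
    have hz0x : z0 ∈ Subgroup.centralizer ({x} : Set G) := by
      rw [Subgroup.mem_centralizer_iff]
      intro h hh
      rw [Set.mem_singleton_iff] at hh
      subst hh
      have := hQM hx
      rw [Subgroup.mem_centralizer_iff] at this
      exact (this z0 rfl).symm
    have hmN : m ∈ Subgroup.normalizer (Subgroup.centralizer ({x} : Set G) : Set G) := by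
      by_contra hmN
      have hmz : m * z0 * m⁻¹ = z0 := by
        rw [Subgroup.mem_centralizer_iff] at hm
        rw [← hm z0 rfl]; group
      exact hz1 (hTI x m hmN z0 hz0x (by rw [hmz]; exact hz0x))
    have hxx : x ∈ Subgroup.centralizer ({x} : Set G) := by
      rw [Subgroup.mem_centralizer_iff]
      intro h hh
      rw [Set.mem_singleton_iff] at hh
      subst hh; rfl
    have := (Subgroup.mem_set_normalizer_iff.mp hmN x).mp hxx
    rw [SetLike.mem_coe, Subgroup.mem_centralizer_iff] at this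
    exact (this x rfl).symm
  -- Q ≤ P
  have hQP : (Q : Subgroup G) ≤ (P : Subgroup G) := by
    intro x hx
    let S : Set G := {w | ∃ a ∈ (P : Subgroup G), w = a * x * a⁻¹}
    have hScomm : ∀ u ∈ S, ∀ v ∈ S, u * v = v * u := by
      rintro _ ⟨a, ha, rfl⟩ _ ⟨b, hb, rfl⟩
      have hm : a⁻¹ * b ∈ Subgroup.centralizer ({z0} : Set G) :=
        hPM (Subgroup.mul_mem _ (Subgroup.inv_mem _ ha) hb)
      have h1 := hkey x hx (a⁻¹ * b) hm
      have e1 : a * x * a⁻¹ * (b * x * b⁻¹) = a * (x * ((a⁻¹ * b) * x * (a⁻¹ * b)⁻¹)) * a⁻¹ := by group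
      have e2 : b * x * b⁻¹ * (a * x * a⁻¹) = a * (((a⁻¹ * b) * x * (a⁻¹ * b)⁻¹) * x) * a⁻¹ := by group
      rw [e1, e2, h1]
    have hSp : ∀ u ∈ S, ∃ k : ℕ, u ^ p ^ k = 1 := by
      rintro _ ⟨a, ha, rfl⟩
      obtain ⟨k, hk⟩ := Q.2 ⟨x, hx⟩
      have hk' : x ^ p ^ k = 1 := by simpa using congrArg Subtype.val hk
      exact ⟨k, by rw [conj_pow, hk']; group⟩
    have hA : IsPGroup p (Subgroup.closure S) := isPGroup_closure_of_comm p S hScomm hSp
    have hPN : (P : Subgroup G) ≤ Subgroup.normalizer (Subgroup.closure S) := by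
      rw [Subgroup.le_normalizer_closure_iff]
      rintro h hh _ ⟨a, ha, rfl⟩
      apply Subgroup.subset_closure
      exact ⟨h * a, Subgroup.mul_mem _ hh ha, by group⟩
    have hsup : IsPGroup p ((P : Subgroup G) ⊔ Subgroup.closure S : Subgroup G) :=
      P.2.to_sup_of_normal_right' hA hPN
    have := P.is_maximal' hsup le_sup_left
    have hAP : Subgroup.closure S ≤ (P : Subgroup G) := by
      rw [← this]; exact le_sup_right
    apply hAP
    apply Subgroup.subset_closure
    exact ⟨1, Subgroup.one_mem _, by group⟩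
  exact hPQ (Sylow.ext (Q.is_maximal' P.2 hQP))

end Cfsg.Agent.S4066
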