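import Mathlib
import Cfsg.Statements.S4067
import Cfsg.Agent.Lib.Helper18.S4067E
import Cfsg.Agent.Lib.Helper18.S4067B
import Cfsg.Agent.Lib.Helper16.S4067FOC
import Cfsg.Agent.Lib.Helper16.S4067FOD
import Cfsg.Agent.Lib.Helper25.S4067FOA

set_option autoImplicit false
open Cfsg

namespace Cfsg.Agent.S4067

open Cfsg.Agent.Lib.Helper16.S4067C Cfsg.Agent.Lib.Helper16.S4067D Cfsg.Agent.Lib.Helper18.S4067B

section basics
variable {G : Type*} [Group G]

/-- `Aut`-orbits are unions of conjugacy classes. -/
theorem card_orbits_le [Finite G] :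
    Nat.card (MulAction.orbitRel.Quotient (MulAut G) G) ≤ Nat.card (ConjClasses G) := by
  classical
  let f : ConjClasses G → MulAction.orbitRel.Quotient (MulAut G) G :=
    Quotient.lift (fun x => (Quotient.mk'' x : MulAction.orbitRel.Quotient (MulAut G) G)) (by
      intro a b hab
      have hab' : IsConj a b := hab
      obtain ⟨g, hg⟩ := isConj_iff.mp hab'
      apply Quotient.sound
      change a ∈ MulAction.orbit (MulAut G) b
      refine ⟨MulAut.conj g⁻¹, ?_⟩
      change (MulAut.conj g⁻¹) b = a
      rw [MulAut.conj_apply, ← hg]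
      group)
  have hf : Function.Surjective f := by
    intro q
    induction q using Quotient.inductionOn with
    | h x => exact ⟨ConjClasses.mk x, rfl⟩
  exact Nat.card_le_card_of_surjective f hf

variable (c : G) (hcZ : c ∈ Subgroup.center G)
  (hcomm : ∀ a b : G, a * b * a⁻¹ * b⁻¹ ∈ Subgroup.zpowers c)

include hcZ hcomm in
theorem comm_central (a b : G) : a * b * a⁻¹ * b⁻¹ ∈ Subgroup.center G :=
  (Subgroup.zpowers_le.mpr hcZ) (hcomm a b)

/-- The commutator homomorphism `g ↦ g t g⁻¹ t⁻¹`. -/
noncomputable def kap (t : G) : G →* G :=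
  MonoidHom.mk' (fun g => g * t * g⁻¹ * t⁻¹) (by
    intro a b
    have h1 := comm_central c hcZ hcomm b t
    have h2 := Subgroup.mem_center_iff.mp h1
    -- (ab) t (ab)⁻¹ t⁻¹ = a (b t b⁻¹ t⁻¹) t a⁻¹ t⁻¹ = (a t a⁻¹ t⁻¹)(b t b⁻¹ t⁻¹)
    calc a * b * t * (a * b)⁻¹ * t⁻¹ = a * (b * t * b⁻¹ * t⁻¹) * t * a⁻¹ * t⁻¹ := by group
      _ = (b * t * b⁻¹ * t⁻¹) * a * t * a⁻¹ * t⁻¹ := by rw [h2 a]
      _ = (b * t * b⁻¹ * t⁻¹) * (a * t * a⁻¹ * t⁻¹) := by group
      _ = (a * t * a⁻¹ * t⁻¹) * (b * t * b⁻¹ * t⁻¹) := by rw [h2 (a * t * a⁻¹ * t⁻¹)])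

theorem kap_apply (t g : G) : kap c hcZ hcomm t g = g * t * g⁻¹ * t⁻¹ := rfl

theorem ker_kap (t : G) : (kap c hcZ hcomm t).ker = Subgroup.centralizer {t} := by
  ext g
  rw [MonoidHom.mem_ker, kap_apply, Subgroup.mem_centralizer_iff]
  constructor
  · intro h x hx
    rw [Set.mem_singleton_iff] at hx
    subst hx
    have : g * x = x * g := by
      have h2 : g * x * g⁻¹ * x⁻¹ * x * g = x * g := by rw [h]; group
      rw [← h2]; group
    exact this.symm
  · intro h
    have h1 := h t rfl
    calc g * t * g⁻¹ * t⁻¹ = (t * g) * g⁻¹ * t⁻¹ := by rw [h1]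
      _ = 1 := by group

theorem range_kap_le (t : G) : (kap c hcZ hcomm t).range ≤ Subgroup.zpowers c := by
  rintro _ ⟨g, rfl⟩
  exact hcomm g t

variable [Finite G] (p : ℕ) (hp : p.Prime) (hc : orderOf c = p)

include hp hc in
theorem range_kap_eq (t : G) (ht : t ∉ Subgroup.center G) :
    (kap c hcZ hcomm t).range = Subgroup.zpowers c := by
  have hle := range_kap_le c hcZ hcomm t
  have hcard : Nat.card (Subgroup.zpowers c) = p := by rw [Nat.card_zpowers, hc]
  have hdvd : Nat.card (kap c hcZ hcomm t).range ∣ p := by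
    rw [← hcard]; exact Subgroup.card_dvd_of_le hle
  have hne : Nat.card (kap c hcZ hcomm t).range ≠ 1 := by
    intro h1
    have hbot : (kap c hcZ hcomm t).range = ⊥ := Subgroup.card_eq_one.mp h1
    apply ht
    rw [Subgroup.mem_center_iff]
    intro g
    have hg : kap c hcZ hcomm t g ∈ (kap c hcZ hcomm t).range := ⟨g, rfl⟩
    rw [hbot, Subgroup.mem_bot, kap_apply] at hg
    have : g * t = t * g := by
      have h2 : g * t * g⁻¹ * t⁻¹ * t * g = t * g := by rw [hg]; group
      rw [← h2]; group
    exact this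
  have hcp : Nat.card (kap c hcZ hcomm t).range = p := by
    rcases (Nat.dvd_prime hp).mp hdvd with h | h
    · exact absurd h hne
    · exact h
  exact Subgroup.eq_of_le_of_card_ge hle (by rw [hcard, hcp])

include hcZ hcomm hp hc in
theorem index_centralizer (t : G) (ht : t ∉ Subgroup.center G) :
    (Subgroup.centralizer {t}).index = p := by
  rw [← ker_kap c hcZ hcomm t, Subgroup.index_ker, range_kap_eq c hcZ hcomm p hp hc t ht,
    Nat.card_zpowers, hc]

include hcZ hcomm hp hc in
theorem exists_conj (t : G) (ht : t ∉ Subgroup.center G) (k : G) (hk : k ∈ Subgroup.zpowers c) :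
    ∃ g : G, g * t * g⁻¹ = k * t := by
  rw [← range_kap_eq c hcZ hcomm p hp hc t ht] at hk
  obtain ⟨g, hg⟩ := hk
  refine ⟨g, ?_⟩
  rw [← hg, kap_apply]
  group

include hcZ hcomm hp hc in
/-- The index of the centre is at least `p²` when `p` is the least prime divisor. -/
theorem sq_le_index_center (hmin : p = (Nat.card G).minFac) (t₀ : G) (ht₀ : t₀ ∉ Subgroup.center G) :
    p ^ 2 ≤ (Subgroup.center G).index := by
  have hle : Subgroup.center G ≤ Subgroup.centralizer {t₀} := Subgroup.center_le_centralizer _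
  have h1 := Subgroup.relIndex_mul_index hle
  rw [index_centralizer c hcZ hcomm p hp hc t₀ ht₀] at h1
  have hne : (Subgroup.center G).relIndex (Subgroup.centralizer {t₀}) ≠ 1 := by
    intro h
    rw [Subgroup.relIndex_eq_one] at h
    apply ht₀
    apply h
    rw [Subgroup.mem_centralizer_iff]
    intro x hx
    rw [Set.mem_singleton_iff] at hx
    rw [hx]
  have hdvd : (Subgroup.center G).relIndex (Subgroup.centralizer {t₀}) ∣ Nat.card G :=
    (Dvd.intro _ h1).trans (Subgroup.index_dvd_card _)
  have hne0 : (Subgroup.center G).relIndex (Subgroup.centralizer {t₀}) ≠ 0 := by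
    intro h0
    rw [h0] at hdvd
    exact Nat.card_pos.ne' (Nat.eq_zero_of_zero_dvd hdvd)
  have hge : p ≤ (Subgroup.center G).relIndex (Subgroup.centralizer {t₀}) := by
    rw [hmin]
    exact Nat.minFac_le_of_dvd (by omega) hdvd
  rw [← h1, pow_two]
  exact Nat.mul_le_mul_right p hge

theorem mem_zpowers_two {k : G} (hc2 : orderOf c = 2) (hk : k ∈ Subgroup.zpowers c) :
    k = 1 ∨ k = c := by
  obtain ⟨n, rfl⟩ := Subgroup.mem_zpowers_iff.mp hk
  rw [← zpow_mod_orderOf, hc2]
  rcases Int.emod_two_eq_zero_or_one n with h | h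
  · left; rw [show n % ((2 : ℕ) : ℤ) = 0 from h, zpow_zero]
  · right; rw [show n % ((2 : ℕ) : ℤ) = 1 from h, zpow_one]

include hcZ hcomm hp hc in
theorem exists_data (hmin : p = (Nat.card G).minFac) (t₀ : G) (ht₀ : t₀ ∉ Subgroup.center G) :
    ∃ y t : G, y ∉ Subgroup.zpowers c ∧ t ∉ Subgroup.center G ∧ y ∈ Subgroup.centralizer {t} ∧
      (∀ n ∈ Subgroup.centralizer {t}, n * y = y * n) ∧
      ∀ x : G, x ∉ Subgroup.centralizer {t} → (x * y) ^ p = x ^ p := by
  have hidx := sq_le_index_center c hcZ hcomm p hp hc hmin t₀ ht₀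
  have hcp : c ^ p = 1 := by rw [← hc]; exact pow_orderOf_eq_one c
  have hzle : Subgroup.zpowers c ≤ Subgroup.center G := Subgroup.zpowers_le.mpr hcZ
  -- two ways of choosing `t`
  have key_central : ∀ y : G, y ∈ Subgroup.center G → y ∈ Subgroup.centralizer {t₀} ∧
      (∀ n ∈ Subgroup.centralizer {t₀}, n * y = y * n) := by
    intro y hy
    refine ⟨Subgroup.center_le_centralizer _ hy, ?_⟩
    intro n _
    exact Subgroup.mem_center_iff.mp hy n
  have key_self : ∀ y : G, y ∈ Subgroup.centralizer {y} ∧
      (∀ n ∈ Subgroup.centralizer {y}, n * y = y * n) := by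
    intro y
    refine ⟨?_, ?_⟩
    · rw [Subgroup.mem_centralizer_iff]
      intro h hh
      rw [Set.mem_singleton_iff] at hh
      rw [hh]
    · intro n hn
      rw [Subgroup.mem_centralizer_iff] at hn
      exact (hn y rfl).symm
  by_cases h2 : p = 2
  · subst h2
    have hcomm' : ∀ a b : G, a * b * a⁻¹ * b⁻¹ = 1 ∨ a * b * a⁻¹ * b⁻¹ = c :=
      fun a b => mem_zpowers_two c hc (hcomm a b)
    have hna' : ∃ a b : G, a * b * a⁻¹ * b⁻¹ ≠ 1 := by
      by_contra hcon
      push Not at hcon
      apply ht₀
      rw [Subgroup.mem_center_iff]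
      intro g
      have hg := hcon g t₀
      have h2 : g * t₀ * g⁻¹ * t₀⁻¹ * t₀ * g = t₀ * g := by rw [hg]; group
      rw [← h2]; group
    have hidx4 : 4 ≤ (Subgroup.center G).index := by norm_num at hidx; exact hidx
    have hcc : c * c = 1 := by rw [← pow_two]; exact hcp
    rcases FOD_exists_two c hc hcZ hcomm' hna' hidx4 with ⟨y, hyZ, hy2, hy1, hyc⟩ | ⟨y, hyZ, hy2⟩
    · refine ⟨y, t₀, ?_, ht₀, (key_central y hyZ).1, (key_central y hyZ).2, ?_⟩
      · intro hmem
        rcases mem_zpowers_two c hc hmem with h | h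
        · exact hy1 h
        · exact hyc h
      · intro x _
        have hcm : Commute x y := (Subgroup.mem_center_iff.mp hyZ x)
        rw [hcm.mul_pow, hy2, mul_one]
    · refine ⟨y, y, fun hmem => hyZ (hzle hmem), hyZ, (key_self y).1, (key_self y).2, ?_⟩
      intro x hx
      have hxy : x * y * x⁻¹ * y⁻¹ = c := by
        rcases hcomm' x y with h | h
        · exfalso
          apply hx
          rw [Subgroup.mem_centralizer_iff]
          intro z hz
          rw [Set.mem_singleton_iff] at hz
          subst hz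
          have h2 : x * z * x⁻¹ * z⁻¹ * z * x = z * x := by rw [h]; group
          rw [← h2]; group
        · exact h
      have hcx : ∀ g : G, g * c = c * g := Subgroup.mem_center_iff.mp hcZ
      have hyx : y * x = c * (x * y) := by
        have h1 : x * y = c * (y * x) := by rw [← hxy]; group
        rw [h1, ← mul_assoc, hcc, one_mul]
      calc (x * y) ^ 2 = x * (y * x) * y := by rw [pow_two]; group
        _ = x * (c * (x * y)) * y := by rw [hyx]
        _ = (x * c) * x * (y * y) := by group
        _ = c * x * x * (y ^ 2) := by rw [hcx x, pow_two]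
        _ = c * x * x * c := by rw [hy2]
        _ = c * (x * x * c) := by group
        _ = c * (c * (x * x)) := by rw [hcx (x * x)]
        _ = (c * c) * x ^ 2 := by rw [pow_two]; group
        _ = x ^ 2 := by rw [hcc, one_mul]
  · obtain ⟨y, hy, hpow⟩ := FOC_exists_odd p hp h2 c hcp hcZ hcomm hidx
    by_cases hyZ : y ∈ Subgroup.center G
    · exact ⟨y, t₀, hy, ht₀, (key_central y hyZ).1, (key_central y hyZ).2, fun x _ => hpow x⟩
    · exact ⟨y, y, hy, hyZ, (key_self y).1, (key_self y).2, fun x _ => hpow x⟩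

end basics

section main
variable {G : Type*} [Group G] [Finite G]

theorem main_of_structure (hna : ¬ IsMulCommutative G) (c : G)
    (hc : orderOf c = (Nat.card G).minFac) (hcZ : c ∈ Subgroup.center G)
    (hcomm : ∀ a b : G, a * b * a⁻¹ * b⁻¹ ∈ Subgroup.zpowers c) :
    Nat.card (MulAction.orbitRel.Quotient (MulAut G) G) ≤ Nat.card G / (Nat.card G).minFac := by
  classical
  set p := (Nat.card G).minFac with hpdef
  obtain ⟨t₀, ht₀⟩ : ∃ t₀ : G, t₀ ∉ Subgroup.center G := by
    by_contra hcon
    push Not at hcon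
    apply hna
    exact ⟨⟨fun a b => (Subgroup.mem_center_iff.mp (hcon b) a)⟩⟩
  have hg1 : Nat.card G ≠ 1 := by
    intro h1
    have hs : Subsingleton G := (Nat.card_eq_one_iff_unique.mp h1).1
    exact ht₀ (by rw [Subsingleton.elim t₀ 1]; exact one_mem _)
  have hp : p.Prime := Nat.minFac_prime hg1
  obtain ⟨y, t, hyc, htZ, hyN, hyC, hpow⟩ := exists_data c hcZ hcomm p hp hc hpdef t₀ ht₀
  set N := Subgroup.centralizer ({t} : Set G) with hN
  have hNidx : N.index = p := index_centralizer c hcZ hcomm p hp hc t htZ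
  have hNnormal : N.Normal := by
    rw [hN, ← ker_kap c hcZ hcomm t]; exact MonoidHom.normal_ker _
  have hZN : Subgroup.center G ≤ N := Subgroup.center_le_centralizer _
  have hzle : Subgroup.zpowers c ≤ Subgroup.center G := Subgroup.zpowers_le.mpr hcZ
  -- automorphisms
  have haut : ∀ x : G, x ∉ N → x * y ∈ MulAction.orbit (MulAut G) x := by
    intro x hx
    obtain ⟨τ, hτ, _⟩ := FOB_exists_aut N p hp hNidx x y hx hyN hyC (hpow x hx)
    exact ⟨τ, hτ⟩
  have hconj : ∀ x g : G, g * x * g⁻¹ ∈ MulAction.orbit (MulAut G) x :=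
    fun x g => ⟨MulAut.conj g, by change (MulAut.conj g) x = _; rw [MulAut.conj_apply]⟩
  letI : Fintype G := Fintype.ofFinite G
  -- the finset of `⟨c⟩`
  let K : Finset G := Finset.univ.filter (fun k => k ∈ Subgroup.zpowers c)
  have hKcard : K.card = p := by
    have h1 : Nat.card (Subgroup.zpowers c) = p := by rw [Nat.card_zpowers, hc]
    rw [Nat.card_eq_fintype_card, Fintype.card_subtype] at h1
    exact h1
  have hKmem : ∀ k, k ∈ K ↔ k ∈ Subgroup.zpowers c := by
    intro k; simp only [K, Finset.mem_filter, Finset.mem_univ, true_and]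
  let coset : G → Finset G := fun x => K.image (fun k => k * x)
  have hcoset_card : ∀ x, (coset x).card = p := by
    intro x
    rw [Finset.card_image_of_injective _ (mul_left_injective x), hKcard]
  have hcoset_orbit : ∀ x, x ∉ Subgroup.center G → ∀ z ∈ coset x,
      z ∈ MulAction.orbit (MulAut G) x := by
    intro x hx z hz
    obtain ⟨k, hk, rfl⟩ := Finset.mem_image.mp hz
    obtain ⟨g, hg⟩ := exists_conj c hcZ hcomm p hp hc x hx k ((hKmem k).mp hk)
    rw [← hg]
    exact hconj x g
  let W : G → ℕ := fun x => 1 + (if x ∈ N then 1 else 0) +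
    (if x ∈ Subgroup.center G then 2 * p - 2 else 0)
  have hW1 : ∀ x, 1 ≤ W x := fun x => by simp only [W]; omega
  have hW2 : ∀ x, x ∈ N → 2 ≤ W x := fun x hx => by simp only [W, if_pos hx]; omega
  have hW : ∀ x : G, ∃ S : Finset G, (∀ z ∈ S, z ∈ MulAction.orbit (MulAut G) x) ∧
      2 * p ≤ ∑ z ∈ S, W z := by
    intro x
    by_cases hxZ : x ∈ Subgroup.center G
    · refine ⟨{x}, ?_, ?_⟩
      · intro z hz
        rw [Finset.mem_singleton] at hz
        rw [hz]
        exact MulAction.mem_orbit_self x
      · rw [Finset.sum_singleton]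
        simp only [W, if_pos hxZ, if_pos (hZN hxZ)]
        have := hp.two_le
        omega
    · by_cases hxN : x ∈ N
      · refine ⟨coset x, hcoset_orbit x hxZ, ?_⟩
        calc 2 * p = ∑ _z ∈ coset x, 2 := by rw [Finset.sum_const, hcoset_card, smul_eq_mul, mul_comm]
          _ ≤ ∑ z ∈ coset x, W z := by
            apply Finset.sum_le_sum
            intro z hz
            obtain ⟨k, hk, rfl⟩ := Finset.mem_image.mp hz
            exact hW2 _ (N.mul_mem (hZN (hzle ((hKmem k).mp hk))) hxN)
      · have hxyN : x * y ∉ N := fun h => hxN (by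
          have := N.mul_mem h (N.inv_mem hyN)
          simpa using this)
        have hxyZ : x * y ∉ Subgroup.center G := fun h => hxyN (hZN h)
        have hdisj : Disjoint (coset x) (coset (x * y)) := by
          rw [Finset.disjoint_left]
          intro z hz1 hz2
          obtain ⟨k1, hk1, rfl⟩ := Finset.mem_image.mp hz1
          obtain ⟨k2, hk2, hk⟩ := Finset.mem_image.mp hz2
          have hk1' := (hKmem k1).mp hk1
          have hk2' := (hKmem k2).mp hk2
          apply hyc
          -- k2 * (x * y) = k1 * x, so y = x⁻¹ k2⁻¹ k1 x = k2⁻¹ k1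
          have hcen : k2⁻¹ * k1 ∈ Subgroup.center G :=
            (Subgroup.center G).mul_mem ((Subgroup.center G).inv_mem (hzle hk2')) (hzle hk1')
          have hy : y = k2⁻¹ * k1 := by
            have h1 : y = x⁻¹ * (k2⁻¹ * k1) * x := by
              have : k2 * (x * y) = k1 * x := hk
              calc y = x⁻¹ * (k2⁻¹ * (k2 * (x * y))) := by group
                _ = x⁻¹ * (k2⁻¹ * (k1 * x)) := by rw [this]
                _ = x⁻¹ * (k2⁻¹ * k1) * x := by group
            rw [h1, mul_assoc, ← Subgroup.mem_center_iff.mp hcen x]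
            group
          rw [hy]
          exact (Subgroup.zpowers c).mul_mem ((Subgroup.zpowers c).inv_mem hk2') hk1'
        refine ⟨coset x ∪ coset (x * y), ?_, ?_⟩
        · intro z hz
          rcases Finset.mem_union.mp hz with h | h
          · exact hcoset_orbit x hxZ z h
          · have h1 := hcoset_orbit (x * y) hxyZ z h
            have h2 : MulAction.orbit (MulAut G) (x * y) = MulAction.orbit (MulAut G) x :=
              MulAction.orbit_eq_iff.mpr (haut x hxN)
            rw [← h2]
            exact h1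
        · calc 2 * p = ∑ _z ∈ coset x ∪ coset (x * y), 1 := by
                rw [Finset.sum_const, Finset.card_union_of_disjoint hdisj, hcoset_card,
                  hcoset_card, smul_eq_mul, mul_one]
                ring
            _ ≤ ∑ z ∈ coset x ∪ coset (x * y), W z := Finset.sum_le_sum (fun z _ => hW1 z)
  have hmain := Cfsg.Agent.Lib.Helper18.S4067E.FOE_weights (A := MulAut G) W (2 * p) hW
  -- total weight
  have htot : ∑ x, W x = Nat.card G + Nat.card N + (2 * p - 2) * Nat.card (Subgroup.center G) := by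
    simp only [W]
    rw [Finset.sum_add_distrib, Finset.sum_add_distrib]
    congr 1
    · congr 1
      · rw [Finset.sum_const, Finset.card_univ, smul_eq_mul, mul_one, Nat.card_eq_fintype_card]
      · rw [Finset.sum_boole, Nat.card_eq_fintype_card, Fintype.card_subtype]
        simp
    · have : ∀ x : G, (if x ∈ Subgroup.center G then 2 * p - 2 else 0) =
          (2 * p - 2) * (if x ∈ Subgroup.center G then 1 else 0) := by
        intro x; split_ifs <;> simp
      simp_rw [this]
      rw [← Finset.mul_sum, Finset.sum_boole, Nat.card_eq_fintype_card, Fintype.card_subtype]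
      simp
  rw [htot] at hmain
  -- arithmetic
  have hNcard : Nat.card N * p = Nat.card G := by rw [← hNidx]; exact N.card_mul_index
  have hZcard : Nat.card (Subgroup.center G) * (Subgroup.center G).index = Nat.card G :=
    (Subgroup.center G).card_mul_index
  have hidx := sq_le_index_center c hcZ hcomm p hp hc hpdef t₀ ht₀
  have hp2 := hp.two_le
  have hzp : Nat.card (Subgroup.center G) * p ≤ Nat.card N := by
    have h1 : Nat.card (Subgroup.center G) * p * p ≤ Nat.card N * p := by
      rw [hNcard, ← hZcard, mul_assoc, ← pow_two]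
      exact Nat.mul_le_mul_left _ hidx
    exact Nat.le_of_mul_le_mul_right h1 hp.pos
  rw [← hNcard, Nat.mul_div_cancel _ hp.pos]
  -- 2p ω ≤ h p + h + (2p-2) z ≤ 2 p h
  have hfinal : 2 * p * Nat.card (MulAction.orbitRel.Quotient (MulAut G) G) ≤
      2 * p * Nat.card N := by
    refine hmain.trans ?_
    rw [← hNcard]
    have h2 : (2 * p - 2) * Nat.card (Subgroup.center G) ≤ (p - 1) * Nat.card N := by
      have h3 : 2 * Nat.card (Subgroup.center G) ≤ Nat.card N :=
        (Nat.mul_le_mul_right _ hp2).trans (by rw [mul_comm]; exact hzp)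
      have h4 : 2 * p - 2 = (p - 1) * 2 := by omega
      rw [h4, mul_assoc]
      exact Nat.mul_le_mul_left _ h3
    have h5 : Nat.card N * p + Nat.card N + (p - 1) * Nat.card N = 2 * p * Nat.card N := by
      obtain ⟨q, hq⟩ : ∃ q, p = q + 1 := ⟨p - 1, by omega⟩
      rw [hq]
      simp only [Nat.add_sub_cancel]
      ring
    omega
  exact Nat.le_of_mul_le_mul_left hfinal (by positivity)

/-- Let G be a finite non-abelian group and p the least prime dividing its order. Then the automorphism group of G has at most #G/p orbits on G. -/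
theorem result {G : Type*} [Group G] [Finite G] (hna : ¬ IsMulCommutative G) :
    Nat.card (MulAction.orbitRel.Quotient (MulAut G) G) ≤ Nat.card G / (Nat.card G).minFac := by
  by_cases h : Nat.card (ConjClasses G) ≤ Nat.card G / (Nat.card G).minFac
  · exact card_orbits_le.trans h
  · obtain ⟨c, hc, hcZ, hcomm⟩ := Cfsg.Agent.Lib.Helper25.S4067.FOA_bad_structure hna (not_le.mp h)
    exact main_of_structure hna c hc hcZ hcomm

end main

end Cfsg.Agent.S4067
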