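import Cfsg.Statements.S4071
import Cfsg.Agent.Lib.Helper22.PElt
import Cfsg.Agent.Lib.Helper22.Jordan

set_option autoImplicit false
open Cfsg

namespace Cfsg.Agent.S4071

open Cfsg.Agent.Lib.Helper22
open scoped Pointwise commutatorElement

variable {G : Type*} [Group G]

theorem orderOf_conj' (g a : G) : orderOf (g * a * g⁻¹) = orderOf a := by
  have hs : SemiconjBy g a (g * a * g⁻¹) := by rw [SemiconjBy]; group
  exact (hs.orderOf_eq g).symm

theorem isMulCommutative_iff' (H : Subgroup G) :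
    IsMulCommutative H ↔ ∀ a ∈ H, ∀ b ∈ H, a * b = b * a := by
  constructor
  · intro h a ha b hb
    exact congrArg Subtype.val (h.is_comm.comm (⟨a, ha⟩ : ↥H) ⟨b, hb⟩)
  · intro h
    exact ⟨⟨fun a b => Subtype.ext (h a a.2 b b.2)⟩⟩

/-- if `d c d'` satisfy the same "commutator" equation then `d'⁻¹ d` is fixed by `x` -/
theorem fixed_of_eq (x d d' : G) (h : d * (x * d * x⁻¹)⁻¹ = d' * (x * d' * x⁻¹)⁻¹) :
    x * (d'⁻¹ * d) * x⁻¹ = d'⁻¹ * d := by
  calc x * (d'⁻¹ * d) * x⁻¹ = (x * d' * x⁻¹)⁻¹ * (x * d * x⁻¹) := by group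
    _ = d'⁻¹ * (d' * (x * d' * x⁻¹)⁻¹) * (x * d * x⁻¹) := by group
    _ = d'⁻¹ * (d * (x * d * x⁻¹)⁻¹) * (x * d * x⁻¹) := by rw [h]
    _ = d'⁻¹ * d := by group

theorem conj_pow_aux (x c d : G) (hd : x * c * x⁻¹ = d⁻¹ * c) (hfix : x * d * x⁻¹ = d) (j : ℕ) :
    x ^ j * c * (x ^ j)⁻¹ = (d ^ j)⁻¹ * c := by
  induction j with
  | zero => simp
  | succ j ih =>
    have h1 : x * (d ^ j)⁻¹ * x⁻¹ = (d ^ j)⁻¹ := by
      have : x * (d ^ j)⁻¹ * x⁻¹ = ((x * d * x⁻¹) ^ j)⁻¹ := by
        rw [conj_pow]; group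
      rw [this, hfix]
    calc x ^ (j + 1) * c * (x ^ (j + 1))⁻¹ = x * (x ^ j * c * (x ^ j)⁻¹) * x⁻¹ := by
          rw [pow_succ']; group
      _ = x * ((d ^ j)⁻¹ * c) * x⁻¹ := by rw [ih]
      _ = (x * (d ^ j)⁻¹ * x⁻¹) * (x * c * x⁻¹) := by group
      _ = (d ^ j)⁻¹ * (d⁻¹ * c) := by rw [h1, hd]
      _ = (d ^ (j + 1))⁻¹ * c := by rw [pow_succ']; group

/-- key lemma (L): an `x`-fixed value of `c ↦ c (x c x⁻¹)⁻¹` of order prime to `p` is trivial when
`x` is a `p`-element. -/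
theorem fixed_eq_one {p : ℕ} (x c d : G) (k : ℕ) (hx : orderOf x = p ^ k)
    (hd : d = c * (x * c * x⁻¹)⁻¹) (hfix : x * d * x⁻¹ = d) (hcop : (orderOf d).Coprime p) :
    d = 1 := by
  have hd' : x * c * x⁻¹ = d⁻¹ * c := by rw [hd]; group
  have h1 := conj_pow_aux x c d hd' hfix (p ^ k)
  rw [← hx, pow_orderOf_eq_one, one_mul, inv_one, mul_one] at h1
  have h2 : d ^ orderOf x = 1 := by
    have : (d ^ orderOf x)⁻¹ = 1 := by
      have h3 : (d ^ orderOf x)⁻¹ * c = 1 * c := by rw [one_mul]; exact h1.symm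
      exact mul_right_cancel h3
    rwa [inv_eq_one] at this
  have h3 : orderOf d ∣ p ^ k := hx ▸ orderOf_dvd_of_pow_eq_one h2
  have h4 : orderOf d = 1 := Nat.Coprime.eq_one_of_dvd (Nat.Coprime.pow_right k hcop) h3
  exact orderOf_eq_one_iff.mp h4

/-- the converse direction -/
theorem converse [Finite G] (x : G) (A : Subgroup G) (p : ℕ) (hp : p.Prime) (hAn : A.Normal)
    (hAc : IsMulCommutative A) (hx : ∃ k : ℕ, orderOf x = p ^ k)
    (hcomp : (Subgroup.zpowers x).IsComplement' A) (hxp : x ^ p ∈ Subgroup.center G)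
    (hfpf : ∀ a : G, a ∈ A → a ≠ 1 → x * a * x⁻¹ ≠ a)
    (H : Subgroup G) (hH : ¬ IsMulCommutative H) : Subgroup.normalizer (H : Set G) = H := by
  have hAcomm : ∀ a ∈ A, ∀ b ∈ A, a * b = b * a := (isMulCommutative_iff' A).mp hAc
  obtain ⟨k, hk⟩ := hx
  have hdec : ∀ g : G, ∃ i : ℕ, ∃ a ∈ A, g = x ^ i * a := by
    intro g
    obtain ⟨⟨⟨s, hs⟩, ⟨a, ha⟩⟩, hsa, -⟩ := hcomp.existsUnique g
    have hfin : IsOfFinOrder x := isOfFinOrder_of_finite x
    obtain ⟨i, hi⟩ := (Submonoid.mem_powers_iff _ _).mp (hfin.mem_powers_iff_mem_zpowers.mpr hs)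
    refine ⟨i, a, ha, ?_⟩
    rw [hi]
    exact hsa.symm
  -- Step 1: some element of `H` is `x * a'`
  have h1 : ∃ a' ∈ A, x * a' ∈ H := by
    by_contra hcon
    push Not at hcon
    apply hH
    have hform : ∀ h ∈ H, ∃ j : ℕ, ∃ a ∈ A, h = (x ^ p) ^ j * a := by
      intro h hh
      obtain ⟨i, a, ha, rfl⟩ := hdec h
      by_cases hpi : p ∣ i
      · obtain ⟨j, rfl⟩ := hpi
        exact ⟨j, a, ha, by rw [pow_mul]⟩
      · exfalso
        have hcop : i.Coprime (orderOf x) := by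
          rw [hk]
          exact Nat.Coprime.pow_right k ((Nat.Prime.coprime_iff_not_dvd hp).mpr hpi).symm
        obtain ⟨j, hj⟩ := exists_pow_eq_self_of_coprime hcop
        have hmem : (x ^ i * a) ^ j ∈ H := H.pow_mem hh j
        have hq : (QuotientGroup.mk ((x ^ i * a) ^ j) : G ⧸ A) = QuotientGroup.mk x := by
          rw [QuotientGroup.mk_pow, QuotientGroup.mk_mul, (QuotientGroup.eq_one_iff a).mpr ha,
            mul_one, ← QuotientGroup.mk_pow, hj]
        have hA' : x⁻¹ * (x ^ i * a) ^ j ∈ A := QuotientGroup.eq.mp hq.symm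
        apply hcon _ hA'
        rw [mul_inv_cancel_left]
        exact hmem
    rw [isMulCommutative_iff']
    intro u hu v hv
    obtain ⟨j, a, ha, rfl⟩ := hform u hu
    obtain ⟨l, b, hb, rfl⟩ := hform v hv
    have hzj : (x ^ p) ^ j ∈ Subgroup.center G := Subgroup.pow_mem _ hxp j
    have hzl : (x ^ p) ^ l ∈ Subgroup.center G := Subgroup.pow_mem _ hxp l
    have e1 : a * (x ^ p) ^ l = (x ^ p) ^ l * a := Subgroup.mem_center_iff.mp hzl a
    have e2 : b * (x ^ p) ^ j = (x ^ p) ^ j * b := Subgroup.mem_center_iff.mp hzj b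
    have e3 : (x ^ p) ^ l * (x ^ p) ^ j = (x ^ p) ^ j * (x ^ p) ^ l :=
      Subgroup.mem_center_iff.mp hzj _
    have e4 := hAcomm a ha b hb
    calc (x ^ p) ^ j * a * ((x ^ p) ^ l * b) = (x ^ p) ^ j * (a * (x ^ p) ^ l) * b := by group
      _ = (x ^ p) ^ j * ((x ^ p) ^ l * a) * b := by rw [e1]
      _ = (x ^ p) ^ j * (x ^ p) ^ l * (a * b) := by group
      _ = (x ^ p) ^ l * (x ^ p) ^ j * (b * a) := by rw [e3, e4]
      _ = (x ^ p) ^ l * ((x ^ p) ^ j * b) * a := by group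
      _ = (x ^ p) ^ l * (b * (x ^ p) ^ j) * a := by rw [e2]
      _ = (x ^ p) ^ l * b * ((x ^ p) ^ j * a) := by group
  obtain ⟨a', ha', hh'⟩ := h1
  apply le_antisymm _ Subgroup.le_normalizer
  intro g hg
  obtain ⟨i, a, ha, rfl⟩ := hdec g
  have hq : (QuotientGroup.mk ((x * a') ^ i) : G ⧸ A) = QuotientGroup.mk (x ^ i * a) := by
    rw [QuotientGroup.mk_pow, QuotientGroup.mk_mul, (QuotientGroup.eq_one_iff a').mpr ha',
      mul_one, QuotientGroup.mk_mul, (QuotientGroup.eq_one_iff a).mpr ha, mul_one,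
      QuotientGroup.mk_pow]
  have hcA : ((x * a') ^ i)⁻¹ * (x ^ i * a) ∈ A := QuotientGroup.eq.mp hq
  have hhi : (x * a') ^ i ∈ H := H.pow_mem hh' i
  have hcN : ((x * a') ^ i)⁻¹ * (x ^ i * a) ∈ Subgroup.normalizer (H : Set G) :=
    Subgroup.mul_mem _ (Subgroup.inv_mem _ (Subgroup.le_normalizer hhi)) hg
  suffices hcH : ((x * a') ^ i)⁻¹ * (x ^ i * a) ∈ H by
    have : x ^ i * a = (x * a') ^ i * (((x * a') ^ i)⁻¹ * (x ^ i * a)) := by group
    rw [this]
    exact H.mul_mem hhi hcH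
  generalize ((x * a') ^ i)⁻¹ * (x ^ i * a) = c at hcA hcN
  -- Step 3
  have hconj : ∀ d ∈ A, (x * a') * d * (x * a')⁻¹ = x * d * x⁻¹ := by
    intro d hd
    have := hAcomm a' ha' d hd
    calc x * a' * d * (x * a')⁻¹ = x * (a' * d) * a'⁻¹ * x⁻¹ := by group
      _ = x * (d * a') * a'⁻¹ * x⁻¹ := by rw [this]
      _ = x * d * x⁻¹ := by group
  have hinj : ∀ d ∈ A, ∀ d' ∈ A, d * (x * d * x⁻¹)⁻¹ = d' * (x * d' * x⁻¹)⁻¹ → d = d' := by
    intro d hd d' hd' h
    have h1 := fixed_of_eq x d d' h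
    have h2 : d'⁻¹ * d = 1 := by
      by_contra hne
      exact hfpf _ (A.mul_mem (A.inv_mem hd') hd) hne h1
    have : d' * (d'⁻¹ * d) = d' * 1 := by rw [h2]
    simpa using this
  let ψ : ↥(H ⊓ A) → ↥(H ⊓ A) := fun d =>
    ⟨(d : G) * ((x * a') * d * (x * a')⁻¹)⁻¹,
      H.mul_mem d.2.1 (H.inv_mem (H.mul_mem (H.mul_mem hh' d.2.1) (H.inv_mem hh'))),
      A.mul_mem d.2.2 (A.inv_mem (hAn.conj_mem _ d.2.2 _))⟩
  have hψinj : Function.Injective ψ := by
    intro d d' h
    have h1 : (d : G) * ((x * a') * d * (x * a')⁻¹)⁻¹ = (d' : G) * ((x * a') * d' * (x * a')⁻¹)⁻¹ :=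
      congrArg Subtype.val h
    rw [hconj _ d.2.2, hconj _ d'.2.2] at h1
    exact Subtype.ext (hinj _ d.2.2 _ d'.2.2 h1)
  have hψsurj : Function.Surjective ψ := Finite.injective_iff_surjective.mp hψinj
  have hw : c * ((x * a') * c * (x * a')⁻¹)⁻¹ ∈ H ⊓ A := by
    refine ⟨?_, A.mul_mem hcA (A.inv_mem (hAn.conj_mem _ hcA _))⟩
    have h1 : c * (x * a') * c⁻¹ ∈ H := (Subgroup.mem_normalizer_iff.mp hcN (x * a')).mp hh'
    have h2 : c * ((x * a') * c * (x * a')⁻¹)⁻¹ = c * (x * a') * c⁻¹ * (x * a')⁻¹ := by group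
    rw [h2]
    exact H.mul_mem h1 (H.inv_mem hh')
  obtain ⟨c', hc'⟩ := hψsurj ⟨_, hw⟩
  have h3 : (c' : G) * ((x * a') * c' * (x * a')⁻¹)⁻¹ = c * ((x * a') * c * (x * a')⁻¹)⁻¹ :=
    congrArg Subtype.val hc'
  rw [hconj _ c'.2.2, hconj _ hcA] at h3
  have h4 : (c' : G) = c := hinj _ c'.2.2 _ hcA h3
  rw [← h4]
  exact c'.2.1

/-- a nontrivial finite solvable group has a normal subgroup of prime index -/
theorem exists_normal_index_prime' [Finite G] [Group.IsSolvable G]
    [Nontrivial G] : ∃ M : Subgroup G, M.Normal ∧ M.index.Prime := by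
  have hlt : commutator G < ⊤ := Group.IsSolvable.commutator_lt_top_of_nontrivial G
  obtain ⟨M, hM, hle⟩ := (eq_top_or_exists_le_coatom (commutator G)).resolve_left hlt.ne
  have hMn : M.Normal := by
    constructor
    intro n hn g
    have h1 : g * n * g⁻¹ = ⁅g, n⁆ * n := by rw [commutatorElement_def]; group
    rw [h1]
    refine M.mul_mem (hle ?_) hn
    rw [commutator_def]
    exact Subgroup.commutator_mem_commutator (Subgroup.mem_top g) (Subgroup.mem_top n)
  refine ⟨M, hMn, ?_⟩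
  have hidx : M.index ≠ 1 := fun h => hM.1 (Subgroup.index_eq_one.mp h)
  have hr : (M.index.minFac).Prime := Nat.minFac_prime hidx
  have : Fact (M.index.minFac).Prime := ⟨hr⟩
  have hdvd : M.index.minFac ∣ Nat.card (G ⧸ M) := by
    rw [← Subgroup.index_eq_card]; exact Nat.minFac_dvd _
  obtain ⟨xb, hxb⟩ := exists_prime_orderOf_dvd_card' (G := G ⧸ M) M.index.minFac hdvd
  obtain ⟨x, rfl⟩ := QuotientGroup.mk'_surjective M xb
  have hxM : x ∉ M := by
    intro hx
    have : (QuotientGroup.mk' M) x = 1 := by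
      rw [QuotientGroup.mk'_apply, QuotientGroup.eq_one_iff]; exact hx
    rw [this, orderOf_one] at hxb
    exact hr.one_lt.ne hxb
  have hsup : M ⊔ Subgroup.zpowers x = ⊤ := by
    apply hM.2
    refine lt_of_le_of_ne le_sup_left ?_
    intro heq
    apply hxM
    rw [heq]
    exact (le_sup_right : Subgroup.zpowers x ≤ M ⊔ Subgroup.zpowers x) (Subgroup.mem_zpowers x)
  have hz : Subgroup.zpowers ((QuotientGroup.mk' M) x) = ⊤ := by
    have h1 : (M ⊔ Subgroup.zpowers x).map (QuotientGroup.mk' M) = ⊤ := by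
      rw [hsup, ← MonoidHom.range_eq_map, MonoidHom.range_eq_top]
      exact QuotientGroup.mk'_surjective M
    rw [Subgroup.map_sup, MonoidHom.map_zpowers] at h1
    have h2 : M.map (QuotientGroup.mk' M) = ⊥ := QuotientGroup.map_mk'_self M
    rw [h2, bot_sup_eq] at h1
    exact h1
  have hcard : Nat.card (G ⧸ M) = orderOf ((QuotientGroup.mk' M) x) := by
    rw [← Nat.card_zpowers, hz, Subgroup.card_top]
  rw [Subgroup.index_eq_card, hcard, hxb]
  exact hr

/-- the forward direction -/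
theorem forward [Finite G] [Group.IsSolvable G] (hnn : ¬ Group.IsNilpotent G)
    (hS : ∀ H : Subgroup G, ¬ IsMulCommutative H → Subgroup.normalizer (H : Set G) = H) :
    ∃ (x : G) (A : Subgroup G) (p : ℕ), p.Prime ∧ A.Normal ∧ IsMulCommutative A ∧
      (∃ k : ℕ, orderOf x = p ^ k) ∧ ¬ p ∣ Nat.card A ∧ (Subgroup.zpowers x).IsComplement' A ∧
      x ^ p ∈ Subgroup.center G ∧ ∀ a : G, a ∈ A → a ≠ 1 → x * a * x⁻¹ ≠ a := by
  have hnt : Nontrivial G := by
    by_contra h
    rw [not_nontrivial_iff_subsingleton] at h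
    exact hnn inferInstance
  obtain ⟨M, hMn, hMp⟩ := exists_normal_index_prime' (G := G)
  set p := M.index with hp_def
  have : Fact p.Prime := ⟨hMp⟩
  have hp : p.Prime := hMp
  have hMtop : M ≠ ⊤ := by
    intro h
    rw [hp_def, h, Subgroup.index_top] at hMp
    exact Nat.not_prime_one hMp
  have hMcomm : ∀ a ∈ M, ∀ b ∈ M, a * b = b * a := by
    rw [← isMulCommutative_iff']
    by_contra h
    have h1 := hS M h
    rw [Subgroup.normalizer_eq_top_iff.mpr hMn] at h1
    exact hMtop h1.symm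
  -- the `p'`-part of `M`
  let A : Subgroup G :=
    { carrier := {a | a ∈ M ∧ (orderOf a).Coprime p}
      mul_mem' := by
        rintro a b ⟨ha, hac⟩ ⟨hb, hbc⟩
        refine ⟨M.mul_mem ha hb, ?_⟩
        have hcomm : Commute a b := hMcomm a ha b hb
        exact Nat.Coprime.coprime_dvd_left hcomm.orderOf_mul_dvd_mul_orderOf
          (Nat.Coprime.mul_left hac hbc)
      one_mem' := ⟨M.one_mem, by simp⟩
      inv_mem' := by
        rintro a ⟨ha, hac⟩
        exact ⟨M.inv_mem ha, by rwa [orderOf_inv]⟩ }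
  have hA_mem : ∀ a : G, a ∈ A ↔ a ∈ M ∧ (orderOf a).Coprime p := fun a => Iff.rfl
  have hAM : A ≤ M := fun a ha => ha.1
  have hAn : A.Normal := by
    constructor
    intro a ha g
    exact ⟨hMn.conj_mem a ha.1 g, by rw [orderOf_conj']; exact ha.2⟩
  have hAcomm : ∀ a ∈ A, ∀ b ∈ A, a * b = b * a := fun a ha b hb => hMcomm a ha.1 b hb.1
  have hAc : IsMulCommutative A := (isMulCommutative_iff' A).mpr hAcomm
  have hpA : ¬ p ∣ Nat.card A := by
    intro h
    obtain ⟨a, ha⟩ := exists_prime_orderOf_dvd_card' (G := A) p h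
    have h1 : (orderOf (a : G)).Coprime p := a.2.2
    rw [Subgroup.orderOf_coe, ha, Nat.coprime_self] at h1
    exact hp.ne_one h1
  -- `G ⧸ A` is a `p`-group
  have hPG : IsPGroup p (G ⧸ A) := by
    intro gb
    obtain ⟨g, rfl⟩ := QuotientGroup.mk_surjective gb
    have hgM : g ^ p ∈ M := by
      rw [← QuotientGroup.eq_one_iff, QuotientGroup.mk_pow, hp_def, Subgroup.index_eq_card]
      exact pow_card_eq_one'
    obtain ⟨t, u, ht, hu, hm, ⟨k, hk⟩, hup⟩ := exists_p_decomp p (g ^ p)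
    have hle : Subgroup.zpowers (g ^ p) ≤ M := Subgroup.zpowers_le.mpr hgM
    have huA : u ∈ A := ⟨hle hu, hup⟩
    have htu : Commute t u := by
      obtain ⟨i, rfl⟩ := Subgroup.mem_zpowers_iff.mp ht
      obtain ⟨j, rfl⟩ := Subgroup.mem_zpowers_iff.mp hu
      exact Commute.zpow_zpow_self _ i j
    refine ⟨k + 1, ?_⟩
    rw [← QuotientGroup.mk_pow, QuotientGroup.eq_one_iff, pow_succ', pow_mul, hm, htu.mul_pow,
      ← hk, pow_orderOf_eq_one, one_mul]
    exact A.pow_mem huA _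
  have hnilQ : Group.IsNilpotent (G ⧸ A) := hPG.isNilpotent
  -- the element `x`
  obtain ⟨x₀, hx₀⟩ : ∃ x₀ : G, x₀ ∉ M := by
    by_contra h
    push Not at h
    exact hMtop (eq_top_iff.mpr fun g _ => h g)
  obtain ⟨x, u, hxz, hu, hxu, ⟨k, hk⟩, hup⟩ := exists_p_decomp p x₀
  have huM : u ∈ M := mem_of_coprime_index M u hup
  have hxM : x ∉ M := by
    intro h
    apply hx₀
    rw [hxu]
    exact M.mul_mem h huM
  have hxpM : x ^ p ∈ M := by
    rw [← QuotientGroup.eq_one_iff, QuotientGroup.mk_pow, hp_def, Subgroup.index_eq_card]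
    exact pow_card_eq_one'
  -- `M ⊔ ⟨x⟩ = ⊤`
  have hsupM : M ⊔ Subgroup.zpowers x = ⊤ := by
    have h1 : M ≤ M ⊔ Subgroup.zpowers x := le_sup_left
    have h2 := Subgroup.relIndex_mul_index h1
    rw [← hp_def] at h2
    rcases (Nat.dvd_prime hp).mp (Dvd.intro _ h2) with h3 | h3
    · exfalso
      have h4 : M ⊔ Subgroup.zpowers x ≤ M := Subgroup.relIndex_eq_one.mp h3
      exact hxM (h4 ((le_sup_right : Subgroup.zpowers x ≤ _) (Subgroup.mem_zpowers x)))
    · rw [h3] at h2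
      have h5 : (M ⊔ Subgroup.zpowers x).index = 1 := by
        have hpos : 0 < p := hp.pos
        nlinarith [Nat.eq_of_mul_eq_mul_left hpos (by rw [mul_one]; exact h2 :
          p * (M ⊔ Subgroup.zpowers x).index = p * 1)]
      exact Subgroup.index_eq_one.mp h5
  -- `x` does not centralize `A`
  have hxA : ∃ a ∈ A, x * a ≠ a * x := by
    by_contra hcon
    push Not at hcon
    apply hnn
    have hAZ : A ≤ Subgroup.center G := by
      intro a ha
      rw [Subgroup.mem_center_iff]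
      have hle : M ⊔ Subgroup.zpowers x ≤ Subgroup.centralizer {a} := by
        apply sup_le
        · intro m hm
          exact Subgroup.mem_centralizer_singleton_iff.mpr (hMcomm m hm a ha.1)
        · rw [Subgroup.zpowers_le]
          exact Subgroup.mem_centralizer_singleton_iff.mpr (hcon a ha)
      intro g
      have hg : g ∈ M ⊔ Subgroup.zpowers x := by rw [hsupM]; trivial
      exact Subgroup.mem_centralizer_singleton_iff.mp (hle hg)
    exact Subgroup.isNilpotent_of_ker_le_center (QuotientGroup.mk' A)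
      (by rw [QuotientGroup.ker_mk']; exact hAZ)
  -- `A ⊔ ⟨x⟩ = ⊤`
  have hsupA : A ⊔ Subgroup.zpowers x = ⊤ := by
    have hna : ¬ IsMulCommutative ↥(A ⊔ Subgroup.zpowers x) := by
      rw [isMulCommutative_iff']
      intro h
      obtain ⟨a, ha, hne⟩ := hxA
      exact hne (h x ((le_sup_right : Subgroup.zpowers x ≤ _) (Subgroup.mem_zpowers x)) a
        ((le_sup_left : A ≤ _) ha))
    have hN := hS _ hna
    have hsurj : Function.Surjective (QuotientGroup.mk' A) := QuotientGroup.mk'_surjective A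
    have hcomap : ((A ⊔ Subgroup.zpowers x).map (QuotientGroup.mk' A)).comap (QuotientGroup.mk' A) =
        A ⊔ Subgroup.zpowers x := by
      rw [Subgroup.comap_map_eq, QuotientGroup.ker_mk']
      exact sup_eq_left.mpr le_sup_left
    have hself : Subgroup.normalizer (((A ⊔ Subgroup.zpowers x).map (QuotientGroup.mk' A) :
        Subgroup (G ⧸ A)) : Set (G ⧸ A)) = (A ⊔ Subgroup.zpowers x).map (QuotientGroup.mk' A) := by
      apply Subgroup.comap_injective hsurj
      rw [Subgroup.comap_normalizer_eq_of_surjective _ hsurj, hcomap, hN]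
    have htop := normalizerCondition_iff_only_full_group_self_normalizing.mp
      (Group.normalizerCondition_of_isNilpotent (G := G ⧸ A)) _ hself
    rw [← hcomap, htop, Subgroup.comap_top]
  have hdisj : Disjoint (Subgroup.zpowers x) A := by
    apply Subgroup.disjoint_of_coprime_natCard
    rw [Nat.card_zpowers, hk]
    exact Nat.Coprime.pow_left k ((Nat.Prime.coprime_iff_not_dvd hp).mpr hpA)
  have hcomp : (Subgroup.zpowers x).IsComplement' A := by
    apply Subgroup.isComplement'_of_disjoint_and_mul_eq_univ hdisj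
    rw [← Subgroup.mul_normal, sup_comm, hsupA]
    rfl
  have hxpZ : x ^ p ∈ Subgroup.center G := by
    rw [Subgroup.mem_center_iff]
    have hle : M ⊔ Subgroup.zpowers x ≤ Subgroup.centralizer {x ^ p} := by
      apply sup_le
      · intro m hm
        exact Subgroup.mem_centralizer_singleton_iff.mpr (hMcomm m hm _ hxpM)
      · rw [Subgroup.zpowers_le]
        exact Subgroup.mem_centralizer_singleton_iff.mpr ((Commute.refl x).pow_right p).eq
    intro g
    have hg : g ∈ M ⊔ Subgroup.zpowers x := by rw [hsupM]; trivial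
    exact Subgroup.mem_centralizer_singleton_iff.mp (hle hg)
  refine ⟨x, A, p, hp, hAn, hAc, ⟨k, hk⟩, hpA, hcomp, hxpZ, ?_⟩
  -- fixed-point-freeness
  intro a₀ ha₀ hne hfix
  let φ : ↥A →* G :=
    { toFun := fun c => (c : G) * (x * c * x⁻¹)⁻¹
      map_one' := by simp
      map_mul' := by
        intro c d
        have h1 : x * (c : G) * x⁻¹ ∈ A := hAn.conj_mem _ c.2 _
        have h2 : x * (d : G) * x⁻¹ ∈ A := hAn.conj_mem _ d.2 _
        have e1 : (d : G) * (x * c * x⁻¹)⁻¹ = (x * c * x⁻¹)⁻¹ * d :=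
          hAcomm _ d.2 _ (A.inv_mem h1)
        show ((c : G) * (d : G)) * (x * ((c : G) * (d : G)) * x⁻¹)⁻¹ =
          (c : G) * (x * c * x⁻¹)⁻¹ * ((d : G) * (x * d * x⁻¹)⁻¹)
        have e2 : (x * ((c : G) * (d : G)) * x⁻¹)⁻¹ = (x * d * x⁻¹)⁻¹ * (x * c * x⁻¹)⁻¹ := by group
        have e3 : (x * (d : G) * x⁻¹)⁻¹ * (x * c * x⁻¹)⁻¹ = (x * c * x⁻¹)⁻¹ * (x * d * x⁻¹)⁻¹ :=
          hAcomm _ (A.inv_mem h2) _ (A.inv_mem h1)
        rw [e2, e3]
        calc (c : G) * (d : G) * ((x * c * x⁻¹)⁻¹ * (x * d * x⁻¹)⁻¹)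
            = (c : G) * ((d : G) * (x * c * x⁻¹)⁻¹) * (x * d * x⁻¹)⁻¹ := by group
          _ = (c : G) * ((x * c * x⁻¹)⁻¹ * d) * (x * d * x⁻¹)⁻¹ := by rw [e1]
          _ = _ := by group }
  have hφ : ∀ c : ↥A, φ c = (c : G) * (x * c * x⁻¹)⁻¹ := fun c => rfl
  have hBA : φ.range ≤ A := by
    rintro b ⟨c, rfl⟩
    rw [hφ]
    exact A.mul_mem c.2 (A.inv_mem (hAn.conj_mem _ c.2 _))
  have hxB : ∀ b ∈ ((φ.range : Subgroup G) : Set G), x * b * x⁻¹ ∈ ((φ.range : Subgroup G) : Set G) := by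
    rintro b ⟨c, rfl⟩
    refine ⟨⟨x * c * x⁻¹, hAn.conj_mem _ c.2 _⟩, ?_⟩
    rw [hφ, hφ]
    group
  have hBn : (φ.range).Normal := by
    rw [← Subgroup.normalizer_eq_top_iff, eq_top_iff, ← hsupA]
    apply sup_le
    · intro a ha
      apply Subgroup.centralizer_le_normalizer
      rw [Subgroup.mem_centralizer_iff]
      intro b hb
      exact hAcomm b (hBA hb) a ha
    · rw [Subgroup.zpowers_le]
      exact Subgroup.mem_normalizer_fintype hxB
  -- `B ⊔ ⟨x⟩` is not abelian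
  have hna : ¬ IsMulCommutative ↥(φ.range ⊔ Subgroup.zpowers x) := by
    rw [isMulCommutative_iff']
    intro h
    obtain ⟨a, ha, hne'⟩ := hxA
    apply hne'
    have hd : φ ⟨a, ha⟩ = 1 := by
      apply fixed_eq_one (p := p) x a (φ ⟨a, ha⟩) k hk (hφ _)
      · have h1 := h x ((le_sup_right : Subgroup.zpowers x ≤ _) (Subgroup.mem_zpowers x))
          (φ ⟨a, ha⟩) ((le_sup_left : φ.range ≤ _) ⟨_, rfl⟩)
        rw [h1]; group
      · exact (hBA ⟨_, rfl⟩ : φ ⟨a, ha⟩ ∈ A).2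
    rw [hφ] at hd
    have h2 : a = x * a * x⁻¹ := by
      have := mul_inv_eq_one.mp hd
      exact this
    calc x * a = (x * a * x⁻¹) * x := by group
      _ = a * x := by rw [← h2]
  have hN := hS _ hna
  have ha₀N : a₀ ∈ Subgroup.normalizer ((φ.range ⊔ Subgroup.zpowers x : Subgroup G) : Set G) := by
    apply Subgroup.centralizer_le_normalizer
    have hle : φ.range ⊔ Subgroup.zpowers x ≤ Subgroup.centralizer {a₀} := by
      apply sup_le
      · intro b hb
        exact Subgroup.mem_centralizer_singleton_iff.mpr (hAcomm b (hBA hb) a₀ ha₀)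
      · rw [Subgroup.zpowers_le]
        apply Subgroup.mem_centralizer_singleton_iff.mpr
        calc x * a₀ = (x * a₀ * x⁻¹) * x := by group
          _ = a₀ * x := by rw [hfix]
    rw [Subgroup.mem_centralizer_iff]
    intro h hh
    exact Subgroup.mem_centralizer_singleton_iff.mp (hle hh)
  rw [hN] at ha₀N
  have hmem : a₀ ∈ ((φ.range ⊔ Subgroup.zpowers x : Subgroup G) : Set G) := ha₀N
  rw [Subgroup.normal_mul] at hmem
  obtain ⟨b, hb, s, hs, hbs⟩ := Set.mem_mul.mp hmem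
  have hsA : s ∈ A := by
    have : s = b⁻¹ * a₀ := by rw [← hbs]; group
    rw [this]
    exact A.mul_mem (A.inv_mem (hBA hb)) ha₀
  have hs1 : s = 1 := by
    have : s ∈ Subgroup.zpowers x ⊓ A := ⟨hs, hsA⟩
    rw [hdisj.eq_bot] at this
    exact Subgroup.mem_bot.mp this
  rw [hs1, mul_one] at hbs
  obtain ⟨c, hc⟩ := hb
  have h0 : a₀ = 1 := by
    apply fixed_eq_one (p := p) x c a₀ k hk _ hfix ha₀.2
    rw [← hbs, ← hc, hφ]
  exact hne h0

/-- Let G be a finite solvable non-nilpotent group. Every non-abelian subgroup of G is self-normalizing if and only if G is a semidirect product ⟨x⟩ ⋉ A in which ⟨x⟩ is a p-group for some prime p, A is a normal abelian subgroup of order prime to p, x^p is central in G, and x acts fixed-point-freely on A (no non-identity element of A commutes with x). -/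
theorem result {G : Type*} [Group G] [Finite G]
    [Group.IsSolvable G] (hnn : ¬ Group.IsNilpotent G) :
    (∀ H : Subgroup G, ¬ IsMulCommutative H → Subgroup.normalizer (H : Set G) = H) ↔
    ∃ (x : G) (A : Subgroup G) (p : ℕ), p.Prime ∧ A.Normal ∧ IsMulCommutative A ∧ (∃ k : ℕ, orderOf x = p ^ k) ∧
      ¬ p ∣ Nat.card A ∧ (Subgroup.zpowers x).IsComplement' A ∧ x ^ p ∈ Subgroup.center G ∧
      ∀ a : G, a ∈ A → a ≠ 1 → x * a * x⁻¹ ≠ a := by
  constructor
  · exact forward hnn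
  · rintro ⟨x, A, p, hp, hAn, hAc, hx, -, hcomp, hxp, hfpf⟩ H hH
    exact converse x A p hp hAn hAc hx hcomp hxp hfpf H hH

end Cfsg.Agent.S4071
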