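import Cfsg.Statements.S4155
import Cfsg.Agent.Lib.Helper1.Cores
import Cfsg.Agent.Lib.Helper1.Nilpotent
import Cfsg.Agent.Lib.Helper10.UniqueOrderP
import Cfsg.Agent.Lib.Helper10.CNFrob
import Cfsg.Agent.Lib.Helper19.FpfAbelian
import Cfsg.Agent.Lib.Helper22.PElt

set_option autoImplicit false
open Cfsg

namespace Cfsg.Agent.S4155

open Cfsg.Agent.Lib.Helper1 Cfsg.Agent.Lib.Helper10 Cfsg.Agent.Lib.Helper19 Cfsg.Agent.Lib.Helper22

/-- a `q`-group acting fixed-point-freely on a nontrivial abelian group without `q`-torsion has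
at most one subgroup of order `q`. -/
theorem uniqueOrderP_of_fpf_action {T V : Type*} [Group T] [Finite T] [Group V] [Nontrivial V]
    (q : ℕ) [Fact q.Prime] (hVc : ∀ a b : V, a * b = b * a)
    (φ : T →* MulAut V) (hT : IsPGroup q T)
    (hfpf : ∀ t : T, ∀ v : V, φ t v = v → t = 1 ∨ v = 1)
    (hVq : ∀ v : V, v ^ q = 1 → v = 1) : UniqueOrderP q T := by
  let _ : CommGroup V := { (inferInstance : Group V) with mul_comm := hVc }
  intro x y hx hx1 hy
  have hnt : Nontrivial T := ⟨⟨x, 1, hx1⟩⟩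
  have hcn : Nontrivial ↥(Subgroup.center T) := hT.center_nontrivial
  obtain ⟨⟨z0, hz0⟩, hz01⟩ := exists_ne (1 : ↥(Subgroup.center T))
  have hz01' : z0 ≠ 1 := fun h => hz01 (Subtype.ext h)
  obtain ⟨z, hzz0, hzr, hz1⟩ := exists_orderOf_eq_prime_zpowers hT z0 hz01'
  have hzc : z ∈ Subgroup.center T := (Subgroup.zpowers_le.mpr hz0) hzz0
  have claim : ∀ w : T, w ^ q = 1 → w ∈ Subgroup.zpowers z := by
    intro w hw
    exact fpf_abelian_cyclic φ q hfpf hVq z w ((Subgroup.mem_center_iff.mp hzc) w).symm hzr hw hz1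
  have hxz := claim x hx
  have hyz := claim y hy
  have hox : orderOf x = q := orderOf_eq_prime hx hx1
  have hoz : orderOf z = q := orderOf_eq_prime hzr hz1
  have heq : Subgroup.zpowers x = Subgroup.zpowers z := by
    apply Subgroup.eq_of_le_of_card_ge (Subgroup.zpowers_le.mpr hxz)
    rw [Nat.card_zpowers, Nat.card_zpowers, hox, hoz]
  rw [heq]
  exact hyz


section main
variable {G : Type*} [Group G]

/-- an element outside a subgroup has a power of prime-power order outside it. -/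
theorem exists_primePow_not_mem [Finite G] (N : Subgroup G) :
    ∀ (n : ℕ) (x : G), orderOf x = n → x ∉ N →
      ∃ q : ℕ, q.Prime ∧ ∃ y : G, y ∈ Subgroup.zpowers x ∧ y ∉ N ∧ ∃ k : ℕ, orderOf y = q ^ k := by
  intro n
  induction n using Nat.strong_induction_on with
  | _ n ih =>
    intro x hxn hxN
    have hx1 : x ≠ 1 := by
      rintro rfl
      exact hxN N.one_mem
    have hn1 : orderOf x ≠ 1 := fun h => hx1 (orderOf_eq_one_iff.mp h)
    obtain ⟨q, hq, hqn⟩ := Nat.exists_prime_and_dvd hn1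
    have : Fact q.Prime := ⟨hq⟩
    obtain ⟨t, u, ht, hu, hg, htp, hup⟩ := exists_p_decomp q x
    by_cases htN : t ∈ N
    · have huN : u ∉ N := by
        intro huN
        apply hxN
        rw [hg]
        exact N.mul_mem htN huN
      have hdvd : orderOf u ∣ orderOf x := orderOf_dvd_of_mem_zpowers hu
      have hlt : orderOf u < n := by
        rw [← hxn]
        apply lt_of_le_of_ne (Nat.le_of_dvd (orderOf_pos x) hdvd)
        intro h
        rw [← h] at hqn
        exact hq.one_lt.ne' (Nat.Coprime.eq_one_of_dvd hup.symm hqn)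
      obtain ⟨q', hq', y, hy, hyN, hk⟩ := ih (orderOf u) hlt u rfl huN
      exact ⟨q', hq', y, (Subgroup.zpowers_le.mpr hu) hy, hyN, hk⟩
    · exact ⟨q, hq, t, ht, htN, htp⟩


/-- the `r`-torsion of the centre of a normal subgroup `N`, as a subgroup of `G`. -/
def centralTorsion (N : Subgroup G) (r : ℕ) : Subgroup G where
  carrier := {g | g ∈ N ∧ g ∈ Subgroup.centralizer (N : Set G) ∧ ∃ k : ℕ, g ^ (r ^ k) = 1}
  one_mem' := ⟨N.one_mem, Subgroup.one_mem _, 0, one_pow _⟩
  mul_mem' := by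
    rintro a b ⟨haN, haC, k, hk⟩ ⟨hbN, hbC, l, hl⟩
    refine ⟨N.mul_mem haN hbN, Subgroup.mul_mem _ haC hbC, k + l, ?_⟩
    have hc : Commute a b := (Subgroup.mem_centralizer_iff.mp haC b hbN).symm
    rw [hc.mul_pow, pow_add, pow_mul, hk, one_pow, mul_comm (r ^ k), pow_mul, hl, one_pow, one_mul]
  inv_mem' := by
    rintro a ⟨haN, haC, k, hk⟩
    exact ⟨N.inv_mem haN, Subgroup.inv_mem _ haC, k, by rw [inv_pow, hk, inv_one]⟩

theorem mem_centralTorsion {N : Subgroup G} {r : ℕ} {g : G} :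
    g ∈ centralTorsion N r ↔
      g ∈ N ∧ g ∈ Subgroup.centralizer (N : Set G) ∧ ∃ k : ℕ, g ^ (r ^ k) = 1 := Iff.rfl

instance centralTorsion_normal (N : Subgroup G) [N.Normal] (r : ℕ) :
    (centralTorsion N r).Normal where
  conj_mem := by
    rintro a ⟨haN, haC, k, hk⟩ g
    refine ⟨‹N.Normal›.conj_mem a haN g, (Subgroup.normal_centralizer (H := N)).conj_mem a haC g,
      k, ?_⟩
    rw [conj_pow, hk, mul_one, mul_inv_cancel]

theorem centralTorsion_ne_bot [Finite G] (N : Subgroup G) (hnil : Group.IsNilpotent N) (r : ℕ)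
    [Fact r.Prime] (hr : r ∣ Nat.card N) : centralTorsion N r ≠ ⊥ := by
  obtain ⟨R⟩ : Nonempty (Sylow r ↥N) := inferInstance
  have hRn : (R : Subgroup ↥N).Normal := inferInstance
  have hRbot : (R : Subgroup ↥N) ≠ ⊥ := by
    intro h
    have h1 := R.card_eq_multiplicity
    rw [h, Subgroup.card_bot] at h1
    have h2 : (Nat.card ↥N).factorization r = 0 := by
      by_contra h0
      have := Nat.one_lt_pow h0 (Fact.out : r.Prime).one_lt
      omega
    have h3 : 0 < (Nat.card ↥N).factorization r :=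
      (Fact.out : r.Prime).factorization_pos_of_dvd Nat.card_pos.ne' hr
    omega
  have h4 := inf_center_ne_bot_of_normal (R : Subgroup ↥N) hRbot
  obtain ⟨⟨z, hz⟩, hz1⟩ := (Subgroup.ne_bot_iff_exists_ne_one).mp h4
  have hz1' : z ≠ 1 := fun h => hz1 (Subtype.ext h)
  obtain ⟨hzR, hzC⟩ := Subgroup.mem_inf.mp hz
  intro hbot
  have hmem : (z : G) ∈ centralTorsion N r := by
    refine ⟨z.2, ?_, ?_⟩
    · rw [Subgroup.mem_centralizer_iff]
      intro n hn
      have := (Subgroup.mem_center_iff.mp hzC) ⟨n, hn⟩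
      exact congrArg Subtype.val this
    · obtain ⟨k, hk⟩ := R.2 ⟨z, hzR⟩
      refine ⟨k, ?_⟩
      have := congrArg (fun w : ↥(R : Subgroup ↥N) => ((w : ↥N) : G)) hk
      simpa using this
  rw [hbot, Subgroup.mem_bot] at hmem
  exact hz1' (Subtype.ext hmem)


end main

theorem result {G : Type*} [Group G] [Finite G] (N : Subgroup G) [N.Normal] (hN1 : N ≠ ⊥) (hN2 : N ≠ ⊤)
    (heq : ∀ x : G, x ∉ N → ∀ n ∈ N, orderOf (x * n) = orderOf x)
    (hnil : Group.IsNilpotent N) (hnpp : ¬ IsPrimePow (Nat.card N)) :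
    N = Cfsg.fittingSubgroup G ∧
    ∀ (q : ℕ) [Fact q.Prime] (Q : Sylow q (G ⧸ N)), IsCyclic (Q : Subgroup (G ⧸ N)) ∨ ∃ n : ℕ, Nonempty ((Q : Subgroup (G ⧸ N)) ≃* QuaternionGroup (2 ^ n)) := by
  -- Step 0: another prime
  have step0 : ∀ q : ℕ, q.Prime → ∃ r : ℕ, r.Prime ∧ r ≠ q ∧ r ∣ Nat.card N := by
    intro q hq
    by_contra hcon
    push Not at hcon
    apply hnpp
    have hpos : Nat.card N ≠ 0 := Nat.card_pos.ne'
    have h1 := Nat.eq_prime_pow_of_unique_prime_dvd hpos (p := q) (fun {d} hd hdn => by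
      by_contra hne
      exact hcon d hd hne hdn)
    rw [h1]
    refine ⟨q, _, hq.prime, ?_, rfl⟩
    rw [Nat.pos_iff_ne_zero]
    intro h0
    rw [h0, pow_zero] at h1
    exact hN1 ((Subgroup.card_eq_one).mp h1)
  -- Step 1: key
  have key : ∀ x : G, x ∉ N → ∀ v ∈ N, x * v = v * x → (orderOf x).Coprime (orderOf v) → v = 1 := by
    intro x hx v hv hc hcop
    have h1 := (show Commute x v from hc).orderOf_mul_eq_mul_orderOf_of_coprime hcop
    rw [heq x hx v hv] at h1
    have h2 : orderOf v = 1 := by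
      have hpos := orderOf_pos x
      nlinarith [Nat.eq_of_mul_eq_mul_left hpos (by rw [mul_one]; exact h1 : orderOf x * 1 = orderOf x * orderOf v)]
    exact orderOf_eq_one_iff.mp h2
  refine ⟨?_, ?_⟩
  · apply le_antisymm (le_fittingSubgroup ‹N.Normal› hnil)
    intro x hxF
    by_contra hxN
    obtain ⟨q, hq, y, hy, hyN, k, hk⟩ := exists_primePow_not_mem N _ x rfl hxN
    obtain ⟨r, hr, hrq, hrN⟩ := step0 q hq
    have : Fact r.Prime := ⟨hr⟩
    obtain ⟨v, hv⟩ := exists_prime_orderOf_dvd_card' (G := ↥N) r hrN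
    have hyF : y ∈ fittingSubgroup G := (Subgroup.zpowers_le.mpr hxF) hy
    have hvF : (v : G) ∈ fittingSubgroup G := le_fittingSubgroup ‹N.Normal› hnil v.2
    have hcop : (orderOf y).Coprime (orderOf (v : G)) := by
      rw [hk, Subgroup.orderOf_coe, hv]
      exact Nat.Coprime.pow_left k ((Nat.coprime_primes hq hr).mpr hrq.symm)
    have hc := commute_of_mem_of_isNilpotent fittingSubgroup_isNilpotent hyF hvF hcop
    have h1 := key y hyN v v.2 hc hcop
    have h2 : orderOf (v : G) = 1 := orderOf_eq_one_iff.mpr h1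
    rw [Subgroup.orderOf_coe, hv] at h2
    exact hr.one_lt.ne' h2
  · intro q hqf Q
    have hq : q.Prime := hqf.out
    obtain ⟨r, hr, hrq, hrN⟩ := step0 q hq
    have : Fact r.Prime := ⟨hr⟩
    set V : Subgroup G := centralTorsion N r with hV
    have hVbot : V ≠ ⊥ := centralTorsion_ne_bot N hnil r hrN
    have hVnt : Nontrivial ↥V := (Subgroup.nontrivial_iff_ne_bot V).mpr hVbot
    have hVc : ∀ a b : ↥V, a * b = b * a := by
      rintro ⟨a, haN, haC, -⟩ ⟨b, hbN, hbC, -⟩
      apply Subtype.ext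
      exact (Subgroup.mem_centralizer_iff.mp haC b hbN).symm
    have hker : ∀ n ∈ N, (MulAut.conjNormal (H := V)) n = 1 := by
      intro n hn
      ext ⟨v, hvN, hvC, -⟩
      rw [MulAut.conjNormal_apply]
      simp only [MulAut.one_apply]
      rw [(Subgroup.mem_centralizer_iff.mp hvC n hn), mul_inv_cancel_right]
    let φ' : G ⧸ N →* MulAut ↥V := QuotientGroup.lift N (MulAut.conjNormal (H := V)) hker
    let φ : ↥(Q : Subgroup (G ⧸ N)) →* MulAut ↥V := φ'.comp (Subgroup.subtype _)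
    have hfpf : ∀ t : ↥(Q : Subgroup (G ⧸ N)), ∀ v : ↥V, φ t v = v → t = 1 ∨ v = 1 := by
      rintro ⟨tq, htQ⟩ ⟨v, hvN, hvC, i, hi⟩ hfix
      obtain ⟨g, ⟨j, hj⟩, hg⟩ := exists_pElt_lift q N tq (isPElt_of_mem_sylow Q tq htQ)
      subst hg
      have h1 : g * v * g⁻¹ = v := by
        have h0 : φ ⟨(QuotientGroup.mk g : G ⧸ N), htQ⟩ = MulAut.conjNormal (H := V) g := rfl
        rw [h0] at hfix
        have := congrArg Subtype.val hfix
        rwa [MulAut.conjNormal_apply] at this
      by_cases hgN : g ∈ N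
      · left
        apply Subtype.ext
        exact (QuotientGroup.eq_one_iff g).mpr hgN
      · right
        apply Subtype.ext
        have hc : g * v = v * g := by
          rw [← h1, inv_mul_cancel_right, h1]
        apply key g hgN v hvN hc
        rw [hj]
        have hov : orderOf v ∣ r ^ i := orderOf_dvd_of_pow_eq_one hi
        exact Nat.Coprime.coprime_dvd_right hov
          (Nat.Coprime.pow _ _ ((Nat.coprime_primes hq hr).mpr hrq.symm))
    have hVq : ∀ v : ↥V, v ^ q = 1 → v = 1 := by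
      rintro ⟨v, hvN, hvC, i, hi⟩ hvq
      have hvq' : v ^ q = 1 := by simpa using congrArg Subtype.val hvq
      apply Subtype.ext
      have h1 : orderOf v ∣ q := orderOf_dvd_of_pow_eq_one hvq'
      have h2 : orderOf v ∣ r ^ i := orderOf_dvd_of_pow_eq_one hi
      have h3 : orderOf v = 1 :=
        Nat.eq_one_of_dvd_coprimes (Nat.Coprime.pow_right i ((Nat.coprime_primes hq hr).mpr hrq.symm))
          h1 h2
      exact orderOf_eq_one_iff.mp h3
    have hu := uniqueOrderP_of_fpf_action q hVc φ Q.2 hfpf hVq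
    rcases isCyclic_or_quaternion_of_uniqueOrderP Q.2 hu with h | ⟨-, h⟩
    · exact Or.inl h
    · exact Or.inr h

end Cfsg.Agent.S4155
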