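import Cfsg.Statements.S4072
import Cfsg.Agent.S4155
import Cfsg.Agent.Lib.Helper1.Cores
import Cfsg.Agent.Lib.Helper13.Frobenius
import Cfsg.Agent.Lib.Lead.Focal
import Cfsg.Agent.Lib.Helper22.Jordan
import Cfsg.Agent.Lib.Helper22.TwoClosed
import Cfsg.Agent.Lib.Helper22.PElt
import Cfsg.Agent.Lib.Helper17.SylowLemmas

set_option autoImplicit false
open Cfsg

namespace Cfsg.Agent.S4072

open Cfsg.Agent.Lib.Helper1 Cfsg.Agent.Lib.Helper22 Cfsg.Agent.Lib.Helper13

section cyclicSN

variable {X : Type*} [Group X] [Finite X]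

/-- in a group whose nontrivial cyclic subgroups are self-normalizing, nontrivial `r`-subgroups are
self-normalizing and abelian. -/
theorem normalizer_eq_of_isPGroup
    (hX : ∀ z : X, z ≠ 1 → Subgroup.normalizer (Subgroup.zpowers z : Set X) = Subgroup.zpowers z)
    {r : ℕ} [Fact r.Prime] (R : Subgroup X) (hR : IsPGroup r R) (hR1 : R ≠ ⊥) :
    Subgroup.normalizer (R : Set X) = R ∧ R ≤ Subgroup.centralizer (R : Set X) := by
  have hnt : Nontrivial ↥R := (Subgroup.nontrivial_iff_ne_bot R).mpr hR1
  have hcn : Nontrivial ↥(Subgroup.center ↥R) := hR.center_nontrivial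
  obtain ⟨⟨z, hz⟩, hz1⟩ := exists_ne (1 : ↥(Subgroup.center ↥R))
  have hz1' : (z : X) ≠ 1 := by
    intro h
    apply hz1
    apply Subtype.ext
    apply Subtype.ext
    exact h
  have hle : R ≤ Subgroup.normalizer (Subgroup.zpowers (z : X) : Set X) := by
    intro g hg
    apply Subgroup.centralizer_le_normalizer
    rw [Subgroup.mem_centralizer_iff]
    intro w hw
    obtain ⟨i, rfl⟩ := Subgroup.mem_zpowers_iff.mp hw
    have h1 : (⟨g, hg⟩ : ↥R) * z = z * ⟨g, hg⟩ := (Subgroup.mem_center_iff.mp hz ⟨g, hg⟩)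
    have h2 : g * (z : X) = (z : X) * g := congrArg Subtype.val h1
    exact ((Commute.zpow_right (show Commute g (z : X) from h2) i).eq).symm
  rw [hX _ hz1'] at hle
  have hle' : Subgroup.zpowers (z : X) ≤ R := Subgroup.zpowers_le.mpr z.2
  have heq : R = Subgroup.zpowers (z : X) := le_antisymm hle hle'
  constructor
  · rw [heq]; exact hX _ hz1'
  · rw [heq]
    intro a ha
    rw [Subgroup.mem_centralizer_iff]
    intro b hb
    obtain ⟨i, rfl⟩ := Subgroup.mem_zpowers_iff.mp ha
    obtain ⟨j, rfl⟩ := Subgroup.mem_zpowers_iff.mp hb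
    rw [← zpow_add, ← zpow_add, add_comm]


/-- a finite group whose nontrivial cyclic subgroups are all self-normalizing has prime power
order. -/
theorem card_eq_prime_pow_of_cyclicSN
    (hX : ∀ z : X, z ≠ 1 → Subgroup.normalizer (Subgroup.zpowers z : Set X) = Subgroup.zpowers z) :
    ∃ r k : ℕ, r.Prime ∧ Nat.card X = r ^ k := by
  by_cases h1 : Nat.card X = 1
  · exact ⟨2, 0, Nat.prime_two, by rw [h1, pow_zero]⟩
  set q := (Nat.card X).minFac with hq
  have hqp : q.Prime := Nat.minFac_prime h1
  have : Fact q.Prime := ⟨hqp⟩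
  have hqdvd : q ∣ Nat.card X := Nat.minFac_dvd _
  obtain ⟨Q⟩ : Nonempty (Sylow q X) := inferInstance
  have hQ1 : (Q : Subgroup X) ≠ ⊥ := by
    intro h
    have hc := Q.card_eq_multiplicity
    rw [h, Subgroup.card_bot] at hc
    have h3 : 0 < (Nat.card X).factorization q :=
      hqp.factorization_pos_of_dvd Nat.card_pos.ne' hqdvd
    have := Nat.one_lt_pow h3.ne' hqp.one_lt
    omega
  obtain ⟨hQn, hQc⟩ := normalizer_eq_of_isPGroup hX (Q : Subgroup X) Q.2 hQ1
  have hP : Subgroup.normalizer ((Q : Subgroup X) : Set X) ≤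
      Subgroup.centralizer ((Q : Subgroup X) : Set X) := by
    rw [hQn]; exact hQc
  have hcompl := MonoidHom.ker_transferSylow_isComplement' Q hP
  set L := (MonoidHom.transferSylow Q hP).ker with hL
  have hLbot : L = ⊥ := by
    by_contra hLne
    have hcL : Nat.card L ≠ 1 := fun h => hLne ((Subgroup.card_eq_one).mp h)
    set r := (Nat.card L).minFac with hr
    have hrp : r.Prime := Nat.minFac_prime hcL
    have : Fact r.Prime := ⟨hrp⟩
    have hrdvd : r ∣ Nat.card L := Nat.minFac_dvd _
    obtain ⟨R₀⟩ : Nonempty (Sylow r ↥L) := inferInstance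
    have hR1 : (R₀ : Subgroup ↥L).map L.subtype ≠ ⊥ := by
      intro h
      have h' : (R₀ : Subgroup ↥L) = ⊥ := by
        rw [← Subgroup.map_eq_bot_iff_of_injective _ L.subtype_injective]; exact h
      have hc := R₀.card_eq_multiplicity
      rw [h', Subgroup.card_bot] at hc
      have h3 : 0 < (Nat.card ↥L).factorization r :=
        hrp.factorization_pos_of_dvd Nat.card_pos.ne' hrdvd
      have := Nat.one_lt_pow h3.ne' hrp.one_lt
      omega
    have hRp : IsPGroup r ((R₀ : Subgroup ↥L).map L.subtype) := R₀.2.map L.subtype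
    obtain ⟨hRn, -⟩ := normalizer_eq_of_isPGroup hX _ hRp hR1
    have hfr := Sylow.normalizer_sup_eq_top R₀
    rw [hRn] at hfr
    have hRL : (R₀ : Subgroup ↥L).map L.subtype ≤ L := Subgroup.map_subtype_le _
    rw [sup_eq_right.mpr hRL] at hfr
    have hcard := hcompl.card_mul_card
    rw [hfr, Subgroup.card_top] at hcard
    have hQc1 : Nat.card (Q : Subgroup X) = 1 := by
      have hpos : 0 < Nat.card X := Nat.card_pos
      nlinarith [Nat.eq_of_mul_eq_mul_left hpos (by rw [mul_one]; exact hcard :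
        Nat.card X * Nat.card (Q : Subgroup X) = Nat.card X * 1)]
    exact hQ1 ((Subgroup.card_eq_one).mp hQc1)
  have hcard := hcompl.card_mul_card
  rw [hLbot, Subgroup.card_bot, one_mul] at hcard
  obtain ⟨k, hk⟩ := IsPGroup.iff_card.mp Q.2
  exact ⟨q, k, hqp, by rw [← hcard, hk]⟩

end cyclicSN

/-- relative version: if `C ⊴ M` and all `C⟨m⟩`, `m ∉ C`, are self-normalizing then `|M : C|` is a
prime power. -/
theorem index_eq_prime_pow_of_relSN {M : Type*} [Group M] [Finite M] (C : Subgroup M) [C.Normal]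
    (h : ∀ m : M, m ∉ C → Subgroup.normalizer ((C ⊔ Subgroup.zpowers m : Subgroup M) : Set M) =
      C ⊔ Subgroup.zpowers m) :
    ∃ r k : ℕ, r.Prime ∧ C.index = r ^ k := by
  rw [Subgroup.index_eq_card]
  apply card_eq_prime_pow_of_cyclicSN
  intro z hz
  obtain ⟨m, rfl⟩ := QuotientGroup.mk_surjective z
  have hm : m ∉ C := fun hm => hz ((QuotientGroup.eq_one_iff m).mpr hm)
  have hsurj : Function.Surjective (QuotientGroup.mk' C) := QuotientGroup.mk'_surjective C
  have h1 : (Subgroup.zpowers (QuotientGroup.mk m : M ⧸ C)).comap (QuotientGroup.mk' C) =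
      C ⊔ Subgroup.zpowers m := by
    have : Subgroup.zpowers (QuotientGroup.mk m : M ⧸ C) =
        (Subgroup.zpowers m).map (QuotientGroup.mk' C) := by
      rw [MonoidHom.map_zpowers]; rfl
    rw [this, Subgroup.comap_map_eq, QuotientGroup.ker_mk', sup_comm]
  apply Subgroup.comap_injective hsurj
  rw [Subgroup.comap_normalizer_eq_of_surjective _ hsurj, h1]
  exact h m hm


section SN

variable {G : Type*} [Group G]

theorem isMulCommutative_iff (H : Subgroup G) :
    IsMulCommutative H ↔ ∀ a ∈ H, ∀ b ∈ H, a * b = b * a := by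
  constructor
  · intro h a ha b hb
    exact congrArg Subtype.val (h.is_comm.comm (⟨a, ha⟩ : ↥H) ⟨b, hb⟩)
  · intro h
    exact ⟨⟨fun a b => Subtype.ext (h a a.2 b b.2)⟩⟩

theorem isSolvable_of_isMulCommutative (H : Subgroup G) (h : IsMulCommutative H) :
    Group.IsSolvable ↥H :=
  Group.isSolvable_of_comm (fun a b => h.is_comm.comm a b)

variable [Finite G]
  (hS : ∀ H : Subgroup G, ¬ IsMulCommutative H → Subgroup.normalizer (H : Set G) = H)

include hS

omit [Finite G] in
/-- proper normal subgroups are abelian. -/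
theorem comm_of_normal (N : Subgroup G) [hNn : N.Normal] (hN : N ≠ ⊤) : IsMulCommutative N := by
  by_contra h
  have h1 := hS N h
  rw [Subgroup.normalizer_eq_top_iff.mpr hNn] at h1
  exact hN h1.symm

/-- in a non-solvable group, proper normal subgroups are central. -/
theorem le_center_of_normal (hns : ¬ Group.IsSolvable G) (N : Subgroup G) [hNn : N.Normal]
    (hN : N ≠ ⊤) : N ≤ Subgroup.center G := by
  set C := Subgroup.centralizer (N : Set G) with hC
  have hCn : C.Normal := Subgroup.normal_centralizer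
  by_cases hCtop : C = ⊤
  · intro n hn
    rw [Subgroup.mem_center_iff]
    intro g
    have hg : g ∈ C := by rw [hCtop]; exact Subgroup.mem_top g
    exact ((Subgroup.mem_centralizer_iff.mp hg) n hn).symm
  · exfalso
    have hCc := (isMulCommutative_iff C).mp (comm_of_normal hS C hCtop)
    have hNc := (isMulCommutative_iff N).mp (comm_of_normal hS N hN)
    have hNC : N ≤ C := by
      intro n hn
      rw [hC, Subgroup.mem_centralizer_iff]
      intro m hm
      exact hNc m hm n hn
    have hCC : Subgroup.centralizer (C : Set G) ≤ C :=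
      Subgroup.centralizer_le (by exact_mod_cast hNC)
    have hrel : ∀ m : G, m ∉ C →
        Subgroup.normalizer ((C ⊔ Subgroup.zpowers m : Subgroup G) : Set G) =
          C ⊔ Subgroup.zpowers m := by
      intro m hm
      apply hS
      intro hcomm
      rw [isMulCommutative_iff] at hcomm
      apply hm
      apply hCC
      rw [Subgroup.mem_centralizer_iff]
      intro c hc
      exact hcomm c (Subgroup.mem_sup_left hc) m (Subgroup.mem_sup_right (Subgroup.mem_zpowers m))
    obtain ⟨r, k, hr, hk⟩ := index_eq_prime_pow_of_relSN C hrel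
    have : Fact r.Prime := ⟨hr⟩
    have hpg : IsPGroup r (G ⧸ C) := IsPGroup.of_card (n := k) (by rw [← Subgroup.index_eq_card, hk])
    have hnil : Group.IsNilpotent (G ⧸ C) := hpg.isNilpotent
    have hsolQ : Group.IsSolvable (G ⧸ C) := inferInstance
    have hsolC : Group.IsSolvable ↥C := isSolvable_of_isMulCommutative C (comm_of_normal hS C hCtop)
    apply hns
    apply Group.isSolvable_of_ker_le_range C.subtype (QuotientGroup.mk' C)
    rw [QuotientGroup.ker_mk', Subgroup.range_subtype]


omit [Finite G] in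
/-- a non-solvable group of this kind is perfect. -/
theorem commutator_eq_top (hns : ¬ Group.IsSolvable G) : commutator G = ⊤ := by
  by_contra h
  have hc := comm_of_normal hS (commutator G) h
  have hsolC : Group.IsSolvable ↥(commutator G) := isSolvable_of_isMulCommutative _ hc
  have hsolQ : Group.IsSolvable (Abelianization G) :=
    Group.isSolvable_of_comm (fun a b => mul_comm a b)
  apply hns
  apply Group.isSolvable_of_ker_le_range (commutator G).subtype (Abelianization.of (G := G))
  rw [Abelianization.ker_of, Subgroup.range_subtype]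

/-- in a non-solvable group of this kind, Sylow `p`-subgroups for primes dividing `|Z(G)|` are
non-abelian. -/
theorem sylow_not_comm (hns : ¬ Group.IsSolvable G) (p : ℕ) [hp : Fact p.Prime]
    (hpZ : p ∣ Nat.card (Subgroup.center G)) (P : Sylow p G) :
    ¬ IsMulCommutative (P : Subgroup G) := by
  intro hc
  obtain ⟨⟨z, hzZ⟩, hz⟩ := exists_prime_orderOf_dvd_card' (G := ↥(Subgroup.center G)) p hpZ
  rw [Subgroup.orderOf_mk] at hz
  have hZn : (Subgroup.zpowers z).Normal := by
    refine ⟨fun w hw g => ?_⟩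
    have hwZ : w ∈ Subgroup.center G := (Subgroup.zpowers_le.mpr hzZ) hw
    have : g * w * g⁻¹ = w := by
      rw [(Subgroup.mem_center_iff.mp hwZ) g, mul_inv_cancel_right]
    rw [this]; exact hw
  have hZp : IsPGroup p (Subgroup.zpowers z) :=
    IsPGroup.of_card (n := 1) (by rw [Nat.card_zpowers, hz, pow_one])
  have hzP : z ∈ (P : Subgroup G) := (hZp.le_sylow_of_normal P) (Subgroup.mem_zpowers z)
  have hHall : Nat.Coprime (Nat.card (P : Subgroup G)) (P : Subgroup G).index := by
    obtain ⟨n, hn⟩ := IsPGroup.iff_card.mp P.2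
    rw [hn]
    exact Nat.Coprime.pow_left n ((Nat.Prime.coprime_iff_not_dvd hp.out).mpr P.not_dvd_index)
  have hzG : z ∈ commutator G := by
    rw [commutator_eq_top hS hns]; exact Subgroup.mem_top z
  have h1 := Cfsg.Agent.Lib.Lead.eq_one_of_mem_abelianHall_commutator_center (P : Subgroup G) hHall
    hzP hzG hzZ
  rw [h1, orderOf_one] at hz
  exact hp.out.one_lt.ne hz


/-- if the Sylow `p`-subgroups are non-abelian, `p'`-elements normalizing a `p`-subgroup
centralize it. -/
theorem localCentral_of_SN (p : ℕ) [hp : Fact p.Prime]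
    (hna : ∀ P : Sylow p G, ¬ IsMulCommutative (P : Subgroup G)) : LocalCentral p G := by
  by_contra hcon
  unfold LocalCentral at hcon
  push Not at hcon
  let S : Set (Subgroup G) := {Q | IsPGroup p Q ∧ ∃ g ∈ Subgroup.normalizer (Q : Set G),
    (orderOf g).Coprime p ∧ g ∉ Subgroup.centralizer (Q : Set G)}
  have hSne : S.Nonempty := by
    obtain ⟨Q, hQ, g, hg, hcop, hgc⟩ := hcon
    exact ⟨Q, hQ, g, hg, hcop, hgc⟩
  obtain ⟨Q, ⟨hQp, y, hyM, hycop, hyC⟩, hQmax⟩ :=
    Set.Finite.exists_maximalFor (fun Q : Subgroup G => Nat.card Q) S (Set.toFinite S) hSne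
  have hmax : ∀ R : Subgroup G, R ∈ S → Nat.card Q < Nat.card R → False := by
    intro R hR hlt
    have := hQmax hR hlt.le
    exact absurd this (not_le.mpr hlt)
  -- `Q` is abelian
  have hQc : ∀ a ∈ Q, ∀ b ∈ Q, a * b = b * a := by
    rw [← isMulCommutative_iff]
    by_contra hQnc
    have h1 := hS Q hQnc
    have hyQ : y ∈ Q := by
      have : y ∈ ((Subgroup.normalizer (Q : Set G) : Subgroup G) : Set G) := hyM
      rw [h1] at this
      exact this
    obtain ⟨j, hj⟩ := isPElt_of_mem_isPGroup hp.out Q hQp y hyQ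
    have h2 : orderOf y = 1 := by
      rw [hj] at hycop ⊢
      rcases Nat.eq_zero_or_pos j with h0 | h0
      · rw [h0, pow_zero]
      · exfalso
        have : p ∣ Nat.gcd (p ^ j) p := Nat.dvd_gcd (dvd_pow_self p h0.ne') dvd_rfl
        rw [hycop] at this
        exact hp.out.one_lt.ne' (Nat.dvd_one.mp this)
    apply hyC
    rw [orderOf_eq_one_iff.mp h2]
    exact Subgroup.one_mem _
  set M := Subgroup.normalizer (Q : Set G) with hM
  set C := Subgroup.centralizer (Q : Set G) with hC
  have hQC : Q ≤ C := by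
    intro q hq
    rw [hC, Subgroup.mem_centralizer_iff]
    intro b hb
    exact hQc b hb q hq
  have hCM : C ≤ M := Subgroup.centralizer_le_normalizer _
  -- `M` normalizes `C`
  have hMC : ∀ m ∈ M, ∀ c ∈ C, m * c * m⁻¹ ∈ C := by
    intro m hm c hc
    rw [hC, Subgroup.mem_centralizer_iff]
    intro q hq
    have hq' : m⁻¹ * q * m ∈ Q := by
      have := (Subgroup.mem_normalizer_iff.mp (M.inv_mem hm) q).mp hq
      simpa using this
    have h1 := (Subgroup.mem_centralizer_iff.mp hc) _ hq'
    calc q * (m * c * m⁻¹) = m * ((m⁻¹ * q * m) * c) * m⁻¹ := by group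
      _ = m * (c * (m⁻¹ * q * m)) * m⁻¹ := by rw [h1]
      _ = m * c * m⁻¹ * q := by group
  have hMnC : M ≤ Subgroup.normalizer (C : Set G) := by
    intro m hm
    apply Subgroup.mem_normalizer_fintype
    intro c hc
    exact hMC m hm c hc
  -- `C` is abelian
  have hCc : ∀ a ∈ C, ∀ b ∈ C, a * b = b * a := by
    rw [← isMulCommutative_iff]
    by_contra hCnc
    have h1 := hS C hCnc
    have hyC' : y ∈ ((Subgroup.normalizer (C : Set G) : Subgroup G) : Set G) := hMnC hyM
    rw [h1] at hyC'
    exact hyC hyC'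
  -- the `p`-part `R` of `C`
  set R := Cfsg.Agent.S4155.centralTorsion C p with hR
  have hCcent : C ≤ Subgroup.centralizer (C : Set G) := by
    intro c hc
    rw [Subgroup.mem_centralizer_iff]
    intro b hb
    exact hCc b hb c hc
  have hRp : IsPGroup p R := by
    rintro ⟨g, -, -, k, hk⟩
    exact ⟨k, Subtype.ext hk⟩
  have hQR : Q ≤ R := by
    intro q hq
    obtain ⟨k, hk⟩ := hQp ⟨q, hq⟩
    exact ⟨hQC hq, hCcent (hQC hq), k, by simpa using congrArg Subtype.val hk⟩
  have hMR : ∀ m ∈ M, ∀ c ∈ R, m * c * m⁻¹ ∈ R := by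
    rintro m hm c ⟨hcC, -, k, hk⟩
    refine ⟨hMC m hm c hcC, hCcent (hMC m hm c hcC), k, ?_⟩
    rw [conj_pow, hk, mul_one, mul_inv_cancel]
  have hyR : y ∈ Subgroup.normalizer (R : Set G) := by
    apply Subgroup.mem_normalizer_fintype
    intro c hc
    exact hMR y hyM c hc
  -- if `R` is bigger than `Q` we are done
  have hRQ : R ≤ Q := by
    by_contra hle
    have hlt : Q < R := lt_of_le_of_ne hQR (fun h => hle h.ge)
    have hclt : Nat.card Q < Nat.card R := Cfsg.Agent.Lib.Helper13.card_lt_card_of_lt hlt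
    by_cases hyCR : y ∈ Subgroup.centralizer (R : Set G)
    · apply hyC
      exact Subgroup.centralizer_le (by exact_mod_cast hQR) hyCR
    · exact hmax R ⟨hRp, y, hyR, hycop, hyCR⟩ hclt
  -- a `p`-element `u ∈ N(Q) ∖ Q`
  obtain ⟨P', hQP'⟩ := hQp.exists_le_sylow
  have hQltP' : Q < (P' : Subgroup G) := by
    refine lt_of_le_of_ne hQP' ?_
    intro h
    apply hna P'
    rw [← h, isMulCommutative_iff]
    exact hQc
  obtain ⟨u, huP', huM, huQ⟩ := Cfsg.Agent.Lib.Helper17.pgroup_normalizer_gt P'.2 hQltP'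
  obtain ⟨ku, hku⟩ := P'.2 ⟨u, huP'⟩
  have hku' : u ^ p ^ ku = 1 := by simpa using congrArg Subtype.val hku
  have huC : u ∉ C := by
    intro huC
    apply huQ
    apply hRQ
    exact ⟨huC, hCcent huC, ku, hku'⟩
  -- work in `M`
  have hC'n : (C.subgroupOf M).Normal := by
    refine ⟨fun c hc m => ?_⟩
    rw [Subgroup.mem_subgroupOf] at hc ⊢
    exact hMC m m.2 c hc
  have hrel : ∀ m : ↥M, m ∉ C.subgroupOf M →
      Subgroup.normalizer ((C.subgroupOf M ⊔ Subgroup.zpowers m : Subgroup ↥M) : Set ↥M) =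
        C.subgroupOf M ⊔ Subgroup.zpowers m := by
    intro m hm
    rw [Subgroup.mem_subgroupOf] at hm
    have hTM : C ⊔ Subgroup.zpowers (m : G) ≤ M := sup_le hCM (Subgroup.zpowers_le.mpr m.2)
    have hTn : ¬ IsMulCommutative ↥(C ⊔ Subgroup.zpowers (m : G)) := by
      intro hcomm
      rw [isMulCommutative_iff] at hcomm
      apply hm
      rw [hC, Subgroup.mem_centralizer_iff]
      intro q hq
      exact hcomm q (Subgroup.mem_sup_left (hQC hq)) m
        (Subgroup.mem_sup_right (Subgroup.mem_zpowers _))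
    have h1 := hS _ hTn
    have h2 : Subgroup.zpowers m = (Subgroup.zpowers (m : G)).subgroupOf M := by
      ext w
      rw [Subgroup.mem_subgroupOf, Subgroup.mem_zpowers_iff, Subgroup.mem_zpowers_iff]
      constructor
      · rintro ⟨i, rfl⟩
        exact ⟨i, by simp⟩
      · rintro ⟨i, hi⟩
        exact ⟨i, Subtype.ext (by simpa using hi)⟩
    rw [h2, ← Subgroup.subgroupOf_sup hCM (Subgroup.zpowers_le.mpr m.2),
      ← Subgroup.subgroupOf_normalizer_eq hTM]
    congr 1
  obtain ⟨r, k, hr, hk⟩ := @index_eq_prime_pow_of_relSN ↥M _ _ (C.subgroupOf M) hC'n hrel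
  have hou : orderOf (⟨u, huM⟩ : ↥M) ∣ p ^ ku := by
    rw [Subgroup.orderOf_mk]
    exact orderOf_dvd_of_pow_eq_one hku'
  by_cases hrp : r = p
  · -- then `y ∈ C`
    apply hyC
    have hy' : (⟨y, hyM⟩ : ↥M) ∈ C.subgroupOf M := by
      apply mem_of_coprime_index (C.subgroupOf M)
      rw [hk, hrp, Subgroup.orderOf_mk]
      exact Nat.Coprime.pow_right k hycop
    exact hy'
  · -- then `u ∈ C`
    apply huC
    have hu' : (⟨u, huM⟩ : ↥M) ∈ C.subgroupOf M := by
      apply mem_of_coprime_index (C.subgroupOf M)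
      rw [hk]
      apply Nat.Coprime.coprime_dvd_left hou
      exact Nat.Coprime.pow _ _ ((Nat.coprime_primes hp.out hr).mpr (fun h => hrp h.symm))
    exact hu'

end SN


/-- A finite group in which every non-abelian subgroup is self-normalizing is solvable or simple. -/
theorem result {G : Type*} [Group G] [Finite G] (hS : ∀ H : Subgroup G, ¬ IsMulCommutative H → Subgroup.normalizer (H : Set G) = H) :
    Group.IsSolvable G ∨ IsSimpleGroup G := by
  by_cases hsol : Group.IsSolvable G
  · exact Or.inl hsol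
  right
  have hnt : Nontrivial G := by
    by_contra h
    rw [not_nontrivial_iff_subsingleton] at h
    exact hsol (Group.isSolvable_of_comm (fun a b => Subsingleton.elim _ _))
  refine { toNontrivial := hnt, eq_bot_or_eq_top_of_normal := fun N hN => ?_ }
  by_contra hcon
  push Not at hcon
  obtain ⟨hNbot, hNtop⟩ := hcon
  have hNZ := le_center_of_normal hS hsol N hNtop
  have hZ1 : Nat.card (Subgroup.center G) ≠ 1 := by
    intro h
    apply hNbot
    rw [eq_bot_iff]
    exact hNZ.trans (le_of_eq ((Subgroup.card_eq_one).mp h))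
  set p := (Nat.card (Subgroup.center G)).minFac with hpdef
  have hp : p.Prime := Nat.minFac_prime hZ1
  have : Fact p.Prime := ⟨hp⟩
  have hpZ : p ∣ Nat.card (Subgroup.center G) := Nat.minFac_dvd _
  have hna := fun P : Sylow p G => sylow_not_comm hS hsol p hpZ P
  have hLC := localCentral_of_SN hS p hna
  obtain ⟨P⟩ : Nonempty (Sylow p G) := inferInstance
  obtain ⟨K, hKn, hK⟩ := exists_normal_complement_of_localCentral hLC P
  have hidx : K.index = Nat.card (P : Subgroup G) := hK.symm.index_eq_card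
  obtain ⟨n, hn⟩ := IsPGroup.iff_card.mp P.2
  have hKtop : K ≠ ⊤ := by
    intro h
    rw [h, Subgroup.index_top] at hidx
    apply hna P
    rw [isMulCommutative_iff]
    intro a ha b hb
    have hbot : (P : Subgroup G) = ⊥ := (Subgroup.card_eq_one).mp hidx.symm
    rw [hbot, Subgroup.mem_bot] at ha hb
    rw [ha, hb]
  have hpg : IsPGroup p (G ⧸ K) :=
    IsPGroup.of_card (n := n) (by rw [← Subgroup.index_eq_card, hidx, hn])
  have hnil : Group.IsNilpotent (G ⧸ K) := hpg.isNilpotent
  have hsolQ : Group.IsSolvable (G ⧸ K) := inferInstance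
  have hsolK : Group.IsSolvable ↥K := isSolvable_of_isMulCommutative K (comm_of_normal hS K hKtop)
  apply hsol
  apply Group.isSolvable_of_ker_le_range K.subtype (QuotientGroup.mk' K)
  rw [QuotientGroup.ker_mk', Subgroup.range_subtype]

end Cfsg.Agent.S4072
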