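import Cfsg.Statements.S4074

set_option autoImplicit false
open Cfsg

namespace Cfsg.Agent.S4074

open DihedralGroup

/-- a nonabelian subgroup of a dihedral group contains a reflection and a rotation not of order ≤ 2 -/
theorem exists_of_not_comm {n : ℕ} (H : Subgroup (DihedralGroup n)) (hH : ¬ IsMulCommutative H) :
    (∃ i : ZMod n, sr i ∈ H) ∧ (∃ j : ZMod n, r j ∈ H ∧ 2 * j ≠ 0) := by
  by_contra hcon
  apply hH
  have hcases : (∀ i : ZMod n, sr i ∉ H) ∨ (∀ j : ZMod n, r j ∈ H → 2 * j = 0) := by
    by_contra h
    push Not at h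
    exact hcon ⟨h.1, h.2⟩
  have hneg : ∀ i : ZMod n, 2 * i = 0 → -i = i := by
    intro i hi
    have : i + i = 0 := by rw [← two_mul]; exact hi
    exact neg_eq_of_add_eq_zero_left this
  rw [isMulCommutative_iff]
  rintro ⟨a, ha⟩ ⟨b, hb⟩
  apply Subtype.ext
  show a * b = b * a
  rcases hcases with h1 | h2
  · cases a with
    | r i =>
      cases b with
      | r j => simp [add_comm]
      | sr j => exact absurd hb (h1 j)
    | sr i => exact absurd ha (h1 i)
  · cases a with
    | r i =>
      cases b with
      | r j => simp [add_comm]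
      | sr j =>
        have hi := hneg i (h2 i ha)
        simp only [r_mul_sr, sr_mul_r]
        congr 1
        rw [sub_eq_add_neg, hi]
    | sr i =>
      cases b with
      | r j =>
        have hj := hneg j (h2 j hb)
        simp only [r_mul_sr, sr_mul_r]
        congr 1
        rw [sub_eq_add_neg, hj]
      | sr j =>
        have hmem : r (j - i) ∈ H := by
          have := H.mul_mem ha hb
          simpa using this
        have h3 := hneg _ (h2 _ hmem)
        simp only [sr_mul_sr]
        congr 1
        rw [← h3]; ring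

/-- the subgroup `⟨r², s⟩` -/
def evenSub (n : ℕ) : Subgroup (DihedralGroup n) where
  carrier := {g | match g with
    | r j => ∃ k : ZMod n, j = 2 * k
    | sr j => ∃ k : ZMod n, j = 2 * k}
  mul_mem' := by
    intro a b ha hb
    cases a with
    | r i =>
      cases b with
      | r j =>
        obtain ⟨k, rfl⟩ := ha
        obtain ⟨l, rfl⟩ := hb
        exact ⟨k + l, by ring⟩
      | sr j =>
        obtain ⟨k, rfl⟩ := ha
        obtain ⟨l, rfl⟩ := hb
        exact ⟨l - k, by ring⟩
    | sr i =>
      cases b with
      | r j =>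
        obtain ⟨k, rfl⟩ := ha
        obtain ⟨l, rfl⟩ := hb
        exact ⟨k + l, by ring⟩
      | sr j =>
        obtain ⟨k, rfl⟩ := ha
        obtain ⟨l, rfl⟩ := hb
        exact ⟨l - k, by ring⟩
  one_mem' := ⟨0, by simp⟩
  inv_mem' := by
    intro a ha
    cases a with
    | r i =>
      obtain ⟨k, rfl⟩ := ha
      exact ⟨-k, by ring⟩
    | sr i => exact ha

theorem r_mem_evenSub {n : ℕ} (j : ZMod n) : r j ∈ evenSub n ↔ ∃ k : ZMod n, j = 2 * k := Iff.rfl

theorem sr_mem_evenSub {n : ℕ} (j : ZMod n) : sr j ∈ evenSub n ↔ ∃ k : ZMod n, j = 2 * k := Iff.rfl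

/-- For n > 2, every non-abelian subgroup of the dihedral group of order 2n is self-normalizing if and only if n = 4 or n is odd. -/
theorem result (n : ℕ) (hn : 2 < n) :
    (∀ H : Subgroup (DihedralGroup n), ¬ IsMulCommutative H → Subgroup.normalizer (H : Set (DihedralGroup n)) = H) ↔
    (n = 4 ∨ Odd n) := by
  constructor
  · intro h
    by_contra hcon
    push Not at hcon
    obtain ⟨hn4, hnodd⟩ := hcon
    have hneven : Even n := Nat.not_odd_iff_even.mp hnodd
    have h2n : 2 ∣ n := hneven.two_dvd
    -- 4 ≠ 0 in ZMod n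
    have h4 : (4 : ZMod n) ≠ 0 := by
      intro h0
      have : ((4 : ℕ) : ZMod n) = 0 := by exact_mod_cast h0
      rw [ZMod.natCast_eq_zero_iff] at this
      have hle : n ≤ 4 := Nat.le_of_dvd (by norm_num) this
      obtain ⟨m, hm⟩ := hneven
      omega
    have hnc : ¬ IsMulCommutative (evenSub n) := by
      intro hc
      rw [isMulCommutative_iff] at hc
      have h1 : r (2 : ZMod n) ∈ evenSub n := (r_mem_evenSub _).mpr ⟨1, by ring⟩
      have h2 : sr (0 : ZMod n) ∈ evenSub n := (sr_mem_evenSub _).mpr ⟨0, by ring⟩
      have := congrArg Subtype.val (hc ⟨_, h1⟩ ⟨_, h2⟩)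
      simp only [Subgroup.coe_mul, r_mul_sr, sr_mul_r, sr.injEq] at this
      apply h4
      have h5 : (4 : ZMod n) = (0 + 2) - (0 - 2) := by ring
      rw [h5, ← this]; ring
    have hnorm := h (evenSub n) hnc
    have hr1 : r (1 : ZMod n) ∈ Subgroup.normalizer ((evenSub n : Subgroup (DihedralGroup n)) : Set (DihedralGroup n)) := by
      rw [Subgroup.mem_set_normalizer_iff]
      intro g
      cases g with
      | r j =>
        have : r (1 : ZMod n) * r j * (r (1 : ZMod n))⁻¹ = r j := by
          simp only [inv_r, r_mul_r, r.injEq]; ring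
        rw [this]
      | sr j =>
        have : r (1 : ZMod n) * sr j * (r (1 : ZMod n))⁻¹ = sr (j - 2) := by
          simp only [inv_r, r_mul_sr, sr_mul_r, sr.injEq]; ring
        rw [this]
        show sr j ∈ evenSub n ↔ sr (j - 2) ∈ evenSub n
        rw [sr_mem_evenSub, sr_mem_evenSub]
        constructor
        · rintro ⟨k, rfl⟩
          exact ⟨k - 1, by ring⟩
        · rintro ⟨k, hk⟩
          exact ⟨k + 1, by rw [mul_add, ← hk]; ring⟩
    rw [hnorm] at hr1
    obtain ⟨k, hk⟩ := (r_mem_evenSub _).mp hr1
    have h6 := congrArg (ZMod.castHom h2n (ZMod 2)) hk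
    rw [map_one, map_mul, map_ofNat] at h6
    have h7 : (2 : ZMod 2) = 0 := by decide
    rw [h7, zero_mul] at h6
    exact one_ne_zero h6
  · rintro (rfl | hodd) H hH
    · -- n = 4: H is the whole group
      obtain ⟨⟨i₀, hi₀⟩, ⟨j, hj, hj2⟩⟩ := exists_of_not_comm H hH
      have hr1 : r (1 : ZMod 4) ∈ H := by
        have hdec : ∀ j : ZMod 4, 2 * j ≠ 0 → j = 1 ∨ j = 3 := by decide
        have hj' : j = 1 ∨ j = 3 := hdec j hj2
        rcases hj' with rfl | rfl
        · exact hj
        · have := H.inv_mem hj
          have h3 : (r (3 : ZMod 4))⁻¹ = r 1 := by decide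
          rwa [h3] at this
      have htop : H = ⊤ := by
        rw [eq_top_iff]
        intro g _
        cases g with
        | r k =>
          have : r k = (r (1 : ZMod 4)) ^ (k.val) := by
            rw [r_one_pow, ZMod.natCast_zmod_val]
          rw [this]
          exact H.pow_mem hr1 _
        | sr k =>
          have h1 : r (k - i₀) ∈ H := by
            have : r (k - i₀) = (r (1 : ZMod 4)) ^ ((k - i₀).val) := by
              rw [r_one_pow, ZMod.natCast_zmod_val]
            rw [this]
            exact H.pow_mem hr1 _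
          have : sr k = sr i₀ * r (k - i₀) := by
            simp only [sr_mul_r, sr.injEq]; ring
          rw [this]
          exact H.mul_mem hi₀ h1
      rw [htop]
      exact Subgroup.normalizer_eq_top_iff.mpr inferInstance
    · -- n odd
      obtain ⟨⟨i₀, hi₀⟩, -⟩ := exists_of_not_comm H hH
      obtain ⟨m, hm⟩ := hodd
      have h2inv : (2 : ZMod n) * ((m + 1 : ℕ) : ZMod n) = 1 := by
        have : (2 : ZMod n) * ((m + 1 : ℕ) : ZMod n) = ((n + 1 : ℕ) : ZMod n) := by
          rw [hm]; push_cast; ring
        rw [this]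
        push_cast
        rw [ZMod.natCast_self, zero_add]
      have hrot : ∀ k : ZMod n, r k ∈ Subgroup.normalizer ((H : Subgroup (DihedralGroup n)) : Set (DihedralGroup n)) → r k ∈ H := by
        intro k hk
        rw [Subgroup.mem_set_normalizer_iff] at hk
        have h1 := (hk (sr i₀)).mp hi₀
        have h2 : r k * sr i₀ * (r k)⁻¹ = sr (i₀ - k - k) := by
          simp only [inv_r, r_mul_sr, sr_mul_r, sr.injEq]; ring
        rw [h2] at h1
        have h3 : r (2 * k) ∈ H := by
          have := H.mul_mem h1 hi₀
          simp only [sr_mul_sr] at this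
          have h4 : i₀ - (i₀ - k - k) = 2 * k := by ring
          rwa [h4] at this
        have h5 : r k = (r (2 * k)) ^ (m + 1) := by
          rw [r_pow]
          congr 1
          rw [mul_assoc, mul_comm k, ← mul_assoc, h2inv, one_mul]
        rw [h5]
        exact H.pow_mem h3 _
      apply le_antisymm _ Subgroup.le_normalizer
      intro g hg
      cases g with
      | r k => exact hrot k hg
      | sr k =>
        have h1 : sr k * sr i₀ ∈ Subgroup.normalizer ((H : Subgroup (DihedralGroup n)) : Set (DihedralGroup n)) :=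
          Subgroup.mul_mem _ hg (Subgroup.le_normalizer hi₀)
        rw [sr_mul_sr] at h1
        have h2 := hrot _ h1
        have h3 : sr k = r (i₀ - k) * sr i₀ := by
          simp only [r_mul_sr, sr.injEq]; ring
        rw [h3]
        exact H.mul_mem h2 hi₀

end Cfsg.Agent.S4074
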