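import Cfsg.Statements.S4075

set_option autoImplicit false
open Cfsg

namespace Cfsg.Agent.S4075

/-- Let G be a finite nilpotent group. Every non-abelian subgroup of G is self-normalizing if and only if G is abelian or G is a minimal non-abelian p-group for some prime p (non-abelian of prime-power order with every proper subgroup abelian). -/
theorem result {G : Type*} [Group G] [Finite G]
    [Group.IsNilpotent G] :
    (∀ H : Subgroup G, ¬ IsMulCommutative H → Subgroup.normalizer (H : Set G) = H) ↔
    (IsMulCommutative G ∨ (IsPrimePow (Nat.card G) ∧ ¬ IsMulCommutative G ∧ ∀ H : Subgroup G, H ≠ ⊤ → IsMulCommutative H)) := by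
  constructor
  · intro h
    by_cases hG : IsMulCommutative G
    · left; exact hG
    right
    have hNC : ∀ H : Subgroup G, Subgroup.normalizer (H : Set G) = H → H = ⊤ :=
      normalizerCondition_iff_only_full_group_self_normalizing.mp Group.normalizerCondition_of_isNilpotent
    have hprop : ∀ H : Subgroup G, H ≠ ⊤ → IsMulCommutative H := by
      intro H hH
      by_contra hHc
      exact hH (hNC H (h H hHc))
    refine ⟨?_, hG, hprop⟩
    by_contra hpp
    apply hG
    -- every Sylow subgroup is proper, hence abelian
    have hsyl : ∀ (p : ℕ) [Fact p.Prime] (P : Sylow p G), IsMulCommutative (P : Subgroup G) := by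
      intro p hp P
      apply hprop
      intro htop
      apply hpp
      obtain ⟨k, hk⟩ := IsPGroup.iff_card.mp P.2
      rw [htop, Subgroup.card_top] at hk
      rw [hk]
      refine ⟨p, k, hp.out.prime, ?_, rfl⟩
      rcases Nat.eq_zero_or_pos k with h0 | hpos
      · exfalso
        rw [h0, pow_zero] at hk
        apply hG
        rw [isMulCommutative_iff]
        intro a b
        have := (Nat.card_eq_one_iff_unique.mp hk).1
        exact Subsingleton.elim _ _
      · exact hpos
    have hnil : Group.IsNilpotent G := inferInstance
    have htfae := (Group.isNilpotent_of_finite_tfae (G := G)).out 0 4 rfl rfl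
    obtain ⟨e⟩ := htfae.mp hnil
    rw [isMulCommutative_iff]
    intro a b
    obtain ⟨f, rfl⟩ := e.surjective a
    obtain ⟨g, rfl⟩ := e.surjective b
    rw [← map_mul, ← map_mul]
    congr 1
    funext p P
    have : Fact (Nat.Prime (p : ℕ)) := ⟨Nat.prime_of_mem_primeFactors p.2⟩
    have := hsyl p P
    show f p P * g p P = g p P * f p P
    exact mul_comm' (f p P) (g p P)
  · rintro (hG | ⟨_, hG, hprop⟩) H hH
    · exfalso
      apply hH
      rw [isMulCommutative_iff]
      intro a b
      apply Subtype.ext
      exact mul_comm' (a : G) (b : G)
    · have : H = ⊤ := by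
        by_contra hne
        exact hH (hprop H hne)
      rw [this]
      exact Subgroup.normalizer_eq_top_iff.mpr inferInstance

end Cfsg.Agent.S4075
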