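import Cfsg.Statements.S4080

set_option autoImplicit false
open Cfsg

namespace Cfsg.Agent.S4080

open Matrix

theorem mat_sq_eq_zero_of_nilpotent {K : Type*} [Field K] (A : Matrix (Fin 2) (Fin 2) K)
    (hA : IsNilpotent A) : A * A = 0 := by
  have htr : A.trace = 0 := (Matrix.isNilpotent_trace_of_isNilpotent hA).eq_zero
  have hdet : A.det = 0 := by
    obtain ⟨k, hk⟩ := hA
    have : A.det ^ k = 0 := by rw [← Matrix.det_pow, hk, Matrix.det_zero]
    exact pow_eq_zero_iff (by
      intro h0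
      rw [h0, pow_zero] at hk
      have := congrFun (congrFun hk 0) 0
      simp at this) |>.mp this
  rw [Matrix.trace_fin_two] at htr
  rw [Matrix.det_fin_two] at hdet
  ext i j
  fin_cases i <;> fin_cases j <;> simp [Matrix.mul_apply, Fin.sum_univ_two]
  · linear_combination (A 0 0) * htr - hdet
  · linear_combination (A 0 1) * htr
  · linear_combination (A 1 0) * htr
  · linear_combination (A 1 1) * htr - hdet

theorem exists_mul_of_cast_eq_zero {p : ℕ} [hp : Fact p.Prime] (r : ZMod (p ^ 2))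
    (hr : ZMod.castHom (dvd_pow_self p two_ne_zero) (ZMod p) r = 0) :
    ∃ s : ZMod (p ^ 2), r = (p : ZMod (p ^ 2)) * s := by
  have : NeZero (p ^ 2) := ⟨pow_ne_zero 2 hp.out.ne_zero⟩
  have h1 : r = ((r.val : ℕ) : ZMod (p ^ 2)) := (ZMod.natCast_zmod_val r).symm
  rw [h1, map_natCast, ZMod.natCast_eq_zero_iff] at hr
  obtain ⟨t, ht⟩ := hr
  refine ⟨(t : ZMod (p ^ 2)), ?_⟩
  rw [h1, ht]
  push_cast
  rfl

theorem mat_key {p : ℕ} [hp : Fact p.Prime] (hp3 : 3 < p) (M : Matrix (Fin 2) (Fin 2) (ZMod (p ^ 2)))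
    (hM : M ^ p = 1) : (p : ZMod (p ^ 2)) • (M - 1) = 0 := by
  set N := M - 1 with hN
  let φ : ZMod (p ^ 2) →+* ZMod p := ZMod.castHom (dvd_pow_self p two_ne_zero) (ZMod p)
  have hpp : (p : ZMod (p ^ 2)) * (p : ZMod (p ^ 2)) = 0 := by
    rw [← Nat.cast_mul, ← pow_two]
    exact ZMod.natCast_self (p ^ 2)
  -- N² is divisible by p
  have hNbar : IsNilpotent (φ.mapMatrix N) := by
    refine ⟨p, ?_⟩
    rw [hN, map_sub, map_one]
    rw [sub_pow_char_of_commute p (Commute.one_right _), one_pow, ← map_pow, hM, map_one, sub_self]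
  have hsq := mat_sq_eq_zero_of_nilpotent _ hNbar
  rw [← map_mul] at hsq
  obtain ⟨B, hB⟩ : ∃ B : Matrix (Fin 2) (Fin 2) (ZMod (p ^ 2)), N * N = (p : ZMod (p ^ 2)) • B := by
    have hentry : ∀ i j, ∃ s : ZMod (p ^ 2), (N * N) i j = (p : ZMod (p ^ 2)) * s := by
      intro i j
      apply exists_mul_of_cast_eq_zero
      have := congrFun (congrFun hsq i) j
      exact this
    choose B hB using hentry
    refine ⟨Matrix.of B, ?_⟩
    ext i j
    rw [hB i j]
    simp
  have hpk : ∀ k : ℕ, 2 ≤ k → (p : ZMod (p ^ 2)) • N ^ k = 0 := by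
    intro k hk
    obtain ⟨m, rfl⟩ := Nat.exists_eq_add_of_le hk
    rw [add_comm, pow_add, pow_two N, hB, mul_smul_comm, smul_smul, hpp, zero_smul]
  have h4 : ∀ k : ℕ, 4 ≤ k → N ^ k = 0 := by
    intro k hk
    obtain ⟨m, rfl⟩ := Nat.exists_eq_add_of_le hk
    have : N ^ 4 = (N * N) * (N * N) := by
      rw [← pow_two N, ← pow_two (N ^ 2), ← pow_mul]
    rw [add_comm, pow_add, this, hB, smul_mul_smul_comm, hpp, zero_smul, mul_zero]
  -- binomial expansion
  have hMN : M = N + 1 := by rw [hN]; abel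
  have hexp : M ^ p = 1 + (p : ZMod (p ^ 2)) • N := by
    rw [hMN, (Commute.one_right N).add_pow]
    rw [← Finset.sum_range_add_sum_Ico _ (show 2 ≤ p + 1 by omega)]
    rw [Finset.sum_range_succ, Finset.sum_range_one]
    simp only [one_pow, mul_one, pow_zero, Nat.choose_zero_right, Nat.cast_one, pow_one,
      Nat.choose_one_right]
    rw [Finset.sum_eq_zero, add_zero]
    · congr 1
      rw [← (Nat.cast_commute p N).eq, ← nsmul_eq_mul, Nat.cast_smul_eq_nsmul]
    · intro m hm
      rw [Finset.mem_Ico] at hm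
      rcases Nat.lt_or_ge m p with hlt | hge
      · obtain ⟨c, hc⟩ := hp.out.dvd_choose_self (by omega : m ≠ 0) hlt
        rw [hc, Nat.cast_mul, ← mul_assoc, ← (Nat.cast_commute p (N ^ m)).eq, ← nsmul_eq_mul,
          ← Nat.cast_smul_eq_nsmul (ZMod (p ^ 2)), hpk m hm.1, zero_mul]
      · have : m = p := by omega
        rw [this, h4 p (by omega), zero_mul]
  rw [hM] at hexp
  have := add_left_cancel (a := (1 : Matrix (Fin 2) (Fin 2) (ZMod (p ^ 2)))) (b := 0) (c := (p : ZMod (p ^ 2)) • N) (by rw [add_zero]; exact hexp)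
  exact this.symm

theorem exists_mul_of_mul_eq_zero {p : ℕ} [hp : Fact p.Prime] (r : ZMod (p ^ 2))
    (hr : (p : ZMod (p ^ 2)) * r = 0) : ∃ s : ZMod (p ^ 2), r = (p : ZMod (p ^ 2)) * s := by
  have : NeZero (p ^ 2) := ⟨pow_ne_zero 2 hp.out.ne_zero⟩
  have h1 : r = ((r.val : ℕ) : ZMod (p ^ 2)) := (ZMod.natCast_zmod_val r).symm
  rw [h1, ← Nat.cast_mul, ZMod.natCast_eq_zero_iff] at hr
  have hr' : p * p ∣ p * r.val := by
    have e : p * p = p ^ 2 := (pow_two p).symm
    rw [e]; exact hr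
  have h2 : p ∣ r.val := (Nat.mul_dvd_mul_iff_left hp.out.pos).mp hr'
  obtain ⟨t, ht⟩ := h2
  refine ⟨(t : ZMod (p ^ 2)), ?_⟩
  rw [h1, ht]
  push_cast
  rfl

/-- Let p > 3 be a prime and L the direct product of two cyclic groups of order p². Every automorphism of L of order p fixes every element of order p of L. -/
theorem result {p : ℕ} [Fact p.Prime] (hp : 3 < p)
    (a : MulAut (Multiplicative (ZMod (p ^ 2) × ZMod (p ^ 2)))) (ha : orderOf a = p)
    (x : Multiplicative (ZMod (p ^ 2) × ZMod (p ^ 2))) (hx : orderOf x = p) : a x = x := by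
  -- the linear map
  let f : (ZMod (p ^ 2) × ZMod (p ^ 2)) →ₗ[ZMod (p ^ 2)] (ZMod (p ^ 2) × ZMod (p ^ 2)) :=
    (AddMonoidHom.toMultiplicative.symm a.toMonoidHom).toZModLinearMap (p ^ 2)
  have hf : ∀ v, f v = Multiplicative.toAdd (a (Multiplicative.ofAdd v)) := fun v => rfl
  have hfk : ∀ (k : ℕ) v, (f ^ k) v = Multiplicative.toAdd ((a ^ k) (Multiplicative.ofAdd v)) := by
    intro k
    induction k with
    | zero => intro v; simp
    | succ k ih =>
      intro v
      rw [pow_succ f k, Module.End.mul_apply, ih, hf, pow_succ a k, MulAut.mul_apply]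
      rfl
  have hfp : f ^ p = 1 := by
    refine LinearMap.ext fun v => ?_
    rw [hfk]
    have : a ^ p = 1 := by
      have h := pow_orderOf_eq_one a
      rwa [ha] at h
    rw [this]
    rfl
  let e := LinearMap.toMatrixAlgEquiv (Module.Basis.finTwoProd (ZMod (p ^ 2)))
  have hM : (e f) ^ p = 1 := by rw [← map_pow, hfp, map_one]
  have h1 := mat_key hp (e f) hM
  have h2 : (p : ZMod (p ^ 2)) • (f - 1) = 0 := by
    apply e.injective
    rw [map_smul, map_sub, map_one, map_zero]
    exact h1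
  -- x is a p-th power
  have hxp : x ^ p = 1 := by
    have h := pow_orderOf_eq_one x
    rwa [hx] at h
  set v := Multiplicative.toAdd x with hv
  have hpv : (p : ZMod (p ^ 2)) • v = 0 := by
    have : p • v = 0 := by
      have := congrArg Multiplicative.toAdd hxp
      simpa using this
    rw [Nat.cast_smul_eq_nsmul]
    exact this
  obtain ⟨s₁, hs₁⟩ := exists_mul_of_mul_eq_zero v.1 (by
    have := congrArg Prod.fst hpv
    simpa using this)
  obtain ⟨s₂, hs₂⟩ := exists_mul_of_mul_eq_zero v.2 (by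
    have := congrArg Prod.snd hpv
    simpa using this)
  have hvy : v = (p : ZMod (p ^ 2)) • ((s₁, s₂) : ZMod (p ^ 2) × ZMod (p ^ 2)) := by
    ext
    · simpa using hs₁
    · simpa using hs₂
  have h3 : (f - 1) v = 0 := by
    rw [hvy, map_smul, ← LinearMap.smul_apply, h2, LinearMap.zero_apply]
  have h4 : f v = v := by
    rw [LinearMap.sub_apply, Module.End.one_apply, sub_eq_zero] at h3
    exact h3
  rw [hf] at h4
  have := congrArg Multiplicative.ofAdd h4
  simpa [hv] using this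

end Cfsg.Agent.S4080
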