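import Mathlib
import Cfsg.Statements.S4081
import Cfsg.Agent.S0041
import Cfsg.Agent.Lib.Helper2.BurnsidePQ
import Cfsg.Agent.Lib.Helper22.CycMod
import Cfsg.Agent.Lib.Helper22.SemiAut

set_option autoImplicit false
open Cfsg

namespace Cfsg.Agent.S4081

open scoped IsMulCommutative
open Cfsg.Helper22

section Forward

variable {G : Type*} [Group G] [Finite G]

/-- From three orbits and three pairwise inequivalent elements: every element is in one of the
three orbits. -/
theorem orbit_trichotomy (h3 : Nat.card (MulAction.orbitRel.Quotient (MulAut G) G) = 3)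
    (a b : G) (ha : a ≠ 1) (hb : b ≠ 1) (hab : ∀ θ : MulAut G, θ b ≠ a) (g : G) :
    g = 1 ∨ (∃ θ : MulAut G, θ a = g) ∨ (∃ θ : MulAut G, θ b = g) := by
  classical
  haveI := Fintype.ofFinite (MulAction.orbitRel.Quotient (MulAut G) G)
  let mk : G → MulAction.orbitRel.Quotient (MulAut G) G := Quotient.mk''
  have hmk : ∀ x y : G, mk x = mk y ↔ ∃ θ : MulAut G, θ y = x := by
    intro x y
    rw [Quotient.eq'', MulAction.orbitRel_apply, MulAction.mem_orbit_iff]
    constructor
    · rintro ⟨θ, hθ⟩; exact ⟨θ, by rw [← hθ]; rfl⟩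
    · rintro ⟨θ, hθ⟩; exact ⟨θ, by rw [← hθ]; rfl⟩
  have h1a : mk 1 ≠ mk a := by
    intro h; obtain ⟨θ, hθ⟩ := (hmk _ _).mp h
    apply ha
    have := congrArg θ.symm hθ
    simpa using this
  have h1b : mk 1 ≠ mk b := by
    intro h; obtain ⟨θ, hθ⟩ := (hmk _ _).mp h
    apply hb
    have := congrArg θ.symm hθ
    simpa using this
  have hab' : mk a ≠ mk b := by
    intro h; obtain ⟨θ, hθ⟩ := (hmk _ _).mp h
    exact hab θ hθ
  have hcard : ({mk 1, mk a, mk b} : Finset _).card = 3 := by
    rw [Finset.card_insert_of_notMem, Finset.card_insert_of_notMem, Finset.card_singleton]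
    · simpa using hab'
    · simp [h1a, h1b]
  have huniv : ({mk 1, mk a, mk b} : Finset _) = Finset.univ := by
    apply Finset.eq_univ_of_card
    rw [hcard, ← Nat.card_eq_fintype_card, h3]
  have hg : mk g ∈ ({mk 1, mk a, mk b} : Finset _) := by rw [huniv]; exact Finset.mem_univ _
  simp only [Finset.mem_insert, Finset.mem_singleton] at hg
  rcases hg with hg | hg | hg
  · left
    obtain ⟨θ, hθ⟩ := (hmk _ _).mp hg
    rw [← hθ]; simp
  · right; left
    obtain ⟨θ, hθ⟩ := (hmk _ _).mp hg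
    exact ⟨θ, hθ⟩
  · right; right
    obtain ⟨θ, hθ⟩ := (hmk _ _).mp hg
    exact ⟨θ, hθ⟩


theorem forward_core {p q : ℕ} [hp : Fact p.Prime] [hq : Fact q.Prime] (hpq : p ≠ q)
    (a b : G) (ha : orderOf a = p) (hb : orderOf b = q)
    (horb : ∀ g : G, g = 1 ∨ (∃ θ : MulAut G, θ a = g) ∨ (∃ θ : MulAut G, θ b = g))
    (A : Subgroup G) [hAchar : A.Characteristic] (hAcomm : ∀ x ∈ A, ∀ y ∈ A, x * y = y * x)
    (x : G) (hxA : x ∈ A) (hx : orderOf x = p)
    (hcard : ∃ α β : ℕ, Nat.card G = p ^ α * q ^ β) :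
    ∃ n : ℕ, 1 ≤ n ∧ Nat.card G = p ^ n * q ∧
      (∀ P : Sylow p G, (P : Subgroup G).Normal ∧ Cfsg.IsElementaryAbelian p (P : Subgroup G)) ∧
      orderOf (p : ZMod q) = q - 1 ∧
      ∀ x y : G, orderOf x = q → orderOf y = p → x * y * x⁻¹ ≠ y := by
  classical
  have hp1 : p ≠ 1 := hp.out.ne_one
  have hq1 : q ≠ 1 := hq.out.ne_one
  have hp2 : 2 ≤ p := hp.out.two_le
  have hq2 : 2 ≤ q := hq.out.two_le
  have hord : ∀ g : G, orderOf g = 1 ∨ orderOf g = p ∨ orderOf g = q := by
    intro g
    rcases horb g with rfl | ⟨θ, rfl⟩ | ⟨θ, rfl⟩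
    · left; simp
    · right; left; rw [MulEquiv.orderOf_eq]; exact ha
    · right; right; rw [MulEquiv.orderOf_eq]; exact hb
  have horbp : ∀ g : G, orderOf g = p → ∃ θ : MulAut G, θ a = g := by
    intro g hg
    rcases horb g with rfl | h | ⟨θ, rfl⟩
    · rw [orderOf_one] at hg; exact absurd hg.symm hp1
    · exact h
    · rw [MulEquiv.orderOf_eq, hb] at hg; exact absurd hg.symm hpq
  have horbq : ∀ g : G, orderOf g = q → ∃ θ : MulAut G, θ b = g := by
    intro g hg
    rcases horb g with rfl | ⟨θ, rfl⟩ | h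
    · rw [orderOf_one] at hg; exact absurd hg.symm hq1
    · rw [MulEquiv.orderOf_eq, ha] at hg; exact absurd hg hpq
    · exact h
  have hAmem : ∀ g : G, orderOf g = p → g ∈ A := by
    intro g hg
    obtain ⟨θ₁, h1⟩ := horbp g hg
    obtain ⟨θ₂, h2⟩ := horbp x hx
    have hgx : g = (θ₁ * θ₂⁻¹) x := by
      rw [MulAut.mul_apply, ← h2, MulAut.inv_apply_self, h1]
    have hmap := (Subgroup.characteristic_iff_map_eq.mp hAchar) (θ₁ * θ₂⁻¹)
    rw [hgx, ← hmap]
    exact Subgroup.mem_map_of_mem _ hxA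
  let P : Subgroup G :=
    { carrier := {g | g ∈ A ∧ g ^ p = 1}
      mul_mem' := fun {u v} hu hv => ⟨A.mul_mem hu.1 hv.1, by
        rw [(show Commute u v from hAcomm u hu.1 v hv.1).mul_pow, hu.2, hv.2, one_mul]⟩
      one_mem' := ⟨A.one_mem, one_pow _⟩
      inv_mem' := fun {u} hu => ⟨A.inv_mem hu.1, by rw [inv_pow, hu.2, inv_one]⟩ }
  have hPmem' : ∀ g, g ∈ P ↔ g ^ p = 1 := by
    intro g; constructor
    · exact fun h => h.2
    · intro h
      by_cases hg1 : g = 1
      · rw [hg1]; exact P.one_mem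
      · have hgp : orderOf g = p := by
          have hdvd := orderOf_dvd_of_pow_eq_one h
          rcases (Nat.dvd_prime hp.out).mp hdvd with h1 | h1
          · exact absurd (orderOf_eq_one_iff.mp h1) hg1
          · exact h1
        exact ⟨hAmem g hgp, h⟩
  have hPorder : ∀ g ∈ P, g ≠ 1 → orderOf g = p := by
    intro g hg hg1
    have hdvd := orderOf_dvd_of_pow_eq_one ((hPmem' g).mp hg)
    rcases (Nat.dvd_prime hp.out).mp hdvd with h1 | h1
    · exact absurd (orderOf_eq_one_iff.mp h1) hg1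
    · exact h1
  haveI hPn : P.Normal :=
    ⟨fun g hg h => (hPmem' _).mpr (by rw [conj_pow, (hPmem' g).mp hg]; simp)⟩
  haveI hPc : IsMulCommutative P :=
    IsMulCommutative.of_comm fun u v => Subtype.ext (hAcomm u u.2.1 v v.2.1)
  have hexp : ∀ v ∈ P, v ^ p = 1 := fun v hv => hv.2
  have hPp : IsPGroup p P := fun g =>
    ⟨1, by rw [pow_one]; exact Subtype.ext (by rw [Subgroup.coe_pow]; exact g.2.2)⟩
  have hSle : ∀ S : Sylow p G, (S : Subgroup G) ≤ P := by
    intro S g hg
    rw [hPmem']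
    obtain ⟨k, hk⟩ := S.isPGroup' ⟨g, hg⟩
    have hk' : g ^ (p ^ k) = 1 := by simpa using congrArg Subtype.val hk
    rcases hord g with h1 | h1 | h1
    · rw [orderOf_eq_one_iff.mp h1]; exact one_pow _
    · rw [← h1]; exact pow_orderOf_eq_one g
    · exfalso
      have h2 : q ∣ p ^ k := by rw [← h1]; exact orderOf_dvd_of_pow_eq_one hk'
      have h3 := (Nat.prime_dvd_prime_iff_eq hq.out hp.out).mp (hq.out.dvd_of_dvd_pow h2)
      exact hpq h3.symm
  have hSeq : ∀ S : Sylow p G, (S : Subgroup G) = P := by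
    intro S
    obtain ⟨S', hS'⟩ := hPp.exists_le_sylow
    have h1 : (S' : Subgroup G) = P := le_antisymm (hSle S') hS'
    have hcardeq : Nat.card (S : Subgroup G) = Nat.card (S' : Subgroup G) := by
      rw [Sylow.card_eq_multiplicity, Sylow.card_eq_multiplicity]
    apply Subgroup.eq_of_le_of_card_ge (hSle S)
    rw [← h1, hcardeq]
  have hfpf : ∀ u v : G, orderOf u = q → orderOf v = p → u * v * u⁻¹ ≠ v := by
    intro u v hu hv h
    have hc : Commute u v := by
      show u * v = v * u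
      calc u * v = (u * v * u⁻¹) * u := by group
        _ = v * u := by rw [h]
    have h1 := hc.orderOf_mul_eq_mul_orderOf_of_coprime
      (by rw [hu, hv]; exact (Nat.coprime_primes hq.out hp.out).mpr hpq.symm)
    rw [hu, hv] at h1
    rcases hord (u * v) with h2 | h2 | h2 <;> rw [h2] at h1
    · nlinarith
    · nlinarith
    · nlinarith
  obtain ⟨α, β, hαβ⟩ := hcard
  have hqdvd : q ∣ Nat.card G := by rw [← hb]; exact orderOf_dvd_natCard b
  have hpdvd : p ∣ Nat.card G := by rw [← ha]; exact orderOf_dvd_natCard a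
  have hβ1 : 1 ≤ β := by
    by_contra h
    have h0 : β = 0 := by omega
    rw [h0, pow_zero, mul_one] at hαβ
    rw [hαβ] at hqdvd
    exact hpq ((Nat.prime_dvd_prime_iff_eq hq.out hp.out).mp (hq.out.dvd_of_dvd_pow hqdvd)).symm
  have hα1 : 1 ≤ α := by
    by_contra h
    have h0 : α = 0 := by omega
    rw [h0, pow_zero, one_mul] at hαβ
    rw [hαβ] at hpdvd
    exact hpq ((Nat.prime_dvd_prime_iff_eq hp.out hq.out).mp (hp.out.dvd_of_dvd_pow hpdvd))
  have haP : a ∈ P := (hPmem' a).mpr (by rw [← ha]; exact pow_orderOf_eq_one a)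
  have ha1 : a ≠ 1 := by
    rintro rfl; rw [orderOf_one] at ha; exact hp1 ha.symm
  have hP_ne : P ≠ ⊥ := by
    intro h0
    rw [h0, Subgroup.mem_bot] at haP
    exact ha1 haP
  have hβ2 : β < 2 := by
    by_contra h
    have h2 : q ^ 2 ∣ Nat.card G := by
      rw [hαβ]; exact Dvd.dvd.mul_left (pow_dvd_pow q (by omega)) _
    obtain ⟨E, hE⟩ := Sylow.exists_subgroup_card_pow_prime q h2
    have hEcyc : IsCyclic E := by
      refine Cfsg.Agent.S0041.result E P hP_ne
        (by rw [Subgroup.normalizer_eq_top]; exact le_top) ?_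
        (Or.inr ⟨q, q, hq.out, hq.out, by rw [hE, sq]⟩)
      intro e he he1
      rw [eq_bot_iff]
      intro v hv
      rw [Subgroup.mem_inf, Subgroup.mem_centralizer_iff] at hv
      rw [Subgroup.mem_bot]
      by_contra hv1
      have hvp : orderOf v = p := hPorder v hv.1 hv1
      have heq : orderOf e = q := by
        have hdvd : orderOf e ∣ q ^ 2 := by
          rw [← hE]
          have := orderOf_dvd_natCard (⟨e, he⟩ : E)
          rwa [Subgroup.orderOf_mk] at this
        rcases hord e with h1 | h1 | h1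
        · exact absurd (orderOf_eq_one_iff.mp h1) he1
        · rw [h1] at hdvd
          exact absurd ((Nat.prime_dvd_prime_iff_eq hp.out hq.out).mp
            (hp.out.dvd_of_dvd_pow hdvd)) hpq
        · exact h1
      have hcomm : e * v * e⁻¹ = v := by
        have h3 := hv.2 e (Set.mem_singleton e)
        rw [h3]; group
      exact hfpf e v heq hvp hcomm
    obtain ⟨g, hg⟩ := IsCyclic.exists_generator (α := E)
    have ho : orderOf g = q ^ 2 := by rw [orderOf_eq_card_of_forall_mem_zpowers hg, hE]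
    have ho' : orderOf (g : G) = q ^ 2 := by rw [← ho]; exact Subgroup.orderOf_coe g
    rcases hord (g : G) with h1 | h1 | h1 <;> rw [h1] at ho'
    · nlinarith
    · have : q ∣ p := by rw [ho']; exact dvd_pow_self q (by norm_num)
      exact hpq ((Nat.prime_dvd_prime_iff_eq hq.out hp.out).mp this).symm
    · nlinarith
  have hβeq : β = 1 := by omega
  rw [hβeq, pow_one] at hαβ
  -- the element b
  have hb1 : b ≠ 1 := by
    rintro rfl; rw [orderOf_one] at hb; exact hq1 hb.symm
  have hbq : b ^ q = 1 := by rw [← hb]; exact pow_orderOf_eq_one b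
  have hbP : b ∉ P := by
    intro h
    have h1 := orderOf_dvd_of_pow_eq_one ((hPmem' b).mp h)
    rw [hb] at h1
    exact hpq ((Nat.prime_dvd_prime_iff_eq hq.out hp.out).mp h1).symm
  have hcardP : Nat.card P = p ^ α := by
    have S : Sylow p G := default
    rw [← hSeq S, Sylow.card_eq_multiplicity, hαβ]
    congr 1
    rw [Nat.factorization_mul (pow_ne_zero _ hp.out.ne_zero) hq.out.ne_zero,
      hp.out.factorization_pow, hq.out.factorization]
    simp [hpq.symm]
  have hcompl : P.IsComplement' (Subgroup.zpowers b) := by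
    apply Subgroup.isComplement'_of_coprime
    · rw [hcardP, Nat.card_zpowers, hb, hαβ]
    · rw [hcardP, Nat.card_zpowers, hb]
      exact Nat.Coprime.pow_left _ ((Nat.coprime_primes hp.out hq.out).mpr hpq)
  refine ⟨α, hα1, hαβ, ?_, ?_, hfpf⟩
  · intro S
    rw [hSeq S]
    exact ⟨hPn, hPc, hexp⟩
  -- primitive root
  letI := SemiAut.zmodModule P p hexp
  have hθP : ∀ (θ : MulAut G) (x : G), θ x ∈ P ↔ x ∈ P := by
    intro θ x
    rw [hPmem', hPmem', ← map_pow]
    constructor
    · intro h; exact θ.injective (by rw [h, map_one])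
    · intro h; rw [h, map_one]
  haveI : Nontrivial (Additive P) :=
    ⟨⟨Additive.ofMul ⟨a, haP⟩, 0, fun h => ha1 (congrArg (fun t : Additive P =>
      ((Additive.toMul t : P) : G)) h)⟩⟩
  refine CycMod.orderOf_eq_of_transitive hpq (SemiAut.cAdd P b) ?_ ?_ ?_ ?_
  · intro x
    rw [SemiAut.cAdd_iterate, hbq, map_one]; rfl
  · intro x hx
    by_contra h0
    have hv1 : ((Additive.toMul x : P) : G) ≠ 1 := by
      intro h1
      apply h0
      have : Additive.toMul x = (1 : P) := Subtype.ext h1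
      exact this
    have hvp := hPorder _ (Additive.toMul x : P).2 hv1
    rw [SemiAut.cAdd_apply] at hx
    have h2 := congrArg (fun t : Additive P => ((Additive.toMul t : P) : G)) hx
    simp only [toMul_ofMul, MulAut.conjNormal_apply] at h2
    exact hfpf b _ hb hvp h2
  · intro v w hv hw
    have hv1 : ((Additive.toMul v : P) : G) ≠ 1 := by
      intro h1; apply hv
      have : Additive.toMul v = (1 : P) := Subtype.ext h1
      exact this
    have hw1 : ((Additive.toMul w : P) : G) ≠ 1 := by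
      intro h1; apply hw
      have : Additive.toMul w = (1 : P) := Subtype.ext h1
      exact this
    obtain ⟨θ₁, h1⟩ := horbp _ (hPorder _ (Additive.toMul v : P).2 hv1)
    obtain ⟨θ₂, h2⟩ := horbp _ (hPorder _ (Additive.toMul w : P).2 hw1)
    set θ : MulAut G := θ₂ * θ₁⁻¹ with hθ
    have hθv : θ ((Additive.toMul v : P) : G) = ((Additive.toMul w : P) : G) := by
      rw [hθ, MulAut.mul_apply, ← h1, MulAut.inv_apply_self, h2]
    obtain ⟨u, hu, k, hk⟩ := SemiAut.exists_decomp P b hcompl (θ b)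
    have hqk : ¬ q ∣ k := by
      intro hdvd
      have : b ^ k = 1 := by rw [← hb] at hdvd; exact orderOf_dvd_iff_pow_eq_one.mp hdvd
      rw [this, mul_one] at hk
      rw [← hk] at hu
      exact hbP ((hθP θ b).mp hu)
    refine ⟨SemiAut.restr P θ (hθP θ), k, SemiAut.restr_bijective P θ _, hqk,
      SemiAut.restr_twist P b θ _ u hu k hk, ?_⟩
    rw [SemiAut.restr_apply]
    have : (⟨θ ((Additive.toMul v : P) : G), (hθP θ _).mpr (Additive.toMul v).2⟩ : P) =
        Additive.toMul w := Subtype.ext hθv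
    rw [this]; rfl
  · intro k hk0 hkq
    have hcop : (orderOf b).Coprime k := by
      rw [hb]; exact (Nat.Prime.coprime_iff_not_dvd hq.out).mpr (Nat.not_dvd_of_pos_of_lt hk0 hkq)
    have hok : orderOf (b ^ k) = q := by rw [hcop.orderOf_pow, hb]
    obtain ⟨θ, hθ⟩ := horbq _ hok
    exact ⟨SemiAut.restr P θ (hθP θ), SemiAut.restr_bijective P θ _,
      SemiAut.restr_twist P b θ _ 1 P.one_mem k (by rw [hθ, one_mul])⟩


theorem forward (hnpp : ¬ IsPrimePow (Nat.card G)) (hnt : Nat.card G ≠ 1)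
    (h3 : Nat.card (MulAction.orbitRel.Quotient (MulAut G) G) = 3) :
    ∃ (p q n : ℕ) (_ : Fact p.Prime) (_ : Fact q.Prime), p ≠ q ∧ 1 ≤ n ∧ Nat.card G = p ^ n * q ∧
      (∀ P : Sylow p G, (P : Subgroup G).Normal ∧ Cfsg.IsElementaryAbelian p (P : Subgroup G)) ∧
      orderOf (p : ZMod q) = q - 1 ∧
      ∀ x y : G, orderOf x = q → orderOf y = p → x * y * x⁻¹ ≠ y := by
  classical
  have h0 : Nat.card G ≠ 0 := Nat.card_pos.ne'
  obtain ⟨p₀, hp₀, hp₀dvd⟩ := Nat.exists_prime_and_dvd hnt
  have hex : ∃ q₀ : ℕ, q₀.Prime ∧ q₀ ∣ Nat.card G ∧ p₀ ≠ q₀ := by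
    by_contra hcon
    apply hnpp
    rw [isPrimePow_iff_unique_prime_dvd]
    refine ⟨p₀, ⟨hp₀, hp₀dvd⟩, ?_⟩
    rintro r ⟨hr, hrdvd⟩
    by_contra hne
    exact hcon ⟨r, hr, hrdvd, fun h => hne h.symm⟩
  obtain ⟨q₀, hq₀, hq₀dvd, hpq⟩ := hex
  haveI hpF : Fact p₀.Prime := ⟨hp₀⟩
  haveI hqF : Fact q₀.Prime := ⟨hq₀⟩
  obtain ⟨a, ha⟩ := exists_prime_orderOf_dvd_card' p₀ hp₀dvd
  obtain ⟨b, hb⟩ := exists_prime_orderOf_dvd_card' q₀ hq₀dvd
  have ha1 : a ≠ 1 := by
    rintro rfl; rw [orderOf_one] at ha; exact hp₀.ne_one ha.symm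
  have hb1 : b ≠ 1 := by
    rintro rfl; rw [orderOf_one] at hb; exact hq₀.ne_one hb.symm
  have hab : ∀ θ : MulAut G, θ b ≠ a := by
    intro θ h
    have h1 : orderOf (θ b) = orderOf a := by rw [h]
    rw [MulEquiv.orderOf_eq, ha, hb] at h1
    exact hpq h1.symm
  have horb := orbit_trichotomy h3 a b ha1 hb1 hab
  have horb' : ∀ g : G, g = 1 ∨ (∃ θ : MulAut G, θ b = g) ∨ (∃ θ : MulAut G, θ a = g) := by
    intro g
    rcases horb g with h | h | h
    · exact Or.inl h
    · exact Or.inr (Or.inr h)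
    · exact Or.inr (Or.inl h)
  have hord : ∀ g : G, orderOf g = 1 ∨ orderOf g = p₀ ∨ orderOf g = q₀ := by
    intro g
    rcases horb g with rfl | ⟨θ, rfl⟩ | ⟨θ, rfl⟩
    · left; simp
    · right; left; rw [MulEquiv.orderOf_eq]; exact ha
    · right; right; rw [MulEquiv.orderOf_eq]; exact hb
  have hprimes : ∀ r : ℕ, r.Prime → r ∣ Nat.card G → r = p₀ ∨ r = q₀ := by
    intro r hr hrdvd
    haveI : Fact r.Prime := ⟨hr⟩
    obtain ⟨c, hc⟩ := exists_prime_orderOf_dvd_card' r hrdvd
    rcases hord c with h | h | h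
    · rw [hc] at h; exact absurd h hr.ne_one
    · left; rw [← hc, h]
    · right; rw [← hc, h]
  have hcard : Nat.card G = p₀ ^ ((Nat.card G).factorization p₀) *
      q₀ ^ ((Nat.card G).factorization q₀) := by
    have hsub : (Nat.card G).factorization.support ⊆ ({p₀, q₀} : Finset ℕ) := by
      intro r hr
      rw [Nat.support_factorization, Nat.mem_primeFactors] at hr
      rcases hprimes r hr.1 hr.2.1 with h | h
      · rw [h]; simp
      · rw [h]; simp
    have h1 := Nat.factorization_prod_pow_eq_self h0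
    rw [Finsupp.prod_of_support_subset _ hsub _ (by intros; simp), Finset.prod_pair hpq] at h1
    exact h1.symm
  haveI hsolv : Group.IsSolvable G :=
    Cfsg.Agent.Lib.Helper2.isSolvable_of_card_eq_prime_pow_mul_prime_pow p₀ q₀ hp₀ hq₀
      (Nat.card G) G rfl ⟨_, _, hcard⟩
  -- last nontrivial term of the derived series
  have hsol := (Group.isSolvable_def G).mp hsolv
  have hntG : Nontrivial G := by
    rw [← Finite.one_lt_card_iff_nontrivial]
    omega
  have hfind0 : Nat.find hsol ≠ 0 := by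
    intro h
    have h1 := Nat.find_spec hsol
    rw [h, derivedSeries_zero] at h1
    exact top_ne_bot h1
  obtain ⟨m, hm⟩ := Nat.exists_eq_succ_of_ne_zero hfind0
  have hAne : derivedSeries G m ≠ ⊥ := by
    intro h
    have := Nat.find_min' hsol h
    omega
  have hAcomm : ∀ x ∈ derivedSeries G m, ∀ y ∈ derivedSeries G m, x * y = y * x := by
    have h1 := Nat.find_spec hsol
    rw [hm, derivedSeries_succ, Subgroup.commutator_eq_bot_iff_le_centralizer] at h1
    intro x hx y hy
    have := h1 hy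
    rw [Subgroup.mem_centralizer_iff] at this
    exact this x hx
  obtain ⟨x, hx1⟩ := (Subgroup.ne_bot_iff_exists_ne_one.mp hAne)
  have hx1' : (x : G) ≠ 1 := fun h => hx1 (Subtype.ext h)
  rcases hord (x : G) with h | h | h
  · exact absurd (orderOf_eq_one_iff.mp h) hx1'
  · obtain ⟨n, hn1, hn2, hn3, hn4, hn5⟩ :=
      forward_core (p := p₀) (q := q₀) hpq a b ha hb horb (derivedSeries G m) hAcomm
        (x : G) x.2 h ⟨_, _, hcard⟩
    exact ⟨p₀, q₀, n, hpF, hqF, hpq, hn1, hn2, hn3, hn4, hn5⟩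
  · obtain ⟨n, hn1, hn2, hn3, hn4, hn5⟩ :=
      forward_core (p := q₀) (q := p₀) hpq.symm b a hb ha horb' (derivedSeries G m) hAcomm
        (x : G) x.2 h ⟨_, _, by rw [mul_comm]; exact hcard⟩
    exact ⟨q₀, p₀, n, hqF, hpF, hpq.symm, hn1, hn2, hn3, hn4, hn5⟩

end Forward

section Backward

variable {G : Type*} [Group G] [Finite G]

/-- The orbit of an element, as an element of the orbit quotient. -/
def omk (g : G) : MulAction.orbitRel.Quotient (MulAut G) G := Quotient.mk'' g

omit [Finite G] in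
theorem omk_eq_iff (x y : G) : omk x = omk y ↔ ∃ θ : MulAut G, θ y = x := by
  unfold omk
  rw [Quotient.eq'', MulAction.orbitRel_apply, MulAction.mem_orbit_iff]
  constructor
  · rintro ⟨θ, hθ⟩; exact ⟨θ, by rw [← hθ]; rfl⟩
  · rintro ⟨θ, hθ⟩; exact ⟨θ, by rw [← hθ]; rfl⟩

omit [Finite G] in
theorem omk_surj (x : MulAction.orbitRel.Quotient (MulAut G) G) : ∃ g : G, omk g = x := by
  induction x using Quotient.inductionOn' with
  | h g => exact ⟨g, rfl⟩

theorem backward_core {p q n : ℕ} [hp : Fact p.Prime] [hq : Fact q.Prime] (hpq : p ≠ q)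
    (hn : 1 ≤ n) (hcard : Nat.card G = p ^ n * q)
    (P : Subgroup G) [hPn : P.Normal] [IsMulCommutative P] (hexp : ∀ v ∈ P, v ^ p = 1)
    (hcardP : Nat.card P = p ^ n)
    (hPchar : ∀ (θ : MulAut G) (x : G), θ x ∈ P ↔ x ∈ P)
    (hord : orderOf (p : ZMod q) = q - 1)
    (hfpf : ∀ x y : G, orderOf x = q → orderOf y = p → x * y * x⁻¹ ≠ y) :
    Nat.card (MulAction.orbitRel.Quotient (MulAut G) G) = 3 := by
  classical
  have hp1 : p ≠ 1 := hp.out.ne_one
  have hq1 : q ≠ 1 := hq.out.ne_one
  have hPorder : ∀ g ∈ P, g ≠ 1 → orderOf g = p := by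
    intro g hg hg1
    have hdvd := orderOf_dvd_of_pow_eq_one (hexp g hg)
    rcases (Nat.dvd_prime hp.out).mp hdvd with h1 | h1
    · exact absurd (orderOf_eq_one_iff.mp h1) hg1
    · exact h1
  obtain ⟨b, hb⟩ := exists_prime_orderOf_dvd_card' (G := G) q
    (by rw [hcard]; exact dvd_mul_left _ _)
  have hb1 : b ≠ 1 := by
    rintro rfl; rw [orderOf_one] at hb; exact hq1 hb.symm
  have hbq : b ^ q = 1 := by rw [← hb]; exact pow_orderOf_eq_one b
  have hbP : b ∉ P := by
    intro h
    have h1 := orderOf_dvd_of_pow_eq_one (hexp b h)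
    rw [hb] at h1
    exact hpq ((Nat.prime_dvd_prime_iff_eq hq.out hp.out).mp h1).symm
  have hcompl : P.IsComplement' (Subgroup.zpowers b) := by
    apply Subgroup.isComplement'_of_coprime
    · rw [hcardP, Nat.card_zpowers, hb, hcard]
    · rw [hcardP, Nat.card_zpowers, hb]
      exact Nat.Coprime.pow_left _ ((Nat.coprime_primes hp.out hq.out).mpr hpq)
  letI := SemiAut.zmodModule P p hexp
  have hc : ∀ x, (SemiAut.cAdd P b)^[q] x = x := by
    intro x
    rw [SemiAut.cAdd_iterate, hbq, map_one]; rfl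
  have hfp : ∀ x, SemiAut.cAdd P b x = x → x = 0 := by
    intro x hx
    by_contra h0
    have hv1 : ((Additive.toMul x : P) : G) ≠ 1 := by
      intro h1
      apply h0
      have : Additive.toMul x = (1 : P) := Subtype.ext h1
      exact this
    have hvp := hPorder _ (Additive.toMul x : P).2 hv1
    rw [SemiAut.cAdd_apply] at hx
    have h2 := congrArg (fun t : Additive P => ((Additive.toMul t : P) : G)) hx
    simp only [toMul_ofMul, MulAut.conjNormal_apply] at h2
    exact hfpf b _ hb hvp h2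
  obtain ⟨Htrans, Htwist⟩ := CycMod.converse_main hpq hord (SemiAut.cAdd P b) hc hfp
  -- transitivity on `P \ 1`
  have hT1 : ∀ v w : G, v ∈ P → w ∈ P → v ≠ 1 → w ≠ 1 → ∃ θ : MulAut G, θ v = w := by
    intro v w hv hw hv1 hw1
    obtain ⟨ψ, hψ, hψv⟩ := Htrans (Additive.ofMul (⟨v, hv⟩ : P)) (Additive.ofMul (⟨w, hw⟩ : P))
      (fun h => hv1 (congrArg (fun t : Additive P => ((Additive.toMul t : P) : G)) h))
      (fun h => hw1 (congrArg (fun t : Additive P => ((Additive.toMul t : P) : G)) h))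
    obtain ⟨θ, hθ, -⟩ := SemiAut.exists_aut_of_twist P b hb hcompl ψ 1
      (fun h => hq1 (Nat.dvd_one.mp h))
      (by intro x; rw [Function.iterate_one]; exact hψ x)
    refine ⟨θ, ?_⟩
    have h1 := hθ ⟨v, hv⟩
    rw [hψv] at h1
    exact h1
  -- transitivity outside `P`
  have hT2 : ∀ g : G, g ∉ P → ∃ θ : MulAut G, θ b = g := by
    intro g hg
    obtain ⟨v, hv, i, hi⟩ := SemiAut.exists_decomp P b hcompl g
    have hqi : ¬ q ∣ i := by
      intro hdvd
      have : b ^ i = 1 := by rw [← hb] at hdvd; exact orderOf_dvd_iff_pow_eq_one.mp hdvd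
      rw [this, mul_one] at hi
      rw [hi] at hg
      exact hg hv
    obtain ⟨φ, hφ⟩ := Htwist i hqi
    obtain ⟨θ₁, -, hθ₁⟩ := SemiAut.exists_aut_of_twist P b hb hcompl φ i hqi hφ
    have hcop : (orderOf b).Coprime i := by
      rw [hb]; exact (Nat.Prime.coprime_iff_not_dvd hq.out).mpr hqi
    have hoi : orderOf (b ^ i) = q := by rw [hcop.orderOf_pow, hb]
    let T : P → P := fun t => t * (MulAut.conjNormal (b ^ i) t)⁻¹
    have hTinj : Function.Injective T := by
      intro s t hst
      have hst' : s * (MulAut.conjNormal (b ^ i) s)⁻¹ = t * (MulAut.conjNormal (b ^ i) t)⁻¹ := hst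
      have hd : MulAut.conjNormal (b ^ i) (t⁻¹ * s) = t⁻¹ * s := by
        rw [map_mul, map_inv]
        calc (MulAut.conjNormal (b ^ i) t)⁻¹ * MulAut.conjNormal (b ^ i) s
            = t⁻¹ * (t * (MulAut.conjNormal (b ^ i) t)⁻¹) * MulAut.conjNormal (b ^ i) s := by
              group
          _ = t⁻¹ * (s * (MulAut.conjNormal (b ^ i) s)⁻¹) * MulAut.conjNormal (b ^ i) s := by
              rw [hst']
          _ = t⁻¹ * s := by group
      by_contra hne
      have hd1 : ((t⁻¹ * s : P) : G) ≠ 1 := by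
        intro h1
        apply hne
        have h2 : t⁻¹ * s = 1 := Subtype.ext h1
        have h3 : s = t * (t⁻¹ * s) := by group
        rw [h3, h2, mul_one]
      have h4 := hfpf (b ^ i) _ hoi (hPorder _ (t⁻¹ * s : P).2 hd1)
      apply h4
      have h5 := congrArg Subtype.val hd
      rw [MulAut.conjNormal_apply] at h5
      exact h5
    have hTsurj := Finite.injective_iff_surjective.mp hTinj
    obtain ⟨t, ht⟩ := hTsurj ⟨v, hv⟩
    refine ⟨MulAut.conj (t : G) * θ₁, ?_⟩
    rw [MulAut.mul_apply, hθ₁, MulAut.conj_apply, hi]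
    have h1 : (t : G) * ((b ^ i) * (t : G) * (b ^ i)⁻¹)⁻¹ = v := by
      have h2 := congrArg Subtype.val ht
      simp only [T, Subgroup.coe_mul, Subgroup.coe_inv, MulAut.conjNormal_apply] at h2
      exact h2
    rw [← h1]; group
  -- a nontrivial element of `P`
  obtain ⟨a, haP, ha1⟩ : ∃ a ∈ P, a ≠ 1 := by
    have h1 : 1 < Nat.card P := by
      rw [hcardP]; exact Nat.one_lt_pow (by omega) hp.out.one_lt
    haveI : Nontrivial P := Finite.one_lt_card_iff_nontrivial.mp h1
    obtain ⟨a, ha⟩ := exists_ne (1 : P)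
    exact ⟨a, a.2, fun h => ha (Subtype.ext h)⟩
  haveI := Fintype.ofFinite (MulAction.orbitRel.Quotient (MulAut G) G)
  have huniv : (Finset.univ : Finset (MulAction.orbitRel.Quotient (MulAut G) G)) =
      {omk 1, omk a, omk b} := by
    ext x
    simp only [Finset.mem_univ, true_iff, Finset.mem_insert, Finset.mem_singleton]
    obtain ⟨g, rfl⟩ := omk_surj x
    by_cases hg1 : g = 1
    · left; rw [hg1]
    · by_cases hgP : g ∈ P
      · right; left
        obtain ⟨θ, hθ⟩ := hT1 a g haP hgP ha1 hg1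
        exact (omk_eq_iff _ _).mpr ⟨θ, hθ⟩
      · right; right
        obtain ⟨θ, hθ⟩ := hT2 g hgP
        exact (omk_eq_iff _ _).mpr ⟨θ, hθ⟩
  rw [Nat.card_eq_fintype_card, ← Finset.card_univ, huniv, Finset.card_insert_of_notMem,
    Finset.card_insert_of_notMem, Finset.card_singleton]
  · rw [Finset.mem_singleton]
    intro h
    obtain ⟨θ, hθ⟩ := (omk_eq_iff _ _).mp h
    apply hbP
    rw [← hPchar θ b, hθ]; exact haP
  · simp only [Finset.mem_insert, Finset.mem_singleton]
    rintro (h | h)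
    · obtain ⟨θ, hθ⟩ := (omk_eq_iff _ _).mp h
      apply ha1
      have := congrArg θ.symm hθ
      simpa using this
    · obtain ⟨θ, hθ⟩ := (omk_eq_iff _ _).mp h
      apply hb1
      have := congrArg θ.symm hθ
      simpa using this

end Backward

/-- Let G be a finite group whose order is not a prime power. Then the automorphism group of G has exactly three orbits on G if and only if there are distinct primes p, q with #G = pⁿ·q (n ≥ 1) such that G has a normal elementary abelian Sylow p-subgroup P, p is a primitive root modulo q (the multiplicative order of p mod q is q − 1), and every element of order q of G acts on P without non-identity fixed points. -/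
theorem result {G : Type*} [Group G] [Finite G] (hnpp : ¬ IsPrimePow (Nat.card G)) (hnt : Nat.card G ≠ 1) :
    Nat.card (MulAction.orbitRel.Quotient (MulAut G) G) = 3 ↔
    ∃ (p q n : ℕ) (_ : Fact p.Prime) (_ : Fact q.Prime), p ≠ q ∧ 1 ≤ n ∧ Nat.card G = p ^ n * q ∧
      (∀ P : Sylow p G, (P : Subgroup G).Normal ∧ Cfsg.IsElementaryAbelian p (P : Subgroup G)) ∧
      orderOf (p : ZMod q) = q - 1 ∧
      ∀ x y : G, orderOf x = q → orderOf y = p → x * y * x⁻¹ ≠ y := by
  constructor
  · exact forward hnpp hnt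
  · rintro ⟨p, q, n, hpF, hqF, hpq, hn, hcard, hSyl, hord, hfpf⟩
    obtain ⟨hSn, hScomm, hSexp⟩ := hSyl default
    haveI := hSn
    haveI := hScomm
    have hchar : ((default : Sylow p G) : Subgroup G).Characteristic :=
      Sylow.characteristic_of_normal (default : Sylow p G) hSn
    refine backward_core hpq hn hcard ((default : Sylow p G) : Subgroup G) hSexp ?_ ?_ hord hfpf
    · rw [Sylow.card_eq_multiplicity, hcard]
      congr 1
      rw [Nat.factorization_mul (pow_ne_zero _ hpF.out.ne_zero) hqF.out.ne_zero,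
        hpF.out.factorization_pow, hqF.out.factorization]
      simp [hpq.symm]
    · intro θ x
      have h1 := Subgroup.characteristic_iff_comap_eq.mp hchar θ
      conv_rhs => rw [← h1]
      rfl

end Cfsg.Agent.S4081
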