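import Mathlib
import Cfsg.Statements.S4082
import Cfsg.Agent.Lib.Helper9.Dih.Basic
import Cfsg.Agent.Lib.Helper10.DihedralRecog

set_option autoImplicit false
open Cfsg

namespace Cfsg.Agent.S4082

open Cfsg.Agent.Lib.Helper9.Dih
open scoped Pointwise

variable {G : Type*} [Group G] [Finite G] {p : ℕ} [Fact p.Prime]

/-- a normal `p`-subgroup lies in every Sylow `p`-subgroup -/
theorem normal_le_sylow {K : Type*} [Group K] [Finite K] (Q₀ : Subgroup K) [Q₀.Normal]
    (hQ₀ : IsPGroup p Q₀) (S : Sylow p K) : Q₀ ≤ S := by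
  obtain ⟨S', hS'⟩ := hQ₀.exists_le_sylow
  obtain ⟨g, hg⟩ := MulAction.exists_smul_eq K S' S
  intro x hx
  have h1 : g⁻¹ * x * g ∈ Q₀ := by
    have := (inferInstance : Q₀.Normal).conj_mem x hx g⁻¹
    simpa using this
  have h2 : g⁻¹ * x * g ∈ (S' : Subgroup K) := hS' h1
  have h3 := Subgroup.smul_mem_pointwise_smul _ (MulAut.conj g) (S' : Subgroup K) h2
  rw [← Sylow.pointwise_smul_def, ← Sylow.smul_def, hg] at h3
  have e : MulAut.conj g • (g⁻¹ * x * g) = x := by
    rw [MulAut.smul_def, MulAut.conj_apply]; group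
  rwa [e] at h3

/-- criterion for the two `p`-by-cyclic hypotheses -/
theorem hyps_of_normal {K : Type*} [Group K] [Finite K] (Q₀ : Subgroup K) [Q₀.Normal]
    (hQ₀ : IsPGroup p Q₀) (hcyc : IsCyclic (K ⧸ Q₀)) :
    (∀ S : Sylow p K, (S : Subgroup K).Normal) ∧
    (∀ (S : Sylow p K) [(S : Subgroup K).Normal], IsCyclic (K ⧸ (S : Subgroup K))) := by
  have hcomm : IsMulCommutative (K ⧸ Q₀) := IsCyclic.isMulCommutative
  have hle : commutator K ≤ Q₀ := Subgroup.Normal.quotient_commutative_iff_commutator_le.mp hcomm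
  constructor
  · intro S
    refine ⟨fun s hs h => ?_⟩
    have h1 : h * s * h⁻¹ * s⁻¹ ∈ (S : Subgroup K) := by
      apply normal_le_sylow Q₀ hQ₀ S
      apply hle
      rw [commutator_def]
      have := Subgroup.commutator_mem_commutator (Subgroup.mem_top h) (Subgroup.mem_top s)
      rwa [commutatorElement_def] at this
    have h2 := Subgroup.mul_mem _ h1 hs
    have e : h * s * h⁻¹ * s⁻¹ * s = h * s * h⁻¹ := by group
    rwa [e] at h2
  · intro S _
    have hQS : Q₀ ≤ Subgroup.comap (MonoidHom.id K) (S : Subgroup K) := by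
      intro x hx
      exact normal_le_sylow Q₀ hQ₀ S hx
    let f := QuotientGroup.map Q₀ (S : Subgroup K) (MonoidHom.id K) hQS
    have hf : Function.Surjective f := by
      intro y
      induction y using QuotientGroup.induction_on with | _ y => ?_
      exact ⟨QuotientGroup.mk y, rfl⟩
    exact isCyclic_of_surjective f hf

/-- cyclic quotient of `Q₁⟨x⟩` by `Q₁` -/
theorem quotient_cyclic (Q₁ : Subgroup G) (x : G) (hx : x ∈ Subgroup.normalizer (Q₁ : Set G))
    [(Q₁.subgroupOf (Q₁ ⊔ Subgroup.zpowers x)).Normal] :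
    IsCyclic (↥(Q₁ ⊔ Subgroup.zpowers x) ⧸ Q₁.subgroupOf (Q₁ ⊔ Subgroup.zpowers x)) := by
  have hle : Subgroup.zpowers x ≤ Subgroup.normalizer (Q₁ : Set G) := Subgroup.zpowers_le.mpr hx
  have hxH : x ∈ Q₁ ⊔ Subgroup.zpowers x := Subgroup.mem_sup_right (Subgroup.mem_zpowers x)
  refine ⟨⟨QuotientGroup.mk ⟨x, hxH⟩, fun y => ?_⟩⟩
  induction y using QuotientGroup.induction_on with | _ y => ?_
  have h1 : (y : G) ∈ ((Q₁ ⊔ Subgroup.zpowers x : Subgroup G) : Set G) := y.2
  rw [Subgroup.coe_mul_of_right_le_normalizer_left Q₁ (Subgroup.zpowers x) hle] at h1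
  obtain ⟨q, hq, z, hz, hqz⟩ := Set.mem_mul.mp h1
  obtain ⟨k, rfl⟩ := Subgroup.mem_zpowers_iff.mp hz
  refine ⟨k, ?_⟩
  show (QuotientGroup.mk ⟨x, hxH⟩ : _ ⧸ Q₁.subgroupOf (Q₁ ⊔ Subgroup.zpowers x)) ^ k = QuotientGroup.mk y
  rw [← QuotientGroup.mk_zpow, QuotientGroup.eq, Subgroup.mem_subgroupOf]
  have e : ((((⟨x, hxH⟩ : ↥(Q₁ ⊔ Subgroup.zpowers x)) ^ k)⁻¹ * y : ↥(Q₁ ⊔ Subgroup.zpowers x)) : G)
      = (x ^ k)⁻¹ * (y : G) := by simp
  rw [e, ← hqz]
  have hn : x ^ k ∈ Subgroup.normalizer (Q₁ : Set G) := Subgroup.zpow_mem _ hx k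
  have e2 : (x ^ k)⁻¹ * (q * x ^ k) = (x ^ k)⁻¹ * q * (x ^ k)⁻¹⁻¹ := by group
  rw [e2]
  exact (Subgroup.mem_normalizer_iff.mp (Subgroup.inv_mem _ hn) q).mp hq

/-- the restricted `p`-by-cyclic property -/
def Restr (p : ℕ) (G : Type*) [Group G] : Prop :=
  ∀ H : Subgroup G, (∀ S : Sylow p ↥H, (S : Subgroup ↥H).Normal) →
    (∀ (S : Sylow p ↥H) [(S : Subgroup ↥H).Normal], IsCyclic (↥H ⧸ (S : Subgroup ↥H))) →
    IsCyclic H ∨ (∃ n : ℕ, Nonempty (H ≃* DihedralGroup (p ^ n)))

theorem join_alt (hR : Restr p G) (Q₁ : Subgroup G) (hQ₁ : IsPGroup p Q₁) (x : G)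
    (hx : x ∈ Subgroup.normalizer (Q₁ : Set G)) :
    IsCyclic ↥(Q₁ ⊔ Subgroup.zpowers x) ∨
      ∃ n : ℕ, Nonempty (↥(Q₁ ⊔ Subgroup.zpowers x) ≃* DihedralGroup (p ^ n)) := by
  haveI : (Q₁.subgroupOf (Q₁ ⊔ Subgroup.zpowers x)).Normal :=
    Subgroup.normal_subgroupOf_of_le_normalizer
      (sup_le Subgroup.le_normalizer (Subgroup.zpowers_le.mpr hx))
  obtain ⟨h1, h2⟩ := hyps_of_normal (p := p) (Q₁.subgroupOf (Q₁ ⊔ Subgroup.zpowers x))
    (hQ₁.comap_subtype) (quotient_cyclic Q₁ x hx)
  exact hR _ h1 h2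

theorem odd_orderOf_of_mem (hp : p ≠ 2) {Q₁ : Subgroup G} (hQ₁ : IsPGroup p Q₁) {u : G}
    (hu : u ∈ Q₁) : orderOf u ≠ 2 := by
  intro h
  obtain ⟨k, hk⟩ := hQ₁ ⟨u, hu⟩
  have h1 : u ^ p ^ k = 1 := by
    have := congrArg Subtype.val hk
    simpa using this
  have h2 : orderOf u ∣ p ^ k := orderOf_dvd_of_pow_eq_one h1
  rw [h] at h2
  have h3 : 2 ∣ p := Nat.Prime.dvd_of_dvd_pow Nat.prime_two h2
  have hpp : p.Prime := Fact.out
  exact hp ((Nat.prime_dvd_prime_iff_eq Nat.prime_two hpp).mp h3).symm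

theorem centralize_or_invert (hp : p ≠ 2) (hR : Restr p G) (Q₁ : Subgroup G) (hQ₁ : IsPGroup p Q₁)
    (x : G) (hx : x ∈ Subgroup.normalizer (Q₁ : Set G)) :
    (∀ u ∈ Q₁, x * u = u * x) ∨ (orderOf x = 2 ∧ ∀ u ∈ Q₁, x * u * x⁻¹ = u⁻¹) := by
  have hxH : x ∈ Q₁ ⊔ Subgroup.zpowers x := Subgroup.mem_sup_right (Subgroup.mem_zpowers x)
  have hQH : Q₁ ≤ Q₁ ⊔ Subgroup.zpowers x := le_sup_left
  rcases join_alt hR Q₁ hQ₁ x hx with hc | ⟨n, ⟨e⟩⟩
  · left
    intro u hu
    have hcomm : IsMulCommutative ↥(Q₁ ⊔ Subgroup.zpowers x) := IsCyclic.isMulCommutative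
    have := hcomm.is_comm.comm (⟨x, hxH⟩ : ↥(Q₁ ⊔ Subgroup.zpowers x)) ⟨u, hQH hu⟩
    exact congrArg Subtype.val this
  · have hrot : ∀ u (hu : u ∈ Q₁), ∃ i, (⟨u, hQH hu⟩ : ↥(Q₁ ⊔ Subgroup.zpowers x)) = ρ e i := by
      intro u hu
      rcases cases e (⟨u, hQH hu⟩ : ↥(Q₁ ⊔ Subgroup.zpowers x)) with h | ⟨i, hi⟩
      · exact h
      · exfalso
        have h1 := orderOf_σ e i
        rw [← hi] at h1
        have h2 : orderOf u = 2 := by
          rw [← h1]
          exact (Subgroup.orderOf_mk u (hQH hu)).symm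
        exact odd_orderOf_of_mem hp hQ₁ hu h2
    rcases cases e (⟨x, hxH⟩ : ↥(Q₁ ⊔ Subgroup.zpowers x)) with ⟨j, hj⟩ | ⟨j, hj⟩
    · left
      intro u hu
      obtain ⟨i, hi⟩ := hrot u hu
      have : (⟨x, hxH⟩ : ↥(Q₁ ⊔ Subgroup.zpowers x)) * ⟨u, hQH hu⟩ = ⟨u, hQH hu⟩ * ⟨x, hxH⟩ := by
        rw [hj, hi, ρ_mul_ρ, ρ_mul_ρ, add_comm]
      exact congrArg Subtype.val this
    · right
      constructor
      · have h1 := orderOf_σ e j
        rw [← hj] at h1
        rw [← h1]
        exact (Subgroup.orderOf_mk x hxH).symm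
      · intro u hu
        obtain ⟨i, hi⟩ := hrot u hu
        have : (⟨x, hxH⟩ : ↥(Q₁ ⊔ Subgroup.zpowers x)) * ⟨u, hQH hu⟩ * (⟨x, hxH⟩)⁻¹ =
            (⟨u, hQH hu⟩)⁻¹ := by
          rw [hj, hi, conj_σ_ρ, ρ_inv]
        exact congrArg Subtype.val this

theorem forward (hp : p ≠ 2) (P : Sylow p G) (hR : Restr p G) :
    (IsCyclic P ∧
      (Subgroup.normalizer ((P : Subgroup G) : Set G) = Subgroup.centralizer ((P : Subgroup G) : Set G) ∨
       ((Subgroup.centralizer ((P : Subgroup G) : Set G)).relIndex (Subgroup.normalizer ((P : Subgroup G) : Set G)) = 2 ∧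
        ∀ Q : Subgroup G, Q ≤ P → Nat.card Q = p →
          IsMulCommutative ↥(Subgroup.centralizer (Q : Set G)) ∧
          ∀ x : G, x ∈ Subgroup.normalizer (Q : Set G) → x ∉ Subgroup.centralizer (Q : Set G) →
            orderOf x = 2 ∧ ∀ c : G, c ∈ Subgroup.centralizer (Q : Set G) → x * c * x⁻¹ = c⁻¹))) := by
  have hpp : p.Prime := Fact.out
  constructor
  · -- P cyclic
    obtain ⟨h1, h2⟩ := hyps_of_normal (p := p) (⊤ : Subgroup ↥(P : Subgroup G))
      (P.isPGroup'.to_subgroup ⊤) (by
        haveI : Subsingleton (↥(P : Subgroup G) ⧸ (⊤ : Subgroup ↥(P : Subgroup G))) :=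
          QuotientGroup.subsingleton_quotient_top
        exact isCyclic_of_subsingleton)
    rcases hR _ h1 h2 with hc | ⟨n, ⟨e⟩⟩
    · exact hc
    · exfalso
      obtain ⟨a, ha⟩ := IsPGroup.iff_card.mp P.isPGroup'
      have h3 : Nat.card ↥(P : Subgroup G) = 2 * p ^ n := by
        rw [Nat.card_congr e.toEquiv, DihedralGroup.nat_card]
      have h4 : 2 ∣ p ^ a := by rw [← ha, h3]; exact dvd_mul_right 2 _
      have h5 : 2 ∣ p := Nat.Prime.dvd_of_dvd_pow Nat.prime_two h4
      exact hp ((Nat.prime_dvd_prime_iff_eq Nat.prime_two hpp).mp h5).symm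
  · by_cases hNC : Subgroup.normalizer ((P : Subgroup G) : Set G) =
        Subgroup.centralizer ((P : Subgroup G) : Set G)
    · left; exact hNC
    · right
      have hCN : Subgroup.centralizer ((P : Subgroup G) : Set G) ≤
          Subgroup.normalizer ((P : Subgroup G) : Set G) := Subgroup.centralizer_le_normalizer _
      have hdich : ∀ x ∈ Subgroup.normalizer ((P : Subgroup G) : Set G),
          x ∈ Subgroup.centralizer ((P : Subgroup G) : Set G) ∨
          (orderOf x = 2 ∧ ∀ u ∈ (P : Subgroup G), x * u * x⁻¹ = u⁻¹) := by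
        intro x hx
        rcases centralize_or_invert hp hR (P : Subgroup G) P.isPGroup' x hx with h | h
        · left
          rw [Subgroup.mem_centralizer_iff]
          intro u hu
          exact (h u hu).symm
        · right; exact h
      obtain ⟨x₀, hx₀N, hx₀C⟩ : ∃ x₀ ∈ Subgroup.normalizer ((P : Subgroup G) : Set G),
          x₀ ∉ Subgroup.centralizer ((P : Subgroup G) : Set G) := by
        by_contra hcon
        push Not at hcon
        exact hNC (le_antisymm hcon hCN)
      have hx₀inv : ∀ u ∈ (P : Subgroup G), x₀ * u * x₀⁻¹ = u⁻¹ := by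
        rcases hdich x₀ hx₀N with h | h
        · exact absurd h hx₀C
        · exact h.2
      refine ⟨?_, ?_⟩
      · -- relIndex = 2
        rw [Subgroup.relIndex, Subgroup.index_eq_two_iff]
        refine ⟨⟨x₀, hx₀N⟩, fun b => ?_⟩
        simp only [Subgroup.mem_subgroupOf, Subgroup.coe_mul]
        rcases hdich b b.2 with hb | hb
        · refine Or.inr ⟨hb, fun h => hx₀C ?_⟩
          have := Subgroup.mul_mem _ (Subgroup.inv_mem _ hb) h
          simpa using this
        · refine Or.inl ⟨?_, fun h => ?_⟩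
          · rw [Subgroup.mem_centralizer_iff]
            intro u hu
            have h1 := hx₀inv u hu
            have h2 := hb.2 u⁻¹ (Subgroup.inv_mem _ hu)
            rw [inv_inv] at h2
            have h3 : (b : G) * x₀ * u = u * ((b : G) * x₀) := by
              calc (b : G) * x₀ * u = (b : G) * (x₀ * u * x₀⁻¹) * x₀ := by group
                _ = ((b : G) * u⁻¹ * (b : G)⁻¹) * (b : G) * x₀ := by rw [h1]; group
                _ = u * ((b : G) * x₀) := by rw [h2]; group
            exact h3.symm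
          · -- b central and inverting: then P has exponent ≤ 2
            rcases hdich b b.2 with hb' | hb'
            · -- b ∈ C and b inverts: contradiction via order of b? use x₀ instead
              apply hx₀C
              rw [Subgroup.mem_centralizer_iff]
              intro u hu
              have h2 := hb.2 u hu
              have h3 : u * (b : G) = (b : G) * u :=
                (Subgroup.mem_centralizer_iff.mp hb') u hu
              have h4 : u⁻¹ = u := by
                rw [← h2, ← h3]; group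
              have h5 := hx₀inv u hu
              rw [h4] at h5
              calc u * x₀ = (x₀ * u * x₀⁻¹) * x₀ := by rw [h5]
                _ = x₀ * u := by group
            · exact absurd h (fun h => by
                -- h : b ∈ C, fine: same as above
                exact False.elim (by
                  apply hx₀C
                  rw [Subgroup.mem_centralizer_iff]
                  intro u hu
                  have h2 := hb.2 u hu
                  have h3 : u * (b : G) = (b : G) * u :=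
                    (Subgroup.mem_centralizer_iff.mp h) u hu
                  have h4 : u⁻¹ = u := by
                    rw [← h2, ← h3]; group
                  have h5 := hx₀inv u hu
                  rw [h4] at h5
                  calc u * x₀ = (x₀ * u * x₀⁻¹) * x₀ := by rw [h5]
                    _ = x₀ * u := by group))
      · -- properties of Q
        intro Q hQP hQcard
        have hQp : IsPGroup p Q := P.isPGroup'.to_le hQP
        -- x₀ normalizes Q and is outside the centralizer
        have hx₀Q : x₀ ∈ Subgroup.normalizer (Q : Set G) := by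
          rw [Subgroup.mem_normalizer_iff]
          intro q
          constructor
          · intro hq
            rw [hx₀inv q (hQP hq)]
            exact Q.inv_mem hq
          · intro hq
            have h1 : x₀ * q * x₀⁻¹ ∈ (P : Subgroup G) := hQP hq
            have hqP : q ∈ (P : Subgroup G) := by
              have := (Subgroup.mem_normalizer_iff.mp hx₀N q).mpr h1
              exact this
            have h2 := hx₀inv q hqP
            rw [h2] at hq
            simpa using Q.inv_mem hq
        have hsq : ∀ x : G, x ∈ Subgroup.normalizer (Q : Set G) →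
            x ∉ Subgroup.centralizer (Q : Set G) → orderOf x = 2 := by
          intro x hxN hxC
          rcases centralize_or_invert hp hR Q hQp x hxN with h | h
          · exfalso
            apply hxC
            rw [Subgroup.mem_centralizer_iff]
            intro u hu
            exact (h u hu).symm
          · exact h.1
        have hx₀QC : x₀ ∉ Subgroup.centralizer (Q : Set G) := by
          intro h
          -- every q ∈ Q satisfies q = q⁻¹
          have hQ1 : ∀ q ∈ Q, q = 1 := by
            intro q hq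
            have h1 := hx₀inv q (hQP hq)
            have h2 : q * x₀ = x₀ * q := (Subgroup.mem_centralizer_iff.mp h) q hq
            have h3 : q⁻¹ = q := by rw [← h1, ← h2]; group
            have h4 : q ^ 2 = 1 := by rw [pow_two]; nth_rewrite 1 [← h3]; group
            have h5 : orderOf q ∣ 2 := orderOf_dvd_of_pow_eq_one h4
            have h6 : orderOf q ≠ 2 := odd_orderOf_of_mem hp hQp hq
            have h7 : orderOf q = 1 := by
              rcases (Nat.dvd_prime Nat.prime_two).mp h5 with h | h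
              · exact h
              · exact absurd h h6
            exact orderOf_eq_one_iff.mp h7
          have hbot : Q = ⊥ := (Subgroup.eq_bot_iff_forall Q).mpr hQ1
          rw [hbot, Subgroup.card_bot] at hQcard
          exact hpp.one_lt.ne hQcard
        have hinvQ : ∀ x : G, x ∈ Subgroup.normalizer (Q : Set G) →
            x ∉ Subgroup.centralizer (Q : Set G) →
            ∀ c : G, c ∈ Subgroup.centralizer (Q : Set G) → x * c * x⁻¹ = c⁻¹ := by
          intro x hxN hxC c hc
          have hcN : c ∈ Subgroup.normalizer (Q : Set G) := Subgroup.centralizer_le_normalizer _ hc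
          have hxcN : x * c ∈ Subgroup.normalizer (Q : Set G) := Subgroup.mul_mem _ hxN hcN
          have hxcC : x * c ∉ Subgroup.centralizer (Q : Set G) := by
            intro h
            apply hxC
            have := Subgroup.mul_mem _ h (Subgroup.inv_mem _ hc)
            simpa using this
          have h1 := hsq x hxN hxC
          have h2 := hsq (x * c) hxcN hxcC
          have h3 : x ^ 2 = 1 := by rw [← h1]; exact pow_orderOf_eq_one x
          have h4 : (x * c) ^ 2 = 1 := by rw [← h2]; exact pow_orderOf_eq_one _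
          have h5 : x⁻¹ = x := by
            rw [inv_eq_iff_mul_eq_one, ← pow_two]; exact h3
          rw [h5]
          have h6 : x * c * (x * c) = 1 := by rw [← pow_two]; exact h4
          calc x * c * x = (x * c * (x * c)) * c⁻¹ := by group
            _ = c⁻¹ := by rw [h6, one_mul]
        refine ⟨?_, fun x hxN hxC => ⟨hsq x hxN hxC, hinvQ x hxN hxC⟩⟩
        refine ⟨⟨fun c d => ?_⟩⟩
        apply Subtype.ext
        have hc := hinvQ x₀ hx₀Q hx₀QC c c.2
        have hd := hinvQ x₀ hx₀Q hx₀QC d d.2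
        have hcd := hinvQ x₀ hx₀Q hx₀QC (c * d) (Subgroup.mul_mem _ c.2 d.2)
        have e1 : x₀ * ((c : G) * d) * x₀⁻¹ = (x₀ * c * x₀⁻¹) * (x₀ * d * x₀⁻¹) := by group
        rw [e1, hc, hd] at hcd
        have e2 : (c : G)⁻¹ * (d : G)⁻¹ = ((c : G) * d)⁻¹ := hcd
        have e3 : ((d : G) * c)⁻¹ = ((c : G) * d)⁻¹ := by rw [← e2]; group
        have e4 := inv_injective e3
        exact e4.symm

/-! ### the converse -/

/-- a group with a normal Sylow `p`-subgroup generated by `s₀`, cyclic quotient generated by `h₀`,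
and `s₀`, `h₀` commuting, is cyclic -/
theorem cyclic_of_commute {K : Type*} [Group K] [Finite K] (S : Sylow p K)
    [(S : Subgroup K).Normal] (s₀ : K) (hs₀ : s₀ ∈ (S : Subgroup K))
    (hgen : ∀ s ∈ (S : Subgroup K), s ∈ Subgroup.zpowers s₀) (h₀ : K)
    (hh₀ : ∀ y : K ⧸ (S : Subgroup K), y ∈ Subgroup.zpowers (QuotientGroup.mk h₀ : K ⧸ (S : Subgroup K)))
    (hcomm : Commute s₀ h₀) : IsCyclic K := by
  have hcop := Sylow.card_coprime_index S
  have o1 : orderOf s₀ = Nat.card (S : Subgroup K) := by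
    rw [← Subgroup.orderOf_mk s₀ hs₀]
    apply orderOf_eq_card_of_forall_mem_zpowers
    intro x
    obtain ⟨j, hj⟩ := Subgroup.mem_zpowers_iff.mp (hgen x.1 x.2)
    refine Subgroup.mem_zpowers_iff.mpr ⟨j, ?_⟩
    apply Subtype.ext
    rw [Subgroup.coe_zpow]
    exact hj
  have o2 : orderOf (QuotientGroup.mk h₀ : K ⧸ (S : Subgroup K)) = (S : Subgroup K).index := by
    rw [orderOf_eq_card_of_forall_mem_zpowers hh₀, Subgroup.index_eq_card]
  set pk := Nat.card (S : Subgroup K) with hpk
  set m' := (S : Subgroup K).index with hm'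
  have o3 : orderOf (QuotientGroup.mk (h₀ ^ pk) : K ⧸ (S : Subgroup K)) = m' := by
    rw [QuotientGroup.mk_pow, Nat.Coprime.orderOf_pow (by rw [o2]; exact hcop.symm), o2]
  have o4 : m' ∣ orderOf (h₀ ^ pk) := by
    rw [← o3]
    exact orderOf_map_dvd (QuotientGroup.mk' (S : Subgroup K)) (h₀ ^ pk)
  have o5 : orderOf (h₀ ^ pk) ∣ m' := by
    apply orderOf_dvd_of_pow_eq_one
    rw [← pow_mul, Subgroup.card_mul_index]
    exact pow_card_eq_one'
  have o6 : orderOf (h₀ ^ pk) = m' := Nat.dvd_antisymm o5 o4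
  have hc : Commute s₀ (h₀ ^ pk) := hcomm.pow_right pk
  have o7 : orderOf (s₀ * h₀ ^ pk) = Nat.card K := by
    rw [hc.orderOf_mul_eq_mul_orderOf_of_coprime (by rw [o1, o6]; exact hcop), o1, o6,
      Subgroup.card_mul_index]
  exact isCyclic_of_orderOf_eq_card _ o7

theorem mem_smul_sylow {g y : G} {P : Sylow p G} :
    y ∈ ((g • P : Sylow p G) : Subgroup G) ↔ g⁻¹ * y * g ∈ (P : Subgroup G) := by
  rw [Sylow.smul_def, Sylow.pointwise_smul_def, Subgroup.mem_pointwise_smul_iff_inv_smul_mem]
  simp [MulAut.smul_def]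

/-- the conjugation-invariant form of the hypothesis on subgroups of order `p` -/
def QProp (Q : Subgroup G) : Prop :=
  (∀ c ∈ Subgroup.centralizer (Q : Set G), ∀ d ∈ Subgroup.centralizer (Q : Set G), c * d = d * c) ∧
  ∀ x : G, x ∈ Subgroup.normalizer (Q : Set G) → x ∉ Subgroup.centralizer (Q : Set G) →
    orderOf x = 2 ∧ ∀ c : G, c ∈ Subgroup.centralizer (Q : Set G) → x * c * x⁻¹ = c⁻¹

omit [Finite G] in
theorem qprop_transfer (g : G) (Q' : Subgroup G)
    (h : QProp (Q'.map (MulAut.conj g).toMonoidHom)) : QProp Q' := by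
  set ψ : G ≃* G := MulAut.conj g with hψ
  have hcent : ∀ y : G, y ∈ Subgroup.centralizer (Q' : Set G) ↔
      ψ y ∈ Subgroup.centralizer ((Q'.map ψ.toMonoidHom : Subgroup G) : Set G) := by
    intro y
    rw [Subgroup.mem_centralizer_iff, Subgroup.mem_centralizer_iff]
    constructor
    · rintro hy _ ⟨q, hq, rfl⟩
      show ψ q * ψ y = ψ y * ψ q
      rw [← map_mul, ← map_mul, hy q hq]
    · intro hy q hq
      have := hy (ψ q) ⟨q, hq, rfl⟩
      rw [← map_mul, ← map_mul] at this
      exact ψ.injective this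
  have hnorm : ∀ y : G, y ∈ Subgroup.normalizer (Q' : Set G) →
      ψ y ∈ Subgroup.normalizer ((Q'.map ψ.toMonoidHom : Subgroup G) : Set G) := by
    intro y hy
    rw [Subgroup.mem_normalizer_iff] at hy ⊢
    intro z
    constructor
    · rintro ⟨q, hq, rfl⟩
      refine ⟨y * q * y⁻¹, (hy q).mp hq, ?_⟩
      show ψ (y * q * y⁻¹) = ψ y * ψ q * (ψ y)⁻¹
      rw [map_mul, map_mul, map_inv]
    · rintro ⟨q, hq, hqz⟩
      have hz : z = ψ (y⁻¹ * q * y) := by
        have e : ψ y * z * (ψ y)⁻¹ = ψ q := hqz.symm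
        rw [map_mul, map_mul, map_inv, ← e]
        group
      refine ⟨y⁻¹ * q * y, ?_, hz.symm⟩
      apply (hy _).mpr
      have e : y * (y⁻¹ * q * y) * y⁻¹ = q := by group
      rw [e]
      exact hq
  obtain ⟨h1, h2⟩ := h
  constructor
  · intro c hc d hd
    have := h1 (ψ c) ((hcent c).mp hc) (ψ d) ((hcent d).mp hd)
    rw [← map_mul, ← map_mul] at this
    exact ψ.injective this
  · intro x hxN hxC
    obtain ⟨h3, h4⟩ := h2 (ψ x) (hnorm x hxN) (fun hh => hxC ((hcent x).mpr hh))
    refine ⟨by rw [← h3]; exact (ψ.orderOf_eq x).symm, fun c hc => ?_⟩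
    have := h4 (ψ c) ((hcent c).mp hc)
    rw [← map_inv, ← map_mul, ← map_mul, ← map_inv] at this
    exact ψ.injective this

omit [Finite G] in
theorem mem_centralizer_zpowers {x y : G} :
    y ∈ Subgroup.centralizer ((Subgroup.zpowers x : Subgroup G) : Set G) ↔ x * y = y * x := by
  rw [Subgroup.mem_centralizer_iff]
  constructor
  · intro h
    exact h x (Subgroup.mem_zpowers x)
  · intro h z hz
    obtain ⟨j, rfl⟩ := Subgroup.mem_zpowers_iff.mp hz
    exact (Commute.zpow_left (show Commute x y from h) j).eq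

/-- in a finite cyclic group, the solutions of `s ^ p = 1` are the powers of an element of order `p` -/
theorem mem_zpowers_of_pow_eq_one {A : Type*} [Group A] [Finite A] [IsCyclic A] (q : A)
    (hq : orderOf q = p) (s : A) (hs : s ^ p = 1) : s ∈ Subgroup.zpowers q := by
  classical
  haveI : Fintype A := Fintype.ofFinite A
  have hpp : p.Prime := Fact.out
  have h1 := IsCyclic.card_pow_eq_one_le (α := A) hpp.pos
  set B : Finset A := ((Subgroup.zpowers q : Subgroup A) : Set A).toFinset with hB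
  have hBA : B ⊆ Finset.univ.filter (fun a : A => a ^ p = 1) := by
    intro z hz
    rw [hB, Set.mem_toFinset] at hz
    obtain ⟨j, rfl⟩ := Subgroup.mem_zpowers_iff.mp hz
    rw [Finset.mem_filter]
    refine ⟨Finset.mem_univ _, ?_⟩
    rw [← zpow_natCast, ← zpow_mul, mul_comm, zpow_mul, zpow_natCast, ← hq, pow_orderOf_eq_one,
      one_zpow]
  have hBcard : B.card = p := by
    rw [hB, Set.toFinset_card, ← Nat.card_eq_fintype_card]
    have := Nat.card_zpowers q
    rw [hq] at this
    exact this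
  have hEq := Finset.eq_of_subset_of_card_le hBA (by rw [hBcard]; exact h1)
  have hsA : s ∈ Finset.univ.filter (fun a : A => a ^ p = 1) := by
    rw [Finset.mem_filter]
    exact ⟨Finset.mem_univ _, hs⟩
  rw [← hEq, hB, Set.mem_toFinset] at hsA
  exact hsA

theorem backward (hp : p ≠ 2) (P : Sylow p G) (hcyc : IsCyclic P)
    (hcase : Subgroup.normalizer ((P : Subgroup G) : Set G) = Subgroup.centralizer ((P : Subgroup G) : Set G) ∨
       ((Subgroup.centralizer ((P : Subgroup G) : Set G)).relIndex (Subgroup.normalizer ((P : Subgroup G) : Set G)) = 2 ∧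
        ∀ Q : Subgroup G, Q ≤ P → Nat.card Q = p →
          IsMulCommutative ↥(Subgroup.centralizer (Q : Set G)) ∧
          ∀ x : G, x ∈ Subgroup.normalizer (Q : Set G) → x ∉ Subgroup.centralizer (Q : Set G) →
            orderOf x = 2 ∧ ∀ c : G, c ∈ Subgroup.centralizer (Q : Set G) → x * c * x⁻¹ = c⁻¹)) :
    Restr p G := by
  intro H h1 h2
  classical
  have hpp : p.Prime := Fact.out
  let S : Sylow p ↥H := default
  haveI := h1 S
  have hq := h2 S
  obtain ⟨P₁, hP₁⟩ := (S.isPGroup'.map H.subtype).exists_le_sylow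
  obtain ⟨g, hg⟩ := MulAction.exists_smul_eq G P P₁
  have hSP₁ : ∀ s : ↥H, s ∈ (S : Subgroup ↥H) → (s : G) ∈ (P₁ : Subgroup G) :=
    fun s hs => hP₁ (Subgroup.mem_map_of_mem H.subtype hs)
  haveI : IsCyclic ↥(P₁ : Subgroup G) := (Sylow.equiv P P₁).isCyclic.mp hcyc
  let f : ↥(S : Subgroup ↥H) →* ↥(P₁ : Subgroup G) :=
    MonoidHom.codRestrict (H.subtype.comp (S : Subgroup ↥H).subtype) (P₁ : Subgroup G)
      (fun s => hSP₁ s.1 s.2)
  have hf : Function.Injective f := by
    intro a b hab
    have : ((a : ↥H) : G) = ((b : ↥H) : G) :=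
      congrArg (Subtype.val : ↥(P₁ : Subgroup G) → G) hab
    exact Subtype.ext (Subtype.ext this)
  haveI : IsCyclic ↥(S : Subgroup ↥H) := isCyclic_of_injective f hf
  obtain ⟨s₀', hs₀'⟩ := IsCyclic.exists_generator (α := ↥(S : Subgroup ↥H))
  have hgen : ∀ s ∈ (S : Subgroup ↥H), s ∈ Subgroup.zpowers (s₀' : ↥H) := by
    intro s hs
    obtain ⟨j, hj⟩ := Subgroup.mem_zpowers_iff.mp (hs₀' ⟨s, hs⟩)
    refine Subgroup.mem_zpowers_iff.mpr ⟨j, ?_⟩
    have := congrArg Subtype.val hj
    simpa using this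
  obtain ⟨y₀, hy₀⟩ := IsCyclic.exists_generator (α := ↥H ⧸ (S : Subgroup ↥H))
  obtain ⟨h₀, rfl⟩ := QuotientGroup.mk_surjective y₀
  have hZ : Commute (s₀' : ↥H) h₀ → IsCyclic ↥H :=
    fun hc => cyclic_of_commute S s₀' s₀'.2 hgen h₀ hy₀ hc
  rcases hcase with hNC | ⟨-, hQ⟩
  · -- Burnside
    left
    apply hZ
    have hNC' : Subgroup.normalizer ((P : Subgroup G) : Set G) ≤
        Subgroup.centralizer ((P : Subgroup G) : Set G) := hNC.le
    have hcompl := MonoidHom.ker_transferSylow_isComplement' P hNC'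
    have hPcomm : ∀ a b : ↥(P : Subgroup G), a * b = b * a := fun a b =>
      (IsCyclic.isMulCommutative (α := ↥(P : Subgroup G))).is_comm.comm a b
    set c : ↥H := h₀ * s₀' * h₀⁻¹ * (s₀' : ↥H)⁻¹ with hc
    have hcS : c ∈ (S : Subgroup ↥H) :=
      Subgroup.mul_mem _ ((inferInstance : (S : Subgroup ↥H).Normal).conj_mem _ s₀'.2 h₀)
        (Subgroup.inv_mem _ s₀'.2)
    have hφc : (c : G) ∈ (MonoidHom.transferSylow P hNC').ker := by
      rw [MonoidHom.mem_ker, hc]
      simp only [Subgroup.coe_mul, Subgroup.coe_inv, map_mul, map_inv]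
      rw [hPcomm (MonoidHom.transferSylow P hNC' (h₀ : G))]
      group
    have d1 : orderOf (c : G) ∣ Nat.card (MonoidHom.transferSylow P hNC').ker :=
      Subgroup.orderOf_dvd_natCard _ hφc
    have d2 : (P : Subgroup G).index = Nat.card (MonoidHom.transferSylow P hNC').ker :=
      hcompl.index_eq_card
    obtain ⟨k, hk⟩ := (IsPGroup.iff_orderOf.mp S.isPGroup') ⟨c, hcS⟩
    have hk' : orderOf (c : G) = p ^ k := by
      rw [Subgroup.orderOf_coe, ← Subgroup.orderOf_mk c hcS, hk]
    have hk0 : k = 0 := by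
      by_contra hk0
      apply Sylow.not_dvd_index P
      rw [d2]
      refine dvd_trans ?_ d1
      rw [hk']
      exact dvd_pow_self p hk0
    rw [hk0, pow_zero, orderOf_eq_one_iff] at hk'
    have hc1 : c = 1 := Subtype.ext hk'
    show (s₀' : ↥H) * h₀ = h₀ * s₀'
    have : h₀ * s₀' = c * (s₀' * h₀) := by rw [hc]; group
    rw [this, hc1, one_mul]
  · by_cases hSbot : (S : Subgroup ↥H) = ⊥
    · left
      apply hZ
      have : (s₀' : ↥H) = 1 := by
        have h3 := s₀'.2
        have h4 : (s₀' : ↥H) ∈ (⊥ : Subgroup ↥H) := by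
          rw [← hSbot]
          exact h3
        exact Subgroup.mem_bot.mp h4
      rw [this]
      exact Commute.one_left _
    · -- an element of order p
      have hpS : p ∣ Nat.card (S : Subgroup ↥H) := by
        obtain ⟨k, hk⟩ := IsPGroup.iff_card.mp S.isPGroup'
        rw [hk]
        apply dvd_pow_self
        rintro rfl
        rw [pow_zero] at hk
        exact hSbot (Subgroup.card_eq_one.mp hk)
      obtain ⟨q', hq'⟩ := exists_prime_orderOf_dvd_card' (G := ↥(S : Subgroup ↥H)) p hpS
      have hqG : orderOf (((q' : ↥H)) : G) = p := by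
        rw [Subgroup.orderOf_coe, Subgroup.orderOf_coe, hq']
      set Q' : Subgroup G := Subgroup.zpowers (((q' : ↥H)) : G) with hQ'def
      have hQ'P₁ : Q' ≤ (P₁ : Subgroup G) := Subgroup.zpowers_le.mpr (hSP₁ _ q'.2)
      -- transfer
      have hQ'prop : QProp Q' := by
        apply qprop_transfer g⁻¹
        have hQP : Q'.map (MulAut.conj g⁻¹).toMonoidHom ≤ (P : Subgroup G) := by
          rintro _ ⟨z, hz, rfl⟩
          have h3 := hQ'P₁ hz
          rw [← hg, mem_smul_sylow] at h3
          simpa using h3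
        have hQcard : Nat.card (Q'.map (MulAut.conj g⁻¹).toMonoidHom) = p := by
          rw [← Nat.card_congr (Q'.equivMapOfInjective _ (MulAut.conj g⁻¹).injective).toEquiv,
            hQ'def, Nat.card_zpowers, hqG]
        obtain ⟨hcomm, hrest⟩ := hQ _ hQP hQcard
        refine ⟨fun c hc d hd => ?_, hrest⟩
        have := hcomm.is_comm.comm (⟨c, hc⟩ : ↥(Subgroup.centralizer _)) ⟨d, hd⟩
        exact congrArg Subtype.val this
      -- S centralizes Q'
      have hScomm : IsMulCommutative ↥(S : Subgroup ↥H) := IsCyclic.isMulCommutative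
      have hSC : ∀ s : ↥H, s ∈ (S : Subgroup ↥H) → (s : G) ∈ Subgroup.centralizer (Q' : Set G) := by
        intro s hs
        rw [hQ'def, mem_centralizer_zpowers]
        have := hScomm.is_comm.comm q' ⟨s, hs⟩
        have h3 := congrArg Subtype.val this
        exact congrArg Subtype.val h3
      -- H normalizes Q'
      have hconj : ∀ h : ↥H, ∀ z ∈ Q', (h : G) * z * (h : G)⁻¹ ∈ Q' := by
        intro h z hz
        obtain ⟨j, rfl⟩ := Subgroup.mem_zpowers_iff.mp hz
        have hmem : h * (q' : ↥H) ^ j * h⁻¹ ∈ (S : Subgroup ↥H) :=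
          (inferInstance : (S : Subgroup ↥H).Normal).conj_mem _
            (Subgroup.zpow_mem _ q'.2 j) h
        have hpow : (⟨_, hmem⟩ : ↥(S : Subgroup ↥H)) ^ p = 1 := by
          apply Subtype.ext
          show (h * (q' : ↥H) ^ j * h⁻¹) ^ p = 1
          rw [conj_pow, ← zpow_natCast, ← zpow_mul, mul_comm, zpow_mul, zpow_natCast]
          have : (q' : ↥H) ^ p = 1 := by
            have := pow_orderOf_eq_one q'
            rw [hq'] at this
            have := congrArg Subtype.val this
            simpa using this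
          rw [this, one_zpow, mul_one, mul_inv_cancel]
        have h4 := mem_zpowers_of_pow_eq_one (p := p) q' hq' _ hpow
        obtain ⟨i, hi⟩ := Subgroup.mem_zpowers_iff.mp h4
        refine Subgroup.mem_zpowers_iff.mpr ⟨i, ?_⟩
        have h5 := congrArg Subtype.val (congrArg Subtype.val hi)
        simpa using h5
      have hnorm : ∀ h : ↥H, (h : G) ∈ Subgroup.normalizer (Q' : Set G) := by
        intro h
        rw [Subgroup.mem_normalizer_iff]
        intro z
        refine ⟨hconj h z, fun hz => ?_⟩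
        have := hconj h⁻¹ _ hz
        simpa [mul_assoc] using this
      by_cases hh₀C : (h₀ : G) ∈ Subgroup.centralizer (Q' : Set G)
      · left
        apply hZ
        have := hQ'prop.1 _ (hSC _ s₀'.2) _ hh₀C
        exact Subtype.ext this
      · right
        obtain ⟨ho2, hinv⟩ := hQ'prop.2 _ (hnorm h₀) hh₀C
        obtain ⟨n, hn⟩ := IsPGroup.iff_card.mp S.isPGroup'
        refine ⟨n, ?_⟩
        haveI : NeZero (p ^ n) := ⟨pow_ne_zero _ hpp.ne_zero⟩
        have hh₀S : h₀ ∉ (S : Subgroup ↥H) := fun h => hh₀C (hSC _ h)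
        have o1 : orderOf (s₀' : ↥H) = p ^ n := by
          rw [← hn, Subgroup.orderOf_coe]
          exact orderOf_eq_card_of_forall_mem_zpowers hs₀'
        have hsq : h₀ * h₀ = 1 := by
          apply Subtype.ext
          have := pow_orderOf_eq_one (h₀ : G)
          rw [ho2, pow_two] at this
          exact this
        have hinv' : h₀ * (s₀' : ↥H) * h₀⁻¹ = (s₀' : ↥H)⁻¹ := by
          apply Subtype.ext
          exact hinv _ (hSC _ s₀'.2)
        have hnot : h₀ ∉ Subgroup.zpowers (s₀' : ↥H) := by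
          intro h
          apply hh₀S
          exact (Subgroup.zpowers_le.mpr s₀'.2) h
        obtain ⟨e⟩ := Cfsg.Agent.Lib.Helper10.nonempty_mulEquiv_dihedralGroup (p ^ n) h₀
          (s₀' : ↥H) o1 hsq hinv' hnot
        -- the cardinality of H
        have hidx : (S : Subgroup ↥H).index = 2 := by
          rw [Subgroup.index_eq_card, ← orderOf_eq_card_of_forall_mem_zpowers hy₀]
          haveI : Fact (Nat.Prime 2) := ⟨Nat.prime_two⟩
          apply orderOf_eq_prime
          · rw [← QuotientGroup.mk_pow, pow_two, hsq, QuotientGroup.mk_one]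
          · intro h
            exact hh₀S ((QuotientGroup.eq_one_iff h₀).mp h)
        have hcardH : Nat.card ↥H = 2 * p ^ n := by
          rw [← Subgroup.card_mul_index (S : Subgroup ↥H), hn, hidx, mul_comm]
        have hcardJ : Nat.card ↥(Subgroup.zpowers h₀ ⊔ Subgroup.zpowers (s₀' : ↥H)) =
            Nat.card ↥H := by
          rw [Nat.card_congr e.toEquiv, DihedralGroup.nat_card, hcardH]
        have htop := Subgroup.eq_top_of_card_eq _ hcardJ
        exact ⟨(Subgroup.topEquiv.symm.trans (MulEquiv.subgroupCongr htop.symm)).trans e⟩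

theorem result {G : Type*} [Group G] [Finite G] {p : ℕ}
    [Fact p.Prime] (hp : p ≠ 2) (P : Sylow p G) :
    (∀ H : Subgroup G, (∀ S : Sylow p ↥H, (S : Subgroup ↥H).Normal) →
        (∀ (S : Sylow p ↥H) [(S : Subgroup ↥H).Normal], IsCyclic (↥H ⧸ (S : Subgroup ↥H))) →
        IsCyclic H ∨ (∃ n : ℕ, Nonempty (H ≃* DihedralGroup (p ^ n)))) ↔
    (IsCyclic P ∧
      (Subgroup.normalizer ((P : Subgroup G) : Set G) = Subgroup.centralizer ((P : Subgroup G) : Set G) ∨
       ((Subgroup.centralizer ((P : Subgroup G) : Set G)).relIndex (Subgroup.normalizer ((P : Subgroup G) : Set G)) = 2 ∧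
        ∀ Q : Subgroup G, Q ≤ P → Nat.card Q = p →
          IsMulCommutative ↥(Subgroup.centralizer (Q : Set G)) ∧
          ∀ x : G, x ∈ Subgroup.normalizer (Q : Set G) → x ∉ Subgroup.centralizer (Q : Set G) →
            orderOf x = 2 ∧ ∀ c : G, c ∈ Subgroup.centralizer (Q : Set G) → x * c * x⁻¹ = c⁻¹))) := by
  constructor
  · intro h
    exact forward hp P h
  · rintro ⟨h1, h2⟩
    exact backward hp P h1 h2

end Cfsg.Agent.S4082
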