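import Mathlib
import Cfsg.Statements.S4083
import Cfsg.Agent.S4082
import Cfsg.Agent.Lib.Helper9.Dih.TwoPow
import Cfsg.Agent.Lib.Helper10.DihedralRecog
import Cfsg.Agent.Lib.Helper15.A4Rec

set_option autoImplicit false
open Cfsg

namespace Cfsg.Agent.S4083

open Cfsg.Agent.Lib.Helper9.Dih
open Cfsg.Agent.Lib.Helper9 (Wr.sq_eq_one_of_isKleinFour)
open Cfsg.Agent.S4082 (normal_le_sylow hyps_of_normal quotient_cyclic cyclic_of_commute mem_smul_sylow)
open scoped Pointwise

/-- subgroups of dihedral 2-groups are cyclic or dihedral -/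
theorem sub_dihedral {S : Type*} [Group S] [Finite S] {n : ℕ} (e : S ≃* DihedralGroup (2 ^ n))
    (H : Subgroup S) : IsCyclic H ∨ ∃ k : ℕ, Nonempty (H ≃* DihedralGroup (2 ^ k)) := by
  obtain ⟨r, hr, hgen⟩ := exists_rot_generator e H
  have hrot : ∀ j, ρ e j ∈ H → ρ e j ∈ Subgroup.zpowers r := fun j hj =>
    hgen _ ⟨hj, (mem_zpowers_ρ_one_iff e).mpr ⟨j, rfl⟩⟩
  by_cases hrefl : ∃ i, σ e i ∈ H
  · right
    obtain ⟨i, hi⟩ := hrefl
    obtain ⟨d, rfl⟩ := (mem_zpowers_ρ_one_iff e).mp hr.2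
    obtain ⟨k, hk⟩ := exists_orderOf_eq_two_pow e (ρ e d)
    refine ⟨k, ?_⟩
    have hEq : H = Subgroup.zpowers (σ e i) ⊔ Subgroup.zpowers (ρ e d) := by
      apply le_antisymm
      · intro h hh
        rcases cases e h with ⟨j, rfl⟩ | ⟨j, rfl⟩
        · exact Subgroup.mem_sup_right (hrot j hh)
        · have h1 : σ e i * σ e j ∈ H := H.mul_mem hi hh
          rw [σ_mul_σ] at h1
          have h2 := hrot _ h1
          have h3 : σ e j = (σ e i)⁻¹ * ρ e (j - i) := by
            rw [σ_inv, σ_mul_ρ]; congr 1; ring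
          rw [h3]
          exact Subgroup.mul_mem _
            (Subgroup.inv_mem _ (Subgroup.mem_sup_left (Subgroup.mem_zpowers _)))
            (Subgroup.mem_sup_right h2)
      · exact sup_le (Subgroup.zpowers_le.mpr hi) (Subgroup.zpowers_le.mpr hr.1)
    have : NeZero (2 ^ k) := ⟨by positivity⟩
    obtain ⟨f⟩ := Cfsg.Agent.Lib.Helper10.nonempty_mulEquiv_dihedralGroup (2 ^ k) (σ e i) (ρ e d) hk
      (σ_mul_self e i) (by rw [conj_σ_ρ, ρ_inv]) (by
        intro hmem
        have : Subgroup.zpowers (ρ e d) ≤ Subgroup.zpowers (ρ e 1) := Subgroup.zpowers_le.mpr hr.2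
        exact σ_not_mem_zpowers e i (this hmem))
    exact ⟨(MulEquiv.subgroupCongr hEq).trans f⟩
  · left
    push Not at hrefl
    refine ⟨⟨⟨r, hr.1⟩, fun h => ?_⟩⟩
    rcases cases e (h : S) with ⟨j, hj⟩ | ⟨j, hj⟩
    · have h1 : ρ e j ∈ H := hj ▸ h.2
      obtain ⟨k, hk⟩ := Subgroup.mem_zpowers_iff.mp (hrot j h1)
      refine Subgroup.mem_zpowers_iff.mpr ⟨k, ?_⟩
      apply Subtype.ext
      rw [Subgroup.coe_zpow, hj]; exact hk
    · exact absurd (hj ▸ h.2) (hrefl j)

/-- a generator of odd order for the quotient by a normal Sylow `2`-subgroup -/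
theorem exists_compl_gen {K : Type*} [Group K] [Finite K] (S : Sylow 2 K)
    [(S : Subgroup K).Normal] (hcyc : IsCyclic (K ⧸ (S : Subgroup K))) :
    ∃ y : K, orderOf y = (S : Subgroup K).index ∧
      ∀ z : K ⧸ (S : Subgroup K),
        z ∈ Subgroup.zpowers (QuotientGroup.mk y : K ⧸ (S : Subgroup K)) := by
  obtain ⟨z₀, hz₀⟩ := IsCyclic.exists_generator (α := K ⧸ (S : Subgroup K))
  obtain ⟨h₀, rfl⟩ := QuotientGroup.mk_surjective z₀
  have hcop := Sylow.card_coprime_index S
  have o2 : orderOf (QuotientGroup.mk h₀ : K ⧸ (S : Subgroup K)) = (S : Subgroup K).index := by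
    rw [orderOf_eq_card_of_forall_mem_zpowers hz₀, Subgroup.index_eq_card]
  set pk := Nat.card (S : Subgroup K) with hpk
  set m' := (S : Subgroup K).index with hm'
  have o3 : orderOf (QuotientGroup.mk (h₀ ^ pk) : K ⧸ (S : Subgroup K)) = m' := by
    rw [QuotientGroup.mk_pow, Nat.Coprime.orderOf_pow (by rw [o2]; exact hcop.symm), o2]
  have o4 : m' ∣ orderOf (h₀ ^ pk) := by
    rw [← o3]
    exact orderOf_map_dvd (QuotientGroup.mk' (S : Subgroup K)) (h₀ ^ pk)
  have o5 : orderOf (h₀ ^ pk) ∣ m' := by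
    apply orderOf_dvd_of_pow_eq_one
    rw [← pow_mul, Subgroup.card_mul_index]
    exact pow_card_eq_one'
  refine ⟨h₀ ^ pk, Nat.dvd_antisymm o5 o4, ?_⟩
  have htop : Subgroup.zpowers (QuotientGroup.mk (h₀ ^ pk) : K ⧸ (S : Subgroup K)) = ⊤ := by
    apply Subgroup.eq_top_of_card_eq
    rw [Nat.card_zpowers, o3, hm', Subgroup.index_eq_card]
  intro z
  rw [htop]; exact Subgroup.mem_top z

theorem centralize_of_conjNormal_eq_one {K : Type*} [Group K] (S : Subgroup K) [S.Normal] (y : K)
    (h : (MulAut.conjNormal y : MulAut ↥S) = 1) : ∀ s ∈ S, y * s = s * y := by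
  intro s hs
  have h3 := MulAut.conjNormal_apply (H := S) y ⟨s, hs⟩
  rw [h] at h3
  simp only [MulAut.one_apply] at h3
  calc y * s = (y * s * y⁻¹) * y := by group
    _ = s * y := by rw [← h3]

theorem centralize_of_pgroup_aut {K : Type*} [Group K] (S : Subgroup K) [S.Normal] (y : K)
    (hy : Odd (orderOf y)) (hA : IsPGroup 2 (MulAut ↥S)) : ∀ s ∈ S, y * s = s * y := by
  apply centralize_of_conjNormal_eq_one S y
  set φ : MulAut ↥S := MulAut.conjNormal y with hφ
  obtain ⟨k, hk⟩ := hA φ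
  have h1 : orderOf φ ∣ orderOf y := by
    apply orderOf_dvd_of_pow_eq_one
    rw [hφ, ← map_pow, pow_orderOf_eq_one, map_one]
  have h2 : orderOf φ ∣ 2 ^ k := orderOf_dvd_of_pow_eq_one hk
  have h3 : Nat.Coprime (orderOf y) (2 ^ k) :=
    Nat.Coprime.pow_right k (Nat.coprime_two_right.mpr hy)
  have h4 := Nat.dvd_gcd h1 h2
  rw [h3.gcd_eq_one] at h4
  exact orderOf_eq_one_iff.mp (Nat.dvd_one.mp h4)

theorem isPGroup_mulAut_of_cyclic {A : Type*} [Group A] [Finite A] (hA : IsPGroup 2 A)
    (hc : IsCyclic A) : IsPGroup 2 (MulAut A) := by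
  obtain ⟨k, hk⟩ := IsPGroup.iff_card.mp hA
  have h1 := IsCyclic.card_mulAut A
  rw [hk] at h1
  rcases Nat.eq_zero_or_pos k with rfl | hk0
  · apply IsPGroup.of_card (n := 0)
    rw [h1]; simp
  · apply IsPGroup.of_card (n := k - 1)
    rw [h1, Nat.totient_prime_pow Nat.prime_two hk0]; simp

theorem abstract_main {K : Type*} [Group K] [Finite K] (S : Sylow 2 K) [(S : Subgroup K).Normal]
    (hcyc : IsCyclic (K ⧸ (S : Subgroup K)))
    (hS : IsCyclic ↥(S : Subgroup K) ∨
      ∃ j : ℕ, Nonempty (↥(S : Subgroup K) ≃* DihedralGroup (2 ^ j)))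
    (hV : ∀ V : Subgroup K, Nat.card V = 4 → (∀ v ∈ V, v ^ 2 = 1) →
      Subgroup.centralizer (V : Set K) ≤ V) :
    IsCyclic K ∨ (∃ n : ℕ, Nonempty (K ≃* DihedralGroup (2 ^ n))) ∨
      Nonempty (K ≃* alternatingGroup (Fin 4)) := by
  obtain ⟨y, hy1, hy2⟩ := exists_compl_gen S hcyc
  have hcop : Nat.Coprime (Nat.card (S : Subgroup K)) (S : Subgroup K).index :=
    Sylow.card_coprime_index S
  have hodd : Odd (orderOf y) := by
    rw [hy1, ← Nat.not_even_iff_odd, even_iff_two_dvd]
    exact Sylow.not_dvd_index S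
  have hyS : y ∈ (S : Subgroup K) → Nonempty (K ≃* ↥(S : Subgroup K)) := by
    intro hy
    have h1 : orderOf y ∣ Nat.card (S : Subgroup K) := Subgroup.orderOf_dvd_natCard _ hy
    rw [hy1] at h1
    have h2 : (S : Subgroup K).index = 1 := Nat.Coprime.eq_one_of_dvd hcop.symm h1
    have h3 : (S : Subgroup K) = ⊤ := Subgroup.index_eq_one.mp h2
    exact ⟨Subgroup.topEquiv.symm.trans (MulEquiv.subgroupCongr h3.symm)⟩
  have hA : IsCyclic ↥(S : Subgroup K) → IsCyclic K := by
    intro hc
    obtain ⟨s₀, hs₀⟩ := IsCyclic.exists_generator (α := ↥(S : Subgroup K))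
    have hgen : ∀ s ∈ (S : Subgroup K), s ∈ Subgroup.zpowers (s₀ : K) := by
      intro s hs
      obtain ⟨j, hj⟩ := Subgroup.mem_zpowers_iff.mp (hs₀ ⟨s, hs⟩)
      refine Subgroup.mem_zpowers_iff.mpr ⟨j, ?_⟩
      have := congrArg Subtype.val hj
      simpa using this
    refine cyclic_of_commute S s₀ s₀.2 hgen y hy2 ?_
    exact (centralize_of_pgroup_aut (S : Subgroup K) y hodd
      (isPGroup_mulAut_of_cyclic S.isPGroup' hc) s₀ s₀.2).symm
  rcases hS with hc | ⟨j, ⟨e⟩⟩
  · left; exact hA hc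
  rcases Nat.eq_zero_or_pos j with rfl | hj
  · left
    apply hA
    have h2 : Nat.card ↥(S : Subgroup K) = 2 := by rw [card_eq e]; norm_num
    exact isCyclic_of_prime_card (p := 2) h2
  have hj1 : 1 ≤ j := hj
  rcases subgroup_dichotomy e hj1 (⊤ : Subgroup ↥(S : Subgroup K)) with hK4 | hAut
  · -- Klein four
    have hScard : Nat.card ↥(S : Subgroup K) = 4 := by
      have := hK4.card_four
      rwa [Subgroup.card_top] at this
    have hSexp : ∀ s ∈ (S : Subgroup K), s ^ 2 = 1 := by
      intro s hs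
      have := Wr.sq_eq_one_of_isKleinFour (⊤ : Subgroup ↥(S : Subgroup K)) hK4
        (Subgroup.mem_top ⟨s, hs⟩)
      rw [pow_two]
      have := congrArg Subtype.val this
      simpa using this
    have hCS := hV (S : Subgroup K) hScard hSexp
    set φ : MulAut ↥(S : Subgroup K) := MulAut.conjNormal y with hφ
    have h24 : orderOf φ ∣ 24 := by
      have hinj : Function.Injective (MulAut.toPerm ↥(S : Subgroup K)) := by
        intro a b hab
        exact MulEquiv.ext (fun x => Equiv.congr_fun hab x)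
      rw [← orderOf_injective (MulAut.toPerm ↥(S : Subgroup K)) hinj φ]
      have := orderOf_dvd_natCard (MulAut.toPerm ↥(S : Subgroup K) φ)
      rwa [Nat.card_perm, hScard] at this
    have hm : orderOf φ ∣ orderOf y := by
      apply orderOf_dvd_of_pow_eq_one
      rw [hφ, ← map_pow, pow_orderOf_eq_one, map_one]
    have hc2 : ∀ k : ℕ, Nat.Coprime (orderOf y) (2 ^ k) := fun k =>
      Nat.Coprime.pow_right k (Nat.coprime_two_right.mpr hodd)
    have h3 : orderOf φ ∣ 3 := by
      have hc8 : Nat.Coprime (orderOf φ) 8 := Nat.Coprime.coprime_dvd_left hm (hc2 3)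
      exact Nat.Coprime.dvd_of_dvd_mul_left hc8 (by simpa using h24)
    have hφ3 : MulAut.conjNormal (y ^ 3) = (1 : MulAut ↥(S : Subgroup K)) := by
      rw [map_pow]; exact orderOf_dvd_iff_pow_eq_one.mp h3
    have hy3C : y ^ 3 ∈ Subgroup.centralizer (((S : Subgroup K)) : Set K) := by
      rw [Subgroup.mem_centralizer_iff]
      intro s hs
      exact (centralize_of_conjNormal_eq_one (S : Subgroup K) (y ^ 3) hφ3 s hs).symm
    have hy3S : y ^ 3 ∈ (S : Subgroup K) := hCS hy3C
    have hy3 : y ^ 3 = 1 := by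
      have d1 : orderOf (y ^ 3) ∣ 4 := by
        rw [← hScard]; exact Subgroup.orderOf_dvd_natCard _ hy3S
      have d2 : orderOf (y ^ 3) ∣ orderOf y := orderOf_pow_dvd 3
      have : orderOf (y ^ 3) = 1 :=
        Nat.Coprime.eq_one_of_dvd (Nat.Coprime.coprime_dvd_left d2 (hc2 2)) d1
      exact orderOf_eq_one_iff.mp this
    have ho : orderOf y ∣ 3 := orderOf_dvd_of_pow_eq_one hy3
    rcases (Nat.dvd_prime Nat.prime_three).mp ho with ho1 | ho3
    · right; left
      have : y = 1 := orderOf_eq_one_iff.mp ho1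
      obtain ⟨f⟩ := hyS (by rw [this]; exact Subgroup.one_mem _)
      exact ⟨j, ⟨f.trans e⟩⟩
    · right; right
      have hK12 : Nat.card K = 12 := by
        rw [← Subgroup.card_mul_index (S : Subgroup K), hScard, ← hy1, ho3]
      apply Cfsg.Agent.Lib.Helper15.nonempty_mulEquiv_A4 hK12 (Subgroup.zpowers y)
        (by rw [Nat.card_zpowers, ho3])
      intro hn
      have hyC : y ∈ Subgroup.centralizer (((S : Subgroup K)) : Set K) := by
        rw [Subgroup.mem_centralizer_iff]
        intro s hs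
        set c := s * y * s⁻¹ * y⁻¹ with hc
        have hcY : c ∈ Subgroup.zpowers y :=
          Subgroup.mul_mem _ (hn.conj_mem y (Subgroup.mem_zpowers y) s)
            (Subgroup.inv_mem _ (Subgroup.mem_zpowers y))
        have hcS : c ∈ (S : Subgroup K) := by
          have e1 : c = s * (y * s⁻¹ * y⁻¹) := by rw [hc]; group
          rw [e1]
          exact Subgroup.mul_mem _ hs
            ((inferInstance : (S : Subgroup K).Normal).conj_mem _ (Subgroup.inv_mem _ hs) y)
        have d1 : orderOf c ∣ 4 := by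
          rw [← hScard]; exact Subgroup.orderOf_dvd_natCard _ hcS
        have d2 : orderOf c ∣ 3 := by
          have := Subgroup.orderOf_dvd_natCard _ hcY
          rwa [Nat.card_zpowers, ho3] at this
        have hc1 : c = 1 :=
          orderOf_eq_one_iff.mp (Nat.dvd_one.mp (by simpa using Nat.dvd_gcd d1 d2))
        have : s * y = c * (y * s) := by rw [hc]; group
        rw [this, hc1, one_mul]
      have hyS' := hCS hyC
      have := Subgroup.orderOf_dvd_natCard _ hyS'
      rw [ho3, hScard] at this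
      omega
  · -- `Aut(S)` is a 2-group
    have hAut' : IsPGroup 2 (MulAut ↥(S : Subgroup K)) :=
      hAut.of_equiv (MulAut.congr Subgroup.topEquiv)
    have hcent := centralize_of_pgroup_aut (S : Subgroup K) y hodd hAut'
    right; left
    have hT := isKleinFour_centralizer_σ e hj1 0
    set T : Subgroup ↥(S : Subgroup K) :=
      Subgroup.centralizer ({σ e 0} : Set ↥(S : Subgroup K)) with hTdef
    have hV4 : Nat.card (T.map (S : Subgroup K).subtype) = 4 := by
      rw [Subgroup.card_map_of_injective (Subgroup.subtype_injective _)]; exact hT.card_four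
    have hVexp : ∀ v ∈ T.map (S : Subgroup K).subtype, v ^ 2 = 1 := by
      rintro _ ⟨t, ht, rfl⟩
      have := Wr.sq_eq_one_of_isKleinFour T hT ht
      rw [pow_two]
      have := congrArg Subtype.val this
      simpa using this
    have hyC : y ∈ Subgroup.centralizer
        ((T.map (S : Subgroup K).subtype : Subgroup K) : Set K) := by
      rw [Subgroup.mem_centralizer_iff]
      rintro _ ⟨t, ht, rfl⟩
      exact (hcent t t.2).symm
    obtain ⟨t, ht, hty⟩ := hV _ hV4 hVexp hyC
    have hyS' : y ∈ (S : Subgroup K) := by rw [← hty]; exact t.2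
    obtain ⟨f⟩ := hyS hyS'
    exact ⟨j, ⟨f.trans e⟩⟩

variable {G : Type*} [Group G] [Finite G]

/-- the property of the left-hand side -/
def TwoByCyc (G : Type*) [Group G] : Prop :=
  ∀ H : Subgroup G, (∀ S : Sylow 2 ↥H, (S : Subgroup ↥H).Normal) →
    (∀ (S : Sylow 2 ↥H) [(S : Subgroup ↥H).Normal], IsCyclic (↥H ⧸ (S : Subgroup ↥H))) →
    IsCyclic H ∨ (∃ n : ℕ, Nonempty (H ≃* DihedralGroup (2 ^ n))) ∨
      Nonempty (H ≃* alternatingGroup (Fin 4))

omit [Finite G] in
theorem not_cyclic_of_klein (K : Subgroup G) (hK4 : Nat.card K = 4)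
    (hexp : ∀ k ∈ K, k ^ 2 = 1) : ¬ IsCyclic K := by
  intro hc
  obtain ⟨g, hg⟩ := IsCyclic.exists_generator (α := ↥K)
  have h1 := orderOf_eq_card_of_forall_mem_zpowers hg
  rw [hK4] at h1
  have h2 : g ^ 2 = 1 := Subtype.ext (by simpa using hexp g g.2)
  have h3 := orderOf_dvd_of_pow_eq_one h2
  rw [h1] at h3
  omega

theorem alt_four_not_comm :
    ∃ x y : alternatingGroup (Fin 4), x * y ≠ y * x := by
  decide

theorem forward_klein (hL : TwoByCyc G) (K : Subgroup G) (hK4 : Nat.card K = 4)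
    (hexp : ∀ k ∈ K, k ^ 2 = 1) : Subgroup.centralizer (K : Set G) = K := by
  have hinv : ∀ a ∈ K, a⁻¹ = a := by
    intro a ha
    rw [inv_eq_iff_mul_eq_one, ← pow_two]; exact hexp a ha
  have hab : ∀ a ∈ K, ∀ b ∈ K, a * b = b * a := by
    intro a ha b hb
    calc a * b = (a * b)⁻¹ := (hinv _ (K.mul_mem ha hb)).symm
      _ = b⁻¹ * a⁻¹ := mul_inv_rev _ _
      _ = b * a := by rw [hinv a ha, hinv b hb]
  apply le_antisymm
  · intro c hc
    have hcN : c ∈ Subgroup.normalizer (K : Set G) := Subgroup.centralizer_le_normalizer _ hc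
    have hcK : ∀ k ∈ K, k * c = c * k := Subgroup.mem_centralizer_iff.mp hc
    have hKp : IsPGroup 2 K := IsPGroup.of_card (n := 2) (by rw [hK4]; norm_num)
    haveI : (K.subgroupOf (K ⊔ Subgroup.zpowers c)).Normal :=
      Subgroup.normal_subgroupOf_of_le_normalizer
        (sup_le Subgroup.le_normalizer (Subgroup.zpowers_le.mpr hcN))
    obtain ⟨h1, h2⟩ := hyps_of_normal (p := 2) (K.subgroupOf (K ⊔ Subgroup.zpowers c))
      (hKp.comap_subtype) (quotient_cyclic K c hcN)
    have hKA : K ≤ K ⊔ Subgroup.zpowers c := le_sup_left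
    have hcA : c ∈ K ⊔ Subgroup.zpowers c := Subgroup.mem_sup_right (Subgroup.mem_zpowers c)
    -- `A` is abelian
    have s1 : ∀ k ∈ K, ∀ a ∈ K ⊔ Subgroup.zpowers c, k * a = a * k := by
      intro k hk a ha
      have hle : K ⊔ Subgroup.zpowers c ≤ Subgroup.centralizer ({k} : Set G) := by
        apply sup_le
        · intro k' hk'
          rw [Subgroup.mem_centralizer_iff]
          intro h hh
          rw [Set.mem_singleton_iff.mp hh]
          exact hab k hk k' hk'
        · apply Subgroup.zpowers_le.mpr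
          rw [Subgroup.mem_centralizer_iff]
          intro h hh
          rw [Set.mem_singleton_iff.mp hh]
          exact hcK k hk
      exact (Subgroup.mem_centralizer_iff.mp (hle ha)) k rfl
    have s2 : ∀ a ∈ K ⊔ Subgroup.zpowers c, c * a = a * c := by
      intro a ha
      have hle : K ⊔ Subgroup.zpowers c ≤ Subgroup.centralizer ({c} : Set G) := by
        apply sup_le
        · intro k' hk'
          rw [Subgroup.mem_centralizer_iff]
          intro h hh
          rw [Set.mem_singleton_iff.mp hh]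
          exact (hcK k' hk').symm
        · apply Subgroup.zpowers_le.mpr
          rw [Subgroup.mem_centralizer_iff]
          intro h hh
          rw [Set.mem_singleton_iff.mp hh]
      exact (Subgroup.mem_centralizer_iff.mp (hle ha)) c rfl
    have s3 : ∀ a ∈ K ⊔ Subgroup.zpowers c, ∀ b ∈ K ⊔ Subgroup.zpowers c, a * b = b * a := by
      intro a ha b hb
      have hle : K ⊔ Subgroup.zpowers c ≤ Subgroup.centralizer ({b} : Set G) := by
        apply sup_le
        · intro k' hk'
          rw [Subgroup.mem_centralizer_iff]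
          intro h hh
          rw [Set.mem_singleton_iff.mp hh]
          exact (s1 k' hk' b hb).symm
        · apply Subgroup.zpowers_le.mpr
          rw [Subgroup.mem_centralizer_iff]
          intro h hh
          rw [Set.mem_singleton_iff.mp hh]
          exact (s2 b hb).symm
      exact ((Subgroup.mem_centralizer_iff.mp (hle ha)) b rfl).symm
    rcases hL _ h1 h2 with hcy | ⟨n, ⟨e⟩⟩ | ⟨⟨f⟩⟩
    · exfalso
      have := hcy
      have h3 : IsCyclic ↥(K.subgroupOf (K ⊔ Subgroup.zpowers c)) := inferInstance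
      exact not_cyclic_of_klein K hK4 hexp ((Subgroup.subgroupOfEquivOfLe hKA).isCyclic.mp h3)
    · -- dihedral and abelian
      have h3 := s3 _ (ρ e 1).2 _ (σ e 0).2
      have h4 : ρ e 1 * σ e 0 = σ e 0 * ρ e 1 := Subtype.ext h3
      rw [ρ_mul_σ, σ_mul_ρ, σ_inj] at h4
      have h5 : ((2 : ℕ) : ZMod (2 ^ n)) = 0 := by
        push_cast
        linear_combination -h4
      rw [ZMod.natCast_eq_zero_iff] at h5
      have h6 : 2 ^ n ≤ 2 := Nat.le_of_dvd (by norm_num) h5
      have h7 : Nat.card ↥(K ⊔ Subgroup.zpowers c) ≤ Nat.card K := by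
        rw [Nat.card_congr e.toEquiv, DihedralGroup.nat_card, hK4]
        omega
      have h8 := Subgroup.eq_of_le_of_card_ge hKA h7
      rw [h8]
      exact hcA
    · exfalso
      obtain ⟨x, y, hxy⟩ := alt_four_not_comm
      apply hxy
      apply f.symm.injective
      rw [map_mul, map_mul]
      exact Subtype.ext (s3 _ (f.symm x).2 _ (f.symm y).2)
  · intro k hk
    rw [Subgroup.mem_centralizer_iff]
    intro h hh
    exact hab h hh k hk

theorem card_alt_four : Nat.card (alternatingGroup (Fin 4)) = 12 := by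
  rw [Nat.card_eq_fintype_card]
  have := two_mul_card_alternatingGroup (α := Fin 4)
  rw [Fintype.card_perm, Fintype.card_fin] at this
  have h24 : Nat.factorial 4 = 24 := rfl
  omega

theorem forward (P : Sylow 2 G) (hL : TwoByCyc G) :
    (IsCyclic P ∨
      ((∃ n : ℕ, 1 ≤ n ∧ Nonempty ((P : Subgroup G) ≃* DihedralGroup (2 ^ n))) ∧
        ∀ K : Subgroup G, K ≤ P → Nat.card K = 4 → (∀ k ∈ K, k ^ 2 = 1) →
          Subgroup.centralizer (K : Set G) = K)) := by
  obtain ⟨h1, h2⟩ := hyps_of_normal (p := 2) (⊤ : Subgroup ↥(P : Subgroup G))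
    (P.isPGroup'.to_subgroup ⊤) (by
      haveI : Subsingleton (↥(P : Subgroup G) ⧸ (⊤ : Subgroup ↥(P : Subgroup G))) :=
        QuotientGroup.subsingleton_quotient_top
      exact isCyclic_of_subsingleton)
  rcases hL _ h1 h2 with hc | ⟨n, ⟨e⟩⟩ | ⟨⟨f⟩⟩
  · left; exact hc
  · rcases Nat.eq_zero_or_pos n with rfl | hn
    · left
      have h3 : Nat.card ↥(P : Subgroup G) = 2 := by rw [card_eq e]; norm_num
      exact isCyclic_of_prime_card (p := 2) h3
    · right
      exact ⟨⟨n, hn, ⟨e⟩⟩, fun K _ hK4 hexp => forward_klein hL K hK4 hexp⟩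
  · exfalso
    obtain ⟨a, ha⟩ := IsPGroup.iff_card.mp P.isPGroup'
    rw [Nat.card_congr f.toEquiv, card_alt_four] at ha
    have h3 : 3 ∣ 2 ^ a := by rw [← ha]; norm_num
    have h4 := Nat.Prime.dvd_of_dvd_pow Nat.prime_three h3
    omega

theorem rhs_global (P : Sylow 2 G)
    (hR : IsCyclic P ∨
      ((∃ n : ℕ, 1 ≤ n ∧ Nonempty ((P : Subgroup G) ≃* DihedralGroup (2 ^ n))) ∧
        ∀ K : Subgroup G, K ≤ P → Nat.card K = 4 → (∀ k ∈ K, k ^ 2 = 1) →
          Subgroup.centralizer (K : Set G) = K)) :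
    (∀ Q : Subgroup G, IsPGroup 2 Q →
      IsCyclic Q ∨ ∃ j : ℕ, Nonempty (Q ≃* DihedralGroup (2 ^ j))) ∧
    (∀ K : Subgroup G, Nat.card K = 4 → (∀ k ∈ K, k ^ 2 = 1) →
      Subgroup.centralizer (K : Set G) ≤ K) := by
  constructor
  · intro Q hQ
    obtain ⟨P₁, hP₁⟩ := hQ.exists_le_sylow
    rcases hR with hc | ⟨⟨n, -, ⟨e⟩⟩, -⟩
    · left
      haveI : IsCyclic ↥(P₁ : Subgroup G) := (Sylow.equiv P P₁).isCyclic.mp hc
      have h3 : IsCyclic ↥(Q.subgroupOf (P₁ : Subgroup G)) := inferInstance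
      exact (Subgroup.subgroupOfEquivOfLe hP₁).isCyclic.mp h3
    · rcases sub_dihedral ((Sylow.equiv P₁ P).trans e) (Q.subgroupOf (P₁ : Subgroup G)) with
        h3 | ⟨k, ⟨f⟩⟩
      · left
        exact (Subgroup.subgroupOfEquivOfLe hP₁).isCyclic.mp h3
      · right
        exact ⟨k, ⟨(Subgroup.subgroupOfEquivOfLe hP₁).symm.trans f⟩⟩
  · intro K hK4 hexp
    have hKp : IsPGroup 2 K := IsPGroup.of_card (n := 2) (by rw [hK4]; norm_num)
    obtain ⟨P₁, hP₁⟩ := hKp.exists_le_sylow
    rcases hR with hc | ⟨-, hKl⟩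
    · exfalso
      haveI : IsCyclic ↥(P₁ : Subgroup G) := (Sylow.equiv P P₁).isCyclic.mp hc
      have h3 : IsCyclic ↥(K.subgroupOf (P₁ : Subgroup G)) := inferInstance
      exact not_cyclic_of_klein K hK4 hexp ((Subgroup.subgroupOfEquivOfLe hP₁).isCyclic.mp h3)
    · obtain ⟨g, hg⟩ := MulAction.exists_smul_eq G P P₁
      set ψ : G ≃* G := MulAut.conj g⁻¹ with hψ
      have hK'P : K.map ψ.toMonoidHom ≤ (P : Subgroup G) := by
        rintro _ ⟨z, hz, rfl⟩
        have h3 := hP₁ hz
        rw [← hg, mem_smul_sylow] at h3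
        simpa [hψ] using h3
      have hK'4 : Nat.card (K.map ψ.toMonoidHom) = 4 := by
        rw [Subgroup.card_map_of_injective ψ.injective, hK4]
      have hK'exp : ∀ k ∈ K.map ψ.toMonoidHom, k ^ 2 = 1 := by
        rintro _ ⟨z, hz, rfl⟩
        show (ψ z) ^ 2 = 1
        rw [← map_pow, hexp z hz, map_one]
      have hC := hKl _ hK'P hK'4 hK'exp
      intro c hc
      have hcK : ∀ k ∈ K, k * c = c * k := Subgroup.mem_centralizer_iff.mp hc
      have h3 : ψ c ∈ Subgroup.centralizer ((K.map ψ.toMonoidHom : Subgroup G) : Set G) := by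
        rw [Subgroup.mem_centralizer_iff]
        rintro _ ⟨z, hz, rfl⟩
        show ψ z * ψ c = ψ c * ψ z
        rw [← map_mul, ← map_mul, hcK z hz]
      rw [hC] at h3
      obtain ⟨z, hz, hzc⟩ := h3
      have : z = c := ψ.injective hzc
      rwa [← this]

theorem backward (P : Sylow 2 G)
    (hR : IsCyclic P ∨
      ((∃ n : ℕ, 1 ≤ n ∧ Nonempty ((P : Subgroup G) ≃* DihedralGroup (2 ^ n))) ∧
        ∀ K : Subgroup G, K ≤ P → Nat.card K = 4 → (∀ k ∈ K, k ^ 2 = 1) →
          Subgroup.centralizer (K : Set G) = K)) : TwoByCyc G := by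
  obtain ⟨hQ, hK⟩ := rhs_global P hR
  intro H h1 h2
  classical
  let S : Sylow 2 ↥H := default
  haveI := h1 S
  apply abstract_main S (h2 S)
  · have hS₀ : IsPGroup 2 ↥((S : Subgroup ↥H).map H.subtype) := S.isPGroup'.map H.subtype
    rcases hQ _ hS₀ with hc | ⟨j, ⟨e⟩⟩
    · left
      exact ((S : Subgroup ↥H).equivMapOfInjective H.subtype H.subtype_injective).isCyclic.mpr hc
    · right
      exact ⟨j, ⟨((S : Subgroup ↥H).equivMapOfInjective H.subtype H.subtype_injective).trans e⟩⟩
  · intro V hV4 hVexp c hc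
    have hV₀4 : Nat.card (V.map H.subtype) = 4 := by
      rw [Subgroup.card_map_of_injective H.subtype_injective, hV4]
    have hV₀exp : ∀ k ∈ V.map H.subtype, k ^ 2 = 1 := by
      rintro _ ⟨v, hv, rfl⟩
      have := hVexp v hv
      have := congrArg Subtype.val this
      simpa using this
    have hc₀ : (c : G) ∈ Subgroup.centralizer ((V.map H.subtype : Subgroup G) : Set G) := by
      rw [Subgroup.mem_centralizer_iff]
      rintro _ ⟨v, hv, rfl⟩
      have := (Subgroup.mem_centralizer_iff.mp hc) v hv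
      exact congrArg Subtype.val this
    obtain ⟨v, hv, hvc⟩ := hK _ hV₀4 hV₀exp hc₀
    have : v = c := Subtype.ext hvc
    rwa [← this]

/-- Let G be a finite group with Sylow 2-subgroup P. Every subgroup H of G whose Sylow 2-subgroup is normal in H with cyclic quotient is cyclic, dihedral of 2-power order, or isomorphic to the alternating group of degree 4, if and only if either P is cyclic, or P is dihedral (of order at least 4) and every elementary abelian subgroup K of order 4 of P satisfies C_G(K) = K. -/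
theorem result {G : Type*} [Group G] [Finite G] (P : Sylow 2 G) :
    (∀ H : Subgroup G, (∀ S : Sylow 2 ↥H, (S : Subgroup ↥H).Normal) →
        (∀ (S : Sylow 2 ↥H) [(S : Subgroup ↥H).Normal], IsCyclic (↥H ⧸ (S : Subgroup ↥H))) →
        IsCyclic H ∨ (∃ n : ℕ, Nonempty (H ≃* DihedralGroup (2 ^ n))) ∨ Nonempty (H ≃* alternatingGroup (Fin 4))) ↔
    (IsCyclic P ∨
      ((∃ n : ℕ, 1 ≤ n ∧ Nonempty ((P : Subgroup G) ≃* DihedralGroup (2 ^ n))) ∧
        ∀ K : Subgroup G, K ≤ P → Nat.card K = 4 → (∀ k ∈ K, k ^ 2 = 1) → Subgroup.centralizer (K : Set G) = K)) := by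
  constructor
  · intro h
    exact forward P h
  · intro h
    exact backward P h

end Cfsg.Agent.S4083
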