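import Cfsg.Statements.S4084
import Mathlib

set_option autoImplicit false
open Cfsg

namespace Cfsg.Agent.S4084

/-- `A x = C(C(x))`, the double centralizer; an abelian subgroup containing `x`. -/
def A {G : Type*} [Group G] (x : G) : Subgroup G :=
  Subgroup.centralizer ((Subgroup.centralizer ({x} : Set G) : Subgroup G) : Set G)

theorem mem_A {G : Type*} [Group G] (x y : G) : y ∈ A x ↔ ∀ z : G, Commute x z → Commute z y := by
  unfold A
  rw [Subgroup.mem_centralizer_iff]
  constructor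
  · intro h z hz
    apply h z
    rw [SetLike.mem_coe, Subgroup.mem_centralizer_iff]
    intro w hw
    rw [Set.mem_singleton_iff] at hw
    subst hw
    exact hz
  · intro h z hz
    apply h z
    rw [SetLike.mem_coe, Subgroup.mem_centralizer_iff] at hz
    exact hz x rfl

theorem A_comm {G : Type*} [Group G] (x a b : G) (ha : a ∈ A x) (hb : b ∈ A x) : Commute a b := by
  rw [mem_A] at ha hb
  have hax : Commute x a := (ha x (Commute.refl x))
  exact hb a hax

theorem self_mem_A {G : Type*} [Group G] (x : G) : x ∈ A x := by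
  rw [mem_A]
  intro z hz
  exact hz.symm

theorem exists_iff {G : Type*} [Group G] [Finite G] {p q : ℕ} (hp : p.Prime) (hq : q.Prime) (hpq : p ≠ q) :
    (∃ g : G, orderOf g = p * q) ↔ ∃ x : G, p * q ∣ Nat.card (A x) := by
  constructor
  · rintro ⟨g, hg⟩
    refine ⟨g, ?_⟩
    rw [← hg]
    have := orderOf_dvd_natCard (⟨g, self_mem_A g⟩ : A g)
    rwa [Subgroup.orderOf_mk] at this
  · rintro ⟨x, hx⟩
    haveI : Fact p.Prime := ⟨hp⟩
    haveI : Fact q.Prime := ⟨hq⟩
    obtain ⟨⟨a, ha⟩, hoa⟩ := exists_prime_orderOf_dvd_card' (G := A x) p ((Dvd.intro _ rfl).trans hx)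
    obtain ⟨⟨b, hb⟩, hob⟩ := exists_prime_orderOf_dvd_card' (G := A x) q ((Dvd.intro_left _ rfl).trans hx)
    rw [Subgroup.orderOf_mk] at hoa hob
    refine ⟨a * b, ?_⟩
    have hcomm : Commute a b := A_comm x a b ha hb
    rw [hcomm.orderOf_mul_eq_mul_orderOf_of_coprime (by rw [hoa, hob]; exact (Nat.coprime_primes hp hq).mpr hpq), hoa, hob]

theorem card_A_eq {G H : Type*} [Group G] [Group H] (e : G ≃ H)
    (he : ∀ x y : G, Commute x y ↔ Commute (e x) (e y)) (x : G) :
    Nat.card (A x) = Nat.card (A (e x)) := by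
  apply Nat.card_congr
  refine e.subtypeEquiv ?_
  intro y
  show y ∈ A x ↔ e y ∈ A (e x)
  rw [mem_A, mem_A]
  constructor
  · intro h z hz
    obtain ⟨z, rfl⟩ := e.surjective z
    exact (he _ _).mp (h z ((he _ _).mpr hz))
  · intro h z hz
    exact (he _ _).mpr (h (e z) ((he _ _).mp hz))

theorem result {G H : Type*} [Group G] [Finite G] [Group H] [Finite H] (e : G ≃ H)
    (he : ∀ x y : G, Commute x y ↔ Commute (e x) (e y))
    {p q : ℕ} (hp : p.Prime) (hq : q.Prime) (hpq : p ≠ q) :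
    (∃ g : G, orderOf g = p * q) ↔ (∃ h : H, orderOf h = p * q) := by
  rw [exists_iff hp hq hpq, exists_iff hp hq hpq]
  constructor
  · rintro ⟨x, hx⟩
    exact ⟨e x, by rwa [← card_A_eq e he x]⟩
  · rintro ⟨y, hy⟩
    obtain ⟨x, rfl⟩ := e.surjective y
    exact ⟨x, by rwa [card_A_eq e he x]⟩

end Cfsg.Agent.S4084
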