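import Mathlib
import Cfsg.Statements.S4085
import Cfsg.Agent.Lib.Helper12.PowerGraphA
import Cfsg.Agent.Lib.Helper12.PowerGraphB

set_option autoImplicit false
open Cfsg

namespace Cfsg.Agent.S4085

open Cfsg.Agent.Lib.Helper12.PowerGraph Subgroup

/-- one direction of the statement -/
theorem one_dir {G H : Type*} [Group G] [Finite G] [Group H] [Finite H] (e : G ≃ H)
    (he : ∀ x y : G, adj x y ↔ adj (e x) (e y)) {p q : ℕ} (hp : p.Prime) (hq : q.Prime)
    (hpq : p ≠ q) (hG : ∃ g : G, orderOf g = p * q) : ∃ h : H, orderOf h = p * q := by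
  obtain ⟨z, hz⟩ := hG
  have hcard : Nat.card H = Nat.card G := (Nat.card_congr e).symm
  have hdvd : p * q ∣ Nat.card H := by rw [hcard, ← hz]; exact orderOf_dvd_natCard z
  have univ_map : ∀ x : G, (∀ w, adj w (e x)) ↔ (∀ w, adj w x) :=
    fun x => mem_univSet_map (R := adj) (R' := adj) e he x
  by_cases hSG : ∀ x : G, (∀ w, adj w x) → x = 1
  · have he1 : e 1 = 1 := by
      have h1 : ∀ w : G, adj w (e.symm 1) := by
        rw [← univ_map]
        intro w
        rw [e.apply_symm_apply]
        exact adj_one_right w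
      have h2 := hSG _ h1
      rw [← h2, e.apply_symm_apply]
    have hSH : ∀ y : H, (∀ w, adj w y) → y = 1 := by
      intro y hy
      have h1 : ∀ w : G, adj w (e.symm y) := by
        rw [← univ_map]
        intro w
        rw [e.apply_symm_apply]
        exact hy w
      have h2 := hSG _ h1
      rw [← he1, ← h2, e.apply_symm_apply]
    have hNP : NP z := by
      rintro ⟨ℓ, k, hℓ, hk⟩
      rw [hz] at hk
      have h1 : p ∣ ℓ ^ k := hk ▸ dvd_mul_right p q
      have h2 : q ∣ ℓ ^ k := hk ▸ dvd_mul_left q p
      exact hpq (((Nat.prime_dvd_prime_iff_eq hp hℓ).mp (hp.dvd_of_dvd_pow h1)).trans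
        ((Nat.prime_dvd_prime_iff_eq hq hℓ).mp (hq.dvd_of_dvd_pow h2)).symm)
    have hLow : Low adj z = (zpowers z : Set G) := Low_eq_zpowers hSG hNP
    have hao : orderOf (z ^ q) = p := by
      rw [orderOf_pow, hz, Nat.gcd_eq_right (dvd_mul_left q p), Nat.mul_div_cancel _ hq.pos]
    have hbo : orderOf (z ^ p) = q := by
      rw [orderOf_pow, hz, Nat.gcd_eq_right (dvd_mul_right p q), Nat.mul_div_cancel_left _ hp.pos]
    have hab : ¬ adj (z ^ q) (z ^ p) := by
      rintro (h | h)
      · have := orderOf_dvd_of_mem_zpowers h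
        rw [hao, hbo] at this
        exact hpq ((Nat.prime_dvd_prime_iff_eq hp hq).mp this)
      · have := orderOf_dvd_of_mem_zpowers h
        rw [hao, hbo] at this
        exact hpq ((Nat.prime_dvd_prime_iff_eq hq hp).mp this).symm
    have haL : z ^ q ∈ Low adj z := by rw [hLow]; exact Subgroup.pow_mem _ (mem_zpowers z) _
    have hbL : z ^ p ∈ Low adj z := by rw [hLow]; exact Subgroup.pow_mem _ (mem_zpowers z) _
    have haL' : e (z ^ q) ∈ Low adj (e z) := (mem_Low_map (R := adj) (R' := adj) e he z _).mpr haL
    have hbL' : e (z ^ p) ∈ Low adj (e z) := (mem_Low_map (R := adj) (R' := adj) e he z _).mpr hbL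
    have hab' : ¬ adj (e (z ^ q)) (e (z ^ p)) := fun h => hab ((he _ _).mpr h)
    have hz'1 : e z ≠ 1 := by
      intro h
      rw [← he1] at h
      have h3 := e.injective h
      rw [h3, orderOf_one] at hz
      have := hp.two_le
      have := hq.two_le
      nlinarith
    have hNP' : NP (e z) := by
      by_contra hcon
      exact hab' (Low_clique hSH hz'1 hcon _ haL' _ hbL')
    have hLow' : Low adj (e z) = (zpowers (e z) : Set H) := Low_eq_zpowers hSH hNP'
    refine ⟨e z, ?_⟩
    have h1 : (Low adj (e z)).ncard = (Low adj z).ncard := by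
      rw [Low_map (R := adj) (R' := adj) e he, Set.ncard_image_of_injective _ e.injective]
    rw [hLow', hLow, ncard_zpowers, ncard_zpowers] at h1
    rw [h1, hz]
  · push Not at hSG
    obtain ⟨g, hg, hg1⟩ := hSG
    have hg' : ∀ w, adj w (e g) := (univ_map g).mpr hg
    have h1' : ∀ w, adj w (e 1) := (univ_map 1).mpr (fun w => adj_one_right w)
    by_cases h : e g = 1
    · have h2 : e 1 ≠ 1 := by
        intro h'
        exact hg1 (e.injective (h.trans h'.symm))
      exact exists_orderOf_eq_mul_of_univ h1' h2 hp hq hpq hdvd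
    · exact exists_orderOf_eq_mul_of_univ hg' h hp hq hpq hdvd

/-- Let G and H be finite groups whose power graphs are isomorphic: there is a bijection e : G → H such that, for all x, y, one of x, y is a power of the other exactly when one of e(x), e(y) is a power of the other. Then G and H have the same prime graph: for distinct primes p, q, G has an element of order pq if and only if H does. -/
theorem result {G H : Type*} [Group G] [Finite G] [Group H] [Finite H] (e : G ≃ H)
    (he : ∀ x y : G, (x ∈ Subgroup.zpowers y ∨ y ∈ Subgroup.zpowers x) ↔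
      (e x ∈ Subgroup.zpowers (e y) ∨ e y ∈ Subgroup.zpowers (e x)))
    {p q : ℕ} (hp : p.Prime) (hq : q.Prime) (hpq : p ≠ q) :
    (∃ g : G, orderOf g = p * q) ↔ (∃ h : H, orderOf h = p * q) := by
  constructor
  · exact one_dir e (fun x y => he x y) hp hq hpq
  · refine one_dir e.symm (fun x y => ?_) hp hq hpq
    have := he (e.symm x) (e.symm y)
    rw [e.apply_symm_apply, e.apply_symm_apply] at this
    exact this.symm

end Cfsg.Agent.S4085
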