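import Cfsg.Statements.S4086
import Mathlib

set_option autoImplicit false
open Cfsg

namespace Cfsg.Agent.S4086

/-- In a cyclic group generated by `g` whose order `n` satisfies: divisors of `n` form a chain,
powers of `g` are comparable. Here we do the key step: if `gcd(b,n) ∣ a` then `g^a ∈ ⟨g^b⟩`. -/
theorem zpow_mem_zpowers_of_gcd_dvd {G : Type*} [Group G] (g : G) (a b : ℤ)
    (h : (Int.gcd b (orderOf g) : ℤ) ∣ a) : g ^ a ∈ Subgroup.zpowers (g ^ b) := by
  obtain ⟨c, hc⟩ := h
  have hb := Int.gcd_eq_gcd_ab b (orderOf g)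
  rw [Subgroup.mem_zpowers_iff]
  refine ⟨Int.gcdA b (orderOf g) * c, ?_⟩
  rw [← zpow_mul, hc, hb, add_mul, zpow_add]
  have : g ^ ((orderOf g : ℤ) * Int.gcdB b (orderOf g) * c) = 1 := by
    rw [mul_assoc, zpow_mul, zpow_natCast, pow_orderOf_eq_one, one_zpow]
  rw [this, mul_one, mul_assoc]

theorem comparable_of_prime_pow {G : Type*} [Group G] (g : G) (p k : ℕ) (hp : p.Prime)
    (hg : orderOf g = p ^ k) (a b : ℤ) :
    g ^ a ∈ Subgroup.zpowers (g ^ b) ∨ g ^ b ∈ Subgroup.zpowers (g ^ a) := by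
  have ha : Int.gcd a (orderOf g) ∣ p ^ k := by
    have := Int.gcd_dvd_natAbs_right a (orderOf g)
    rw [Int.natAbs_natCast] at this
    rwa [hg] at this ⊢
  have hb : Int.gcd b (orderOf g) ∣ p ^ k := by
    have := Int.gcd_dvd_natAbs_right b (orderOf g)
    rw [Int.natAbs_natCast] at this
    rwa [hg] at this ⊢
  obtain ⟨i, _, hi⟩ := (Nat.dvd_prime_pow hp).mp ha
  obtain ⟨j, _, hj⟩ := (Nat.dvd_prime_pow hp).mp hb
  rcases le_total j i with hji | hij
  · left
    apply zpow_mem_zpowers_of_gcd_dvd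
    have h1 : (Int.gcd b (orderOf g) : ℤ) ∣ (Int.gcd a (orderOf g) : ℤ) := by
      rw [hi, hj]; exact_mod_cast pow_dvd_pow p hji
    exact h1.trans (Int.gcd_dvd_left a (orderOf g))
  · right
    apply zpow_mem_zpowers_of_gcd_dvd
    have h1 : (Int.gcd a (orderOf g) : ℤ) ∣ (Int.gcd b (orderOf g) : ℤ) := by
      rw [hi, hj]; exact_mod_cast pow_dvd_pow p hij
    exact h1.trans (Int.gcd_dvd_left b (orderOf g))

theorem result {G : Type*} [Group G] [Finite G] :
    (∀ g : G, g ≠ 1 → IsPrimePow (orderOf g)) ↔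
    (∀ x y : G, IsCyclic ↥(Subgroup.closure ({x, y} : Set G)) → (x ∈ Subgroup.zpowers y ∨ y ∈ Subgroup.zpowers x)) := by
  constructor
  · intro h x y hcyc
    obtain ⟨⟨g, hgm⟩, hgen⟩ := hcyc.exists_generator
    have hxm : x ∈ Subgroup.closure ({x, y} : Set G) := Subgroup.subset_closure (by simp)
    have hym : y ∈ Subgroup.closure ({x, y} : Set G) := Subgroup.subset_closure (by simp)
    obtain ⟨a, ha⟩ := Subgroup.mem_zpowers_iff.mp (hgen ⟨x, hxm⟩)
    obtain ⟨b, hb⟩ := Subgroup.mem_zpowers_iff.mp (hgen ⟨y, hym⟩)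
    have ha' : g ^ a = x := by simpa using congrArg Subtype.val ha
    have hb' : g ^ b = y := by simpa using congrArg Subtype.val hb
    by_cases hg1 : g = 1
    · left
      rw [← ha', hg1, one_zpow]; exact Subgroup.one_mem _
    · obtain ⟨p, k, hp, _, hpk⟩ := h g hg1
      rw [← ha', ← hb']
      exact comparable_of_prime_pow g p k hp.nat_prime hpk.symm a b
  · intro h g hg1
    have hn1 : orderOf g ≠ 1 := fun h1 => hg1 (orderOf_eq_one_iff.mp h1)
    rw [isPrimePow_iff_unique_prime_dvd]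
    obtain ⟨p, hp, hpn⟩ := Nat.exists_prime_and_dvd hn1
    refine ⟨p, ⟨hp, hpn⟩, ?_⟩
    rintro q ⟨hq, hqn⟩
    -- elements of order p and q
    have hpos : 0 < orderOf g := orderOf_pos g
    set x := g ^ (orderOf g / p) with hx
    set y := g ^ (orderOf g / q) with hy
    have hox : orderOf x = p := orderOf_pow_orderOf_div hpos.ne' hpn
    have hoy : orderOf y = q := orderOf_pow_orderOf_div hpos.ne' hqn
    have hle : Subgroup.closure ({x, y} : Set G) ≤ Subgroup.zpowers g := by
      rw [Subgroup.closure_le]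
      rintro z hz
      rcases hz with rfl | rfl
      · exact Subgroup.pow_mem _ (Subgroup.mem_zpowers g) _
      · exact Subgroup.pow_mem _ (Subgroup.mem_zpowers g) _
    have hcyc : IsCyclic ↥(Subgroup.closure ({x, y} : Set G)) :=
      isCyclic_of_injective (Subgroup.inclusion hle) (Subgroup.inclusion_injective hle)
    rcases h x y hcyc with hxy | hyx
    · have : orderOf x ∣ orderOf y := by
        obtain ⟨i, hi⟩ := Subgroup.mem_zpowers_iff.mp hxy
        rw [← hi]; exact orderOf_dvd_of_pow_eq_one (by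
          rw [← zpow_natCast, ← zpow_mul, mul_comm, zpow_mul, zpow_natCast, pow_orderOf_eq_one, one_zpow])
      rw [hox, hoy] at this
      exact ((Nat.prime_dvd_prime_iff_eq hp hq).mp this).symm
    · have : orderOf y ∣ orderOf x := by
        obtain ⟨i, hi⟩ := Subgroup.mem_zpowers_iff.mp hyx
        rw [← hi]; exact orderOf_dvd_of_pow_eq_one (by
          rw [← zpow_natCast, ← zpow_mul, mul_comm, zpow_mul, zpow_natCast, pow_orderOf_eq_one, one_zpow])
      rw [hox, hoy] at this
      exact (Nat.prime_dvd_prime_iff_eq hq hp).mp this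

end Cfsg.Agent.S4086
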