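import Mathlib
import Cfsg.Statements.S4089
import Cfsg.Agent.Lib.Helper1.Cores
import Cfsg.Agent.Lib.Helper17.Basic
import Cfsg.Agent.Lib.Helper17.Subnormal
import Cfsg.Agent.Lib.Helper17.SubnormalClosure
import Cfsg.Agent.Lib.Helper17.NormFix

set_option autoImplicit false
open Cfsg

namespace Cfsg.Agent.S4089

open Subgroup Cfsg.Agent.Lib.Helper17

variable {G : Type*} [Group G]

/-- The operator `R ↦ O_p(N_G(R))` (viewed in `G`). -/
def radOp (p : ℕ) (R : Subgroup G) : Subgroup G :=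
  (Cfsg.pCore p (Subgroup.normalizer (R : Set G))).map (Subgroup.normalizer (R : Set G)).subtype

theorem radOp_isPGroup [Finite G] (p : ℕ) [Fact p.Prime] (R : Subgroup G) :
    IsPGroup p (radOp p R) :=
  (pCore_isPGroup (p := p) (G := ↥(Subgroup.normalizer (R : Set G)))).map _

theorem le_radOp [Finite G] (p : ℕ) [Fact p.Prime] {R : Subgroup G} (hR : IsPGroup p R) :
    R ≤ radOp p R := by
  intro x hx
  have hxN : x ∈ Subgroup.normalizer (R : Set G) := Subgroup.le_normalizer hx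
  have h1 : R.subgroupOf (Subgroup.normalizer (R : Set G)) ≤
      pCore p ↥(Subgroup.normalizer (R : Set G)) :=
    subgroupOf_le_pCore le_rfl hR
  have h2 : (⟨x, hxN⟩ : ↥(Subgroup.normalizer (R : Set G))) ∈
      pCore p ↥(Subgroup.normalizer (R : Set G)) := h1 (Subgroup.mem_subgroupOf.mpr hx)
  exact Subgroup.mem_map.mpr ⟨⟨x, hxN⟩, h2, rfl⟩

theorem normalizer_le_normalizer_radOp (p : ℕ) (R : Subgroup G) :
    Subgroup.normalizer (R : Set G) ≤ Subgroup.normalizer ((radOp p R : Subgroup G) : Set G) := by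
  have : (pCore p ↥(Subgroup.normalizer (R : Set G))).Normal :=
    Cfsg.Agent.Lib.Helper1.pCore_normal p
  have h1 := Subgroup.le_normalizer_map (H := pCore p ↥(Subgroup.normalizer (R : Set G)))
    (Subgroup.normalizer (R : Set G)).subtype
  rw [Subgroup.normalizer_eq_top (H := pCore p ↥(Subgroup.normalizer (R : Set G)))] at h1
  intro x hx
  apply h1
  exact Subgroup.mem_map.mpr ⟨⟨x, hx⟩, Subgroup.mem_top _, rfl⟩

/-- If `H ≤ R` with `R` a `p`-group normalized by `g`, then `H` is subnormal in `⟨H, g⟩`. -/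
theorem sn_of_le_pgroup [Finite G] (p : ℕ) [Fact p.Prime] {H R : Subgroup G}
    (hR : IsPGroup p R) (hHR : H ≤ R) {g : G} (hg : g ∈ Subgroup.normalizer (R : Set G)) :
    (H.subgroupOf (H ⊔ Subgroup.zpowers g)).IsSubnormal := by
  set L : Subgroup G := H ⊔ Subgroup.zpowers g with hL
  have hLN : L ≤ Subgroup.normalizer (R : Set G) :=
    sup_le (hHR.trans Subgroup.le_normalizer) ((Subgroup.zpowers_le).mpr hg)
  have hRn : (R.subgroupOf L).Normal := Subgroup.normal_subgroupOf_of_le_normalizer hLN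
  have hle : H.subgroupOf L ≤ R.subgroupOf L := fun x hx =>
    Subgroup.mem_subgroupOf.mpr (hHR (Subgroup.mem_subgroupOf.mp hx))
  have hRp : IsPGroup p ↥(R.subgroupOf L) := hR.comap_subtype
  have h1 : ((H.subgroupOf L).subgroupOf (R.subgroupOf L)).IsSubnormal :=
    isSubnormal_of_isPGroup hRp _
  exact Subgroup.IsSubnormal.trans hle h1 hRn.isSubnormal

/-- If `H` is a `p`-group subnormal in `⟨H, g⟩`, some `p`-group `R ≥ H` is normalized by `g`. -/
theorem exists_pgroup_of_sn [Finite G] (p : ℕ) [Fact p.Prime] {H : Subgroup G}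
    (hH : IsPGroup p H) {g : G}
    (hsn : (H.subgroupOf (H ⊔ Subgroup.zpowers g)).IsSubnormal) :
    ∃ R : Subgroup G, IsPGroup p R ∧ H ≤ R ∧ g ∈ Subgroup.normalizer (R : Set G) := by
  set L : Subgroup G := H ⊔ Subgroup.zpowers g with hL
  have hH' : IsPGroup p ↥(H.subgroupOf L) := hH.comap_subtype
  obtain ⟨P, hPn, hPp, hHP⟩ := exists_normal_pgroup_ge_of_isSubnormal hsn hH'
  refine ⟨P.map L.subtype, hPp.map _, ?_, ?_⟩
  · intro x hx
    have hxL : x ∈ L := (le_sup_left : H ≤ L) hx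
    exact Subgroup.mem_map.mpr ⟨⟨x, hxL⟩, hHP (Subgroup.mem_subgroupOf.mpr hx), rfl⟩
  · have := hPn
    have h1 := Subgroup.le_normalizer_map (H := P) L.subtype
    rw [Subgroup.normalizer_eq_top (H := P)] at h1
    apply h1
    have hgL : g ∈ L := (le_sup_right : Subgroup.zpowers g ≤ L) (Subgroup.mem_zpowers g)
    exact Subgroup.mem_map.mpr ⟨⟨g, hgL⟩, Subgroup.mem_top _, rfl⟩

/-- Radical closure. -/
theorem exists_radical [Finite G] (p : ℕ) [Fact p.Prime] {H R₀ : Subgroup G}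
    (hR₀ : IsPGroup p R₀) (hHR₀ : H ≤ R₀) {g : G}
    (hg : g ∈ Subgroup.normalizer (R₀ : Set G)) :
    ∃ R : Subgroup G, H ≤ R ∧ radOp p R = R ∧ g ∈ Subgroup.normalizer (R : Set G) := by
  let T : Set (Subgroup G) :=
    {R' | IsPGroup p R' ∧ H ≤ R' ∧ g ∈ Subgroup.normalizer (R' : Set G)}
  have hTne : T.Nonempty := ⟨R₀, hR₀, hHR₀, hg⟩
  obtain ⟨R, hRT, hmax⟩ := (Set.toFinite T).exists_maximal hTne
  obtain ⟨hRp, hHR, hgR⟩ := hRT
  have h1 : R ≤ radOp p R := le_radOp p hRp
  have h2 : radOp p R ∈ T :=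
    ⟨radOp_isPGroup p R, hHR.trans h1, normalizer_le_normalizer_radOp p R hgR⟩
  exact ⟨R, hHR, le_antisymm (hmax h2 h1) h1, hgR⟩

/-- A radical `p`-subgroup is the intersection of the Sylow `p`-subgroups containing it. -/
theorem sInf_sylow_le_of_radical [Finite G] (p : ℕ) [Fact p.Prime] {R : Subgroup G}
    (hrad : radOp p R = R) :
    sInf {K : Subgroup G | ∃ Q : Sylow p G, R ≤ (Q : Subgroup G) ∧ K = (Q : Subgroup G)} ≤ R := by
  have hRp : IsPGroup p R := by rw [← hrad]; exact radOp_isPGroup p R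
  set J : Subgroup G :=
    sInf {K : Subgroup G | ∃ Q : Sylow p G, R ≤ (Q : Subgroup G) ∧ K = (Q : Subgroup G)} with hJ
  have hRJ : R ≤ J := by
    apply le_sInf
    rintro K ⟨Q, hQ, rfl⟩
    exact hQ
  obtain ⟨Q₀, hQ₀⟩ := hRp.exists_le_sylow
  have hJQ₀ : J ≤ (Q₀ : Subgroup G) := sInf_le ⟨Q₀, hQ₀, rfl⟩
  have hJp : IsPGroup p J := Q₀.2.to_le hJQ₀
  by_contra hcon
  -- normalizer growth in the `p`-group `J`
  have : Group.IsNilpotent ↥J := hJp.isNilpotent
  have hnc : NormalizerCondition ↥J := Group.normalizerCondition_of_isNilpotent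
  have hlt : R.subgroupOf J < ⊤ := by
    rw [lt_top_iff_ne_top]
    intro h
    exact hcon (Subgroup.subgroupOf_eq_top.mp h)
  obtain ⟨y, hyN, hyR⟩ := SetLike.exists_of_lt (hnc _ hlt)
  have hxJ : (y : G) ∈ J := y.2
  have hxR : (y : G) ∉ R := fun h => hyR (Subgroup.mem_subgroupOf.mpr h)
  have hxN : (y : G) ∈ Subgroup.normalizer (R : Set G) := by
    have : Subgroup.zpowers (y : G) ≤ Subgroup.normalizer (R : Set G) := by
      apply le_normalizer_of_conj_mem
      intro e he v hv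
      obtain ⟨k, rfl⟩ := Subgroup.mem_zpowers_iff.mp he
      have hyk : y ^ k ∈ Subgroup.normalizer ((R.subgroupOf J : Subgroup ↥J) : Set ↥J) :=
        Subgroup.zpow_mem _ hyN k
      have hvJ : v ∈ J := hRJ hv
      have h3 : (⟨v, hvJ⟩ : ↥J) ∈ R.subgroupOf J := Subgroup.mem_subgroupOf.mpr hv
      have h4 := (Subgroup.mem_normalizer_iff.mp hyk ⟨v, hvJ⟩).mp h3
      have h5 := Subgroup.mem_subgroupOf.mp h4
      simpa using h5
    exact this (Subgroup.mem_zpowers _)
  -- `y` lies in every Sylow `p`-subgroup of `N_G(R)`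
  have hmem : (⟨(y : G), hxN⟩ : ↥(Subgroup.normalizer (R : Set G))) ∈
      pCore p ↥(Subgroup.normalizer (R : Set G)) := by
    rw [Cfsg.Agent.Lib.Helper1.pCore_eq_iInf_sylow, Subgroup.mem_iInf]
    intro T
    have hTp : IsPGroup p ↥((T : Subgroup ↥(Subgroup.normalizer (R : Set G))).map
        (Subgroup.normalizer (R : Set G)).subtype) := T.2.map _
    obtain ⟨Q, hQ⟩ := hTp.exists_le_sylow
    have hRT : R.subgroupOf (Subgroup.normalizer (R : Set G)) ≤
        (T : Subgroup ↥(Subgroup.normalizer (R : Set G))) := by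
      apply normal_pgroup_le_sylow
      · exact Subgroup.normal_in_normalizer
      · exact hRp.comap_subtype
    have hRQ : R ≤ (Q : Subgroup G) := by
      intro r hr
      apply hQ
      exact Subgroup.mem_map.mpr ⟨⟨r, Subgroup.le_normalizer hr⟩,
        hRT (Subgroup.mem_subgroupOf.mpr hr), rfl⟩
    have hyQ : (y : G) ∈ (Q : Subgroup G) := by
      have : J ≤ (Q : Subgroup G) := sInf_le ⟨Q, hRQ, rfl⟩
      exact this hxJ
    have hTQ : (T : Subgroup ↥(Subgroup.normalizer (R : Set G))) ≤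
        (Q : Subgroup G).subgroupOf (Subgroup.normalizer (R : Set G)) := by
      intro t ht
      apply Subgroup.mem_subgroupOf.mpr
      apply hQ
      exact Subgroup.mem_map.mpr ⟨t, ht, rfl⟩
    have hQp : IsPGroup p ↥((Q : Subgroup G).subgroupOf (Subgroup.normalizer (R : Set G))) :=
      Q.2.comap_subtype
    have heq : (Q : Subgroup G).subgroupOf (Subgroup.normalizer (R : Set G)) =
        (T : Subgroup ↥(Subgroup.normalizer (R : Set G))) := T.3 hQp hTQ
    rw [← heq]
    exact Subgroup.mem_subgroupOf.mpr hyQ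
  have : (y : G) ∈ radOp p R := Subgroup.mem_map.mpr ⟨⟨(y : G), hxN⟩, hmem, rfl⟩
  rw [hrad] at this
  exact hxR this

theorem result {G : Type*} [Group G] [Finite G] (p : ℕ) [Fact p.Prime]
    (H : Subgroup G) (hH : IsPGroup p H) :
    {g : G | ((H).subgroupOf (H ⊔ Subgroup.zpowers g)).IsSubnormal} =
      {g : G | ∃ R : Subgroup G, H ≤ R ∧ (Cfsg.pCore p (Subgroup.normalizer (R : Set G))).map (Subgroup.normalizer (R : Set G)).subtype = R ∧ g ∈ Subgroup.normalizer (R : Set G)} ∧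
    ∀ g : G, (((H).subgroupOf (H ⊔ Subgroup.zpowers g)).IsSubnormal ↔
      (((sInf {K : Subgroup G | ∃ Q : Sylow p G, H ≤ (Q : Subgroup G) ∧ K = (Q : Subgroup G)})).subgroupOf ((sInf {K : Subgroup G | ∃ Q : Sylow p G, H ≤ (Q : Subgroup G) ∧ K = (Q : Subgroup G)}) ⊔ Subgroup.zpowers g)).IsSubnormal) := by
  have key : ∀ g : G, (H.subgroupOf (H ⊔ Subgroup.zpowers g)).IsSubnormal →
      ∃ R : Subgroup G, H ≤ R ∧ radOp p R = R ∧ g ∈ Subgroup.normalizer (R : Set G) := by
    intro g hsn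
    obtain ⟨R₀, hR₀, hHR₀, hg⟩ := exists_pgroup_of_sn p hH hsn
    exact exists_radical p hR₀ hHR₀ hg
  refine ⟨?_, ?_⟩
  · ext g
    simp only [Set.mem_ofPred_eq]
    constructor
    · intro hsn
      exact key g hsn
    · rintro ⟨R, hHR, hrad, hg⟩
      have hRp : IsPGroup p R := by
        have := radOp_isPGroup p R
        unfold radOp at this
        rw [hrad] at this
        exact this
      exact sn_of_le_pgroup p hRp hHR hg
  · intro g
    set I : Subgroup G :=
      sInf {K : Subgroup G | ∃ Q : Sylow p G, H ≤ (Q : Subgroup G) ∧ K = (Q : Subgroup G)} with hI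
    have hHI : H ≤ I := by
      apply le_sInf
      rintro K ⟨Q, hQ, rfl⟩
      exact hQ
    obtain ⟨Q₀, hQ₀⟩ := hH.exists_le_sylow
    have hIp : IsPGroup p I := Q₀.2.to_le (sInf_le ⟨Q₀, hQ₀, rfl⟩)
    constructor
    · intro hsn
      obtain ⟨R, hHR, hrad, hg⟩ := key g hsn
      have hRp : IsPGroup p R := by rw [← hrad]; exact radOp_isPGroup p R
      have h1 : I ≤ sInf {K : Subgroup G | ∃ Q : Sylow p G, R ≤ (Q : Subgroup G) ∧
          K = (Q : Subgroup G)} := by
        apply sInf_le_sInf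
        rintro K ⟨Q, hQ, rfl⟩
        exact ⟨Q, hHR.trans hQ, rfl⟩
      have hIR : I ≤ R := h1.trans (sInf_sylow_le_of_radical p hrad)
      exact sn_of_le_pgroup p hRp hIR hg
    · intro hsn
      obtain ⟨R₀, hR₀, hIR₀, hg⟩ := exists_pgroup_of_sn p hIp hsn
      exact sn_of_le_pgroup p hR₀ (hHI.trans hIR₀) hg

end Cfsg.Agent.S4089
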