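import Mathlib
import Cfsg.Statements.S4090
import Cfsg.Agent.S4088

set_option autoImplicit false
open scoped BigOperators Pointwise
open Cfsg

namespace Cfsg.Agent.S4090

variable {G : Type*} [Group G]

/-- elements conjugating `H` into `L` -/
def Tset (L H : Subgroup G) : Set G := {a | ∀ h ∈ H, a⁻¹ * h * a ∈ L}

theorem mem_Tset {L H : Subgroup G} {a : G} :
    a ∈ Tset L H ↔ ∀ h ∈ H, a⁻¹ * h * a ∈ L := Iff.rfl

/-- preimage in `B` of the centralizer of `H` in `B/A` -/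
def Dsub (A B H : Subgroup G) (hA : A.Normal) : Subgroup G where
  carrier := {u | u ∈ B ∧ ∀ h ∈ H, h * u * h⁻¹ * u⁻¹ ∈ A}
  one_mem' := ⟨B.one_mem, fun h _ => by simp⟩
  mul_mem' := by
    rintro u v ⟨hu, hu'⟩ ⟨hv, hv'⟩
    refine ⟨B.mul_mem hu hv, fun h hh => ?_⟩
    have e : h * (u * v) * h⁻¹ * (u * v)⁻¹ =
        (h * u * h⁻¹ * u⁻¹) * (u * (h * v * h⁻¹ * v⁻¹) * u⁻¹) := by group
    rw [e]
    exact A.mul_mem (hu' h hh) (hA.conj_mem _ (hv' h hh) u)
  inv_mem' := by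
    rintro u ⟨hu, hu'⟩
    refine ⟨B.inv_mem hu, fun h hh => ?_⟩
    have e : h * u⁻¹ * h⁻¹ * (u⁻¹)⁻¹ = u⁻¹ * (h * u * h⁻¹ * u⁻¹)⁻¹ * (u⁻¹)⁻¹ := by group
    rw [e]
    exact hA.conj_mem _ (A.inv_mem (hu' h hh)) u⁻¹

theorem mem_Dsub {A B H : Subgroup G} {hA : A.Normal} {u : G} :
    u ∈ Dsub A B H hA ↔ u ∈ B ∧ ∀ h ∈ H, h * u * h⁻¹ * u⁻¹ ∈ A := Iff.rfl

theorem le_Dsub {A B H : Subgroup G} (hA : A.Normal) (hAB : A ≤ B) : A ≤ Dsub A B H hA :=
  fun u hu => ⟨hAB hu, fun h _ => A.mul_mem (hA.conj_mem u hu h) (A.inv_mem hu)⟩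

theorem conj_mem_iff' {A : Subgroup G} (hA : A.Normal) (c x : G) :
    c * x * c⁻¹ ∈ A ↔ x ∈ A := by
  constructor
  · intro h
    have := hA.conj_mem' _ h c
    have e : c⁻¹ * (c * x * c⁻¹) * c = x := by group
    rwa [e] at this
  · intro h; exact hA.conj_mem x h c

theorem card_mul_relIndex' {X Y : Subgroup G} (h : X ≤ Y) :
    Nat.card X * X.relIndex Y = Nat.card Y := by
  have := Subgroup.relIndex_mul_relIndex ⊥ X Y bot_le h
  rwa [Subgroup.relIndex_bot_left, Subgroup.relIndex_bot_left] at this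

theorem card_sup_mul_card_inf (K N : Subgroup G) [hN : N.Normal] :
    Nat.card ↥(K ⊔ N) * Nat.card ↥(K ⊓ N) = Nat.card K * Nat.card N := by
  have h1 : Nat.card N * N.relIndex (K ⊔ N) = Nat.card ↥(K ⊔ N) :=
    card_mul_relIndex' le_sup_right
  have h2 : Nat.card ↥(K ⊓ N) * (K ⊓ N).relIndex K = Nat.card K :=
    card_mul_relIndex' inf_le_left
  rw [Subgroup.relIndex_sup_right K N] at h1
  rw [Subgroup.inf_relIndex_left K N] at h2
  rw [← h1, ← h2]; ring

theorem card_prod_set {α β : Type*} (s : Set α) (t : Set β) :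
    Nat.card ↥(s ×ˢ t) = Nat.card s * Nat.card t := by
  rw [← Nat.card_prod]; exact Nat.card_congr (Equiv.Set.prod s t)

theorem card_eq_of_inverse {α β : Type*} (S1 : Set α) (S2 : Set β) (f : α → β) (g : β → α)
    (hf : ∀ x ∈ S1, f x ∈ S2) (hg : ∀ y ∈ S2, g y ∈ S1)
    (hgf : ∀ x ∈ S1, g (f x) = x) (hfg : ∀ y ∈ S2, f (g y) = y) :
    Nat.card S1 = Nat.card S2 :=
  Nat.card_congr
    { toFun := fun x => ⟨f x.1, hf x.1 x.2⟩
      invFun := fun y => ⟨g y.1, hg y.1 y.2⟩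
      left_inv := fun x => Subtype.ext (hgf x.1 x.2)
      right_inv := fun y => Subtype.ext (hfg y.1 y.2) }

section fin

variable [Finite G] {p : ℕ} [Fact p.Prime]

theorem pinf_le (P : Sylow p G) {A B : Subgroup G} (hA : A.Normal)
    (hcop : (A.relIndex B).Coprime p) : (P : Subgroup G) ⊓ B ≤ A := by
  rintro y ⟨hyP, hyB⟩
  haveI : (A.subgroupOf B).Normal := hA.subgroupOf B
  have h1 : (⟨y, hyB⟩ : B) ^ (A.relIndex B) ∈ A.subgroupOf B :=
    Subgroup.pow_index_mem (A.subgroupOf B) _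
  have h2 : y ^ (A.relIndex B) ∈ A := by
    have := Subgroup.mem_subgroupOf.1 h1
    simpa using this
  obtain ⟨k, hk⟩ := P.isPGroup' ⟨y, hyP⟩
  have hk' : y ^ (p ^ k) = 1 := by
    have := congrArg Subtype.val hk
    simpa using this
  have hord : orderOf y ∣ p ^ k := orderOf_dvd_of_pow_eq_one hk'
  have hc : (A.relIndex B).Coprime (orderOf y) :=
    Nat.Coprime.coprime_dvd_right hord (hcop.pow_right k)
  obtain ⟨m, hm⟩ := exists_pow_eq_self_of_coprime hc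
  rw [← hm]
  exact A.pow_mem h2 m

theorem mem_of_mem_sup (P : Sylow p G) {A B : Subgroup G} (hA : A.Normal) (hAB : A ≤ B)
    (hcop : (A.relIndex B).Coprime p) {x : G} (hx : x ∈ (P : Subgroup G) ⊔ A) (hxB : x ∈ B) :
    x ∈ A := by
  haveI := hA
  have hx' : x ∈ ((P : Subgroup G) : Set G) * (A : Set G) := by
    rw [← Subgroup.mul_normal]; exact hx
  obtain ⟨y, hy, a, ha, rfl⟩ := Set.mem_mul.1 hx'
  have hyB : y ∈ B := by
    have : y = y * a * a⁻¹ := by group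
    rw [this]; exact B.mul_mem hxB (B.inv_mem (hAB ha))
  exact A.mul_mem (pinf_le P hA hcop (Subgroup.mem_inf.2 ⟨hy, hyB⟩)) ha

theorem q2 (P : Sylow p G) {A B : Subgroup G} (hA : A.Normal) (hB : B.Normal)
    (hAB : A ≤ B) (hcop : (A.relIndex B).Coprime p) {k u : G}
    (hk : k ∈ (P : Subgroup G) ⊔ A) (hu : u ∈ B) :
    u⁻¹ * k * u ∈ (P : Subgroup G) ⊔ A ↔ k * u * k⁻¹ * u⁻¹ ∈ A := by
  constructor
  · intro h
    have h1 : k⁻¹ * (u⁻¹ * k * u) ∈ (P : Subgroup G) ⊔ A :=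
      Subgroup.mul_mem _ (Subgroup.inv_mem _ hk) h
    have h2 : k⁻¹ * (u⁻¹ * k * u) ∈ B := by
      have : k⁻¹ * (u⁻¹ * k * u) = (k⁻¹ * u⁻¹ * k⁻¹⁻¹) * u := by group
      rw [this]
      exact B.mul_mem (hB.conj_mem _ (B.inv_mem hu) k⁻¹) hu
    have h3 := mem_of_mem_sup P hA hAB hcop h1 h2
    have : k * u * k⁻¹ * u⁻¹ = (k * u) * (k⁻¹ * (u⁻¹ * k * u)) * (k * u)⁻¹ := by group
    rw [this]
    exact hA.conj_mem _ h3 _
  · intro h
    have : u⁻¹ * k * u = (u⁻¹ * (k * u * k⁻¹ * u⁻¹) * u⁻¹⁻¹) * k := by group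
    rw [this]
    exact Subgroup.mul_mem _
      ((le_sup_right : A ≤ (P : Subgroup G) ⊔ A) (hA.conj_mem _ h u⁻¹)) hk

theorem key_iff (P : Sylow p G) {A B H : Subgroup G} (hA : A.Normal) (hB : B.Normal)
    (hAB : A ≤ B) (hcop : (A.relIndex B).Coprime p) {c u : G}
    (hc : ∀ h ∈ H, c⁻¹ * h * c ∈ (P : Subgroup G)) (hu : u ∈ B) :
    (c * u ∈ Tset ((P : Subgroup G) ⊔ A) H) ↔ (c * u * c⁻¹ ∈ Dsub A B H hA) := by
  have huB : c * u * c⁻¹ ∈ B := hB.conj_mem u hu c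
  rw [mem_Tset, mem_Dsub, and_iff_right huB]
  refine forall₂_congr (fun h hh => ?_)
  have e1 : (c * u)⁻¹ * h * (c * u) = u⁻¹ * (c⁻¹ * h * c) * u := by group
  have e2 : h * (c * u * c⁻¹) * h⁻¹ * (c * u * c⁻¹)⁻¹ =
      c * ((c⁻¹ * h * c) * u * (c⁻¹ * h * c)⁻¹ * u⁻¹) * c⁻¹ := by group
  rw [e1, e2, conj_mem_iff' hA c _]
  exact q2 P hA hB hAB hcop ((le_sup_left : (P : Subgroup G) ≤ (P : Subgroup G) ⊔ A) (hc h hh)) hu

theorem key_iff' (P : Sylow p G) {A B H : Subgroup G}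
    (hA : A.Normal) (hB : B.Normal) (hAB : A ≤ B) (hcop : (A.relIndex B).Coprime p)
    {c u cu v : G} (hc : ∀ h ∈ H, c⁻¹ * h * c ∈ (P : Subgroup G)) (hu : u ∈ B)
    (hcu : cu = c * u) (hv : v = c * u * c⁻¹) :
    cu ∈ Tset ((P : Subgroup G) ⊔ A) H ↔ v ∈ Dsub A B H hA := by
  subst hcu hv
  exact key_iff P hA hB hAB hcop hc hu

theorem sylow_conj (P : Sylow p G) {B H : Subgroup G} (hB : B.Normal)
    (hH : IsPGroup p H) {a : G} (ha : a ∈ Tset ((P : Subgroup G) ⊔ B) H) :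
    ∃ u0 ∈ B, ∀ h ∈ H, (a * u0)⁻¹ * h * (a * u0) ∈ (P : Subgroup G) := by
  haveI := hB
  have hPL : (P : Subgroup G) ≤ (P : Subgroup G) ⊔ B := le_sup_left
  have hK : IsPGroup p
      ((H.comap (MulAut.conj a).toMonoidHom).subgroupOf ((P : Subgroup G) ⊔ B)) := by
    have h1 : IsPGroup p (H.comap (MulAut.conj a).toMonoidHom) :=
      hH.comap_of_injective _ (MulAut.conj a).injective
    exact h1.comap_of_injective ((P : Subgroup G) ⊔ B).subtype
      ((P : Subgroup G) ⊔ B).subtype_injective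
  obtain ⟨Q, hQ⟩ := hK.exists_le_sylow
  obtain ⟨y, hy⟩ := MulAction.exists_smul_eq ↥((P : Subgroup G) ⊔ B) (P.subtype hPL) Q
  have hyL : (y : G) ∈ ((B : Subgroup G) : Set G) * ((P : Subgroup G) : Set G) := by
    rw [← Subgroup.normal_mul, sup_comm]; exact y.2
  obtain ⟨b, hb, x, hx, hbx⟩ := Set.mem_mul.1 hyL
  refine ⟨b, hb, fun h hh => ?_⟩
  have hkL : a⁻¹ * h * a ∈ (P : Subgroup G) ⊔ B := ha h hh
  have hkK : (⟨a⁻¹ * h * a, hkL⟩ : ↥((P : Subgroup G) ⊔ B)) ∈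
      (H.comap (MulAut.conj a).toMonoidHom).subgroupOf ((P : Subgroup G) ⊔ B) := by
    rw [Subgroup.mem_subgroupOf, Subgroup.mem_comap]
    show (MulAut.conj a) (a⁻¹ * h * a) ∈ H
    rw [MulAut.conj_apply]
    have : a * (a⁻¹ * h * a) * a⁻¹ = h := by group
    rw [this]; exact hh
  have hkQ := hQ hkK
  rw [← hy] at hkQ
  have h2 := (Cfsg.Agent.S4088.mem_sylow_smul (P.subtype hPL) y ⟨a⁻¹ * h * a, hkL⟩).1 hkQ
  rw [Sylow.coe_subtype, Subgroup.mem_subgroupOf] at h2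
  have h3 : (y : G)⁻¹ * (a⁻¹ * h * a) * (y : G) ∈ (P : Subgroup G) := by simpa using h2
  rw [← hbx] at h3
  have e : (a * b)⁻¹ * h * (a * b) =
      x * ((b * x)⁻¹ * (a⁻¹ * h * a) * (b * x)) * x⁻¹ := by group
  rw [e]
  exact Subgroup.mul_mem _ (Subgroup.mul_mem _ hx h3) (Subgroup.inv_mem _ hx)

theorem card_subnormalizer_eq_T (H : Subgroup G) (hH : IsPGroup p H) (P : Sylow p G) :
    Nat.card {g : G // (H.subgroupOf (H ⊔ Subgroup.zpowers g)).IsSubnormal} =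
      Nat.card ↥(Tset ((P : Subgroup G) ⊔ ⊥) H) := by
  rw [Cfsg.Agent.S4088.card_subnormalizer_sylow H hH P]
  have c1 := Cfsg.Agent.S4088.card_preimage_eq (fun a : G => a • P)
    (Subgroup.normalizer ((P : Subgroup G) : Set G))
    (by
      intro a b
      have hiff := @Sylow.smul_eq_iff_mem_normalizer p G _ (a⁻¹ * b) P
      refine Iff.trans ?_ hiff
      constructor
      · intro h
        rw [mul_smul, ← h, inv_smul_smul]
      · intro h
        have h1 : a • ((a⁻¹ * b) • P) = a • P := by rw [h]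
        rw [← h1, smul_smul, mul_inv_cancel_left])
    (fun Q : Sylow p G => H ≤ (Q : Subgroup G))
    (fun Q _ => MulAction.exists_smul_eq G P Q)
  rw [← c1]
  refine Nat.card_congr (Equiv.subtypeEquivRight (fun a => ?_))
  rw [mem_Tset, sup_bot_eq]
  constructor
  · intro hle h hh
    exact (Cfsg.Agent.S4088.mem_sylow_smul P a h).1 (hle hh)
  · intro hall h hh
    exact (Cfsg.Agent.S4088.mem_sylow_smul P a h).2 (hall h hh)

theorem arith_Lp {p SA SB x y π a b j m e : ℕ} (f1 : SA * x = π * a)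
    (f2 : SB * y = π * b) (f3 : a * p ^ m = b) (f4 : SA * j = SB) (hj : j.Coprime p)
    (he : x = p ^ e) (hSA : 0 < SA) : j = 1 ∧ y * a = x * b := by
  have f5 : j * y = x * p ^ m := by
    apply Nat.eq_of_mul_eq_mul_left hSA
    calc SA * (j * y) = (SA * j) * y := by ring
      _ = π * b := by rw [f4, f2]
      _ = (π * a) * p ^ m := by rw [← f3]; ring
      _ = SA * (x * p ^ m) := by rw [← f1]; ring
  have hj1 : j = 1 := by
    have hd : j ∣ p ^ (e + m) := by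
      rw [pow_add, ← he, ← f5]; exact Dvd.intro _ rfl
    exact Nat.Coprime.eq_one_of_dvd (hj.pow_right _) hd
  refine ⟨hj1, ?_⟩
  rw [hj1, one_mul] at f5
  rw [f5, ← f3]; ring

theorem Lp (P : Sylow p G) {A B : Subgroup G} (hA : A.Normal) (hB : B.Normal)
    (hAB : A ≤ B) {m : ℕ} (hm : A.relIndex B = p ^ m) :
    (P : Subgroup G) ⊔ A = (P : Subgroup G) ⊔ B ∧
      Nat.card ↥((P : Subgroup G) ⊓ B) * Nat.card A =
        Nat.card ↥((P : Subgroup G) ⊓ A) * Nat.card B := by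
  haveI := hA
  haveI := hB
  have hp : p.Prime := Fact.out
  have f1 := card_sup_mul_card_inf (P : Subgroup G) A
  have f2 := card_sup_mul_card_inf (P : Subgroup G) B
  have f3 : Nat.card A * p ^ m = Nat.card B := by rw [← hm]; exact card_mul_relIndex' hAB
  have hle : (P : Subgroup G) ⊔ A ≤ (P : Subgroup G) ⊔ B := sup_le_sup_left hAB _
  have f4 := card_mul_relIndex' hle
  have hj : (((P : Subgroup G) ⊔ A).relIndex ((P : Subgroup G) ⊔ B)).Coprime p := by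
    have h1 : ((P : Subgroup G) ⊔ A).relIndex ((P : Subgroup G) ⊔ B) ∣
        (P : Subgroup G).index := by
      have h2 := Subgroup.relIndex_mul_relIndex (P : Subgroup G) ((P : Subgroup G) ⊔ A)
        ((P : Subgroup G) ⊔ B) le_sup_left hle
      have h3 := Subgroup.relIndex_mul_index
        (le_sup_left : (P : Subgroup G) ≤ (P : Subgroup G) ⊔ B)
      rw [← h3, ← h2]
      exact Dvd.dvd.mul_right (Dvd.intro_left _ rfl) _
    have h4 : ¬ p ∣ (P : Subgroup G).index := P.not_dvd_index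
    exact Nat.Coprime.coprime_dvd_left h1 ((Nat.Prime.coprime_iff_not_dvd hp).2 h4).symm
  obtain ⟨e, he⟩ :=
    (P.isPGroup'.to_le inf_le_left : IsPGroup p ↥((P : Subgroup G) ⊓ A)).exists_card_eq
  have hSA : 0 < Nat.card ↥((P : Subgroup G) ⊔ A) := Nat.card_pos
  obtain ⟨hj1, hcard⟩ := arith_Lp f1 f2 f3 f4 hj he hSA
  exact ⟨le_antisymm hle (Subgroup.relIndex_eq_one.1 hj1), hcard⟩

theorem Lq (P : Sylow p G) {A B H : Subgroup G}
    (hA : A.Normal) (hB : B.Normal) (hAB : A ≤ B) (hcop : (A.relIndex B).Coprime p)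
    (hH : IsPGroup p H) :
    Nat.card ↥(Tset ((P : Subgroup G) ⊔ A) H) * Nat.card B =
      Nat.card ↥(Tset ((P : Subgroup G) ⊔ B) H) * Nat.card ↥(Dsub A B H hA) := by
  have hex : ∀ a : G, ∃ u0 : G, a ∈ Tset ((P : Subgroup G) ⊔ B) H →
      (u0 ∈ B ∧ ∀ h ∈ H, (a * u0)⁻¹ * h * (a * u0) ∈ (P : Subgroup G)) := by
    intro a
    by_cases ha : a ∈ Tset ((P : Subgroup G) ⊔ B) H
    · obtain ⟨u0, h1, h2⟩ := sylow_conj P hB hH ha
      exact ⟨u0, fun _ => ⟨h1, h2⟩⟩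
    · exact ⟨1, fun h => absurd h ha⟩
  choose u0 hu0 using hex
  have hcard : Nat.card ↥((Tset ((P : Subgroup G) ⊔ A) H) ×ˢ (B : Set G)) =
      Nat.card ↥((Tset ((P : Subgroup G) ⊔ B) H) ×ˢ ((Dsub A B H hA : Subgroup G) : Set G)) := by
    refine card_eq_of_inverse _ _
      (fun x : G × G => (x.1 * x.2⁻¹,
        x.1 * x.2⁻¹ * x.2 * (u0 (x.1 * x.2⁻¹))⁻¹ * (x.1 * x.2⁻¹)⁻¹))
      (fun y : G × G => (y.1 * (y.1⁻¹ * y.2 * y.1 * u0 y.1), y.1⁻¹ * y.2 * y.1 * u0 y.1))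
      ?_ ?_ ?_ ?_
    · rintro ⟨c, u⟩ ⟨hc, hu⟩
      have hc' : ∀ h ∈ H, c⁻¹ * h * c ∈ (P : Subgroup G) ⊔ A := hc
      have hu' : u ∈ B := hu
      have ha : c * u⁻¹ ∈ Tset ((P : Subgroup G) ⊔ B) H := by
        rw [mem_Tset]
        intro h hh
        have e : (c * u⁻¹)⁻¹ * h * (c * u⁻¹) = u * (c⁻¹ * h * c) * u⁻¹ := by group
        rw [e]
        have huS : u ∈ (P : Subgroup G) ⊔ B := (le_sup_right : B ≤ _) hu'
        exact Subgroup.mul_mem _
          (Subgroup.mul_mem _ huS (sup_le_sup_left hAB _ (hc' h hh))) (Subgroup.inv_mem _ huS)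
      obtain ⟨hu0B, hu0P⟩ := hu0 (c * u⁻¹) ha
      have hk := key_iff' P hA hB hAB hcop (H := H) (c := c * u⁻¹ * u0 (c * u⁻¹))
        (u := (u0 (c * u⁻¹))⁻¹ * u) (cu := c)
        (v := c * u⁻¹ * u * (u0 (c * u⁻¹))⁻¹ * (c * u⁻¹)⁻¹) hu0P
        (B.mul_mem (B.inv_mem hu0B) hu') (by group) (by group)
      exact Set.mk_mem_prod ha (hk.1 hc')
    · rintro ⟨a, v⟩ ⟨ha, hv⟩
      have ha' : a ∈ Tset ((P : Subgroup G) ⊔ B) H := ha
      have hv' : v ∈ Dsub A B H hA := hv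
      obtain ⟨hu0B, hu0P⟩ := hu0 a ha'
      have hwB : a⁻¹ * v * a * u0 a ∈ B :=
        B.mul_mem (hB.conj_mem' v (mem_Dsub.1 hv').1 a) hu0B
      have hk := key_iff' P hA hB hAB hcop (H := H) (c := a * u0 a)
        (u := (u0 a)⁻¹ * (a⁻¹ * v * a * u0 a)) (cu := a * (a⁻¹ * v * a * u0 a)) (v := v) hu0P
        (B.mul_mem (B.inv_mem hu0B) hwB) (by group) (by group)
      exact Set.mk_mem_prod (hk.2 hv') hwB
    · rintro ⟨c, u⟩ _
      refine Prod.ext ?_ ?_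
      · show c * u⁻¹ * ((c * u⁻¹)⁻¹ * (c * u⁻¹ * u * (u0 (c * u⁻¹))⁻¹ * (c * u⁻¹)⁻¹) *
          (c * u⁻¹) * u0 (c * u⁻¹)) = c
        group
      · show (c * u⁻¹)⁻¹ * (c * u⁻¹ * u * (u0 (c * u⁻¹))⁻¹ * (c * u⁻¹)⁻¹) *
          (c * u⁻¹) * u0 (c * u⁻¹) = u
        group
    · rintro ⟨a, v⟩ _
      have e : a * (a⁻¹ * v * a * u0 a) * (a⁻¹ * v * a * u0 a)⁻¹ = a :=
        mul_inv_cancel_right _ _
      refine Prod.ext ?_ ?_
      · exact e
      · show a * (a⁻¹ * v * a * u0 a) * (a⁻¹ * v * a * u0 a)⁻¹ * (a⁻¹ * v * a * u0 a) *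
          (u0 (a * (a⁻¹ * v * a * u0 a) * (a⁻¹ * v * a * u0 a)⁻¹))⁻¹ *
          (a * (a⁻¹ * v * a * u0 a) * (a⁻¹ * v * a * u0 a)⁻¹)⁻¹ = v
        rw [e]
        group
  rw [card_prod_set, card_prod_set] at hcard
  exact hcard

theorem arith_q {tA tB x b a c0 π C : ℕ} (h1 : tA * b = tB * (a * c0))
    (ih : tB * x = π * b * C) : tA * x * b = π * a * (c0 * C) * b := by
  calc tA * x * b = (tA * b) * x := by ring
    _ = tB * (a * c0) * x := by rw [h1]
    _ = (tB * x) * (a * c0) := by ring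
    _ = π * b * C * (a * c0) := by rw [ih]
    _ = π * a * (c0 * C) * b := by ring

theorem arith_p {tA tB x y a b π C : ℕ} (ht : tA = tB) (hxy : y * a = x * b)
    (ih : tB * y = π * b * C) : tA * x * b = π * a * (1 * C) * b := by
  subst ht
  calc tA * x * b = tA * (x * b) := by ring
    _ = tA * (y * a) := by rw [hxy]
    _ = (tA * y) * a := by ring
    _ = π * b * C * a := by rw [ih]
    _ = π * a * (1 * C) * b := by ring

theorem step (P : Sylow p G) {H : Subgroup G} (hH : IsPGroup p H)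
    (A B : Subgroup G) (hA : A.Normal) (hB : B.Normal) (hAB : A ≤ B)
    (hfac : (∃ m : ℕ, A.relIndex B = p ^ m) ∨ (A.relIndex B).Coprime p) (C : ℕ)
    (ih : Nat.card ↥(Tset ((P : Subgroup G) ⊔ B) H) * Nat.card ↥((P : Subgroup G) ⊓ B) =
      Nat.card (P : Subgroup G) * Nat.card B * C) :
    Nat.card ↥(Tset ((P : Subgroup G) ⊔ A) H) * Nat.card ↥((P : Subgroup G) ⊓ A) =
      Nat.card (P : Subgroup G) * Nat.card A *
        ((if (A.relIndex B).Coprime p then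
          Nat.card {u : G // u ∈ B ∧ ∀ h ∈ H, h * u * h⁻¹ * u⁻¹ ∈ A} / Nat.card A
          else 1) * C) := by
  have hBpos : 0 < Nat.card B := Nat.card_pos
  apply Nat.eq_of_mul_eq_mul_right hBpos
  by_cases hcop : (A.relIndex B).Coprime p
  · rw [if_pos hcop]
    have hD : Nat.card {u : G // u ∈ B ∧ ∀ h ∈ H, h * u * h⁻¹ * u⁻¹ ∈ A} =
        Nat.card ↥(Dsub A B H hA) := rfl
    have hdvd : Nat.card A ∣ Nat.card ↥(Dsub A B H hA) :=
      Subgroup.card_dvd_of_le (le_Dsub hA hAB)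
    rw [hD]
    obtain ⟨c0, hc0⟩ := hdvd
    have hApos : 0 < Nat.card A := Nat.card_pos
    rw [hc0, Nat.mul_div_cancel_left _ hApos]
    have h1 := Lq P hA hB hAB hcop hH
    rw [hc0] at h1
    have hinf : (P : Subgroup G) ⊓ B = (P : Subgroup G) ⊓ A :=
      le_antisymm (le_inf inf_le_left (pinf_le P hA hcop)) (inf_le_inf_left _ hAB)
    rw [hinf] at ih
    exact arith_q h1 ih
  · rw [if_neg hcop]
    obtain ⟨m, hm⟩ := hfac.resolve_right hcop
    obtain ⟨hsup, hcard⟩ := Lp P hA hB hAB hm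
    have ht : Nat.card ↥(Tset ((P : Subgroup G) ⊔ A) H) =
        Nat.card ↥(Tset ((P : Subgroup G) ⊔ B) H) := by rw [hsup]
    exact arith_p ht hcard ih

/-- the factor attached to step `i` of the chain -/
noncomputable def cfac (p : ℕ) (H : Subgroup G) {n : ℕ} (M : Fin (n + 1) → Subgroup G)
    (i : Fin n) : ℕ :=
  if ((M i.castSucc).relIndex (M i.succ)).Coprime p then
    Nat.card {u : G // u ∈ M i.succ ∧ ∀ h ∈ H, h * u * h⁻¹ * u⁻¹ ∈ M i.castSucc} /
      Nat.card (M i.castSucc)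
  else 1

theorem chain (P : Sylow p G) {H : Subgroup G} (hH : IsPGroup p H) :
    ∀ (n : ℕ) (M : Fin (n + 1) → Subgroup G), M (Fin.last n) = ⊤ → Monotone M →
      (∀ i, (M i).Normal) →
      (∀ i : Fin n, (∃ m : ℕ, (M i.castSucc).relIndex (M i.succ) = p ^ m) ∨
        ((M i.castSucc).relIndex (M i.succ)).Coprime p) →
      Nat.card ↥(Tset ((P : Subgroup G) ⊔ M 0) H) * Nat.card ↥((P : Subgroup G) ⊓ M 0) =
        Nat.card (P : Subgroup G) * Nat.card (M 0) * ∏ i : Fin n, cfac p H M i := by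
  intro n
  induction n with
  | zero =>
    intro M hn _ _ _
    have h0 : M 0 = ⊤ := hn
    rw [h0]
    have h1 : Tset ((P : Subgroup G) ⊔ ⊤) H = Set.univ := by
      ext a
      simp [Tset]
    rw [h1, Nat.card_congr (Equiv.Set.univ G), Subgroup.card_top, inf_top_eq]
    simp [mul_comm]
  | succ n ih =>
    intro M hn hmono hnormal hfac
    have ih' := ih (fun j => M j.succ) (by simpa [Fin.succ_last] using hn)
      (fun i j hij => hmono (Fin.succ_le_succ_iff.2 hij)) (fun i => hnormal _)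
      (fun i => by
        have := hfac i.succ
        simpa only [Fin.succ_castSucc] using this)
    have hc : ∀ i : Fin n, cfac p H (fun j => M j.succ) i = cfac p H M i.succ := by
      intro i; simp only [cfac, Fin.succ_castSucc]
    rw [Finset.prod_congr rfl (fun i _ => hc i)] at ih'
    rw [Fin.prod_univ_succ]
    have e0 : (0 : Fin (n + 1 + 1)) = Fin.castSucc (0 : Fin (n + 1)) := rfl
    rw [e0]
    exact step P hH (M (Fin.castSucc 0)) (M (Fin.succ 0)) (hnormal _) (hnormal _)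
      (hmono (by rw [← e0]; exact Fin.zero_le _)) (hfac 0) _ ih'

end fin

/-- Let G be a finite p-solvable group, H a p-subgroup of G and P a Sylow p-subgroup, and fix a chain of normal subgroups 1 = M₀ ≤ M₁ ≤ ⋯ ≤ Mₙ = G of G each of whose factors is a p-group or a p'-group. Then the number of elements g of G such that H is subnormal in the subgroup generated by H and g equals the order of P times the product, over the factors Mᵢ₊₁/Mᵢ of order prime to p, of the order of the centralizer of H in Mᵢ₊₁/Mᵢ (counted as the number of u ∈ Mᵢ₊₁ with [h, u] ∈ Mᵢ for all h ∈ H, divided by the order of Mᵢ). -/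
theorem result {G : Type*} [Group G] [Finite G] (p : ℕ) [Fact p.Prime]
    (hG : Cfsg.IsPSolvable p G) (H : Subgroup G) (hH : IsPGroup p H) (P : Sylow p G)
    (n : ℕ) (M : Fin (n + 1) → Subgroup G) (h0 : M 0 = ⊥) (hn : M (Fin.last n) = ⊤) (hmono : Monotone M)
    (hnormal : ∀ i, (M i).Normal)
    (hfac : ∀ i : Fin n, (∃ m : ℕ, (M i.castSucc).relIndex (M i.succ) = p ^ m) ∨ ((M i.castSucc).relIndex (M i.succ)).Coprime p) :
    Nat.card {g : G // ((H).subgroupOf (H ⊔ Subgroup.zpowers g)).IsSubnormal} =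
      Nat.card (P : Subgroup G) *
        ∏ i : Fin n, (if ((M i.castSucc).relIndex (M i.succ)).Coprime p then
          Nat.card {u : G // u ∈ M i.succ ∧ ∀ h ∈ H, h * u * h⁻¹ * u⁻¹ ∈ M i.castSucc} / Nat.card (M i.castSucc)
          else 1) := by
  have h1 := card_subnormalizer_eq_T H hH P
  have h2 := chain P hH n M hn hmono hnormal hfac
  rw [h0] at h2
  rw [h1]
  have e1 : Nat.card ↥((P : Subgroup G) ⊓ ⊥) = 1 := by rw [inf_bot_eq]; exact Subgroup.card_bot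
  have e2 : Nat.card (⊥ : Subgroup G) = 1 := Subgroup.card_bot
  rw [e1, e2, mul_one, mul_one] at h2
  exact h2

end Cfsg.Agent.S4090
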