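import Cfsg.Statements.S4091
import Cfsg.Agent.Lib.Helper22.SylowLambda

set_option autoImplicit false
open Cfsg

namespace Cfsg.Agent.S4091

open Cfsg.Agent.Lib.Helper22.SylowLambda Cfsg.Agent.Lib.Helper22.FixDvdGrp
open scoped Pointwise

/-- AM–GM in power form -/
theorem prod_le_pow_sum {ι : Type*} (s : Finset ι) (z : ι → ℝ) (hz : ∀ i ∈ s, 0 ≤ z i)
    (hs : s.Nonempty) : ∏ i ∈ s, z i ≤ ((∑ i ∈ s, z i) / s.card) ^ s.card := by
  have hc : s.card ≠ 0 := Finset.card_ne_zero.mpr hs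
  have hc' : (0 : ℝ) < s.card := by exact_mod_cast Nat.pos_of_ne_zero hc
  have h := Real.geom_mean_le_arith_mean s (fun _ => (1 : ℝ)) z (fun _ _ => zero_le_one)
    (by simpa using hc') hz
  simp only [Real.rpow_one, Finset.sum_const, nsmul_eq_mul, mul_one, one_mul] at h
  have h0 : 0 ≤ ∏ i ∈ s, z i := Finset.prod_nonneg hz
  calc ∏ i ∈ s, z i = ((∏ i ∈ s, z i) ^ ((s.card : ℝ)⁻¹)) ^ s.card :=
        (Real.rpow_inv_natCast_pow h0 hc).symm
    _ ≤ ((∑ i ∈ s, z i) / s.card) ^ s.card :=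
        pow_le_pow_left₀ (Real.rpow_nonneg h0 _) h _

section

variable {G : Type*} [Group G] [Finite G] {p : ℕ} [hp : Fact p.Prime]

/-- `λ` is invariant under conjugation -/
theorem lam_conj (h x : G) : lam p (h * x * h⁻¹) = lam p x := by
  unfold lam
  refine (Nat.card_congr ?_).symm
  refine ⟨fun Q => ⟨h • Q.1, ?_⟩, fun Q => ⟨h⁻¹ • Q.1, ?_⟩, ?_, ?_⟩
  · show h * x * h⁻¹ ∈ ((h • Q.1 : Sylow p G) : Subgroup G)
    rw [coe_smul_sylow, Cfsg.Agent.Lib.Helper1.mem_conj_smul]
    have : h⁻¹ * (h * x * h⁻¹) * h = x := by group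
    rw [this]
    exact Q.2
  · show x ∈ ((h⁻¹ • Q.1 : Sylow p G) : Subgroup G)
    rw [coe_smul_sylow, Cfsg.Agent.Lib.Helper1.mem_conj_smul, inv_inv]
    exact Q.2
  · intro Q
    apply Subtype.ext
    show h⁻¹ • h • Q.1 = Q.1
    rw [inv_smul_smul]
  · intro Q
    apply Subtype.ext
    show h • h⁻¹ • Q.1 = Q.1
    rw [smul_inv_smul]

/-- `λ(g) ≠ 0` exactly for `p`-elements -/
theorem lam_ne_zero_iff (g : G) : lam p g ≠ 0 ↔ ∃ k : ℕ, orderOf g = p ^ k := by
  unfold lam
  rw [Nat.card_ne_zero]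
  constructor
  · rintro ⟨⟨Q, hQ⟩, -⟩
    obtain ⟨k, hk⟩ := (IsPGroup.iff_orderOf.mp Q.2) ⟨g, hQ⟩
    exact ⟨k, by rw [← hk, Subgroup.orderOf_mk]⟩
  · rintro ⟨k, hk⟩
    have hz : IsPGroup p (Subgroup.zpowers g) := by
      rw [IsPGroup.iff_card, Nat.card_zpowers]
      exact ⟨k, hk⟩
    obtain ⟨Q, hQ⟩ := hz.exists_le_sylow
    exact ⟨⟨⟨Q, hQ (Subgroup.mem_zpowers g)⟩⟩, inferInstance⟩

/-- sums over Sylow subgroups of a conjugation invariant weight agree -/
theorem sum_elems_eq (w : G → ℝ) (hw : ∀ h x : G, w (h * x * h⁻¹) = w x) (P Q : Sylow p G) :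
    ∑ g ∈ elems (Q : Subgroup G), w g = ∑ g ∈ elems (P : Subgroup G), w g := by
  obtain ⟨h, rfl⟩ := MulAction.exists_smul_eq G P Q
  symm
  apply Finset.sum_nbij' (fun x => h * x * h⁻¹) (fun x => h⁻¹ * x * h)
  · intro x hx
    rw [mem_elems] at hx ⊢
    show h * x * h⁻¹ ∈ ((h • P : Sylow p G) : Subgroup G)
    rw [coe_smul_sylow, Cfsg.Agent.Lib.Helper1.mem_conj_smul]
    have : h⁻¹ * (h * x * h⁻¹) * h = x := by group
    rw [this]
    exact hx
  · intro x hx
    rw [mem_elems] at hx ⊢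
    have hx' : x ∈ ((h • P : Sylow p G) : Subgroup G) := hx
    rw [coe_smul_sylow, Cfsg.Agent.Lib.Helper1.mem_conj_smul] at hx'
    exact hx'
  · intro x _
    group
  · intro x _
    group
  · intro x _
    exact (hw h x).symm

end

/-- Let G be a finite p-solvable group, P a Sylow p-subgroup of G, u the number of p-elements of G (elements of p-power order, the identity included) and n the number of Sylow p-subgroups of G. Then u/#P ≥ n^((p−1)/p), stated as u^p ≥ #P^p · n^(p−1). -/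
theorem result {G : Type*} [Group G] [Finite G] (p : ℕ) [Fact p.Prime]
    (hG : Cfsg.IsPSolvable p G) (P : Sylow p G) :
    Nat.card (P : Subgroup G) ^ p * Nat.card (Sylow p G) ^ (p - 1) ≤ Nat.card {g : G // ∃ k : ℕ, orderOf g = p ^ k} ^ p := by
  classical
  have hp : p.Prime := Fact.out
  have : Fintype G := Fintype.ofFinite G
  have : Fintype (Sylow p G) := Fintype.ofFinite _
  set m := Nat.card (P : Subgroup G) with hm
  set n := Nat.card (Sylow p G) with hn
  set u := Nat.card {g : G // ∃ k : ℕ, orderOf g = p ^ k} with hu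
  set A := ∏ x ∈ elems (P : Subgroup G), lam p x with hA
  have hthmA : A ^ p ≤ n ^ m := prod_lam_pow_le (p := p) (Nat.card G) G rfl hG P
  have hmpos : 0 < m := Nat.card_pos
  have hnpos : 0 < n := Nat.card_pos
  -- the weight
  let w : G → ℝ := fun g => ((lam p g : ℕ) : ℝ)⁻¹
  have hwconj : ∀ h x : G, w (h * x * h⁻¹) = w x := by
    intro h x
    show ((lam p (h * x * h⁻¹) : ℕ) : ℝ)⁻¹ = ((lam p x : ℕ) : ℝ)⁻¹
    rw [lam_conj]
  -- double counting
  have hdc : (u : ℝ) = n * ∑ x ∈ elems (P : Subgroup G), w x := by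
    have h1 : ∑ g : G, ∑ Q : Sylow p G, (if g ∈ Q then w g else 0) = (u : ℝ) := by
      have hin : ∀ g : G, ∑ Q : Sylow p G, (if g ∈ Q then w g else 0) =
          if (∃ k : ℕ, orderOf g = p ^ k) then (1 : ℝ) else 0 := by
        intro g
        rw [← Finset.sum_filter, Finset.sum_const, nsmul_eq_mul]
        have hc : (Finset.univ.filter (fun Q : Sylow p G => g ∈ Q)).card = lam p g := by
          unfold lam
          rw [Nat.card_eq_fintype_card, Fintype.card_subtype]
        rw [hc]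
        by_cases hg : ∃ k : ℕ, orderOf g = p ^ k
        · rw [if_pos hg]
          have : (lam p g : ℝ) ≠ 0 := by exact_mod_cast (lam_ne_zero_iff g).mpr hg
          exact mul_inv_cancel₀ this
        · rw [if_neg hg]
          have : lam p g = 0 := by
            by_contra h
            exact hg ((lam_ne_zero_iff g).mp h)
          show ((lam p g : ℕ) : ℝ) * ((lam p g : ℕ) : ℝ)⁻¹ = 0
          rw [this]
          simp
      rw [Finset.sum_congr rfl (fun g _ => hin g), Finset.sum_boole, hu,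
        Nat.card_eq_fintype_card, Fintype.card_subtype]
    have h2 : ∑ Q : Sylow p G, ∑ g : G, (if g ∈ Q then w g else 0) =
        n * ∑ x ∈ elems (P : Subgroup G), w x := by
      have hin : ∀ Q : Sylow p G, ∑ g : G, (if g ∈ Q then w g else 0) =
          ∑ x ∈ elems (P : Subgroup G), w x := by
        intro Q
        rw [← Finset.sum_filter, ← sum_elems_eq w hwconj P Q]
        apply Finset.sum_congr _ (fun _ _ => rfl)
        ext g
        rw [Finset.mem_filter, mem_elems]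
        simp only [Finset.mem_univ, true_and]
        exact Iff.rfl
      rw [Finset.sum_congr rfl (fun Q _ => hin Q), Finset.sum_const, Finset.card_univ,
        nsmul_eq_mul, hn, Nat.card_eq_fintype_card]
    rw [← h1, Finset.sum_comm, h2]
  -- AM-GM
  have hne : (elems (P : Subgroup G)).Nonempty := ⟨1, mem_elems.mpr (one_mem _)⟩
  have hwnn : ∀ x ∈ elems (P : Subgroup G), 0 ≤ w x := fun x _ => by
    show (0 : ℝ) ≤ ((lam p x : ℕ) : ℝ)⁻¹
    positivity
  have hamgm := prod_le_pow_sum (elems (P : Subgroup G)) w hwnn hne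
  rw [card_elems, ← hm] at hamgm
  have hprod : ∏ x ∈ elems (P : Subgroup G), w x = ((A : ℕ) : ℝ)⁻¹ := by
    show ∏ x ∈ elems (P : Subgroup G), ((lam p x : ℕ) : ℝ)⁻¹ = _
    rw [Finset.prod_inv_distrib, hA, Nat.cast_prod]
  have hApos : 0 < A := by
    rw [hA]
    exact Finset.prod_pos (fun x hx => lam_pos P (mem_elems.mp hx))
  -- `(n m)^m ≤ A u^m`
  have hkey : (n * m) ^ m ≤ A * u ^ m := by
    have hsum : ∑ x ∈ elems (P : Subgroup G), w x = (u : ℝ) / n := by
      rw [hdc]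
      field_simp
    rw [hprod, hsum] at hamgm
    have hnm : (0 : ℝ) < (n : ℝ) * m := by positivity
    have hAr : (0 : ℝ) < A := by exact_mod_cast hApos
    have h3 : ((n : ℝ) * m) ^ m ≤ (A : ℝ) * (u : ℝ) ^ m := by
      have h4 : ((u : ℝ) / n / m) ^ m = (u : ℝ) ^ m / ((n : ℝ) * m) ^ m := by
        rw [div_div, div_pow]
      rw [h4, inv_eq_one_div, div_le_div_iff₀ hAr (pow_pos hnm m), one_mul] at hamgm
      linarith
    exact_mod_cast h3
  -- conclude
  have h5 : (n * m) ^ (m * p) ≤ n ^ m * u ^ (m * p) := by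
    calc (n * m) ^ (m * p) = ((n * m) ^ m) ^ p := by rw [pow_mul]
      _ ≤ (A * u ^ m) ^ p := Nat.pow_le_pow_left hkey p
      _ = A ^ p * u ^ (m * p) := by rw [mul_pow, ← pow_mul]
      _ ≤ n ^ m * u ^ (m * p) := Nat.mul_le_mul_right _ hthmA
  have hp1 : p = 1 + (p - 1) := by have := hp.one_lt; omega
  have h6 : n ^ m * (m ^ p * n ^ (p - 1)) ^ m ≤ n ^ m * (u ^ p) ^ m := by
    calc n ^ m * (m ^ p * n ^ (p - 1)) ^ m = (n * m) ^ (m * p) := by
          have e1 : m * p = m + m * (p - 1) := by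
            have : m * p = m * (1 + (p - 1)) := by rw [← hp1]
            rw [this]; ring
          have e2 : n ^ (m * p) = n ^ m * n ^ (m * (p - 1)) := by rw [← pow_add, ← e1]
          rw [mul_pow (n) m, mul_pow, ← pow_mul, ← pow_mul, mul_comm p m, mul_comm (p - 1) m, e2]
          ring
      _ ≤ n ^ m * u ^ (m * p) := h5
      _ = n ^ m * (u ^ p) ^ m := by rw [← pow_mul, mul_comm p m]
  have h7 : (m ^ p * n ^ (p - 1)) ^ m ≤ (u ^ p) ^ m :=
    Nat.le_of_mul_le_mul_left h6 (pow_pos hnpos m)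
  exact (Nat.pow_le_pow_iff_left hmpos.ne').mp h7

end Cfsg.Agent.S4091
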