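import Cfsg.Statements.S4092
import Mathlib

set_option autoImplicit false
open Cfsg

namespace Cfsg.Agent.S4092

open scoped Pointwise

/-- Union bound: subgroups pairwise meeting in `D`. -/
theorem union_bound {G : Type*} [Group G] [Finite G] (F : Finset (Subgroup G)) (D : Subgroup G) (m : ℕ)
    (hm : ∀ A ∈ F, Nat.card A = m) (hD : ∀ A ∈ F, D ≤ A)
    (hpair : ∀ A ∈ F, ∀ B ∈ F, A ≠ B → A ⊓ B ≤ D) (U : Set G) (hU : ∀ A ∈ F, (A : Set G) ⊆ U)
    (hne : F.Nonempty) :
    F.card * (m - Nat.card D) + Nat.card D ≤ U.ncard := by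
  classical
  have hfin : ∀ s : Set G, s.Finite := fun s => Set.toFinite s
  -- the pieces
  let piece : Subgroup G → Finset G := fun A => ((A : Set G) \ (D : Set G)).toFinite.toFinset
  have hpiece_card : ∀ A ∈ F, (piece A).card = m - Nat.card D := by
    intro A hA
    have : (piece A).card = ((A : Set G) \ (D : Set G)).ncard := by
      rw [Set.ncard_eq_toFinset_card _ (hfin _)]
    rw [this, Set.ncard_sdiff (hD A hA) (hfin _)]
    simp only [← Nat.card_coe_set_eq]
    rw [← hm A hA]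
    rfl
  have hdisj : (F : Set (Subgroup G)).PairwiseDisjoint piece := by
    intro A hA B hB hAB
    rw [Function.onFun, Finset.disjoint_left]
    intro x hxA hxB
    simp only [piece, Set.Finite.mem_toFinset, Set.mem_sdiff, SetLike.mem_coe] at hxA hxB
    exact hxA.2 (hpair A hA B hB hAB ⟨hxA.1, hxB.1⟩)
  have hcard : (F.biUnion piece).card = F.card * (m - Nat.card D) := by
    rw [Finset.card_biUnion hdisj, Finset.sum_const_nat hpiece_card]
  have hsub : ((F.biUnion piece : Finset G) : Set G) ⊆ U \ (D : Set G) := by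
    intro x hx
    simp only [Finset.coe_biUnion, Set.mem_iUnion, Finset.mem_coe] at hx
    obtain ⟨A, hA, hxA⟩ := hx
    simp only [piece, Set.Finite.mem_toFinset, Set.mem_sdiff, SetLike.mem_coe] at hxA
    exact ⟨hU A hA hxA.1, hxA.2⟩
  have h1 : F.card * (m - Nat.card D) ≤ (U \ (D : Set G)).ncard := by
    rw [← hcard, ← Set.ncard_coe_finset]
    exact Set.ncard_le_ncard hsub (hfin _)
  obtain ⟨A0, hA0⟩ := hne
  have hDU : (D : Set G) ⊆ U := fun x hx => hU A0 hA0 (hD A0 hA0 hx)
  rw [Set.ncard_sdiff hDU (hfin _)] at h1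
  have h2 : (D : Set G).ncard ≤ U.ncard := Set.ncard_le_ncard hDU (hfin _)
  have h3 : (D : Set G).ncard = Nat.card D := rfl
  omega

/-- normalizers grow in p-groups, relative version -/
theorem lt_inf_normalizer {G : Type*} [Group G] [Finite G] {p : ℕ} [Fact p.Prime] (P D : Subgroup G)
    (hP : IsPGroup p P) (hDP : D < P) : D < P ⊓ Subgroup.normalizer (D : Set G) := by
  have : Group.IsNilpotent P := hP.isNilpotent
  have hnc := Group.normalizerCondition_of_isNilpotent (G := P)
  have h1 : D.subgroupOf P < ⊤ := by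
    rw [lt_top_iff_ne_top, Ne, Subgroup.subgroupOf_eq_top]
    exact not_le_of_gt hDP
  have h2 := hnc _ h1
  rw [← Subgroup.subgroupOf_normalizer_eq hDP.le] at h2
  refine lt_of_le_of_ne (le_inf hDP.le Subgroup.le_normalizer) ?_
  intro heq
  have : (Subgroup.normalizer (D : Set G)).subgroupOf P ≤ D.subgroupOf P := by
    intro x hx
    rw [Subgroup.mem_subgroupOf] at hx ⊢
    rw [heq]
    exact ⟨x.2, hx⟩
  exact (not_le_of_gt h2) this

/-- index of a proper subgroup of a p-group is at least p -/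
theorem p_le_relIndex {G : Type*} [Group G] [Finite G] {p : ℕ} [hp : Fact p.Prime] (P D : Subgroup G)
    (hP : IsPGroup p P) (hDP : D < P) : p ≤ D.relIndex P := by
  obtain ⟨n, hn⟩ := hP.index (D.subgroupOf P)
  have hn' : D.relIndex P = p ^ n := hn
  rw [hn']
  have : n ≠ 0 := by
    intro h0
    rw [h0, pow_zero] at hn'
    exact (not_le_of_gt hDP) (Subgroup.relIndex_eq_one.mp hn')
  exact Nat.le_self_pow this p

theorem card_mul_relIndex {G : Type*} [Group G] (N M : Subgroup G) (h : N ≤ M) :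
    Nat.card N * N.relIndex M = Nat.card M := by
  have := Subgroup.relIndex_mul_relIndex (⊥ : Subgroup G) N M bot_le h
  simpa [Subgroup.relIndex_bot_left] using this

theorem mem_sylow_isPElt {G : Type*} [Group G] {p : ℕ} [hp : Fact p.Prime] (A : Sylow p G) (x : G)
    (hx : x ∈ (A : Subgroup G)) : ∃ k : ℕ, orderOf x = p ^ k := by
  obtain ⟨k, hk⟩ := A.2 ⟨x, hx⟩
  have hk' : x ^ p ^ k = 1 := by simpa using congrArg Subtype.val hk
  obtain ⟨j, _, hj⟩ := (Nat.dvd_prime_pow hp.out).mp (orderOf_dvd_of_pow_eq_one hk')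
  exact ⟨j, hj⟩

theorem result {G : Type*} [Group G] [Finite G] (p : ℕ) [Fact p.Prime]
    (P : Sylow p G) (hP : ¬ (P : Subgroup G).Normal) :
    p * Nat.card (P : Subgroup G) ≤ Nat.card {g : G // ∃ k : ℕ, orderOf g = p ^ k} := by
  classical
  have hp : p.Prime := Fact.out
  -- all Sylow subgroups have the same order m
  set m := Nat.card (P : Subgroup G) with hm
  have hcardS : ∀ A : Sylow p G, Nat.card (A : Subgroup G) = m := by
    intro A; rw [hm, A.card_eq_multiplicity, P.card_eq_multiplicity]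
  -- there are two distinct Sylow subgroups
  have hex : ∃ Q : Sylow p G, Q ≠ P := by
    by_contra h
    push Not at h
    have : Subsingleton (Sylow p G) := ⟨fun A B => (h A).trans (h B).symm⟩
    exact hP (Sylow.normal_of_subsingleton P)
  obtain ⟨Q, hQ⟩ := hex
  -- choose a pair with maximal intersection
  have : Nonempty {pr : Sylow p G × Sylow p G // pr.1 ≠ pr.2} := ⟨⟨(Q, P), hQ⟩⟩
  obtain ⟨⟨⟨P₁, Q₁⟩, hne⟩, hmax⟩ := Finite.exists_max
    (fun pr : {pr : Sylow p G × Sylow p G // pr.1 ≠ pr.2} =>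
      Nat.card ((pr.1.1 : Subgroup G) ⊓ (pr.1.2 : Subgroup G) : Subgroup G))
  simp only [ne_eq] at hne
  have hmax' : ∀ A B : Sylow p G, A ≠ B →
      Nat.card ((A : Subgroup G) ⊓ (B : Subgroup G) : Subgroup G) ≤
        Nat.card ((P₁ : Subgroup G) ⊓ (Q₁ : Subgroup G) : Subgroup G) :=
    fun A B hAB => hmax ⟨(A, B), hAB⟩
  set D : Subgroup G := (P₁ : Subgroup G) ⊓ (Q₁ : Subgroup G) with hD
  have hDP : D < (P₁ : Subgroup G) := by
    refine lt_of_le_of_ne inf_le_left ?_
    intro heq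
    have : (P₁ : Subgroup G) ≤ Q₁ := by rw [← heq]; exact inf_le_right
    exact hne (Sylow.ext (P₁.is_maximal' Q₁.2 this).symm)
  set R : Subgroup G := (P₁ : Subgroup G) ⊓ Subgroup.normalizer (D : Set G) with hR
  have hDR : D < R := lt_inf_normalizer _ _ P₁.2 hDP
  have hRp : IsPGroup p R := P₁.2.to_le inf_le_left
  -- R ⊓ N(Q₁) = D
  have hRN0 := hRp.inf_normalizer_sylow Q₁
  have hRQ : R ⊓ (Q₁ : Subgroup G) = D := by
    apply le_antisymm
    · intro x hx
      exact ⟨hx.1.1, hx.2⟩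
    · exact le_inf hDR.le inf_le_right
  -- conjugates by elements of R
  have hconjD : ∀ x ∈ R, ∀ d : G, d ∈ D ↔ x * d * x⁻¹ ∈ D := by
    intro x hx d
    exact Subgroup.mem_set_normalizer_iff.mp hx.2 d
  have hsmul_mem : ∀ (x : G) (A : Sylow p G) (g : G), g ∈ ((x • A : Sylow p G) : Subgroup G) ↔ x⁻¹ * g * x ∈ (A : Subgroup G) := by
    intro x A g
    rw [Sylow.coe_subgroup_smul, Subgroup.mem_pointwise_smul_iff_inv_smul_mem]
    simp [MulAut.smul_def]
  have hD_le : ∀ x ∈ R, D ≤ ((x • Q₁ : Sylow p G) : Subgroup G) := by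
    intro x hx d hd
    rw [hsmul_mem]
    have hx' : x⁻¹ ∈ R := R.inv_mem hx
    have := (hconjD x⁻¹ hx' d).mp hd
    rw [inv_inv] at this
    exact this.2
  have hinfP : ∀ x ∈ R, ((x • Q₁ : Sylow p G) : Subgroup G) ⊓ (P₁ : Subgroup G) ≤ D := by
    intro x hx g hg
    have h1 : x⁻¹ * g * x ∈ (Q₁ : Subgroup G) := (hsmul_mem x Q₁ g).mp hg.1
    have h2 : x⁻¹ * g * x ∈ (P₁ : Subgroup G) :=
      Subgroup.mul_mem _ (Subgroup.mul_mem _ (Subgroup.inv_mem _ hx.1) hg.2) hx.1
    have h3 : x⁻¹ * g * x ∈ D := ⟨h2, h1⟩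
    have := (hconjD x hx _).mp h3
    have e : x * (x⁻¹ * g * x) * x⁻¹ = g := by group
    rwa [e] at this
  -- the orbit of Q₁ under R
  let O : Set (Sylow p G) := MulAction.orbit R Q₁
  have hOcard : p ≤ O.ncard := by
    have h1 : (MulAction.stabilizer R Q₁).index = O.ncard := MulAction.index_stabilizer R Q₁
    have h2 : MulAction.stabilizer R Q₁ = D.subgroupOf R := by
      ext x
      rw [MulAction.mem_stabilizer_iff, Subgroup.mem_subgroupOf]
      have : x • Q₁ = (x : G) • Q₁ := rfl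
      rw [this, Sylow.smul_eq_iff_mem_normalizer]
      constructor
      · intro h
        rw [← hRQ, ← hRN0]; exact ⟨x.2, h⟩
      · intro h
        rw [← hRQ, ← hRN0] at h; exact h.2
    rw [← h1, h2]
    exact p_le_relIndex R D hRp hDR
  have hOmem : ∀ A ∈ O, ∃ x ∈ R, A = x • Q₁ := by
    rintro A ⟨x, rfl⟩
    exact ⟨x, x.2, rfl⟩
  have hPO : P₁ ∉ O := by
    intro h
    obtain ⟨x, hx, hA⟩ := hOmem P₁ h
    have := hinfP x hx
    rw [← hA, inf_idem] at this
    exact (not_le_of_gt hDP) this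
  let F' : Finset (Sylow p G) := insert P₁ O.toFinite.toFinset
  have hF'card : p + 1 ≤ F'.card := by
    rw [Finset.card_insert_of_notMem (by simpa using hPO)]
    have : O.toFinite.toFinset.card = O.ncard := (Set.ncard_eq_toFinset_card O O.toFinite).symm
    omega
  let F : Finset (Subgroup G) := F'.image (fun A : Sylow p G => (A : Subgroup G))
  have hFcard : F.card = F'.card := by
    apply Finset.card_image_of_injective
    intro A B hAB
    exact Sylow.ext hAB
  have hFmem : ∀ A ∈ F, A = (P₁ : Subgroup G) ∨ ∃ x ∈ R, A = ((x • Q₁ : Sylow p G) : Subgroup G) := by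
    intro A hA
    simp only [F, F', Finset.mem_image, Finset.mem_insert, Set.Finite.mem_toFinset] at hA
    obtain ⟨B, hB | hB, rfl⟩ := hA
    · left; rw [hB]
    · right
      obtain ⟨x, hx, rfl⟩ := hOmem B hB
      exact ⟨x, hx, rfl⟩
  have hFsyl : ∀ A ∈ F, ∃ B : Sylow p G, (B : Subgroup G) = A := by
    intro A hA
    simp only [F, Finset.mem_image] at hA
    obtain ⟨B, _, rfl⟩ := hA
    exact ⟨B, rfl⟩
  let U : Set G := {g : G | ∃ k : ℕ, orderOf g = p ^ k}
  have key := union_bound F D m ?_ ?_ ?_ U ?_ ?_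
  · have h1 : Nat.card {g : G // ∃ k : ℕ, orderOf g = p ^ k} = U.ncard := rfl
    rw [h1]
    have h2 : p * Nat.card D ≤ m := by
      have := card_mul_relIndex D P₁ hDP.le
      rw [hcardS P₁] at this
      rw [← this, mul_comm]
      exact Nat.mul_le_mul_left _ (p_le_relIndex _ _ P₁.2 hDP)
    have h3 : Nat.card D ≤ m := le_trans (Nat.le_mul_of_pos_left _ hp.pos) h2
    rw [hFcard] at key
    obtain ⟨t, ht⟩ : ∃ t, m = Nat.card D + t := Nat.exists_eq_add_of_le h3
    have e1 : m - Nat.card D = t := by omega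
    have e2 : (p + 1) * t ≤ F'.card * t := Nat.mul_le_mul_right t hF'card
    have e3 : p * m = p * Nat.card D + p * t := by rw [ht, mul_add]
    have e4 : (p + 1) * t = p * t + t := by ring
    rw [e1] at key
    omega
  · intro A hA
    obtain ⟨B, rfl⟩ := hFsyl A hA
    exact hcardS B
  · intro A hA
    rcases hFmem A hA with rfl | ⟨x, hx, rfl⟩
    · exact hDP.le
    · exact hD_le x hx
  · intro A hA B hB hAB
    rcases hFmem A hA with rfl | ⟨x, hx, rfl⟩
    · rcases hFmem B hB with rfl | ⟨y, hy, rfl⟩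
      · exact absurd rfl hAB
      · rw [inf_comm]; exact hinfP y hy
    · rcases hFmem B hB with rfl | ⟨y, hy, rfl⟩
      · exact hinfP x hx
      · have hne' : (x • Q₁ : Sylow p G) ≠ y • Q₁ := fun h => hAB (by rw [h])
        have h1 := hmax' _ _ hne'
        have h2 : D ≤ ((x • Q₁ : Sylow p G) : Subgroup G) ⊓ ((y • Q₁ : Sylow p G) : Subgroup G) :=
          le_inf (hD_le x hx) (hD_le y hy)
        exact (Subgroup.eq_of_le_of_card_ge h2 h1).ge
  · intro A hA g hg
    obtain ⟨B, rfl⟩ := hFsyl A hA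
    exact mem_sylow_isPElt B g hg
  · exact ⟨(P₁ : Subgroup G), by simp [F, F']⟩

end Cfsg.Agent.S4092
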