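import Cfsg.Statements.S4093
import Mathlib

set_option autoImplicit false
open Cfsg

namespace Cfsg.Agent.S4093

open scoped Pointwise

/-- the conjugation action of a subgroup on the group -/
@[reducible] def conjAction {G : Type*} [Group G] (N : Subgroup G) : MulAction N G :=
  MulAction.compHom G ((MulAut.conj : G →* MulAut G).comp N.subtype)

/-- the set of `N`-conjugates of `x` -/
def conjs {G : Type*} [Group G] (N : Subgroup G) (x : G) : Set G := {y : G | ∃ n ∈ N, y = n * x * n⁻¹}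

theorem card_conjs {G : Type*} [Group G] [Finite G] (N : Subgroup G) (x : G) :
    Nat.card (conjs N x) = Nat.card N / Nat.card ↥(N ⊓ Subgroup.centralizer ({x} : Set G)) := by
  letI := conjAction N
  have hsmul : ∀ (n : N) (g : G), n • g = (n : G) * g * (n : G)⁻¹ := fun n g => rfl
  have h1 : conjs N x = MulAction.orbit N x := by
    ext y
    constructor
    · rintro ⟨n, hn, rfl⟩
      exact ⟨⟨n, hn⟩, rfl⟩
    · rintro ⟨n, rfl⟩
      exact ⟨n, n.2, rfl⟩
  have h2 : MulAction.stabilizer N x = (Subgroup.centralizer ({x} : Set G)).subgroupOf N := by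
    ext n
    rw [MulAction.mem_stabilizer_iff, Subgroup.mem_subgroupOf, Subgroup.mem_centralizer_iff, hsmul]
    constructor
    · intro h y hy
      rw [Set.mem_singleton_iff] at hy
      subst hy
      calc y * n = (n * y * (n : G)⁻¹) * n := by rw [h]
        _ = n * y := by group
    · intro h
      have := h x rfl
      calc (n : G) * x * (n : G)⁻¹ = (x * n) * (n : G)⁻¹ := by rw [this]
        _ = x := by group
  have h3 : Nat.card (MulAction.stabilizer N x) = Nat.card ↥(N ⊓ Subgroup.centralizer ({x} : Set G)) := by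
    rw [h2, ← Subgroup.inf_subgroupOf_left]
    exact Nat.card_congr (Subgroup.subgroupOfEquivOfLe inf_le_left).toEquiv
  have h4 : (MulAction.stabilizer N x).index = Nat.card (conjs N x) := by
    rw [MulAction.index_stabilizer, h1]; rfl
  have h5 := (MulAction.stabilizer N x).index_mul_card
  rw [h4, h3] at h5
  exact (Nat.div_eq_of_eq_mul_left Nat.card_pos h5.symm).symm

variable {G : Type*} [Group G] [Finite G] (p : ℕ) [Fact p.Prime]
    (P : Sylow p G) (N : Subgroup G) [N.Normal] (hNP : N.IsComplement' (P : Subgroup G))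

include hNP in
theorem exists_conj (g : G) (hg : ∃ k : ℕ, orderOf g = p ^ k) :
    ∃ x ∈ (P : Subgroup G), ∃ h ∈ N, g = h * x * h⁻¹ := by
  obtain ⟨k, hk⟩ := hg
  have h1 : IsPGroup p (Subgroup.zpowers g) := IsPGroup.of_card (n := k) (by rw [Nat.card_zpowers, hk])
  obtain ⟨Q, hQ⟩ := h1.exists_le_sylow
  obtain ⟨a, ha⟩ := MulAction.exists_smul_eq G P Q
  have hgQ : g ∈ (Q : Subgroup G) := hQ (Subgroup.mem_zpowers g)
  rw [← ha, Sylow.coe_subgroup_smul, Subgroup.mem_smul_pointwise_iff_exists] at hgQ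
  obtain ⟨y, hy, hyg⟩ := hgQ
  simp only [MulAut.smul_def, MulAut.conj_apply] at hyg
  obtain ⟨⟨⟨h, hh⟩, ⟨b, hb⟩⟩, hab, _⟩ := hNP.existsUnique a
  simp only at hab
  refine ⟨b * y * b⁻¹, Subgroup.mul_mem _ (Subgroup.mul_mem _ hb hy) (Subgroup.inv_mem _ hb), h, hh, ?_⟩
  rw [← hyg, ← hab]; group

include hNP in
theorem conj_unique (x x' h h' : G) (hx : x ∈ (P : Subgroup G)) (hx' : x' ∈ (P : Subgroup G))
    (hh : h ∈ N) (hh' : h' ∈ N) (heq : h * x * h⁻¹ = h' * x' * h'⁻¹) : x = x' := by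
  have h1 : (QuotientGroup.mk (h * x * h⁻¹) : G ⧸ N) = QuotientGroup.mk x := by
    rw [QuotientGroup.mk_mul, QuotientGroup.mk_mul, QuotientGroup.mk_inv,
      (QuotientGroup.eq_one_iff h).mpr hh]; simp
  have h2 : (QuotientGroup.mk (h' * x' * h'⁻¹) : G ⧸ N) = QuotientGroup.mk x' := by
    rw [QuotientGroup.mk_mul, QuotientGroup.mk_mul, QuotientGroup.mk_inv,
      (QuotientGroup.eq_one_iff h').mpr hh']; simp
  rw [heq, h2] at h1
  have h3 : x'⁻¹ * x ∈ N := QuotientGroup.eq.mp h1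
  have h4 : x'⁻¹ * x ∈ (P : Subgroup G) := Subgroup.mul_mem _ (Subgroup.inv_mem _ hx') hx
  have h5 : x'⁻¹ * x = 1 := by
    have := hNP.disjoint
    rw [Subgroup.disjoint_def] at this
    exact this h3 h4
  calc x = x' * (x'⁻¹ * x) := by group
    _ = x' := by rw [h5, mul_one]

include hNP in
theorem result' :
    Nat.card {g : G // ∃ k : ℕ, orderOf g = p ^ k} =
      ∑ᶠ x : (P : Subgroup G), Nat.card N / Nat.card ↥(N ⊓ Subgroup.centralizer ({(x : G)} : Set G)) := by
  classical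
  haveI : Fintype (P : Subgroup G) := Fintype.ofFinite _
  rw [finsum_eq_sum_of_fintype]
  simp_rw [← card_conjs]
  rw [← Nat.card_sigma]
  symm
  let f : (Σ x : (P : Subgroup G), conjs N (x : G)) → {g : G // ∃ k : ℕ, orderOf g = p ^ k} :=
    fun t => ⟨t.2.1, by
      obtain ⟨n, hn, hy⟩ := t.2.2
      obtain ⟨k, hk⟩ := P.2 t.1
      have hk' : (t.1 : G) ^ p ^ k = 1 := by simpa using congrArg Subtype.val hk
      have : (t.2.1) ^ p ^ k = 1 := by rw [hy, conj_pow, hk']; group
      obtain ⟨j, _, hj⟩ := (Nat.dvd_prime_pow (Fact.out : p.Prime)).mp (orderOf_dvd_of_pow_eq_one this)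
      exact ⟨j, hj⟩⟩
  apply Nat.card_eq_of_bijective f
  constructor
  · rintro ⟨⟨x, hx⟩, ⟨y, n, hn, hy⟩⟩ ⟨⟨x', hx'⟩, ⟨y', n', hn', hy'⟩⟩ hff
    have hyy : y = y' := congrArg Subtype.val hff
    subst hyy
    have hxx : x = x' := conj_unique p P N hNP x x' n n' hx hx' hn hn' (hy.symm.trans hy')
    subst hxx
    rfl
  · rintro ⟨g, hg⟩
    obtain ⟨x, hx, h, hh, hgx⟩ := exists_conj p P N hNP g hg
    exact ⟨⟨⟨x, hx⟩, ⟨g, h, hh, hgx⟩⟩, rfl⟩

theorem result {G : Type*} [Group G] [Finite G] (p : ℕ) [Fact p.Prime]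
    (P : Sylow p G) (N : Subgroup G) [N.Normal] (hNP : N.IsComplement' (P : Subgroup G)) :
    Nat.card {g : G // ∃ k : ℕ, orderOf g = p ^ k} =
      ∑ᶠ x : (P : Subgroup G), Nat.card N / Nat.card ↥(N ⊓ Subgroup.centralizer ({(x : G)} : Set G)) :=
  result' p P N hNP

end Cfsg.Agent.S4093
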