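import Cfsg.Statements.S4106
import Cfsg.Agent.Lib.Helper22.PElt
import Cfsg.Agent.Lib.Helper13.Sylow

set_option autoImplicit false
open Cfsg

namespace Cfsg.Agent.S4106

open Cfsg.Agent.Lib.Helper22

universe u

/-- all prime divisors of the order of `g` lie in `s` -/
def IsSElt {G : Type u} [Group G] (s : Finset ℕ) (g : G) : Prop :=
  ∀ q : ℕ, q.Prime → q ∣ orderOf g → q ∈ s

/-- classes of `s`-elements -/
def SClasses (s : Finset ℕ) (G : Type u) [Group G] : Type u :=
  {C : ConjClasses G // ∃ g : G, ConjClasses.mk g = C ∧ IsSElt s g}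

instance (s : Finset ℕ) (G : Type u) [Group G] [Finite G] : Finite (SClasses s G) := by
  unfold SClasses
  infer_instance

/-- the bound -/
def bound (s : Finset ℕ) (n : ℕ) : ℕ := ∏ q ∈ s, q ^ n.factorization q

theorem bound_mono (s : Finset ℕ) (hs : ∀ q ∈ s, q.Prime) {a b : ℕ} (hab : a ∣ b) (hb : b ≠ 0) :
    bound s a ≤ bound s b := by
  unfold bound
  apply Finset.prod_le_prod'
  intro q hq
  have ha : a ≠ 0 := fun h => hb (by rw [h] at hab; exact zero_dvd_iff.mp hab)
  exact Nat.pow_le_pow_right (hs q hq).pos ((Nat.factorization_le_iff_dvd ha hb).mpr hab q)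

theorem orderOf_conj {G : Type u} [Group G] (c x : G) : orderOf (c * x * c⁻¹) = orderOf x := by
  have : c * x * c⁻¹ = MulAut.conj c x := by simp [MulAut.conj_apply]
  rw [this, MulEquiv.orderOf_eq]

theorem main (s : Finset ℕ) : (∀ q ∈ s, q.Prime) → ∀ (G : Type u) [Group G] [Finite G],
    Nat.card (SClasses s G) ≤ bound s (Nat.card G) := by
  induction s using Finset.induction_on with
  | empty =>
    intro _ G _ _
    have : Subsingleton (SClasses ∅ G) := by
      constructor
      rintro ⟨C, g, rfl, hg⟩ ⟨C', g', rfl, hg'⟩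
      have h1 : ∀ x : G, IsSElt ∅ x → x = 1 := by
        intro x hx
        by_contra hne
        have : orderOf x ≠ 1 := fun h => hne (orderOf_eq_one_iff.mp h)
        obtain ⟨q, hq, hqd⟩ := Nat.exists_prime_and_dvd this
        exact absurd (hx q hq hqd) (Finset.notMem_empty q)
      apply Subtype.ext
      show ConjClasses.mk g = ConjClasses.mk g'
      rw [h1 g hg, h1 g' hg']
    have h2 := Finite.card_le_one_iff_subsingleton.mpr this
    simpa [bound] using h2
  | insert p s' hp ih =>
    intro hs G _ _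
    have hpp : p.Prime := hs p (Finset.mem_insert_self p s')
    have hs' : ∀ q ∈ s', q.Prime := fun q hq => hs q (Finset.mem_insert_of_mem hq)
    have : Fact p.Prime := ⟨hpp⟩
    obtain ⟨P⟩ : Nonempty (Sylow p G) := inferInstance
    classical
    letI : Fintype P := Fintype.ofFinite P
    -- the map
    let Cy : P → Subgroup G := fun y => Subgroup.centralizer ({(y : G)} : Set G)
    have hrep : ∀ (y : P) (D : SClasses s' (Cy y)), ∃ z : Cy y, ConjClasses.mk z = D.val ∧ IsSElt s' z :=
      fun y D => D.2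
    choose rep hrep1 hrep2 using hrep
    have helt : ∀ (y : P) (z : Cy y), IsSElt s' z → IsSElt (insert p s') ((y : G) * (z : G)) := by
      intro y z hz q hq hqd
      have hcomm : Commute (y : G) (z : G) := by
        have := z.2
        rw [Subgroup.mem_centralizer_iff] at this
        exact this _ (Set.mem_singleton _)
      have h1 := dvd_trans hqd hcomm.orderOf_mul_dvd_mul_orderOf
      rcases (Nat.Prime.dvd_mul hq).mp h1 with h2 | h2
      · obtain ⟨k, hk⟩ := isPElt_of_mem_sylow P (y : G) y.2
        rw [hk] at h2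
        have := (Nat.prime_dvd_prime_iff_eq hq hpp).mp (hq.dvd_of_dvd_pow h2)
        rw [this]; exact Finset.mem_insert_self p s'
      · rw [Subgroup.orderOf_coe] at h2
        exact Finset.mem_insert_of_mem (hz q hq h2)
    let Φ : (Σ y : P, SClasses s' (Cy y)) → SClasses (insert p s') G :=
      fun yD => ⟨ConjClasses.mk ((yD.1 : G) * (rep yD.1 yD.2 : G)),
        (yD.1 : G) * (rep yD.1 yD.2 : G), rfl, helt yD.1 _ (hrep2 yD.1 yD.2)⟩
    have hsurj : Function.Surjective Φ := by
      rintro ⟨C, x, rfl, hx⟩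
      obtain ⟨t, u, ht, hu, hxtu, ⟨k, hk⟩, hucop⟩ := exists_p_decomp p x
      obtain ⟨c, hc⟩ := Cfsg.Agent.Lib.Helper13.exists_conj_mem_sylow P t ⟨k, by rw [← hk, pow_orderOf_eq_one]⟩
      let y : P := ⟨c * t * c⁻¹, hc⟩
      have htu : t * u = u * t := by
        obtain ⟨i, hi⟩ := Subgroup.mem_zpowers_iff.mp ht
        obtain ⟨j, hj⟩ := Subgroup.mem_zpowers_iff.mp hu
        rw [← hi, ← hj, ← zpow_add, ← zpow_add, add_comm]
      have hz₀ : c * u * c⁻¹ ∈ Cy y := by
        show c * u * c⁻¹ ∈ Subgroup.centralizer ({c * t * c⁻¹} : Set G)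
        rw [Subgroup.mem_centralizer_iff]
        intro w hw
        rw [Set.mem_singleton_iff] at hw
        rw [hw]
        calc c * t * c⁻¹ * (c * u * c⁻¹) = c * (t * u) * c⁻¹ := by group
          _ = c * (u * t) * c⁻¹ := by rw [htu]
          _ = c * u * c⁻¹ * (c * t * c⁻¹) := by group
      have hz₀s : IsSElt s' (⟨c * u * c⁻¹, hz₀⟩ : Cy y) := by
        intro q hq hqd
        rw [← Subgroup.orderOf_coe] at hqd
        simp only at hqd
        rw [orderOf_conj] at hqd
        have hux : orderOf u ∣ orderOf x := by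
          exact orderOf_dvd_of_mem_zpowers hu
        have h1 := hx q hq (dvd_trans hqd hux)
        rcases Finset.mem_insert.mp h1 with h2 | h2
        · exfalso
          rw [h2] at hqd
          have h3 : p ∣ Nat.gcd (orderOf u) p := Nat.dvd_gcd hqd dvd_rfl
          rw [hucop] at h3
          exact hpp.one_lt.ne' (Nat.dvd_one.mp h3)
        · exact h2
      let D : SClasses s' (Cy y) := ⟨ConjClasses.mk ⟨c * u * c⁻¹, hz₀⟩, ⟨c * u * c⁻¹, hz₀⟩, rfl, hz₀s⟩
      refine ⟨⟨y, D⟩, ?_⟩
      apply Subtype.ext
      show ConjClasses.mk ((y : G) * (rep y D : G)) = ConjClasses.mk x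
      have h1 : IsConj (rep y D) (⟨c * u * c⁻¹, hz₀⟩ : Cy y) :=
        ConjClasses.mk_eq_mk_iff_isConj.mp (hrep1 y D)
      obtain ⟨d, hd⟩ := isConj_iff.mp h1
      have hd' : (d : G) * (rep y D : G) * (d : G)⁻¹ = c * u * c⁻¹ := by
        have := congrArg Subtype.val hd
        simpa using this
      have hdy : (d : G) * (y : G) = (y : G) * (d : G) := by
        have := d.2
        rw [Subgroup.mem_centralizer_iff] at this
        exact (this _ (Set.mem_singleton _)).symm
      rw [ConjClasses.mk_eq_mk_iff_isConj, isConj_iff]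
      refine ⟨c⁻¹ * (d : G), ?_⟩
      have e1 : c⁻¹ * (d : G) * ((y : G) * (rep y D : G)) * (c⁻¹ * (d : G))⁻¹ =
          c⁻¹ * (((d : G) * (y : G)) * (rep y D : G) * (d : G)⁻¹) * c := by group
      rw [e1, hdy]
      have e2 : (y : G) * (d : G) * (rep y D : G) * (d : G)⁻¹ =
          (y : G) * ((d : G) * (rep y D : G) * (d : G)⁻¹) := by group
      rw [e2, hd']
      show c⁻¹ * (c * t * c⁻¹ * (c * u * c⁻¹)) * c = x
      rw [hxtu]; group
    calc Nat.card (SClasses (insert p s') G)
        ≤ Nat.card (Σ y : P, SClasses s' (Cy y)) := Nat.card_le_card_of_surjective Φ hsurj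
      _ = ∑ y : P, Nat.card (SClasses s' (Cy y)) := Nat.card_sigma
      _ ≤ ∑ _y : P, bound s' (Nat.card G) := by
          apply Finset.sum_le_sum
          intro y _
          refine le_trans (ih hs' (Cy y)) ?_
          exact bound_mono s' hs' (Subgroup.card_subgroup_dvd_card _) Nat.card_pos.ne'
      _ = bound (insert p s') (Nat.card G) := by
          rw [Finset.sum_const, Finset.card_univ, smul_eq_mul, ← Nat.card_eq_fintype_card,
            Sylow.card_eq_multiplicity]
          unfold bound
          rw [Finset.prod_insert hp]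

/-- Let G be a finite group, π a set of primes and m the π-part of the order of G. Then the number of conjugacy classes of G consisting of π-elements (elements whose order is divisible only by primes in π) is at most m. -/
theorem result {G : Type*} [Group G] [Finite G]
    (π : Set ℕ) (hπ : ∀ q ∈ π, q.Prime)
    (m : ℕ) (hm : m ∣ Nat.card G) (hmπ : ∀ q : ℕ, q.Prime → q ∣ m → q ∈ π)
    (hm' : ∀ q ∈ π, ¬ q ∣ Nat.card G / m) :
    Nat.card {C : ConjClasses G // ∀ q : ℕ, q.Prime → (∃ g : G, ConjClasses.mk g = C ∧ q ∣ orderOf g) → q ∈ π} ≤ m := by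
  have hG0 : Nat.card G ≠ 0 := Nat.card_pos.ne'
  have hm0 : m ≠ 0 := fun h => hG0 (by rw [h] at hm; exact zero_dvd_iff.mp hm)
  set s := m.primeFactors with hs
  have hsprime : ∀ q ∈ s, q.Prime := fun q hq => Nat.prime_of_mem_primeFactors hq
  -- primes of π dividing |G| divide m
  have hdiv : ∀ q : ℕ, q.Prime → q ∈ π → q ∣ Nat.card G → q ∣ m := by
    intro q hq hqπ hqG
    obtain ⟨r, hr⟩ := hm
    have h1 : Nat.card G / m = r := by rw [hr]; exact Nat.mul_div_cancel_left r (Nat.pos_of_ne_zero hm0)
    rw [hr] at hqG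
    rcases (Nat.Prime.dvd_mul hq).mp hqG with h | h
    · exact h
    · exfalso; apply hm' q hqπ; rw [h1]; exact h
  -- the bound equals m
  have hbound : bound s (Nat.card G) = m := by
    unfold bound
    have h1 : ∀ q ∈ s, q ^ (Nat.card G).factorization q = q ^ m.factorization q := by
      intro q hq
      congr 1
      obtain ⟨r, hr⟩ := hm
      have hr0 : r ≠ 0 := fun h => hG0 (by rw [hr, h, mul_zero])
      have h2 : Nat.card G / m = r := by rw [hr]; exact Nat.mul_div_cancel_left r (Nat.pos_of_ne_zero hm0)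
      rw [hr, Nat.factorization_mul hm0 hr0]
      have h3 : r.factorization q = 0 := by
        apply Nat.factorization_eq_zero_of_not_dvd
        rw [← h2]
        exact hm' q (hmπ q (hsprime q hq) (Nat.dvd_of_mem_primeFactors hq))
      simp [h3]
    rw [Finset.prod_congr rfl h1]
    exact Nat.prod_factorization_pow_eq_self hm0
  rw [← hbound]
  refine le_trans ?_ (main s hsprime G)
  apply Nat.card_le_card_of_injective
    (fun C : {C : ConjClasses G // ∀ q : ℕ, q.Prime → (∃ g : G, ConjClasses.mk g = C ∧ q ∣ orderOf g) → q ∈ π} =>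
      (⟨C.val, by
        obtain ⟨g, hg⟩ := ConjClasses.exists_rep C.val
        refine ⟨g, hg, ?_⟩
        intro q hq hqd
        have h1 := C.2 q hq ⟨g, hg, hqd⟩
        rw [hs, Nat.mem_primeFactors]
        exact ⟨hq, hdiv q hq h1 (dvd_trans hqd (orderOf_dvd_natCard g)), hm0⟩⟩ : SClasses s G))
  intro C C' h
  apply Subtype.ext
  exact congrArg (fun D : SClasses s G => (D.1 : ConjClasses G)) h

end Cfsg.Agent.S4106
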