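import Cfsg.Statements.S4107
import Cfsg.Agent.Lib.Helper1.Cores

set_option autoImplicit false
open Cfsg

namespace Cfsg.Agent.S4107

open Subgroup Cfsg.Agent.Lib.Helper1

variable {G : Type*} [Group G]

/-- twisted conjugation action of `zpowers ρ` on `O_q(G) ⊓ N` -/
@[instance_reducible]
def twistAct (N : Subgroup G) [hN : N.Normal] (q : ℕ) (x ρ : G) (hx : x ∈ Cfsg.pCore q G) (hρ : ρ ∈ N) :
    MulAction (zpowers ρ) ↥(Cfsg.pCore q G ⊓ N) where
  smul g m := ⟨x⁻¹ * (g : G) * x * (m : G) * (g : G)⁻¹, by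
    have hn : (Cfsg.pCore q G).Normal := pCore_normal q
    have hgN : (g : G) ∈ N := (zpowers_le.mpr hρ) g.2
    have h1 : x⁻¹ * (g : G) * x * (g : G)⁻¹ ∈ Cfsg.pCore q G ⊓ N := by
      refine ⟨?_, ?_⟩
      · have : x⁻¹ * (g : G) * x * (g : G)⁻¹ = x⁻¹ * ((g : G) * x * (g : G)⁻¹) := by group
        rw [this]
        exact (Cfsg.pCore q G).mul_mem ((Cfsg.pCore q G).inv_mem hx) (hn.conj_mem x hx g)
      · have : x⁻¹ * (g : G) * x * (g : G)⁻¹ = (x⁻¹ * (g : G) * x⁻¹⁻¹) * (g : G)⁻¹ := by group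
        rw [this]
        exact N.mul_mem (hN.conj_mem _ hgN _) (N.inv_mem hgN)
    have h2 : (g : G) * (m : G) * (g : G)⁻¹ ∈ Cfsg.pCore q G ⊓ N :=
      ⟨hn.conj_mem _ m.2.1 _, hN.conj_mem _ m.2.2 _⟩
    have : x⁻¹ * (g : G) * x * (m : G) * (g : G)⁻¹ =
        (x⁻¹ * (g : G) * x * (g : G)⁻¹) * ((g : G) * (m : G) * (g : G)⁻¹) := by group
    rw [this]
    exact (Cfsg.pCore q G ⊓ N).mul_mem h1 h2⟩
  one_smul m := by
    apply Subtype.ext
    show x⁻¹ * ((1 : zpowers ρ) : G) * x * (m : G) * ((1 : zpowers ρ) : G)⁻¹ = m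
    simp
  mul_smul g h m := by
    apply Subtype.ext
    show x⁻¹ * ((g * h : zpowers ρ) : G) * x * (m : G) * ((g * h : zpowers ρ) : G)⁻¹ =
      x⁻¹ * (g : G) * x * (x⁻¹ * (h : G) * x * (m : G) * (h : G)⁻¹) * (g : G)⁻¹
    simp only [Subgroup.coe_mul]
    group

theorem isPGroup_of_mem_pCore [Finite G] (N : Subgroup G) [hN : N.Normal]
    (heq : ∀ x : G, x ∉ N → ∀ n ∈ N, orderOf (x * n) = orderOf x)
    (q : ℕ) [hq : Fact q.Prime] (x : G) (hx : x ∈ Cfsg.pCore q G) (hxN : x ∉ N) : IsPGroup q N := by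
  have key : ∀ r : ℕ, r.Prime → r ∣ Nat.card N → r = q := by
    intro r hr hrN
    by_contra hrq
    have : Fact r.Prime := ⟨hr⟩
    obtain ⟨ρ', hρ'⟩ := exists_prime_orderOf_dvd_card' r hrN
    set ρ : G := (ρ' : G) with hρdef
    have hρN : ρ ∈ N := ρ'.2
    have hρo : orderOf ρ = r := by rw [hρdef, Subgroup.orderOf_coe, hρ']
    let _ := twistAct N q x ρ hx hρN
    have hzp : IsPGroup r (zpowers ρ) := IsPGroup.of_card (n := 1) (by rw [Nat.card_zpowers, hρo, pow_one])
    have hDp : IsPGroup q ↥(Cfsg.pCore q G ⊓ N) := (pCore_isPGroup q).to_le inf_le_left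
    obtain ⟨k, hk⟩ := IsPGroup.iff_card.mp hDp
    have hnd : ¬ r ∣ Nat.card ↥(Cfsg.pCore q G ⊓ N) := by
      rw [hk]
      intro h
      exact hrq ((Nat.prime_dvd_prime_iff_eq hr hq.out).mp (hr.dvd_of_dvd_pow h))
    obtain ⟨m, hm⟩ := hzp.nonempty_fixed_point_of_prime_not_dvd_card _ hnd
    have hfix := hm ⟨ρ, mem_zpowers ρ⟩
    have hfix' : x⁻¹ * ρ * x * (m : G) * ρ⁻¹ = m := congrArg Subtype.val hfix
    have hcomm : Commute (x * (m : G)) ρ := by
      show x * (m : G) * ρ = ρ * (x * (m : G))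
      have : ρ * x * (m : G) * ρ⁻¹ = x * m := by
        calc ρ * x * (m : G) * ρ⁻¹ = x * (x⁻¹ * ρ * x * (m : G) * ρ⁻¹) := by group
          _ = x * m := by rw [hfix']
      calc x * (m : G) * ρ = (ρ * x * (m : G) * ρ⁻¹) * ρ := by rw [this]
        _ = ρ * (x * (m : G)) := by group
    have hx'N : x * (m : G) ∉ N := by
      intro h
      apply hxN
      have := N.mul_mem h (N.inv_mem m.2.2)
      rwa [mul_inv_cancel_right] at this
    have hx'q : x * (m : G) ∈ Cfsg.pCore q G := (Cfsg.pCore q G).mul_mem hx m.2.1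
    obtain ⟨a, ha⟩ := (pCore_isPGroup q) ⟨x * (m : G), hx'q⟩
    have ha' : (x * (m : G)) ^ q ^ a = 1 := by simpa using congrArg Subtype.val ha
    obtain ⟨b, _, hb⟩ := (Nat.dvd_prime_pow hq.out).mp (orderOf_dvd_of_pow_eq_one ha')
    have hcop : (orderOf (x * (m : G))).Coprime (orderOf ρ) := by
      rw [hb, hρo]
      exact Nat.Coprime.pow_left b ((Nat.coprime_primes hq.out hr).mpr (Ne.symm hrq))
    have h1 := hcomm.orderOf_mul_eq_mul_orderOf_of_coprime hcop
    rw [heq _ hx'N ρ hρN, hρo] at h1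
    have hpos : 0 < orderOf (x * (m : G)) := orderOf_pos _
    have : r = 1 := by nlinarith
    exact hr.one_lt.ne' this
  have hcard := Nat.eq_prime_pow_of_unique_prime_dvd (p := q) (Nat.card_pos (α := N)).ne'
    (fun {d} hd hdvd => key d hd hdvd)
  exact IsPGroup.of_card hcard

/-- Let G be a finite group and N a proper non-trivial normal subgroup such that for every x outside N all elements of the coset xN have the same order as x. Then N ≤ F(G) or F(G) ≤ N, where F(G) is the Fitting subgroup; and if N is properly contained in F(G) then F(G) has prime-power order. -/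
theorem result {G : Type*} [Group G] [Finite G] (N : Subgroup G) [N.Normal] (hN1 : N ≠ ⊥) (hN2 : N ≠ ⊤)
    (heq : ∀ x : G, x ∉ N → ∀ n ∈ N, orderOf (x * n) = orderOf x) :
    (N ≤ Cfsg.fittingSubgroup G ∨ Cfsg.fittingSubgroup G ≤ N) ∧
    (N < Cfsg.fittingSubgroup G → IsPrimePow (Nat.card (Cfsg.fittingSubgroup G))) := by
  have hNn : N.Normal := inferInstance
  have hex : ¬ Cfsg.fittingSubgroup G ≤ N → ∃ (q : Nat.Primes) (x : G), x ∈ Cfsg.pCore (q : ℕ) G ∧ x ∉ N := by
    intro h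
    by_contra hcon
    push Not at hcon
    apply h
    rw [fittingSubgroup_eq_iSup_primes]
    exact iSup_le fun q x hx => hcon q x hx
  constructor
  · by_cases h : Cfsg.fittingSubgroup G ≤ N
    · exact Or.inr h
    · left
      obtain ⟨q, x, hx, hxN⟩ := hex h
      have : Fact (q : ℕ).Prime := ⟨q.2⟩
      have hp := isPGroup_of_mem_pCore N heq q x hx hxN
      exact (le_pCore hNn hp).trans (pCore_le_fittingSubgroup (q : ℕ))
  · intro hlt
    have h : ¬ Cfsg.fittingSubgroup G ≤ N := fun h => (lt_irrefl _ (lt_of_lt_of_le hlt h))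
    obtain ⟨q, x, hx, hxN⟩ := hex h
    have : Fact (q : ℕ).Prime := ⟨q.2⟩
    have hp := isPGroup_of_mem_pCore N heq q x hx hxN
    have hF : Cfsg.fittingSubgroup G = Cfsg.pCore (q : ℕ) G := by
      apply le_antisymm
      · rw [fittingSubgroup_eq_iSup_primes]
        refine iSup_le fun r => ?_
        by_cases hrq : r = q
        · rw [hrq]
        · have hbot : Cfsg.pCore (r : ℕ) G = ⊥ := by
            by_contra hne
            obtain ⟨z, hz1⟩ := (Subgroup.ne_bot_iff_exists_ne_one).mp hne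
            have : Fact (r : ℕ).Prime := ⟨r.2⟩
            have hzN : (z : G) ∉ N := by
              intro hzN
              have hdis : Disjoint (Cfsg.pCore (r : ℕ) G) N :=
                IsPGroup.disjoint_of_ne _ _ (fun h => hrq (Subtype.ext h)) _ _ (pCore_isPGroup _) hp
              rw [Subgroup.disjoint_def] at hdis
              exact hz1 (Subtype.ext (hdis z.2 hzN))
            have hp2 := isPGroup_of_mem_pCore N heq r (z : G) z.2 hzN
            have hdis : Disjoint N N :=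
              IsPGroup.disjoint_of_ne _ _ (fun h => hrq (Subtype.ext h.symm)) _ _ hp hp2
            exact hN1 (disjoint_self.mp hdis)
          rw [hbot]; exact bot_le
      · exact pCore_le_fittingSubgroup (q : ℕ)
    rw [hF]
    obtain ⟨k, hk⟩ := IsPGroup.iff_card.mp (pCore_isPGroup (q : ℕ) (G := G))
    rw [hk]
    have hk0 : k ≠ 0 := by
      intro h0
      rw [h0, pow_zero] at hk
      have : Cfsg.pCore (q : ℕ) G = ⊥ := Subgroup.card_eq_one.mp hk
      rw [this] at hx
      apply hxN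
      rw [Subgroup.mem_bot.mp hx]
      exact N.one_mem
    exact ⟨q, k, q.2.prime, Nat.pos_of_ne_zero hk0, rfl⟩

end Cfsg.Agent.S4107
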