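import Cfsg.Statements.S4108
import Cfsg.Agent.Lib.Helper22.Frobenius

set_option autoImplicit false
open Cfsg

namespace Cfsg.Agent.S4108

open Cfsg.Agent.Lib.Helper22

/-- Let G be a finite group, p a prime and N a proper non-trivial normal p-subgroup such that for every x outside N all elements of the coset xN have the same order as x. Then every non-trivial subgroup H of G of order prime to p acts fixed-point-freely on N: NH is a Frobenius group with complement H and kernel N. -/
theorem result {G : Type*} [Group G] [Finite G] (N : Subgroup G) [N.Normal] (hN1 : N ≠ ⊥) (hN2 : N ≠ ⊤)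
    (heq : ∀ x : G, x ∉ N → ∀ n ∈ N, orderOf (x * n) = orderOf x)
    (p : ℕ) [Fact p.Prime] (hNp : IsPGroup p N) :
    ∀ H : Subgroup G, H ≠ ⊥ → (Nat.card H).Coprime p →
      Cfsg.IsFrobeniusComplement (H.subgroupOf (N ⊔ H)) ∧ Cfsg.frobeniusKernel (H.subgroupOf (N ⊔ H)) = (N.subgroupOf (N ⊔ H) : Set ↥(N ⊔ H)) := by
  intro H hH hcop
  -- coprimality of element orders
  have hcop' : ∀ h ∈ H, ∀ n ∈ N, (orderOf h).Coprime (orderOf n) := by
    intro h hh n hn
    obtain ⟨k, hk⟩ := (hNp ⟨n, hn⟩)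
    have hk' : n ^ p ^ k = 1 := by
      have := congrArg Subtype.val hk
      simpa using this
    have h1 : orderOf n ∣ p ^ k := orderOf_dvd_of_pow_eq_one hk'
    have h2 : orderOf h ∣ Nat.card H := by
      have := Subgroup.orderOf_dvd_natCard H hh
      exact this
    exact Nat.Coprime.coprime_dvd_left h2 (Nat.Coprime.coprime_dvd_right h1 (Nat.Coprime.pow_right k hcop))
  have hdisj : ∀ x, x ∈ N → x ∈ H → x = 1 := by
    intro x hxN hxH
    have := hcop' x hxH x hxN
    rw [Nat.coprime_self] at this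
    exact orderOf_eq_one_iff.mp this
  have hfpf : ∀ h ∈ H, h ≠ 1 → ∀ n ∈ N, h * n = n * h → n = 1 := by
    intro h hh h1 n hn hcomm
    have hhN : h ∉ N := fun hN => h1 (hdisj h hN hh)
    have e1 := heq h hhN n hn
    have e2 : orderOf (h * n) = orderOf h * orderOf n :=
      Commute.orderOf_mul_eq_mul_orderOf_of_coprime hcomm (hcop' h hh n hn)
    rw [e2] at e1
    have hpos : 0 < orderOf h := orderOf_pos h
    have : orderOf n = 1 := by
      have := Nat.eq_of_mul_eq_mul_left hpos (e1.trans (mul_one _).symm)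
      exact this
    exact orderOf_eq_one_iff.mp this
  have : (N.subgroupOf (N ⊔ H)).Normal := Subgroup.normal_subgroupOf
  apply frobenius_of_fpf (N.subgroupOf (N ⊔ H)) (H.subgroupOf (N ⊔ H))
  · rw [Subgroup.eq_bot_iff_forall]
    rintro ⟨x, hx⟩ ⟨hxN, hxH⟩
    have hxN' : x ∈ N := hxN
    have hxH' : x ∈ H := hxH
    exact Subtype.ext (hdisj x hxN' hxH')
  · exact codisjoint_iff.mp (Subgroup.codisjoint_subgroupOf_sup N H)
  · intro hbot
    apply hN1
    rw [Subgroup.eq_bot_iff_forall]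
    intro x hx
    have hx' : (⟨x, (le_sup_left : N ≤ N ⊔ H) hx⟩ : ↥(N ⊔ H)) ∈ N.subgroupOf (N ⊔ H) := hx
    rw [hbot, Subgroup.mem_bot] at hx'
    exact congrArg Subtype.val hx'
  · intro hbot
    apply hH
    rw [Subgroup.eq_bot_iff_forall]
    intro x hx
    have hx' : (⟨x, (le_sup_right : H ≤ N ⊔ H) hx⟩ : ↥(N ⊔ H)) ∈ H.subgroupOf (N ⊔ H) := hx
    rw [hbot, Subgroup.mem_bot] at hx'
    exact congrArg Subtype.val hx'
  · rintro ⟨h, hh'⟩ hh h1 ⟨n, hn'⟩ hn hcomm
    have hh'' : h ∈ H := hh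
    have hn'' : n ∈ N := hn
    have h1' : h ≠ 1 := fun e => h1 (Subtype.ext e)
    have hc : h * n = n * h := congrArg Subtype.val hcomm
    exact Subtype.ext (hfpf h hh'' h1' n hn'' hc)

end Cfsg.Agent.S4108
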