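import Cfsg.Statements.S4112
import Cfsg.Agent.Lib.Helper22.PElt
import Cfsg.Agent.Lib.Helper22.Supplement

set_option autoImplicit false
open Cfsg

namespace Cfsg.Agent.S4112

open Cfsg.Agent.Lib.Helper22

/-- a `p`-element `g` centralizes a nontrivial element of a normal subgroup of order divisible by `p`. -/
theorem exists_fixed_of_pElt {G : Type*} [Group G] [Finite G] (M : Subgroup G) [M.Normal] (p : ℕ)
    [hp : Fact p.Prime] (hpM : p ∣ Nat.card M) (g : G) (k : ℕ) (hg : orderOf g = p ^ k) :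
    ∃ x ∈ M, x ≠ 1 ∧ g * x = x * g := by
  have hP : IsPGroup p (Subgroup.zpowers g) := IsPGroup.of_card (n := k) (by rw [Nat.card_zpowers, hg])
  letI : MulAction (Subgroup.zpowers g) M :=
    MulAction.compHom M ((MulAut.conjNormal (H := M)).comp (Subgroup.zpowers g).subtype)
  have hsmul : ∀ (z : Subgroup.zpowers g) (m : M), ((z • m : M) : G) = (z : G) * m * (z : G)⁻¹ := by
    intro z m
    rfl
  have h1 : (1 : M) ∈ MulAction.fixedPoints (Subgroup.zpowers g) M := by
    intro z
    apply Subtype.ext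
    rw [hsmul]
    simp
  obtain ⟨b, hb, hb1⟩ := hP.exists_fixed_point_of_prime_dvd_card_of_fixed_point M hpM h1
  refine ⟨b, b.2, ?_, ?_⟩
  · intro h
    apply hb1
    exact (Subtype.ext h).symm
  · have := hb ⟨g, Subgroup.mem_zpowers g⟩
    have h2 := congrArg Subtype.val this
    rw [hsmul] at h2
    simp only at h2
    calc g * b = (g * b * g⁻¹) * g := by group
      _ = b * g := by rw [h2]

theorem coprime_of_fpf {G : Type*} [Group G] [Finite G] (N M : Subgroup G) [N.Normal] [M.Normal]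
    (h1 : ∀ x ∈ M, x ≠ 1 → Subgroup.centralizer ({x} : Set G) ≤ N) :
    N.index.Coprime (Nat.card M) := by
  apply Nat.coprime_of_dvd
  intro p hp hpN hpM
  haveI : Fact p.Prime := ⟨hp⟩
  rw [Subgroup.index_eq_card] at hpN
  obtain ⟨y, hy⟩ := exists_prime_orderOf_dvd_card' p hpN
  obtain ⟨g, ⟨k, hk⟩, hgy⟩ := exists_pElt_lift p N y ⟨1, by rw [hy, pow_one]⟩
  have hgN : g ∉ N := by
    intro hgN
    have : y = 1 := by rw [← hgy]; exact (QuotientGroup.eq_one_iff g).mpr hgN
    rw [this, orderOf_one] at hy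
    exact hp.one_lt.ne hy
  obtain ⟨x, hxM, hx1, hgx⟩ := exists_fixed_of_pElt M p hpM g k hk
  apply hgN
  apply h1 x hxM hx1
  rw [Subgroup.mem_centralizer_iff]
  intro z hz
  rw [Set.mem_singleton_iff] at hz
  rw [hz]
  exact hgx.symm

theorem fpf_of_coprime {G : Type*} [Group G] [Finite G] (N M : Subgroup G) [N.Normal] [M.Normal]
    (hcam : ∀ g : G, g ∉ N → ∀ m ∈ M, ∃ x : G, x * g * x⁻¹ = g * m)
    (hcop : N.index.Coprime (Nat.card M)) :
    ∀ x ∈ M, x ≠ 1 → Subgroup.centralizer ({x} : Set G) ≤ N := by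
  intro x hxM hx1 c hc
  by_contra hcN
  have hcx : x * c = c * x := by
    rw [Subgroup.mem_centralizer_iff] at hc
    exact hc x (Set.mem_singleton x)
  have hne : orderOf (QuotientGroup.mk c : G ⧸ N) ≠ 1 := by
    intro h
    apply hcN
    rw [orderOf_eq_one_iff] at h
    exact (QuotientGroup.eq_one_iff c).mp h
  obtain ⟨q, hq, hqd⟩ := Nat.exists_prime_and_dvd hne
  haveI : Fact q.Prime := ⟨hq⟩
  have hqN : q ∣ N.index := by
    rw [Subgroup.index_eq_card]
    exact dvd_trans hqd (orderOf_dvd_natCard _)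
  obtain ⟨t, u, ht, hu, hctu, ⟨k, hk⟩, hucop⟩ := exists_p_decomp q c
  have htN : t ∉ N := by
    intro htN
    have e : (QuotientGroup.mk c : G ⧸ N) = QuotientGroup.mk u := by
      rw [hctu, QuotientGroup.mk_mul, (QuotientGroup.eq_one_iff t).mpr htN, one_mul]
    have h1 : orderOf (QuotientGroup.mk u : G ⧸ N) ∣ orderOf u :=
      orderOf_map_dvd (QuotientGroup.mk' N) u
    rw [e] at hqd
    have h2 : q ∣ orderOf u := dvd_trans hqd h1
    have h3 : q ∣ Nat.gcd (orderOf u) q := Nat.dvd_gcd h2 dvd_rfl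
    rw [hucop] at h3
    exact hq.one_lt.ne' (Nat.dvd_one.mp h3)
  have htx : Commute t x := by
    obtain ⟨j, hj⟩ := Subgroup.mem_zpowers_iff.mp ht
    rw [← hj]
    exact (Commute.zpow_left (show Commute c x from hcx.symm) j)
  have hqM : ¬ q ∣ Nat.card M := by
    intro h
    have h3 : q ∣ Nat.gcd N.index (Nat.card M) := Nat.dvd_gcd hqN h
    rw [hcop] at h3
    exact hq.one_lt.ne' (Nat.dvd_one.mp h3)
  have hxo : orderOf x ∣ Nat.card M := Subgroup.orderOf_dvd_natCard M hxM
  have hcop' : (orderOf t).Coprime (orderOf x) := by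
    rw [hk]
    apply Nat.Coprime.pow_left
    rw [Nat.Prime.coprime_iff_not_dvd hq]
    intro h
    exact hqM (dvd_trans h hxo)
  obtain ⟨y, hy⟩ := hcam t htN x hxM
  have e1 : orderOf (t * x) = orderOf t := by
    rw [← hy]
    have : y * t * y⁻¹ = MulAut.conj y t := by simp [MulAut.conj_apply]
    rw [this, MulEquiv.orderOf_eq]
  have e2 : orderOf (t * x) = orderOf t * orderOf x :=
    Commute.orderOf_mul_eq_mul_orderOf_of_coprime htx hcop'
  rw [e2] at e1
  have hpos : 0 < orderOf t := orderOf_pos t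
  have : orderOf x = 1 := Nat.eq_of_mul_eq_mul_left hpos (e1.trans (mul_one _).symm)
  exact hx1 (orderOf_eq_one_iff.mp this)

/-- Let G be a finite group and M ≤ N non-trivial proper normal subgroups such that for every g outside N the conjugacy class of g is a union of cosets of M (equivalently gm is conjugate to g for every m ∈ M). Then (1) and (2) below are equivalent, and they imply (3): (1) every g outside N acts fixed-point-freely on M, that is C_G(x) ≤ N for every x ∈ M, x ≠ 1; (2) the index of N in G is coprime to the order of M; (3) there is a subgroup H of G with HN = G and H ∩ M = 1. -/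
theorem result {G : Type*} [Group G] [Finite G] (N M : Subgroup G) [N.Normal] [M.Normal] (hMN : M ≤ N) (hM1 : M ≠ ⊥) (hN2 : N ≠ ⊤)
    (hcam : ∀ g : G, g ∉ N → ∀ m ∈ M, ∃ x : G, x * g * x⁻¹ = g * m) :
    ((∀ x ∈ M, x ≠ 1 → Subgroup.centralizer ({x} : Set G) ≤ N) ↔ N.index.Coprime (Nat.card M)) ∧
    ((∀ x ∈ M, x ≠ 1 → Subgroup.centralizer ({x} : Set G) ≤ N) → ∃ H : Subgroup G, H ⊔ N = ⊤ ∧ H ⊓ M = ⊥) := by
  refine ⟨⟨coprime_of_fpf N M, fpf_of_coprime N M hcam⟩, ?_⟩
  intro h1
  have hcop := coprime_of_fpf N M h1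
  obtain ⟨H, hHN, hH⟩ := exists_supplement_primes_dvd_index N
  refine ⟨H, hHN, ?_⟩
  by_contra hne
  have hcard : Nat.card (H ⊓ M : Subgroup G) ≠ 1 := by
    intro h
    exact hne (Subgroup.card_eq_one.mp h)
  obtain ⟨r, hr, hrd⟩ := Nat.exists_prime_and_dvd hcard
  have hrH : r ∣ Nat.card H := dvd_trans hrd (Subgroup.card_dvd_of_le inf_le_left)
  have hrM : r ∣ Nat.card M := dvd_trans hrd (Subgroup.card_dvd_of_le inf_le_right)
  have hrN := hH r hr hrH
  have h3 : r ∣ Nat.gcd N.index (Nat.card M) := Nat.dvd_gcd hrN hrM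
  rw [hcop] at h3
  exact hr.one_lt.ne' (Nat.dvd_one.mp h3)

end Cfsg.Agent.S4112
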