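import Cfsg.Statements.S4113
import Cfsg.Agent.Lib.Helper22.Frobenius

set_option autoImplicit false
open Cfsg

namespace Cfsg.Agent.S4113

open Cfsg.Agent.Lib.Helper22

theorem mem_map_conj {G : Type*} [Group G] (H : Subgroup G) (g y : G) :
    y ∈ H.map (MulAut.conj g).toMonoidHom ↔ ∃ h ∈ H, g * h * g⁻¹ = y := by
  rw [Subgroup.mem_map]
  simp only [MulEquiv.coe_toMonoidHom, MulAut.conj_apply]

/-- Let G be a finite group, M ≤ N non-trivial proper normal subgroups, and H a subgroup with HM = G and H ∩ M = 1. Then every element of G outside N acts fixed-point-freely on M (C_G(x) ≤ N for every x ∈ M, x ≠ 1) if and only if H ∩ gHg⁻¹ ≤ H ∩ N for every g outside H, with H proper and non-trivial and H ∩ N proper in H. -/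
theorem result {G : Type*} [Group G] [Finite G] (N M : Subgroup G) [N.Normal] [M.Normal] (hMN : M ≤ N) (hM1 : M ≠ ⊥) (hN2 : N ≠ ⊤)
    (H : Subgroup G) (hHM : H ⊔ M = ⊤) (hHM' : H ⊓ M = ⊥) :
    (∀ x ∈ M, x ≠ 1 → Subgroup.centralizer ({x} : Set G) ≤ N) ↔
      (H ≠ ⊥ ∧ H ≠ ⊤ ∧ H ⊓ N < H ∧ ∀ g : G, g ∉ H → H ⊓ H.map (MulAut.conj g).toMonoidHom ≤ N) := by
  have hsup : M ⊔ H = ⊤ := by rw [sup_comm]; exact hHM
  have hdisj : ∀ x, x ∈ M → x ∈ H → x = 1 := by
    intro x hxM hxH
    have : x ∈ H ⊓ M := ⟨hxH, hxM⟩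
    rw [hHM'] at this
    exact Subgroup.mem_bot.mp this
  constructor
  · intro hA
    refine ⟨?_, ?_, ?_, ?_⟩
    · intro hbot
      apply hN2
      rw [hbot, bot_sup_eq] at hHM
      rw [hHM] at hMN
      exact top_le_iff.mp hMN
    · intro htop
      apply hM1
      rw [htop, top_inf_eq] at hHM'
      exact hHM'
    · refine lt_of_le_of_ne inf_le_left ?_
      intro e
      apply hN2
      have hHN : H ≤ N := by
        rw [← e]; exact inf_le_right
      rw [eq_top_iff, ← hHM]
      exact sup_le hHN hMN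
    · intro g hg y hy
      obtain ⟨hyH, hyc⟩ := hy
      have hyH' : y ∈ H := hyH
      have hyc' : y ∈ H.map (MulAut.conj g).toMonoidHom := hyc
      rw [mem_map_conj] at hyc'
      obtain ⟨y₁, hy₁, hy⟩ := hyc'
      obtain ⟨m, hm, h₀, hh₀, rfl⟩ := exists_mul_of_sup_eq_top M H hsup g
      have hm1 : m ≠ 1 := by
        intro h1
        apply hg
        rw [h1, one_mul]; exact hh₀
      set y₂ := h₀ * y₁ * h₀⁻¹ with hy₂
      have hy₂H : y₂ ∈ H := H.mul_mem (H.mul_mem hh₀ hy₁) (H.inv_mem hh₀)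
      have hy' : y = m * y₂ * m⁻¹ := by rw [← hy, hy₂]; group
      have h1 : y₂⁻¹ * y ∈ M := by
        rw [hy']
        have : y₂⁻¹ * (m * y₂ * m⁻¹) = (y₂⁻¹ * m * y₂⁻¹⁻¹) * m⁻¹ := by group
        rw [this]
        exact M.mul_mem (Subgroup.Normal.conj_mem inferInstance m hm y₂⁻¹) (M.inv_mem hm)
      have h2 : y₂⁻¹ * y ∈ H := H.mul_mem (H.inv_mem hy₂H) hyH'
      have h3 : y₂⁻¹ * y = 1 := hdisj _ h1 h2
      have h4 : y = y₂ := by
        calc y = y₂ * (y₂⁻¹ * y) := by group
          _ = y₂ := by rw [h3, mul_one]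
      rw [← h4] at hy'
      have hcomm : y * m = m * y := by
        calc y * m = (m * y * m⁻¹) * m := by rw [← hy']
          _ = m * y := by group
      apply hA m hm hm1
      rw [Subgroup.mem_centralizer_iff]
      intro z hz
      rw [Set.mem_singleton_iff] at hz
      rw [hz]
      exact hcomm.symm
  · rintro ⟨hH1, hH2, hHN, hB⟩ x hxM hx1 c hc
    by_contra hcN
    obtain ⟨m, hm, h, hh, rfl⟩ := exists_mul_of_sup_eq_top M H hsup c
    have hhN : h ∉ N := by
      intro hhN
      exact hcN (N.mul_mem (hMN hm) hhN)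
    -- h acts fixed point freely on M
    have hfpf : ∀ n ∈ M, h * n = n * h → n = 1 := by
      intro n hn hcomm
      by_contra hn1
      have hnH : n ∉ H := fun hnH => hn1 (hdisj n hn hnH)
      apply hhN
      apply hB n hnH
      refine ⟨hh, ?_⟩
      show h ∈ H.map (MulAut.conj n).toMonoidHom
      rw [mem_map_conj]
      refine ⟨h, hh, ?_⟩
      rw [← hcomm]; group
    obtain ⟨y, hy, hyh⟩ := exists_conj_of_fpf M h hfpf m hm
    have hcx : x * (m * h) = (m * h) * x := by
      rw [Subgroup.mem_centralizer_iff] at hc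
      exact hc x (Set.mem_singleton x)
    rw [← hyh] at hcx
    apply hx1
    have h5 : y⁻¹ * x * y = 1 := by
      apply hfpf
      · have : y⁻¹ * x * y = y⁻¹ * x * y⁻¹⁻¹ := by group
        rw [this]
        exact Subgroup.Normal.conj_mem inferInstance x hxM y⁻¹
      · calc h * (y⁻¹ * x * y) = y⁻¹ * ((y * h * y⁻¹) * x) * y := by group
          _ = y⁻¹ * (x * (y * h * y⁻¹)) * y := by rw [hcx]
          _ = (y⁻¹ * x * y) * h := by group
    calc x = y * (y⁻¹ * x * y) * y⁻¹ := by group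
      _ = 1 := by rw [h5]; group

end Cfsg.Agent.S4113
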