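import Cfsg.Statements.S4115
import Cfsg.Agent.Lib.Helper22.Wielandt
import Cfsg.Agent.Lib.Helper22.TIFrob
import Cfsg.Agent.Lib.Helper22.Jordan

set_option autoImplicit false
universe u
open Cfsg

namespace Cfsg.Agent.S4115

open Cfsg.Agent.Lib.Helper22 Cfsg.Agent.Lib.Helper1

variable {G : Type u} [Group G] [Finite G]


theorem card_subgroupOf_normalizer (H : Subgroup G) :
    Nat.card (H.subgroupOf (Subgroup.normalizer (H : Set G))) = Nat.card H :=
  Nat.card_congr (Subgroup.subgroupOfEquivOfLe Subgroup.le_normalizer).toEquiv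

/-- the control property from the TI hypothesis -/
theorem ctl_of_TI (H : Subgroup G) (hTI : Cfsg.IsTISubset (H : Set G))
    (hHall : (Nat.card H).Coprime (H.subgroupOf (Subgroup.normalizer (H : Set G))).index)
    (K : Subgroup (Subgroup.normalizer (H : Set G))) [K.Normal]
    (hKc : K.IsComplement' (H.subgroupOf (Subgroup.normalizer (H : Set G)))) :
    Wielandt.Ctl (Subgroup.normalizer (H : Set G)) K := by
  intro m hm x hx
  haveI : (H.subgroupOf (Subgroup.normalizer (H : Set G))).Normal := Subgroup.normal_in_normalizer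
  have h1 : (m : G) ^ (H.subgroupOf (Subgroup.normalizer (H : Set G))).index ∈ H := by
    have := Subgroup.pow_index_mem (H.subgroupOf (Subgroup.normalizer (H : Set G))) m
    rw [Subgroup.mem_subgroupOf] at this
    simpa using this
  have h2 : (x⁻¹ * (m : G) * x) ^ (H.subgroupOf (Subgroup.normalizer (H : Set G))).index ∈ H := by
    have := Subgroup.pow_index_mem (H.subgroupOf (Subgroup.normalizer (H : Set G))) (⟨_, hx⟩ : (Subgroup.normalizer (H : Set G)))
    rw [Subgroup.mem_subgroupOf] at this
    simpa using this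
  have h3 : (m : G) ^ (H.subgroupOf (Subgroup.normalizer (H : Set G))).index ≠ 1 := by
    intro h
    apply hm
    have h4 : m ^ (H.subgroupOf (Subgroup.normalizer (H : Set G))).index = 1 := Subtype.ext (by simpa using h)
    have h5 : orderOf m ∣ (H.subgroupOf (Subgroup.normalizer (H : Set G))).index := orderOf_dvd_of_pow_eq_one h4
    have h6 : K.index = Nat.card H := by
      rw [hKc.symm.index_eq_card]
      exact card_subgroupOf_normalizer H
    apply mem_of_coprime_index K m
    rw [h6]
    exact Nat.Coprime.coprime_dvd_left h5 hHall.symm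
  by_contra hxM
  have hxM' : x⁻¹ ∉ (Subgroup.normalizer (H : Set G)) := fun h => hxM (by simpa using Subgroup.inv_mem _ h)
  apply h3
  apply hTI x⁻¹ hxM' _ h1
  have e : x⁻¹ * (m : G) ^ (H.subgroupOf (Subgroup.normalizer (H : Set G))).index * x⁻¹⁻¹ =
      (x⁻¹ * (m : G) * x) ^ (H.subgroupOf (Subgroup.normalizer (H : Set G))).index := by
    rw [← conj_pow, inv_inv]
  rw [e]
  exact h2

theorem part1_mpr (H : Subgroup G) :
    (∃ N : Subgroup G, N.Normal ∧ N.IsComplement' H) →
    (∃ K : Subgroup (Subgroup.normalizer (H : Set G)), K.Normal ∧ K.IsComplement' (H.subgroupOf (Subgroup.normalizer (H : Set G)))) := by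
  rintro ⟨N, hNn, hNc⟩
  exact ⟨N.subgroupOf _, hNn.subgroupOf _, IsComplement'.subgroupOf_of_le_right hNc
    Subgroup.le_normalizer⟩

theorem part1_mp (H : Subgroup G) (hTI : Cfsg.IsTISubset (H : Set G))
    (hHall : (Nat.card H).Coprime (H.subgroupOf (Subgroup.normalizer (H : Set G))).index) :
    (∃ K : Subgroup (Subgroup.normalizer (H : Set G)), K.Normal ∧ K.IsComplement' (H.subgroupOf (Subgroup.normalizer (H : Set G)))) →
    (∃ N : Subgroup G, N.Normal ∧ N.IsComplement' H) := by
  rintro ⟨K, hKn, hKc⟩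
  haveI := hKn
  obtain ⟨N, hNn, hNK, hcard⟩ :=
    Wielandt.exists_normal_of_ctl _ K (ctl_of_TI H hTI hHall K hKc)
  have hdisj : Disjoint N H := by
    rw [disjoint_iff, eq_bot_iff]
    intro x hx
    obtain ⟨hxN, hxH⟩ := Subgroup.mem_inf.mp hx
    rw [Subgroup.mem_bot]
    have h1 : (⟨x, Subgroup.le_normalizer hxH⟩ : (Subgroup.normalizer (H : Set G))) ∈ K := hNK _ hxN
    have h2 : (⟨x, Subgroup.le_normalizer hxH⟩ : (Subgroup.normalizer (H : Set G))) ∈ H.subgroupOf (Subgroup.normalizer (H : Set G)) :=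
      Subgroup.mem_subgroupOf.mpr hxH
    have h3 : (⟨x, Subgroup.le_normalizer hxH⟩ : (Subgroup.normalizer (H : Set G))) ∈ K ⊓ H.subgroupOf (Subgroup.normalizer (H : Set G)) :=
      Subgroup.mem_inf.mpr ⟨h1, h2⟩
    rw [hKc.disjoint.eq_bot, Subgroup.mem_bot] at h3
    exact congrArg Subtype.val h3
  refine ⟨N, hNn, Subgroup.isComplement'_of_card_mul_and_disjoint ?_ hdisj⟩
  have e1 := hKc.card_mul_card
  rw [card_subgroupOf_normalizer H] at e1
  have e2 := Subgroup.index_mul_card (Subgroup.normalizer (H : Set G))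
  have e3 : Nat.card N * Nat.card H ≤ Nat.card G := by
    rw [← Nat.card_prod]
    exact Nat.card_le_card_of_injective _ (Subgroup.mul_injective_of_disjoint hdisj)
  have e4 : Nat.card G = ((Subgroup.normalizer (H : Set G)).index * Nat.card K) * Nat.card H := by
    rw [← e2, ← e1]; ring
  have e5 := Nat.mul_le_mul_right (Nat.card H) hcard
  omega

/-- elements of `N` commuting with a nonidentity element of `H` normalize `H` -/
theorem mem_normalizer_of_commute (H : Subgroup G) (hTI : Cfsg.IsTISubset (H : Set G))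
    {h n : G} (hh : h ∈ H) (h1 : h ≠ 1) (hc : n * h = h * n) :
    n ∈ Subgroup.normalizer (H : Set G) := by
  by_contra hn
  apply h1
  apply hTI n hn h hh
  have : n * h * n⁻¹ = h := by rw [hc]; group
  rw [this]
  exact hh

theorem commute_of_mem_normalizer (H N : Subgroup G) (hNn : N.Normal) (hNc : N.IsComplement' H)
    {n : G} (hn : n ∈ N) (hnM : n ∈ Subgroup.normalizer (H : Set G)) :
    ∀ y ∈ H, n * y = y * n := by
  have hHN : H ≤ Subgroup.normalizer (N : Set G) := by
    rw [Subgroup.normalizer_eq_top_iff.mpr hNn]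
    exact le_top
  have := mem_centralizer_of_mem_normalizer hHN hNc.disjoint.eq_bot hn hnM
  intro y hy
  exact ((Subgroup.mem_centralizer_iff.mp this) y hy).symm

theorem coprime_of_TI (H N : Subgroup G) (hTI : Cfsg.IsTISubset (H : Set G))
    (hHall : (Nat.card H).Coprime (H.subgroupOf (Subgroup.normalizer (H : Set G))).index)
    (hNn : N.Normal) (hNc : N.IsComplement' H) : (Nat.card N).Coprime (Nat.card H) := by
  classical
  have hK₁ : (N.subgroupOf (Subgroup.normalizer (H : Set G))).IsComplement'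
      (H.subgroupOf (Subgroup.normalizer (H : Set G))) :=
    IsComplement'.subgroupOf_of_le_right hNc Subgroup.le_normalizer
  have hcop1 : (Nat.card H).Coprime (Nat.card (N.subgroupOf (Subgroup.normalizer (H : Set G)))) := by
    rw [← hK₁.index_eq_card]
    exact hHall
  apply Nat.coprime_of_dvd
  intro p hp hpN hpH
  haveI : Fact p.Prime := ⟨hp⟩
  obtain ⟨h, hh⟩ := exists_prime_orderOf_dvd_card' (G := H) p hpH
  have hh1 : (h : G) ≠ 1 := by
    intro e
    have : h = 1 := Subtype.ext e
    rw [this, orderOf_one] at hh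
    exact hp.one_lt.ne hh
  have hhp : (h : G) ^ p = 1 := by
    have : h ^ p = 1 := by rw [← hh]; exact pow_orderOf_eq_one h
    have := congrArg Subtype.val this
    simpa using this
  haveI : Fintype N := Fintype.ofFinite N
  let f : Function.End N := fun n => ⟨(h : G) * n * (h : G)⁻¹, hNn.conj_mem n n.2 h⟩
  have hfpow : ∀ k : ℕ, ∀ n : N, (((f ^ k) n : N) : G) = (h : G) ^ k * n * ((h : G) ^ k)⁻¹ := by
    intro k
    induction k with
    | zero => intro n; simp; rfl
    | succ k ih =>
      intro n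
      rw [pow_succ']
      show (h : G) * ((f ^ k) n : G) * (h : G)⁻¹ = _
      rw [ih, pow_succ']
      group
  have hfp : f ^ p ^ 1 = 1 := by
    rw [pow_one]
    funext n
    apply Subtype.ext
    rw [hfpow, hhp]
    simp
    rfl
  have hmod := Equiv.Perm.card_fixedPoints_modEq (f := f) (p := p) (n := 1) hfp
  have hfixcard : Fintype.card (Function.fixedPoints f) =
      Nat.card (N.subgroupOf (Subgroup.normalizer (H : Set G))) := by
    rw [← Nat.card_eq_fintype_card]
    apply Nat.card_congr
    refine ⟨fun x => ⟨⟨x.1.1, ?_⟩, ?_⟩, fun k => ⟨⟨k.1.1, ?_⟩, ?_⟩, ?_, ?_⟩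
    · have hx : f x.1 = x.1 := x.2
      have hx' : (h : G) * x.1.1 * (h : G)⁻¹ = x.1.1 := congrArg Subtype.val hx
      apply mem_normalizer_of_commute H hTI h.2 hh1
      calc (x.1.1 : G) * h = ((h : G) * x.1.1 * (h : G)⁻¹) * h := by rw [hx']
        _ = h * x.1.1 := by group
    · rw [Subgroup.mem_subgroupOf]
      exact x.1.2
    · exact Subgroup.mem_subgroupOf.mp k.2
    · show f _ = _
      apply Subtype.ext
      show (h : G) * (k.1.1 : G) * (h : G)⁻¹ = k.1.1
      have := commute_of_mem_normalizer H N hNn hNc (Subgroup.mem_subgroupOf.mp k.2) k.1.2 h h.2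
      rw [← this]
      group
    · intro x
      rfl
    · intro k
      rfl
  rw [hfixcard, ← Nat.card_eq_fintype_card] at hmod
  have h1 : p ∣ Nat.card (N.subgroupOf (Subgroup.normalizer (H : Set G))) :=
    (Nat.modEq_zero_iff_dvd.mp (hmod.symm.trans (Nat.modEq_zero_iff_dvd.mpr hpN)))
  have h2 : p ∣ 1 := by
    rw [← Nat.Coprime.gcd_eq_one hcop1]
    exact Nat.dvd_gcd hpH h1
  exact hp.one_lt.ne' (Nat.dvd_one.mp h2)

theorem setting_of_TI (H N : Subgroup G) (hTI : Cfsg.IsTISubset (H : Set G))
    (hHall : (Nat.card H).Coprime (H.subgroupOf (Subgroup.normalizer (H : Set G))).index)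
    (hNn : N.Normal) (hNc : N.IsComplement' H) : TIFrob.Setting H N where
  normal := hNn
  cent := by
    intro h hh h1 n hn hc y hy
    exact commute_of_mem_normalizer H N hNn hNc hn (mem_normalizer_of_commute H hTI hh h1 hc) y hy
  cop := coprime_of_TI H N hTI hHall hNn hNc

theorem part2 (H : Subgroup G) (hTI : Cfsg.IsTISubset (H : Set G))
    (hHall : (Nat.card H).Coprime (H.subgroupOf (Subgroup.normalizer (H : Set G))).index)
    (hHn : ¬ H.Normal)
    (hK : ∃ K : Subgroup (Subgroup.normalizer (H : Set G)), K.Normal ∧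
      K.IsComplement' (H.subgroupOf (Subgroup.normalizer (H : Set G)))) :
    ∃ (F : Type u) (_ : Group F) (_ : Finite F) (C : Subgroup F),
      Cfsg.IsFrobeniusComplement C ∧ Nonempty (H ≃* C) := by
  obtain ⟨N, hNn, hNc⟩ := part1_mp H hTI hHall hK
  have hS := setting_of_TI H N hTI hHall hNn hNc
  apply hS.exists_frobenius
  · rintro rfl
    exact hHn inferInstance
  · intro hle
    apply hHn
    rw [← Subgroup.normalizer_eq_top_iff, eq_top_iff, ← hNc.sup_eq_top]
    exact sup_le (hle.trans (Subgroup.centralizer_le_normalizer (H : Set G))) Subgroup.le_normalizer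

theorem result {G : Type u} [Group G] [Finite G] (H : Subgroup G)
    (hTI : Cfsg.IsTISubset (H : Set G)) (hHall : (Nat.card H).Coprime (H.subgroupOf (Subgroup.normalizer (H : Set G))).index) :
    ((∃ K : Subgroup (Subgroup.normalizer (H : Set G)), K.Normal ∧ K.IsComplement' (H.subgroupOf (Subgroup.normalizer (H : Set G)))) ↔
      (∃ N : Subgroup G, N.Normal ∧ N.IsComplement' H)) ∧
    (¬ H.Normal → (∃ K : Subgroup (Subgroup.normalizer (H : Set G)), K.Normal ∧ K.IsComplement' (H.subgroupOf (Subgroup.normalizer (H : Set G)))) →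
      ∃ (F : Type u) (_ : Group F) (_ : Finite F) (C : Subgroup F), Cfsg.IsFrobeniusComplement C ∧ Nonempty (H ≃* C)) := by
  exact ⟨⟨part1_mp H hTI hHall, part1_mpr H⟩, fun hn hK => part2 H hTI hHall hn hK⟩

end Cfsg.Agent.S4115
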