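import Cfsg.Statements.S4116
import Cfsg.Agent.Lib.Helper22.FixedPoint
import Cfsg.Agent.Lib.Helper13.Sylow

set_option autoImplicit false
open Cfsg

namespace Cfsg.Agent.S4116

open Cfsg.Agent.Lib.Helper22

/-- an element whose order is coprime to the index of a normal subgroup lies in it -/
theorem mem_of_coprime_index {L : Type*} [Group L] [Finite L] (N : Subgroup L) [N.Normal] (x : L)
    (h : (orderOf x).Coprime N.index) : x ∈ N := by
  rw [← QuotientGroup.eq_one_iff]
  have h1 : orderOf (QuotientGroup.mk x : L ⧸ N) ∣ orderOf x := orderOf_map_dvd (QuotientGroup.mk' N) x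
  have h2 : orderOf (QuotientGroup.mk x : L ⧸ N) ∣ N.index := by
    rw [Subgroup.index_eq_card]
    exact orderOf_dvd_natCard _
  exact orderOf_eq_one_iff.mp (Nat.eq_one_of_dvd_coprimes h h1 h2)

/-- an element of the normalizer of `H` whose order is coprime to the index of `H` lies in `H` -/
theorem mem_of_mem_normalizer {G : Type*} [Group G] [Finite G] (H : Subgroup G) (z : G)
    (hz : z ∈ Subgroup.normalizer (H : Set G)) (h : (orderOf z).Coprime H.index) : z ∈ H := by
  have hn : (H.subgroupOf (Subgroup.normalizer (H : Set G))).Normal := Subgroup.normal_in_normalizer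
  have h1 : (⟨z, hz⟩ : Subgroup.normalizer (H : Set G)) ∈ H.subgroupOf (Subgroup.normalizer (H : Set G)) := by
    apply mem_of_coprime_index
    rw [Subgroup.orderOf_mk]
    exact Nat.Coprime.coprime_dvd_right (Subgroup.relIndex_dvd_index_of_le Subgroup.le_normalizer) h
  exact h1

/-- every nonidentity element of order coprime to the index is conjugate into `H` -/
theorem exists_conj_mem {G : Type*} [Group G] [Finite G] (H : Subgroup G)
    (hHall : (Nat.card H).Coprime H.index) (hTI : Cfsg.IsTISubset (H : Set G))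
    (y : G) (hy1 : y ≠ 1) (hyH : ∀ q : ℕ, q.Prime → q ∣ orderOf y → q ∣ Nat.card H) :
    ∃ c : G, c * y * c⁻¹ ∈ H := by
  have hne : orderOf y ≠ 1 := fun h => hy1 (orderOf_eq_one_iff.mp h)
  obtain ⟨q, hq, hqd⟩ := Nat.exists_prime_and_dvd hne
  have : Fact q.Prime := ⟨hq⟩
  have hqH : q ∣ Nat.card H := hyH q hq hqd
  have hqi : ¬ q ∣ H.index := by
    intro h
    have h3 : q ∣ Nat.gcd (Nat.card H) H.index := Nat.dvd_gcd hqH h
    rw [hHall] at h3
    exact hq.one_lt.ne' (Nat.dvd_one.mp h3)
  -- a Sylow q-subgroup of G inside H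
  obtain ⟨P₀⟩ : Nonempty (Sylow q H) := inferInstance
  have hP₀ : IsPGroup q ((P₀ : Subgroup H).map H.subtype) := P₀.2.map H.subtype
  have hidx : ¬ q ∣ ((P₀ : Subgroup H).map H.subtype).index := by
    rw [Subgroup.index_map_subtype]
    intro h
    rcases (Nat.Prime.dvd_mul hq).mp h with h' | h'
    · exact P₀.not_dvd_index h'
    · exact hqi h'
  let Q : Sylow q G := hP₀.toSylow hidx
  have hQH : (Q : Subgroup G) ≤ H := Subgroup.map_subtype_le _
  -- the element of order q
  set w := y ^ (orderOf y / q) with hw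
  have hwo : orderOf w = q := orderOf_pow_orderOf_div (orderOf_pos y).ne' hqd
  have hw1 : w ≠ 1 := by
    intro h
    rw [h, orderOf_one] at hwo
    exact hq.one_lt.ne hwo
  obtain ⟨c, hc⟩ := Cfsg.Agent.Lib.Helper13.exists_conj_mem_sylow Q w ⟨1, by rw [pow_one, ← hwo, pow_orderOf_eq_one]⟩
  have hxH : c * w * c⁻¹ ∈ H := hQH hc
  refine ⟨c, ?_⟩
  have hcomm : y * w = w * y := by
    rw [hw, ← pow_succ', ← pow_succ]
  apply mem_of_mem_normalizer
  · by_contra hnot
    have h1 := hTI (c * y * c⁻¹) hnot (c * w * c⁻¹) hxH (by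
      have : c * y * c⁻¹ * (c * w * c⁻¹) * (c * y * c⁻¹)⁻¹ = c * (y * w * y⁻¹) * c⁻¹ := by group
      rw [this, hcomm]
      have : c * (w * y * y⁻¹) * c⁻¹ = c * w * c⁻¹ := by group
      rw [this]
      exact hxH)
    apply hw1
    calc w = c⁻¹ * (c * w * c⁻¹) * c := by group
      _ = 1 := by rw [h1]; group
  · have ho : orderOf (c * y * c⁻¹) = orderOf y := by
      have : c * y * c⁻¹ = MulAut.conj c y := by simp [MulAut.conj_apply]
      rw [this, MulEquiv.orderOf_eq]
    rw [ho]
    apply Nat.coprime_of_dvd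
    intro r hr hry hri
    have hrH := hyH r hr hry
    have h3 : r ∣ Nat.gcd (Nat.card H) H.index := Nat.dvd_gcd hrH hri
    rw [hHall] at h3
    exact hr.one_lt.ne' (Nat.dvd_one.mp h3)

/-- Let G be a finite group with a subgroup H whose order is coprime to its index (a Hall subgroup) and which meets each of its conjugates by elements outside N_G(H) trivially. Then every subgroup of G whose order is divisible only by primes dividing the order of H lies in a conjugate of H. -/
theorem result {G : Type*} [Group G] [Finite G] (H : Subgroup G)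
    (hHall : (Nat.card H).Coprime H.index) (hTI : Cfsg.IsTISubset (H : Set G))
    (K : Subgroup G) (hK : ∀ q : ℕ, q.Prime → q ∣ Nat.card K → q ∣ Nat.card H) :
    ∃ g : G, K ≤ H.map (MulAut.conj g).toMonoidHom := by
  by_cases hK1 : K = ⊥
  · exact ⟨1, by rw [hK1]; exact bot_le⟩
  have hKy : ∀ y ∈ K, ∀ q : ℕ, q.Prime → q ∣ orderOf y → q ∣ Nat.card H := by
    intro y hy q hq hqy
    exact hK q hq (dvd_trans hqy (Subgroup.orderOf_dvd_natCard K hy))
  have hcop : ∀ y ∈ K, ∀ g : G, (orderOf (g⁻¹ * y * g)).Coprime H.index := by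
    intro y hy g
    have ho : orderOf (g⁻¹ * y * g) = orderOf y := by
      have : g⁻¹ * y * g = MulAut.conj g⁻¹ y := by simp [MulAut.conj_apply]
      rw [this, MulEquiv.orderOf_eq]
    rw [ho]
    apply Nat.coprime_of_dvd
    intro r hr hry hri
    have hrH := hKy y hy r hr hry
    have h3 : r ∣ Nat.gcd (Nat.card H) H.index := Nat.dvd_gcd hrH hri
    rw [hHall] at h3
    exact hr.one_lt.ne' (Nat.dvd_one.mp h3)
  set N := Subgroup.normalizer (H : Set G) with hN
  -- fixed points of elements of K on G ⧸ N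
  have hfix : ∀ (y : K) (g : G), y • (QuotientGroup.mk g : G ⧸ N) = QuotientGroup.mk g ↔ g⁻¹ * (y : G) * g ∈ H := by
    intro y g
    have e : y • (QuotientGroup.mk g : G ⧸ N) = QuotientGroup.mk ((y : G) * g) := rfl
    rw [e, QuotientGroup.eq]
    constructor
    · intro h
      have h' : g⁻¹ * (y : G) * g ∈ N := by
        have : g⁻¹ * (y : G) * g = (((y : G) * g)⁻¹ * g)⁻¹ := by group
        rw [this]; exact N.inv_mem h
      exact mem_of_mem_normalizer H _ h' (hcop y y.2 g)
    · intro h
      have : ((y : G) * g)⁻¹ * g = (g⁻¹ * (y : G) * g)⁻¹ := by group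
      rw [this]
      exact N.inv_mem (Subgroup.le_normalizer h)
  have h1 : ∀ y : K, y ≠ 1 → ∃! ω : G ⧸ N, y • ω = ω := by
    intro y hy
    have hy1 : (y : G) ≠ 1 := fun h => hy (Subtype.ext h)
    obtain ⟨c, hc⟩ := exists_conj_mem H hHall hTI y hy1 (hKy y y.2)
    refine ⟨QuotientGroup.mk c⁻¹, ?_, ?_⟩
    · show y • (QuotientGroup.mk c⁻¹ : G ⧸ N) = QuotientGroup.mk c⁻¹
      rw [hfix, inv_inv]; exact hc
    · intro ω hω
      obtain ⟨g, rfl⟩ := QuotientGroup.mk_surjective ω
      rw [hfix] at hω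
      -- x := g⁻¹ y g ∈ H, x' := c y c⁻¹ ∈ H conjugate by c g
      rw [QuotientGroup.eq]
      by_contra hnot
      have hnot' : c * g ∉ N := by
        intro h
        apply hnot
        have : g⁻¹ * c⁻¹ = (c * g)⁻¹ := by group
        rw [this]
        exact N.inv_mem h
      have h2 := hTI (c * g) hnot' (g⁻¹ * (y : G) * g) hω (by
        have : c * g * (g⁻¹ * (y : G) * g) * (c * g)⁻¹ = c * (y : G) * c⁻¹ := by group
        rw [this]; exact hc)
      apply hy1
      calc (y : G) = g * (g⁻¹ * (y : G) * g) * g⁻¹ := by group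
        _ = 1 := by rw [h2]; group
  have hKne : ∃ y : K, y ≠ 1 := by
    by_contra h
    push Not at h
    apply hK1
    rw [Subgroup.eq_bot_iff_forall]
    intro x hx
    exact congrArg Subtype.val (h ⟨x, hx⟩)
  obtain ⟨ω, hω⟩ := exists_fixed_of_unique_fixed h1 hKne
  obtain ⟨g, rfl⟩ := QuotientGroup.mk_surjective ω
  refine ⟨g, ?_⟩
  intro y hy
  have h3 := (hfix ⟨y, hy⟩ g).mp (hω ⟨y, hy⟩)
  rw [Subgroup.mem_map]
  refine ⟨g⁻¹ * y * g, h3, ?_⟩
  simp only [MulEquiv.coe_toMonoidHom, MulAut.conj_apply]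
  group

end Cfsg.Agent.S4116
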