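import Cfsg.Statements.S4117
import Cfsg.Agent.Lib.Helper22.CoprimeAbelianAct
import Cfsg.Agent.Lib.Helper1.Cores
import Cfsg.Agent.Lib.Helper1.Basic
import Cfsg.Agent.Lib.Helper10.Basic

set_option autoImplicit false
open Cfsg

namespace Cfsg.Agent.S4117

open Subgroup Cfsg.Agent.Lib.Helper22

variable {G A : Type*} [Group G] [Group A] [MulDistribMulAction A G]

/-- the generating set of `[G,A]` -/
def commSet (G A : Type*) [Group G] [Group A] [MulDistribMulAction A G] : Set G :=
  {y : G | ∃ (a : A) (g : G), y = g⁻¹ * a • g}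

theorem conj_mem_closure_commSet (x y : G) (hy : y ∈ commSet G A) :
    x * y * x⁻¹ ∈ closure (commSet G A) := by
  obtain ⟨a, g, rfl⟩ := hy
  have h1 : (g * x⁻¹)⁻¹ * a • (g * x⁻¹) ∈ closure (commSet G A) := subset_closure ⟨a, g * x⁻¹, rfl⟩
  have h2 : (x⁻¹)⁻¹ * a • (x⁻¹) ∈ closure (commSet G A) := subset_closure ⟨a, x⁻¹, rfl⟩
  have h3 : x * (g⁻¹ * a • g) * x⁻¹ = ((g * x⁻¹)⁻¹ * a • (g * x⁻¹)) * ((x⁻¹)⁻¹ * a • (x⁻¹))⁻¹ := by
    rw [smul_mul']
    group
  rw [h3]
  exact (closure (commSet G A)).mul_mem h1 ((closure (commSet G A)).inv_mem h2)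

theorem closure_commSet_normal : (closure (commSet G A)).Normal := by
  constructor
  intro n hn x
  have h1 : (closure (commSet G A)).map (MulAut.conj x).toMonoidHom ≤ closure (commSet G A) := by
    rw [MonoidHom.map_closure, closure_le]
    rintro _ ⟨y, hy, rfl⟩
    exact conj_mem_closure_commSet x y hy
  exact h1 ⟨n, hn, by simp [MulAut.conj_apply]⟩

theorem closure_commSet_invariant (b : A) (k : G) (hk : k ∈ closure (commSet G A)) :
    b • k ∈ closure (commSet G A) := by
  have h1 : (closure (commSet G A)).map (MulDistribMulAction.toMonoidHom G b) ≤ closure (commSet G A) := by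
    rw [MonoidHom.map_closure, closure_le]
    rintro _ ⟨y, ⟨a, g, rfl⟩, rfl⟩
    apply Subgroup.subset_closure
    refine ⟨b * a * b⁻¹, b • g, ?_⟩
    show b • (g⁻¹ * a • g) = (b • g)⁻¹ * (b * a * b⁻¹) • (b • g)
    rw [smul_mul', smul_inv', ← mul_smul, ← mul_smul]
    congr 2
    group
  exact h1 ⟨k, hk, rfl⟩


theorem smul_mem_commutator (a : A) (d : G) (hd : d ∈ commutator G) : a • d ∈ commutator G := by
  have hc : (commutator G).Characteristic := by rw [commutator_def]; infer_instance
  have h1 := (Subgroup.characteristic_iff_map_le.mp hc) (MulDistribMulAction.toMulEquiv G a)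
  exact h1 ⟨d, hd, rfl⟩

theorem closure_commSet_le_centralizer [Finite G] [IsZGroup G] :
    closure (commSet G A) ≤ centralizer (commutator G : Set G) := by
  rw [closure_le]
  rintro _ ⟨a, g, rfl⟩
  rw [SetLike.mem_coe, mem_centralizer_iff]
  intro z hz
  have hDcyc : IsCyclic ↥(commutator G) := IsZGroup.isCyclic_commutator G
  have hDn : (commutator G).Normal := inferInstance
  let φ : ↥(commutator G) →* ↥(commutator G) :=
    { toFun := fun d => ⟨g * d * g⁻¹, hDn.conj_mem d d.2 g⟩
      map_one' := by apply Subtype.ext; simp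
      map_mul' := fun x y => by apply Subtype.ext; simp }
  let ψ : ↥(commutator G) →* ↥(commutator G) :=
    { toFun := fun d => ⟨a • (d : G), smul_mem_commutator a (d : G) d.2⟩
      map_one' := by apply Subtype.ext; show a • ((1 : ↥(commutator G)) : G) = 1; simp [smul_one]
      map_mul' := fun x y => by
        apply Subtype.ext
        show a • ((x * y : ↥(commutator G)) : G) = a • (x : G) * a • (y : G)
        rw [Subgroup.coe_mul, smul_mul'] }
  obtain ⟨m, hm⟩ := φ.map_cyclic
  obtain ⟨n, hn⟩ := ψ.map_cyclic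
  have hcomm : ∀ d, φ (ψ d) = ψ (φ d) := by
    intro d
    rw [hm, hn, hn, hm, ← zpow_mul, ← zpow_mul, mul_comm]
  have h1 := congrArg Subtype.val (hcomm ⟨a⁻¹ • z, smul_mem_commutator a⁻¹ z hz⟩)
  have h2 : g * (a • (a⁻¹ • z)) * g⁻¹ = a • (g * (a⁻¹ • z) * g⁻¹) := h1
  rw [smul_inv_smul, smul_mul', smul_mul', smul_inv_smul, smul_inv'] at h2
  -- h2 : g * z * g⁻¹ = a • g * z * (a • g)⁻¹
  calc z * (g⁻¹ * a • g) = g⁻¹ * (g * z * g⁻¹) * a • g := by group
    _ = g⁻¹ * (a • g * z * (a • g)⁻¹) * a • g := by rw [h2]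
    _ = g⁻¹ * a • g * z := by group

theorem closure_commSet_comm [Finite G] [IsZGroup G] :
    ∀ x ∈ closure (commSet G A), ∀ y ∈ closure (commSet G A), x * y = y * x := by
  intro x hx y hy
  let f : ↥(closure (commSet G A)) →* Abelianization G :=
    Abelianization.of.comp (closure (commSet G A)).subtype
  have hker : f.ker ≤ center ↥(closure (commSet G A)) := by
    intro k hk
    rw [MonoidHom.mem_ker] at hk
    have h1 : (k : G) ∈ (Abelianization.of (G := G)).ker := hk
    rw [Abelianization.ker_of] at h1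
    rw [mem_center_iff]
    intro w
    apply Subtype.ext
    have h2 := closure_commSet_le_centralizer (A := A) w.2
    rw [mem_centralizer_iff] at h2
    exact (h2 k h1).symm
  have := (MonoidHom.isMulCommutative_of_isCyclic_of_ker_le_center f hker).is_comm.comm ⟨x, hx⟩ ⟨y, hy⟩
  exact congrArg Subtype.val this

theorem result {G A : Type*} [Group G] [Finite G] [Group A] [Finite A]
    [MulDistribMulAction A G] (hcop : (Nat.card A).Coprime (Nat.card G))
    (hcyc : ∀ (p : ℕ) [Fact p.Prime] (P : Sylow p G), IsCyclic (P : Subgroup G)) :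
    (Nat.card (MulAction.fixedPoints A G : Set G)).Coprime (Nat.card G / Nat.card (MulAction.fixedPoints A G : Set G)) ∧
    IsCyclic (Subgroup.closure {y : G | ∃ (a : A) (g : G), y = g⁻¹ * a • g}) ∧
    (Subgroup.closure {y : G | ∃ (a : A) (g : G), y = g⁻¹ * a • g}).Normal ∧
    (Subgroup.closure {y : G | ∃ (a : A) (g : G), y = g⁻¹ * a • g} : Set G) ∩ MulAction.fixedPoints A G = {1} ∧
    Subgroup.closure {y : G | ∃ (a : A) (g : G), y = g⁻¹ * a • g} ⊔ Subgroup.closure (MulAction.fixedPoints A G) = ⊤ := by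
  have hZ : IsZGroup G := ⟨fun p hp P => by have := Fact.mk hp; exact hcyc p P⟩
  change (Nat.card (MulAction.fixedPoints A G : Set G)).Coprime (Nat.card G / Nat.card (MulAction.fixedPoints A G : Set G)) ∧
    IsCyclic (closure (commSet G A)) ∧ (closure (commSet G A)).Normal ∧
    (closure (commSet G A) : Set G) ∩ MulAction.fixedPoints A G = {1} ∧
    closure (commSet G A) ⊔ closure (MulAction.fixedPoints A G) = ⊤
  have hCcl : closure (MulAction.fixedPoints A G) = FixedPoints.subgroup A G :=
    Subgroup.closure_eq (FixedPoints.subgroup A G)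
  rw [hCcl]
  have hCset : (MulAction.fixedPoints A G : Set G) = ((FixedPoints.subgroup A G : Subgroup G) : Set G) := rfl
  rw [hCset]
  generalize hK : closure (commSet G A) = K
  generalize hC : FixedPoints.subgroup A G = C
  have hKn : K.Normal := hK ▸ closure_commSet_normal
  have hKinv : ∀ (a : A) (k : G), k ∈ K → a • k ∈ K := hK ▸ closure_commSet_invariant
  have hKcomm : ∀ x ∈ K, ∀ y ∈ K, x * y = y * x := hK ▸ closure_commSet_comm
  have hcopK : (Nat.card A).Coprime (Nat.card K) :=
    hcop.coprime_dvd_right (Subgroup.card_subgroup_dvd_card K)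
  have hKcyc : IsCyclic K := by
    have hcm : IsMulCommutative ↥K := ⟨⟨fun x y => Subtype.ext (hKcomm x x.2 y y.2)⟩⟩
    have hnil : Group.IsNilpotent ↥K := ⟨1, Subgroup.upperCentralSeries_one_eq_top_iff.mpr hcm⟩
    infer_instance
  have hdecomp : ∀ g : G, ∃ t ∈ K, g * t ∈ C := by
    intro g
    obtain ⟨t, ht, hfix⟩ := exists_fixed_mul K hKinv hKcomm hcopK g
      (fun a => hK ▸ Subgroup.subset_closure ⟨a, g, rfl⟩)
    exact ⟨t, ht, hC ▸ hfix⟩
  have hsup : K ⊔ C = ⊤ := by
    rw [eq_top_iff]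
    intro g _
    obtain ⟨t, ht, hc⟩ := hdecomp g
    have h1 : g = (g * t) * t⁻¹ := by group
    rw [h1]
    exact mul_mem (mem_sup_right hc) (mem_sup_left (K.inv_mem ht))
  have hgen : commSet G A ⊆ {y : G | ∃ (a : A) (k : G), k ∈ K ∧ y = k⁻¹ * a • k} := by
    rintro _ ⟨a, g, rfl⟩
    obtain ⟨t, ht, hc⟩ := hdecomp g
    refine ⟨a, t⁻¹, K.inv_mem ht, ?_⟩
    have h1 : a • (g * t) = g * t := by
      rw [← hC] at hc
      exact hc a
    rw [smul_mul'] at h1
    rw [smul_inv', inv_inv]
    have h2 : a • g = g * t * (a • t)⁻¹ := by rw [← h1]; group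
    rw [h2]
    group
  have hdisj : ∀ x ∈ K, x ∈ C → x = 1 := by
    intro x hxK hxC
    refine eq_one_of_fixed_of_mem_comm K hKinv hKcomm hcopK x ?_ ?_
    · rw [← hK] at hxK
      exact Subgroup.closure_mono hgen hxK
    · rw [← hC] at hxC
      exact hxC
  have hinf : K ⊓ C = ⊥ := by
    rw [eq_bot_iff]
    intro x hx
    exact hdisj x hx.1 hx.2
  have hcompl : IsComplement' K C :=
    Cfsg.Agent.Lib.Helper1.isComplement'_of_disjoint_of_sup_eq_top (disjoint_iff.mpr hinf) hsup
  have hcard : Nat.card K * Nat.card C = Nat.card G := hcompl.card_mul_card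
  have hCpos : 0 < Nat.card C := Nat.card_pos
  have hdiv : Nat.card G / Nat.card C = Nat.card K := by
    rw [← hcard]
    exact Nat.mul_div_cancel _ hCpos
  refine ⟨?_, hKcyc, hKn, ?_, hsup⟩
  · show (Nat.card ↥C).Coprime (Nat.card G / Nat.card ↥C)
    rw [hdiv]
    by_contra hnc
    obtain ⟨p, hp, hpC, hpK⟩ := Nat.Prime.not_coprime_iff_dvd.mp hnc
    have := Fact.mk hp
    obtain ⟨x, hx⟩ := exists_prime_orderOf_dvd_card' p hpC
    obtain ⟨y, hy⟩ := exists_prime_orderOf_dvd_card' p hpK
    have hx' : orderOf (x : G) = p := by rw [Subgroup.orderOf_coe]; exact hx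
    have hy' : orderOf (y : G) = p := by rw [Subgroup.orderOf_coe]; exact hy
    have hYK : zpowers (y : G) ≤ K := by rw [zpowers_le]; exact y.2
    have hYn : (zpowers (y : G)).Normal := by
      constructor
      intro n hn g
      have h1 : (zpowers (y : G)).map (MulAut.conj g).toMonoidHom = zpowers (y : G) := by
        apply Cfsg.Agent.Lib.Helper10.eq_of_card_eq_of_le_isCyclic K
        · rintro _ ⟨z, hz, rfl⟩
          exact hKn.conj_mem z (hYK hz) g
        · exact hYK
        · exact Nat.card_congr ((zpowers (y : G)).equivMapOfInjective _ (MulAut.conj g).injective).symm.toEquiv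
      rw [← h1]
      exact ⟨n, hn, by simp [MulAut.conj_apply]⟩
    have hsupcard : Nat.card (zpowers (x : G) ⊔ zpowers (y : G) : Subgroup G) ∣ p * p := by
      have := Cfsg.Agent.Lib.Helper1.card_sup_dvd_of_normal (zpowers (x : G)) (zpowers (y : G))
      rwa [Nat.card_zpowers, Nat.card_zpowers, hx', hy'] at this
    have hpg : IsPGroup p (zpowers (x : G) ⊔ zpowers (y : G) : Subgroup G) := by
      rw [← pow_two] at hsupcard
      obtain ⟨k, _, hk⟩ := (Nat.dvd_prime_pow hp).mp hsupcard
      exact IsPGroup.of_card hk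
    obtain ⟨P, hP⟩ := hpg.exists_le_sylow
    have hPc : IsCyclic (P : Subgroup G) := hcyc p P
    have heq : zpowers (x : G) = zpowers (y : G) := by
      apply Cfsg.Agent.Lib.Helper10.eq_of_card_eq_of_le_isCyclic (P : Subgroup G)
      · exact le_trans le_sup_left hP
      · exact le_trans le_sup_right hP
      · rw [Nat.card_zpowers, Nat.card_zpowers, hx', hy']
    have hxK : (x : G) ∈ K := hYK (heq ▸ mem_zpowers (x : G))
    have hx1 : (x : G) = 1 := hdisj x hxK x.2
    rw [hx1, orderOf_one] at hx'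
    exact hp.one_lt.ne hx'
  · ext x
    simp only [Set.mem_inter_iff, SetLike.mem_coe, Set.mem_singleton_iff]
    constructor
    · rintro ⟨h1, h2⟩
      exact hdisj x h1 h2
    · rintro rfl
      exact ⟨K.one_mem, C.one_mem⟩

end Cfsg.Agent.S4117
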