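import Cfsg.Statements.S4126
import Cfsg.Agent.Lib.Lead.ClassPow
import Cfsg.Agent.Lib.Helper13.OmegaSmall
import Cfsg.Agent.Lib.Helper13.Frobenius
import Cfsg.Agent.Lib.Helper1.Critical
import Cfsg.Agent.Lib.Helper1.ClassTwo
import Cfsg.Agent.S0121

set_option autoImplicit false
open Cfsg

namespace Cfsg.Agent.S4126

open Subgroup Cfsg.Agent.Lib.Lead Cfsg.Agent.Lib.Helper13 Cfsg.Agent.Lib.Helper1
open scoped commutatorElement

/-- the exponent bound used: `p` for odd `p` and `4` for `p = 2`. -/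
def ex (p : ℕ) : ℕ := if p = 2 then 4 else p

theorem dvd_choose_ex (p : ℕ) (hp : p.Prime) : p ∣ (ex p).choose 2 := by
  unfold ex
  split_ifs with h
  · subst h; decide
  · have : 2 < p := lt_of_le_of_ne hp.two_le (Ne.symm h)
    exact hp.dvd_choose_self (by norm_num) this

/-- In a critical subgroup, the elements with `x ^ ex p = 1` form a subgroup. -/
def smallSub {Q : Type*} [Group Q] [Finite Q] (p : ℕ) [Fact p.Prime] (H : Subgroup Q)
    (hH : IsPGroup p H)
    (h1 : (frattini H).map H.subtype ≤ centralizer (H : Set Q))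
    (h2 : ⁅H, (⊤ : Subgroup Q)⁆ ≤ H ⊓ centralizer (H : Set Q)) : Subgroup Q where
  carrier := {x | x ∈ H ∧ x ^ ex p = 1}
  one_mem' := ⟨H.one_mem, one_pow _⟩
  inv_mem' := by
    rintro x ⟨hx, hxe⟩
    exact ⟨H.inv_mem hx, by rw [inv_pow, hxe, inv_one]⟩
  mul_mem' := by
    rintro a b ⟨ha, hae⟩ ⟨hb, hbe⟩
    refine ⟨H.mul_mem ha hb, ?_⟩
    have hp : p.Prime := Fact.out
    have hcen : ⁅b, a⁆ ∈ centralizer (H : Set Q) :=
      (h2 (commutator_mem_commutator hb (mem_top a))).2
    have hca : ⁅b, a⁆ * a = a * ⁅b, a⁆ := (mem_centralizer_iff.1 hcen a ha).symm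
    have hcb : ⁅b, a⁆ * b = b * ⁅b, a⁆ := (mem_centralizer_iff.1 hcen b hb).symm
    have hbp : b ^ p ∈ centralizer (H : Set Q) := by
      have h3 : (⟨b, hb⟩ : H) ^ p ∈ frattini H := IsPGroup.pow_mem_frattini hH _
      have h4 := h1 (mem_map_of_mem H.subtype h3)
      simpa using h4
    have hcp : ⁅b, a⁆ ^ p = 1 := by
      rw [← commutatorElement_pow_left hcb p, commutatorElement_eq_one_iff_commute]
      exact (mem_centralizer_iff.1 hbp a ha).symm
    obtain ⟨k, hk⟩ := dvd_choose_ex p hp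
    rw [mul_pow_of_commutator_central hca hcb, hae, hbe, hk, pow_mul, hcp, one_pow, mul_one,
      mul_one]

/-- Let G be a finite group and p a prime. Suppose every element of order p, and when p = 2 also every element of order 4, has a conjugacy class of p-power size. Then G has a normal p-complement. -/
theorem result {G : Type*} [Group G] [Finite G] (p : ℕ) [Fact p.Prime]
    (h : ∀ x : G, (orderOf x = p ∨ (p = 2 ∧ orderOf x = 4)) → ∃ a : ℕ, (Subgroup.centralizer ({x} : Set G)).index = p ^ a) :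
    Cfsg.HasNormalPComplement p G := by
  have hp : p.Prime := Fact.out
  -- small elements have `p`-power class size
  have hsmall : ∀ x : G, (x ^ p = 1 ∨ (p = 2 ∧ x ^ 4 = 1)) →
      ∃ a : ℕ, (centralizer ({x} : Set G)).index = p ^ a := by
    intro x hx
    by_cases hx1 : x = 1
    · subst hx1
      refine ⟨0, ?_⟩
      rw [pow_zero, index_eq_one, eq_top_iff]
      intro y _
      rw [mem_centralizer_iff]
      intro z hz
      rw [Set.mem_singleton_iff] at hz
      subst hz
      simp
    rcases hx with hx | ⟨h2, hx⟩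
    · exact h x (Or.inl (orderOf_eq_prime hx hx1))
    · have hdvd : orderOf x ∣ 2 ^ 2 := orderOf_dvd_of_pow_eq_one (by norm_num; exact hx)
      obtain ⟨j, hj, hoj⟩ := (Nat.dvd_prime_pow Nat.prime_two).1 hdvd
      interval_cases j
      · exfalso; exact hx1 (orderOf_eq_one_iff.1 (by simpa using hoj))
      · exact h x (Or.inl (by rw [h2]; simpa using hoj))
      · exact h x (Or.inr ⟨h2, by simpa using hoj⟩)
  have hsmallR : ∀ x : G, (x ^ p = 1 ∨ (p = 2 ∧ x ^ 4 = 1)) → x ∈ pCore p G := by
    intro x hx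
    obtain ⟨a, ha⟩ := hsmall x hx
    refine mem_pCore_of_class_pow p x ?_ ha
    rcases hx with hx | ⟨h2, hx⟩
    · exact ⟨1, by rwa [pow_one]⟩
    · exact ⟨2, by rw [h2]; norm_num; exact hx⟩
  set R : Subgroup G := pCore p G with hR
  have hRn : R.Normal := Cfsg.Agent.Lib.Helper16.pCore_normal
  have hRp : IsPGroup p R := Cfsg.Agent.Lib.Helper16.pCore_isPGroup
  obtain ⟨H, hHchar, h1, h2, h3⟩ := exists_critical_subgroup (P := R) hRp
  have hHp : IsPGroup p H := hRp.to_subgroup H
  let D0 : Subgroup R := smallSub p H hHp h1 h2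
  have hD0mem : ∀ x : R, x ∈ D0 ↔ x ∈ H ∧ x ^ ex p = 1 := fun x => Iff.rfl
  have hHgn : (H.map R.subtype).Normal := ConjAct.normal_of_characteristic_of_normal
  set Hg := H.map R.subtype with hHg
  set D := D0.map R.subtype with hD
  have hDn : D.Normal := by
    constructor
    rintro _ ⟨d, hd, rfl⟩ g
    obtain ⟨hdH, hde⟩ := (hD0mem d).1 hd
    have h4 : g * (d : G) * g⁻¹ ∈ Hg := hHgn.conj_mem _ (mem_map_of_mem _ hdH) g
    obtain ⟨d', hd'H, hd'⟩ := h4
    refine ⟨d', (hD0mem d').2 ⟨hd'H, ?_⟩, hd'⟩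
    apply Subtype.ext
    rw [Subgroup.coe_pow]
    have h5 : (d' : G) = g * d * g⁻¹ := hd'
    rw [h5, conj_pow, ← Subgroup.coe_pow, hde]
    simp
  have hDsmall : ∀ d ∈ D, (d ^ p = 1 ∨ (p = 2 ∧ d ^ 4 = 1)) := by
    rintro _ ⟨d, hd, rfl⟩
    obtain ⟨-, hde⟩ := (hD0mem d).1 hd
    have hde' : (d : G) ^ ex p = 1 := by rw [← Subgroup.coe_pow, hde]; rfl
    unfold ex at hde'
    split_ifs at hde' with h2
    · exact Or.inr ⟨h2, hde'⟩
    · exact Or.inl hde'
  have hmain : ∀ g : G, (orderOf g).Coprime p → ∀ r ∈ R, g * r = r * g := by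
    intro g hg
    have hcD : ∀ d ∈ D, g * d = d * g := fun d hd =>
      commute_of_class_pow p D hDn (hRp.to_le (map_subtype_le D0))
        (fun d hd => hsmall d (hDsmall d hd)) g hg d hd
    have hcH : g ∈ centralizer (Hg : Set G) := by
      apply mem_centralizer_of_centralizes_small p Hg (hRp.to_le (map_subtype_le H)) g ?_ hg ?_
      · rw [normalizer_eq_top]; exact mem_top g
      · intro x hx hxs
        apply hcD
        obtain ⟨x', hx'H, rfl⟩ := hx
        refine ⟨x', (hD0mem x').2 ⟨hx'H, ?_⟩, rfl⟩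
        apply Subtype.ext
        rw [Subgroup.coe_pow]
        show (x' : G) ^ ex p = 1
        have hxs' : ((x' : G) ^ p = 1 ∨ (p = 2 ∧ (x' : G) ^ 4 = 1)) := hxs
        unfold ex
        split_ifs with h2
        · rcases hxs' with h6 | ⟨-, h6⟩
          · rw [h2] at h6
            calc (x' : G) ^ 4 = ((x' : G) ^ 2) ^ 2 := by rw [← pow_mul]
              _ = 1 := by rw [h6, one_pow]
          · exact h6
        · rcases hxs' with h6 | ⟨h2', -⟩
          · exact h6
          · exact absurd h2' h2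
    let a : MulAut R := MulAut.conjNormal g
    have ha : (orderOf a).Coprime p :=
      Nat.Coprime.coprime_dvd_left (orderOf_map_dvd (MulAut.conjNormal (H := R)) g) hg
    have hfix : ∀ x ∈ H, a x = x := by
      intro x hx
      apply Subtype.ext
      show ((MulAut.conjNormal g x : R) : G) = x
      rw [MulAut.conjNormal_apply]
      have h7 := mem_centralizer_iff.1 hcH (x : G) (mem_map_of_mem R.subtype hx)
      have h8 : (x : G) * g = g * x := h7
      rw [← h8]; group
    have ha1 : a = 1 := Cfsg.Agent.S0121.result hRp H hHchar h1 h2 h3 a ha hfix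
    intro r hr
    have h9 : ((a ⟨r, hr⟩ : R) : G) = r := by rw [ha1]; rfl
    have h10 : ((MulAut.conjNormal g (⟨r, hr⟩ : R) : R) : G) = r := h9
    rw [MulAut.conjNormal_apply] at h10
    calc g * r = (g * r * g⁻¹) * g := by group
      _ = r * g := by rw [h10]
  have hLC : LocalCentral p G := by
    intro Q hQ g hgN hg
    apply mem_centralizer_of_centralizes_small p Q hQ g hgN hg
    intro x _ hxs
    exact hmain g hg x (hsmallR x hxs)
  obtain ⟨P⟩ : Nonempty (Sylow p G) := inferInstance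
  obtain ⟨K, hKn, hK⟩ := exists_normal_complement_of_localCentral hLC P
  exact ⟨P, K, hKn, hK⟩

end Cfsg.Agent.S4126
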