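-- Statement S4135 (row 4135): a normal subgroup with two `G`-class sizes containing a noncentral
-- Sylow subgroup of `G` is nilpotent.
import Mathlib
import Cfsg.Statements.S4135
import Cfsg.Agent.Lib.Helper12.TwoClassN2

set_option autoImplicit false
open Cfsg

namespace Cfsg.Agent.S4135

open Cfsg.Agent.Lib.Helper12.TwoClassN

/-- Let G be a finite group, r a prime and R a Sylow r-subgroup of G that is not central, N a normal subgroup of G containing R, and m a natural number such that every element of N has a conjugacy class in G of size 1 or m. Then N is nilpotent. -/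
theorem result {G : Type*} [Group G] [Finite G] (r : ℕ) [Fact r.Prime]
    (R : Sylow r G) (hR : ¬ (R : Subgroup G) ≤ Subgroup.center G) (N : Subgroup G) [N.Normal] (hRN : (R : Subgroup G) ≤ N)
    (m : ℕ) (h : ∀ x ∈ N, (Subgroup.centralizer ({x} : Set G)).index = 1 ∨ (Subgroup.centralizer ({x} : Set G)).index = m) : Group.IsNilpotent N := by
  have hcs : CS N m := h
  have K : Ctx N r m R := ⟨hcs, hRN, hR⟩
  apply isNilpotent_of_commute N r
  intro q hq hqr y hyN hy n hn
  have : Fact q.Prime := ⟨hq⟩
  by_cases hrm : r ∣ m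
  · have h1 := K.mem_center_of_prime_pow hrm hqr hyN hy
    exact Subgroup.mem_center_iff.mp h1 n
  · obtain ⟨x₀, hx₀R, hx₀c⟩ := SetLike.not_le_iff_exists.mp hR
    have hx₀N := hRN hx₀R
    have hx₀r : ∃ k : ℕ, x₀ ^ r ^ k = 1 := by
      obtain ⟨j, hj⟩ := R.2 ⟨x₀, hx₀R⟩
      refine ⟨j, ?_⟩
      have h2 := congrArg Subtype.val hj
      rw [Subgroup.coe_pow, Subgroup.coe_one] at h2
      exact h2
    have hx₀Z : ∀ n ∈ N, Commute n x₀ := hcs.commute_of_not_dvd hrm hx₀N hx₀r
    have hle := hcs.centralizer_le_of_coprime hx₀N hyN hx₀c (hx₀Z y hyN).symm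
      (coprime_orderOf_of_pow (Fact.out : r.Prime) hq hqr.symm hx₀r hy)
    have hn' : n ∈ Subgroup.centralizer ({x₀} : Set G) :=
      Subgroup.mem_centralizer_singleton_iff.mpr (hx₀Z n hn).eq
    exact Subgroup.mem_centralizer_singleton_iff.mp (hle hn')

end Cfsg.Agent.S4135
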