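import Cfsg.Statements.S4142
import Mathlib
import Cfsg.Agent.Lib.Helper22.Conj

set_option autoImplicit false
open Cfsg

namespace Cfsg.Agent.S4142

open Cfsg.Agent.Lib.Helper22

variable {G : Type*} [Group G] [Finite G] (N : Subgroup G) [N.Normal]

/-- class of `g` -/
def S (g : G) : Set G := {h : G | IsConj g h}

/-- preimage of the class of `gN` -/
def R (g : G) : Set G := QuotientGroup.mk ⁻¹' {k : G ⧸ N | IsConj (QuotientGroup.mk g : G ⧸ N) k}

theorem S_subset_R (g : G) : S g ⊆ R N g := by
  intro h hh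
  exact (QuotientGroup.mk' N).map_isConj hh

theorem ncard_S (g : G) : (S g).ncard = (Subgroup.centralizer ({g} : Set G)).index :=
  (index_centralizer_eq_ncard_setOf_isConj g).symm

theorem ncard_R (g : G) : (R N g).ncard =
    Nat.card N * (Subgroup.centralizer ({(QuotientGroup.mk g : G ⧸ N)} : Set (G ⧸ N))).index := by
  rw [index_centralizer_eq_ncard_setOf_isConj, ← Nat.card_coe_set_eq, ← Nat.card_coe_set_eq]
  exact QuotientGroup.card_preimage_mk N _

theorem camina_iff_R_subset_S (g : G) :
    (∀ n ∈ N, ∃ x : G, x * g * x⁻¹ = g * n) ↔ R N g ⊆ S g := by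
  constructor
  · intro h k hk
    obtain ⟨y, hy⟩ := isConj_iff.mp hk
    obtain ⟨y, rfl⟩ := QuotientGroup.mk_surjective y
    have h1 : (QuotientGroup.mk (y * g * y⁻¹) : G ⧸ N) = QuotientGroup.mk k := hy
    have h2 : (y * g * y⁻¹)⁻¹ * k ∈ N := QuotientGroup.eq.mp h1
    set n' := (y * g * y⁻¹)⁻¹ * k with hn'
    have h3 : y⁻¹ * n' * y⁻¹⁻¹ ∈ N := Subgroup.Normal.conj_mem inferInstance n' h2 y⁻¹
    obtain ⟨x, hx⟩ := h _ h3
    show IsConj g k
    rw [isConj_iff]
    refine ⟨y * x, ?_⟩
    have : y * x * g * (y * x)⁻¹ = y * (x * g * x⁻¹) * y⁻¹ := by group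
    rw [this, hx, hn']
    group
  · intro h n hn
    have : g * n ∈ R N g := by
      show IsConj (QuotientGroup.mk g : G ⧸ N) (QuotientGroup.mk (g * n))
      have : (QuotientGroup.mk (g * n) : G ⧸ N) = QuotientGroup.mk g := by
        rw [QuotientGroup.eq]
        simpa using N.inv_mem hn
      rw [this]
    exact isConj_iff.mp (h this)

theorem key (g : G) :
    (∀ n ∈ N, ∃ x : G, x * g * x⁻¹ = g * n) ↔
      Nat.card (Subgroup.centralizer ({g} : Set G)) =
        Nat.card (Subgroup.centralizer ({(QuotientGroup.mk g : G ⧸ N)} : Set (G ⧸ N))) := by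
  rw [camina_iff_R_subset_S]
  set C := Subgroup.centralizer ({g} : Set G)
  set D := Subgroup.centralizer ({(QuotientGroup.mk g : G ⧸ N)} : Set (G ⧸ N))
  have e1 : C.index * Nat.card C = Nat.card G := C.index_mul_card
  have e2 : D.index * Nat.card D = Nat.card (G ⧸ N) := D.index_mul_card
  have e3 : Nat.card N * Nat.card (G ⧸ N) = Nat.card G := by
    rw [mul_comm]; exact (N.card_eq_card_quotient_mul_card_subgroup).symm
  have hCpos : 0 < C.index := Nat.pos_of_ne_zero Subgroup.index_ne_zero_of_finite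
  have hDpos : 0 < Nat.card D := Nat.card_pos
  constructor
  · intro h
    have h1 : (S g).ncard = (R N g).ncard := by
      rw [Set.Subset.antisymm (S_subset_R N g) h]
    rw [ncard_S, ncard_R] at h1
    have : C.index * Nat.card C = C.index * Nat.card D := by
      rw [e1, h1, mul_assoc, e2, e3]
    exact Nat.eq_of_mul_eq_mul_left hCpos this
  · intro h
    have h1 : (R N g).ncard ≤ (S g).ncard := by
      rw [ncard_S, ncard_R]
      apply le_of_eq
      have : Nat.card N * D.index * Nat.card D = C.index * Nat.card D := by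
        rw [mul_assoc, e2, e3, ← e1, h]
      exact Nat.eq_of_mul_eq_mul_right hDpos this
    exact (Set.eq_of_subset_of_ncard_le (S_subset_R N g) h1 (Set.toFinite _)).ge

theorem result {G : Type*} [Group G] [Finite G] (N : Subgroup G) [N.Normal] :
    (∀ g : G, g ∉ N → ∀ n ∈ N, ∃ x : G, x * g * x⁻¹ = g * n) ↔
      ∀ g : G, g ∉ N → Nat.card (Subgroup.centralizer ({g} : Set G)) =
        Nat.card (Subgroup.centralizer ({(QuotientGroup.mk g : G ⧸ N)} : Set (G ⧸ N))) := by
  constructor
  · intro h g hg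
    exact (key N g).mp (h g hg)
  · intro h g hg
    exact (key N g).mpr (h g hg)

end Cfsg.Agent.S4142
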