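import Cfsg.Statements.S4143
import Cfsg.Agent.Lib.Helper1.MaxClass

set_option autoImplicit false
open Cfsg

namespace Cfsg.Agent.S4143

open scoped commutatorElement

/-- a group of order `p ^ k`, `k ≤ 2`, is commutative -/
theorem comm_of_card_le_sq {H : Type*} [Group H] {p : ℕ} [Fact p.Prime] {k : ℕ} (hk : k ≤ 2)
    (hH : Nat.card H = p ^ k) (a b : H) : a * b = b * a := by
  have hp : p.Prime := Fact.out
  interval_cases k
  · rw [pow_zero] at hH
    have : Subsingleton H := (Nat.card_eq_one_iff_unique.mp hH).1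
    exact Subsingleton.elim _ _
  · rw [pow_one] at hH
    have : IsCyclic H := isCyclic_of_prime_card hH
    exact IsCyclic.isMulCommutative.is_comm.comm a b
  · exact (IsPGroup.isMulCommutative_of_card_eq_prime_sq hH).is_comm.comm a b

theorem commute_of_comm_eq {G : Type*} [Group G] {b u v : G} (h : ⁅b, u⁆ = ⁅b, v⁆) :
    b * (v⁻¹ * u) = (v⁻¹ * u) * b := by
  rw [commutatorElement_def, commutatorElement_def] at h
  have h1 : u * b⁻¹ * u⁻¹ = v * b⁻¹ * v⁻¹ := by
    apply mul_left_cancel (a := b)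
    simpa [mul_assoc] using h
  have h2 : b⁻¹ = u⁻¹ * v * b⁻¹ * v⁻¹ * u := by
    calc b⁻¹ = u⁻¹ * (u * b⁻¹ * u⁻¹) * u := by group
    _ = u⁻¹ * (v * b⁻¹ * v⁻¹) * u := by rw [h1]
    _ = _ := by group
  calc b * (v⁻¹ * u) = b * (v⁻¹ * u) * b⁻¹ * b := by group
  _ = b * (v⁻¹ * u) * (u⁻¹ * v * b⁻¹ * v⁻¹ * u) * b := by rw [← h2]
  _ = v⁻¹ * u * b := by group

/-- Let X be a finite p-group of order p^n containing a non-abelian subgroup B of order p³ with C_X(B) ≤ B. Then X has nilpotency class n − 1 (maximal class). -/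
theorem result {X : Type*} [Group X] [Finite X] {p : ℕ} [Fact p.Prime] (n : ℕ) (hX : Nat.card X = p ^ n)
    (B : Subgroup X) (hB : Nat.card B = p ^ 3) (hBna : ¬ IsMulCommutative B) (hC : Subgroup.centralizer (B : Set X) ≤ B) :
    Group.nilpotencyClass X = n - 1 := by
  have hp : p.Prime := Fact.out
  have hXp : IsPGroup p X := IsPGroup.of_card hX
  have hBp : IsPGroup p B := IsPGroup.of_card hB
  have hn3 : 3 ≤ n := by
    have : p ^ 3 ∣ p ^ n := by rw [← hB, ← hX]; exact Subgroup.card_subgroup_dvd_card B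
    exact (Nat.pow_dvd_pow_iff_le_right hp.one_lt).mp this
  -- a noncommuting pair
  obtain ⟨b₁, hb₁, b₂, hb₂, hne⟩ : ∃ b₁ ∈ B, ∃ b₂ ∈ B, b₁ * b₂ ≠ b₂ * b₁ := by
    by_contra hcon
    push Not at hcon
    apply hBna
    exact ⟨⟨fun a b => Subtype.ext (hcon a a.2 b b.2)⟩⟩
  -- `closure {b₁, b₂} = B`
  have hD : Subgroup.closure ({b₁, b₂} : Set X) = B := by
    set D := Subgroup.closure ({b₁, b₂} : Set X) with hDdef
    have hDB : D ≤ B := by
      rw [hDdef, Subgroup.closure_le]
      intro x hx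
      rcases hx with rfl | rfl
      · exact hb₁
      · exact hb₂
    have h1 : Nat.card D ∣ p ^ 3 := hB ▸ Subgroup.card_dvd_of_le hDB
    obtain ⟨k, hk, hkD⟩ := (Nat.dvd_prime_pow hp).mp h1
    have hk3 : k = 3 := by
      by_contra hk3
      have hk2 : k ≤ 2 := by omega
      have hm₁ : b₁ ∈ D := Subgroup.subset_closure (by simp)
      have hm₂ : b₂ ∈ D := Subgroup.subset_closure (by simp)
      have := comm_of_card_le_sq hk2 hkD (⟨b₁, hm₁⟩ : D) ⟨b₂, hm₂⟩
      exact hne (congrArg Subtype.val this)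
    exact Subgroup.eq_of_le_of_card_ge hDB (by rw [hkD, hk3, hB])
  have hcent : ∀ x : X, b₁ * x = x * b₁ → b₂ * x = x * b₂ →
      x ∈ Subgroup.centralizer (B : Set X) := by
    intro x h1 h2
    have hle : B ≤ Subgroup.centralizer {x} := by
      rw [← hD, Subgroup.closure_le]
      intro y hy
      rcases hy with rfl | rfl
      · exact Subgroup.mem_centralizer_singleton_iff.mpr h1
      · exact Subgroup.mem_centralizer_singleton_iff.mpr h2
    rw [Subgroup.mem_centralizer_iff]
    intro y hy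
    exact Subgroup.mem_centralizer_singleton_iff.mp (hle hy)
  -- the center of `B` has order `p`
  have hZB : Nat.card (Subgroup.center B) = p := by
    have hBnt : Nontrivial B := by
      rw [← Finite.one_lt_card_iff_nontrivial, hB]
      exact Nat.one_lt_pow (by norm_num) hp.one_lt
    have h1 : Nat.card (Subgroup.center B) ∣ p ^ 3 := hB ▸ Subgroup.card_subgroup_dvd_card _
    obtain ⟨j, hj, hjZ⟩ := (Nat.dvd_prime_pow hp).mp h1
    have hj0 : j ≠ 0 := by
      rintro rfl
      have := hBp.center_nontrivial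
      rw [pow_zero] at hjZ
      have h2 : Subgroup.center B = ⊥ := Subgroup.card_eq_one.mp hjZ
      exact (Subgroup.nontrivial_iff_ne_bot _).mp this h2
    have hj3 : j ≠ 3 := by
      rintro rfl
      have h2 : Subgroup.center B = ⊤ := (Subgroup.card_eq_iff_eq_top _).mp (by rw [hjZ, hB])
      apply hBna
      exact Subgroup.center_eq_top_iff.mp h2
    have hj2 : j ≠ 2 := by
      rintro rfl
      have hq : Nat.card (B ⧸ Subgroup.center B) = p := by
        have := Subgroup.card_eq_card_quotient_mul_card_subgroup (Subgroup.center B)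
        rw [hB, hjZ] at this
        have hpos : 0 < p ^ 2 := pow_pos hp.pos 2
        apply Nat.eq_of_mul_eq_mul_right hpos
        rw [← this]; ring
      have : IsCyclic (B ⧸ Subgroup.center B) := isCyclic_of_prime_card hq
      apply hBna
      exact (QuotientGroup.mk' (Subgroup.center B)).isMulCommutative_of_isCyclic_of_ker_le_center
        (by simp)
    have : j = 1 := by omega
    rw [hjZ, this, pow_one]
  set Z : Subgroup X := Subgroup.center X with hZdef
  have hCB : Subgroup.centralizer (B : Set X) = (Subgroup.center B).map B.subtype := by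
    ext x
    constructor
    · intro hx
      have hxB := hC hx
      refine ⟨⟨x, hxB⟩, ?_, rfl⟩
      rw [SetLike.mem_coe, Subgroup.mem_center_iff]
      intro y
      apply Subtype.ext
      exact Subgroup.mem_centralizer_iff.mp hx y y.2
    · rintro ⟨y, hy, rfl⟩
      rw [Subgroup.mem_centralizer_iff]
      intro z hz
      have := Subgroup.mem_center_iff.mp hy ⟨z, hz⟩
      exact congrArg Subtype.val this
  have hCBcard : Nat.card (Subgroup.centralizer (B : Set X)) = p := by
    rw [hCB, Subgroup.card_map_of_injective B.subtype_injective, hZB]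
  have hZle : Z ≤ Subgroup.centralizer (B : Set X) := Subgroup.center_le_centralizer _
  have hXnt : Nontrivial X := by
    rw [← Finite.one_lt_card_iff_nontrivial, hX]
    exact Nat.one_lt_pow (by omega) hp.one_lt
  have hZcard : Nat.card Z = p := by
    have h1 : Nat.card Z ∣ p := hCBcard ▸ Subgroup.card_dvd_of_le hZle
    rcases (Nat.dvd_prime hp).mp h1 with h | h
    · exfalso
      have := hXp.center_nontrivial
      exact (Subgroup.nontrivial_iff_ne_bot _).mp this (Subgroup.card_eq_one.mp h)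
    · exact h
  have hCZ : Subgroup.centralizer (B : Set X) = Z :=
    (Subgroup.eq_of_le_of_card_ge hZle (by rw [hCBcard, hZcard])).symm
  have hZB' : Z ≤ B := hCZ ▸ hC
  -- the quotient
  have hQcard : Nat.card (X ⧸ Z) = p ^ (n - 1) := by
    have h1 := Subgroup.card_eq_card_quotient_mul_card_subgroup Z
    rw [hX, hZcard] at h1
    have h2 : p ^ (n - 1) * p = Nat.card (X ⧸ Z) * p := by
      rw [← h1, ← pow_succ]; congr 1; omega
    exact (Nat.eq_of_mul_eq_mul_right hp.pos h2).symm
  set Bq : Subgroup (X ⧸ Z) := B.map (QuotientGroup.mk' Z) with hBq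
  have hBqcard : Nat.card Bq = p ^ 2 := by
    have h1 : Nat.card ((QuotientGroup.mk : X → X ⧸ Z) ⁻¹' (Bq : Set (X ⧸ Z))) =
        Nat.card Z * Nat.card (Bq : Set (X ⧸ Z)) := QuotientGroup.card_preimage_mk Z _
    have h2 : (QuotientGroup.mk : X → X ⧸ Z) ⁻¹' (Bq : Set (X ⧸ Z)) = (B : Set X) := by
      ext x
      constructor
      · rintro ⟨b, hb, hbx⟩
        have h3 : b⁻¹ * x ∈ Z := QuotientGroup.eq.mp hbx
        have h4 : b * (b⁻¹ * x) ∈ B := B.mul_mem hb (hZB' h3)
        simpa using h4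
      · intro hx
        exact ⟨x, hx, rfl⟩
    rw [h2] at h1
    have h3 : p ^ 3 = p * Nat.card Bq := by
      rw [← hB, ← hZcard]; exact h1
    have h4 : p * p ^ 2 = p * Nat.card Bq := by rw [← h3]; ring
    exact (Nat.eq_of_mul_eq_mul_left hp.pos h4).symm
  have hBqle : Bq ≤ Subgroup.centralizer (Bq : Set (X ⧸ Z)) := by
    intro x hx
    rw [Subgroup.mem_centralizer_iff]
    intro y hy
    have := comm_of_card_le_sq le_rfl hBqcard (⟨y, hy⟩ : Bq) ⟨x, hx⟩
    exact congrArg Subtype.val this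
  have hmem : ∀ c ∈ Subgroup.centralizer (Bq : Set (X ⧸ Z)), ∀ b ∈ B,
      ⁅b, (Quotient.out c : X)⁆ ∈ Z := by
    intro c hc b hb
    have h1 : (QuotientGroup.mk (Quotient.out c) : X ⧸ Z) = c := QuotientGroup.out_eq' c
    have h2 : (QuotientGroup.mk b : X ⧸ Z) ∈ Bq := ⟨b, hb, rfl⟩
    have h3 := Subgroup.mem_centralizer_iff.mp hc _ h2
    rw [← QuotientGroup.eq_one_iff]
    have h4 : (QuotientGroup.mk ⁅b, (Quotient.out c : X)⁆ : X ⧸ Z) =
        ⁅(QuotientGroup.mk b : X ⧸ Z), c⁆ := by
      rw [commutatorElement_def, commutatorElement_def]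
      conv_rhs => rw [← h1]
      rfl
    rw [h4, commutatorElement_eq_one_iff_mul_comm]
    exact h3
  have hCq : Subgroup.centralizer (Bq : Set (X ⧸ Z)) = Bq := by
    symm
    apply Subgroup.eq_of_le_of_card_ge hBqle
    rw [hBqcard]
    let g : Subgroup.centralizer (Bq : Set (X ⧸ Z)) → Z × Z := fun c =>
      (⟨⁅b₁, (Quotient.out (c : X ⧸ Z) : X)⁆, hmem c c.2 b₁ hb₁⟩,
       ⟨⁅b₂, (Quotient.out (c : X ⧸ Z) : X)⁆, hmem c c.2 b₂ hb₂⟩)
    have hg : Function.Injective g := by
      intro c d hcd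
      have e1 : ⁅b₁, (Quotient.out (c : X ⧸ Z) : X)⁆ = ⁅b₁, (Quotient.out (d : X ⧸ Z) : X)⁆ :=
        congrArg (fun t : Z × Z => (t.1 : X)) hcd
      have e2 : ⁅b₂, (Quotient.out (c : X ⧸ Z) : X)⁆ = ⁅b₂, (Quotient.out (d : X ⧸ Z) : X)⁆ :=
        congrArg (fun t : Z × Z => (t.2 : X)) hcd
      have h1 := commute_of_comm_eq e1
      have h2 := commute_of_comm_eq e2
      have h3 : (Quotient.out (d : X ⧸ Z) : X)⁻¹ * Quotient.out (c : X ⧸ Z) ∈ Z :=
        hCZ.le (hcent _ h1 h2)
      have h4 : (QuotientGroup.mk (Quotient.out (d : X ⧸ Z)) : X ⧸ Z) =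
          QuotientGroup.mk (Quotient.out (c : X ⧸ Z)) := QuotientGroup.eq.mpr h3
      rw [QuotientGroup.out_eq', QuotientGroup.out_eq'] at h4
      exact Subtype.ext h4.symm
    calc Nat.card (Subgroup.centralizer (Bq : Set (X ⧸ Z))) ≤ Nat.card (Z × Z) :=
          Nat.card_le_card_of_injective g hg
      _ = p ^ 2 := by rw [Nat.card_prod, hZcard, pow_two]
  have hQ := Cfsg.Agent.Lib.Helper1.nilpotencyClass_of_self_centralizing (n - 1) hQcard Bq
    hBqcard hCq
  have hnil : Group.IsNilpotent X := hXp.isNilpotent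
  rw [Group.nilpotencyClass_eq_quotient_center_plus_one, hQ]
  omega

end Cfsg.Agent.S4143
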