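import Cfsg.Statements.S4145
import Cfsg.Agent.S0081
import Cfsg.Agent.Lib.Lead.SylowSplit
import Cfsg.Agent.Lib.Helper13.PNilpotent
import Cfsg.Agent.Lib.Helper16.SylowInf
import Cfsg.Agent.Lib.Helper1.Frattini
import Cfsg.Agent.Lib.Helper1.Basic

set_option autoImplicit false
open Cfsg

namespace Cfsg.Agent.S4145

open Subgroup Cfsg.Agent.Lib.Lead Cfsg.Agent.Lib.Helper13 Cfsg.Agent.Lib.Helper16

/-- the image in `G` of a normal `p`-complement of a normal subgroup is normal in `G`. -/
theorem normal_map_of_hall {G : Type*} [Group G] [Finite G] {p : ℕ} [Fact p.Prime]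
    (C : Subgroup G) [hC : C.Normal]
    (D0 : Subgroup C) [D0.Normal] (hcop : (Nat.card D0).Coprime p) {k : ℕ} (hk : D0.index = p ^ k) :
    (D0.map C.subtype).Normal := by
  constructor
  rintro _ ⟨d, hd, rfl⟩ g
  have hc : g * (d : G) * g⁻¹ ∈ C := hC.conj_mem _ d.2 g
  refine ⟨⟨_, hc⟩, ?_, rfl⟩
  apply mem_of_coprime_of_index_pow D0 hk
  have h1 : orderOf (⟨g * (d : G) * g⁻¹, hc⟩ : C) = orderOf (⟨d, hd⟩ : D0) := by
    rw [Subgroup.orderOf_mk, Subgroup.orderOf_mk, ← Subgroup.orderOf_coe]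
    exact (MulAut.conj g).orderOf_eq (d : G)
  rw [h1]
  exact Nat.Coprime.coprime_dvd_left (orderOf_dvd_natCard _) hcop

/-- Let G be a finite group with a cyclic Sylow p-subgroup and H a normal subgroup such that p divides both the order of H and the index of H. Then H has a normal p-complement and G is p-solvable. -/
theorem result {G : Type*} [Group G] [Finite G] (p : ℕ) [Fact p.Prime]
    (P : Sylow p G) (hP : IsCyclic (P : Subgroup G)) (H : Subgroup G) [H.Normal] (h1 : p ∣ Nat.card H) (h2 : p ∣ H.index) :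
    Cfsg.HasNormalPComplement p H ∧ Cfsg.IsPSolvable p G := by
  have hp : p.Prime := Fact.out
  have hHn : H.Normal := inferInstance
  have hnPH : ¬ (P : Subgroup G) ≤ H := by
    intro hle
    have : H.index ∣ (P : Subgroup G).index := Subgroup.index_dvd_of_le hle
    exact P.not_dvd_index (h2.trans this)
  obtain ⟨g, hg⟩ := IsCyclic.exists_monoid_generator (α := (P : Subgroup G))
  have hcomm : ∀ a ∈ (P : Subgroup G), ∀ b ∈ (P : Subgroup G), a * b = b * a := by
    intro a ha b hb
    obtain ⟨i, hi⟩ := hg ⟨a, ha⟩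
    obtain ⟨j, hj⟩ := hg ⟨b, hb⟩
    have := (Commute.pow_pow_self g i j).eq
    simp only [] at hi hj
    rw [hi, hj] at this
    exact congrArg Subtype.val this
  have h81 : H ⊓ (P : Subgroup G) ≤ (frattini P).map (P : Subgroup G).subtype := by
    rintro x ⟨hxH, hxP⟩
    obtain ⟨i, hi⟩ := hg ⟨x, hxP⟩
    simp only [] at hi
    by_cases hpi : p ∣ i
    · obtain ⟨j, rfl⟩ := hpi
      refine ⟨(g ^ j) ^ p, Cfsg.Agent.Lib.Helper1.IsPGroup.pow_mem_frattini P.isPGroup' _, ?_⟩
      rw [← pow_mul, mul_comm, hi]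
      rfl
    · exfalso
      apply hnPH
      obtain ⟨n, hn⟩ := P.isPGroup'.exists_card_eq
      have hcop : Nat.Coprime i (Nat.card (P : Subgroup G)) := by
        rw [hn]
        exact Nat.Coprime.pow_right _ ((Nat.Prime.coprime_iff_not_dvd hp).2 hpi).symm
      have hgH : (g : G) ∈ H := by
        by_cases hc1 : Nat.card (P : Subgroup G) = 1
        · have : g = 1 := by
            have := (Nat.card_eq_one_iff_unique.1 hc1).1
            exact Subsingleton.elim _ _
          rw [this]; exact H.one_mem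
        · have hlt : 1 < Nat.card (P : Subgroup G) := by
            have : 0 < Nat.card (P : Subgroup G) := Nat.card_pos
            omega
          obtain ⟨m, -, hm⟩ := Nat.exists_mul_mod_eq_one_of_coprime hcop hlt
          have e : g = (g ^ i) ^ m := by
            rw [← pow_mul, ← pow_mod_natCard, hm, pow_one]
          rw [e, hi]
          exact H.pow_mem hxH m
      intro y hy
      obtain ⟨j, hj⟩ := hg ⟨y, hy⟩
      simp only [] at hj
      have : y = (g : G) ^ j := by
        have := congrArg Subtype.val hj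
        simpa using this.symm
      rw [this]
      exact H.pow_mem hgH j
  have hH : HasNormalPComplement p H := Cfsg.Agent.S0081.result P H h81
  refine ⟨hH, ?_⟩
  obtain ⟨M, hMn, hMcop, k, hMk⟩ := hasNormalPComplement_iff_exists.mp hH
  have := hMn
  have hKn : (M.map H.subtype).Normal := normal_map_of_hall H M hMcop hMk
  set K := M.map H.subtype with hK
  have hKH : K ≤ H := map_subtype_le M
  have hKcard : (Nat.card K).Coprime p := by
    rw [hK, Subgroup.card_map_of_injective H.subtype_injective]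
    exact hMcop
  have hKP : K ⊓ (P : Subgroup G) = ⊥ := by
    apply disjoint_iff.1
    apply Subgroup.disjoint_of_coprime_natCard
    obtain ⟨n, hn⟩ := P.isPGroup'.exists_card_eq
    rw [hn]; exact Nat.Coprime.pow_right _ hKcard
  -- decomposition H = K (H ∩ P)
  have hdec : ∀ h ∈ H, ∃ k ∈ K, ∃ q ∈ H ⊓ (P : Subgroup G), k * q = h := by
    intro h hh
    have hc := isComplement'_sylow_of_coprime_of_index_pow M hMcop hMk (sylowInf P H)
    obtain ⟨m, hm, q, hq, hmq⟩ := Cfsg.Agent.Lib.Helper1.IsComplement'.exists_mul_eq hc ⟨h, hh⟩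
    refine ⟨m, mem_map_of_mem _ hm, q, ⟨q.2, ?_⟩, congrArg Subtype.val hmq⟩
    rw [coe_sylowInf] at hq
    exact mem_subgroupOf.1 hq
  obtain ⟨q, hqHP, hq1⟩ : ∃ q ∈ H ⊓ (P : Subgroup G), q ≠ 1 := by
    obtain ⟨x, hx⟩ := exists_prime_orderOf_dvd_card' p h1
    have hxp : (x : G) ^ p ^ 1 = 1 := by
      rw [pow_one, ← Subgroup.coe_pow, ← hx, pow_orderOf_eq_one]; rfl
    obtain ⟨c, hc⟩ := exists_conj_mem_sylow P (x : G) ⟨1, hxp⟩
    refine ⟨c * x * c⁻¹, ⟨hHn.conj_mem _ x.2 c, hc⟩, ?_⟩
    intro h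
    have : (x : G) = 1 := by
      have := congrArg (fun y => c⁻¹ * y * c) h
      simpa [mul_assoc] using this
    have hx1 : x = 1 := Subtype.ext this
    rw [hx1, orderOf_one] at hx
    exact hp.one_lt.ne hx
  let C : Subgroup G :=
    { carrier := {g | ∀ h ∈ H, g * h * g⁻¹ * h⁻¹ ∈ K}
      one_mem' := by
        intro h _
        have e : (1 : G) * h * 1⁻¹ * h⁻¹ = 1 := by group
        rw [e]; exact K.one_mem
      mul_mem' := by
        intro a b ha hb h hh
        have e : a * b * h * (a * b)⁻¹ * h⁻¹ =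
            a * (b * h * b⁻¹ * h⁻¹) * a⁻¹ * (a * h * a⁻¹ * h⁻¹) := by group
        rw [e]
        exact K.mul_mem (hKn.conj_mem _ (hb h hh) a) (ha h hh)
      inv_mem' := by
        intro a ha h hh
        have e : a⁻¹ * h * a⁻¹⁻¹ * h⁻¹ = a⁻¹ * (a * h * a⁻¹ * h⁻¹)⁻¹ * a⁻¹⁻¹ := by group
        rw [e]
        exact hKn.conj_mem _ (K.inv_mem (ha h hh)) a⁻¹ }
  have hCmem : ∀ g, g ∈ C ↔ ∀ h ∈ H, g * h * g⁻¹ * h⁻¹ ∈ K := fun g => Iff.rfl
  have hCn : C.Normal := by
    constructor
    intro a ha g h hh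
    have hh' : g⁻¹ * h * g ∈ H := by simpa using hHn.conj_mem h hh g⁻¹
    have e : g * a * g⁻¹ * h * (g * a * g⁻¹)⁻¹ * h⁻¹ =
        g * (a * (g⁻¹ * h * g) * a⁻¹ * (g⁻¹ * h * g)⁻¹) * g⁻¹ := by group
    rw [e]
    exact hKn.conj_mem _ (ha _ hh') g
  have hPC : (P : Subgroup G) ≤ C := by
    intro x hx h hh
    obtain ⟨k, hk, q, hq, rfl⟩ := hdec h hh
    have hxq : x * q = q * x := hcomm x hx q hq.2
    have e : x * (k * q) * x⁻¹ * (k * q)⁻¹ = (x * k * x⁻¹) * k⁻¹ := by
      have e1 : x * (k * q) * x⁻¹ * (k * q)⁻¹ = x * k * (q * x⁻¹) * q⁻¹ * k⁻¹ := by group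
      rw [e1]
      have hqx : q * x⁻¹ = x⁻¹ * q := by
        calc q * x⁻¹ = x⁻¹ * (x * q) * x⁻¹ := by group
          _ = x⁻¹ * (q * x) * x⁻¹ := by rw [hxq]
          _ = x⁻¹ * q := by group
      rw [hqx]; group
    rw [e]
    exact K.mul_mem (hKn.conj_mem _ hk x) (K.inv_mem hk)
  -- work inside `C`
  let PC : Sylow p C := P.subtype hPC
  have hPCcoe : (PC : Subgroup C) = (P : Subgroup G).subgroupOf C := Sylow.coe_subtype P hPC
  have hcycC : IsCyclic (PC : Subgroup C) := by
    rw [hPCcoe]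
    exact isCyclic_of_surjective (subgroupOfEquivOfLe hPC).symm (subgroupOfEquivOfLe hPC).symm.surjective
  have hqC : q ∈ C := hPC hqHP.2
  have hqPC : (⟨q, hqC⟩ : C) ∈ (PC : Subgroup C) := by
    rw [hPCcoe]; exact mem_subgroupOf.2 hqHP.2
  have hqcent : (⟨q, hqC⟩ : C) ∈ centralizer (normalizer ((PC : Subgroup C) : Set C) : Set C) := by
    rw [mem_centralizer_iff]
    intro n hn
    have hn' := (mem_normalizer_iff.1 hn ⟨q, hqC⟩).1 hqPC
    rw [hPCcoe, mem_subgroupOf] at hn'
    have hnq : (n : G) * q * (n : G)⁻¹ ∈ (P : Subgroup G) := hn'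
    have h3 : (n : G) * q * (n : G)⁻¹ * q⁻¹ ∈ K ⊓ (P : Subgroup G) :=
      Subgroup.mem_inf.2 ⟨n.2 q hqHP.1, (P : Subgroup G).mul_mem hnq ((P : Subgroup G).inv_mem hqHP.2)⟩
    rw [hKP, mem_bot] at h3
    apply Subtype.ext
    show (n : G) * q = q * (n : G)
    calc (n : G) * q = ((n : G) * q * (n : G)⁻¹ * q⁻¹) * q * (n : G) := by group
      _ = q * (n : G) := by rw [h3, one_mul]
  have hNC : normalizer ((PC : Subgroup C) : Set C) ≤ centralizer ((PC : Subgroup C) : Set C) := by
    rcases cyclic_sylow_dichotomy PC hcycC with h | h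
    · rw [Subgroup.commutator_eq_bot_iff_le_centralizer] at h
      exact Subgroup.le_centralizer_iff.1 h
    · exfalso
      have : IsMulCommutative (PC : Subgroup C) := by
        have := hcycC
        exact IsCyclic.isMulCommutative
      have hbot := abelian_sylow_centralizer_inf_commutator PC
      have : (⟨q, hqC⟩ : C) ∈ ((PC : Subgroup C) ⊓
          centralizer (normalizer ((PC : Subgroup C) : Set C) : Set C)) ⊓
          ⁅(PC : Subgroup C), normalizer ((PC : Subgroup C) : Set C)⁆ :=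
        ⟨⟨hqPC, hqcent⟩, h hqPC⟩
      rw [hbot, mem_bot] at this
      exact hq1 (congrArg Subtype.val this)
  have hcompl := MonoidHom.ker_transferSylow_isComplement' PC hNC
  set D0 : Subgroup C := (MonoidHom.transferSylow PC hNC).ker with hD0
  obtain ⟨hD0cop, j, hD0j⟩ := coprime_and_index_of_isComplement' D0 PC hcompl
  have hDn : (D0.map C.subtype).Normal := normal_map_of_hall C D0 hD0cop hD0j
  set D := D0.map C.subtype with hD
  have hDC : D ≤ C := map_subtype_le D0
  refine ⟨3, ![⊥, D, C, ⊤], rfl, rfl, ?_, ?_, ?_⟩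
  · apply Fin.monotone_iff_le_succ.mpr
    intro i
    fin_cases i
    · exact bot_le
    · exact hDC
    · exact le_top
  · intro i
    fin_cases i
    · exact (inferInstance : (⊥ : Subgroup G).Normal)
    · exact hDn
    · exact hCn
    · exact (inferInstance : (⊤ : Subgroup G).Normal)
  · intro i
    fin_cases i
    · right
      show ((⊥ : Subgroup G).relIndex D).Coprime p
      rw [Subgroup.relIndex_bot_left, hD, Subgroup.card_map_of_injective C.subtype_injective]
      exact hD0cop
    · left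
      refine ⟨j, ?_⟩
      show D.relIndex C = p ^ j
      rw [← hD0j, Subgroup.relIndex, hD]
      congr 1
      exact Subgroup.comap_map_eq_self_of_injective C.subtype_injective D0
    · right
      show (C.relIndex ⊤).Coprime p
      rw [Subgroup.relIndex_top_right]
      have h5 : C.index ∣ (P : Subgroup G).index := Subgroup.index_dvd_of_le hPC
      have h6 : ¬ p ∣ C.index := fun h => P.not_dvd_index (h.trans h5)
      exact ((Nat.Prime.coprime_iff_not_dvd hp).2 h6).symm

end Cfsg.Agent.S4145
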