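import Cfsg.Statements.S4146
import Cfsg.Agent.Lib.Helper24.CT.Main
import Cfsg.Agent.Lib.Helper24.CT.A19

set_option autoImplicit false
open Cfsg

namespace Cfsg.Agent.S4146

theorem result {G : Type*} [Group G] [Finite G] (n m : ℕ) (hn : 1 < n) (hm : 1 < m) (hcop : n.Coprime m)
    (h : Set.range (fun x : G => (Subgroup.centralizer ({x} : Set G)).index) = ({1, n, m, n * m} : Set ℕ)) :
    Group.IsNilpotent G ∧ IsPrimePow n ∧ IsPrimePow m := by
  rcases lt_trichotomy m n with hlt | heq | hgt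
  · exact (Cfsg.Agent.Lib.Helper24.CT.hyp_of_range n m hm hcop h hlt).result
  · exact absurd heq.symm (Cfsg.Agent.Lib.Helper24.CT.ne_of_coprime_of_one_lt hn hcop)
  · obtain ⟨h1, h2, h3⟩ := (Cfsg.Agent.Lib.Helper24.CT.hyp_of_range' n m hn hcop h hgt).result
    exact ⟨h1, h3, h2⟩

end Cfsg.Agent.S4146
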