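import Cfsg.Statements.S4152
import Cfsg.Agent.Lib.Helper22.PiElt

set_option autoImplicit false
open Cfsg

namespace Cfsg.Agent.S4152

open Cfsg.Agent.Lib.Helper22

variable {G : Type*} [Group G] [Finite G] (N : Subgroup G) [N.Normal] (π : Set ℕ)

/-- the image of a commuting pair in the quotient -/
def quotPair : CommPairs π G → CommPairs π (G ⧸ N) := fun a =>
  ⟨((QuotientGroup.mk a.1.1 : G ⧸ N), (QuotientGroup.mk a.1.2 : G ⧸ N)),
    a.2.1.of_orderOf_dvd (orderOf_map_dvd (QuotientGroup.mk' N) a.1.1), by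
      show (QuotientGroup.mk a.1.1 : G ⧸ N) * QuotientGroup.mk a.1.2 =
        QuotientGroup.mk a.1.2 * QuotientGroup.mk a.1.1
      rw [← QuotientGroup.mk_mul, ← QuotientGroup.mk_mul, a.2.2]⟩

theorem fiber_aux (x₀ g₀ : G ⧸ N) (r s : G → G)
    (hr : ∀ x g : G, x * g = g * x → (QuotientGroup.mk g : G ⧸ N) = g₀ →
      x * r x = r x * x ∧ (QuotientGroup.mk (r x) : G ⧸ N) = g₀)
    (hs : ∀ u w : G, u * w = w * u → (QuotientGroup.mk w : G ⧸ N) = x₀ →
      u * s u = s u * u ∧ (QuotientGroup.mk (s u) : G ⧸ N) = x₀)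
    (x g : G) (hc : x * g = g * x) (hx₀ : (QuotientGroup.mk x : G ⧸ N) = x₀)
    (hg₀ : (QuotientGroup.mk g : G ⧸ N) = g₀) :
    piPart π ((r x)⁻¹ * g) ∈ N ∧
    (s (piPart π ((r x)⁻¹ * g)))⁻¹ * (x * piPart' π ((r x)⁻¹ * g)) ∈ N ∧
    IsPiElt π (piPart π ((r x)⁻¹ * g)) ∧
    piPart π ((r x)⁻¹ * g) * ((s (piPart π ((r x)⁻¹ * g)))⁻¹ * (x * piPart' π ((r x)⁻¹ * g))) =
      ((s (piPart π ((r x)⁻¹ * g)))⁻¹ * (x * piPart' π ((r x)⁻¹ * g))) * piPart π ((r x)⁻¹ * g) ∧
    Commute x (piPart' π ((r x)⁻¹ * g)) ∧ IsPiElt πᶜ (piPart' π ((r x)⁻¹ * g)) := by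
  obtain ⟨hr1, hr2⟩ := hr x g hc hg₀
  set n := (r x)⁻¹ * g with hn
  have hnN : n ∈ N := by
    rw [← QuotientGroup.eq_one_iff, hn, QuotientGroup.mk_mul, QuotientGroup.mk_inv, hr2, hg₀,
      inv_mul_cancel]
  have hxn : Commute x n := by
    have h1 : Commute x (r x) := hr1
    have h2 : Commute x g := hc
    exact h1.inv_right.mul_right h2
  obtain ⟨hu, ht, hnut, hpu, hpt⟩ := piPart_spec π n
  set u := piPart π n with hu_def
  set t := piPart' π n with ht_def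
  have hle : Subgroup.zpowers n ≤ N := Subgroup.zpowers_le.mpr hnN
  have huN : u ∈ N := hle hu
  have htN : t ∈ N := hle ht
  have hxu : Commute x u := commute_of_mem_zpowers_right hu hxn
  have hxt : Commute x t := commute_of_mem_zpowers_right ht hxn
  have hut : Commute u t := commute_of_mem_zpowers hu ht
  have huw : u * (x * t) = (x * t) * u := (hxu.symm.mul_right hut).eq
  have hw₀ : (QuotientGroup.mk (x * t) : G ⧸ N) = x₀ := by
    rw [QuotientGroup.mk_mul, (QuotientGroup.eq_one_iff t).mpr htN, mul_one, hx₀]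
  obtain ⟨hs1, hs2⟩ := hs u (x * t) huw hw₀
  refine ⟨huN, ?_, hpu, ?_, hxt, hpt⟩
  · rw [← QuotientGroup.eq_one_iff, QuotientGroup.mk_mul, QuotientGroup.mk_inv, hs2, hw₀,
      inv_mul_cancel]
  · have h1 : Commute u (s u) := hs1
    have h2 : Commute u (x * t) := huw
    exact (h1.inv_right.mul_right h2).eq

theorem card_fiber_le (b : CommPairs π (G ⧸ N)) :
    Nat.card {a : CommPairs π G // quotPair N π a = b} ≤ Nat.card (CommPairs π N) := by
  classical
  obtain ⟨⟨x₀, g₀⟩, hb⟩ := b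
  let r : G → G := fun x =>
    if h : ∃ r : G, x * r = r * x ∧ (QuotientGroup.mk r : G ⧸ N) = g₀ then Classical.choose h else 1
  have hr : ∀ x g : G, x * g = g * x → (QuotientGroup.mk g : G ⧸ N) = g₀ →
      x * r x = r x * x ∧ (QuotientGroup.mk (r x) : G ⧸ N) = g₀ := by
    intro x g h1 h2
    have h : ∃ r : G, x * r = r * x ∧ (QuotientGroup.mk r : G ⧸ N) = g₀ := ⟨g, h1, h2⟩
    simp only [r, dif_pos h]
    exact Classical.choose_spec h
  let s : G → G := fun u =>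
    if h : ∃ s : G, u * s = s * u ∧ (QuotientGroup.mk s : G ⧸ N) = x₀ then Classical.choose h else 1
  have hs : ∀ u w : G, u * w = w * u → (QuotientGroup.mk w : G ⧸ N) = x₀ →
      u * s u = s u * u ∧ (QuotientGroup.mk (s u) : G ⧸ N) = x₀ := by
    intro u w h1 h2
    have h : ∃ s : G, u * s = s * u ∧ (QuotientGroup.mk s : G ⧸ N) = x₀ := ⟨w, h1, h2⟩
    simp only [s, dif_pos h]
    exact Classical.choose_spec h
  have hfib : ∀ a : {a : CommPairs π G // quotPair N π a = ⟨(x₀, g₀), hb⟩},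
      (QuotientGroup.mk a.1.1.1 : G ⧸ N) = x₀ ∧ (QuotientGroup.mk a.1.1.2 : G ⧸ N) = g₀ := by
    intro a
    have h1 := congrArg (fun c : CommPairs π (G ⧸ N) => c.1) a.2
    exact ⟨congrArg Prod.fst h1, congrArg Prod.snd h1⟩
  let F : {a : CommPairs π G // quotPair N π a = ⟨(x₀, g₀), hb⟩} → CommPairs π N := fun a =>
    ⟨(⟨piPart π ((r a.1.1.1)⁻¹ * a.1.1.2),
        (fiber_aux N π x₀ g₀ r s hr hs a.1.1.1 a.1.1.2 a.1.2.2 (hfib a).1 (hfib a).2).1⟩,
      ⟨(s (piPart π ((r a.1.1.1)⁻¹ * a.1.1.2)))⁻¹ *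
          (a.1.1.1 * piPart' π ((r a.1.1.1)⁻¹ * a.1.1.2)),
        (fiber_aux N π x₀ g₀ r s hr hs a.1.1.1 a.1.1.2 a.1.2.2 (hfib a).1 (hfib a).2).2.1⟩),
      by
        have h := (fiber_aux N π x₀ g₀ r s hr hs a.1.1.1 a.1.1.2 a.1.2.2 (hfib a).1 (hfib a).2).2.2.1
        exact h.of_orderOf_dvd (by rw [Subgroup.orderOf_mk]),
      by
        have h := (fiber_aux N π x₀ g₀ r s hr hs a.1.1.1 a.1.1.2 a.1.2.2 (hfib a).1 (hfib a).2).2.2.2.1
        exact Subtype.ext h⟩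
  refine Nat.card_le_card_of_injective F ?_
  rintro ⟨⟨⟨x, g⟩, hx, hc⟩, ha⟩ ⟨⟨⟨x', g'⟩, hx', hc'⟩, ha'⟩ hF
  have hc1 : x * g = g * x := hc
  have hc1' : x' * g' = g' * x' := hc'
  have hx1 : IsPiElt π x := hx
  have hx1' : IsPiElt π x' := hx'
  have hq := hfib ⟨⟨⟨x, g⟩, hx, hc⟩, ha⟩
  have hq' := hfib ⟨⟨⟨x', g'⟩, hx', hc'⟩, ha'⟩
  have A := fiber_aux N π x₀ g₀ r s hr hs x g hc1 hq.1 hq.2
  have A' := fiber_aux N π x₀ g₀ r s hr hs x' g' hc1' hq'.1 hq'.2
  have e1 : piPart π ((r x)⁻¹ * g) = piPart π ((r x')⁻¹ * g') :=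
    congrArg (fun c : CommPairs π N => (c.1.1 : G)) hF
  have e2 : (s (piPart π ((r x)⁻¹ * g)))⁻¹ * (x * piPart' π ((r x)⁻¹ * g)) =
      (s (piPart π ((r x')⁻¹ * g')))⁻¹ * (x' * piPart' π ((r x')⁻¹ * g')) :=
    congrArg (fun c : CommPairs π N => (c.1.2 : G)) hF
  rw [e1] at e2
  have e3 : x * piPart' π ((r x)⁻¹ * g) = x' * piPart' π ((r x')⁻¹ * g') := mul_left_cancel e2
  obtain ⟨e4, e5⟩ := pi_decomp_unique A.2.2.2.2.1 A'.2.2.2.2.1 e3 hx1 A.2.2.2.2.2 hx1' A'.2.2.2.2.2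
  have e6 : (r x)⁻¹ * g = (r x')⁻¹ * g' := by
    rw [(piPart_spec π ((r x)⁻¹ * g)).2.2.1, (piPart_spec π ((r x')⁻¹ * g')).2.2.1, e1, e5]
  have e7 : g = g' := by
    rw [e4] at e6
    exact mul_left_cancel e6
  subst e4
  subst e7
  rfl

theorem card_commPairs_le :
    Nat.card (CommPairs π G) ≤ Nat.card (CommPairs π (G ⧸ N)) * Nat.card (CommPairs π N) := by
  exact card_le_mul_of_fiber (quotPair N π) _ (card_fiber_le N π)

/-- Let G be a finite group, N a normal subgroup and π a set of primes. Then the number of conjugacy classes of π-elements of G (elements whose order is divisible only by primes in π) is at most the number of conjugacy classes of π-elements of N (under conjugation by N) times the number of conjugacy classes of π-elements of G/N. -/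
theorem result {G : Type*} [Group G] [Finite G] (N : Subgroup G) [N.Normal] (π : Set ℕ) :
    Nat.card {C : ConjClasses G // ∀ q : ℕ, q.Prime → (∃ g : G, ConjClasses.mk g = C ∧ q ∣ orderOf g) → q ∈ π} ≤ Nat.card {C : ConjClasses N // ∀ q : ℕ, q.Prime → (∃ g : N, ConjClasses.mk g = C ∧ q ∣ orderOf g) → q ∈ π} * Nat.card {C : ConjClasses (G ⧸ N) // ∀ q : ℕ, q.Prime → (∃ g : (G ⧸ N), ConjClasses.mk g = C ∧ q ∣ orderOf g) → q ∈ π} := by
  have h1 := card_commPairs_le N π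
  rw [card_commPairs, card_commPairs, card_commPairs] at h1
  have h2 : Nat.card G = Nat.card (G ⧸ N) * Nat.card N :=
    Subgroup.card_eq_card_quotient_mul_card_subgroup N
  have hpos : 0 < Nat.card G := Nat.card_pos
  show Nat.card {C : ConjClasses G // PiClassPred π C} ≤
    Nat.card {C : ConjClasses N // PiClassPred π C} *
      Nat.card {C : ConjClasses (G ⧸ N) // PiClassPred π C}
  apply Nat.le_of_mul_le_mul_right _ hpos
  calc Nat.card {C : ConjClasses G // PiClassPred π C} * Nat.card G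
      ≤ Nat.card {C : ConjClasses (G ⧸ N) // PiClassPred π C} * Nat.card (G ⧸ N) *
        (Nat.card {C : ConjClasses N // PiClassPred π C} * Nat.card N) := h1
    _ = Nat.card {C : ConjClasses N // PiClassPred π C} *
      Nat.card {C : ConjClasses (G ⧸ N) // PiClassPred π C} * Nat.card G := by
        rw [h2]; ring

end Cfsg.Agent.S4152
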