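import Cfsg.Statements.S4153
import Mathlib
import Cfsg.Agent.Lib.Helper22.PElt

set_option autoImplicit false
open Cfsg

namespace Cfsg.Agent.S4153

open Cfsg.Agent.Lib.Helper22

variable {G : Type*} [Group G] [Finite G] (p : ℕ) [hp : Fact p.Prime] (N : Subgroup G) [N.Normal]

/-- the `p`-part of `|N|` -/
noncomputable def c : ℕ := p ^ (Nat.card N).factorization p

/-- the map on `p`-elements induced by the quotient map -/
def f : {g : G // ∃ k : ℕ, orderOf g = p ^ k} → {g : (G ⧸ N) // ∃ k : ℕ, orderOf g = p ^ k} :=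
  fun g => ⟨QuotientGroup.mk g.1, by
    obtain ⟨k, hk⟩ := g.2
    have : orderOf (QuotientGroup.mk g.1 : G ⧸ N) ∣ p ^ k := hk ▸ orderOf_map_dvd (QuotientGroup.mk' N) g.1
    obtain ⟨j, _, hj⟩ := (Nat.dvd_prime_pow hp.out).mp this
    exact ⟨j, hj⟩⟩

theorem card_sylow_eq (P : Sylow p G) (Pbar : Sylow p (G ⧸ N)) :
    Nat.card (P : Subgroup G) = c p N * Nat.card (Pbar : Subgroup (G ⧸ N)) := by
  rw [P.card_eq_multiplicity, Pbar.card_eq_multiplicity, c, ← pow_add]
  congr 1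
  have h1 : Nat.card G = Nat.card N * Nat.card (G ⧸ N) := by
    rw [mul_comm]; exact N.card_eq_card_quotient_mul_card_subgroup
  rw [h1, Nat.factorization_mul Nat.card_pos.ne' Nat.card_pos.ne']
  rfl

theorem fiber_lower (Pbar : Sylow p (G ⧸ N)) (y : {g : (G ⧸ N) // ∃ k : ℕ, orderOf g = p ^ k}) :
    c p N ≤ Nat.card {u : {g : G // ∃ k : ℕ, orderOf g = p ^ k} // f p N u = y} := by
  obtain ⟨g, hg, hgy⟩ := exists_pElt_lift p N y.1 y.2
  obtain ⟨S, hgS⟩ := exists_sylow_mem g hg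
  -- |S ⊓ N| ≥ c
  have h1 : Nat.card ((S : Subgroup G) ⊓ N : Subgroup G) * N.relIndex (S : Subgroup G) = Nat.card (S : Subgroup G) := by
    have := card_mul_relIndex ((S : Subgroup G) ⊓ N) (S : Subgroup G) inf_le_left
    rwa [inf_comm, Subgroup.inf_relIndex_right, inf_comm] at this
  have h2 : N.relIndex (S : Subgroup G) = Nat.card ((S : Subgroup G).map (QuotientGroup.mk' N)) := by
    have := Subgroup.relIndex_ker (K := (S : Subgroup G)) (QuotientGroup.mk' N)
    rwa [QuotientGroup.ker_mk'] at this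
  have h3 : Nat.card ((S : Subgroup G).map (QuotientGroup.mk' N)) ≤ Nat.card (Pbar : Subgroup (G ⧸ N)) := by
    have hpg : IsPGroup p ((S : Subgroup G).map (QuotientGroup.mk' N)) := S.2.map _
    obtain ⟨Q, hQ⟩ := hpg.exists_le_sylow
    have : Nat.card (Q : Subgroup (G ⧸ N)) = Nat.card (Pbar : Subgroup (G ⧸ N)) := by
      rw [Q.card_eq_multiplicity, Pbar.card_eq_multiplicity]
    rw [← this]
    exact Nat.le_of_dvd Nat.card_pos (Subgroup.card_dvd_of_le hQ)
  have h4 := card_sylow_eq p N S Pbar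
  have h5 : c p N ≤ Nat.card ((S : Subgroup G) ⊓ N : Subgroup G) := by
    rw [← h1, h2] at h4
    have hpos : 0 < Nat.card (Pbar : Subgroup (G ⧸ N)) := Nat.card_pos
    by_contra hlt
    push Not at hlt
    have : Nat.card ((S : Subgroup G) ⊓ N : Subgroup G) * Nat.card ((S : Subgroup G).map (QuotientGroup.mk' N))
        < c p N * Nat.card (Pbar : Subgroup (G ⧸ N)) :=
      Nat.mul_lt_mul_of_lt_of_le hlt h3 hpos
    omega
  -- injection
  let φ : ((S : Subgroup G) ⊓ N : Subgroup G) → {u : {g : G // ∃ k : ℕ, orderOf g = p ^ k} // f p N u = y} :=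
    fun s => ⟨⟨g * s, isPElt_of_mem_sylow S _ (Subgroup.mul_mem _ hgS s.2.1)⟩, by
      apply Subtype.ext
      show (QuotientGroup.mk (g * s) : G ⧸ N) = y.1
      rw [QuotientGroup.mk_mul, (QuotientGroup.eq_one_iff (s : G)).mpr s.2.2, mul_one, hgy]⟩
  have hφ : Function.Injective φ := by
    intro s s' h
    have : g * (s : G) = g * (s' : G) := congrArg (fun u => (u.1.1 : G)) h
    exact Subtype.ext (mul_left_cancel this)
  exact h5.trans (Nat.card_le_card_of_injective φ hφ)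

theorem fiber_upper (hcent : N ≤ Subgroup.center G) (y : {g : (G ⧸ N) // ∃ k : ℕ, orderOf g = p ^ k}) :
    Nat.card {u : {g : G // ∃ k : ℕ, orderOf g = p ^ k} // f p N u = y} ≤ c p N := by
  classical
  -- the subgroup T of p-elements of N
  let T : Subgroup G :=
    { carrier := {n | n ∈ N ∧ ∃ k : ℕ, n ^ p ^ k = 1}
      mul_mem' := by
        rintro a b ⟨ha, k, hk⟩ ⟨hb, l, hl⟩
        refine ⟨N.mul_mem ha hb, k + l, ?_⟩
        have hab : Commute a b := (Subgroup.mem_center_iff.mp (hcent ha) b).symm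
        rw [hab.mul_pow, pow_add, pow_mul, hk, one_pow, one_mul, mul_comm (p ^ k), pow_mul, hl, one_pow]
      one_mem' := ⟨N.one_mem, 0, by simp⟩
      inv_mem' := by
        rintro a ⟨ha, k, hk⟩
        exact ⟨N.inv_mem ha, k, by rw [inv_pow, hk, inv_one]⟩ }
  have hTp : IsPGroup p T := by
    rintro ⟨a, ha, k, hk⟩
    exact ⟨k, Subtype.ext hk⟩
  have hTN : T ≤ N := fun a ha => ha.1
  have hTc : Nat.card T ≤ c p N := by
    obtain ⟨j, hj⟩ := hTp.exists_card_eq
    rw [hj, c]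
    apply Nat.pow_le_pow_right hp.out.pos
    have hdvd : p ^ j ∣ Nat.card N := hj ▸ Subgroup.card_dvd_of_le hTN
    exact (hp.out.pow_dvd_iff_le_factorization Nat.card_pos.ne').mp hdvd
  by_cases hne : Nonempty {u : {g : G // ∃ k : ℕ, orderOf g = p ^ k} // f p N u = y}
  · obtain ⟨⟨⟨g, hg⟩, hgy⟩⟩ := hne
    have hgy' : (QuotientGroup.mk g : G ⧸ N) = y.1 := congrArg Subtype.val hgy
    let ψ : {u : {g : G // ∃ k : ℕ, orderOf g = p ^ k} // f p N u = y} → T :=
      fun u => ⟨g⁻¹ * u.1.1, by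
        have hu : (QuotientGroup.mk u.1.1 : G ⧸ N) = y.1 := congrArg Subtype.val u.2
        have hmem : g⁻¹ * u.1.1 ∈ N := by
          rw [← QuotientGroup.eq, hgy', hu]
        refine ⟨hmem, ?_⟩
        obtain ⟨k, hk⟩ := hg
        obtain ⟨l, hl⟩ := u.1.2
        refine ⟨k + l, ?_⟩
        have hcomm : Commute (g⁻¹ * u.1.1) g := (Subgroup.mem_center_iff.mp (hcent hmem) g).symm
        have hcomm2 : Commute g⁻¹ u.1.1 := by
          have h1 : g * (g⁻¹ * u.1.1) = (g⁻¹ * u.1.1) * g := hcomm.eq.symm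
          have h2 : u.1.1 = g⁻¹ * u.1.1 * g := by
            rw [← h1]; group
          show g⁻¹ * u.1.1 = u.1.1 * g⁻¹
          calc g⁻¹ * u.1.1 = (g⁻¹ * u.1.1 * g) * g⁻¹ := by group
            _ = u.1.1 * g⁻¹ := by rw [← h2]
        rw [hcomm2.mul_pow, pow_add, pow_mul, inv_pow, ← hk, pow_orderOf_eq_one, inv_one, one_pow, one_mul,
          mul_comm (orderOf g), pow_mul, ← hl, pow_orderOf_eq_one, one_pow]⟩
    have hψ : Function.Injective ψ := by
      intro u u' h
      have : g⁻¹ * u.1.1 = g⁻¹ * u'.1.1 := congrArg Subtype.val h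
      exact Subtype.ext (Subtype.ext (mul_left_cancel this))
    exact (Nat.card_le_card_of_injective ψ hψ).trans hTc
  · rw [not_nonempty_iff] at hne
    rw [Nat.card_of_isEmpty]
    exact Nat.zero_le _

theorem card_eq_sum_fibers :
    Nat.card {g : G // ∃ k : ℕ, orderOf g = p ^ k} =
      ∑ᶠ y : {g : (G ⧸ N) // ∃ k : ℕ, orderOf g = p ^ k},
        Nat.card {u : {g : G // ∃ k : ℕ, orderOf g = p ^ k} // f p N u = y} := by
  classical
  haveI : Fintype {g : (G ⧸ N) // ∃ k : ℕ, orderOf g = p ^ k} := Fintype.ofFinite _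
  rw [finsum_eq_sum_of_fintype, ← Nat.card_sigma]
  exact Nat.card_congr (Equiv.sigmaFiberEquiv (f p N)).symm

theorem result {G : Type*} [Group G] [Finite G] (p : ℕ) [Fact p.Prime] (N : Subgroup G) [N.Normal]
    (P : Sylow p G) (Pbar : Sylow p (G ⧸ N)) :
    Nat.card {g : (G ⧸ N) // ∃ k : ℕ, orderOf g = p ^ k} * Nat.card (P : Subgroup G) ≤ Nat.card {g : G // ∃ k : ℕ, orderOf g = p ^ k} * Nat.card (Pbar : Subgroup (G ⧸ N)) ∧
    (N ≤ Subgroup.center G → Nat.card {g : (G ⧸ N) // ∃ k : ℕ, orderOf g = p ^ k} * Nat.card (P : Subgroup G) = Nat.card {g : G // ∃ k : ℕ, orderOf g = p ^ k} * Nat.card (Pbar : Subgroup (G ⧸ N))) := by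
  classical
  haveI : Fintype {g : (G ⧸ N) // ∃ k : ℕ, orderOf g = p ^ k} := Fintype.ofFinite _
  have hsum := card_eq_sum_fibers p N
  rw [finsum_eq_sum_of_fintype] at hsum
  have hlow : Nat.card {g : (G ⧸ N) // ∃ k : ℕ, orderOf g = p ^ k} * c p N ≤
      Nat.card {g : G // ∃ k : ℕ, orderOf g = p ^ k} := by
    rw [hsum, Nat.card_eq_fintype_card, ← Finset.card_univ, ← smul_eq_mul]
    exact Finset.card_nsmul_le_sum _ _ _ (fun y _ => fiber_lower p N Pbar y)
  have hP := card_sylow_eq p N P Pbar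
  constructor
  · rw [hP, ← mul_assoc]
    exact Nat.mul_le_mul_right _ hlow
  · intro hcent
    have hup : Nat.card {g : G // ∃ k : ℕ, orderOf g = p ^ k} ≤
        Nat.card {g : (G ⧸ N) // ∃ k : ℕ, orderOf g = p ^ k} * c p N := by
      rw [hsum, Nat.card_eq_fintype_card, ← Finset.card_univ, ← smul_eq_mul]
      exact Finset.sum_le_card_nsmul _ _ _ (fun y _ => fiber_upper p N hcent y)
    rw [hP, ← mul_assoc, le_antisymm hlow hup]

end Cfsg.Agent.S4153
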