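import Cfsg.Statements.S4154
import Mathlib

set_option autoImplicit false
open Cfsg

namespace Cfsg.Agent.S4154

/-- Counting lemma: if `Q = B * {g⁻¹ β g}` with `B` a subgroup of fixed points of the endomorphism `β`,
then `B` contains all fixed points. -/
theorem fixed_le_of_cover {Q : Type*} [Group Q] [Finite Q] (β : Q →* Q) (B : Subgroup Q)
    (hB : ∀ b ∈ B, β b = b) (hcov : ∀ x : Q, ∃ b ∈ B, ∃ g : Q, x = b * (g⁻¹ * β g)) :
    ∀ c : Q, β c = c → c ∈ B := by
  classical
  let C : Subgroup Q := MonoidHom.eqLocus β (MonoidHom.id Q)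
  have hBC : B ≤ C := fun b hb => hB b hb
  let φ : Q → Q := fun g => g⁻¹ * β g
  let K := Set.range φ
  -- injection K × C → Q
  have h1 : Nat.card K * Nat.card C ≤ Nat.card Q := by
    rw [← Nat.card_prod]
    let f : K × C → Q := fun kc => (kc.2 : Q) * (kc.1.2.choose)
    have hφ : ∀ (c : C) (g : Q), φ ((c : Q) * g) = φ g := by
      intro c g
      have hc : β (c : Q) = c := c.2
      simp only [φ, map_mul, hc]
      group
    apply Nat.card_le_card_of_injective f
    rintro ⟨k, c⟩ ⟨k', c'⟩ h
    simp only [f] at h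
    have hk : φ (k.2.choose) = k := k.2.choose_spec
    have hk' : φ (k'.2.choose) = k' := k'.2.choose_spec
    have e1 : (k : Q) = k' := by
      rw [← hk, ← hk', ← hφ c, ← hφ c' (k'.2.choose), h]
    have e2 : k = k' := Subtype.ext e1
    subst e2
    have e3 : (c : Q) = c' := mul_right_cancel h
    have e4 : c = c' := Subtype.ext e3
    rw [e4]
  -- surjection B × K → Q
  have h2 : Nat.card Q ≤ Nat.card B * Nat.card K := by
    rw [← Nat.card_prod]
    let f : B × K → Q := fun bk => (bk.1 : Q) * (bk.2 : Q)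
    apply Nat.card_le_card_of_surjective f
    intro x
    obtain ⟨b, hb, g, hx⟩ := hcov x
    exact ⟨(⟨b, hb⟩, ⟨φ g, g, rfl⟩), hx.symm⟩
  have hKpos : 0 < Nat.card K := by
    haveI : Nonempty K := ⟨⟨φ 1, 1, rfl⟩⟩
    exact Nat.card_pos
  have h3 : Nat.card C ≤ Nat.card B := by
    have : Nat.card K * Nat.card C ≤ Nat.card K * Nat.card B := by
      calc Nat.card K * Nat.card C ≤ Nat.card Q := h1
        _ ≤ Nat.card B * Nat.card K := h2
        _ = Nat.card K * Nat.card B := Nat.mul_comm _ _
    exact Nat.le_of_mul_le_mul_left this hKpos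
  have h4 : B = C := Subgroup.eq_of_le_of_card_ge hBC h3
  intro c hc
  rw [h4]
  exact hc

/-- Let G be a finite group and α an automorphism of G such that every element of G is the product of an element fixed by α and an element of the form g⁻¹α(g). If N is a normal α-invariant subgroup, then the automorphism ᾱ induced on G/N has the same property, and every coset fixed by ᾱ contains an element fixed by α (so the fixed points of ᾱ are the images of the fixed points of α). -/
theorem result {G : Type*} [Group G] [Finite G] (α : MulAut G)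
    (hccp : ∀ x : G, ∃ c g : G, α c = c ∧ x = c * (g⁻¹ * α g))
    (N : Subgroup G) [N.Normal] (hN : ∀ n ∈ N, α n ∈ N) :
    (∀ x : G, ∃ c g : G, c⁻¹ * α c ∈ N ∧ x⁻¹ * (c * (g⁻¹ * α g)) ∈ N) ∧
    (∀ x : G, x⁻¹ * α x ∈ N → ∃ c : G, α c = c ∧ c⁻¹ * x ∈ N) := by
  constructor
  · intro x
    obtain ⟨c, g, hc, hx⟩ := hccp x
    refine ⟨c, g, ?_, ?_⟩
    · rw [hc]; simp
    · rw [← hx]; simp
  · intro x hx
    let β : G ⧸ N →* G ⧸ N := QuotientGroup.map N N α.toMonoidHom (fun n hn => hN n hn)
    let C : Subgroup G := MonoidHom.eqLocus α.toMonoidHom (MonoidHom.id G)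
    let B : Subgroup (G ⧸ N) := C.map (QuotientGroup.mk' N)
    have hβ : ∀ g : G, β (QuotientGroup.mk g) = QuotientGroup.mk (α g) := fun g => rfl
    have key := fixed_le_of_cover β B ?_ ?_ (QuotientGroup.mk x) ?_
    · obtain ⟨c, hc, hcx⟩ := key
      refine ⟨c, hc, ?_⟩
      have : (QuotientGroup.mk c : G ⧸ N) = QuotientGroup.mk x := hcx
      exact QuotientGroup.eq.mp this
    · rintro _ ⟨c, hc, rfl⟩
      have hc' : α c = c := hc
      show β (QuotientGroup.mk c) = QuotientGroup.mk c
      rw [hβ, hc']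
    · intro y
      obtain ⟨y, rfl⟩ := QuotientGroup.mk_surjective y
      obtain ⟨c, g, hc, hy⟩ := hccp y
      refine ⟨QuotientGroup.mk c, ⟨c, hc, rfl⟩, QuotientGroup.mk g, ?_⟩
      rw [hβ, hy]
      rfl
    · rw [hβ]
      symm
      exact QuotientGroup.eq.mpr hx

end Cfsg.Agent.S4154
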