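import Cfsg.Statements.S4156

set_option autoImplicit false
open Cfsg

namespace Cfsg.Agent.S4156

variable {n : ℕ} {F : Type*} [Field F]

/-- permutation action on `Fin (n+1) → F` -/
noncomputable def permLin (σ : Equiv.Perm (Fin (n + 1))) : (Fin (n + 1) → F) →ₗ[F] (Fin (n + 1) → F) :=
  LinearMap.funLeft F F (σ⁻¹ : Equiv.Perm (Fin (n + 1)))

theorem permLin_apply (σ : Equiv.Perm (Fin (n + 1))) (v : Fin (n + 1) → F) (k : Fin (n + 1)) :
    permLin σ v k = v (σ⁻¹ k) := rfl

/-- restriction to the first `n` coordinates -/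
noncomputable def proj : (Fin (n + 1) → F) →ₗ[F] (Fin n → F) :=
  LinearMap.funLeft F F (Fin.castSucc : Fin n → Fin (n + 1))

theorem proj_apply (v : Fin (n + 1) → F) (k : Fin n) : proj v k = v (Fin.castSucc k) := rfl

/-- extension to a vector of coordinate sum zero -/
noncomputable def ext0 : (Fin n → F) →ₗ[F] (Fin (n + 1) → F) where
  toFun w := Fin.snoc (α := fun _ => F) w (- ∑ j, w j)
  map_add' := by
    intro w w'
    funext k
    refine Fin.lastCases ?_ (fun i => ?_) k
    · simp [Finset.sum_add_distrib, add_comm]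
    · simp
  map_smul' := by
    intro c w
    funext k
    refine Fin.lastCases ?_ (fun i => ?_) k
    · simp [Finset.mul_sum]
    · simp

theorem ext0_castSucc (w : Fin n → F) (i : Fin n) : ext0 w (Fin.castSucc i) = w i := by
  simp [ext0]

theorem ext0_last (w : Fin n → F) : ext0 w (Fin.last n) = - ∑ j, w j := by
  simp [ext0]

theorem proj_ext0 (w : Fin n → F) : proj (ext0 w) = w := by
  funext k
  rw [proj_apply, ext0_castSucc]

theorem sum_ext0 (w : Fin n → F) : ∑ k, ext0 w k = 0 := by
  rw [Fin.sum_univ_castSucc]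
  simp only [ext0_castSucc, ext0_last]
  ring

theorem sum_permLin (σ : Equiv.Perm (Fin (n + 1))) (v : Fin (n + 1) → F) :
    ∑ k, permLin σ v k = ∑ k, v k := by
  simp only [permLin_apply]
  exact Equiv.sum_comp (σ⁻¹ : Equiv.Perm (Fin (n + 1))) v

theorem ext0_proj (v : Fin (n + 1) → F) (hv : ∑ k, v k = 0) : ext0 (proj v) = v := by
  funext k
  refine Fin.lastCases ?_ (fun i => ?_) k
  · rw [ext0_last]
    rw [Fin.sum_univ_castSucc] at hv
    simp only [proj_apply]
    linear_combination -hv
  · rw [ext0_castSucc, proj_apply]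

/-- the deleted permutation representation as a monoid hom into endomorphisms -/
noncomputable def rep : Equiv.Perm (Fin (n + 1)) →* Module.End F (Fin n → F) where
  toFun σ := proj ∘ₗ permLin σ ∘ₗ ext0
  map_one' := by
    refine LinearMap.ext fun w => ?_
    simp only [LinearMap.comp_apply, Module.End.one_apply]
    have : permLin (1 : Equiv.Perm (Fin (n + 1))) (ext0 w) = ext0 w := by
      funext k; rw [permLin_apply]; simp
    rw [this, proj_ext0]
  map_mul' := by
    intro σ τ
    refine LinearMap.ext fun w => ?_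
    simp only [LinearMap.comp_apply, Module.End.mul_apply]
    have h1 : ext0 (proj (permLin τ (ext0 w))) = permLin τ (ext0 w) := by
      apply ext0_proj
      rw [sum_permLin, sum_ext0]
    rw [h1]
    rfl

theorem rep_apply (σ : Equiv.Perm (Fin (n + 1))) (w : Fin n → F) (k : Fin n) :
    rep σ w k = ext0 w (σ⁻¹ (Fin.castSucc k)) := rfl

/-- matrix form -/
noncomputable def repMat : Equiv.Perm (Fin (n + 1)) →* Matrix (Fin n) (Fin n) F :=
  (MonoidHomClass.toMonoidHom (LinearMap.toMatrixAlgEquiv' (R := F) (n := Fin n))).comp rep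

theorem repMat_apply (σ : Equiv.Perm (Fin (n + 1))) (k i : Fin n) :
    repMat (F := F) σ k i = ext0 (Pi.single i (1 : F)) (σ⁻¹ (Fin.castSucc k)) := by
  show LinearMap.toMatrixAlgEquiv' (rep σ) k i = _
  rw [LinearMap.toMatrixAlgEquiv'_apply, rep_apply]

theorem det_repMat (hn : 5 ≤ n) (g : alternatingGroup (Fin (n + 1))) :
    (repMat (F := F) (g : Equiv.Perm (Fin (n + 1)))).det = 1 := by
  let φ : alternatingGroup (Fin (n + 1)) →* Fˣ :=
    ((Matrix.detMonoidHom (n := Fin n) (R := F)).comp
      ((repMat (F := F)).comp (alternatingGroup (Fin (n + 1))).subtype)).toHomUnits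
  have h5 : 5 ≤ Nat.card (Fin (n + 1)) := by simp; omega
  have hker : commutator (alternatingGroup (Fin (n + 1))) ≤ φ.ker :=
    Abelianization.commutator_subset_ker φ
  rw [commutator_alternatingGroup_eq_top h5] at hker
  have hg : g ∈ φ.ker := hker (Subgroup.mem_top g)
  rw [MonoidHom.mem_ker] at hg
  have := congrArg Units.val hg
  simpa [φ] using this

/-- the representation into `SL_n(F)` -/
noncomputable def repSL (hn : 5 ≤ n) :
    alternatingGroup (Fin (n + 1)) →* Matrix.SpecialLinearGroup (Fin n) F where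
  toFun g := ⟨repMat (g : Equiv.Perm (Fin (n + 1))), det_repMat hn g⟩
  map_one' := by
    apply Subtype.ext
    simp
  map_mul' := by
    intro g h
    apply Subtype.ext
    simp only [Subgroup.coe_mul, map_mul]
    rfl

/-- Let n ≥ 5 and F a finite field. Then the projective special linear group PSL_n(F) contains a subgroup isomorphic to the alternating group of degree n + 1. -/
theorem result (n : ℕ) (hn : 5 ≤ n) (F : Type*) [Field F] [Finite F] :
    ∃ f : alternatingGroup (Fin (n + 1)) →* Matrix.ProjectiveSpecialLinearGroup (Fin n) F, Function.Injective f := by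
  let f : alternatingGroup (Fin (n + 1)) →* Matrix.ProjectiveSpecialLinearGroup (Fin n) F :=
    (QuotientGroup.mk' (Subgroup.center (Matrix.SpecialLinearGroup (Fin n) F))).comp (repSL (F := F) hn)
  refine ⟨f, ?_⟩
  have h5 : 5 ≤ Nat.card (Fin (n + 1)) := by simp; omega
  haveI : IsSimpleGroup (alternatingGroup (Fin (n + 1))) := alternatingGroup.isSimpleGroup h5
  rw [← MonoidHom.ker_eq_bot_iff]
  rcases (MonoidHom.normal_ker f).eq_bot_or_eq_top with h | h
  · exact h
  exfalso
  -- three distinct points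
  let i : Fin n := ⟨0, by omega⟩
  let k : Fin n := ⟨1, by omega⟩
  let j : Fin n := ⟨2, by omega⟩
  have hik : i ≠ k := by simp [i, k, Fin.ext_iff]
  have hij : i ≠ j := by simp [i, j, Fin.ext_iff]
  have hkj : k ≠ j := by simp [k, j, Fin.ext_iff]
  let a : Fin (n + 1) := Fin.castSucc j
  let b : Fin (n + 1) := Fin.castSucc k
  let c : Fin (n + 1) := Fin.castSucc i
  have hab : a ≠ b := fun e => hkj (Fin.castSucc_injective _ e).symm
  have hac : a ≠ c := fun e => hij (Fin.castSucc_injective _ e).symm
  have hbc : b ≠ c := fun e => hik (Fin.castSucc_injective _ e).symm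
  let σ : Equiv.Perm (Fin (n + 1)) := Equiv.swap a b * Equiv.swap a c
  have hσ : σ ∈ alternatingGroup (Fin (n + 1)) :=
    (Equiv.Perm.isThreeCycle_swap_mul_swap_same hab hac hbc).mem_alternatingGroup
  have hσc : σ c = b := by
    simp only [σ, Equiv.Perm.mul_apply, Equiv.swap_apply_right, Equiv.swap_apply_left]
  have hσinv : σ⁻¹ b = c := by
    rw [← hσc]; simp
  have hmem : (⟨σ, hσ⟩ : alternatingGroup (Fin (n + 1))) ∈ f.ker := by rw [h]; trivial
  rw [MonoidHom.mem_ker] at hmem
  have hcen : repSL (F := F) hn ⟨σ, hσ⟩ ∈ Subgroup.center (Matrix.SpecialLinearGroup (Fin n) F) :=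
    (QuotientGroup.eq_one_iff _).mp hmem
  rw [Matrix.SpecialLinearGroup.mem_center_iff] at hcen
  obtain ⟨r, -, hr⟩ := hcen
  have hentry := congrFun (congrFun hr k) i
  have h1 : (Matrix.scalar (Fin n) r) k i = 0 := by
    simp [Matrix.scalar_apply, Matrix.diagonal_apply, hik.symm]
  have h2 : ((repSL (F := F) hn ⟨σ, hσ⟩ : Matrix.SpecialLinearGroup (Fin n) F) : Matrix (Fin n) (Fin n) F) k i = 1 := by
    show repMat (F := F) σ k i = 1
    rw [repMat_apply]
    show ext0 (Pi.single i (1 : F)) (σ⁻¹ b) = 1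
    rw [hσinv]
    show ext0 (Pi.single i (1 : F)) (Fin.castSucc i) = 1
    rw [ext0_castSucc, Pi.single_eq_same]
  rw [h1, h2] at hentry
  exact zero_ne_one hentry

end Cfsg.Agent.S4156
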