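import Cfsg.Statements.S4160
import Cfsg.Agent.Lib.Helper22.Jordan
import Cfsg.Agent.Lib.Helper22.Frobenius
import Cfsg.Agent.Lib.Helper22.PElt

set_option autoImplicit false
open Cfsg

namespace Cfsg.Agent.S4160

open scoped Pointwise
open Cfsg.Agent.Lib.Helper22

variable {G : Type*} [Group G]

/-- elements centralizing some Sylow `r`-subgroup -/
def CentSyl (r : ℕ) (G : Type*) [Group G] : Set G :=
  ⋃ R : Sylow r G, ((Subgroup.centralizer ((R : Subgroup G) : Set G) : Subgroup G) : Set G)

theorem mem_centSyl_of_not_dvd [Finite G] {r : ℕ} [Fact r.Prime] (x : G)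
    (h : ¬ r ∣ (Subgroup.centralizer ({x} : Set G)).index) : x ∈ CentSyl r G := by
  obtain ⟨Q, hQ, -⟩ := exists_sylow_le_mem_of_not_dvd_index (p := r)
    (Subgroup.centralizer ({x} : Set G)) h 1 (Subgroup.one_mem _) 0 (by simp)
  refine Set.mem_iUnion.mpr ⟨Q, ?_⟩
  rw [SetLike.mem_coe, Subgroup.mem_centralizer_iff]
  intro y hy
  exact Subgroup.mem_centralizer_singleton_iff.mp (hQ hy)

theorem card_centralizer_smul [Finite G] {r : ℕ} [Fact r.Prime] (R : Sylow r G) (g : G) :
    Nat.card (Subgroup.centralizer (((g • R : Sylow r G) : Subgroup G) : Set G)) ≤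
      Nat.card (Subgroup.centralizer ((R : Subgroup G) : Set G)) := by
  refine Nat.card_le_card_of_injective
    (fun c => (⟨g⁻¹ * (c : G) * g, ?_⟩ : Subgroup.centralizer ((R : Subgroup G) : Set G))) ?_
  · rw [Subgroup.mem_centralizer_iff]
    intro y hy
    have hy' : g * y * g⁻¹ ∈ ((g • R : Sylow r G) : Subgroup G) := by
      rw [Sylow.coe_subgroup_smul, mem_conj_smul_iff]
      exact ⟨y, hy, rfl⟩
    have := Subgroup.mem_centralizer_iff.mp c.2 _ hy'
    calc y * (g⁻¹ * (c : G) * g) = g⁻¹ * ((g * y * g⁻¹) * (c : G)) * g := by group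
    _ = g⁻¹ * ((c : G) * (g * y * g⁻¹)) * g := by rw [this]
    _ = g⁻¹ * (c : G) * g * y := by group
  · intro c d hcd
    have h1 : g⁻¹ * (c : G) * g = g⁻¹ * (d : G) * g := congrArg Subtype.val hcd
    apply Subtype.ext
    have h2 := mul_right_cancel h1
    exact mul_left_cancel h2

theorem two_mul_ncard_centSyl_le [Finite G] {r : ℕ} [Fact r.Prime] (R : Sylow r G)
    (hne : ¬ Subgroup.normalizer ((R : Subgroup G) : Set G) ≤
      Subgroup.centralizer ((R : Subgroup G) : Set G)) :
    2 * (CentSyl r G).ncard ≤ Nat.card G := by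
  classical
  have : Fintype (Sylow r G) := Fintype.ofFinite _
  set c := Nat.card (Subgroup.centralizer ((R : Subgroup G) : Set G)) with hc
  set a := (Subgroup.centralizer ((R : Subgroup G) : Set G)).relIndex
    (Subgroup.normalizer ((R : Subgroup G) : Set G)) with ha
  have h1 : (CentSyl r G).ncard ≤ Nat.card (Sylow r G) * c := by
    calc (CentSyl r G).ncard ≤ ∑ R' : Sylow r G,
          ((Subgroup.centralizer ((R' : Subgroup G) : Set G) : Subgroup G) : Set G).ncard :=
          Set.ncard_iUnion_le_of_fintype _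
      _ ≤ ∑ _R' : Sylow r G, c := by
          apply Finset.sum_le_sum
          intro R' _
          obtain ⟨g, rfl⟩ := MulAction.exists_smul_eq G R R'
          rw [← Nat.card_coe_set_eq]
          exact card_centralizer_smul R g
      _ = Nat.card (Sylow r G) * c := by
          rw [Finset.sum_const, Finset.card_univ, smul_eq_mul, Nat.card_eq_fintype_card]
  have h2 : c * a = Nat.card (Subgroup.normalizer ((R : Subgroup G) : Set G)) :=
    card_mul_relIndex _ _ (Subgroup.centralizer_le_normalizer _)
  have h3 : Nat.card (Subgroup.normalizer ((R : Subgroup G) : Set G)) * Nat.card (Sylow r G) =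
      Nat.card G := by
    rw [Sylow.card_eq_index_normalizer R]
    exact Subgroup.card_mul_index _
  have ha1 : a ≠ 1 := by
    intro h
    exact hne (Subgroup.relIndex_eq_one.mp h)
  have ha0 : a ≠ 0 := by
    intro h
    rw [h, mul_zero] at h2
    exact Nat.card_pos.ne h2
  have ha2 : 2 ≤ a := by omega
  calc 2 * (CentSyl r G).ncard ≤ 2 * (Nat.card (Sylow r G) * c) := Nat.mul_le_mul_left 2 h1
    _ ≤ a * (Nat.card (Sylow r G) * c) := Nat.mul_le_mul_right _ ha2
    _ = Nat.card G := by rw [← h3, ← h2]; ring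

theorem hasNormalPComplement_of_le [Finite G] {r : ℕ} [Fact r.Prime] (R : Sylow r G)
    (h : Subgroup.normalizer ((R : Subgroup G) : Set G) ≤
      Subgroup.centralizer ((R : Subgroup G) : Set G)) : Cfsg.HasNormalPComplement r G :=
  ⟨R, (MonoidHom.transferSylow R h).ker, inferInstance, MonoidHom.ker_transferSylow_isComplement' R h⟩

/-- Let G be a finite group and p ≠ q primes each dividing the size of some conjugacy class of G, such that no conjugacy class size is divisible by pq. Then G has a normal p-complement or a normal q-complement. -/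
theorem result {G : Type*} [Group G] [Finite G] (p q : ℕ) (hp : p.Prime) (hq : q.Prime) (hpq : p ≠ q)
    (hp' : ∃ x : G, p ∣ (Subgroup.centralizer ({x} : Set G)).index) (hq' : ∃ x : G, q ∣ (Subgroup.centralizer ({x} : Set G)).index) (h : ∀ x : G, ¬ p * q ∣ (Subgroup.centralizer ({x} : Set G)).index) :
    Cfsg.HasNormalPComplement p G ∨ Cfsg.HasNormalPComplement q G := by
  have : Fact p.Prime := ⟨hp⟩
  have : Fact q.Prime := ⟨hq⟩
  obtain ⟨P⟩ : Nonempty (Sylow p G) := inferInstance
  obtain ⟨Q⟩ : Nonempty (Sylow q G) := inferInstance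
  by_contra hcon
  push Not at hcon
  have hP : ¬ Subgroup.normalizer ((P : Subgroup G) : Set G) ≤
      Subgroup.centralizer ((P : Subgroup G) : Set G) :=
    fun h' => hcon.1 (hasNormalPComplement_of_le P h')
  have hQ : ¬ Subgroup.normalizer ((Q : Subgroup G) : Set G) ≤
      Subgroup.centralizer ((Q : Subgroup G) : Set G) :=
    fun h' => hcon.2 (hasNormalPComplement_of_le Q h')
  have h1 := two_mul_ncard_centSyl_le P hP
  have h2 := two_mul_ncard_centSyl_le Q hQ
  have hcop : p.Coprime q := (Nat.coprime_primes hp hq).mpr hpq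
  have hunion : CentSyl p G ∪ CentSyl q G = Set.univ := by
    rw [Set.eq_univ_iff_forall]
    intro x
    by_cases hx : p ∣ (Subgroup.centralizer ({x} : Set G)).index
    · right
      apply mem_centSyl_of_not_dvd
      intro hx'
      exact h x (hcop.mul_dvd_of_dvd_of_dvd hx hx')
    · left
      exact mem_centSyl_of_not_dvd x hx
  have hinter : 1 ≤ (CentSyl p G ∩ CentSyl q G).ncard := by
    rw [Nat.one_le_iff_ne_zero]
    exact Set.ncard_ne_zero_of_mem (a := 1)
      ⟨Set.mem_iUnion.mpr ⟨P, Subgroup.one_mem _⟩, Set.mem_iUnion.mpr ⟨Q, Subgroup.one_mem _⟩⟩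
  have h3 := Set.ncard_union_add_ncard_inter (CentSyl p G) (CentSyl q G)
  rw [hunion, Set.ncard_univ] at h3
  omega

end Cfsg.Agent.S4160
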