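import Cfsg.Statements.S4163
import Cfsg.Agent.Lib.Helper22.SmallClasses

set_option autoImplicit false
open Cfsg

namespace Cfsg.Agent.S4163

open Cfsg.Agent.Lib.Helper22.SmallClasses

/-- Let G be a finite group with a normal abelian subgroup A satisfying C_G(A) = A. Suppose some conjugacy class of G has size greater than 1, let m be the smallest such size, and let M be the subgroup generated by the elements whose class has size 1 or m. Then M is nilpotent of class at most 3. -/
theorem result {G : Type*} [Group G] [Finite G]
    (A : Subgroup G) [A.Normal] (hA : IsMulCommutative A) (hCA : Subgroup.centralizer (A : Set G) = A)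
    (m : ℕ) (hm1 : 1 < m) (hm : ∃ x : G, (Subgroup.centralizer ({x} : Set G)).index = m) (hmin : ∀ x : G, 1 < (Subgroup.centralizer ({x} : Set G)).index → m ≤ (Subgroup.centralizer ({x} : Set G)).index) :
    Subgroup.upperCentralSeries ↥(Subgroup.closure {x : G | (Subgroup.centralizer ({x} : Set G)).index = 1 ∨ (Subgroup.centralizer ({x} : Set G)).index = m}) 3 = ⊤ := by
  have hS : ∀ g ∈ {x : G | (Subgroup.centralizer ({x} : Set G)).index = 1 ∨
      (Subgroup.centralizer ({x} : Set G)).index = m}, ∀ a ∈ A,
      a * g * a⁻¹ * g⁻¹ ∈ Subgroup.center G := by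
    intro g hg a ha
    apply comm_mem_center A hA g _ a ha
    intro y hy
    rcases hg with h1 | h1
    · rw [h1]; exact hy.le
    · rw [h1]; exact hmin y hy
  have hM := comm_mem_center_of_mem_closure A _ hS
  exact ucs_three_eq_top_subgroup _
    (fun x y z hx hy hz => comm_comm_mem_center A hCA _ hM x y z hx hy hz)

end Cfsg.Agent.S4163
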