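import Cfsg.Statements.S4168
import Mathlib

set_option autoImplicit false
open Cfsg

namespace Cfsg.Agent.S4168

theorem result {L : Type*} [Group L] [Finite L] (hL : Cfsg.IsQuasisimple L)
    (p : ℕ) (hp : p.Prime) (hdiv : p ∣ Nat.card (Subgroup.center L)) : p ∣ (Subgroup.center L).index := by
  by_contra hnd
  have : Fact p.Prime := ⟨hp⟩
  obtain ⟨hperf, _⟩ := hL
  obtain ⟨P⟩ : Nonempty (Sylow p L) := inferInstance
  -- P ≤ Z(L)
  have hPZ : (P : Subgroup L) ≤ Subgroup.center L := by
    intro x hx
    obtain ⟨k, hk⟩ := P.2 ⟨x, hx⟩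
    have hk' : x ^ p ^ k = 1 := by simpa using congrArg Subtype.val hk
    have h1 : orderOf (QuotientGroup.mk x : L ⧸ Subgroup.center L) ∣ p ^ k := by
      apply orderOf_dvd_of_pow_eq_one
      rw [← QuotientGroup.mk_pow, hk']; rfl
    have h2 : orderOf (QuotientGroup.mk x : L ⧸ Subgroup.center L) ∣ (Subgroup.center L).index := by
      rw [Subgroup.index_eq_card]; exact orderOf_dvd_natCard _
    have hc : Nat.Coprime (p ^ k) (Subgroup.center L).index :=
      Nat.Coprime.pow_left k ((Nat.Prime.coprime_iff_not_dvd hp).mpr hnd)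
    have h3 : orderOf (QuotientGroup.mk x : L ⧸ Subgroup.center L) = 1 :=
      Nat.eq_one_of_dvd_coprimes hc h1 h2
    have h4 : (QuotientGroup.mk x : L ⧸ Subgroup.center L) = 1 := orderOf_eq_one_iff.mp h3
    exact (QuotientGroup.eq_one_iff x).mp h4
  have hNC : Subgroup.normalizer ((P : Subgroup L) : Set L) ≤ Subgroup.centralizer ((P : Subgroup L) : Set L) := by
    intro n _
    rw [Subgroup.mem_centralizer_iff]
    intro h hh
    exact ((Subgroup.mem_center_iff.mp (hPZ hh)) n).symm
  have hcompl := MonoidHom.ker_transferSylow_isComplement' P hNC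
  have hker : (MonoidHom.transferSylow P hNC).ker = ⊤ := by
    haveI : IsMulCommutative P := ⟨⟨fun a b => Subtype.ext (hNC (Subgroup.le_normalizer b.2) a a.2)⟩⟩
    letI : CommGroup P := { (inferInstance : Group P) with mul_comm := fun a b => mul_comm' a b }
    have := Abelianization.commutator_subset_ker (MonoidHom.transferSylow P hNC)
    rw [hperf.commutator_eq_top] at this
    exact top_le_iff.mp this
  rw [hker] at hcompl
  have h5 := hcompl.symm.index_eq_card
  rw [Subgroup.index_top] at h5
  have h6 : p ∣ Nat.card L := hdiv.trans (Subgroup.card_subgroup_dvd_card _)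
  have h7 : p ∣ Nat.card (P : Subgroup L) := by
    have := P.card_eq_multiplicity
    rw [this]
    apply dvd_pow_self
    have : 0 < (Nat.card L).factorization p := (hp.factorization_pos_of_dvd Nat.card_pos.ne' h6)
    omega
  rw [← h5] at h7
  exact hp.one_lt.ne' (Nat.dvd_one.mp h7)

end Cfsg.Agent.S4168
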