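import Cfsg.Statements.S4169
import Cfsg.Agent.Lib.Helper22.SmallClasses
import Cfsg.Agent.Lib.Helper10.PGroup

set_option autoImplicit false
open Cfsg

namespace Cfsg.Agent.S4169

open Cfsg.Agent.Lib.Helper22.SmallClasses

/-- Let P be a finite p-group whose conjugacy classes have exactly two sizes (1 and one other value). Then P has nilpotency class at most 3. -/
theorem result {P : Type*} [Group P] [Finite P] {p : ℕ} [Fact p.Prime] (hP : IsPGroup p P)
    (m : ℕ) (hm : 1 < m) (h : ∀ x : P, (Subgroup.centralizer ({x} : Set P)).index = 1 ∨ (Subgroup.centralizer ({x} : Set P)).index = m) :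
    upperCentralSeries P 3 = ⊤ := by
  obtain ⟨A, hAn, hAc, hmax⟩ := Cfsg.Agent.Lib.Helper10.exists_maximal_normal_abelian P
  have hle := Cfsg.Agent.Lib.Helper10.centralizer_le_of_maximal_normal_abelian hP A hAc hmax
  have hCA : Subgroup.centralizer (A : Set P) = A := by
    apply le_antisymm hle
    intro a ha
    rw [Subgroup.mem_centralizer_iff]
    intro b hb
    exact congrArg Subtype.val (hAc.is_comm.comm ⟨b, hb⟩ ⟨a, ha⟩)
  have hall : ∀ g ∈ (⊤ : Subgroup P), ∀ a ∈ A, a * g * a⁻¹ * g⁻¹ ∈ Subgroup.center P := by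
    intro g _ a ha
    apply comm_mem_center A hAc g _ a ha
    intro y hy
    rcases h g with h1 | h1
    · rw [h1]; exact hy.le
    · rw [h1]
      rcases h y with h2 | h2
      · rw [h2] at hy; exact absurd hy (lt_irrefl 1)
      · rw [h2]
  exact ucs_three_eq_top
    (fun x y z => comm_comm_mem_center A hCA ⊤ hall x y z (Subgroup.mem_top _) (Subgroup.mem_top _)
      (Subgroup.mem_top _))

end Cfsg.Agent.S4169
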