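import Mathlib
import Cfsg.Statements.S4170

set_option autoImplicit false
open scoped Pointwise
open Cfsg

namespace Cfsg.Agent.S4170

/-- Let p be an odd prime and G a nontrivial group of permutations of a finite set Ω that is generated by its elements of p-power order. Then Ω has two disjoint nonempty subsets Δ₁ and Δ₂ such that the index in G of the subgroup of elements mapping Δ₁ onto Δ₁ and Δ₂ onto Δ₂ (and hence also the complement of their union onto itself) is divisible by p. -/
theorem result {Ω : Type*} [Fintype Ω] (p : ℕ) [Fact p.Prime] (hp : p ≠ 2) (G : Subgroup (Equiv.Perm Ω)) (hG : G ≠ ⊥) (hgen : Subgroup.closure {g : G | ∃ k : ℕ, orderOf g = p ^ k} = ⊤) :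
    ∃ Δ₁ Δ₂ : Set Ω, Δ₁.Nonempty ∧ Δ₂.Nonempty ∧ Disjoint Δ₁ Δ₂ ∧ p ∣ (MulAction.stabilizer G Δ₁ ⊓ MulAction.stabilizer G Δ₂).index := by
  classical
  -- Step 1: a nontrivial element of p-power order
  obtain ⟨g, hg1, k, hk⟩ : ∃ g : G, g ≠ 1 ∧ ∃ k : ℕ, orderOf g = p ^ k := by
    by_contra hcon
    push Not at hcon
    apply hG
    have hbot : Subgroup.closure {g : G | ∃ k : ℕ, orderOf g = p ^ k} = ⊥ := by
      rw [Subgroup.closure_eq_bot_iff]
      rintro x ⟨k, hk⟩
      by_contra hx
      exact hcon x hx k hk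
    rw [hbot] at hgen
    have hsub : Subsingleton G := by
      constructor
      intro a b
      have ha : a ∈ (⊤ : Subgroup G) := Subgroup.mem_top a
      have hb : b ∈ (⊤ : Subgroup G) := Subgroup.mem_top b
      rw [← hgen, Subgroup.mem_bot] at ha hb
      rw [ha, hb]
    exact Subgroup.eq_bot_of_subsingleton G
  -- Step 2: a moved point
  obtain ⟨ω, hω⟩ : ∃ ω : Ω, g • ω ≠ ω := by
    by_contra hcon
    push Not at hcon
    apply hg1
    apply Subtype.ext
    apply Equiv.ext
    intro x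
    exact hcon x
  -- Step 3: the orbit of ω under ⟨g⟩
  set Z : Subgroup G := Subgroup.zpowers g with hZ
  set O : Set Ω := MulAction.orbit Z ω with hO
  have hωO : ω ∈ O := MulAction.mem_orbit_self ω
  have hgωO : g • ω ∈ O := ⟨⟨g, Subgroup.mem_zpowers g⟩, rfl⟩
  have hOcard : O.ncard ∣ p ^ k := by
    rw [← MulAction.index_stabilizer Z ω]
    have h1 := Subgroup.index_dvd_card (MulAction.stabilizer Z ω)
    have h2 : Nat.card Z = p ^ k := by rw [hZ, Nat.card_zpowers, hk]
    rwa [h2] at h1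
  have hOone : 1 < O.ncard := by
    rw [Set.one_lt_ncard_iff (Set.toFinite O)]
    exact ⟨g • ω, ω, hgωO, hωO, hω⟩
  have hpO : p ∣ O.ncard := by
    obtain ⟨j, _, hj⟩ := (Nat.dvd_prime_pow (Fact.out : p.Prime)).mp hOcard
    rw [hj] at hOone ⊢
    have hj0 : j ≠ 0 := by
      rintro rfl
      simp at hOone
    exact dvd_pow_self p hj0
  -- Step 4: the two sets
  refine ⟨{ω}, O \ {ω}, Set.singleton_nonempty ω, ⟨g • ω, hgωO, hω⟩, ?_, ?_⟩
  · rw [Set.disjoint_left]
    rintro x hx ⟨_, hx2⟩
    exact hx2 hx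
  -- Step 5: index computation
  set T : Subgroup G := MulAction.stabilizer G O with hT
  set S : Subgroup G := MulAction.stabilizer G ({ω} : Set Ω) ⊓ MulAction.stabilizer G (O \ {ω}) with hS
  have hZT : Z ≤ T := by
    intro z hz
    rw [hT, MulAction.mem_stabilizer_iff]
    have key : ∀ z : G, z ∈ Z → z • O ⊆ O := by
      intro z hz x hx
      obtain ⟨y, ⟨⟨z', hz'⟩, rfl⟩, rfl⟩ := hx
      refine ⟨⟨z * z', Z.mul_mem hz hz'⟩, ?_⟩
      change (z * z') • ω = z • (z' • ω)
      rw [mul_smul]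
    apply Set.Subset.antisymm (key z hz)
    intro x hx
    have := key z⁻¹ (Z.inv_mem hz) (Set.smul_mem_smul_set hx)
    rw [Set.mem_smul_set_iff_inv_smul_mem]
    exact this
  have hSmem : ∀ s : G, s ∈ S ↔ s • ω = ω ∧ s ∈ T := by
    intro s
    rw [hS, Subgroup.mem_inf, MulAction.stabilizer_singleton, MulAction.mem_stabilizer_iff,
      MulAction.mem_stabilizer_iff, hT, MulAction.mem_stabilizer_iff]
    constructor
    · rintro ⟨h1, h2⟩
      refine ⟨h1, ?_⟩
      have hOeq : O = {ω} ∪ (O \ {ω}) := by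
        rw [Set.union_sdiff_self, Set.union_eq_self_of_subset_left (Set.singleton_subset_iff.mpr hωO)]
      conv_lhs => rw [hOeq]
      rw [Set.smul_set_union, h2, Set.smul_set_singleton, h1, ← hOeq]
    · rintro ⟨h1, h2⟩
      refine ⟨h1, ?_⟩
      rw [Set.smul_set_sdiff, h2, Set.smul_set_singleton, h1]
  have hST : S ≤ T := fun s hs => ((hSmem s).mp hs).2
  rw [← Subgroup.relIndex_mul_index hST]
  apply Dvd.dvd.mul_right
  have hsub : S.subgroupOf T = MulAction.stabilizer T ω := by
    ext t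
    rw [Subgroup.mem_subgroupOf, hSmem, MulAction.mem_stabilizer_iff]
    constructor
    · rintro ⟨h1, _⟩
      exact h1
    · intro h1
      exact ⟨h1, t.2⟩
  have horb : MulAction.orbit T ω = O := by
    apply Set.Subset.antisymm
    · rintro x ⟨t, rfl⟩
      have ht : (t : G) • O = O := MulAction.mem_stabilizer_iff.mp t.2
      rw [← ht]
      exact Set.smul_mem_smul_set hωO
    · rintro x ⟨⟨z, hz⟩, rfl⟩
      exact ⟨⟨z, hZT hz⟩, rfl⟩
  rw [Subgroup.relIndex, hsub, MulAction.index_stabilizer, horb]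
  exact hpO

end Cfsg.Agent.S4170
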