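import Cfsg.Statements.S4176
import Mathlib
import Cfsg.Agent.S3744
import Cfsg.Agent.H5.PSolvable2

set_option autoImplicit false
open Cfsg

namespace Cfsg.Agent.S4176

/-! ### coprime indices -/

theorem orbit_eq_of_coprime {H X : Type*} [Group H] [Finite H] [MulAction H X] (a : X)
    (B : Subgroup H) (hcop : (MulAction.stabilizer H a).index.Coprime B.index) :
    MulAction.orbit ↥B a = MulAction.orbit H a := by
  set D := MulAction.stabilizer H a with hD
  have h1 : D.relIndex B * B.index = (D ⊓ B).index := by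
    rw [← Subgroup.inf_relIndex_right]
    exact Subgroup.relIndex_mul_index inf_le_right
  have h2 : (D ⊓ B).relIndex D * D.index = (D ⊓ B).index :=
    Subgroup.relIndex_mul_index inf_le_left
  have h3 : D.index ∣ D.relIndex B * B.index := by
    rw [h1, ← h2]
    exact dvd_mul_left _ _
  have h4 : D.index ∣ D.relIndex B := hcop.dvd_of_dvd_mul_right h3
  have hDpos : D.index ≠ 0 := Subgroup.index_ne_zero_of_finite
  have h5 : D.relIndex B ≤ D.index := by
    have h6 := Subgroup.relIndex_le_of_le_right (H := D) (le_top : B ≤ ⊤)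
      (by rw [Subgroup.relIndex_top_right]; exact hDpos)
    rwa [Subgroup.relIndex_top_right] at h6
  have hrelpos : D.relIndex B ≠ 0 := by
    intro h0
    rw [h0, Nat.zero_mul] at h1
    exact (Subgroup.index_ne_zero_of_finite (H := D ⊓ B)) h1.symm
  have h7 : D.relIndex B = D.index :=
    le_antisymm h5 (Nat.le_of_dvd (Nat.pos_of_ne_zero hrelpos) h4)
  have hstab : MulAction.stabilizer ↥B a = D.subgroupOf B := by
    ext x
    rw [MulAction.mem_stabilizer_iff, Subgroup.mem_subgroupOf, hD, MulAction.mem_stabilizer_iff]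
    rfl
  have h8 : (MulAction.orbit ↥B a).ncard = (MulAction.orbit H a).ncard := by
    rw [← MulAction.index_stabilizer, ← MulAction.index_stabilizer, hstab]
    exact h7
  have hsub : MulAction.orbit ↥B a ⊆ MulAction.orbit H a := by
    rintro _ ⟨b, rfl⟩
    exact ⟨(b : H), rfl⟩
  have hfin : (MulAction.orbit H a).Finite := Set.finite_range _
  exact Set.eq_of_subset_of_ncard_le hsub (le_of_eq h8.symm) hfin

theorem exists_smul_eq_of_coprime {H X : Type*} [Group H] [Finite H] [MulAction H X] (a : X)
    (B : Subgroup H) (hcop : (MulAction.stabilizer H a).index.Coprime B.index) (h : H) :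
    ∃ b ∈ B, b • a = h • a := by
  have h1 : h • a ∈ MulAction.orbit ↥B a := by
    rw [orbit_eq_of_coprime a B hcop]
    exact ⟨h, rfl⟩
  obtain ⟨b, hb⟩ := h1
  exact ⟨(b : H), b.2, hb⟩

/-! ### averaging over a `p'`-group -/

theorem core {k V Γ : Type*} [Field k] (p : ℕ) [hp : Fact p.Prime] [CharP k p] [AddCommGroup V]
    [Module k V] [Group Γ] [Finite Γ] (σ : Representation k Γ V)
    (hΓ : (Nat.card Γ).Coprime p) [DecidableEq V] (O : Finset V)
    (hstab : ∀ c : Γ, ∀ u ∈ O, σ c u ∈ O) (htr : ∀ u ∈ O, ∀ w ∈ O, ∃ c : Γ, σ c u = w)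
    (hspan : Submodule.span k (O : Set V) = ⊤) (v : V) (hv : ∀ c : Γ, σ c v = v) :
    v ∈ Submodule.span k {∑ u ∈ O, u} := by
  classical
  have : Fintype Γ := Fintype.ofFinite Γ
  set s := ∑ u ∈ O, u with hs
  set A : V →ₗ[k] V := ∑ c : Γ, σ c with hA
  have hAapp : ∀ x : V, A x = ∑ c : Γ, σ c x := by
    intro x
    rw [hA, LinearMap.sum_apply]
  have hAO : ∀ u ∈ O, A u ∈ Submodule.span k {s} := by
    intro u hu
    have h2 : ∑ c : Γ, σ c u =
        ∑ w ∈ O, (Finset.univ.filter (fun c : Γ => σ c u = w)).card • w := by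
      rw [← Finset.sum_fiberwise_of_maps_to (s := Finset.univ) (t := O) (g := fun c => σ c u)
        (fun c _ => hstab c u hu)]
      apply Finset.sum_congr rfl
      intro w _
      rw [Finset.sum_congr rfl (fun c hc => (Finset.mem_filter.mp hc).2), Finset.sum_const]
    have h3 : ∀ w ∈ O, (Finset.univ.filter (fun c : Γ => σ c u = w)).card =
        (Finset.univ.filter (fun c : Γ => σ c u = u)).card := by
      intro w hw
      obtain ⟨c₀, hc₀⟩ := htr u hu w hw
      symm
      apply Finset.card_bij (fun c _ => c₀ * c)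
      · intro c hc
        have hc' := (Finset.mem_filter.mp hc).2
        rw [Finset.mem_filter]
        refine ⟨Finset.mem_univ _, ?_⟩
        rw [map_mul, Module.End.mul_apply, hc', hc₀]
      · intro c₁ _ c₂ _ h12
        exact mul_left_cancel h12
      · intro c' hc'
        have hc'' := (Finset.mem_filter.mp hc').2
        refine ⟨c₀⁻¹ * c', ?_, by rw [mul_inv_cancel_left]⟩
        rw [Finset.mem_filter]
        refine ⟨Finset.mem_univ _, ?_⟩
        rw [map_mul, Module.End.mul_apply, hc'', ← hc₀, ← Module.End.mul_apply, ← map_mul,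
          inv_mul_cancel, map_one, Module.End.one_apply]
    rw [hAapp, h2, Finset.sum_congr rfl (fun w hw => by rw [h3 w hw]), ← Finset.smul_sum]
    exact Submodule.smul_of_tower_mem _ _ (Submodule.mem_span_singleton_self s)
  have hAall : ∀ x : V, A x ∈ Submodule.span k {s} := by
    intro x
    have hx : x ∈ Submodule.span k (O : Set V) := by
      rw [hspan]
      trivial
    have hle : Submodule.span k (O : Set V) ≤ (Submodule.span k {s}).comap A := by
      rw [Submodule.span_le]
      intro u hu
      exact hAO u (Finset.mem_coe.mp hu)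
    exact hle hx
  have hAv : A v = (Nat.card Γ : k) • v := by
    rw [hAapp, Finset.sum_congr rfl (fun c _ => hv c), Finset.sum_const, Finset.card_univ,
      Nat.card_eq_fintype_card, Nat.cast_smul_eq_nsmul]
  have hne : (Nat.card Γ : k) ≠ 0 := by
    intro h0
    rw [CharP.cast_eq_zero_iff k p] at h0
    exact (Nat.Prime.coprime_iff_not_dvd hp.out).mp hΓ.symm h0
  have h4 : v = (Nat.card Γ : k)⁻¹ • A v := by
    rw [hAv, smul_smul, inv_mul_cancel₀ hne, one_smul]
  rw [h4]
  exact Submodule.smul_mem _ _ (hAall v)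

/-! ### the main argument -/

theorem main_aux {k V H : Type*} [Field k] (p : ℕ) [hp : Fact p.Prime] [CharP k p]
    [AddCommGroup V] [Module k V] [Group H] [Finite H] [MulAction H V]
    (hsol : Cfsg.IsPSolvable p H) (ρ : Representation k H V)
    (hact : ∀ (h : H) (v : V), h • v = ρ h v) (a : V)
    (hfix : ∃ P : Sylow p H, ∀ x : H, x ∈ (P : Subgroup H) → ρ x a = a)
    (hspan : Submodule.span k {u : V | ∃ h : H, ρ h a = u} = ⊤) :
    Module.finrank k ρ.invariants ≤ 1 ∧
    ∀ b : V, (Nat.card {u : V | ∃ h : H, ρ h a = u}).Coprime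
      (Nat.card {u : V | ∃ h : H, ρ h b = u}) → ∀ h : H, ρ h b = b := by
  classical
  have : Fintype H := Fintype.ofFinite H
  obtain ⟨P, hP⟩ := hfix
  set O : Finset V := Finset.univ.image (fun h : H => ρ h a) with hO
  have hOmem : ∀ u : V, u ∈ O ↔ ∃ h : H, ρ h a = u := by
    intro u
    rw [hO, Finset.mem_image]
    constructor
    · rintro ⟨h, _, e⟩
      exact ⟨h, e⟩
    · rintro ⟨h, e⟩
      exact ⟨h, Finset.mem_univ _, e⟩
  have hOcoe : (O : Set V) = {u : V | ∃ h : H, ρ h a = u} := by
    ext u
    rw [Finset.mem_coe, hOmem]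
    rfl
  have hspanO : Submodule.span k (O : Set V) = ⊤ := by rw [hOcoe]; exact hspan
  have horb : ∀ x : V, MulAction.orbit H x = {u : V | ∃ h : H, ρ h x = u} := by
    intro x
    ext u
    rw [MulAction.mem_orbit_iff]
    constructor
    · rintro ⟨h, e⟩
      exact ⟨h, by rw [← hact]; exact e⟩
    · rintro ⟨h, e⟩
      exact ⟨h, by rw [hact]; exact e⟩
  have hcardorb : ∀ x : V, Nat.card {u : V | ∃ h : H, ρ h x = u} =
      (MulAction.stabilizer H x).index := by
    intro x
    rw [MulAction.index_stabilizer, horb x, Nat.card_coe_set_eq]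
  -- the sum over the orbit is fixed
  set s := ∑ u ∈ O, u with hs
  have hsfix : ∀ h : H, ρ h s = s := by
    intro h
    rw [hs, map_sum]
    apply Finset.sum_nbij' (fun u => ρ h u) (fun u => ρ h⁻¹ u)
    · intro u hu
      obtain ⟨g, rfl⟩ := (hOmem u).mp hu
      exact (hOmem _).mpr ⟨h * g, by rw [map_mul, Module.End.mul_apply]⟩
    · intro u hu
      obtain ⟨g, rfl⟩ := (hOmem u).mp hu
      exact (hOmem _).mpr ⟨h⁻¹ * g, by rw [map_mul, Module.End.mul_apply]⟩
    · intro u _
      rw [← Module.End.mul_apply, ← map_mul, inv_mul_cancel, map_one, Module.End.one_apply]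
    · intro u _
      rw [← Module.End.mul_apply, ← map_mul, mul_inv_cancel, map_one, Module.End.one_apply]
    · intro u _
      rfl
  -- the stabiliser of a has index prime to p
  have hPle : (P : Subgroup H) ≤ MulAction.stabilizer H a := by
    intro x hx
    rw [MulAction.mem_stabilizer_iff, hact]
    exact hP x hx
  have hindexa : (MulAction.stabilizer H a).index.Coprime p := by
    have h1 : (MulAction.stabilizer H a).index ∣ (P : Subgroup H).index :=
      Subgroup.index_dvd_of_le hPle
    have h2 : ¬ p ∣ (P : Subgroup H).index := P.not_dvd_index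
    have h3 : ¬ p ∣ (MulAction.stabilizer H a).index := fun h => h2 (dvd_trans h h1)
    exact ((Nat.Prime.coprime_iff_not_dvd hp.out).mpr h3).symm
  -- general consequence of a transitive p'-subgroup
  have gen : ∀ (C : Subgroup H), (Nat.card C).Coprime p → (∀ h : H, ∃ c ∈ C, ρ c a = ρ h a) →
      ∀ v : V, (∀ c ∈ C, ρ c v = v) → v ∈ Submodule.span k {s} := by
    intro C hC htr v hv
    apply core p (ρ.comp C.subtype) hC O
    · intro c u hu
      obtain ⟨g, rfl⟩ := (hOmem u).mp hu
      exact (hOmem _).mpr ⟨(c : H) * g, by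
        rw [map_mul, Module.End.mul_apply]
        rfl⟩
    · intro u hu w hw
      obtain ⟨g, rfl⟩ := (hOmem u).mp hu
      obtain ⟨g', rfl⟩ := (hOmem w).mp hw
      obtain ⟨c₁, hc₁, e₁⟩ := htr g
      obtain ⟨c₂, hc₂, e₂⟩ := htr g'
      refine ⟨⟨c₂ * c₁⁻¹, C.mul_mem hc₂ (C.inv_mem hc₁)⟩, ?_⟩
      show ρ (c₂ * c₁⁻¹) (ρ g a) = ρ g' a
      rw [← e₁, ← e₂, ← Module.End.mul_apply, ← map_mul, inv_mul_cancel_right]
    · exact hspanO
    · intro c
      exact hv (c : H) c.2
  constructor
  · -- part one
    obtain ⟨⟨C, hCcop, n, hCidx⟩, -, -⟩ := Cfsg.Agent.S3744.result (p := p) hsol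
    have hcop : (MulAction.stabilizer H a).index.Coprime C.index := by
      rw [hCidx]
      exact Nat.Coprime.pow_right n hindexa
    have htr : ∀ h : H, ∃ c ∈ C, ρ c a = ρ h a := by
      intro h
      obtain ⟨c, hc, e⟩ := exists_smul_eq_of_coprime a C hcop h
      exact ⟨c, hc, by rw [← hact, ← hact]; exact e⟩
    have hle : ρ.invariants ≤ Submodule.span k {s} := by
      intro v hv
      exact gen C hCcop htr v (fun c _ => (Representation.mem_invariants ρ v).mp hv c)
    have h1 : Module.finrank k ρ.invariants ≤ Module.finrank k (Submodule.span k {s}) :=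
      LinearMap.finrank_le_finrank_of_injective (Submodule.inclusion_injective hle)
    have h2 : Module.finrank k (Submodule.span k {s}) ≤ 1 := by
      have h3 := finrank_span_le_card (R := k) ({s} : Set V)
      simpa using h3
    exact le_trans h1 h2
  · -- part two
    intro b hb h
    rw [hcardorb a, hcardorb b] at hb
    set Hb := MulAction.stabilizer H b with hHb
    have htr1 : ∀ g : H, ∃ y ∈ Hb, y • a = g • a := fun g =>
      exists_smul_eq_of_coprime a Hb hb g
    -- the orbit of a under Hb
    have horbHb : MulAction.orbit ↥Hb a = MulAction.orbit H a := orbit_eq_of_coprime a Hb hb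
    have hsolb : Cfsg.IsPSolvable p ↥Hb := Cfsg.H5.isPSolvable_subgroup hsol Hb
    obtain ⟨⟨C', hCcop, n, hCidx⟩, -, -⟩ := Cfsg.Agent.S3744.result (p := p) hsolb
    have hidx2 : (MulAction.stabilizer ↥Hb a).index = (MulAction.stabilizer H a).index := by
      rw [MulAction.index_stabilizer, MulAction.index_stabilizer, horbHb]
    have hcop2 : (MulAction.stabilizer ↥Hb a).index.Coprime C'.index := by
      rw [hidx2, hCidx]
      exact Nat.Coprime.pow_right n hindexa
    have htr2 : ∀ y : ↥Hb, ∃ c ∈ C', c • a = y • a := fun y =>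
      exists_smul_eq_of_coprime a C' hcop2 y
    set C : Subgroup H := C'.map Hb.subtype with hC
    have hCcard : (Nat.card C).Coprime p := by
      rw [hC, Subgroup.card_map_of_injective (Subgroup.subtype_injective Hb)]
      exact hCcop
    have htr : ∀ g : H, ∃ c ∈ C, ρ c a = ρ g a := by
      intro g
      obtain ⟨y, hy, e1⟩ := htr1 g
      obtain ⟨c, hc, e2⟩ := htr2 ⟨y, hy⟩
      refine ⟨(c : H), ⟨c, hc, rfl⟩, ?_⟩
      have e3 : (c : H) • a = y • a := e2
      rw [← hact, ← hact, e3, e1]
    have hbfix : ∀ c ∈ C, ρ c b = b := by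
      rintro _ ⟨c, _, rfl⟩
      have h1 : (c : H) ∈ MulAction.stabilizer H b := c.2
      rw [MulAction.mem_stabilizer_iff, hact] at h1
      exact h1
    have hbs := gen C hCcard htr b hbfix
    obtain ⟨t, ht⟩ := Submodule.mem_span_singleton.mp hbs
    rw [← ht, map_smul, hsfix]

theorem result {k V H : Type*} [Field k] (p : ℕ) [Fact p.Prime] [CharP k p] [AddCommGroup V] [Module k V]
    [Group H] [Finite H] (hsol : Cfsg.IsPSolvable p H) (ρ : Representation k H V) (a : V)
    (hfix : ∃ P : Sylow p H, ∀ x : H, x ∈ (P : Subgroup H) → ρ x a = a)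
    (hspan : Submodule.span k {u : V | ∃ h : H, ρ h a = u} = ⊤) :
    Module.finrank k ρ.invariants ≤ 1 ∧
    ∀ b : V, (Nat.card {u : V | ∃ h : H, ρ h a = u}).Coprime (Nat.card {u : V | ∃ h : H, ρ h b = u}) → ∀ h : H, ρ h b = b := by
  letI : MulAction H V := MulAction.compHom V (ρ : H →* (V →ₗ[k] V))
  exact main_aux p hsol ρ (fun _ _ => rfl) a hfix hspan

end Cfsg.Agent.S4176
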