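import Cfsg.Statements.S4177
import Mathlib

set_option autoImplicit false
open Cfsg

namespace Cfsg.Agent.S4177

open Representation

theorem averageMap_apply_rho {k K V : Type*} [Field k] [AddCommGroup V] [Module k V] [Group K] [Fintype K]
    [Invertible (Fintype.card K : k)] (ρ : Representation k K V) (g : K) (v : V) :
    ρ.averageMap (ρ g v) = ρ.averageMap v := by
  rw [averageMap, ← asAlgebraHom_single_one ρ g, ← Module.End.mul_apply, ← map_mul (asAlgebraHom ρ),
    GroupAlgebra.mul_average_right]

theorem invariants_le_span {k K V : Type*} [Field k] [AddCommGroup V] [Module k V] [Group K] [Fintype K]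
    [Invertible (Fintype.card K : k)] (ρ : Representation k K V) (a : V)
    (hspan : Submodule.span k {u : V | ∃ h : K, ρ h a = u} = ⊤) :
    ρ.invariants ≤ Submodule.span k {ρ.averageMap a} := by
  intro v hv
  have h1 : ρ.averageMap v = v := ρ.averageMap_id v hv
  have h2 : v ∈ Submodule.span k {u : V | ∃ h : K, ρ h a = u} := by rw [hspan]; trivial
  have h3 := Submodule.apply_mem_span_image_of_mem_span ρ.averageMap h2
  rw [h1] at h3
  refine Submodule.span_mono ?_ h3
  rintro _ ⟨u, ⟨h, rfl⟩, rfl⟩
  rw [averageMap_apply_rho]
  rfl

/-- the action of `H` on `V` given by a representation -/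
@[reducible] def act {k V H : Type*} [Field k] [AddCommGroup V] [Module k V] [Group H]
    (ρ : Representation k H V) : MulAction H V :=
  MulAction.compHom V (ρ : H →* Module.End k V)

/-- If stabilizers of `a` and `b` have coprime indices, the stabilizer of `b` is transitive on the orbit of `a`. -/
theorem transitive_of_coprime {H V : Type*} [Group H] [Finite H] [MulAction H V] (a b : V)
    (hcop : ((MulAction.orbit H a).ncard).Coprime ((MulAction.orbit H b).ncard)) (h : H) :
    ∃ x ∈ MulAction.stabilizer H b, x • a = h • a := by
  set Ka := MulAction.stabilizer H a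
  set Kb := MulAction.stabilizer H b
  rw [← MulAction.index_stabilizer, ← MulAction.index_stabilizer] at hcop
  have h1 : Ka.index ∣ Ka.relIndex Kb * Kb.index := by
    have e1 : (Ka ⊓ Kb).relIndex Kb * Kb.index = (Ka ⊓ Kb).index := Subgroup.relIndex_mul_index inf_le_right
    rw [Subgroup.inf_relIndex_right] at e1
    rw [e1]
    exact Subgroup.index_dvd_of_le inf_le_left
  have h2 : Ka.index ∣ Ka.relIndex Kb := Nat.Coprime.dvd_of_dvd_mul_right hcop h1
  have h3 : (MulAction.stabilizer Kb a) = Ka.subgroupOf Kb := by
    ext x
    rw [MulAction.mem_stabilizer_iff, Subgroup.mem_subgroupOf, MulAction.mem_stabilizer_iff]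
    rfl
  have h4 : (MulAction.orbit Kb a).ncard = Ka.relIndex Kb := by
    rw [← MulAction.index_stabilizer, h3]; rfl
  have h5 : MulAction.orbit Kb a ⊆ MulAction.orbit H a := by
    rintro _ ⟨x, rfl⟩
    exact ⟨x, rfl⟩
  have hfin : (MulAction.orbit H a).Finite := Set.finite_range _
  have h6 : (MulAction.orbit H a).ncard ≤ (MulAction.orbit Kb a).ncard := by
    rw [h4, ← MulAction.index_stabilizer]
    have hpos : 0 < Ka.relIndex Kb := Nat.pos_of_ne_zero (Subgroup.index_ne_zero_of_finite (H := Ka.subgroupOf Kb))
    exact Nat.le_of_dvd hpos h2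
  have h7 := Set.eq_of_subset_of_ncard_le h5 h6 hfin
  have h8 : h • a ∈ MulAction.orbit Kb a := by rw [h7]; exact ⟨h, rfl⟩
  obtain ⟨x, hx⟩ := h8
  exact ⟨x, x.2, hx⟩

theorem result {k V H : Type*} [Field k] [AddCommGroup V] [Module k V] [Group H] [Finite H]
    (hchar : ¬ ringChar k ∣ Nat.card H) (ρ : Representation k H V) (a : V)
    (hspan : Submodule.span k {u : V | ∃ h : H, ρ h a = u} = ⊤) :
    Module.finrank k ρ.invariants ≤ 1 ∧
    ∀ b : V, (Nat.card {u : V | ∃ h : H, ρ h a = u}).Coprime (Nat.card {u : V | ∃ h : H, ρ h b = u}) → ∀ h : H, ρ h b = b := by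
  classical
  haveI : Fintype H := Fintype.ofFinite H
  have hne : ((Fintype.card H : ℕ) : k) ≠ 0 := by
    rw [Ne, ringChar.spec, ← Nat.card_eq_fintype_card]
    exact hchar
  haveI : Invertible ((Fintype.card H : ℕ) : k) := invertibleOfNonzero hne
  have hinv := invariants_le_span ρ a hspan
  constructor
  · calc Module.finrank k ρ.invariants ≤ Module.finrank k (Submodule.span k {ρ.averageMap a}) :=
          Submodule.finrank_mono hinv
      _ ≤ 1 := by
          have := finrank_span_le_card (R := k) ({ρ.averageMap a} : Set V)
          rw [Set.toFinset_singleton, Finset.card_singleton] at this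
          exact this
  · intro b hcop h
    letI := act ρ
    have hsmul : ∀ (g : H) (v : V), g • v = ρ g v := fun g v => rfl
    -- stabilizer of b
    set K : Subgroup H := MulAction.stabilizer H b with hK
    have hcop' : ((MulAction.orbit H a).ncard).Coprime ((MulAction.orbit H b).ncard) := hcop
    have htrans := transitive_of_coprime a b hcop'
    -- restricted representation
    let ρK : Representation k K V := ρ.comp K.subtype
    have hρK : ∀ (x : K) (v : V), ρK x v = ρ (x : H) v := fun x v => rfl
    haveI : Fintype K := Fintype.ofFinite K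
    have hneK : ((Fintype.card K : ℕ) : k) ≠ 0 := by
      rw [Ne, ringChar.spec, ← Nat.card_eq_fintype_card]
      intro hd
      exact hchar (hd.trans (Subgroup.card_subgroup_dvd_card K))
    haveI : Invertible ((Fintype.card K : ℕ) : k) := invertibleOfNonzero hneK
    have hspanK : Submodule.span k {u : V | ∃ x : K, ρK x a = u} = ⊤ := by
      rw [← hspan]
      congr 1
      ext u
      constructor
      · rintro ⟨x, rfl⟩
        exact ⟨x, rfl⟩
      · rintro ⟨g, rfl⟩
        obtain ⟨x, hx, hxa⟩ := htrans g
        exact ⟨⟨x, hx⟩, hxa⟩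
    have hinvK := invariants_le_span ρK a hspanK
    -- the two averages agree
    have havg : ρK.averageMap a = ρ.averageMap a := by
      have e1 : ρK.averageMap (ρ.averageMap a) = ρ.averageMap a := by
        apply ρK.averageMap_id
        intro x
        rw [hρK]
        exact ρ.averageMap_invariant a x
      have e2 : ∀ g : H, ρK.averageMap (ρ g a) = ρK.averageMap a := by
        intro g
        obtain ⟨x, hx, hxa⟩ := htrans g
        have : ρ g a = ρK ⟨x, hx⟩ a := hxa.symm
        rw [this, averageMap_apply_rho]
      have e3 : ρK.averageMap (ρ.averageMap a) = ρK.averageMap a := by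
        have : ρ.averageMap a = ⅟((Fintype.card H : ℕ) : k) • ∑ g : H, ρ g a := by
          simp [averageMap, GroupAlgebra.average, map_sum]
        rw [this, map_smul, map_sum]
        simp_rw [e2]
        rw [Finset.sum_const, Finset.card_univ, ← Nat.cast_smul_eq_nsmul k, smul_smul, invOf_mul_self, one_smul]
      rw [← e3, e1]
    -- b is K-invariant hence in span of the average, hence H-invariant
    have hbK : b ∈ ρK.invariants := by
      intro x
      rw [hρK]
      exact x.2
    have hb := hinvK hbK
    rw [havg, Submodule.mem_span_singleton] at hb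
    obtain ⟨c, rfl⟩ := hb
    rw [map_smul]
    congr 1
    exact ρ.averageMap_invariant a h

end Cfsg.Agent.S4177
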