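import Cfsg.Statements.S4178

set_option autoImplicit false
open Cfsg

namespace Cfsg.Agent.S4178

open Module

/-- orbit–stabilizer bound for a subgroup containing a point stabilizer -/
theorem index_le_ncard {Γ X : Type*} [Group Γ] [MulAction Γ X] (R : Subgroup Γ) (x : X)
    (hst : MulAction.stabilizer Γ x ≤ R) (Y : Set X) (hYfin : Y.Finite)
    (hY : MulAction.orbit Γ x ⊆ Y) : R.index ≤ Y.ncard := by
  have h1 := MulAction.index_stabilizer Γ x
  have h2 : (MulAction.orbit Γ x).ncard ≤ Y.ncard := Set.ncard_le_ncard hY hYfin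
  have h3 : 0 < (MulAction.orbit Γ x).ncard :=
    (Set.ncard_pos (hYfin.subset hY)).mpr (MulAction.nonempty_orbit x)
  have h4 := Subgroup.index_dvd_of_le hst
  rw [h1] at h4
  exact (Nat.le_of_dvd h3 h4).trans h2

section

variable {F V : Type*} [Field F] [Fintype F] [AddCommGroup V] [Module F V] [FiniteDimensional F V]

theorem ncard_submodule_diff (W : Submodule F V) :
    ((W : Set V) \ {0}).ncard = Fintype.card F ^ finrank F W - 1 := by
  rw [Set.ncard_sdiff_singleton_of_mem W.zero_mem]
  congr 1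
  have h1 : (W : Set V).ncard = Nat.card W := (Nat.card_coe_set_eq _).symm
  rw [h1, Module.natCard_eq_pow_finrank (K := F), Nat.card_eq_fintype_card]

/-- the contragredient action on the dual space -/
@[instance_reducible]
def dualAction (H : Subgroup (V ≃ₗ[F] V)) : MulAction ↥H (Module.Dual F V) where
  smul h f := f.comp ((h⁻¹ : ↥H) : V ≃ₗ[F] V).toLinearMap
  one_smul f := by
    show f.comp (((1 : ↥H)⁻¹ : ↥H) : V ≃ₗ[F] V).toLinearMap = f
    ext v
    simp
  mul_smul g h f := by
    show f.comp (((g * h)⁻¹ : ↥H) : V ≃ₗ[F] V).toLinearMap =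
      (f.comp ((h⁻¹ : ↥H) : V ≃ₗ[F] V).toLinearMap).comp ((g⁻¹ : ↥H) : V ≃ₗ[F] V).toLinearMap
    ext v
    simp [mul_inv_rev]

omit [Fintype F] [FiniteDimensional F V] in
theorem dualAction_apply (H : Subgroup (V ≃ₗ[F] V)) (h : ↥H) (f : Module.Dual F V) (v : V) :
    ((dualAction H).smul h f) v = f (((h⁻¹ : ↥H) : V ≃ₗ[F] V) v) := rfl

end

theorem result {F V : Type*} [Field F] [Fintype F] [AddCommGroup V] [Module F V] [FiniteDimensional F V] [Nontrivial V]
    (H : Subgroup (V ≃ₗ[F] V)) :
    (Subgroup.closure {h : ↥H | ∃ v : V, v ≠ 0 ∧ (h : V ≃ₗ[F] V) v = v}).index ≤ Fintype.card F ^ Module.finrank F V - 1 ∧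
    ((∃ W : Submodule F V, W ≠ ⊥ ∧ W ≠ ⊤ ∧ ∀ h ∈ H, ∀ w ∈ W, h w ∈ W) →
      ((Subgroup.closure {h : ↥H | ∃ v : V, v ≠ 0 ∧ (h : V ≃ₗ[F] V) v = v}).index : ℝ) ≤ Real.sqrt ((Fintype.card F : ℝ) ^ Module.finrank F V) - 1) := by
  have : Finite V := Module.finite_of_finite F
  set R := Subgroup.closure {h : ↥H | ∃ v : V, v ≠ 0 ∧ (h : V ≃ₗ[F] V) v = v} with hR
  have hq1 : 1 ≤ Fintype.card F := Fintype.card_pos
  -- the bound attached to an invariant subspace containing a suitable vector
  have key : ∀ (W : Submodule F V) (w : V), w ∈ W → w ≠ 0 → (∀ h ∈ H, ∀ u ∈ W, h u ∈ W) →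
      R.index ≤ Fintype.card F ^ finrank F W - 1 := by
    intro W w hw hw0 hinv
    rw [← ncard_submodule_diff W]
    apply index_le_ncard R w _ _ (Set.toFinite _)
    · rintro _ ⟨h, rfl⟩
      refine ⟨hinv h h.2 w hw, ?_⟩
      rw [Set.mem_singleton_iff]
      intro h0
      apply hw0
      have h1 : (h : V ≃ₗ[F] V) w = 0 := h0
      exact (LinearEquiv.map_eq_zero_iff _).mp h1
    · intro h hh
      rw [MulAction.mem_stabilizer_iff] at hh
      exact Subgroup.subset_closure ⟨w, hw0, hh⟩
  refine ⟨?_, ?_⟩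
  · obtain ⟨v, hv⟩ := exists_ne (0 : V)
    have h1 := key ⊤ v Submodule.mem_top hv (fun _ _ _ _ => Submodule.mem_top)
    rwa [finrank_top] at h1
  · rintro ⟨W, hW0, hW1, hinv⟩
    have hsq : ∀ e : ℕ, 2 * e ≤ finrank F V → R.index ≤ Fintype.card F ^ e - 1 →
        (R.index : ℝ) ≤ Real.sqrt ((Fintype.card F : ℝ) ^ Module.finrank F V) - 1 := by
      intro e he hle
      have h1 : (R.index : ℝ) ≤ (Fintype.card F : ℝ) ^ e - 1 := by
        have h2 : 1 ≤ Fintype.card F ^ e := Nat.one_le_pow _ _ hq1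
        have h3 : ((Fintype.card F ^ e - 1 : ℕ) : ℝ) = (Fintype.card F : ℝ) ^ e - 1 := by
          rw [Nat.cast_sub h2]; push_cast; ring
        rw [← h3]
        exact_mod_cast hle
      refine h1.trans ?_
      apply sub_le_sub_right
      apply Real.le_sqrt_of_sq_le
      rw [← pow_mul]
      apply pow_le_pow_right₀
      · exact_mod_cast hq1
      · omega
    rcases Nat.lt_or_ge (finrank F V) (2 * finrank F W) with hbig | hsmall
    · -- dual argument
      have hdim := Subspace.finrank_add_finrank_dualAnnihilator_eq W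
      have hWlt := Submodule.finrank_lt hW1
      have hAne : W.dualAnnihilator ≠ ⊥ := by
        intro h
        rw [h, finrank_bot] at hdim
        omega
      obtain ⟨f, hfA, hf0⟩ := Submodule.exists_mem_ne_zero_of_ne_bot hAne
      apply hsq (finrank F W.dualAnnihilator) (by omega)
      rw [← ncard_submodule_diff W.dualAnnihilator]
      let _ : MulAction ↥H (Module.Dual F V) := dualAction H
      have : Finite (Module.Dual F V) := Module.finite_of_finite F
      apply index_le_ncard R f _ _ (Set.toFinite _)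
      · rintro _ ⟨h, rfl⟩
        refine ⟨?_, ?_⟩
        · rw [SetLike.mem_coe, Submodule.mem_dualAnnihilator]
          intro u hu
          show f (((h⁻¹ : ↥H) : V ≃ₗ[F] V) u) = 0
          exact (Submodule.mem_dualAnnihilator f).mp hfA _ (hinv _ (h⁻¹).2 u hu)
        · rw [Set.mem_singleton_iff]
          intro h0
          apply hf0
          ext v
          have h1 := congrArg (fun g : Module.Dual F V => g ((h : V ≃ₗ[F] V) v)) h0
          have h2 : f (((h⁻¹ : ↥H) : V ≃ₗ[F] V) ((h : V ≃ₗ[F] V) v)) = 0 := h1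
          have h3 : ((h⁻¹ : ↥H) : V ≃ₗ[F] V) ((h : V ≃ₗ[F] V) v) = v := by
            simp
          rw [h3] at h2
          exact h2
      · intro h hh
        rw [MulAction.mem_stabilizer_iff] at hh
        -- `f ∘ h⁻¹ = f`, hence `f ∘ h = f` and `h - 1` is not surjective
        have hfh : ∀ v : V, f ((h : V ≃ₗ[F] V) v) = f v := by
          intro v
          have h1 := congrArg (fun g : Module.Dual F V => g ((h : V ≃ₗ[F] V) v)) hh
          have h2 : f (((h⁻¹ : ↥H) : V ≃ₗ[F] V) ((h : V ≃ₗ[F] V) v)) = f ((h : V ≃ₗ[F] V) v) := h1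
          have h3 : ((h⁻¹ : ↥H) : V ≃ₗ[F] V) ((h : V ≃ₗ[F] V) v) = v := by
            simp
          rw [h3] at h2
          exact h2.symm
        have hns : ¬ Function.Surjective (((h : V ≃ₗ[F] V).toLinearMap - (LinearMap.id : V →ₗ[F] V)) : V →ₗ[F] V) := by
          intro hs
          apply hf0
          apply LinearMap.ext
          intro v
          obtain ⟨u, hu⟩ := hs v
          have hu' : (h : V ≃ₗ[F] V) u - u = v := hu
          rw [← hu', map_sub, hfh u, sub_self, LinearMap.zero_apply]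
        have hni : ¬ Function.Injective (((h : V ≃ₗ[F] V).toLinearMap - (LinearMap.id : V →ₗ[F] V)) : V →ₗ[F] V) := by
          rwa [LinearMap.injective_iff_surjective]
        rw [← LinearMap.ker_eq_bot] at hni
        obtain ⟨v, hv, hv0⟩ := Submodule.exists_mem_ne_zero_of_ne_bot hni
        apply Subgroup.subset_closure
        refine ⟨v, hv0, ?_⟩
        rw [LinearMap.mem_ker] at hv
        have : (h : V ≃ₗ[F] V) v - v = 0 := by simpa using hv
        exact sub_eq_zero.mp this
    · obtain ⟨w, hw, hw0⟩ := Submodule.exists_mem_ne_zero_of_ne_bot hW0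
      exact hsq (finrank F W) hsmall (key W w hw hw0 hinv)

end Cfsg.Agent.S4178
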