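import Cfsg.Statements.S4182

set_option autoImplicit false
open Cfsg

namespace Cfsg.Agent.S4182

open scoped Pointwise

universe u

/-- A nontrivial finite `p`-group is not the union of at most `p` proper subgroups. -/
theorem pgroup_cover {G : Type u} [Group G] [Finite G] (p : ℕ) [Fact p.Prime] (hG : IsPGroup p G)
    (s : Finset (Subgroup G)) (hs : ∀ M ∈ s, M ≠ ⊤) (hcov : ∀ g : G, ∃ M ∈ s, g ∈ M) :
    p + 1 ≤ s.card := by
  classical
  by_contra hlt
  push Not at hlt
  have hp : p.Prime := Fact.out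
  have := Fintype.ofFinite G
  obtain ⟨a, ha⟩ := IsPGroup.iff_card.mp hG
  obtain ⟨M0, hM0, -⟩ := hcov 1
  have ha1 : a ≠ 0 := by
    rintro rfl
    rw [pow_zero] at ha
    have hsub : Subsingleton G := (Nat.card_eq_one_iff_unique.mp ha).1
    exact hs M0 hM0 (Subsingleton.elim _ _)
  obtain ⟨b, rfl⟩ := Nat.exists_eq_succ_of_ne_zero ha1
  have hcard : ∀ M ∈ s, Nat.card M ≤ p ^ b := by
    intro M hM
    have hdvd : Nat.card M ∣ p ^ (b + 1) := ha ▸ Subgroup.card_subgroup_dvd_card M
    obtain ⟨m, hm, hmeq⟩ := (Nat.dvd_prime_pow hp).1 hdvd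
    have hne : m ≠ b + 1 := by
      rintro rfl
      exact hs M hM (Subgroup.eq_top_of_card_eq M (by rw [hmeq, ha]))
    rw [hmeq]
    exact Nat.pow_le_pow_right hp.pos (by omega)
  have h1 : (Finset.univ.erase (1 : G)).card ≤
      ∑ M ∈ s, ((Finset.univ.filter (fun g : G => g ∈ M)).erase (1 : G)).card := by
    refine le_trans (Finset.card_le_card ?_) Finset.card_biUnion_le
    intro g hg
    obtain ⟨M, hM, hgM⟩ := hcov g
    simp only [Finset.mem_biUnion, Finset.mem_erase, Finset.mem_filter, Finset.mem_univ,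
      true_and, ne_eq, and_true] at hg ⊢
    exact ⟨M, hM, hg, hgM⟩
  have h2 : ∀ M ∈ s, ((Finset.univ.filter (fun g : G => g ∈ M)).erase (1 : G)).card ≤ p ^ b - 1 := by
    intro M hM
    have hone : (1 : G) ∈ Finset.univ.filter (fun g : G => g ∈ M) := by simp
    rw [Finset.card_erase_of_mem hone]
    have hc : (Finset.univ.filter (fun g : G => g ∈ M)).card = Nat.card M := by
      rw [Nat.card_eq_fintype_card, Fintype.card_subtype]
    rw [hc]
    exact Nat.sub_le_sub_right (hcard M hM) 1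
  have h3 : (Finset.univ.erase (1 : G)).card = p ^ (b + 1) - 1 := by
    rw [Finset.card_erase_of_mem (Finset.mem_univ _), Finset.card_univ, ← Nat.card_eq_fintype_card, ha]
  have h4 := le_trans h1 (Finset.sum_le_card_nsmul _ _ _ h2)
  rw [h3, smul_eq_mul] at h4
  have hN : 1 ≤ p ^ b := Nat.one_le_pow _ _ hp.pos
  have h5 : s.card * (p ^ b - 1) ≤ p * (p ^ b - 1) := Nat.mul_le_mul_right _ (by omega)
  have h6 : p * (p ^ b - 1) + p = p ^ (b + 1) := by
    rw [pow_succ]
    obtain ⟨N, hNeq⟩ : ∃ N, p ^ b = N + 1 := ⟨p ^ b - 1, by omega⟩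
    rw [hNeq]
    simp
    ring
  have hp2 := hp.two_le
  omega

theorem main (p : ℕ) [Fact p.Prime] : ∀ n : ℕ, ∀ (G : Type u) [Group G] [Finite G], Nat.card G = n →
    Subgroup.closure {g : G | ∃ k : ℕ, orderOf g = p ^ k} = ⊤ →
    ∀ s : Finset (Subgroup G), (∀ M ∈ s, M ≠ ⊤) →
      (∀ g : G, (∃ k : ℕ, orderOf g = p ^ k) → ∃ M ∈ s, g ∈ M) → p + 1 ≤ s.card := by
  intro n
  induction n using Nat.strong_induction_on with
  | _ n IH =>
  intro G _ _ hn hgen
  suffices H : ∀ m : ℕ, ∀ s : Finset (Subgroup G), s.card = m → (∀ M ∈ s, M ≠ ⊤) →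
      (∀ g : G, (∃ k : ℕ, orderOf g = p ^ k) → ∃ M ∈ s, g ∈ M) → p + 1 ≤ m from
    fun s hs hcov => H s.card s rfl hs hcov
  intro m
  induction m using Nat.strong_induction_on with
  | _ m IHm =>
  intro s hsm hs hcov
  by_contra hlt
  push Not at hlt
  classical
  have hp : p.Prime := Fact.out
  -- Claim A
  have claimA : ∀ L : Subgroup G, L ≠ ⊤ →
      Subgroup.closure {g : G | g ∈ L ∧ ∃ k : ℕ, orderOf g = p ^ k} = L → ∃ M ∈ s, L ≤ M := by
    intro L hL hLgen
    by_contra hno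
    push Not at hno
    have hlt' : Nat.card L < n := by
      rw [← hn]
      refine lt_of_le_of_ne (Subgroup.card_le_card_group L) ?_
      intro h
      exact hL (Subgroup.eq_top_of_card_eq L h)
    have hgenL : Subgroup.closure {g : L | ∃ k : ℕ, orderOf g = p ^ k} = ⊤ := by
      apply Subgroup.map_injective L.subtype_injective
      rw [MonoidHom.map_closure, ← MonoidHom.range_eq_map, Subgroup.range_subtype]
      have himg : (L.subtype '' {g : L | ∃ k : ℕ, orderOf g = p ^ k}) =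
          {g : G | g ∈ L ∧ ∃ k : ℕ, orderOf g = p ^ k} := by
        ext g
        constructor
        · rintro ⟨x, ⟨k, hk⟩, rfl⟩
          exact ⟨x.2, k, by rw [← hk]; exact Subgroup.orderOf_coe x⟩
        · rintro ⟨hg, k, hk⟩
          exact ⟨⟨g, hg⟩, ⟨k, by rw [← hk]; exact (Subgroup.orderOf_coe (⟨g, hg⟩ : L)).symm⟩, rfl⟩
      rw [himg, hLgen]
    have h := IH (Nat.card L) hlt' L rfl hgenL (s.image (fun M => M.subgroupOf L)) ?_ ?_
    · have := Finset.card_image_le (s := s) (f := fun M => M.subgroupOf L)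
      omega
    · intro M' hM'
      obtain ⟨M, hM, rfl⟩ := Finset.mem_image.mp hM'
      intro h
      exact hno M hM (Subgroup.subgroupOf_eq_top.mp h)
    · rintro g ⟨k, hk⟩
      obtain ⟨M, hM, hgM⟩ := hcov (g : G) ⟨k, by rw [← hk]; exact Subgroup.orderOf_coe g⟩
      exact ⟨M.subgroupOf L, Finset.mem_image_of_mem _ hM, Subgroup.mem_subgroupOf.mpr hgM⟩
  -- every element of a Sylow subgroup is a p-element
  have hpe_of_mem : ∀ (P : Sylow p G) (g : G), g ∈ (P : Subgroup G) → ∃ k : ℕ, orderOf g = p ^ k := by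
    intro P g hg
    obtain ⟨k, hk⟩ := IsPGroup.iff_orderOf.mp P.isPGroup' ⟨g, hg⟩
    exact ⟨k, by rw [← hk]; exact Subgroup.orderOf_coe (⟨g, hg⟩ : (P : Subgroup G))⟩
  -- Claim B
  have claimB : ∀ P : Sylow p G, ∃ M ∈ s, (P : Subgroup G) ≤ M := by
    intro P
    by_cases hP : (P : Subgroup G) = ⊤
    · exfalso
      have hG : IsPGroup p G := by
        intro g
        obtain ⟨k, hk⟩ := P.isPGroup' ⟨g, by rw [hP]; trivial⟩
        exact ⟨k, by simpa using congrArg Subtype.val hk⟩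
      have := pgroup_cover p hG s hs (fun g => hcov g (IsPGroup.iff_orderOf.mp hG g))
      omega
    · refine claimA P hP (le_antisymm ((Subgroup.closure_le _).2 fun g hg => hg.1) ?_)
      intro g hg
      exact Subgroup.subset_closure ⟨hg, hpe_of_mem P g hg⟩
  -- minimality: a private p-element for each member
  have hpriv : ∀ M ∈ s, ∃ x : G, (∃ k : ℕ, orderOf x = p ^ k) ∧ x ∈ M ∧ ∀ M' ∈ s, x ∈ M' → M' = M := by
    intro M hM
    by_contra hno
    push Not at hno
    have hcard : (s.erase M).card = m - 1 := by rw [Finset.card_erase_of_mem hM, hsm]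
    have hmpos : 0 < m := by rw [← hsm]; exact Finset.card_pos.mpr ⟨M, hM⟩
    have h := IHm (m - 1) (by omega) (s.erase M) hcard
      (fun M' hM' => hs M' (Finset.mem_of_mem_erase hM')) ?_
    · omega
    · intro g hg
      obtain ⟨M'', hM'', hgM''⟩ := hcov g hg
      by_cases hMM : M'' = M
      · subst hMM
        obtain ⟨M', hM', hgM', hne⟩ := hno g hg hgM''
        exact ⟨M', Finset.mem_erase.mpr ⟨hne, hM'⟩, hgM'⟩
      · exact ⟨M'', Finset.mem_erase.mpr ⟨hMM, hM''⟩, hgM''⟩
  -- every p-element lies in a Sylow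
  have hsyl : ∀ x : G, (∃ k : ℕ, orderOf x = p ^ k) → ∃ Q : Sylow p G, x ∈ (Q : Subgroup G) := by
    rintro x ⟨k, hk⟩
    have hz : IsPGroup p (Subgroup.zpowers x) := IsPGroup.of_card (n := k) (by rw [Nat.card_zpowers, hk])
    obtain ⟨Q, hQ⟩ := hz.exists_le_sylow
    exact ⟨Q, hQ (Subgroup.mem_zpowers x)⟩
  -- nonempty
  obtain ⟨M1, hM1, -⟩ := hcov 1 ⟨0, by simp⟩
  obtain ⟨x1, hx1pe, hx1M, hx1only⟩ := hpriv M1 hM1
  obtain ⟨P1, hx1P⟩ := hsyl x1 hx1pe
  have hP1only : ∀ M ∈ s, (P1 : Subgroup G) ≤ M → M = M1 := fun M hM hle => hx1only M hM (hle hx1P)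
  have hP1M : (P1 : Subgroup G) ≤ M1 := by
    obtain ⟨M, hM, hle⟩ := claimB P1
    rw [← hP1only M hM hle]; exact hle
  -- the relation
  obtain ⟨ρ, hρ⟩ : ∃ ρ : Sylow p G → Sylow p G → Prop,
      ∀ P Q, ρ P Q ↔ ∃ M ∈ s, (P : Subgroup G) ≤ M ∧ (Q : Subgroup G) ≤ M := ⟨_, fun _ _ => Iff.rfl⟩
  have hρsup : ∀ P Q : Sylow p G, ρ P Q ↔ (P : Subgroup G) ⊔ (Q : Subgroup G) ≠ ⊤ := by
    intro P Q
    rw [hρ]
    constructor
    · rintro ⟨M, hM, hP, hQ⟩ h
      exact hs M hM (top_le_iff.mp (h ▸ sup_le hP hQ))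
    · intro h
      obtain ⟨M, hM, hle⟩ := claimA _ h (le_antisymm ((Subgroup.closure_le _).2 fun g hg => hg.1)
        (sup_le (fun g hg => Subgroup.subset_closure ⟨le_sup_left (a := (P : Subgroup G)) hg, hpe_of_mem P g hg⟩)
          (fun g hg => Subgroup.subset_closure ⟨le_sup_right (b := (Q : Subgroup G)) hg, hpe_of_mem Q g hg⟩)))
      exact ⟨M, hM, le_trans le_sup_left hle, le_trans le_sup_right hle⟩
  have hρsymm : ∀ P Q : Sylow p G, ρ P Q → ρ Q P := by
    intro P Q h
    rw [hρ] at h ⊢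
    obtain ⟨M, hM, hP, hQ⟩ := h
    exact ⟨M, hM, hQ, hP⟩
  have hρinv : ∀ (g : G) (P Q : Sylow p G), ρ P Q → ρ (g • P) (g • Q) := by
    intro g P Q h
    rw [hρsup] at h ⊢
    intro htop
    apply h
    rw [Sylow.coe_subgroup_smul, Sylow.coe_subgroup_smul, ← Subgroup.smul_sup] at htop
    refine eq_top_iff.2 fun x _ => ?_
    have : MulAut.conj g • x ∈ MulAut.conj g • ((P : Subgroup G) ⊔ (Q : Subgroup G)) := by
      rw [htop]; trivial
    exact Subgroup.smul_mem_pointwise_smul_iff.1 this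
  have hρP1 : ∀ Q : Sylow p G, ρ P1 Q ↔ (Q : Subgroup G) ≤ M1 := by
    intro Q
    rw [hρ]
    constructor
    · rintro ⟨M, hM, hP, hQ⟩
      rw [← hP1only M hM hP]; exact hQ
    · intro hQ
      exact ⟨M1, hM1, hP1M, hQ⟩
  have hρtrans : ∀ Q R R' : Sylow p G, ρ Q R → ρ Q R' → ρ R R' := by
    intro Q R R' h1 h2
    obtain ⟨g, rfl⟩ := MulAction.exists_smul_eq G P1 Q
    have h1' := hρinv g⁻¹ _ _ h1
    have h2' := hρinv g⁻¹ _ _ h2
    rw [inv_smul_smul] at h1' h2'
    rw [hρP1] at h1' h2'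
    have h3 : ρ (g⁻¹ • R) (g⁻¹ • R') := (hρ _ _).2 ⟨M1, hM1, h1', h2'⟩
    have h4 := hρinv g _ _ h3
    rwa [smul_inv_smul, smul_inv_smul] at h4
  have hρrefl : ρ P1 P1 := (hρP1 P1).2 hP1M
  -- choice of a member containing each Sylow
  choose f hf using claimB
  have hfρ : ∀ R R' : Sylow p G, f R = f R' → ρ R R' := by
    intro R R' h
    exact (hρ _ _).2 ⟨f R, (hf R).1, (hf R).2, h ▸ (hf R').2⟩
  -- key: p-elements preserve the class of P1
  have hpe : ∀ x : G, (∃ k : ℕ, orderOf x = p ^ k) → ρ P1 (x • P1) := by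
    intro x hx
    obtain ⟨Q, hxQ⟩ := hsyl x hx
    have hQfix : ∀ y : G, y ∈ (Q : Subgroup G) → y • Q = Q := fun y hy =>
      Sylow.smul_eq_iff_mem_normalizer.2 (Subgroup.le_normalizer hy)
    obtain ⟨F, hF0, hFs⟩ : ∃ F : ℕ → Subgroup G, F 0 = f Q ∧ ∀ j, F (j + 1) = f (x ^ j • P1) :=
      ⟨fun i => Nat.rec (f Q) (fun j _ => f (x ^ j • P1)) i, rfl, fun _ => rfl⟩
    have hFmem : ∀ i ∈ Finset.range (p + 1), F i ∈ s := by
      intro i _
      cases i with
      | zero => rw [hF0]; exact (hf Q).1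
      | succ j => rw [hFs]; exact (hf _).1
    have hcardlt : s.card < (Finset.range (p + 1)).card := by rw [Finset.card_range, hsm]; exact hlt
    obtain ⟨a, ha, b, hb, hab, hFab⟩ := Finset.exists_ne_map_eq_of_card_lt_of_maps_to hcardlt hFmem
    have key : ∀ a b : ℕ, a < b → b < p + 1 → F a = F b → ρ P1 (x • P1) := by
      intro a b hab hb hFab
      cases a with
      | zero =>
        obtain ⟨j, rfl⟩ := Nat.exists_eq_succ_of_ne_zero (by omega : b ≠ 0)
        rw [hF0, hFs] at hFab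
        have h1 := hfρ _ _ hFab
        have h2 := hρinv (x ^ j)⁻¹ _ _ h1
        rw [inv_smul_smul, hQfix _ (inv_mem (pow_mem hxQ j))] at h2
        have h3 := hρinv x _ _ h2
        rw [hQfix x hxQ] at h3
        exact hρtrans Q P1 (x • P1) h2 h3
      | succ i =>
        obtain ⟨j, rfl⟩ := Nat.exists_eq_succ_of_ne_zero (by omega : b ≠ 0)
        rw [hFs, hFs] at hFab
        have h1 := hfρ _ _ hFab
        have h2 := hρinv (x ^ i)⁻¹ _ _ h1
        have hij : i < j := by omega
        obtain ⟨d, hd⟩ : ∃ d, j = i + d := ⟨j - i, by omega⟩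
        have hd0 : 0 < d := by omega
        have hdp : d < p := by omega
        rw [inv_smul_smul, smul_smul, hd, pow_add, inv_mul_cancel_left] at h2
        -- powers of y = x ^ d
        have hpow : ∀ e : ℕ, ρ P1 ((x ^ d) ^ e • P1) := by
          intro e
          induction e with
          | zero => rw [pow_zero, one_smul]; exact hρrefl
          | succ e ih =>
            rw [pow_succ', mul_smul]
            have h3 := hρinv (x ^ d) _ _ ih
            exact hρtrans _ _ _ (hρsymm _ _ h2) h3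
        obtain ⟨k, hk⟩ := hx
        have hcop : Nat.Coprime d (orderOf x) := by
          rw [hk]
          apply Nat.Coprime.pow_right
          exact ((Nat.Prime.coprime_iff_not_dvd hp).2 (Nat.not_dvd_of_pos_of_lt hd0 hdp)).symm
        obtain ⟨e, he⟩ := exists_pow_eq_self_of_coprime hcop
        have := hpow e
        rwa [he] at this
    rcases Nat.lt_or_gt_of_ne hab with h | h
    · exact key a b h (Finset.mem_range.mp hb) hFab
    · exact key b a h (Finset.mem_range.mp ha) hFab.symm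
  -- all of G preserves the class of P1
  have hall : ∀ g : G, ρ P1 (g • P1) := by
    intro g
    have hg : g ∈ Subgroup.closure {g : G | ∃ k : ℕ, orderOf g = p ^ k} := by rw [hgen]; trivial
    induction hg using Subgroup.closure_induction with
    | mem x hx => exact hpe x hx
    | one => rw [one_smul]; exact hρrefl
    | mul x y _ _ hx hy =>
      rw [mul_smul]
      exact hρtrans _ _ _ (hρsymm _ _ hx) (hρinv x _ _ hy)
    | inv x _ hx =>
      have h1 := hρinv x⁻¹ _ _ hx
      rw [inv_smul_smul] at h1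
      exact hρsymm _ _ h1
  -- contradiction
  apply hs M1 hM1
  rw [eq_top_iff, ← hgen, Subgroup.closure_le]
  intro x hx
  obtain ⟨Q, hxQ⟩ := hsyl x hx
  obtain ⟨g, rfl⟩ := MulAction.exists_smul_eq G P1 Q
  exact (hρP1 _).1 (hall g) hxQ

/-- Let p be a prime and G a finite group generated by its p-elements. If a finite family of proper subgroups of G covers the set of p-elements of G (every element of p-power order lies in one of them), then the family has at least p + 1 members. -/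
theorem result {G : Type*} [Group G] [Finite G] (p : ℕ) [Fact p.Prime] (hgen : Subgroup.closure {g : G | ∃ k : ℕ, orderOf g = p ^ k} = ⊤)
    {ι : Type*} [Fintype ι] (K : ι → Subgroup G) (hK : ∀ i, K i ≠ ⊤)
    (hcov : ∀ g : G, (∃ k : ℕ, orderOf g = p ^ k) → ∃ i, g ∈ K i) :
    p + 1 ≤ Fintype.card ι := by
  classical
  have h := main p (Nat.card G) G rfl hgen (Finset.univ.image K) ?_ ?_
  · exact le_trans h (le_trans Finset.card_image_le (by rw [Finset.card_univ]))
  · intro M hM
    obtain ⟨i, -, rfl⟩ := Finset.mem_image.mp hM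
    exact hK i
  · intro g hg
    obtain ⟨i, hi⟩ := hcov g hg
    exact ⟨K i, Finset.mem_image_of_mem _ (Finset.mem_univ i), hi⟩

end Cfsg.Agent.S4182
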