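import Cfsg.Statements.S4186
import Mathlib

set_option autoImplicit false
open Cfsg

namespace Cfsg.Agent.S4186

theorem result {G : Type*} [Group G] (T X : Subgroup G) [Finite ↥T] (hT : IsPGroup 2 ↥T) (hTN : T ≤ Subgroup.normalizer (X : Set G)) (hTC : ¬ T ≤ Subgroup.centralizer (X : Set G)) : ∃ t ∈ T, ∃ x ∈ X, x ≠ 1 ∧ t * x * t⁻¹ = x⁻¹ := by
  classical
  obtain ⟨t, htT, htC⟩ := SetLike.not_le_iff_exists.mp hTC
  obtain ⟨k, hk⟩ := hT ⟨t, htT⟩
  have hk' : t ^ 2 ^ k = 1 := by simpa using congrArg Subtype.val hk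
  have hex : ∃ i : ℕ, t ^ 2 ^ i ∈ Subgroup.centralizer (X : Set G) := ⟨k, by rw [hk']; exact Subgroup.one_mem _⟩
  have hmin : ∀ m : ℕ, m < Nat.find hex → t ^ 2 ^ m ∉ Subgroup.centralizer (X : Set G) :=
    fun m hm => Nat.find_min hex hm
  have hspec := Nat.find_spec hex
  set i := Nat.find hex with hi
  have hi0 : i ≠ 0 := by
    intro h0
    rw [h0] at hspec
    simp only [pow_zero, pow_one] at hspec
    exact htC hspec
  obtain ⟨j, hj⟩ := Nat.exists_eq_succ_of_ne_zero hi0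
  have hsn : t ^ 2 ^ j ∉ Subgroup.centralizer (X : Set G) := hmin j (by omega)
  set s := t ^ 2 ^ j with hs
  have hsT : s ∈ T := Subgroup.pow_mem _ htT _
  have hs2 : s ^ 2 ∈ Subgroup.centralizer (X : Set G) := by
    rw [hs, ← pow_mul, ← pow_succ, ← Nat.succ_eq_add_one, ← hj]
    exact hspec
  rw [Subgroup.mem_centralizer_iff] at hsn
  push Not at hsn
  obtain ⟨x, hxX, hxs⟩ := hsn
  have hsx : s * x * s⁻¹ ∈ X := (Subgroup.mem_set_normalizer_iff.mp (hTN hsT) x).mp hxX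
  refine ⟨s, hsT, x⁻¹ * (s * x * s⁻¹), X.mul_mem (X.inv_mem hxX) hsx, ?_, ?_⟩
  · intro h
    apply hxs
    have : s * x * s⁻¹ = x := by
      have := congrArg (fun w => x * w) h
      simpa using this
    calc x * s = (s * x * s⁻¹) * s := by rw [this]
      _ = s * x := by group
  · have h2 : x * s ^ 2 = s ^ 2 * x := (Subgroup.mem_centralizer_iff.mp hs2) x hxX
    have h3 : s ^ 2 * x * (s ^ 2)⁻¹ = x := by rw [← h2]; group
    calc s * (x⁻¹ * (s * x * s⁻¹)) * s⁻¹ = (s * x⁻¹ * s⁻¹) * (s ^ 2 * x * (s ^ 2)⁻¹) := by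
          simp only [pow_two, mul_inv_rev]; group
      _ = (s * x⁻¹ * s⁻¹) * x := by rw [h3]
      _ = (x⁻¹ * (s * x * s⁻¹))⁻¹ := by group

end Cfsg.Agent.S4186
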