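import Cfsg.Statements.S4188
import Cfsg.Agent.Lib.Helper11.FratIdxG

set_option autoImplicit false
open Cfsg

namespace Cfsg.Agent.S4188

open Cfsg.Agent.Lib.Helper11.FratIdx

/-- Let G be a finite group that is the semidirect product of a normal abelian subgroup N of odd order by a 2-subgroup P, and suppose N is the unique minimal normal subgroup of G. Then the index of the Frattini subgroup of P in P is at most #N − 1. -/
theorem result {G : Type*} [Group G] [Finite G] (N P : Subgroup G) (hN : N.Normal) (hNab : IsMulCommutative ↥N) (hNodd : Odd (Nat.card ↥N)) (hP : IsPGroup 2 ↥P) (hdisj : N ⊓ P = ⊥) (hprod : N ⊔ P = ⊤) (hmin : N ≠ ⊥ ∧ ∀ M : Subgroup G, M.Normal → M ≠ ⊥ → N ≤ M) : (frattini ↥P).index ≤ Nat.card ↥N - 1 := by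
  haveI := hN
  letI : CommGroup N := { (inferInstance : Group N) with mul_comm := hNab.is_comm.comm }
  obtain ⟨hNne, hNmin⟩ := hmin
  set φ : P →* MulAut N := (MulAut.conjNormal (H := N)).comp P.subtype with hφ
  have hinj : Function.Injective φ := by
    rw [injective_iff_map_eq_one]
    intro x hx
    by_contra hx1
    set C : Subgroup G := P ⊓ Subgroup.centralizer (N : Set G) with hC
    have hCcent : ∀ c ∈ C, ∀ n ∈ N, n * c = c * n := by
      intro c hc n hn
      rw [hC, Subgroup.mem_inf] at hc
      exact Subgroup.mem_centralizer_iff.mp hc.2 n hn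
    haveI hcn : (Subgroup.centralizer (N : Set G)).Normal := Subgroup.normal_centralizer
    have hxC : (x : G) ∈ C := by
      rw [hC, Subgroup.mem_inf]
      refine ⟨x.2, ?_⟩
      rw [Subgroup.mem_centralizer_iff]
      intro n hn
      have h1 : φ x ⟨n, hn⟩ = ⟨n, hn⟩ := by rw [hx]; rfl
      have h2 := congrArg Subtype.val h1
      change (x : G) * n * (x : G)⁻¹ = n at h2
      calc n * (x : G) = ((x : G) * n * (x : G)⁻¹) * (x : G) := by rw [h2]
        _ = (x : G) * n := by group
    have hCne : C ≠ ⊥ := by
      intro h
      apply hx1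
      rw [h, Subgroup.mem_bot] at hxC
      exact Subtype.ext hxC
    have hCn : C.Normal := by
      have hle : N ⊔ P ≤ Subgroup.normalizer (C : Set G) := by
        apply sup_le
        · intro n hn
          rw [Subgroup.mem_normalizer_iff]
          intro c
          have key : ∀ c ∈ C, n * c * n⁻¹ = c := by
            intro c hc
            rw [hCcent c hc n hn]; group
          constructor
          · intro hc
            rw [key c hc]; exact hc
          · intro hc
            have h1 := key _ hc
            have h2 : c = n⁻¹ * (n * c * n⁻¹) * n := by group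
            have hinv : ∀ c ∈ C, n⁻¹ * c * n = c := by
              intro c hc
              have := hCcent c hc n⁻¹ (N.inv_mem hn)
              rw [this]; group
            rw [h2, hinv _ hc]; exact hc
        · intro p hp
          rw [Subgroup.mem_normalizer_iff]
          intro c
          constructor
          · intro hc
            rw [hC, Subgroup.mem_inf] at hc ⊢
            exact ⟨P.mul_mem (P.mul_mem hp hc.1) (P.inv_mem hp), hcn.conj_mem c hc.2 p⟩
          · intro hc
            have h2 : c = p⁻¹ * (p * c * p⁻¹) * p⁻¹⁻¹ := by group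
            rw [h2]
            rw [hC, Subgroup.mem_inf] at hc ⊢
            exact ⟨P.mul_mem (P.mul_mem (P.inv_mem hp) hc.1) (P.inv_mem (P.inv_mem hp)),
              hcn.conj_mem _ hc.2 p⁻¹⟩
      rw [hprod] at hle
      exact Subgroup.normalizer_eq_top_iff.mp (top_le_iff.mp hle)
    have hNC : N ≤ C := hNmin C hCn hCne
    apply hNne
    rw [eq_bot_iff, ← hdisj]
    exact le_inf le_rfl (hNC.trans inf_le_left)
  have hn1 : 1 < Nat.card N := N.one_lt_card_iff_ne_bot.mpr hNne
  have hn3 : 3 ≤ Nat.card N := by obtain ⟨a, ha⟩ := hNodd; omega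
  have hR2 : IsPGroup 2 φ.range := IsPGroup.of_surjective hP φ.rangeRestrict φ.rangeRestrict_surjective
  have hSR := main_bound (Nat.card N) N rfl hNodd hn1 φ.range hR2
  have hSRP : SR (kb (Nat.card N)) P := by
    apply SR.of_injective φ.rangeRestrict _ hSR
    rw [MonoidHom.rangeRestrict_injective_iff]
    exact hinj
  have h1 := hSRP.frattini_index_le hP
  exact h1.trans ((two_pow_kb_le hn3 hNodd).trans (gb_le hn3))

end Cfsg.Agent.S4188
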