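import Cfsg.Statements.S4189
import Cfsg.Agent.Lib.Helper1.MaxClassTwo
import Cfsg.Agent.Lib.Helper10.UniqueOrderP

set_option autoImplicit false
open Cfsg

namespace Cfsg.Agent.S4189

variable {P : Type*} [Group P]

/-- number theory: an `r`-th root of unity modulo `2 ^ k`, `r` an odd prime, is trivial. -/
theorem modEq_one_of_pow_modEq_one {k m r : ℕ} (hr : r.Prime) (hr2 : r ≠ 2)
    (h : m ^ r ≡ 1 [MOD 2 ^ k]) : m ≡ 1 [MOD 2 ^ k] := by
  rcases Nat.eq_zero_or_pos k with rfl | hk
  · simp [Nat.modEq_one]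
  have hcop : Nat.Coprime m (2 ^ k) := by
    apply Nat.Coprime.pow_right
    rw [Nat.coprime_two_right]
    by_contra hodd
    rw [Nat.not_odd_iff_even] at hodd
    have h1 : Even (m ^ r) := hodd.pow_of_ne_zero hr.ne_zero
    have h2 : (m ^ r) % 2 = 1 % 2 := by
      have h3 : m ^ r ≡ 1 [MOD 2] := h.of_dvd (dvd_pow_self 2 hk.ne')
      exact h3
    rw [Nat.even_iff] at h1
    omega
  have h1 : ((m : ZMod (2 ^ k))) ^ r = 1 := by
    have := (ZMod.natCast_eq_natCast_iff (m ^ r) 1 (2 ^ k)).mpr h
    simpa using this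
  have h2 : ((m : ZMod (2 ^ k))) ^ (2 ^ (k - 1)) = 1 := by
    have h3 := Nat.ModEq.pow_totient hcop
    rw [Nat.totient_prime_pow Nat.prime_two hk] at h3
    have := (ZMod.natCast_eq_natCast_iff _ 1 (2 ^ k)).mpr h3
    simpa using this
  have h3 : orderOf (m : ZMod (2 ^ k)) ∣ r := orderOf_dvd_of_pow_eq_one h1
  have h4 : orderOf (m : ZMod (2 ^ k)) ∣ 2 ^ (k - 1) := orderOf_dvd_of_pow_eq_one h2
  have h5 : Nat.Coprime r (2 ^ (k - 1)) := by
    apply Nat.Coprime.pow_right
    exact (Nat.coprime_primes hr Nat.prime_two).mpr hr2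
  have h6 : orderOf (m : ZMod (2 ^ k)) = 1 := Nat.eq_one_of_dvd_coprimes h5 h3 h4
  have h7 : (m : ZMod (2 ^ k)) = 1 := orderOf_eq_one_iff.mp h6
  have h8 : (m : ZMod (2 ^ k)) = ((1 : ℕ) : ZMod (2 ^ k)) := by simpa using h7
  exact (ZMod.natCast_eq_natCast_iff m 1 (2 ^ k)).mp h8

/-- an automorphism of odd prime order fixing a cyclic `2`-subgroup fixes it pointwise. -/
theorem apply_eq_self_of_map_zpowers (α : MulAut P) {r : ℕ} (hr : r.Prime) (hr2 : r ≠ 2)
    (hα : α ^ r = 1) (c : P) {k : ℕ} (hc : orderOf c = 2 ^ k)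
    (hαc : α c ∈ Subgroup.zpowers c) : α c = c := by
  have hfin : IsOfFinOrder c := by
    rw [← orderOf_pos_iff, hc]; positivity
  obtain ⟨m, hm⟩ := (Submonoid.mem_powers_iff _ _).mp (hfin.mem_powers_iff_mem_zpowers.mpr hαc)
  -- hm : c ^ m = α c
  have hpow : ∀ j : ℕ, (α ^ j) c = c ^ (m ^ j) := by
    intro j
    induction j with
    | zero => simp
    | succ j ih =>
      rw [pow_succ', MulAut.mul_apply, ih, map_pow, ← hm, ← pow_mul, pow_succ, mul_comm]
  have h1 := hpow r
  rw [hα, MulAut.one_apply] at h1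
  have h2 : c ^ (m ^ r) = c ^ 1 := by rw [pow_one]; exact h1.symm
  have h3 : m ^ r ≡ 1 [MOD 2 ^ k] := by
    rw [← hc]; exact pow_eq_pow_iff_modEq.mp h2
  have h4 := modEq_one_of_pow_modEq_one hr hr2 h3
  rw [← hc] at h4
  have h5 : c ^ m = c ^ 1 := pow_eq_pow_iff_modEq.mpr h4
  rw [← hm, h5, pow_one]

open Cfsg.Agent.Lib.Helper1 Cfsg.Agent.Lib.Helper1.MaxClassTwo Cfsg.Agent.Lib.Helper10 in
/-- Let P be a finite non-abelian 2-group whose commutator subgroup has index 4 and whose automorphism group is not a 2-group (some automorphism has order that is not a power of 2). Then P is isomorphic to the quaternion group of order 8. -/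
theorem result {P : Type*} [Group P] [Finite P] (hP : IsPGroup 2 P) (hna : ¬ IsMulCommutative P) (h4 : (commutator P).index = 4) (haut : ¬ IsPGroup 2 (MulAut P)) : Nonempty (P ≃* QuaternionGroup 2) := by
  have : Fact (Nat.Prime 2) := ⟨Nat.prime_two⟩
  obtain ⟨n, hn⟩ := IsPGroup.iff_card.mp hP
  have hcomm_ne : commutator P ≠ ⊥ := commutator_ne_bot_of_not_comm hna
  have hn3 : 3 ≤ n := by
    have h1 := Subgroup.card_mul_index (commutator P)
    rw [h4, hn] at h1
    have h2 : 1 < Nat.card (commutator P) := (Subgroup.one_lt_card_iff_ne_bot _).mpr hcomm_ne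
    by_contra hlt
    push Not at hlt
    have : 2 ^ n ≤ 2 ^ 2 := Nat.pow_le_pow_right (by norm_num) (by omega)
    nlinarith
  have hab : Nat.card (P ⧸ commutator P) = 4 := by rw [← Subgroup.index_eq_card]; exact h4
  have hclass := maxClass_of_card_abelianization n hn3 P hn hab
  obtain ⟨C, hCcyc, hCidx⟩ := exists_cyclic_index_two n hn3 P hn hclass
  have hZ := card_center_of_maxClass (p := 2) n hn3 hn hclass
  have hCn : C.Normal := Subgroup.normal_of_index_eq_two hCidx
  -- automorphism of odd prime order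
  obtain ⟨α, r, hr, hr2, hαr, hα1⟩ :
      ∃ (α : MulAut P) (r : ℕ), r.Prime ∧ r ≠ 2 ∧ α ^ r = 1 ∧ α ≠ 1 := by
    rcases Nat.eq_two_pow_or_exists_odd_prime_and_dvd (Nat.card (MulAut P)) with
      ⟨k, hk⟩ | ⟨r, hr, hrd, hrodd⟩
    · exact absurd (IsPGroup.of_card hk) haut
    · have : Fact r.Prime := ⟨hr⟩
      obtain ⟨α, hα⟩ := exists_prime_orderOf_dvd_card' r hrd
      refine ⟨α, r, hr, ?_, ?_, ?_⟩
      · rintro rfl; exact absurd hrodd (by decide)
      · rw [← hα]; exact pow_orderOf_eq_one α
      · rintro rfl; rw [orderOf_one] at hα; exact hr.one_lt.ne hα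
  -- generator of C
  obtain ⟨⟨c, hcC⟩, hgen⟩ := hCcyc.exists_generator
  have hCeq : C = Subgroup.zpowers c := by
    apply le_antisymm
    · intro x hx
      obtain ⟨i, hi⟩ := Subgroup.mem_zpowers_iff.mp (hgen ⟨x, hx⟩)
      have := congrArg Subtype.val hi
      rw [Subgroup.mem_zpowers_iff]
      exact ⟨i, by simpa using this⟩
    · rw [Subgroup.zpowers_le]; exact hcC
  have hcardC : Nat.card C * 2 = 2 ^ n := by
    have := Subgroup.card_mul_index C
    rw [hCidx, hn] at this; exact this
  have hcardC' : Nat.card C = 2 ^ (n - 1) := by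
    have h1 : 2 ^ n = 2 ^ (n - 1) * 2 := by
      rw [← pow_succ]; congr 1; omega
    rw [h1] at hcardC
    exact Nat.eq_of_mul_eq_mul_right (by norm_num) hcardC
  have hoc : orderOf c = 2 ^ (n - 1) := by
    rw [← hcardC', hCeq, Nat.card_zpowers]
  have hidx2 : ∀ g : P, g ∉ C → ∀ g' : P, g' ∉ C → g⁻¹ * g' ∈ C := by
    intro g hg g' hg'
    rw [Subgroup.mul_mem_iff_of_index_two hCidx]
    exact iff_of_false (fun h => hg (by simpa using C.inv_mem h)) hg'
  -- Claim A
  have hA : α c ∉ C := by
    intro hαc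
    have hfix : α c = c :=
      apply_eq_self_of_map_zpowers α hr hr2 hαr c hoc (hCeq ▸ hαc)
    have hfixC : ∀ x ∈ C, α x = x := by
      intro x hx
      rw [hCeq] at hx
      obtain ⟨i, rfl⟩ := Subgroup.mem_zpowers_iff.mp hx
      rw [map_zpow, hfix]
    apply hα1
    ext x
    rw [MulAut.one_apply]
    by_cases hx : x ∈ C
    · exact hfixC x hx
    · have hαx : α x ∉ C := by
        intro h
        apply hx
        have h4 : ∀ j : ℕ, ∀ y ∈ C, (α ^ j) y = y := by
          intro j
          induction j with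
          | zero => intro y _; simp
          | succ j ih =>
            intro y hy
            rw [pow_succ', MulAut.mul_apply, ih y hy, hfixC y hy]
        have h5 : (α ^ (r - 1)) (α x) = α x := h4 _ _ h
        have h6 : (α ^ r) x = α x := by
          have : (α ^ (r - 1) * α) x = α x := by rw [MulAut.mul_apply]; exact h5
          rwa [← pow_succ, Nat.sub_add_cancel hr.one_lt.le] at this
        rw [hαr, MulAut.one_apply] at h6
        rw [h6]; exact h
      set k := x⁻¹ * α x with hk
      have hkC : k ∈ C := hidx2 x hx (α x) hαx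
      have hαk : α k = k := hfixC k hkC
      have hαx' : α x = x * k := by rw [hk]; group
      have hpow : ∀ j : ℕ, (α ^ j) x = x * k ^ j := by
        intro j
        induction j with
        | zero => simp
        | succ j ih =>
          rw [pow_succ', MulAut.mul_apply, ih, map_mul, map_pow, hαk, hαx', mul_assoc, ← pow_succ']
      have h1 := hpow r
      rw [hαr, MulAut.one_apply] at h1
      have h2 : k ^ r = 1 := by
        have : x * 1 = x * k ^ r := by rw [mul_one]; exact h1
        exact (mul_left_cancel this).symm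
      have h3 : orderOf k ∣ r := orderOf_dvd_of_pow_eq_one h2
      obtain ⟨j, hj⟩ := (hP.to_subgroup C) ⟨k, hkC⟩
      have h4 : orderOf k ∣ 2 ^ j := by
        apply orderOf_dvd_of_pow_eq_one
        have := congrArg Subtype.val hj
        simpa using this
      have h5 : Nat.Coprime r (2 ^ j) :=
        Nat.Coprime.pow_right _ ((Nat.coprime_primes hr Nat.prime_two).mpr hr2)
      have h6 : k = 1 := orderOf_eq_one_iff.mp (Nat.eq_one_of_dvd_coprimes h5 h3 h4)
      rw [hαx', h6, mul_one]
  set c' := α c with hc'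
  have hoc' : orderOf c' = 2 ^ (n - 1) := by rw [hc', MulEquiv.orderOf_eq, hoc]
  have hall : ∀ g : P, g ∈ Subgroup.zpowers c ∨ c'⁻¹ * g ∈ Subgroup.zpowers c := by
    intro g
    rw [← hCeq]
    by_cases hg : g ∈ C
    · left; exact hg
    · right; exact hidx2 c' hA g hg
  -- elements commuting with c and c' are central
  have hcentral : ∀ x : P, Commute x c → Commute x c' → x ∈ Subgroup.center P := by
    intro x hxc hxc'
    rw [Subgroup.mem_center_iff]
    intro g
    rcases hall g with hg | hg
    · obtain ⟨i, rfl⟩ := Subgroup.mem_zpowers_iff.mp hg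
      exact ((hxc.zpow_right i).eq).symm
    · obtain ⟨i, hi⟩ := Subgroup.mem_zpowers_iff.mp hg
      have hg' : g = c' * c ^ i := by rw [hi]; group
      rw [hg']
      exact ((hxc'.mul_right (hxc.zpow_right i)).eq).symm
  -- Claim B: n = 3
  have hn3' : n = 3 := by
    set D : Subgroup P := Subgroup.zpowers c ⊓ Subgroup.zpowers c' with hD
    have hDZ : D ≤ Subgroup.center P := by
      intro x hx
      apply hcentral x
      · obtain ⟨i, rfl⟩ := Subgroup.mem_zpowers_iff.mp hx.1
        exact (Commute.refl c).zpow_left i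
      · obtain ⟨i, rfl⟩ := Subgroup.mem_zpowers_iff.mp hx.2
        exact (Commute.refl c').zpow_left i
    have h1 : Nat.card D ≤ 2 := by
      rw [← hZ]; exact Nat.card_le_card_of_injective _ (Subgroup.inclusion_injective hDZ)
    have hidx' : (Subgroup.zpowers c').index = 2 := by
      have := Subgroup.card_mul_index (Subgroup.zpowers c')
      rw [Nat.card_zpowers, hoc', hn] at this
      have h2 : 2 ^ n = 2 ^ (n - 1) * 2 := by rw [← pow_succ]; congr 1; omega
      rw [h2] at this
      exact Nat.eq_of_mul_eq_mul_left (by positivity) this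
    have h2 : D.index ≤ 4 := by
      have := Subgroup.index_inf_le (H := Subgroup.zpowers c) (K := Subgroup.zpowers c')
      rw [← hCeq, hCidx, hidx'] at this
      rw [hD, ← hCeq]; exact this
    have h3 := Subgroup.card_mul_index D
    rw [hn] at h3
    have h4 : 2 ^ n ≤ 2 * 4 := by rw [← h3]; exact Nat.mul_le_mul h1 h2
    by_contra hne
    have : 2 ^ 4 ≤ 2 ^ n := Nat.pow_le_pow_right (by norm_num) (by omega)
    omega
  subst hn3'
  have hoc4 : orderOf c = 4 := by rw [hoc]; norm_num
  have hoc4' : orderOf c' = 4 := by rw [hoc']; norm_num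
  have hc4 : c ^ 4 = 1 := by rw [← hoc4]; exact pow_orderOf_eq_one c
  have hc'C : c' ∉ Subgroup.zpowers c := by rw [← hCeq]; exact hA
  -- elements of `zpowers c`
  have hmem : ∀ y ∈ Subgroup.zpowers c, y = 1 ∨ y = c ∨ y = c ^ 2 ∨ y = c ^ 3 := by
    intro y hy
    have hfin : IsOfFinOrder c := by rw [← orderOf_pos_iff, hoc4]; norm_num
    obtain ⟨m, hm⟩ := (Submonoid.mem_powers_iff _ _).mp (hfin.mem_powers_iff_mem_zpowers.mpr hy)
    rw [← pow_mod_orderOf, hoc4] at hm
    have hlt : m % 4 < 4 := Nat.mod_lt _ (by norm_num)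
    interval_cases (m % 4)
    · left; rw [← hm, pow_zero]
    · right; left; rw [← hm, pow_one]
    · right; right; left; exact hm.symm
    · right; right; right; exact hm.symm
  have ho2 : orderOf (c ^ 2) = 2 := by
    rw [orderOf_pow' c (by norm_num), hoc4]; norm_num
  have ho3 : orderOf (c ^ 3) = 4 := by
    rw [orderOf_pow' c (by norm_num), hoc4]; norm_num
  have hc3 : c ^ 3 = c⁻¹ := by
    rw [eq_inv_iff_mul_eq_one, ← pow_succ]; exact hc4
  -- conjugation
  have hinv : c' * c * c'⁻¹ = c⁻¹ := by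
    have h1 : c' * c * c'⁻¹ ∈ Subgroup.zpowers c := by
      rw [← hCeq]; exact hCn.conj_mem c hcC c'
    have h2 : orderOf (c' * c * c'⁻¹) = 4 := by
      have := (MulAut.conj c').orderOf_eq c
      simpa [hoc4] using this
    rcases hmem _ h1 with h3 | h3 | h3 | h3
    · rw [h3, orderOf_one] at h2; omega
    · exfalso
      apply hna
      have hcc' : Commute c' c := by
        have : c' * c = c * c' := by
          have e1 : c' * c = (c' * c * c'⁻¹) * c' := by group
          rw [e1, h3]
        exact this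
      have hZtop : ∀ x : P, x ∈ Subgroup.center P := by
        intro x
        rcases hall x with hx | hx
        · obtain ⟨i, rfl⟩ := Subgroup.mem_zpowers_iff.mp hx
          exact hcentral _ ((Commute.refl c).zpow_left i) ((hcc'.symm).zpow_left i)
        · obtain ⟨i, hi⟩ := Subgroup.mem_zpowers_iff.mp hx
          have hx' : x = c' * c ^ i := by rw [hi]; group
          rw [hx']
          exact hcentral _ (hcc'.mul_left ((Commute.refl c).zpow_left i))
            ((Commute.refl c').mul_left ((hcc'.symm).zpow_left i))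
      exact ⟨⟨fun a b => (Subgroup.mem_center_iff.mp (hZtop a) b).symm⟩⟩
    · rw [h3, ho2] at h2; omega
    · rw [h3, hc3]
  have hx2 : c' ^ 2 = c ^ 2 := by
    have h1 : c' ^ 2 ∈ Subgroup.zpowers c := by
      rw [← hCeq]; exact Subgroup.sq_mem_of_index_two hCidx c'
    have h2 : orderOf (c' ^ 2) = 2 := by
      rw [orderOf_pow' c' (by norm_num), hoc4']; norm_num
    rcases hmem _ h1 with h3 | h3 | h3 | h3
    · rw [h3, orderOf_one] at h2; omega
    · rw [h3, hoc4] at h2; omega
    · exact h3
    · rw [h3, ho3] at h2; omega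
  exact nonempty_mulEquiv_quaternionGroup 2 c c' (by rw [hoc4]) hinv hx2 hc'C hall

end Cfsg.Agent.S4189
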