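import Cfsg.Statements.S4196
import Mathlib
import Cfsg.Agent.S4195

set_option autoImplicit false
open Cfsg

namespace Cfsg.Agent.S4196

open scoped Pointwise

theorem two_elt_of_mem_sylow {G : Type*} [Group G] [Finite G] (P : Sylow 2 G) (x : G) (hx : x ∈ (P : Subgroup G)) :
    ∃ k : ℕ, orderOf x = 2 ^ k := by
  obtain ⟨k, hk⟩ := P.2 ⟨x, hx⟩
  have hk' : x ^ (2 ^ k) = 1 := by
    have := congrArg Subtype.val hk
    simpa using this
  have := orderOf_dvd_of_pow_eq_one hk'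
  obtain ⟨j, _, hj⟩ := (Nat.dvd_prime_pow Nat.prime_two).mp this
  exact ⟨j, hj⟩

/-- A 2-element lies in some Sylow 2-subgroup, which is a conjugate of P. -/
theorem exists_conj_mem_sylow {G : Type*} [Group G] [Finite G] (P : Sylow 2 G) (x : G)
    (hx : ∃ k : ℕ, orderOf x = 2 ^ k) :
    ∃ g : G, ∃ Q : Sylow 2 G, x ∈ (Q : Subgroup G) ∧ ∀ q : G, q ∈ (Q : Subgroup G) ↔ ∃ s ∈ (P : Subgroup G), g * s * g⁻¹ = q := by
  haveI : Fact (Nat.Prime 2) := ⟨Nat.prime_two⟩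
  obtain ⟨k, hk⟩ := hx
  have h1 : IsPGroup 2 (Subgroup.zpowers x) := IsPGroup.of_card (n := k) (by rw [Nat.card_zpowers, hk])
  obtain ⟨Q, hQ⟩ := h1.exists_le_sylow
  obtain ⟨g, hg⟩ := MulAction.exists_smul_eq G P Q
  refine ⟨g, Q, hQ (Subgroup.mem_zpowers x), ?_⟩
  intro q
  rw [← hg, Sylow.coe_subgroup_smul, Subgroup.mem_smul_pointwise_iff_exists]
  simp only [MulAut.smul_def, MulAut.conj_apply]

theorem result {G : Type*} [Group G] [Finite G] (P : Sylow 2 G) :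
    (IsMulCommutative (P : Subgroup G) ∧ ∀ x ∈ (P : Subgroup G), x ^ 2 = 1) ↔
      ∀ x : G, (∃ k : ℕ, orderOf x = 2 ^ k) → (∃ Q : Sylow 2 G, (Q : Subgroup G) ≤ Subgroup.centralizer ({x} : Set G)) ∧ IsConj x x⁻¹ := by
  constructor
  · rintro ⟨hcomm, hexp⟩ x hx
    obtain ⟨g, Q, hxQ, hQ⟩ := exists_conj_mem_sylow P x hx
    obtain ⟨s, hs, rfl⟩ := (hQ x).mp hxQ
    constructor
    · refine ⟨Q, ?_⟩
      intro q hq
      obtain ⟨t, ht, rfl⟩ := (hQ q).mp hq
      rw [Subgroup.mem_centralizer_iff]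
      intro h hh
      rw [Set.mem_singleton_iff] at hh
      subst hh
      have hst : s * t = t * s := by
        have := (isMulCommutative_iff.mp hcomm) ⟨s, hs⟩ ⟨t, ht⟩
        exact congrArg Subtype.val this
      calc g * s * g⁻¹ * (g * t * g⁻¹) = g * (s * t) * g⁻¹ := by group
        _ = g * (t * s) * g⁻¹ := by rw [hst]
        _ = g * t * g⁻¹ * (g * s * g⁻¹) := by group
    · have h2 : (g * s * g⁻¹) ^ 2 = 1 := by
        rw [conj_pow, hexp s hs]; group
      have h3 : (g * s * g⁻¹)⁻¹ = g * s * g⁻¹ := by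
        rw [inv_eq_iff_mul_eq_one, ← pow_two, h2]
      rw [h3]
  · intro h
    have hexp : ∀ x ∈ (P : Subgroup G), x ^ 2 = 1 := by
      intro x hx
      obtain ⟨⟨Q, hQ⟩, hreal⟩ := h x (two_elt_of_mem_sylow P x hx)
      by_cases hx1 : x = 1
      · rw [hx1]; simp
      · have := Cfsg.Agent.S4195.result x hx1 Q hQ hreal
        rw [← this, pow_orderOf_eq_one]
    refine ⟨?_, hexp⟩
    rw [isMulCommutative_iff]
    rintro ⟨a, ha⟩ ⟨b, hb⟩
    apply Subtype.ext
    show a * b = b * a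
    have h1 := hexp a ha
    have h2 := hexp b hb
    have h3 := hexp (a * b) (Subgroup.mul_mem _ ha hb)
    rw [pow_two] at h1 h2 h3
    have ha' : a⁻¹ = a := inv_eq_of_mul_eq_one_left h1
    have hb' : b⁻¹ = b := inv_eq_of_mul_eq_one_left h2
    have hab : (a * b)⁻¹ = a * b := inv_eq_of_mul_eq_one_left h3
    rw [← hab, mul_inv_rev, ha', hb']

end Cfsg.Agent.S4196
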