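import Cfsg.Statements.S4198
import Cfsg.Agent.Lib.Helper22.CycleTypeCount

set_option autoImplicit false
open Cfsg

namespace Cfsg.Agent.S4198

open Equiv Cfsg.Agent.Lib.Helper22.CycleTypeCount

/-- The cycle type of a conjugacy class of `S_n`. -/
def ctc (n : ℕ) : ConjClasses (Perm (Fin n)) → Multiset ℕ :=
  fun C => Quotient.liftOn C (fun g => g.cycleType)
    (fun _ _ h => Equiv.Perm.isConj_iff_cycleType_eq.1 h)

theorem ctc_mk (n : ℕ) (g : Perm (Fin n)) : ctc n (ConjClasses.mk g) = g.cycleType := rfl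

theorem ctc_injective (n : ℕ) : Function.Injective (ctc n) := by
  intro C D h
  obtain ⟨g, rfl⟩ := ConjClasses.exists_rep C
  obtain ⟨k, rfl⟩ := ConjClasses.exists_rep D
  rw [ctc_mk, ctc_mk] at h
  exact ConjClasses.mk_eq_mk_iff_isConj.2 (Equiv.Perm.isConj_iff_cycleType_eq.2 h)

theorem range_ctc (n : ℕ) : Set.range (ctc n) = CT n := by
  ext m
  constructor
  · rintro ⟨C, rfl⟩
    obtain ⟨g, rfl⟩ := ConjClasses.exists_rep C
    rw [ctc_mk]
    have := (Equiv.Perm.exists_with_cycleType_iff (Fin n)).1 ⟨g, rfl⟩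
    rw [Fintype.card_fin] at this
    exact ⟨this.2, this.1⟩
  · rintro ⟨h1, h2⟩
    have := (Equiv.Perm.exists_with_cycleType_iff (Fin n) (m := m)).2
      ⟨by rw [Fintype.card_fin]; exact h2, h1⟩
    obtain ⟨g, hg⟩ := this
    exact ⟨ConjClasses.mk g, by rw [ctc_mk, hg]⟩

theorem card_conjClasses_perm (n : ℕ) :
    Nat.card (ConjClasses (Perm (Fin n))) = (CT n).ncard := by
  rw [← range_ctc, ← Set.image_univ, Set.ncard_image_of_injective _ (ctc_injective n),
    Set.ncard_univ]

theorem sign_eq_one_iff (n : ℕ) (g : Perm (Fin n)) :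
    Equiv.Perm.sign g = 1 ↔ Even (g.cycleType.sum + Multiset.card g.cycleType) := by
  rw [Equiv.Perm.sign_of_cycleType]
  exact neg_one_pow_eq_one_iff_even (by decide)

/-- The map on conjugacy classes induced by the inclusion `A_n ≤ S_n`. -/
def φ (n : ℕ) : ConjClasses (alternatingGroup (Fin n)) → ConjClasses (Perm (Fin n)) :=
  ConjClasses.map (alternatingGroup (Fin n)).subtype

theorem φ_mk (n : ℕ) (a : alternatingGroup (Fin n)) :
    φ n (ConjClasses.mk a) = ConjClasses.mk (a : Perm (Fin n)) := rfl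

/-- A fixed odd permutation. -/
def τ (n : ℕ) (hn : 5 ≤ n) : Perm (Fin n) := Equiv.swap ⟨0, by omega⟩ ⟨1, by omega⟩

theorem sign_τ (n : ℕ) (hn : 5 ≤ n) : Equiv.Perm.sign (τ n hn) = -1 := by
  unfold τ
  apply Equiv.Perm.sign_swap
  intro h
  have := congrArg Fin.val h
  simp at this

theorem sign_conj (n : ℕ) (x g : Perm (Fin n)) :
    Equiv.Perm.sign (x * g * x⁻¹) = Equiv.Perm.sign g := by
  rw [Equiv.Perm.sign_mul, Equiv.Perm.sign_mul, Equiv.Perm.sign_inv, mul_comm, ← mul_assoc]
  rcases Int.units_eq_one_or (Equiv.Perm.sign x) with h | h <;> simp [h]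

theorem fiber_odd (n : ℕ) (g : Perm (Fin n)) (hg : Equiv.Perm.sign g ≠ 1)
    (D : ConjClasses (alternatingGroup (Fin n))) : φ n D ≠ ConjClasses.mk g := by
  obtain ⟨a, rfl⟩ := ConjClasses.exists_rep D
  rw [φ_mk, Ne, ConjClasses.mk_eq_mk_iff_isConj, isConj_iff]
  rintro ⟨c, hc⟩
  apply hg
  rw [← hc, sign_conj]
  exact Equiv.Perm.mem_alternatingGroup.1 a.2

theorem fiber_even (n : ℕ) (hn : 5 ≤ n) (g : Perm (Fin n)) (hg : Equiv.Perm.sign g = 1)
    (D : ConjClasses (alternatingGroup (Fin n))) (hD : φ n D = ConjClasses.mk g) :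
    D = ConjClasses.mk ⟨g, Equiv.Perm.mem_alternatingGroup.2 hg⟩ ∨
    D = ConjClasses.mk ⟨τ n hn * g * (τ n hn)⁻¹,
      Equiv.Perm.mem_alternatingGroup.2 (by rw [sign_conj]; exact hg)⟩ := by
  obtain ⟨a, rfl⟩ := ConjClasses.exists_rep D
  rw [φ_mk, ConjClasses.mk_eq_mk_iff_isConj, isConj_comm, isConj_iff] at hD
  obtain ⟨x, hx⟩ := hD
  rcases Int.units_eq_one_or (Equiv.Perm.sign x) with h | h
  · left
    symm
    rw [ConjClasses.mk_eq_mk_iff_isConj, isConj_iff]
    refine ⟨⟨x, Equiv.Perm.mem_alternatingGroup.2 h⟩, ?_⟩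
    apply Subtype.ext
    simpa using hx
  · right
    symm
    rw [ConjClasses.mk_eq_mk_iff_isConj, isConj_iff]
    refine ⟨⟨x * (τ n hn)⁻¹, Equiv.Perm.mem_alternatingGroup.2 ?_⟩, ?_⟩
    · rw [Equiv.Perm.sign_mul, Equiv.Perm.sign_inv, h, sign_τ]
      decide
    · apply Subtype.ext
      simp only [Subgroup.coe_mul, Subgroup.coe_inv]
      rw [← hx]
      group

theorem fiber_nonsplit (n : ℕ) (hn : 5 ≤ n) (g : Perm (Fin n)) (hg : Equiv.Perm.sign g = 1)
    (hns : ¬ Subgroup.centralizer {g} ≤ alternatingGroup (Fin n))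
    (D : ConjClasses (alternatingGroup (Fin n))) (hD : φ n D = ConjClasses.mk g) :
    D = ConjClasses.mk ⟨g, Equiv.Perm.mem_alternatingGroup.2 hg⟩ := by
  rcases fiber_even n hn g hg D hD with h | h
  · exact h
  · rw [h]
    obtain ⟨z, hz, hzA⟩ := SetLike.not_le_iff_exists.1 hns
    have hzs : Equiv.Perm.sign z = -1 := by
      rcases Int.units_eq_one_or (Equiv.Perm.sign z) with h1 | h1
      · exact absurd (Equiv.Perm.mem_alternatingGroup.2 h1) hzA
      · exact h1
    rw [Subgroup.mem_centralizer_singleton_iff] at hz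
    symm
    rw [ConjClasses.mk_eq_mk_iff_isConj, isConj_iff]
    refine ⟨⟨τ n hn * z, Equiv.Perm.mem_alternatingGroup.2 ?_⟩, ?_⟩
    · rw [Equiv.Perm.sign_mul, hzs, sign_τ]
      decide
    · apply Subtype.ext
      simp only [Subgroup.coe_mul, Subgroup.coe_inv, mul_inv_rev]
      have e : τ n hn * z * g * (z⁻¹ * (τ n hn)⁻¹) = τ n hn * (z * g * z⁻¹) * (τ n hn)⁻¹ := by
        group
      rw [e, hz, mul_inv_cancel_right]

theorem split_of_mem_Dset_compl (n : ℕ) (g : Perm (Fin n))
    (h : g.cycleType ∉ Dset n) : ¬ Subgroup.centralizer {g} ≤ alternatingGroup (Fin n) := by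
  intro hle
  apply h
  have h1 := Equiv.Perm.centralizer_le_alternating_iff.1 hle
  have h2 : g.cycleType ∈ CT n := by
    rw [← range_ctc]
    exact ⟨ConjClasses.mk g, rfl⟩
  rw [Fintype.card_fin] at h1
  exact ⟨h2, h1.1, Multiset.nodup_iff_count_le_one.2 h1.2.2, h1.2.1⟩

theorem card_alt_lt (n : ℕ) (hn : 5 ≤ n) :
    Nat.card (ConjClasses (alternatingGroup (Fin n))) < Nat.card (ConjClasses (Perm (Fin n))) := by
  classical
  have : Fintype (ConjClasses (Perm (Fin n))) := Fintype.ofFinite _
  have : Fintype (ConjClasses (alternatingGroup (Fin n))) := Fintype.ofFinite _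
  rw [Nat.card_eq_fintype_card, Nat.card_eq_fintype_card]
  set ev : ConjClasses (Perm (Fin n)) → Prop :=
    fun C => Even ((ctc n C).sum + Multiset.card (ctc n C)) with hev
  set sp : ConjClasses (Perm (Fin n)) → Prop := fun C => ctc n C ∈ Dset n with hsp
  have hfib : ∀ C : ConjClasses (Perm (Fin n)),
      (Finset.univ.filter (fun D => φ n D = C)).card ≤
        (if ev C then 1 else 0) + (if sp C then 1 else 0) := by
    intro C
    obtain ⟨g, rfl⟩ := ConjClasses.exists_rep C
    by_cases hg : Equiv.Perm.sign g = 1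
    · have hevg : ev (ConjClasses.mk g) := by
        show Even _
        rw [ctc_mk]
        exact (sign_eq_one_iff n g).1 hg
      rw [if_pos hevg]
      by_cases hs : sp (ConjClasses.mk g)
      · rw [if_pos hs]
        have hsub : (Finset.univ.filter (fun D => φ n D = ConjClasses.mk g)) ⊆
            {ConjClasses.mk ⟨g, Equiv.Perm.mem_alternatingGroup.2 hg⟩,
             ConjClasses.mk ⟨τ n hn * g * (τ n hn)⁻¹,
               Equiv.Perm.mem_alternatingGroup.2 (by rw [sign_conj]; exact hg)⟩} := by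
          intro D hD
          rw [Finset.mem_filter] at hD
          rw [Finset.mem_insert, Finset.mem_singleton]
          exact fiber_even n hn g hg D hD.2
        exact (Finset.card_le_card hsub).trans Finset.card_le_two
      · rw [if_neg hs]
        have hns := split_of_mem_Dset_compl n g hs
        have hsub : (Finset.univ.filter (fun D => φ n D = ConjClasses.mk g)) ⊆
            {ConjClasses.mk ⟨g, Equiv.Perm.mem_alternatingGroup.2 hg⟩} := by
          intro D hD
          rw [Finset.mem_filter] at hD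
          rw [Finset.mem_singleton]
          exact fiber_nonsplit n hn g hg hns D hD.2
        exact (Finset.card_le_card hsub).trans (by simp)
    · have : (Finset.univ.filter (fun D => φ n D = ConjClasses.mk g)) = ∅ := by
        rw [Finset.filter_eq_empty_iff]
        intro D _
        exact fiber_odd n g hg D
      rw [this]
      simp
  have h1 : Fintype.card (ConjClasses (alternatingGroup (Fin n))) =
      ∑ C : ConjClasses (Perm (Fin n)), (Finset.univ.filter (fun D => φ n D = C)).card := by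
    rw [← Finset.card_univ]
    exact Finset.card_eq_sum_card_fiberwise (fun _ _ => Finset.mem_coe.2 (Finset.mem_univ _))
  have h2 : ∑ C : ConjClasses (Perm (Fin n)), ((if ev C then 1 else 0) + (if sp C then 1 else 0)) =
      (Finset.univ.filter ev).card + (Finset.univ.filter sp).card := by
    rw [Finset.sum_add_distrib, Finset.sum_boole, Finset.sum_boole]
    simp
  have h3 : (Finset.univ.filter ev).card + (Finset.univ.filter (fun C => ¬ ev C)).card =
      Fintype.card (ConjClasses (Perm (Fin n))) := by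
    rw [← Finset.card_univ]
    exact Finset.card_filter_add_card_filter_not _
  have h4 : (Finset.univ.filter sp).card < (Finset.univ.filter (fun C => ¬ ev C)).card := by
    rw [← Set.ncard_coe_finset, ← Set.ncard_coe_finset]
    have e1 : ((Finset.univ.filter sp : Finset (ConjClasses (Perm (Fin n)))) : Set _) =
        {C | sp C} := by ext; simp
    have e2 : ((Finset.univ.filter (fun C => ¬ ev C) : Finset (ConjClasses (Perm (Fin n)))) :
        Set _) = {C | ¬ ev C} := by ext; simp
    rw [e1, e2, ← Set.ncard_image_of_injective _ (ctc_injective n),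
      ← Set.ncard_image_of_injective {C | ¬ ev C} (ctc_injective n)]
    have hDfin : (Dset n).Finite := (CT_finite n).subset fun _ h => h.1
    have i1 : (ctc n '' {C | sp C}).ncard ≤ (Dset n).ncard := by
      apply Set.ncard_le_ncard _ hDfin
      rintro m ⟨C, hC, rfl⟩
      exact hC
    have i2 : ctc n '' {C | ¬ ev C} = Oset n := by
      ext m
      constructor
      · rintro ⟨C, hC, rfl⟩
        refine ⟨?_, Nat.not_even_iff_odd.1 hC⟩
        rw [← range_ctc]
        exact ⟨C, rfl⟩
      · rintro ⟨hm, hodd⟩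
        rw [← range_ctc] at hm
        obtain ⟨C, rfl⟩ := hm
        exact ⟨C, Nat.not_even_iff_odd.2 hodd, rfl⟩
    rw [i2]
    exact lt_of_le_of_lt i1 (ncard_Dset_lt n hn)
  have h5 := Finset.sum_le_sum (fun C (_ : C ∈ Finset.univ) => hfib C)
  rw [h2] at h5
  omega

/-- For n ≥ 5: k(A_n) < k(S_n) ≤ 2^(n−2). -/
theorem result (n : ℕ) (hn : 5 ≤ n) : Nat.card (ConjClasses (alternatingGroup (Fin n))) < Nat.card (ConjClasses (Equiv.Perm (Fin n))) ∧ Nat.card (ConjClasses (Equiv.Perm (Fin n))) ≤ 2 ^ (n - 2) := by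
  refine ⟨card_alt_lt n hn, ?_⟩
  rw [card_conjClasses_perm]
  exact ncard_CT_le n hn

end Cfsg.Agent.S4198
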