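import Cfsg.Statements.S4200
import Mathlib

set_option autoImplicit false
open Cfsg

namespace Cfsg.Agent.S4200

variable {X : Type*} [Group X] (Y : Subgroup X)

open Classical in
/-- a chosen element of the left coset `q` commuting with `w` (or `1` if there is none) -/
noncomputable def pick (q : X ⧸ Y) (w : X) : X :=
  if h : ∃ t : X, (QuotientGroup.mk t : X ⧸ Y) = q ∧ Commute t w then h.choose else 1

theorem pick_spec (q : X ⧸ Y) (w : X) (h : ∃ t : X, (QuotientGroup.mk t : X ⧸ Y) = q ∧ Commute t w) :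
    (QuotientGroup.mk (pick Y q w) : X ⧸ Y) = q ∧ Commute (pick Y q w) w := by
  unfold pick
  rw [dif_pos h]
  exact h.choose_spec

noncomputable def nOf (u v : X) : X := (pick Y (QuotientGroup.mk v) u)⁻¹ * v

noncomputable def mOf (u v : X) : X := (pick Y (QuotientGroup.mk u) (nOf Y u v))⁻¹ * u

theorem nOf_mem (u v : X) (h : Commute u v) : nOf Y u v ∈ Y ∧ Commute u (nOf Y u v) := by
  have hs := pick_spec Y (QuotientGroup.mk v) u ⟨v, rfl, h.symm⟩
  constructor
  · unfold nOf
    exact QuotientGroup.eq.mp hs.1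
  · unfold nOf
    exact (hs.2.symm.inv_right).mul_right h

theorem mOf_mem (u v : X) (h : Commute u v) : mOf Y u v ∈ Y ∧ Commute (mOf Y u v) (nOf Y u v) := by
  have hn := nOf_mem Y u v h
  have hs := pick_spec Y (QuotientGroup.mk u) (nOf Y u v) ⟨u, rfl, hn.2⟩
  constructor
  · unfold mOf
    exact QuotientGroup.eq.mp hs.1
  · unfold mOf
    exact (hs.2.inv_left).mul_left hn.2

/-- the injection of commuting pairs -/
noncomputable def Φ : {p : X × X // Commute p.1 p.2} →
    ((X ⧸ Y) × (X ⧸ Y)) × {p : Y × Y // Commute p.1 p.2} :=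
  fun p => ((QuotientGroup.mk p.1.1, QuotientGroup.mk p.1.2),
    ⟨(⟨mOf Y p.1.1 p.1.2, (mOf_mem Y _ _ p.2).1⟩, ⟨nOf Y p.1.1 p.1.2, (nOf_mem Y _ _ p.2).1⟩),
      Subtype.ext (mOf_mem Y _ _ p.2).2.eq⟩)

theorem Φ_injective : Function.Injective (Φ Y) := by
  rintro ⟨⟨u, v⟩, huv⟩ ⟨⟨u', v'⟩, huv'⟩ h
  have hu : (QuotientGroup.mk u : X ⧸ Y) = QuotientGroup.mk u' := congrArg (fun z => z.1.1) h
  have hv : (QuotientGroup.mk v : X ⧸ Y) = QuotientGroup.mk v' := congrArg (fun z => z.1.2) h
  have hm : mOf Y u v = mOf Y u' v' := congrArg (fun z => (z.2.1.1 : X)) h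
  have hn : nOf Y u v = nOf Y u' v' := congrArg (fun z => (z.2.1.2 : X)) h
  have hu' : u = u' := by
    have e1 : u = pick Y (QuotientGroup.mk u) (nOf Y u v) * mOf Y u v := by unfold mOf; group
    have e2 : u' = pick Y (QuotientGroup.mk u') (nOf Y u' v') * mOf Y u' v' := by unfold mOf; group
    rw [e1, e2, hu, hm, hn]
  subst hu'
  have hv' : v = v' := by
    have e1 : v = pick Y (QuotientGroup.mk v) u * nOf Y u v := by unfold nOf; group
    have e2 : v' = pick Y (QuotientGroup.mk v') u * nOf Y u v' := by unfold nOf; group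
    rw [e1, e2, hv, hn]
  subst hv'
  rfl

theorem result {X : Type*} [Group X] [Finite X] (Y : Subgroup X) : Nat.card (ConjClasses Y) ≤ Y.index * Nat.card (ConjClasses X) ∧ Nat.card (ConjClasses X) ≤ Y.index * Nat.card (ConjClasses Y) ∧ (¬ Y.Normal → Nat.card (ConjClasses X) < Y.index * Nat.card (ConjClasses Y)) := by
  classical
  have hXY : Nat.card Y * Y.index = Nat.card X := Y.card_mul_index
  have hYpos : 0 < Nat.card Y := Nat.card_pos
  have hXpos : 0 < Nat.card X := Nat.card_pos
  -- cardinality of the target of Φ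
  have htarget : Nat.card (((X ⧸ Y) × (X ⧸ Y)) × {p : Y × Y // Commute p.1 p.2}) =
      Y.index * Y.index * (Nat.card (ConjClasses Y) * Nat.card Y) := by
    rw [Nat.card_prod, Nat.card_prod, card_comm_eq_card_conjClasses_mul_card]
    rfl
  have hsource : Nat.card {p : X × X // Commute p.1 p.2} = Nat.card (ConjClasses X) * Nat.card X :=
    card_comm_eq_card_conjClasses_mul_card X
  have hrel : Y.index * Y.index * (Nat.card (ConjClasses Y) * Nat.card Y) =
      (Y.index * Nat.card (ConjClasses Y)) * Nat.card X := by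
    rw [← hXY]; ring
  refine ⟨?_, ?_, ?_⟩
  · -- Comm(Y) embeds in Comm(X)
    let ι : {p : Y × Y // Commute p.1 p.2} → {p : X × X // Commute p.1 p.2} :=
      fun p => ⟨((p.1.1 : X), (p.1.2 : X)), by
        have := p.2
        exact congrArg Subtype.val this.eq⟩
    have hι : Function.Injective ι := by
      rintro ⟨⟨a, b⟩, hab⟩ ⟨⟨a', b'⟩, hab'⟩ h
      have h1 : (a : X) = a' := congrArg (fun z => z.1.1) h
      have h2 : (b : X) = b' := congrArg (fun z => z.1.2) h
      have h1' : a = a' := Subtype.ext h1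
      have h2' : b = b' := Subtype.ext h2
      subst h1' h2'
      rfl
    have h1 := Nat.card_le_card_of_injective ι hι
    rw [hsource, card_comm_eq_card_conjClasses_mul_card] at h1
    have h2 : Nat.card (ConjClasses Y) * Nat.card Y ≤ (Y.index * Nat.card (ConjClasses X)) * Nat.card Y := by
      calc Nat.card (ConjClasses Y) * Nat.card Y ≤ Nat.card (ConjClasses X) * Nat.card X := h1
        _ = (Y.index * Nat.card (ConjClasses X)) * Nat.card Y := by rw [← hXY]; ring
    exact Nat.le_of_mul_le_mul_right h2 hYpos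
  · have h1 := Nat.card_le_card_of_injective (Φ Y) (Φ_injective Y)
    rw [hsource, htarget, hrel] at h1
    exact Nat.le_of_mul_le_mul_right h1 hXpos
  · intro hnn
    by_contra hlt
    push Not at hlt
    have hle : Nat.card (ConjClasses X) ≤ Y.index * Nat.card (ConjClasses Y) := by
      have h1 := Nat.card_le_card_of_injective (Φ Y) (Φ_injective Y)
      rw [hsource, htarget, hrel] at h1
      exact Nat.le_of_mul_le_mul_right h1 hXpos
    have heq : Nat.card (ConjClasses X) = Y.index * Nat.card (ConjClasses Y) := le_antisymm hle hlt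
    have hcard : Nat.card {p : X × X // Commute p.1 p.2} =
        Nat.card (((X ⧸ Y) × (X ⧸ Y)) × {p : Y × Y // Commute p.1 p.2}) := by
      rw [hsource, htarget, hrel, heq]
    have hbij : Function.Bijective (Φ Y) :=
      (Function.Injective.bijective_of_nat_card_le (Φ_injective Y) hcard.ge)
    apply hnn
    constructor
    intro y hy x
    -- find u in the coset x⁻¹Y commuting with y
    obtain ⟨⟨⟨u, v⟩, huv⟩, hΦ⟩ := hbij.2 ((QuotientGroup.mk x⁻¹, QuotientGroup.mk 1),
      ⟨((1 : Y), ⟨y, hy⟩), Commute.one_left _⟩)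
    have hu : (QuotientGroup.mk u : X ⧸ Y) = QuotientGroup.mk x⁻¹ := congrArg (fun z => z.1.1) hΦ
    have hn : nOf Y u v = y := congrArg (fun z => (z.2.1.2 : X)) hΦ
    have hcomm : Commute u y := hn ▸ (nOf_mem Y u v huv).2
    have hmem : (x⁻¹)⁻¹ * u ∈ Y := QuotientGroup.eq.mp hu.symm
    rw [inv_inv] at hmem
    -- x y x⁻¹ = (x u) y (x u)⁻¹
    have : x * y * x⁻¹ = (x * u) * y * (x * u)⁻¹ := by
      have e : u * y * u⁻¹ = y := by rw [hcomm.eq]; group
      calc x * y * x⁻¹ = x * (u * y * u⁻¹) * x⁻¹ := by rw [e]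
        _ = (x * u) * y * (x * u)⁻¹ := by group
    rw [this]
    exact Y.mul_mem (Y.mul_mem hmem hy) (Y.inv_mem hmem)

end Cfsg.Agent.S4200
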