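import Cfsg.Statements.S4201
import Mathlib

set_option autoImplicit false
open Cfsg

namespace Cfsg.Agent.S4201

variable {X : Type*} [Group X] (N : Subgroup X) [N.Normal]

open Classical in
/-- a chosen element of the coset `q` commuting with `w` (or `1` if there is none) -/
noncomputable def pick (q : X ⧸ N) (w : X) : X :=
  if h : ∃ t : X, (QuotientGroup.mk t : X ⧸ N) = q ∧ Commute t w then h.choose else 1

theorem pick_spec (q : X ⧸ N) (w : X) (h : ∃ t : X, (QuotientGroup.mk t : X ⧸ N) = q ∧ Commute t w) :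
    (QuotientGroup.mk (pick N q w) : X ⧸ N) = q ∧ Commute (pick N q w) w := by
  unfold pick
  rw [dif_pos h]
  exact h.choose_spec

/-- for a commuting pair `(u, v)`, the component `n = v₀⁻¹ v ∈ N` -/
noncomputable def nOf (u v : X) : X := (pick N (QuotientGroup.mk v) u)⁻¹ * v

/-- for a commuting pair `(u, v)`, the component `m = u₀⁻¹ u ∈ N` -/
noncomputable def mOf (u v : X) : X := (pick N (QuotientGroup.mk u) (nOf N u v))⁻¹ * u

theorem nOf_mem (u v : X) (h : Commute u v) : nOf N u v ∈ N ∧ Commute u (nOf N u v) := by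
  have hs := pick_spec N (QuotientGroup.mk v) u ⟨v, rfl, h.symm⟩
  constructor
  · unfold nOf
    exact QuotientGroup.eq.mp hs.1
  · unfold nOf
    exact (hs.2.symm.inv_right).mul_right h

theorem mOf_mem (u v : X) (h : Commute u v) : mOf N u v ∈ N ∧ Commute (mOf N u v) (nOf N u v) := by
  have hn := nOf_mem N u v h
  have hs := pick_spec N (QuotientGroup.mk u) (nOf N u v) ⟨u, rfl, hn.2⟩
  constructor
  · unfold mOf
    exact QuotientGroup.eq.mp hs.1
  · unfold mOf
    exact (hs.2.inv_left).mul_left hn.2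

theorem result {X : Type*} [Group X] [Finite X] (N : Subgroup X) [N.Normal] : Nat.card (ConjClasses X) ≤ Nat.card (ConjClasses N) * Nat.card (ConjClasses (X ⧸ N)) := by
  classical
  let Φ : {p : X × X // Commute p.1 p.2} →
      {p : (X ⧸ N) × (X ⧸ N) // Commute p.1 p.2} × {p : N × N // Commute p.1 p.2} :=
    fun p => (⟨(QuotientGroup.mk p.1.1, QuotientGroup.mk p.1.2), p.2.map (QuotientGroup.mk' N)⟩,
      ⟨(⟨mOf N p.1.1 p.1.2, (mOf_mem N _ _ p.2).1⟩, ⟨nOf N p.1.1 p.1.2, (nOf_mem N _ _ p.2).1⟩),
        by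
          have := (mOf_mem N _ _ p.2).2
          exact Subtype.ext this.eq⟩)
  have hΦ : Function.Injective Φ := by
    rintro ⟨⟨u, v⟩, huv⟩ ⟨⟨u', v'⟩, huv'⟩ h
    have hu : (QuotientGroup.mk u : X ⧸ N) = QuotientGroup.mk u' := congrArg (fun z => z.1.1.1) h
    have hv : (QuotientGroup.mk v : X ⧸ N) = QuotientGroup.mk v' := congrArg (fun z => z.1.1.2) h
    have hm : mOf N u v = mOf N u' v' := congrArg (fun z => (z.2.1.1 : X)) h
    have hn : nOf N u v = nOf N u' v' := congrArg (fun z => (z.2.1.2 : X)) h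
    have hu' : u = u' := by
      have e1 : u = pick N (QuotientGroup.mk u) (nOf N u v) * mOf N u v := by unfold mOf; group
      have e2 : u' = pick N (QuotientGroup.mk u') (nOf N u' v') * mOf N u' v' := by unfold mOf; group
      rw [e1, e2, hu, hm, hn]
    subst hu'
    have hv' : v = v' := by
      have e1 : v = pick N (QuotientGroup.mk v) u * nOf N u v := by unfold nOf; group
      have e2 : v' = pick N (QuotientGroup.mk v') u * nOf N u v' := by unfold nOf; group
      rw [e1, e2, hv, hn]
    subst hv'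
    rfl
  have h1 := Nat.card_le_card_of_injective Φ hΦ
  rw [Nat.card_prod, card_comm_eq_card_conjClasses_mul_card, card_comm_eq_card_conjClasses_mul_card,
    card_comm_eq_card_conjClasses_mul_card] at h1
  have h2 : Nat.card X = Nat.card (X ⧸ N) * Nat.card N := N.card_eq_card_quotient_mul_card_subgroup
  have h3 : Nat.card (ConjClasses X) * Nat.card X ≤
      (Nat.card (ConjClasses N) * Nat.card (ConjClasses (X ⧸ N))) * Nat.card X := by
    calc Nat.card (ConjClasses X) * Nat.card X
        ≤ Nat.card (ConjClasses (X ⧸ N)) * Nat.card (X ⧸ N) * (Nat.card (ConjClasses N) * Nat.card N) := h1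
      _ = (Nat.card (ConjClasses N) * Nat.card (ConjClasses (X ⧸ N))) * Nat.card X := by rw [h2]; ring
  exact Nat.le_of_mul_le_mul_right h3 Nat.card_pos

end Cfsg.Agent.S4201
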