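import Cfsg.Statements.S4203
import Cfsg.Agent.Lib.Helper2.BurnsidePQ

set_option autoImplicit false
open Cfsg

namespace Cfsg.Agent.S4203

open Subgroup

/-- If a subgroup `M` contains the normalizer of a Sylow `p`-subgroup then `[G : M] ≡ 1 mod p`. -/
theorem index_modEq_one {G : Type*} [Group G] [Finite G] {p : ℕ} [Fact p.Prime] (P : Sylow p G)
    (M : Subgroup G) (hM : normalizer ((P : Subgroup G) : Set G) ≤ M) : M.index ≡ 1 [MOD p] := by
  have hPM : (P : Subgroup G) ≤ M := le_normalizer.trans hM
  have h1 : Nat.card (Sylow p G) = (normalizer ((P : Subgroup G) : Set G)).index :=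
    Sylow.card_eq_index_normalizer P
  have h2 : Nat.card (Sylow p M) = (normalizer (((P.subtype hPM : Sylow p M) : Subgroup M) : Set M)).index :=
    Sylow.card_eq_index_normalizer (P.subtype hPM)
  have h3 : (normalizer (((P.subtype hPM : Sylow p M) : Subgroup M) : Set M)).index =
      (normalizer ((P : Subgroup G) : Set G)).relIndex M := by
    rw [Sylow.coe_subtype, ← subgroupOf_normalizer_eq hPM]
    rfl
  have h4 := relIndex_mul_index hM
  have ha := card_sylow_modEq_one p G
  have hb := card_sylow_modEq_one p M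
  rw [h1, ← h4] at ha
  rw [h2, h3] at hb
  have h5 : (normalizer ((P : Subgroup G) : Set G)).relIndex M * M.index ≡ 1 * M.index [MOD p] :=
    Nat.ModEq.mul_right _ hb
  rw [one_mul] at h5
  exact h5.symm.trans ha

/-- arithmetic: a prime `q ≤ p` with `q` or `q²` congruent to `1` mod the prime `p` forces `p = 3`. -/
theorem arith_key {p q i : ℕ} (hp : p.Prime) (hq : q.Prime) (hqp : q ≤ p)
    (hi : i = q ∨ i = q ^ 2) (hmod : i ≡ 1 [MOD p]) : p = 3 := by
  have hp2 := hp.two_le
  have hq2 := hq.two_le
  rcases hi with rfl | rfl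
  · exfalso
    rcases Nat.lt_or_ge i p with hlt | hge
    · have h1 : i % p = 1 % p := hmod
      rw [Nat.mod_eq_of_lt hlt, Nat.mod_eq_of_lt (by omega)] at h1
      omega
    · have : i = p := le_antisymm hqp hge
      subst this
      have h1 : i % i = 1 % i := hmod
      rw [Nat.mod_self, Nat.mod_eq_of_lt (by omega)] at h1
      omega
  · have h1 : p ∣ q ^ 2 - 1 := (Nat.modEq_iff_dvd' (by nlinarith)).mp hmod.symm
    have h2 : q ^ 2 - 1 = (q - 1) * (q + 1) := by
      obtain ⟨k, rfl⟩ : ∃ k, q = k + 1 := ⟨q - 1, by omega⟩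
      simp only [Nat.add_sub_cancel]
      have : (k + 1) ^ 2 = k * (k + 1 + 1) + 1 := by ring
      rw [this, Nat.add_sub_cancel]
    rw [h2] at h1
    rcases (Nat.Prime.dvd_mul hp).mp h1 with h3 | h3
    · exfalso
      have := Nat.le_of_dvd (by omega) h3
      omega
    · have h4 := Nat.le_of_dvd (by omega) h3
      have hqp1 : q + 1 = p ∨ q = p := by omega
      rcases hqp1 with h5 | h5
      · -- consecutive primes
        rcases Nat.Prime.eq_two_or_odd hq with h6 | h6
        · omega
        · rcases Nat.Prime.eq_two_or_odd hp with h7 | h7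
          · omega
          · omega
      · exfalso
        subst h5
        have : q ∣ 1 := (Nat.dvd_add_right (dvd_refl q)).mp h3
        have := Nat.le_of_dvd one_pos this
        omega

theorem card_eq_two_pow_mul_three_pow {n : ℕ} (hn : n ≠ 0)
    (h : ∀ r : ℕ, r.Prime → r ∣ n → r = 2 ∨ r = 3) : ∃ a b : ℕ, n = 2 ^ a * 3 ^ b := by
  obtain ⟨a, m, hm, rfl⟩ := Nat.exists_eq_two_pow_mul_odd hn
  have hm0 : m ≠ 0 := by rintro rfl; simp at hn
  obtain ⟨b, m', hm', rfl⟩ := Nat.exists_eq_pow_mul_and_not_dvd hm0 3 (by norm_num)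
  have hm1 : m' = 1 := by
    rw [Nat.eq_one_iff_not_exists_prime_dvd]
    intro r hr hrm
    rcases h r hr (Dvd.dvd.mul_left (Dvd.dvd.mul_left hrm _) _) with rfl | rfl
    · have : ¬ Odd (3 ^ b * m') := by
        rw [Nat.not_odd_iff_even]
        exact (even_iff_two_dvd.mpr hrm).mul_left _
      exact this hm
    · exact hm' hrm
  exact ⟨a, b, by rw [hm1, mul_one]⟩

theorem isCoatom_comap {G : Type*} [Group G] (N : Subgroup G) [N.Normal]
    (M : Subgroup (G ⧸ N)) (hM : IsCoatom M) : IsCoatom (M.comap (QuotientGroup.mk' N)) := by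
  have hsurj := QuotientGroup.mk'_surjective N
  constructor
  · intro h
    apply hM.1
    rw [← Subgroup.map_comap_eq_self_of_surjective hsurj M, h, ← MonoidHom.range_eq_map,
      MonoidHom.range_eq_top.mpr hsurj]
  · intro K hK
    have hNK : N ≤ K := by
      refine le_trans ?_ hK.le
      conv_lhs => rw [← QuotientGroup.ker_mk' N]
      exact MonoidHom.ker_le_comap _ _
    have h1 : M < K.map (QuotientGroup.mk' N) := by
      rw [← Subgroup.comap_lt_comap_of_surjective hsurj, QuotientGroup.comap_map_mk',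
        sup_of_le_right hNK]
      exact hK
    have h2 := hM.2 _ h1
    have h3 := congrArg (Subgroup.comap (QuotientGroup.mk' N)) h2
    rwa [QuotientGroup.comap_map_mk', sup_of_le_right hNK, Subgroup.comap_top] at h3

theorem main : ∀ (n : ℕ) (G : Type*) [Group G] [Finite G], Nat.card G = n →
    (∀ M : Subgroup G, IsCoatom M → ∃ p : ℕ, p.Prime ∧ (M.index = p ∨ M.index = p ^ 2)) →
    Group.IsSolvable G := by
  intro n
  induction n using Nat.strong_induction_on with
  | _ n ih =>
  intro G _ _ hn h
  have hn0 : n ≠ 0 := by rw [← hn]; exact Nat.card_pos.ne'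
  by_cases hn1 : n = 1
  · have : Subsingleton G := (Nat.card_eq_one_iff_unique.mp (hn.trans hn1)).1
    exact Group.isSolvable_of_comm (fun a b => Subsingleton.elim _ _)
  -- the largest prime divisor
  have hne : (n.primeFactors).Nonempty := Nat.nonempty_primeFactors.mpr (by omega)
  obtain ⟨p, hpmem, hpmax⟩ := Finset.exists_max_image n.primeFactors id hne
  have hp : p.Prime := Nat.prime_of_mem_primeFactors hpmem
  have hpn : p ∣ n := Nat.dvd_of_mem_primeFactors hpmem
  have hmax : ∀ q : ℕ, q.Prime → q ∣ n → q ≤ p := fun q hq hqn =>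
    hpmax q (Nat.mem_primeFactors.mpr ⟨hq, hqn, hn0⟩)
  have := Fact.mk hp
  obtain ⟨P⟩ : Nonempty (Sylow p G) := inferInstance
  by_cases hPn : (P : Subgroup G).Normal
  · -- quotient
    have hPcard : 1 < Nat.card (P : Subgroup G) := by
      have h1 : p ∣ Nat.card (P : Subgroup G) := by
        rw [Sylow.card_eq_multiplicity, hn]
        exact dvd_pow_self p ((Nat.Prime.factorization_pos_of_dvd hp hn0 hpn).ne')
      have := Nat.le_of_dvd Nat.card_pos h1
      have := hp.two_le
      omega
    have hqcard : Nat.card (G ⧸ (P : Subgroup G)) < n := by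
      have h1 := Subgroup.card_eq_card_quotient_mul_card_subgroup (P : Subgroup G)
      rw [hn] at h1
      have h2 : 0 < Nat.card (G ⧸ (P : Subgroup G)) := Nat.card_pos
      nlinarith
    have hQ : Group.IsSolvable (G ⧸ (P : Subgroup G)) := by
      refine ih _ hqcard (G ⧸ (P : Subgroup G)) rfl ?_
      intro M hM
      obtain ⟨q, hq, hidx⟩ := h _ (isCoatom_comap (P : Subgroup G) M hM)
      rw [Subgroup.index_comap_of_surjective _ (QuotientGroup.mk'_surjective _)] at hidx
      exact ⟨q, hq, hidx⟩
    have hPs : Group.IsSolvable (P : Subgroup G) := by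
      have : Group.IsNilpotent (P : Subgroup G) := P.isPGroup'.isNilpotent
      infer_instance
    refine Group.isSolvable_of_ker_le_range (P : Subgroup G).subtype (QuotientGroup.mk' (P : Subgroup G)) ?_
    rw [QuotientGroup.ker_mk', Subgroup.range_subtype]
  · -- P not normal: find a maximal subgroup containing the normalizer
    have hNtop : normalizer ((P : Subgroup G) : Set G) ≠ ⊤ := fun h0 => hPn (normalizer_eq_top_iff.mp h0)
    rcases eq_top_or_exists_le_coatom (normalizer ((P : Subgroup G) : Set G)) with h0 | ⟨M, hM, hNM⟩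
    · exact absurd h0 hNtop
    obtain ⟨q, hq, hidx⟩ := h M hM
    have hmod := index_modEq_one P M hNM
    have hqn : q ∣ n := by
      rw [← hn]
      refine dvd_trans ?_ (Subgroup.index_dvd_card M)
      rcases hidx with h1 | h1
      · rw [h1]
      · rw [h1]; exact dvd_pow_self q (by norm_num)
    have hp3 : p = 3 := arith_key hp hq (hmax q hq hqn) hidx hmod
    obtain ⟨a, b, hab⟩ := card_eq_two_pow_mul_three_pow hn0 (fun r hr hrn => by
      have h1 := hmax r hr hrn
      have h2 := hr.two_le
      have : r = 2 ∨ r = 3 := by omega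
      exact this)
    exact Cfsg.Agent.Lib.Helper2.isSolvable_of_card_eq_prime_pow_mul_prime_pow 2 3 Nat.prime_two
      Nat.prime_three n G hn ⟨a, b, hab⟩

theorem result {G : Type*} [Group G] [Finite G] (h : ∀ M : Subgroup G, IsCoatom M → ∃ p : ℕ, p.Prime ∧ (M.index = p ∨ M.index = p ^ 2)) : Group.IsSolvable G :=
  main (Nat.card G) G rfl h

end Cfsg.Agent.S4203
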