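import Cfsg.Statements.S4204

set_option autoImplicit false
open Cfsg

namespace Cfsg.Agent.S4204

open scoped commutatorElement

variable {G : Type*} [Group G]

theorem commutator_le_iff_comap (X C N : Subgroup G) [N.Normal] :
    ⁅X, C⁆ ≤ N ↔ X ≤ (Subgroup.centralizer
      ((C.map (QuotientGroup.mk' N) : Subgroup (G ⧸ N)) : Set (G ⧸ N))).comap (QuotientGroup.mk' N) := by
  rw [Subgroup.commutator_le]
  constructor
  · intro h x hx
    rw [Subgroup.mem_comap, Subgroup.mem_centralizer_iff]
    rintro _ ⟨c, hc, rfl⟩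
    have h0 := h x hx c hc
    have h1 : (QuotientGroup.mk' N) ⁅x, c⁆ = 1 := (QuotientGroup.eq_one_iff _).mpr h0
    rw [map_commutatorElement, commutatorElement_eq_one_iff_mul_comm] at h1
    exact h1.symm
  · intro h x hx c hc
    have h0 := h hx
    rw [Subgroup.mem_comap, Subgroup.mem_centralizer_iff] at h0
    have h2 := h0 _ ⟨c, hc, rfl⟩
    rw [← QuotientGroup.eq_one_iff, ← QuotientGroup.mk'_apply, map_commutatorElement,
      commutatorElement_eq_one_iff_mul_comm]
    exact h2.symm

theorem iSup_commutator_le {ι : Sort*} (A : ι → Subgroup G) (C N : Subgroup G) [N.Normal]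
    (h : ∀ i, ⁅A i, C⁆ ≤ N) : ⁅⨆ i, A i, C⁆ ≤ N := by
  rw [commutator_le_iff_comap]
  apply iSup_le
  intro i
  rw [← commutator_le_iff_comap]
  exact h i

theorem sup_commutator_le (A B C N : Subgroup G) [N.Normal]
    (hA : ⁅A, C⁆ ≤ N) (hB : ⁅B, C⁆ ≤ N) : ⁅A ⊔ B, C⁆ ≤ N := by
  rw [commutator_le_iff_comap] at hA hB ⊢
  exact sup_le hA hB

/-- shifted lower central series with `HH 0 = ⊤` -/
def HH (H : Subgroup G) : ℕ → Subgroup G
  | 0 => ⊤
  | (i + 1) => H.lowerCentralSeries i

instance HH_normal (H : Subgroup G) [H.Normal] (i : ℕ) : (HH H i).Normal := by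
  cases i with
  | zero => exact Subgroup.normal_of_characteristic ⊤
  | succ i => exact Subgroup.lowerCentralSeries_normal H i

theorem commutator_HH_le (H : Subgroup G) [H.Normal] (A : Subgroup G) (i : ℕ) :
    ⁅HH H i ⊓ A, H⁆ ≤ HH H (i + 1) := by
  cases i with
  | zero => exact Subgroup.commutator_le_right _ H
  | succ i =>
    show ⁅H.lowerCentralSeries i ⊓ A, H⁆ ≤ H.lowerCentralSeries (i + 1)
    rw [Subgroup.lowerCentralSeries_succ]
    exact Subgroup.commutator_mono inf_le_left le_rfl

/-- the bound subgroup -/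
def T (H K : Subgroup G) (n : ℕ) : Subgroup G :=
  ⨆ (i : ℕ) (j : ℕ) (_ : i + j = n), HH H i ⊓ HH K j

instance T_normal (H K : Subgroup G) [H.Normal] [K.Normal] (n : ℕ) : (T H K n).Normal := by
  unfold T
  infer_instance

theorem le_T (H K : Subgroup G) (i j n : ℕ) (h : i + j = n) : HH H i ⊓ HH K j ≤ T H K n :=
  le_iSup_of_le i (le_iSup_of_le j (le_iSup_of_le h le_rfl))

theorem key (H K : Subgroup G) [H.Normal] [K.Normal] (n : ℕ) :
    (H ⊔ K).lowerCentralSeries n ≤ T H K (n + 1) := by
  induction n with
  | zero =>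
    rw [Subgroup.lowerCentralSeries_zero]
    apply sup_le
    · refine le_trans ?_ (le_T H K 1 0 1 rfl)
      show H ≤ H.lowerCentralSeries 0 ⊓ ⊤
      simp
    · refine le_trans ?_ (le_T H K 0 1 1 rfl)
      show K ≤ ⊤ ⊓ K.lowerCentralSeries 0
      simp
  | succ n ih =>
    rw [Subgroup.lowerCentralSeries_succ]
    refine le_trans (Subgroup.commutator_mono ih le_rfl) ?_
    unfold T
    apply iSup_commutator_le
    intro i
    apply iSup_commutator_le
    intro j
    apply iSup_commutator_le
    intro hij
    rw [Subgroup.commutator_comm]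
    apply sup_commutator_le
    · rw [Subgroup.commutator_comm]
      refine le_trans ?_ (le_T H K (i + 1) j (n + 1 + 1) (by omega))
      apply le_inf
      · exact commutator_HH_le H _ i
      · exact le_trans (Subgroup.commutator_mono inf_le_right le_rfl) (Subgroup.commutator_le_left _ _)
    · rw [Subgroup.commutator_comm]
      refine le_trans ?_ (le_T H K i (j + 1) (n + 1 + 1) (by omega))
      apply le_inf
      · exact le_trans (Subgroup.commutator_mono inf_le_left le_rfl) (Subgroup.commutator_le_left _ _)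
      · rw [inf_comm]
        exact commutator_HH_le K _ j

/-- If `H` and `K` are normal subgroups of a finite group with `H` nilpotent of class at most `c` and `K` nilpotent of class at most `d` (the terms with index `c`, respectively `d`, of their lower central series are trivial, indices starting at `0`), then `HK` is nilpotent of class at most `c + d`. -/
theorem result {G : Type*} [Group G] [Finite G] (H K : Subgroup G) [H.Normal] [K.Normal] (c d : ℕ) (hH : H.lowerCentralSeries c = ⊥) (hK : K.lowerCentralSeries d = ⊥) : (H ⊔ K).lowerCentralSeries (c + d) = ⊥ := by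
  rw [eq_bot_iff]
  refine le_trans (key H K (c + d)) ?_
  unfold T
  apply iSup_le
  intro i
  apply iSup_le
  intro j
  apply iSup_le
  intro hij
  rcases Nat.lt_or_ge c i with hi | hi
  · -- i ≥ c + 1
    obtain ⟨i', rfl⟩ : ∃ i', i = i' + 1 := ⟨i - 1, by omega⟩
    refine le_trans inf_le_left ?_
    show H.lowerCentralSeries i' ≤ ⊥
    rw [← hH]
    exact H.lowerCentralSeries_antitone (by omega)
  · have hj : d < j := by omega
    obtain ⟨j', rfl⟩ : ∃ j', j = j' + 1 := ⟨j - 1, by omega⟩
    refine le_trans inf_le_right ?_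
    show K.lowerCentralSeries j' ≤ ⊥
    rw [← hK]
    exact K.lowerCentralSeries_antitone (by omega)

end Cfsg.Agent.S4204
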