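import Cfsg.Statements.S4205
import Mathlib

set_option autoImplicit false
open Cfsg

namespace Cfsg.Agent.S4205

theorem ucs_le_iter {G : Type*} [Group G] (H : Subgroup G) (k : ℕ) :
    Subgroup.upperCentralSeries G k ≤ (fun K : Subgroup G => Subgroup.normalizer (K : Set G))^[k] H := by
  induction k with
  | zero => simp
  | succ k ih =>
    rw [Function.iterate_succ_apply']
    set K := (fun K : Subgroup G => Subgroup.normalizer (K : Set G))^[k] H with hK
    intro z hz
    rw [Subgroup.mem_upperCentralSeries_succ_iff] at hz
    have hz' : z⁻¹ ∈ Subgroup.upperCentralSeries G (k + 1) := inv_mem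
      (by rw [Subgroup.mem_upperCentralSeries_succ_iff]; exact hz)
    rw [Subgroup.mem_upperCentralSeries_succ_iff] at hz'
    show z ∈ Subgroup.normalizer (K : Set G)
    rw [Subgroup.mem_normalizer_iff]
    intro x
    constructor
    · intro hx
      have h1 := ih (hz x)
      have : z * x * z⁻¹ = (z * x * z⁻¹ * x⁻¹) * x := by group
      rw [this]
      exact K.mul_mem h1 hx
    · intro hx
      have h1 := ih (hz' (z * x * z⁻¹))
      have : x = (z⁻¹ * (z * x * z⁻¹) * z⁻¹⁻¹ * (z * x * z⁻¹)⁻¹) * (z * x * z⁻¹) := by group
      rw [this]
      exact K.mul_mem h1 hx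

/-- In a finite group whose upper central series reaches the whole group at step `c` (nilpotent of class at most `c`), starting from any subgroup and taking normalizers `c` times reaches the whole group. -/
theorem result {G : Type*} [Group G] [Finite G] (c : ℕ) (hG : Subgroup.upperCentralSeries G c = ⊤) (H : Subgroup G) : (fun K : Subgroup G => Subgroup.normalizer (K : Set G))^[c] H = ⊤ := by
  rw [eq_top_iff, ← hG]
  exact ucs_le_iter H c

end Cfsg.Agent.S4205
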