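import Cfsg.Statements.S4211
import Cfsg.Agent.Lib.Helper23.Dedekind
import Cfsg.Agent.Lib.Helper23.ExtInvariant

set_option autoImplicit false
open Cfsg

namespace Cfsg.Agent.S4211

open Cfsg.Agent.Lib.Helper23 Cfsg.Agent.Lib.Helper23.Dedekind

theorem comm_of_sq {G : Type*} [Group G] (a b : G) (ha : a ^ 2 = 1) (hb : b ^ 2 = 1)
    (hab : (a * b) ^ 2 = 1) : a * b = b * a := by
  have ha' : a⁻¹ = a := inv_eq_of_mul_eq_one_right (by rw [← pow_two]; exact ha)
  have hb' : b⁻¹ = b := inv_eq_of_mul_eq_one_right (by rw [← pow_two]; exact hb)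
  have hab' : (a * b)⁻¹ = a * b := inv_eq_of_mul_eq_one_right (by rw [← pow_two]; exact hab)
  calc a * b = (a * b)⁻¹ := hab'.symm
    _ = b⁻¹ * a⁻¹ := mul_inv_rev a b
    _ = b * a := by rw [ha', hb']

theorem exists_compl_involution {V : Type*} [CommGroup V] (hV : ∀ v : V, v ^ 2 = 1) (c : V)
    (hc1 : c ≠ 1) : ∃ W : Subgroup V, c ∉ W ∧ ∀ g : V, g ∈ W ∨ c * g ∈ W := by
  have : Fact (Nat.Prime 2) := ⟨Nat.prime_two⟩
  obtain ⟨W, h1, h2⟩ := exists_compl_of_elementary 2 hV (Subgroup.zpowers c)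
  refine ⟨W, ?_, ?_⟩
  · intro hcW
    have h3 : c ∈ Subgroup.zpowers c ⊓ W := ⟨Subgroup.mem_zpowers c, hcW⟩
    rw [h1] at h3
    exact hc1 (Subgroup.mem_bot.mp h3)
  · intro g
    have hg : g ∈ Subgroup.zpowers c ⊔ W := by rw [h2]; exact Subgroup.mem_top g
    obtain ⟨y, hy, z, hz, hyz⟩ := Subgroup.mem_sup.mp hg
    rcases eq_one_or_eq_of_mem_zpowers c (by rw [← pow_two]; exact hV c) y hy with hy1 | hyc
    · left
      rw [hy1, one_mul] at hyz
      rw [← hyz]
      exact hz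
    · right
      have h3 : c * g = z := by
        rw [← hyz, hyc, ← mul_assoc, ← pow_two, hV, one_mul]
      rw [h3]
      exact hz

theorem result {G : Type*} [Group G] [Finite G] (hna : ¬ IsMulCommutative G) (hn : ∀ H : Subgroup G, H.Normal) : ∃ Q E A : Subgroup G, Nonempty (Q ≃* QuaternionGroup 2) ∧ Cfsg.IsElementaryAbelian 2 E ∧ IsMulCommutative A ∧ Odd (Nat.card A) ∧ E ⊓ A = ⊥ ∧ Q ⊓ (E ⊔ A) = ⊥ ∧ Q ⊔ (E ⊔ A) = ⊤ := by
  classical
  have hp2 : Fact (Nat.Prime 2) := ⟨Nat.prime_two⟩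
  -- non-commuting pair
  have hnc : ∃ x y : G, ¬ Commute x y := by
    by_contra h
    push Not at h
    exact hna ⟨⟨fun a b => h a b⟩⟩
  obtain ⟨x, y, hx4', hx2, hy2, hconj⟩ := exists_quaternion_pair hn hnc
  have hx4 : x ^ (2 * 2) = 1 := hx4'
  have hinj := quatHom_injective hx4 hx2 hy2 hconj
  have hxQ := x_mem_range_quatHom hx4 hy2 hconj
  have hyQ := y_mem_range_quatHom hx4 hy2 hconj
  -- the Sylow 2-subgroup
  obtain ⟨P⟩ : Nonempty (Sylow 2 G) := inferInstance
  have hPn : (P : Subgroup G).Normal := hn _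
  have hPuniq : ∀ S : Sylow 2 G, S = P := by
    intro S
    have := Sylow.unique_of_normal P hPn
    exact Subsingleton.elim S P
  have h2mem : ∀ (g : G) (k : ℕ), g ^ (2 ^ k) = 1 → g ∈ (P : Subgroup G) := by
    intro g k hg
    have hpg : IsPGroup 2 (Subgroup.zpowers g) := by
      rintro ⟨h, hh⟩
      obtain ⟨j, rfl⟩ := Subgroup.mem_zpowers_iff.mp hh
      refine ⟨k, Subtype.ext ?_⟩
      change (g ^ j) ^ 2 ^ k = 1
      rw [← zpow_natCast, ← zpow_mul, mul_comm, zpow_mul, zpow_natCast, hg, one_zpow]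
    obtain ⟨S, hS⟩ := hpg.exists_le_sylow
    rw [← hPuniq S]
    exact hS (Subgroup.mem_zpowers g)
  have hxP : x ∈ (P : Subgroup G) :=
    h2mem x 2 (by rw [show (2 : ℕ) ^ 2 = 4 by norm_num]; exact hx4')
  have hyP : y ∈ (P : Subgroup G) := by
    apply h2mem y 2
    rw [pow_two, pow_mul, hy2, ← pow_mul]
    exact hx4
  -- the complement of odd order
  obtain ⟨A, hA⟩ := Subgroup.exists_right_complement'_of_coprime P.card_coprime_index
  have hAcard : (P : Subgroup G).index = Nat.card A := hA.symm.index_eq_card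
  have hAodd : Odd (Nat.card A) := by
    rw [← hAcard]
    exact Nat.not_even_iff_odd.mp (fun h => P.not_dvd_index (even_iff_two_dvd.mp h))
  have hdisj : Disjoint (P : Subgroup G) A := hA.disjoint
  have hPA : ∀ p ∈ (P : Subgroup G), ∀ a ∈ A, Commute p a := fun p hp a ha =>
    Subgroup.commute_of_normal_of_disjoint _ _ hPn (hn A) hdisj p a hp ha
  -- A is abelian
  have hnA : ∀ H : Subgroup A, H.Normal := by
    intro H
    have h1 := hn (H.map A.subtype)
    have h2 : H = (H.map A.subtype).comap A.subtype :=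
      (Subgroup.comap_map_eq_self_of_injective A.subtype_injective H).symm
    rw [h2]
    exact Subgroup.Normal.comap h1 _
  have hAcomm : IsMulCommutative A := by
    by_contra hAc
    have hncA : ∃ a b : A, ¬ Commute a b := by
      by_contra h
      push Not at h
      exact hAc ⟨⟨fun a b => h a b⟩⟩
    obtain ⟨a, b, ha4', ha2, -, -⟩ := exists_quaternion_pair hnA hncA
    have ha4 : a ^ (2 * 2) = 1 := ha4'
    have ho := orderOf_eq_four ha4 ha2
    have hdvd : orderOf a ∣ Nat.card A := orderOf_dvd_natCard a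
    rw [ho] at hdvd
    obtain ⟨k, hk⟩ := hAodd
    obtain ⟨m, hm⟩ := hdvd
    omega
  -- the centralizer of the quaternion pair
  set C : Subgroup G := Subgroup.centralizer {x, y} with hCdef
  have hC : ∀ g, g ∈ C ↔ Commute g x ∧ Commute g y := by
    intro g
    rw [hCdef, Subgroup.mem_centralizer_iff]
    constructor
    · intro h
      exact ⟨(h x (by simp)).symm, (h y (by simp)).symm⟩
    · rintro ⟨h1, h2⟩ z hz
      rcases hz with rfl | rfl
      · exact h1.eq.symm
      · exact h2.eq.symm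
  have hAC : A ≤ C := by
    intro a ha
    rw [hC]
    exact ⟨(hPA x hxP a ha).symm, (hPA y hyP a ha).symm⟩
  set D : Subgroup G := (P : Subgroup G) ⊓ C with hDdef
  have hDP : D ≤ (P : Subgroup G) := inf_le_left
  have hDC : D ≤ C := inf_le_right
  have hDsq : ∀ g ∈ D, g ^ 2 = 1 := by
    intro g hg
    have hgP : g ∈ (P : Subgroup G) := hDP hg
    have hgC := (hC g).mp (hDC hg)
    obtain ⟨k, hk⟩ := P.2 ⟨g, hgP⟩
    have hk' : g ^ 2 ^ k = 1 := congrArg Subtype.val hk
    exact sq_eq_one_of_commute_of_pow hn hx4 hx2 hy2 hconj k g hgC.1 hgC.2 hk'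
  set c : G := x ^ 2 with hcdef
  have hcQ : c ∈ (quatHom hx4 hy2 hconj).range := Subgroup.pow_mem _ hxQ 2
  have hcP : c ∈ (P : Subgroup G) := Subgroup.pow_mem _ hxP 2
  have hcD : c ∈ D := by
    refine ⟨hcP, ?_⟩
    change c ∈ C
    rw [hC]
    refine ⟨(Commute.refl x).pow_left 2, ?_⟩
    have h5 : Commute (y ^ 2) y := (Commute.refl y).pow_left 2
    rw [hy2] at h5
    exact h5
  have hmc : ∀ a b : D, a * b = b * a := by
    intro a b
    apply Subtype.ext
    exact comm_of_sq a.1 b.1 (hDsq _ a.2) (hDsq _ b.2) (hDsq _ (D.mul_mem a.2 b.2))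
  let inst : CommGroup D := { (inferInstance : Group D) with mul_comm := hmc }
  have hV : ∀ v : D, v ^ 2 = 1 := fun v => Subtype.ext (hDsq v.1 v.2)
  have hc1' : (⟨c, hcD⟩ : D) ≠ 1 := fun h => hx2 (congrArg Subtype.val h)
  obtain ⟨W, hcW, hW⟩ := @exists_compl_involution D inst hV ⟨c, hcD⟩ hc1'
  set E : Subgroup G := Subgroup.map D.subtype W with hEdef
  have hED : E ≤ D := by
    rintro _ ⟨w, _, rfl⟩
    exact w.2
  have hcE : c ∉ E := by
    rintro ⟨w, hw, hwc⟩
    have : w = ⟨c, hcD⟩ := Subtype.ext hwc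
    rw [this] at hw
    exact hcW hw
  have hEor : ∀ p ∈ D, p ∈ E ∨ c * p ∈ E := by
    intro p hp
    rcases hW ⟨p, hp⟩ with h | h
    · exact Or.inl ⟨⟨p, hp⟩, h, rfl⟩
    · exact Or.inr ⟨⟨c, hcD⟩ * ⟨p, hp⟩, h, rfl⟩
  have hEn : E.Normal := hn E
  have hEAC : E ⊔ A ≤ C := sup_le (hED.trans hDC) hAC
  have hPAbot : ∀ g, g ∈ (P : Subgroup G) → g ∈ A → g = 1 := by
    intro g h1 h2
    have : g ∈ (P : Subgroup G) ⊓ A := ⟨h1, h2⟩
    rw [hdisj.eq_bot] at this
    exact Subgroup.mem_bot.mp this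
  refine ⟨(quatHom hx4 hy2 hconj).range, E, A, ⟨(MonoidHom.ofInjective hinj).symm⟩,
    ⟨⟨⟨fun a b => ?_⟩⟩, fun a ha => hDsq a (hED ha)⟩, hAcomm, hAodd, ?_, ?_, ?_⟩
  · apply Subtype.ext
    exact comm_of_sq a.1 b.1 (hDsq _ (hED a.2)) (hDsq _ (hED b.2))
      (hDsq _ (hED (E.mul_mem a.2 b.2)))
  · rw [eq_bot_iff]
    intro g hg
    have h1 : g ∈ E := hg.1
    have h2 : g ∈ A := hg.2
    exact Subgroup.mem_bot.mpr (hPAbot g (hDP (hED h1)) h2)
  · rw [eq_bot_iff]
    intro g hg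
    have h1 : g ∈ (quatHom hx4 hy2 hconj).range := hg.1
    have h2 : g ∈ E ⊔ A := hg.2
    have h3 := (hC g).mp (hEAC h2)
    rcases eq_one_or_sq_of_mem_range_of_commute hx4 hx2 hy2 hconj g h1 h3.1 h3.2 with h | h
    · exact Subgroup.mem_bot.mpr h
    · exfalso
      rw [h] at h2
      have h4 : c ∈ ((E ⊔ A : Subgroup G) : Set G) := h2
      rw [Subgroup.normal_mul] at h4
      obtain ⟨e, he, a, ha, hea⟩ := Set.mem_mul.mp h4
      have heP : e ∈ (P : Subgroup G) := hDP (hED he)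
      have haP : a ∈ (P : Subgroup G) := by
        have : a = e⁻¹ * c := by rw [← hea]; group
        rw [this]
        exact Subgroup.mul_mem _ (Subgroup.inv_mem _ heP) hcP
      have ha1 := hPAbot a haP ha
      rw [ha1, mul_one] at hea
      rw [← hea] at hcE
      exact hcE he
  · rw [eq_top_iff]
    intro g _
    obtain ⟨q, hq, hqx, hqy⟩ :=
      exists_mem_range_mul_centralizer (hn _) (hn _) hx4 hx2 hy2 hconj g
    have hhC : q⁻¹ * g ∈ C := (hC _).mpr ⟨hqx, hqy⟩
    have hh : q⁻¹ * g ∈ (((P : Subgroup G) ⊔ A : Subgroup G) : Set G) := by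
      rw [hA.sup_eq_top]
      exact Set.mem_univ _
    rw [Subgroup.normal_mul] at hh
    obtain ⟨p, hp, a, ha, hpa⟩ := Set.mem_mul.mp hh
    have hpC : p ∈ C := by
      have : p = (q⁻¹ * g) * a⁻¹ := by rw [← hpa]; group
      rw [this]
      exact C.mul_mem hhC (C.inv_mem (hAC ha))
    have hpD : p ∈ D := ⟨hp, hpC⟩
    have hg : g = q * (p * a) := by rw [hpa]; group
    rcases hEor p hpD with h | h
    · rw [hg]
      exact Subgroup.mul_mem _ (Subgroup.mem_sup_left hq)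
        (Subgroup.mem_sup_right (Subgroup.mul_mem _ (Subgroup.mem_sup_left h)
          (Subgroup.mem_sup_right ha)))
    · have hg' : g = (q * c⁻¹) * ((c * p) * a) := by rw [hg]; group
      rw [hg']
      exact Subgroup.mul_mem _
        (Subgroup.mem_sup_left (Subgroup.mul_mem _ hq (Subgroup.inv_mem _ hcQ)))
        (Subgroup.mem_sup_right (Subgroup.mul_mem _ (Subgroup.mem_sup_left h)
          (Subgroup.mem_sup_right ha)))

end Cfsg.Agent.S4211
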