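import Cfsg.Statements.S4213
import Cfsg.Agent.Lib.Helper23.FrobeniusRoots
import Cfsg.Agent.Lib.Helper1.Hall

set_option autoImplicit false
open Cfsg

namespace Cfsg.Agent.S4213

open Cfsg.Agent.Lib.Helper1 Cfsg.Agent.Lib.Helper23.FrobeniusRoots

universe u

/-- Frobenius: `n ∣ |G|` implies `n ∣ #{x | x^n = 1}` -/
theorem dvd_card_roots {G : Type u} [Group G] [Finite G] (n : ℕ) (hn : n ∣ Nat.card G) :
    n ∣ Nat.card {x : G // x ^ n = 1} := by
  have h := gcd_dvd_card_roots_central (1 : G) (fun g => by rw [mul_one, one_mul]) n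
  rwa [Nat.gcd_eq_left hn] at h

theorem card_roots_pos {G : Type u} [Group G] [Finite G] (n : ℕ) :
    0 < Nat.card {x : G // x ^ n = 1} := by
  have : Nonempty {x : G // x ^ n = 1} := ⟨⟨1, one_pow n⟩⟩
  exact Nat.card_pos

theorem ncard_roots {G : Type u} [Group G] (n : ℕ) :
    Set.ncard {x : G | x ^ n = 1} = Nat.card {x : G // x ^ n = 1} :=
  (Nat.card_coe_set_eq {x : G | x ^ n = 1}).symm

/-- a subset of the set of `n`-th roots with at least as many elements is everything -/
theorem eq_roots_of_subset {G : Type u} [Group G] [Finite G] (n : ℕ) (S : Set G)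
    (hS : S ⊆ {x : G | x ^ n = 1}) (hcard : Nat.card {x : G // x ^ n = 1} ≤ S.ncard) :
    S = {x : G | x ^ n = 1} :=
  Set.eq_of_subset_of_ncard_le hS (by rw [ncard_roots]; exact hcard) (Set.toFinite _)

theorem aux (N : ℕ) : ∀ (G : Type u) [Group G] [Finite G] [Group.IsSolvable G], Nat.card G = N →
    ∀ n : ℕ, n ∣ Nat.card G → Nat.card {x : G // x ^ n = 1} = n →
    ∃ H : Subgroup G, H.Normal ∧ (H : Set G) = {x : G | x ^ n = 1} := by
  induction N using Nat.strong_induction_on with
  | _ N ih =>
    intro G _ _ _ hN n hn hcount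
    have hnpos : 0 < n := Nat.pos_of_dvd_of_pos hn Nat.card_pos
    by_cases htriv : (⊤ : Subgroup G) = ⊥
    · refine ⟨⊤, inferInstance, ?_⟩
      ext x
      have hx : x = 1 := by
        have h1 : x ∈ (⊤ : Subgroup G) := Subgroup.mem_top x
        rw [htriv] at h1
        exact Subgroup.mem_bot.mp h1
      simp [hx]
    have hGs : Group.IsSolvable (⊤ : Subgroup G) := inferInstance
    obtain ⟨p, hp, M, hMn, -, hMne, -, hMe⟩ :=
      exists_normal_elementary_abelian_le _ (⊤ : Subgroup G) rfl htriv hGs
    have : Fact p.Prime := ⟨hp⟩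
    have hMp : IsPGroup p M := fun x => ⟨1, by
      rw [pow_one]; exact Subtype.ext (by simpa using hMe x x.2)⟩
    obtain ⟨k, hk⟩ := hMp.exists_card_eq
    have hk0 : k ≠ 0 := by
      rintro rfl
      rw [pow_zero, Subgroup.card_eq_one] at hk
      exact hMne hk
    have hMpos : 0 < Nat.card M := Nat.card_pos
    have hQlt : Nat.card (G ⧸ M) < N := hN ▸ card_quotient_lt_of_ne_bot hMne
    have hQcard : Nat.card (G ⧸ M) * Nat.card M = Nat.card G := by
      rw [← Subgroup.index_eq_card, mul_comm, Subgroup.card_mul_index]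
    by_cases hpn : p ∣ n
    · -- Case 1: `p ∣ n`
      obtain ⟨d, hd⟩ : ∃ d, d = Nat.gcd n (Nat.card M) := ⟨_, rfl⟩
      have hdpos : 0 < d := by rw [hd]; exact Nat.gcd_pos_of_pos_left _ hnpos
      obtain ⟨n', hn'⟩ : d ∣ n := by rw [hd]; exact Nat.gcd_dvd_left _ _
      obtain ⟨k', hk'⟩ : d ∣ Nat.card M := by rw [hd]; exact Nat.gcd_dvd_right _ _
      have hn'pos : 0 < n' := by
        rcases Nat.eq_zero_or_pos n' with h | h
        · rw [h, mul_zero] at hn'; omega
        · exact h
      have hk'pos : 0 < k' := by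
        rcases Nat.eq_zero_or_pos k' with h | h
        · rw [h, mul_zero] at hk'; omega
        · exact h
      have hcop : Nat.Coprime n' k' := by
        have h := Nat.coprime_div_gcd_div_gcd (m := n) (n := Nat.card M) (by rw [← hd]; exact hdpos)
        rw [← hd] at h
        have h1 : n / d = n' := by rw [hn']; exact Nat.mul_div_cancel_left n' hdpos
        have h2 : Nat.card M / d = k' := by rw [hk']; exact Nat.mul_div_cancel_left k' hdpos
        rw [h1, h2] at h
        exact h
      have hn'dvd : n' ∣ Nat.card (G ⧸ M) := by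
        have h1 : d * n' ∣ d * (Nat.card (G ⧸ M) * k') := by
          have h2 : d * (Nat.card (G ⧸ M) * k') = Nat.card (G ⧸ M) * Nat.card M := by
            rw [hk']; ring
          rw [h2, hQcard, ← hn']
          exact hn
        exact hcop.dvd_of_dvd_mul_right (Nat.dvd_of_mul_dvd_mul_left hdpos h1)
      have hpd : p ∣ d := by
        rw [hd]
        exact Nat.dvd_gcd hpn (by rw [hk]; exact dvd_pow_self p hk0)
      have hn'p : n' * p ∣ n := by
        obtain ⟨d', hd'⟩ := hpd
        exact ⟨d', by rw [hn', hd']; ring⟩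
      -- the preimage of the roots in the quotient
      obtain ⟨S, hSdef⟩ : ∃ S : Set G, S = QuotientGroup.mk ⁻¹' {y : G ⧸ M | y ^ n' = 1} :=
        ⟨_, rfl⟩
      have hsub : S ⊆ {x : G | x ^ n = 1} := by
        intro x hx
        rw [hSdef] at hx
        have h1 : ((x : G) : G ⧸ M) ^ n' = 1 := hx
        have h2 : x ^ n' ∈ M := by
          rw [← QuotientGroup.eq_one_iff, QuotientGroup.mk_pow]
          exact h1
        have h3 : x ^ (n' * p) = 1 := by rw [pow_mul]; exact hMe _ h2
        obtain ⟨c, hc⟩ := hn'p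
        change x ^ n = 1
        rw [hc, pow_mul, h3, one_pow]
      have hScard : S.ncard = Nat.card M * Nat.card {y : G ⧸ M // y ^ n' = 1} := by
        rw [← Nat.card_coe_set_eq, hSdef, QuotientGroup.card_preimage_mk]
        rfl
      have hSle : S.ncard ≤ n := by
        have h1 := Set.ncard_le_ncard hsub (Set.toFinite _)
        rw [ncard_roots, hcount] at h1
        exact h1
      obtain ⟨t, ht⟩ := dvd_card_roots (G := G ⧸ M) n' hn'dvd
      have htpos : 0 < t := by
        have h1 := card_roots_pos (G := G ⧸ M) n'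
        rcases Nat.eq_zero_or_pos t with h | h
        · rw [ht, h, mul_zero] at h1; omega
        · exact h
      have hkt : k' * t ≤ 1 := by
        have h1 : (d * n') * (k' * t) ≤ (d * n') * 1 := by
          calc (d * n') * (k' * t) = S.ncard := by rw [hScard, ht, hk']; ring
            _ ≤ n := hSle
            _ = (d * n') * 1 := by rw [hn']; ring
        exact Nat.le_of_mul_le_mul_left h1 (Nat.mul_pos hdpos hn'pos)
      have hk'1 : k' = 1 := by
        have h1 : k' * 1 ≤ k' * t := Nat.mul_le_mul_left k' htpos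
        omega
      have ht1 : t = 1 := by
        have h1 : 1 * t ≤ k' * t := Nat.mul_le_mul_right t hk'pos
        omega
      have hLbar : Nat.card {y : G ⧸ M // y ^ n' = 1} = n' := by rw [ht, ht1, mul_one]
      have hScard' : S.ncard = n := by
        rw [hScard, hLbar, hk', hk'1, hn']; ring
      obtain ⟨Hbar, hHbarn, hHbar⟩ := ih _ hQlt (G ⧸ M) rfl n' hn'dvd hLbar
      refine ⟨Hbar.comap (QuotientGroup.mk' M), hHbarn.comap _, ?_⟩
      have h1 : ((Hbar.comap (QuotientGroup.mk' M) : Subgroup G) : Set G) = S := by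
        rw [Subgroup.coe_comap, hHbar, hSdef]
        rfl
      rw [h1]
      exact eq_roots_of_subset n S hsub (by rw [hcount, hScard'])
    · -- Case 2: `p ∤ n`
      have hcop : Nat.Coprime n (Nat.card M) := by
        rw [hk]
        exact Nat.Coprime.pow_right k ((Nat.Prime.coprime_iff_not_dvd hp).mpr hpn).symm
      have hn'dvd : n ∣ Nat.card (G ⧸ M) := by
        apply hcop.dvd_of_dvd_mul_right
        rw [hQcard]
        exact hn
      have hcopZ : IsCoprime (p : ℤ) (n : ℤ) :=
        Nat.isCoprime_iff_coprime.mpr ((Nat.Prime.coprime_iff_not_dvd hp).mpr hpn)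
      obtain ⟨a, b, hab⟩ := hcopZ
      -- surjection of roots
      have hsurj : Function.Surjective
          (fun x : {x : G // x ^ n = 1} =>
            (⟨(x.1 : G ⧸ M), by rw [← QuotientGroup.mk_pow, x.2]; rfl⟩ :
              {y : G ⧸ M // y ^ n = 1})) := by
        rintro ⟨y, hy⟩
        obtain ⟨x, rfl⟩ := QuotientGroup.mk_surjective y
        have h2 : x ^ n ∈ M := by
          rw [← QuotientGroup.eq_one_iff, QuotientGroup.mk_pow]
          exact hy
        have h3 : x ^ (((n * p : ℕ) : ℤ)) = 1 := by
          rw [zpow_natCast, pow_mul]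
          exact hMe _ h2
        refine ⟨⟨x ^ (a * p), ?_⟩, ?_⟩
        · rw [← zpow_natCast, ← zpow_mul]
          have h4 : a * (p : ℤ) * (n : ℤ) = ((n * p : ℕ) : ℤ) * a := by push_cast; ring
          rw [h4, zpow_mul, h3, one_zpow]
        · apply Subtype.ext
          change ((x ^ (a * (p : ℤ)) : G) : G ⧸ M) = (x : G ⧸ M)
          rw [QuotientGroup.mk_zpow]
          have h5 : a * (p : ℤ) = 1 - (n : ℤ) * b := by linarith
          rw [h5, zpow_sub, zpow_one, zpow_mul, zpow_natCast, hy, one_zpow, inv_one, mul_one]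
      have hle : Nat.card {y : G ⧸ M // y ^ n = 1} ≤ n := by
        exact (Nat.card_le_card_of_surjective _ hsurj).trans (le_of_eq hcount)
      have hLbar : Nat.card {y : G ⧸ M // y ^ n = 1} = n :=
        Nat.le_antisymm hle (Nat.le_of_dvd (card_roots_pos n) (dvd_card_roots n hn'dvd))
      obtain ⟨Hbar, hHbarn, hHbar⟩ := ih _ hQlt (G ⧸ M) rfl n hn'dvd hLbar
      have hHbarcard : Nat.card Hbar = n := by
        have h1 : Nat.card Hbar = Set.ncard (Hbar : Set (G ⧸ M)) :=
          (Nat.card_coe_set_eq _).symm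
        rw [h1, hHbar, ncard_roots, hLbar]
      obtain ⟨H, hHdef⟩ : ∃ H : Subgroup G, H = Hbar.comap (QuotientGroup.mk' M) := ⟨_, rfl⟩
      have hHcard : Nat.card H = n * Nat.card M := by
        rw [hHdef, card_comap_mk, hHbarcard]
      have hMH : M ≤ H := by
        rw [hHdef]
        conv_lhs => rw [← QuotientGroup.ker_mk' M]
        exact MonoidHom.ker_le_comap _ _
      have hLH : {x : G | x ^ n = 1} ⊆ (H : Set G) := by
        intro x hx
        have hx' : x ^ n = 1 := hx
        rw [hHdef, Subgroup.coe_comap, hHbar]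
        change ((x : G) : G ⧸ M) ^ n = 1
        rw [← QuotientGroup.mk_pow, hx']
        rfl
      -- Schur–Zassenhaus inside `H`
      have hM'card : Nat.card (M.subgroupOf H) = Nat.card M :=
        Nat.card_congr (Subgroup.subgroupOfEquivOfLe hMH).toEquiv
      have hM'idx : (M.subgroupOf H).index = n := by
        have h1 := Subgroup.card_mul_index (M.subgroupOf H)
        rw [hM'card, hHcard, mul_comm] at h1
        exact Nat.eq_of_mul_eq_mul_right hMpos h1
      have hcop' : Nat.Coprime (Nat.card (M.subgroupOf H)) (M.subgroupOf H).index := by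
        rw [hM'card, hM'idx]
        exact hcop.symm
      obtain ⟨Q, hQ⟩ := Subgroup.exists_right_complement'_of_coprime hcop'
      have hQcard : Nat.card Q = n := by
        rw [← hQ.symm.index_eq_card, hM'idx]
      have hQ'card : Nat.card (Q.map H.subtype) = n := by
        rw [Subgroup.card_map_of_injective H.subtype_injective, hQcard]
      have hQ'sub : ((Q.map H.subtype : Subgroup G) : Set G) ⊆ {x : G | x ^ n = 1} := by
        intro x hx
        have h1 : (⟨x, hx⟩ : Q.map H.subtype) ^ Nat.card (Q.map H.subtype) = 1 :=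
          pow_card_eq_one'
        rw [hQ'card] at h1
        exact congrArg Subtype.val h1
      have hQ'eq : ((Q.map H.subtype : Subgroup G) : Set G) = {x : G | x ^ n = 1} := by
        apply eq_roots_of_subset n _ hQ'sub
        have h1 : Set.ncard ((Q.map H.subtype : Subgroup G) : Set G) =
            Nat.card (Q.map H.subtype) := (Nat.card_coe_set_eq _).symm
        rw [hcount, h1, hQ'card]
      refine ⟨Q.map H.subtype, ⟨fun x hx g => ?_⟩, hQ'eq⟩
      have hx1 : x ∈ ((Q.map H.subtype : Subgroup G) : Set G) := hx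
      rw [hQ'eq] at hx1
      have hx2 : x ^ n = 1 := hx1
      have h3 : g * x * g⁻¹ ∈ ((Q.map H.subtype : Subgroup G) : Set G) := by
        rw [hQ'eq]
        change (g * x * g⁻¹) ^ n = 1
        rw [conj_pow, hx2, mul_one, mul_inv_cancel]
      exact h3

theorem result {G : Type*} [Group G] [Finite G] [Group.IsSolvable G] (n : ℕ) (hn : n ∣ Nat.card G) (hcount : Nat.card {x : G // x ^ n = 1} = n) : ∃ H : Subgroup G, H.Normal ∧ (H : Set G) = {x : G | x ^ n = 1} :=
  aux (Nat.card G) G rfl n hn hcount

end Cfsg.Agent.S4213
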