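import Cfsg.Statements.S4215
import Mathlib
import Cfsg.Agent.Lib.Helper17.WielandtYoshida
import Cfsg.Agent.S0078

set_option autoImplicit false
open Cfsg

namespace Cfsg.Agent.S4215

open Subgroup Cfsg.Agent.Lib.Lead Cfsg.Agent.Lib.Helper17

/-- If `V ≥ P` controls transfer (`P ∩ G' ≤ V'`), then `O^p(V) = O^p(G) ∩ V` (Tate). -/
theorem pResidualOf_eq_of_focal {G : Type*} [Group G] [Finite G] {p : ℕ} [Fact p.Prime]
    (P : Sylow p G) (V : Subgroup G) (hPV : (P : Subgroup G) ≤ V)
    (hfoc : (P : Subgroup G) ⊓ _root_.commutator G ≤ ⁅V, V⁆) :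
    Cfsg.pResidualOf p V = Cfsg.pResidual p G ⊓ V := by
  have hVidx : ¬ p ∣ V.index := fun h => P.not_dvd_index (h.trans (index_dvd_of_le hPV))
  have hcomm_le : _root_.commutator G ⊓ (P : Subgroup G) ≤ (_root_.commutator V).map V.subtype := by
    have h4 : (_root_.commutator V).map V.subtype = ⁅V, V⁆ := by
      rw [_root_.commutator, Subgroup.map_commutator, ← MonoidHom.range_eq_map, range_subtype]
    rw [h4, inf_comm]
    exact hfoc
  have hK2 : pResidual p G ≤ frattiniP p G := by
    apply pResidual_le_of_forall_pow_mem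
    intro g
    exact ⟨1, by rw [pow_one]; exact (le_sup_right : _ ≤ frattiniP p G) (subset_closure ⟨g, rfl⟩)⟩
  let PV : Sylow p V := P.subtype hPV
  have hPVcoe : (PV : Subgroup V) = (P : Subgroup G).subgroupOf V := Sylow.coe_subtype P hPV
  have hV2n : (frattiniP p V).Normal := Cfsg.Agent.S0078.frattiniP_normal
  have hquot : IsPGroup p (V ⧸ frattiniP p V) := by
    intro x
    induction x using QuotientGroup.induction_on with
    | H v =>
      refine ⟨1, ?_⟩
      rw [pow_one, ← QuotientGroup.mk_pow]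
      exact (QuotientGroup.eq_one_iff _).2
        ((le_sup_right : _ ≤ frattiniP p V) (subset_closure ⟨v, rfl⟩))
  have htop : (PV : Subgroup V) ⊔ frattiniP p V = ⊤ :=
    sup_eq_top_of_index_coprime PV.not_dvd_index hquot
  have hTate : (pResidual p G).subgroupOf V ≤ frattiniP p V := by
    intro v hv
    have hvK : (v : G) ∈ pResidual p G := mem_subgroupOf.1 hv
    have hv' : v ∈ (PV : Subgroup V) ⊔ frattiniP p V := htop ▸ mem_top v
    rw [mem_sup_of_normal_right] at hv'
    obtain ⟨y, hy, w, hw, rfl⟩ := hv'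
    have hyP : (y : G) ∈ (P : Subgroup G) := by
      rw [hPVcoe] at hy; exact mem_subgroupOf.1 hy
    have hwG : (w : G) ∈ frattiniP p G :=
      map_frattiniP_le (p := p) V.subtype (mem_map_of_mem V.subtype hw)
    have hyG : (y : G) ∈ frattiniP p G := by
      have : (y : G) = ((y * w : V) : G) * (w : G)⁻¹ := by
        rw [coe_mul]; group
      rw [this]
      exact mul_mem (hK2 hvK) (inv_mem hwG)
    obtain ⟨t, ht, htc⟩ := Cfsg.Agent.S0078.sylow_inf_frattiniP P hyP hyG
    have htp : (y : G) * (t ^ p)⁻¹ ∈ (P : Subgroup G) :=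
      mul_mem hyP (inv_mem (pow_mem ht p))
    obtain ⟨c, hc, hcy⟩ := hcomm_le ⟨htc, htp⟩
    have hyeq : y = c * (⟨t, hPV ht⟩ : V) ^ p := by
      apply Subtype.ext
      rw [coe_mul, coe_pow]
      change (y : G) = V.subtype c * t ^ p
      rw [hcy]; group
    refine mul_mem ?_ hw
    rw [hyeq]
    exact mul_mem ((le_sup_left : _ ≤ frattiniP p V) hc)
      ((le_sup_right : _ ≤ frattiniP p V) (subset_closure ⟨_, rfl⟩))
  have hmain := tate_general V hVidx hTate
  unfold Cfsg.pResidualOf
  apply le_antisymm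
  · apply le_inf
    · rw [map_subtype_pResidual]
      unfold pResidual
      apply Subgroup.closure_mono
      intro x hx
      exact hx.2
    · exact map_subtype_le _
  · rintro x ⟨hxK, hxV⟩
    have : (⟨x, hxV⟩ : V) ∈ (pResidual p G).subgroupOf V := mem_subgroupOf.2 hxK
    exact ⟨⟨x, hxV⟩, hmain this, rfl⟩

/-- Let `P` be a Sylow `p`-subgroup of the finite group `G`, `Q` a subgroup of `P` weakly closed in `P` with respect to `G`, and `H` the normalizer of `Q`. Suppose that for all `u ∈ P` and `z ∈ Q` the iterated commutator `[u, z, …, z]` with `p - 1` entries `z` is trivial, where `[x, z] = x⁻¹z⁻¹xz` and `[x, z, z] = [[x, z], z]`. Then `O^p(H) = O^p(G) ∩ H`, where `O^p` denotes the subgroup generated by the elements of order prime to `p`; so the largest `p`-factor groups of `G` and of `H` are isomorphic. -/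
theorem result {G : Type*} [Group G] [Finite G] {p : ℕ} [Fact p.Prime] (P : Sylow p G) (Q : Subgroup G) (hQ : Cfsg.IsWeaklyClosed Q (P : Subgroup G)) (h : ∀ u ∈ (P : Subgroup G), ∀ z ∈ Q, (fun y : G => y⁻¹ * z⁻¹ * y * z)^[p - 1] u = 1) : Cfsg.pResidualOf p (Subgroup.normalizer (Q : Set G)) = Cfsg.pResidual p G ⊓ Subgroup.normalizer (Q : Set G) := by
  have hE : HypE p (P : Subgroup G) Q := by
    intro x hx z hz W₀ _ _
    rw [h x hx z hz]
    exact one_mem _
  have hfoc := wy_focal P Q hQ hE
  apply pResidualOf_eq_of_focal P _ (IsWeaklyClosed.sylow_le_normalizer hQ)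
  rw [hfoc]
  exact inf_le_right

end Cfsg.Agent.S4215
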