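import Cfsg.Statements.S4217
import Cfsg.Agent.Lib.Helper1.Gaschutz
import Cfsg.Agent.H5.Card

set_option autoImplicit false
open Cfsg

namespace Cfsg.Agent.S4217

/-- elements of the abelian subgroup `A` killed by `k` -/
def tors {G : Type*} [Group G] (A : Subgroup G) (hA : ∀ a ∈ A, ∀ b ∈ A, a * b = b * a) (k : ℕ) :
    Subgroup G where
  carrier := {a | a ∈ A ∧ a ^ k = 1}
  mul_mem' := by
    rintro a b ⟨ha, ha'⟩ ⟨hb, hb'⟩
    exact ⟨A.mul_mem ha hb, by
      rw [(show Commute a b from hA a ha b hb).mul_pow, ha', hb', one_mul]⟩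
  one_mem' := ⟨A.one_mem, one_pow _⟩
  inv_mem' := by
    rintro a ⟨ha, ha'⟩
    exact ⟨A.inv_mem ha, by rw [inv_pow, ha', inv_one]⟩

section Tors

variable {G : Type*} [Group G] (A : Subgroup G) (hA : ∀ a ∈ A, ∀ b ∈ A, a * b = b * a)

theorem mem_tors {k : ℕ} {a : G} : a ∈ tors A hA k ↔ a ∈ A ∧ a ^ k = 1 := Iff.rfl

theorem tors_le (k : ℕ) : tors A hA k ≤ A := fun _ h => h.1

theorem tors_normal [hAn : A.Normal] (k : ℕ) : (tors A hA k).Normal := by
  constructor
  rintro a ⟨ha, ha'⟩ g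
  exact ⟨hAn.conj_mem a ha g, by rw [conj_pow, ha', mul_one, mul_inv_cancel]⟩

theorem tors_comm (k : ℕ) : IsMulCommutative (tors A hA k) := by
  refine ⟨⟨?_⟩⟩
  rintro ⟨a, ha⟩ ⟨b, hb⟩
  exact Subtype.ext (hA a ha.1 b hb.1)

theorem tors_inf {s r : ℕ} (hcop : Nat.Coprime s r) : tors A hA s ⊓ tors A hA r = ⊥ := by
  rw [eq_bot_iff]
  rintro x ⟨⟨-, h1⟩, ⟨-, h2⟩⟩
  rw [Subgroup.mem_bot]
  have h3 : orderOf x ∣ s := orderOf_dvd_of_pow_eq_one h1
  have h4 : orderOf x ∣ r := orderOf_dvd_of_pow_eq_one h2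
  have h5 : Nat.Coprime (orderOf x) r := Nat.Coprime.coprime_dvd_left h3 hcop
  exact orderOf_eq_one_iff.mp (Nat.Coprime.eq_one_of_dvd h5 h4)

theorem tors_sup {s r : ℕ} (hcop : Nat.Coprime s r) (hexp : ∀ a ∈ A, a ^ (s * r) = 1) :
    tors A hA s ⊔ tors A hA r = A := by
  apply le_antisymm (sup_le (tors_le A hA s) (tors_le A hA r))
  intro a ha
  have hb : (s : ℤ) * Nat.gcdA s r + r * Nat.gcdB s r = 1 := by
    have := Nat.gcd_eq_gcd_ab s r
    rw [hcop.gcd_eq_one] at this
    exact_mod_cast this.symm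
  have h1 : a ^ r ∈ tors A hA s :=
    ⟨A.pow_mem ha r, by rw [← pow_mul, mul_comm]; exact hexp a ha⟩
  have h2 : a ^ s ∈ tors A hA r := ⟨A.pow_mem ha s, by rw [← pow_mul]; exact hexp a ha⟩
  have h3 : a = (a ^ r) ^ (Nat.gcdB s r) * (a ^ s) ^ (Nat.gcdA s r) := by
    rw [← zpow_natCast a r, ← zpow_natCast a s, ← zpow_mul, ← zpow_mul, ← zpow_add,
      add_comm, hb, zpow_one]
  rw [h3]
  exact Subgroup.mul_mem_sup (Subgroup.zpow_mem _ h1 _) (Subgroup.zpow_mem _ h2 _)

end Tors

section Main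

variable {G : Type*} [Group G] [Finite G] (A : Subgroup G) [hAn : A.Normal]
  (hA : ∀ a ∈ A, ∀ b ∈ A, a * b = b * a)

omit [Finite G] hAn in
theorem pow_card_eq_one_of_mem {a : G} (ha : a ∈ A) : a ^ Nat.card A = 1 := by
  have h1 : (⟨a, ha⟩ : A) ^ Nat.card A = 1 := pow_card_eq_one'
  have := congrArg Subtype.val h1
  simpa only [SubgroupClass.coe_pow, OneMemClass.coe_one] using this

/-- order of the `q`-primary part -/
theorem card_tors_ordProj (q : ℕ) (hq : q.Prime) :
    Nat.card (tors A hA (q ^ (Nat.card A).factorization q)) = q ^ (Nat.card A).factorization q := by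
  have : Fact q.Prime := ⟨hq⟩
  set n := Nat.card A with hn
  have hn0 : n ≠ 0 := Nat.card_pos.ne'
  set s := q ^ n.factorization q with hs
  set r := n / q ^ n.factorization q with hr
  have hsr : s * r = n := Nat.ordProj_mul_ordCompl_eq_self n q
  have hqr : Nat.Coprime q r := Nat.coprime_ordCompl hq hn0
  have hcop : Nat.Coprime s r := Nat.Coprime.pow_left _ hqr
  have hexp : ∀ a ∈ A, a ^ (s * r) = 1 := fun a ha => by
    rw [hsr]; exact pow_card_eq_one_of_mem A ha
  have hBn : (tors A hA r).Normal := tors_normal A hA r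
  have h1 := Cfsg.H5.card_sup_mul_card_inf (H := tors A hA s) (N := tors A hA r)
    (by rw [Subgroup.normalizer_eq_top]; exact le_top)
  rw [tors_sup A hA hcop hexp, tors_inf A hA hcop, Subgroup.card_bot, mul_one, ← hn, ← hsr] at h1
  -- |A_q| is a power of q
  have hp : IsPGroup q (tors A hA s) := by
    intro g
    refine ⟨n.factorization q, Subtype.ext ?_⟩
    have := g.2.2
    simpa using this
  obtain ⟨k, hk⟩ := hp.exists_card_eq
  -- |B_q| is prime to q
  have hB : Nat.Coprime q (Nat.card (tors A hA r)) := by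
    rw [Nat.Prime.coprime_iff_not_dvd hq]
    intro hdvd
    obtain ⟨x, hx⟩ := exists_prime_orderOf_dvd_card' (G := tors A hA r) q hdvd
    have hx2 : (x : G) ^ r = 1 := x.2.2
    have hx3 : orderOf (x : G) = q := by rw [Subgroup.orderOf_coe, hx]
    have : q ∣ r := by rw [← hx3]; exact orderOf_dvd_of_pow_eq_one hx2
    exact (Nat.Prime.coprime_iff_not_dvd hq).mp hqr this
  rw [hk] at h1 ⊢
  apply Nat.dvd_antisymm
  · have h2 : q ^ k ∣ s * r := ⟨_, h1⟩
    exact (Nat.Coprime.pow_left k hqr).dvd_of_dvd_mul_right h2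
  · have h2 : s ∣ q ^ k * Nat.card (tors A hA r) := ⟨r, h1.symm⟩
    exact (Nat.Coprime.pow_left _ hB).dvd_of_dvd_mul_right h2

/-- each primary part of `A` has a complement in `G` -/
theorem exists_compl_tors
    (h : ∀ p : ℕ, p.Prime → p ∣ A.index → ∃ (S : Sylow p (G ⧸ A)) (K : Subgroup G),
      K ⊓ A = ⊥ ∧ K ⊔ A = (S : Subgroup (G ⧸ A)).comap (QuotientGroup.mk' A))
    (q : ℕ) (hq : q.Prime) :
    ∃ M : Subgroup G, Subgroup.IsComplement' (tors A hA (q ^ (Nat.card A).factorization q)) M := by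
  have : Fact q.Prime := ⟨hq⟩
  set n := Nat.card A with hn
  have hn0 : n ≠ 0 := Nat.card_pos.ne'
  have hcard := card_tors_ordProj A hA q hq
  rw [← hn] at hcard
  set s := q ^ n.factorization q with hs
  set r := n / q ^ n.factorization q with hr
  have hsr : s * r = n := Nat.ordProj_mul_ordCompl_eq_self n q
  have hqr : Nat.Coprime q r := Nat.coprime_ordCompl hq hn0
  have hcop : Nat.Coprime s r := Nat.Coprime.pow_left _ hqr
  have hexp : ∀ a ∈ A, a ^ (s * r) = 1 := fun a ha => by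
    rw [hsr]; exact pow_card_eq_one_of_mem A ha
  have hAqn : (tors A hA s).Normal := tors_normal A hA s
  have hBn : (tors A hA r).Normal := tors_normal A hA r
  have hAqc : IsMulCommutative (tors A hA s) := tors_comm A hA s
  by_cases hqi : q ∣ A.index
  · obtain ⟨S, K, hKA, hKU⟩ := h q hq hqi
    set U := (S : Subgroup (G ⧸ A)).comap (QuotientGroup.mk' A) with hU
    have hAU : A ≤ U := by rw [← hKU]; exact le_sup_right
    apply Cfsg.Agent.Lib.Helper1.Gaschutz.exists_isComplement' (tors A hA s) U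
      (le_trans (tors_le A hA s) hAU) ?_ (K ⊔ tors A hA r) ?_ ?_
    · rw [hcard, hU, Subgroup.index_comap_of_surjective _ (QuotientGroup.mk'_surjective A)]
      apply Nat.Coprime.pow_left
      rw [Nat.Prime.coprime_iff_not_dvd hq]
      exact S.not_dvd_index
    · rw [eq_bot_iff]
      rintro x ⟨hx1, hx2⟩
      rw [Subgroup.mem_bot]
      have hx1' : x ∈ K ⊔ tors A hA r := hx1
      have hx2 : x ∈ tors A hA s := hx2
      rw [← SetLike.mem_coe, Subgroup.mul_normal] at hx1'
      obtain ⟨k, hk, b, hb, rfl⟩ := Set.mem_mul.mp hx1'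
      have hkA : k ∈ A := by
        have h1 := A.mul_mem (tors_le A hA s hx2) (A.inv_mem (tors_le A hA r hb))
        rwa [mul_inv_cancel_right] at h1
      have hk1 : k = 1 := by
        have : k ∈ K ⊓ A := ⟨hk, hkA⟩
        rw [hKA, Subgroup.mem_bot] at this
        exact this
      rw [hk1, one_mul] at hx2 ⊢
      have : b ∈ tors A hA s ⊓ tors A hA r := ⟨hx2, hb⟩
      rw [tors_inf A hA hcop, Subgroup.mem_bot] at this
      exact this
    · rw [← hKU]
      conv_rhs => rw [← tors_sup A hA hcop hexp]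
      rw [sup_left_comm]
  · apply Cfsg.Agent.Lib.Helper1.Gaschutz.exists_isComplement' (tors A hA s) A
      (tors_le A hA s) ?_ (tors A hA r) ?_ ?_
    · rw [hcard]
      apply Nat.Coprime.pow_left
      rw [Nat.Prime.coprime_iff_not_dvd hq]
      exact hqi
    · rw [inf_comm]; exact tors_inf A hA hcop
    · exact tors_sup A hA hcop hexp

theorem exists_complement_of_local (hA : ∀ a ∈ A, ∀ b ∈ A, a * b = b * a)
    (h : ∀ p : ℕ, p.Prime → p ∣ A.index → ∃ (S : Sylow p (G ⧸ A)) (K : Subgroup G),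
      K ⊓ A = ⊥ ∧ K ⊔ A = (S : Subgroup (G ⧸ A)).comap (QuotientGroup.mk' A)) :
    ∃ K : Subgroup G, K.IsComplement' A := by
  classical
  set n := Nat.card A with hn
  have hn0 : n ≠ 0 := Nat.card_pos.ne'
  have hex : ∀ q : n.primeFactors, ∃ M : Subgroup G,
      Subgroup.IsComplement' (tors A hA ((q : ℕ) ^ n.factorization q)) M := fun q =>
    exists_compl_tors A hA h q (Nat.prime_of_mem_primeFactors q.2)
  choose M hM using hex
  set L := ⨅ q, M q with hL
  -- L ∩ A = 1
  have hLA : L ⊓ A = ⊥ := by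
    rw [eq_bot_iff]
    rintro x ⟨hxL, hxA⟩
    rw [Subgroup.mem_bot]
    by_contra hx1
    have ho : orderOf x ≠ 1 := fun h => hx1 (orderOf_eq_one_iff.mp h)
    obtain ⟨q, hq, hqx⟩ := Nat.exists_prime_and_dvd ho
    have hxn : orderOf x ∣ n := orderOf_dvd_of_pow_eq_one (pow_card_eq_one_of_mem A hxA)
    have hqn : q ∈ n.primeFactors := Nat.mem_primeFactors.mpr ⟨hq, hqx.trans hxn, hn0⟩
    have hxM : x ∈ M ⟨q, hqn⟩ := (Subgroup.mem_iInf.mp hxL) ⟨q, hqn⟩
    set s := q ^ n.factorization q with hs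
    set r := n / q ^ n.factorization q with hr
    have hsr : s * r = n := Nat.ordProj_mul_ordCompl_eq_self n q
    have hqr : Nat.Coprime q r := Nat.coprime_ordCompl hq hn0
    have h1 : x ^ r ∈ tors A hA s ⊓ M ⟨q, hqn⟩ := by
      refine ⟨⟨A.pow_mem hxA r, ?_⟩, Subgroup.pow_mem _ hxM r⟩
      rw [← pow_mul, mul_comm, hsr]
      exact pow_card_eq_one_of_mem A hxA
    rw [(hM ⟨q, hqn⟩).disjoint.eq_bot, Subgroup.mem_bot] at h1
    have h2 : q ∣ r := hqx.trans (orderOf_dvd_of_pow_eq_one h1)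
    exact hq.one_lt.ne' (Nat.Coprime.eq_one_of_dvd hqr h2)
  -- index bound
  have hidx : L.index ≤ n := by
    have h1 := Subgroup.index_iInf_le M
    have h2 : ∀ q : n.primeFactors, (M q).index = (q : ℕ) ^ n.factorization q := by
      intro q
      rw [(hM q).index_eq_card]
      exact card_tors_ordProj A hA q (Nat.prime_of_mem_primeFactors q.2)
    simp_rw [h2] at h1
    rw [← Nat.prod_primeFactors_coe_pow_factorization hn0] at h1
    exact h1
  refine ⟨L, Subgroup.isComplement'_of_card_mul_and_disjoint ?_ (disjoint_iff.mpr hLA)⟩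
  have h1 := Cfsg.H5.card_sup_mul_card_inf (H := L) (N := A)
    (by rw [Subgroup.normalizer_eq_top]; exact le_top)
  rw [hLA, Subgroup.card_bot, mul_one] at h1
  have h2 : Nat.card ↥(L ⊔ A) ≤ Nat.card G := Subgroup.card_le_card_group _
  have h3 : Nat.card L * L.index = Nat.card G := Subgroup.card_mul_index L
  have h4 : Nat.card L * L.index ≤ Nat.card L * Nat.card A := Nat.mul_le_mul_left _ hidx
  apply le_antisymm
  · rw [← h1]; exact h2
  · rw [← h3]; exact h4

end Main

/-- Let `A` be an abelian normal subgroup of the finite group `G`. Then `A` has a complement in `G` if and only if, for every prime `p` dividing the index of `A`, there are a Sylow `p`-subgroup `S` of `G/A` and a subgroup `K` of `G` with `K ∩ A = 1` and `KA` equal to the preimage of `S` (that is, `A` has a complement in the preimage of a Sylow `p`-subgroup of `G/A`). -/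
theorem result {G : Type*} [Group G] [Finite G] (A : Subgroup G) [A.Normal] (hA : IsMulCommutative A) : (∃ K : Subgroup G, K.IsComplement' A) ↔ ∀ p : ℕ, p.Prime → p ∣ A.index → ∃ (S : Sylow p (G ⧸ A)) (K : Subgroup G), K ⊓ A = ⊥ ∧ K ⊔ A = (S : Subgroup (G ⧸ A)).comap (QuotientGroup.mk' A) := by
  have hAc : ∀ a ∈ A, ∀ b ∈ A, a * b = b * a := fun a ha b hb =>
    congrArg Subtype.val (hA.is_comm.comm ⟨a, ha⟩ ⟨b, hb⟩)
  constructor
  · rintro ⟨K, hK⟩ p hp _
    have : Fact p.Prime := ⟨hp⟩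
    obtain ⟨S⟩ : Nonempty (Sylow p (G ⧸ A)) := inferInstance
    set U := (S : Subgroup (G ⧸ A)).comap (QuotientGroup.mk' A) with hU
    have hAU : A ≤ U := by
      intro a ha
      rw [hU, Subgroup.mem_comap]
      have : QuotientGroup.mk' A a = 1 := (QuotientGroup.eq_one_iff a).mpr ha
      rw [this]
      exact Subgroup.one_mem _
    refine ⟨S, U ⊓ K, ?_, ?_⟩
    · rw [eq_bot_iff, inf_assoc, hK.disjoint.eq_bot]
      exact inf_le_right
    · apply le_antisymm (sup_le inf_le_left hAU)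
      intro x hx
      have hx' : x ∈ K ⊔ A := by rw [hK.sup_eq_top]; exact Subgroup.mem_top x
      rw [← SetLike.mem_coe, Subgroup.mul_normal] at hx'
      obtain ⟨k, hk, a, ha, rfl⟩ := Set.mem_mul.mp hx'
      have hkU : k ∈ U := by
        have := U.mul_mem hx (U.inv_mem (hAU ha))
        rwa [mul_inv_cancel_right] at this
      exact Subgroup.mul_mem_sup ⟨hkU, hk⟩ ha
  · intro h
    exact exists_complement_of_local A hAc h

end Cfsg.Agent.S4217
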