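import Cfsg.Statements.S4218
import Cfsg.Agent.H5.PSolvable
import Cfsg.Agent.Lib.Helper1.Frattini
import Cfsg.Agent.Lib.Helper1.Cores
import Cfsg.Agent.Lib.Helper10.PComponent

set_option autoImplicit false
open Cfsg

namespace Cfsg.Agent.S4218

open Subgroup Cfsg.Agent.Lib.Helper1
open scoped commutatorElement

section hh

variable {X : Type*} [Group X] [Finite X] {p : ℕ} [Fact p.Prime]

/-- In a `p`-solvable group with `O_{p'} = 1`, an element acting trivially on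
`O_p / Φ(O_p)` lies in `O_p`. -/
theorem mem_pCore_of_trivial_mod_frattini (hsol : Cfsg.IsPSolvable p X)
    (hO : Cfsg.pPrimeCore p X = ⊥) (g : X)
    (hg : ∀ x ∈ Cfsg.pCore p X, g * x * g⁻¹ * x⁻¹ ∈
      (frattini ↥(Cfsg.pCore p X)).map (Cfsg.pCore p X).subtype) :
    g ∈ Cfsg.pCore p X := by
  have hp : p.Prime := Fact.out
  set Q := Cfsg.pCore p X with hQ
  set Φ' := (frattini ↥Q).map Q.subtype with hΦ'
  have hQn : Q.Normal := Cfsg.pCore_normal p X
  have hQp : IsPGroup p Q := pCore_isPGroup p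
  have hCQ : centralizer (Q : Set X) ≤ Q := Cfsg.H5.centralizer_pCore_le_of_isPSolvable hsol hO
  have hΦ'n : Φ'.Normal := by
    have h1 := normalizer_le_normalizer_map_of_characteristic Q (frattini ↥Q)
    rw [Subgroup.normalizer_eq_top (H := Q)] at h1
    exact Subgroup.normalizer_eq_top_iff.mp (top_le_iff.mp h1)
  let K : Subgroup X :=
    { carrier := {a | ∀ x ∈ Q, a * x * a⁻¹ * x⁻¹ ∈ Φ'}
      one_mem' := by
        intro x hx
        have h1 : (1 : X) * x * 1⁻¹ * x⁻¹ = 1 := by group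
        rw [h1]; exact one_mem _
      mul_mem' := by
        intro a b ha hb x hx
        have h1 : a * b * x * (a * b)⁻¹ * x⁻¹ =
            a * (b * x * b⁻¹ * x⁻¹) * a⁻¹ * (a * x * a⁻¹ * x⁻¹) := by group
        rw [h1]
        exact mul_mem (hΦ'n.conj_mem _ (hb x hx) a) (ha x hx)
      inv_mem' := by
        intro a ha x hx
        have h1 : a⁻¹ * x * a⁻¹⁻¹ * x⁻¹ = a⁻¹ * (a * x * a⁻¹ * x⁻¹)⁻¹ * a⁻¹⁻¹ := by group
        rw [h1]
        exact hΦ'n.conj_mem _ (inv_mem (ha x hx)) a⁻¹ }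
  have hKmem : ∀ a : X, a ∈ K ↔ ∀ x ∈ Q, a * x * a⁻¹ * x⁻¹ ∈ Φ' := fun a => Iff.rfl
  have hKn : K.Normal := by
    constructor
    intro a ha c
    rw [hKmem] at ha ⊢
    intro x hx
    have hx' : c⁻¹ * x * c⁻¹⁻¹ ∈ Q := hQn.conj_mem x hx c⁻¹
    have h1 : c * a * c⁻¹ * x * (c * a * c⁻¹)⁻¹ * x⁻¹ =
        c * (a * (c⁻¹ * x * c⁻¹⁻¹) * a⁻¹ * (c⁻¹ * x * c⁻¹⁻¹)⁻¹) * c⁻¹ := by group
    rw [h1]
    exact hΦ'n.conj_mem _ (ha _ hx') c
  have hKp : IsPGroup p K := by
    intro a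
    obtain ⟨k, m, hm, hkm⟩ := Nat.exists_eq_pow_mul_and_not_dvd
      (orderOf_pos (a : X)).ne' p hp.ne_one
    refine ⟨k, ?_⟩
    set y : X := (a : X) ^ p ^ k with hy
    have hyK : y ∈ K := pow_mem a.2 _
    have hym : y ^ m = 1 := by
      rw [hy, ← pow_mul, ← hkm, pow_orderOf_eq_one]
    have hycop : (orderOf y).Coprime p := by
      apply Nat.Coprime.coprime_dvd_left (orderOf_dvd_of_pow_eq_one hym)
      exact ((Nat.Prime.coprime_iff_not_dvd hp).mpr hm).symm
    have hAQ : Subgroup.zpowers y ≤ centralizer (Q : Set X) := by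
      apply le_centralizer_of_commutator_le_frattini (Subgroup.zpowers y) Q
      · rw [Subgroup.normalizer_eq_top (H := Q)]; exact le_top
      · rw [Nat.card_zpowers]
        obtain ⟨j, hj⟩ := (IsPGroup.iff_card.mp (hQp.to_subgroup (frattini ↥Q)))
        rw [hj]
        exact Nat.Coprime.pow_right j hycop
      · intro a' ha' x hx
        exact (Subgroup.zpowers_le.mpr hyK) ha' x hx
    have hyQ : y ∈ Q := hCQ (hAQ (Subgroup.mem_zpowers y))
    have hy1 : y = 1 := Cfsg.H5.eq_one_of_coprime_of_mem_pgroup hycop hQp hyQ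
    apply Subtype.ext
    rw [Subgroup.coe_pow, Subgroup.coe_one]
    exact hy1
  exact (le_pCore hKn hKp) hg

end hh

section bridge

theorem frattini_comap_equiv {A B : Type*} [Group A] [Group B] (e : A ≃* B) :
    (frattini B).comap e.toMonoidHom = frattini A := by
  apply le_antisymm
  · have h1 := frattini_le_comap_frattini_of_surjective (φ := e.symm.toMonoidHom) e.symm.surjective
    intro x hx
    have h2 := h1 (Subgroup.mem_comap.mp hx)
    rw [Subgroup.mem_comap] at h2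
    simpa using h2
  · exact frattini_le_comap_frattini_of_surjective (φ := e.toMonoidHom) e.surjective

end bridge

/-- Let `G` be a finite `p`-solvable group, `N₀ = O_{p'}(G)`, `P₁ = O_{p',p}(G)`, and let `F ≤ P₁` be the preimage of the Frattini subgroup of `P₁/N₀`. Then an element `g` of `G` induces the identity on `P₁/F` by conjugation (that is, `g x g⁻¹ x⁻¹ ∈ F` for all `x ∈ P₁`) if and only if `g ∈ P₁`: the group `G/P₁` acts faithfully on `P₁/F`. -/
theorem result {G : Type*} [Group G] [Finite G] {p : ℕ} [Fact p.Prime] (hG : Cfsg.IsPSolvable p G) (g : G) : (∀ x ∈ Cfsg.pPrimePCore p G, g * x * g⁻¹ * x⁻¹ ∈ ((frattini (↥(Cfsg.pPrimePCore p G) ⧸ (Cfsg.pPrimeCore p G).subgroupOf (Cfsg.pPrimePCore p G))).comap (QuotientGroup.mk' ((Cfsg.pPrimeCore p G).subgroupOf (Cfsg.pPrimePCore p G)))).map (Cfsg.pPrimePCore p G).subtype) ↔ g ∈ Cfsg.pPrimePCore p G := by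
  have hp : p.Prime := Fact.out
  set N₀ := Cfsg.pPrimeCore p G with hN₀
  set P₁ := Cfsg.pPrimePCore p G with hP₁
  set π := QuotientGroup.mk' N₀ with hπ
  set Qb := Cfsg.pCore p (G ⧸ N₀) with hQb
  have hP₁def : ∀ y : G, y ∈ P₁ ↔ π y ∈ Qb := fun y => Iff.rfl
  have hπs : Function.Surjective π := QuotientGroup.mk'_surjective N₀
  have hQbp : IsPGroup p Qb := pCore_isPGroup p
  -- the map `P₁ → Qb`
  let θ : ↥P₁ →* ↥Qb := (π.comp P₁.subtype).codRestrict Qb (fun x => x.2)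
  have hθ : ∀ x : ↥P₁, ((θ x : ↥Qb) : G ⧸ N₀) = π (x : G) := fun x => rfl
  have hθs : Function.Surjective θ := by
    rintro ⟨yb, hyb⟩
    obtain ⟨y, rfl⟩ := hπs yb
    exact ⟨⟨y, hyb⟩, rfl⟩
  have hker : θ.ker = N₀.subgroupOf P₁ := by
    ext x
    rw [MonoidHom.mem_ker, Subgroup.mem_subgroupOf, ← QuotientGroup.eq_one_iff (N := N₀)]
    constructor
    · intro h
      have := congrArg Subtype.val h
      exact this
    · intro h
      exact Subtype.ext h
  let ψ : (↥P₁ ⧸ N₀.subgroupOf P₁) ≃* ↥Qb :=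
    (QuotientGroup.quotientMulEquivOfEq hker.symm).trans
      (QuotientGroup.quotientKerEquivOfSurjective θ hθs)
  have hψ : ∀ x : ↥P₁, ψ (QuotientGroup.mk' (N₀.subgroupOf P₁) x) = θ x := fun x => rfl
  -- membership in `F`
  have hF : ∀ (y : G) (hy : y ∈ P₁),
      (y ∈ ((frattini (↥P₁ ⧸ N₀.subgroupOf P₁)).comap
        (QuotientGroup.mk' (N₀.subgroupOf P₁))).map P₁.subtype ↔
        θ ⟨y, hy⟩ ∈ frattini ↥Qb) := by
    intro y hy
    rw [← frattini_comap_equiv ψ]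
    constructor
    · rintro ⟨x, hx, hxy⟩
      have hx' : x = ⟨y, hy⟩ := Subtype.ext hxy
      subst hx'
      exact hx
    · intro h
      exact ⟨⟨y, hy⟩, h, rfl⟩
  constructor
  · intro hyp
    rw [hP₁def]
    apply mem_pCore_of_trivial_mod_frattini (Cfsg.H5.isPSolvable_quotient N₀ hG)
      (Cfsg.Agent.Lib.Helper10.pPrimeCore_quotient_eq_bot p)
    intro xb hxb
    obtain ⟨x, rfl⟩ := hπs xb
    have hx : x ∈ P₁ := hxb
    have h1 := hyp x hx
    have hc : g * x * g⁻¹ * x⁻¹ ∈ P₁ := by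
      obtain ⟨c, -, hc⟩ := h1
      rw [← hc]; exact c.2
    have h2 := (hF _ hc).mp h1
    refine ⟨θ ⟨_, hc⟩, h2, ?_⟩
    change π (g * x * g⁻¹ * x⁻¹) = π g * π x * (π g)⁻¹ * (π x)⁻¹
    simp only [map_mul, map_inv]
  · intro hg x hx
    have hc : g * x * g⁻¹ * x⁻¹ ∈ P₁ :=
      mul_mem (mul_mem (mul_mem hg hx) (inv_mem hg)) (inv_mem hx)
    rw [hF _ hc]
    apply Cfsg.Agent.Lib.Helper1.IsPGroup.commutator_le_frattini hQbp
    have h1 : θ ⟨g * x * g⁻¹ * x⁻¹, hc⟩ = ⁅θ ⟨g, hg⟩, θ ⟨x, hx⟩⁆ := by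
      rw [commutatorElement_def, ← map_inv, ← map_inv, ← map_mul, ← map_mul, ← map_mul]
      rfl
    rw [h1, _root_.commutator_def]
    exact Subgroup.commutator_mem_commutator (Subgroup.mem_top _) (Subgroup.mem_top _)

end Cfsg.Agent.S4218
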