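import Cfsg.Statements.S4220
import Cfsg.Agent.Lib.Helper3.Mil9

set_option autoImplicit false
open Cfsg

namespace Cfsg.Agent.S4220

open Cfsg.Agent.Lib.Helper3.Mil

/-- Let `n = kp + r` with `p` prime, `1 ≤ k < p` and `r > k`, excluding the case `k = 1, r = 2`. Then a permutation group of degree `n` that is `(r + 1)`-fold transitive contains the alternating group. -/
theorem result {α : Type*} [Fintype α] [DecidableEq α] (G : Subgroup (Equiv.Perm α)) {k p r : ℕ} (hp : p.Prime) (hn : Fintype.card α = k * p + r) (hk : 1 ≤ k) (hpk : k < p) (hrk : k < r) (hex : ¬ (k = 1 ∧ r = 2)) (hG : MulAction.IsMultiplyPretransitive G α (r + 1)) : alternatingGroup α ≤ G := by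
  have hr3 : 3 ≤ r := by
    by_contra hcon
    apply hex
    omega
  obtain ⟨c⟩ := exists_ctx G hp hn hk hpk hG
  rcases Nat.lt_or_ge 1 k with hk2 | hk1
  · -- k ≥ 2
    rcases Nat.lt_or_ge r 5 with hr5 | hr5
    · -- r ∈ {3, 4}
      rcases Nat.lt_or_ge r 4 with hr4 | hr4
      · -- r = 3, k = 2
        obtain rfl : r = 3 := by omega
        obtain rfl : k = 2 := by omega
        by_cases hp3 : p = 3
        · subst hp3
          exact nine G (by omega) hG
        · exact case_32 c hn hp hp3 hG
      · -- r = 4
        obtain rfl : r = 4 := by omega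
        rcases Nat.lt_or_ge k 3 with hk3 | hk3
        · exact c.case_k2 hn (by omega) hpk hp le_rfl hG
        · obtain rfl : k = 3 := by omega
          exact case_43 c hn hp hpk hG
    · exact c.case_ge5 hn hk2 hpk hrk hp hr5 hG
  · obtain rfl : k = 1 := by omega
    exact case_k1 c hn hp hr3 hG

end Cfsg.Agent.S4220
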