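import Cfsg.Statements.S4223

set_option autoImplicit false
open Cfsg

namespace Cfsg.Agent.S4223

universe u v w u' v'

/-- directly indecomposable nontrivial group -/
def Indec (P : Type u) [Group P] : Prop :=
  Nontrivial P ∧ ∀ H K : Subgroup P, H.Normal → K.Normal → H ⊓ K = ⊥ → H ⊔ K = ⊤ →
    H = ⊥ ∨ K = ⊥

/-- normal endomorphism -/
def IsNormalEnd {P : Type u} [Group P] (θ : P →* P) : Prop :=
  ∀ g x, θ (g * x * g⁻¹) = g * θ x * g⁻¹

section Fitting

variable {P : Type u} [Group P]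

theorem IsNormalEnd.iterate {θ : P →* P} (h : IsNormalEnd θ) (k : ℕ) (g x : P) :
    θ^[k] (g * x * g⁻¹) = g * θ^[k] x * g⁻¹ := by
  induction k with
  | zero => rfl
  | succ k ih => rw [Function.iterate_succ_apply', Function.iterate_succ_apply', ih, h]

theorem idem_aux {α : Type u} (f : α → α) (a d : ℕ) (hd : 0 < d) (h : f^[a + d] = f^[a]) :
    ∃ N : ℕ, 0 < N ∧ ∀ x, f^[N] (f^[N] x) = f^[N] x := by
  have h1 : ∀ s, a ≤ s → f^[s + d] = f^[s] := by
    intro s hs
    obtain ⟨c, rfl⟩ := Nat.exists_eq_add_of_le hs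
    rw [show a + c + d = c + (a + d) by ring, Function.iterate_add, h, ← Function.iterate_add,
      add_comm c a]
  have h2 : ∀ t s, a ≤ s → f^[s + t * d] = f^[s] := by
    intro t
    induction t with
    | zero => intro s _; simp
    | succ t ih =>
      intro s hs
      rw [show s + (t + 1) * d = (s + t * d) + d by ring,
        h1 _ (le_trans hs (Nat.le_add_right _ _)), ih s hs]
  refine ⟨(a + 1) * d, Nat.mul_pos (Nat.succ_pos a) hd, ?_⟩
  intro x
  have h3 : a ≤ (a + 1) * d := by nlinarith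
  have h4 := h2 (a + 1) ((a + 1) * d) h3
  rw [← Function.iterate_add_apply, h4]

/-- on a finite type some positive iterate is idempotent -/
theorem exists_idempotent_iterate {α : Type u} [Finite α] (f : α → α) :
    ∃ N : ℕ, 0 < N ∧ ∀ x, f^[N] (f^[N] x) = f^[N] x := by
  obtain ⟨a, b, hab, hfab⟩ := Finite.exists_ne_map_eq_of_infinite (fun k : ℕ => f^[k])
  rcases Nat.lt_or_gt_of_ne hab with h | h
  · obtain ⟨d, rfl⟩ := Nat.exists_eq_add_of_lt h
    exact idem_aux f a (d + 1) (Nat.succ_pos d) hfab.symm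
  · obtain ⟨d, rfl⟩ := Nat.exists_eq_add_of_lt h
    exact idem_aux f b (d + 1) (Nat.succ_pos d) hfab

/-- iterates of an endomorphism, as endomorphisms -/
def iter (θ : P →* P) : ℕ → (P →* P)
  | 0 => MonoidHom.id P
  | k + 1 => θ.comp (iter θ k)

theorem iter_apply (θ : P →* P) (k : ℕ) (x : P) : iter θ k x = θ^[k] x := by
  induction k with
  | zero => rfl
  | succ k ih =>
    rw [Function.iterate_succ_apply', ← ih]
    rfl

/-- **Fitting's lemma** for finite indecomposable groups -/
theorem fitting [Finite P] (hP : Indec P) {θ : P →* P} (hθ : IsNormalEnd θ) :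
    Function.Bijective θ ∨ ∃ N, ∀ x, θ^[N] x = 1 := by
  obtain ⟨N, hN, hidem⟩ := exists_idempotent_iterate (θ : P → P)
  obtain ⟨ψ, hψdef⟩ : ∃ ψ : P →* P, ψ = iter θ N := ⟨_, rfl⟩
  have hψ : ∀ x, ψ x = θ^[N] x := by
    intro x; rw [hψdef]; exact iter_apply θ N x
  have hψψ : ∀ x, ψ (ψ x) = ψ x := by
    intro x; rw [hψ, hψ, hidem]
  have hψn : ∀ g x, ψ (g * x * g⁻¹) = g * ψ x * g⁻¹ := by
    intro g x; rw [hψ, hψ, hθ.iterate]
  have hrn : ψ.range.Normal := by
    constructor
    rintro y ⟨x, rfl⟩ g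
    exact ⟨g * x * g⁻¹, hψn g x⟩
  have hinf : ψ.ker ⊓ ψ.range = ⊥ := by
    rw [eq_bot_iff]
    rintro y ⟨hy1, ⟨x, rfl⟩⟩
    have hy2 : ψ (ψ x) = 1 := hy1
    rw [hψψ] at hy2
    rw [Subgroup.mem_bot]
    exact hy2
  have hsup : ψ.ker ⊔ ψ.range = ⊤ := by
    rw [eq_top_iff]
    intro g _
    have h1 : g * (ψ g)⁻¹ ∈ ψ.ker := by
      rw [MonoidHom.mem_ker, map_mul, map_inv, hψψ, mul_inv_cancel]
    have h2 : g = g * (ψ g)⁻¹ * ψ g := by group
    rw [h2]
    exact Subgroup.mul_mem_sup h1 ⟨g, rfl⟩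
  rcases hP.2 ψ.ker ψ.range inferInstance hrn hinf hsup with h | h
  · left
    have hinj : Function.Injective ψ := (MonoidHom.ker_eq_bot_iff ψ).mp h
    have hθinj : Function.Injective θ := by
      intro x y hxy
      apply hinj
      rw [hψ, hψ]
      have h3 : ∀ k, θ^[k + 1] x = θ^[k + 1] y := fun k => by
        rw [Function.iterate_succ_apply, Function.iterate_succ_apply, hxy]
      have h4 := h3 (N - 1)
      rwa [Nat.sub_add_cancel hN] at h4
    exact Finite.injective_iff_bijective.mp hθinj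
  · right
    refine ⟨N, fun x => ?_⟩
    rw [← hψ]
    have h1 : ψ x ∈ ψ.range := ⟨x, rfl⟩
    rw [h, Subgroup.mem_bot] at h1
    exact h1

/-- if a normal automorphism is the "sum" of two endomorphisms, the first of them normal,
then one of the two is bijective -/
theorem two_term [Finite P] (hP : Indec P) {φ ψ σ : P →* P} (hφ : IsNormalEnd φ)
    (hσ : IsNormalEnd σ) (hσb : Function.Bijective σ)
    (hsum : ∀ x, σ x = φ x * ψ x) : Function.Bijective φ ∨ Function.Bijective ψ := by
  by_cases hφb : Function.Bijective φ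
  · exact Or.inl hφb
  right
  obtain ⟨s, hs⟩ : ∃ s : P ≃* P, ∀ x, s x = σ x := ⟨MulEquiv.ofBijective σ hσb, fun x => rfl⟩
  obtain ⟨τ, hτ⟩ : ∃ τ : P →* P, ∀ x, τ x = s.symm (φ x) :=
    ⟨s.symm.toMonoidHom.comp φ, fun x => rfl⟩
  have hτn : IsNormalEnd τ := by
    intro g x
    rw [hτ, hτ, hφ]
    apply s.injective
    rw [s.apply_symm_apply, hs, hσ, ← hs, s.apply_symm_apply]
  have hτb : ¬ Function.Bijective τ := by
    intro h
    apply hφb
    have h1 : (φ : P → P) = s ∘ τ := by
      funext x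
      rw [Function.comp_apply, hτ, s.apply_symm_apply]
    rw [h1]
    exact s.bijective.comp h
  rcases fitting hP hτn with h | ⟨N, hN⟩
  · exact absurd h hτb
  · apply Finite.injective_iff_bijective.mp
    rw [injective_iff_map_eq_one]
    intro x hx
    have h1 : τ x = x := by
      rw [hτ]
      apply s.injective
      rw [s.apply_symm_apply, hs, hsum, hx, mul_one]
    have h2 : τ^[N] x = x := Function.iterate_fixed h1 N
    rw [← h2, hN]

/-- if a normal automorphism is a "sum" of finitely many normal endomorphisms, one of them is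
bijective -/
theorem sum_lemma [Finite P] (hP : Indec P) {κ : Type w} [DecidableEq κ]
    (Θ : Finset κ → (P →* P)) (hn : ∀ S, IsNormalEnd (Θ S))
    (hadd : ∀ S T, Disjoint S T → ∀ x, Θ (S ∪ T) x = Θ S x * Θ T x) :
    ∀ S, Function.Bijective (Θ S) → ∃ j ∈ S, Function.Bijective (Θ {j}) := by
  intro S
  induction S using Finset.induction_on with
  | empty =>
    intro hb
    exfalso
    have h1 : ∀ x, Θ ∅ x = 1 := by
      intro x
      have h2 := hadd ∅ ∅ (Finset.disjoint_empty_left _) x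
      rw [Finset.empty_union] at h2
      apply mul_left_cancel (a := Θ ∅ x)
      rw [mul_one]
      exact h2.symm
    have hnt := hP.1
    obtain ⟨x, hx⟩ := exists_ne (1 : P)
    apply hx
    apply hb.1
    rw [h1, h1]
  | insert j S hj ih =>
    intro hb
    have hdisj : Disjoint ({j} : Finset κ) S := Finset.disjoint_singleton_left.mpr hj
    have hins : insert j S = {j} ∪ S := Finset.insert_eq j S
    rw [hins] at hb
    rcases two_term hP (hn {j}) (hn ({j} ∪ S)) hb (hadd {j} S hdisj) with h | h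
    · exact ⟨j, Finset.mem_insert_self j S, h⟩
    · obtain ⟨j', hj', hb'⟩ := ih h
      exact ⟨j', Finset.mem_insert_of_mem hj', hb'⟩

end Fitting

section Exchange

variable {κ : Type w} [DecidableEq κ] (B : κ → Type v) [∀ j, Group (B j)]

/-- truncation endomorphism of a product -/
def cut (S : Finset κ) : ((j : κ) → B j) →* ((j : κ) → B j) where
  toFun y j := if j ∈ S then y j else 1
  map_one' := by
    funext j
    by_cases h : j ∈ S <;> simp [h]
  map_mul' y z := by
    funext j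
    by_cases h : j ∈ S <;> simp [h]

theorem cut_apply (S : Finset κ) (y : (j : κ) → B j) (j : κ) :
    cut B S y j = if j ∈ S then y j else 1 := rfl

theorem cut_union {S T : Finset κ} (hd : Disjoint S T) (y : (j : κ) → B j) :
    cut B (S ∪ T) y = cut B S y * cut B T y := by
  funext j
  rw [Pi.mul_apply, cut_apply, cut_apply, cut_apply]
  by_cases hS : j ∈ S
  · have hT : j ∉ T := Finset.disjoint_left.mp hd hS
    simp [hS, hT]
  · by_cases hT : j ∈ T
    · simp [hS, hT]
    · simp [hS, hT]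

theorem cut_univ [Fintype κ] (y : (j : κ) → B j) : cut B Finset.univ y = y := by
  funext j
  rw [cut_apply, if_pos (Finset.mem_univ j)]

theorem cut_singleton (j₀ : κ) (y : (j : κ) → B j) :
    cut B {j₀} y = Pi.mulSingle j₀ (y j₀) := by
  funext j
  rw [cut_apply]
  by_cases h : j = j₀
  · rw [h, if_pos (Finset.mem_singleton_self j₀), Pi.mulSingle_eq_same]
  · rw [if_neg (by rw [Finset.mem_singleton]; exact h), Pi.mulSingle_eq_of_ne h]

theorem cut_conj (S : Finset κ) (a y : (j : κ) → B j) :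
    cut B S (a * y * a⁻¹) = a * cut B S y * a⁻¹ := by
  funext j
  by_cases h : j ∈ S <;> simp [cut_apply, h]

variable {B}
variable {P : Type u} {P' : Type u'} [Group P] [Group P']

/-- **Exchange lemma**: an indecomposable direct factor of a product of indecomposable groups
can be exchanged against one of the factors. -/
theorem exchange [Fintype κ] [Finite P] [∀ j, Finite (B j)] (hP : Indec P)
    (hB : ∀ j, Indec (B j)) (e : P × P' ≃* ((j : κ) → B j)) :
    ∃ j₀, Nonempty (P ≃* B j₀) ∧ Nonempty (P' ≃* ((j : {j // j ≠ j₀}) → B j)) := by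
  obtain ⟨incl, hincl⟩ : ∃ incl : P →* ((j : κ) → B j), ∀ p, incl p = e (p, 1) :=
    ⟨e.toMonoidHom.comp (MonoidHom.inl P P'), fun p => rfl⟩
  obtain ⟨proj, hproj⟩ : ∃ proj : ((j : κ) → B j) →* P, ∀ y, proj y = (e.symm y).1 :=
    ⟨(MonoidHom.fst P P').comp e.symm.toMonoidHom, fun y => rfl⟩
  have hpi : ∀ p, proj (incl p) = p := by
    intro p; rw [hproj, hincl, e.symm_apply_apply]
  have hprojconj : ∀ a y, incl (proj (a * y * a⁻¹)) = a * incl (proj y) * a⁻¹ := by
    intro a y
    apply e.symm.injective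
    have h1 : e.symm (incl (proj (a * y * a⁻¹))) = (proj (a * y * a⁻¹), 1) := by
      rw [hincl, e.symm_apply_apply]
    have h2 : e.symm (a * incl (proj y) * a⁻¹) = e.symm a * (proj y, 1) * (e.symm a)⁻¹ := by
      rw [map_mul, map_mul, map_inv, hincl, e.symm_apply_apply]
    rw [h1, h2, map_mul, map_mul, map_inv, hproj, hproj]
    ext <;> simp
  obtain ⟨Θ, hΘ⟩ : ∃ Θ : Finset κ → (P →* P), ∀ S x, Θ S x = proj (cut B S (incl x)) :=
    ⟨fun S => proj.comp ((cut B S).comp incl), fun S x => rfl⟩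
  have hn : ∀ S, IsNormalEnd (Θ S) := by
    intro S g x
    have h1 : incl (g * x * g⁻¹) = incl g * incl x * (incl g)⁻¹ := by
      rw [map_mul, map_mul, map_inv]
    rw [hΘ, hΘ, h1, cut_conj]
    have h2 : proj (incl g * cut B S (incl x) * (incl g)⁻¹) =
        proj (incl g) * proj (cut B S (incl x)) * (proj (incl g))⁻¹ := by
      rw [map_mul, map_mul, map_inv]
    rw [h2, hpi]
  have hadd : ∀ S T, Disjoint S T → ∀ x, Θ (S ∪ T) x = Θ S x * Θ T x := by
    intro S T hd x
    rw [hΘ, hΘ, hΘ, cut_union B hd, map_mul]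
  have huniv : Function.Bijective (Θ Finset.univ) := by
    have h1 : (Θ Finset.univ : P → P) = id := by
      funext x
      rw [hΘ, cut_univ, hpi]
      rfl
    rw [h1]
    exact Function.bijective_id
  obtain ⟨j₀, -, hj₀⟩ := sum_lemma hP Θ hn hadd Finset.univ huniv
  refine ⟨j₀, ?_⟩
  obtain ⟨ms, hms⟩ : ∃ ms : B j₀ →* ((j : κ) → B j), ∀ b, ms b = Pi.mulSingle j₀ b :=
    ⟨MonoidHom.mulSingle B j₀, fun b => rfl⟩
  have hms_same : ∀ b, ms b j₀ = b := by
    intro b; rw [hms, Pi.mulSingle_eq_same]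
  have hms_ne : ∀ b j, j ≠ j₀ → ms b j = 1 := by
    intro b j hj; rw [hms, Pi.mulSingle_eq_of_ne hj]
  obtain ⟨α, hα⟩ : ∃ α : P →* B j₀, ∀ p, α p = incl p j₀ :=
    ⟨(Pi.evalMonoidHom B j₀).comp incl, fun p => rfl⟩
  obtain ⟨β, hβ⟩ : ∃ β : B j₀ →* P, ∀ b, β b = proj (ms b) :=
    ⟨proj.comp ms, fun b => rfl⟩
  have hβα : ∀ p, Θ {j₀} p = β (α p) := by
    intro p; rw [hΘ, cut_singleton, hβ, hα, hms]
  have hβαb : Function.Bijective (fun p => β (α p)) := by
    have h1 : (fun p => β (α p)) = Θ {j₀} := funext (fun p => (hβα p).symm)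
    rw [h1]
    exact hj₀
  have hαinj : Function.Injective α := by
    intro x y hxy
    apply hβαb.1
    change β (α x) = β (α y)
    rw [hxy]
  have hβsurj : Function.Surjective β := by
    intro p
    obtain ⟨x, hx⟩ := hβαb.2 p
    exact ⟨α x, hx⟩
  obtain ⟨γ, hγ⟩ : ∃ γ : B j₀ →* B j₀, ∀ b, γ b = α (β b) := ⟨α.comp β, fun b => rfl⟩
  have hγn : IsNormalEnd γ := by
    intro b x
    have h1 : ms (b * x * b⁻¹) = ms b * ms x * (ms b)⁻¹ := by rw [map_mul, map_mul, map_inv]
    rw [hγ, hγ, hβ, hβ, hα, hα, h1, hprojconj, Pi.mul_apply, Pi.mul_apply, Pi.inv_apply,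
      hms_same]
  have hγb : Function.Bijective γ := by
    rcases fitting (hB j₀) hγn with h | ⟨N, hN⟩
    · exact h
    · exfalso
      have hnt := hP.1
      obtain ⟨p, hp⟩ := exists_ne (1 : P)
      have h1 : ∀ k, α ((fun p => β (α p))^[k] p) = γ^[k] (α p) := by
        intro k
        induction k with
        | zero => rfl
        | succ k ih =>
          rw [Function.iterate_succ_apply', Function.iterate_succ_apply', ← ih, hγ]
      have h2 : α ((fun p => β (α p))^[N] p) = 1 := by rw [h1, hN]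
      have h3 : (fun p => β (α p))^[N] p = 1 := hαinj (by rw [h2, map_one])
      have h4 : (fun p => β (α p))^[N] p = (fun p => β (α p))^[N] 1 := by
        rw [h3]
        symm
        apply Function.iterate_fixed
        rw [map_one, map_one]
      exact hp ((hβαb.1.iterate N) h4)
  have hβinj : Function.Injective β := by
    intro x y hxy
    apply hγb.1
    rw [hγ, hγ, hxy]
  refine ⟨⟨(MulEquiv.ofBijective β ⟨hβinj, hβsurj⟩).symm⟩, ?_⟩
  obtain ⟨Φ, hΦ⟩ : ∃ Φ : P' →* ((j : {j // j ≠ j₀}) → B j), ∀ p' j, Φ p' j = e (1, p') j.1 := by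
    refine ⟨{ toFun := fun p' j => e (1, p') j.1, map_one' := ?_, map_mul' := ?_ },
      fun _ _ => rfl⟩
    · funext j
      have h1 : ((1 : P), (1 : P')) = 1 := rfl
      rw [h1, map_one]
      rfl
    · intro a b
      funext j
      have h1 : ((1 : P), a * b) = (1, a) * (1, b) := by
        rw [Prod.mk_mul_mk, one_mul]
      rw [h1, map_mul]
      rfl
  have hΦinj : Function.Injective Φ := by
    rw [injective_iff_map_eq_one]
    intro p' hp'
    have h1 : e (1, p') = ms (e (1, p') j₀) := by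
      funext j
      by_cases hj : j = j₀
      · rw [hj, hms_same]
      · have h2 := congrFun hp' ⟨j, hj⟩
        rw [hΦ] at h2
        rw [h2, hms_ne _ j hj]
        rfl
    have h2 : β (e (1, p') j₀) = 1 := by
      rw [hβ, ← h1, hproj, e.symm_apply_apply]
    have h3 : e (1, p') j₀ = 1 := by
      apply hβinj
      rw [h2, map_one]
    have h4 : e (1, p') = 1 := by rw [h1, h3, map_one]
    have h5 : ((1 : P), p') = 1 := e.injective (by rw [h4, map_one])
    exact (Prod.ext_iff.mp h5).2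
  have hΦsurj : Function.Surjective Φ := by
    intro f
    obtain ⟨y, hy⟩ : ∃ y : (j : κ) → B j, ∀ j : {j // j ≠ j₀}, y j.1 = f j :=
      ⟨fun j => if h : j = j₀ then 1 else f ⟨j, h⟩, fun j => dif_neg j.2⟩
    obtain ⟨b, hb⟩ := hβsurj (e.symm y).1
    obtain ⟨z, hz⟩ : ∃ z, z = ms b := ⟨_, rfl⟩
    refine ⟨(e.symm (z⁻¹ * y)).2, ?_⟩
    have h1 : (e.symm (z⁻¹ * y)).1 = 1 := by
      rw [map_mul, map_inv, Prod.fst_mul, Prod.fst_inv, ← hproj z, hz, ← hβ, hb, inv_mul_cancel]
    have h2 : e (1, (e.symm (z⁻¹ * y)).2) = z⁻¹ * y := by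
      have h3 : ((1 : P), (e.symm (z⁻¹ * y)).2) = e.symm (z⁻¹ * y) := by
        ext
        · exact h1.symm
        · rfl
      rw [h3, e.apply_symm_apply]
    funext j
    rw [hΦ, h2, Pi.mul_apply, Pi.inv_apply, hz, hms_ne b j.1 j.2, inv_one, one_mul, hy]
  exact ⟨MulEquiv.ofBijective Φ ⟨hΦinj, hΦsurj⟩⟩

end Exchange

/-- **Krull–Remak–Schmidt** for finite groups, general index types -/
theorem main (N : ℕ) : ∀ (ι κ : Type) [Finite ι] [Finite κ] (A : ι → Type u) (B : κ → Type v)
    [∀ i, Group (A i)] [∀ j, Group (B j)] [∀ i, Finite (A i)] [∀ j, Finite (B j)],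
    Nat.card ι = N → (∀ i, Indec (A i)) → (∀ j, Indec (B j)) →
    (((i : ι) → A i) ≃* ((j : κ) → B j)) →
    ∃ σ : ι ≃ κ, ∀ i, Nonempty (A i ≃* B (σ i)) := by
  induction N with
  | zero =>
    intro ι κ _ _ A B _ _ _ _ hN hA hB e
    classical
    have hι : IsEmpty ι := by
      rcases Nat.card_eq_zero.mp hN with h | h
      · exact h
      · exact absurd ‹Finite ι› (not_finite_iff_infinite.mpr h)
    have hκ : IsEmpty κ := by
      by_contra hne
      rw [not_isEmpty_iff] at hne
      obtain ⟨j⟩ := hne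
      have hnt := (hB j).1
      obtain ⟨b, hb⟩ := exists_ne (1 : B j)
      have h1 : e.symm (Pi.mulSingle j b) = e.symm 1 := Subsingleton.elim _ _
      have h2 := e.symm.injective h1
      have h3 := congrFun h2 j
      rw [Pi.mulSingle_eq_same] at h3
      exact hb h3
    exact ⟨Equiv.equivOfIsEmpty ι κ, fun i => isEmptyElim i⟩
  | succ N ih =>
    intro ι κ _ _ A B _ _ _ _ hN hA hB e
    classical
    have hne : Nonempty ι := by
      by_contra h
      rw [not_nonempty_iff] at h
      rw [Nat.card_of_isEmpty] at hN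
      exact Nat.succ_ne_zero N hN.symm
    obtain ⟨i₀⟩ := hne
    have hfκ : Fintype κ := Fintype.ofFinite κ
    obtain ⟨split, -⟩ : ∃ split : ((i : ι) → A i) ≃* A i₀ × ((i : {i // i ≠ i₀}) → A i), True :=
      ⟨{ Equiv.piSplitAt i₀ A with map_mul' := fun _ _ => rfl }, trivial⟩
    obtain ⟨j₀, ⟨f₀⟩, ⟨e'⟩⟩ := exchange (hA i₀) hB (split.symm.trans e)
    have hcard : Nat.card {i // i ≠ i₀} = N := by
      have h1 := Nat.card_congr (Equiv.optionSubtypeNe i₀)
      rw [Finite.card_option, hN] at h1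
      exact Nat.succ_injective h1
    obtain ⟨σ', hσ'⟩ := ih {i // i ≠ i₀} {j // j ≠ j₀} (fun i => A i.1) (fun j => B j.1) hcard
      (fun i => hA i.1) (fun j => hB j.1) e'
    obtain ⟨σ, hσ⟩ : ∃ σ : ι ≃ κ, σ = (Equiv.optionSubtypeNe i₀).symm.trans
        ((Equiv.optionCongr σ').trans (Equiv.optionSubtypeNe j₀)) := ⟨_, rfl⟩
    refine ⟨σ, fun i => ?_⟩
    by_cases hi : i = i₀
    · have h1 : σ i = j₀ := by
        rw [hi, hσ]
        simp
      rw [h1, hi]
      exact ⟨f₀⟩
    · have h1 : σ i = (σ' ⟨i, hi⟩).1 := by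
        rw [hσ]
        simp [Equiv.optionSubtypeNe_symm_of_ne hi]
      rw [h1]
      exact hσ' ⟨i, hi⟩

end Cfsg.Agent.S4223

namespace Cfsg.Agent.S4223

/-- If a finite group is isomorphic both to a direct product of `m` directly indecomposable nontrivial groups and to a direct product of `n` such groups (a group is directly indecomposable when it is not the internal direct product of two nontrivial normal subgroups), then `m = n` and the factors are isomorphic in pairs after a suitable matching. -/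
theorem result {m n : ℕ} {A : Fin m → Type*} {B : Fin n → Type*} [∀ i, Group (A i)] [∀ j, Group (B j)] [∀ i, Finite (A i)] [∀ j, Finite (B j)] (hA : ∀ i, Nontrivial (A i) ∧ ∀ H K : Subgroup (A i), H.Normal → K.Normal → H ⊓ K = ⊥ → H ⊔ K = ⊤ → H = ⊥ ∨ K = ⊥) (hB : ∀ j, Nontrivial (B j) ∧ ∀ H K : Subgroup (B j), H.Normal → K.Normal → H ⊓ K = ⊥ → H ⊔ K = ⊤ → H = ⊥ ∨ K = ⊥) (e : ((i : Fin m) → A i) ≃* ((j : Fin n) → B j)) : ∃ σ : Fin m ≃ Fin n, ∀ i, Nonempty (A i ≃* B (σ i)) := by
  exact main m (Fin m) (Fin n) A B (by simp) hA hB e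

end Cfsg.Agent.S4223
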