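import Cfsg.Statements.S4230

set_option autoImplicit false
open Cfsg

namespace Cfsg.Agent.S4230

open Polynomial

/-- reduction mod p of the integer cyclotomic value -/
theorem dvd_iff_root (p q f : ℕ) :
    ((p : ℤ) ∣ (Polynomial.cyclotomic f ℤ).eval (q : ℤ)) ↔
      (Polynomial.cyclotomic f (ZMod p)).eval (q : ZMod p) = 0 := by
  rw [← ZMod.intCast_zmod_eq_zero_iff_dvd, ← map_cyclotomic_int f (ZMod p)]
  have := eval_intCast_map (Int.castRingHom (ZMod p)) (cyclotomic f ℤ) (q : ℤ)
  simp only [Int.cast_natCast, eq_intCast] at this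
  rw [this]

/-- Let p be an odd prime, q a natural number not divisible by p, and e the multiplicative order of q modulo p. For a natural number f, p divides the value at q of the f-th cyclotomic polynomial if and only if f = e·p^j for some j ≥ 0. -/
theorem result (p q f : ℕ) (hp : p.Prime) (hp2 : p ≠ 2) (hpq : ¬ p ∣ q) :
    ((p : ℤ) ∣ (Polynomial.cyclotomic f ℤ).eval (q : ℤ)) ↔ ∃ j : ℕ, f = orderOf (q : ZMod p) * p ^ j := by
  haveI : Fact p.Prime := ⟨hp⟩
  rw [dvd_iff_root]
  have hq0 : (q : ZMod p) ≠ 0 := by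
    rw [Ne, ZMod.natCast_eq_zero_iff]; exact hpq
  have hedvd : orderOf (q : ZMod p) ∣ p - 1 := ZMod.orderOf_dvd_card_sub_one hq0
  have hepos : 0 < orderOf (q : ZMod p) := by
    apply Nat.pos_of_ne_zero
    intro h0
    rw [h0, zero_dvd_iff] at hedvd
    have := hp.two_le
    omega
  have hpe : ¬ p ∣ orderOf (q : ZMod p) := by
    intro h
    have h1 := Nat.le_of_dvd hepos h
    have h2 := Nat.le_of_dvd (by have := hp.two_le; omega) hedvd
    omega
  -- key: for m not divisible by p, root iff order = m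
  have key : ∀ m : ℕ, ¬ p ∣ m → ((cyclotomic m (ZMod p)).eval (q : ZMod p) = 0 ↔ m = orderOf (q : ZMod p)) := by
    intro m hm
    haveI : NeZero ((m : ℕ) : ZMod p) := ⟨by rw [Ne, ZMod.natCast_eq_zero_iff]; exact hm⟩
    rw [← IsRoot.def, isRoot_cyclotomic_iff]
    constructor
    · intro h; exact h.eq_orderOf
    · intro h; rw [h]; exact IsPrimitiveRoot.orderOf _
  -- key2 : value for p^j * m
  have key2 : ∀ (j m : ℕ), ¬ p ∣ m →
      ((cyclotomic (p ^ j * m) (ZMod p)).eval (q : ZMod p) = 0 ↔ m = orderOf (q : ZMod p)) := by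
    intro j m hm
    rcases Nat.eq_zero_or_pos j with rfl | hj
    · rw [pow_zero, one_mul]; exact key m hm
    · rw [cyclotomic_mul_prime_pow_eq (ZMod p) hm hj, eval_pow, pow_eq_zero_iff]
      · exact key m hm
      · have : p ^ (j - 1) < p ^ j := Nat.pow_lt_pow_right hp.one_lt (by omega)
        omega
  constructor
  · intro h
    have hf0 : f ≠ 0 := by
      rintro rfl
      rw [cyclotomic_zero, eval_one] at h
      exact one_ne_zero h
    obtain ⟨j, m, hm, rfl⟩ := Nat.exists_eq_pow_mul_and_not_dvd hf0 p hp.ne_one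
    refine ⟨j, ?_⟩
    rw [(key2 j m hm).mp h, mul_comm]
  · rintro ⟨j, rfl⟩
    rw [mul_comm]
    exact (key2 j _ hpe).mpr rfl

end Cfsg.Agent.S4230
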