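import Mathlib
import Cfsg.Statements.S4237
import Cfsg.Agent.Lib.Helper12.PGroupCount
import Cfsg.Agent.Lib.Helper12.Kulakoff
import Cfsg.Agent.S3975

set_option autoImplicit false
set_option linter.style.haveILetI false
open Cfsg

namespace Cfsg.Agent.S4237

open scoped Pointwise
open Cfsg.Agent.Lib.Helper12.PGroupCount

section conj

variable {G : Type*} [Group G]

/-- conjugation action of a subgroup on the set of all subgroups -/
@[reducible] def conjAct (P : Subgroup G) : MulAction ↥P (Subgroup G) :=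
  MulAction.compHom (Subgroup G) ((MulAut.conj : G →* MulAut G).comp P.subtype)

attribute [local instance] conjAct

theorem smul_eq (P : Subgroup G) (x : P) (H : Subgroup G) :
    x • H = MulAut.conj (x : G) • H := rfl

theorem mem_smul (P : Subgroup G) (x : P) (H : Subgroup G) (y : G) :
    y ∈ x • H ↔ (x : G)⁻¹ * y * (x : G) ∈ H := by
  rw [smul_eq, Subgroup.mem_pointwise_smul_iff_inv_smul_mem]
  simp [MulAut.smul_def]

theorem conj_mem_smul (P : Subgroup G) (x : P) (H : Subgroup G) {h : G} (hh : h ∈ H) :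
    (x : G) * h * (x : G)⁻¹ ∈ x • H := by
  rw [mem_smul]
  have : (x : G)⁻¹ * ((x : G) * h * (x : G)⁻¹) * (x : G) = h := by group
  rw [this]; exact hh

theorem card_smul (P : Subgroup G) (x : P) (H : Subgroup G) :
    Nat.card ↥(x • H) = Nat.card H :=
  Nat.card_congr (Subgroup.equivSMul (MulAut.conj (x : G)) H).symm.toEquiv

theorem smul_eq_self_iff (P : Subgroup G) (x : P) (H : Subgroup G) :
    x • H = H ↔ (x : G) ∈ Subgroup.normalizer (H : Set G) := by
  rw [Subgroup.mem_normalizer_iff'', SetLike.ext_iff]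
  constructor
  · intro h y
    exact (h y).symm.trans (mem_smul P x H y)
  · intro h y
    exact (mem_smul P x H y).trans (h y).symm

theorem smul_self (P : Subgroup G) (x : P) : x • P = P :=
  Subgroup.conj_smul_eq_self_of_mem x.2

theorem smul_le_iff (P : Subgroup G) (x : P) (H : Subgroup G) : x • H ≤ P ↔ H ≤ P := by
  constructor
  · intro hle h hh
    have h1 := hle (conj_mem_smul P x H hh)
    have h2 := P.mul_mem (P.mul_mem (P.inv_mem x.2) h1) x.2
    have : (x : G)⁻¹ * ((x : G) * h * (x : G)⁻¹) * (x : G) = h := by group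
    rwa [this] at h2
  · intro hle y hy
    rw [mem_smul] at hy
    have h1 := hle hy
    have h2 := P.mul_mem (P.mul_mem x.2 h1) (P.inv_mem x.2)
    have : (x : G) * ((x : G)⁻¹ * y * (x : G)) * (x : G)⁻¹ = y := by group
    rwa [this] at h2

/-- subgroups of order `k` not contained in `P` -/
def outside (P : Subgroup G) (k : ℕ) : SubMulAction ↥P (Subgroup G) where
  carrier := {H | Nat.card H = k ∧ ¬ H ≤ P}
  smul_mem' := by
    intro x H hH
    exact ⟨(card_smul P x H).trans hH.1, fun hle => hH.2 ((smul_le_iff P x H).mp hle)⟩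

/-- subgroups `Q ≠ P` of order `N` with `P ⊓ Q` of index `p` -/
def adjacent (P : Subgroup G) (N p : ℕ) : SubMulAction ↥P (Subgroup G) where
  carrier := {Q | Nat.card Q = N ∧ Q ≠ P ∧ Nat.card ↥(P ⊓ Q) * p = N}
  smul_mem' := by
    intro x Q hQ
    refine ⟨(card_smul P x Q).trans hQ.1, ?_, ?_⟩
    · intro heq
      apply hQ.2.1
      have : x • Q = x • P := heq.trans (smul_self P x).symm
      exact smul_left_cancel x this
    · have h1 : P ⊓ x • Q = x • (P ⊓ Q) :=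
        calc P ⊓ x • Q = x • P ⊓ x • Q := by rw [smul_self]
          _ = x • (P ⊓ Q) := (Subgroup.smul_inf (MulAut.conj (x : G)) P Q).symm
      rw [h1, card_smul]; exact hQ.2.2

/-- the normalizer in `P` of `H`, as a subgroup of `G` -/
def nP (P H : Subgroup G) : Subgroup G := (MulAction.stabilizer ↥P H).map P.subtype

theorem mem_nP (P H : Subgroup G) (y : G) :
    y ∈ nP P H ↔ y ∈ P ∧ y ∈ Subgroup.normalizer (H : Set G) := by
  unfold nP
  rw [Subgroup.mem_map]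
  constructor
  · rintro ⟨x, hx, rfl⟩
    exact ⟨x.2, (smul_eq_self_iff P x H).mp (MulAction.mem_stabilizer_iff.mp hx)⟩
  · rintro ⟨hy, hn⟩
    exact ⟨⟨y, hy⟩,
      MulAction.mem_stabilizer_iff.mpr ((smul_eq_self_iff P ⟨y, hy⟩ H).mpr hn), rfl⟩

theorem nP_le (P H : Subgroup G) : nP P H ≤ P := fun y hy => ((mem_nP P H y).mp hy).1

theorem nP_le_normalizer (P H : Subgroup G) : nP P H ≤ Subgroup.normalizer (H : Set G) :=
  fun y hy => ((mem_nP P H y).mp hy).2

theorem card_nP (P H : Subgroup G) :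
    Nat.card (nP P H) = Nat.card (MulAction.stabilizer ↥P H) :=
  Subgroup.card_map_of_injective P.subtype_injective

theorem card_nP_mul_index (P H : Subgroup G) :
    Nat.card (nP P H) * (MulAction.stabilizer ↥P H).index = Nat.card P := by
  rw [card_nP]; exact Subgroup.card_mul_index _

theorem nP_smul (P : Subgroup G) (x : P) (H : Subgroup G) : nP P (x • H) = x • nP P H := by
  ext y
  rw [mem_smul]
  unfold nP
  simp only [Subgroup.mem_map, MulAction.mem_stabilizer_iff]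
  constructor
  · rintro ⟨z, hz, rfl⟩
    refine ⟨x⁻¹ * z * x, ?_, by simp⟩
    rw [mul_smul, mul_smul, hz, inv_smul_smul]
  · rintro ⟨z, hz, hzy⟩
    refine ⟨x * z * x⁻¹, ?_, ?_⟩
    · rw [mul_smul, mul_smul, inv_smul_smul, hz]
    · have h1 : (P.subtype (x * z * x⁻¹) : G) = (x : G) * (P.subtype z) * (x : G)⁻¹ := by simp
      rw [h1, hzy]; group

theorem le_sylow_of_normalizes {p : ℕ} [Fact p.Prime] (P : Sylow p G) (H : Subgroup G)
    (hH : IsPGroup p H) (h : P.1 ≤ Subgroup.normalizer (H : Set G)) : H ≤ P.1 := by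
  have h1 : IsPGroup p (H ⊔ P.1 : Subgroup G) := hH.to_sup_of_normal_left' P.isPGroup' h
  have h2 := P.is_maximal' h1 le_sup_right
  rw [← h2]; exact le_sup_left

theorem card_le_sylow [Finite G] {p : ℕ} [Fact p.Prime] (P : Sylow p G) (K : Subgroup G)
    (hK : IsPGroup p K) : Nat.card K ≤ Nat.card P.1 := by
  obtain ⟨Q, hQ⟩ := hK.exists_le_sylow
  have h1 : Nat.card Q.1 = Nat.card P.1 :=
    (Sylow.card_eq_multiplicity Q).trans (Sylow.card_eq_multiplicity P).symm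
  calc Nat.card K ≤ Nat.card Q.1 := Subgroup.card_le_of_le hQ
    _ = Nat.card P.1 := h1

theorem pow_helper {p : ℕ} (hp : p.Prime) {n c d : ℕ} (h1 : c * p = p ^ n) (h2 : c ∣ d)
    (h3 : d ≠ c) (h4 : ∃ k, d = p ^ k) (h5 : d ≤ p ^ n) : d = p ^ n := by
  obtain ⟨k, rfl⟩ := h4
  have hn : n ≠ 0 := by
    rintro rfl
    rw [pow_zero] at h1
    have h6 : p ∣ 1 := Dvd.intro_left c h1
    have := Nat.le_of_dvd one_pos h6
    have := hp.one_lt
    omega
  obtain ⟨m, rfl⟩ := Nat.exists_eq_succ_of_ne_zero hn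
  have hc : c = p ^ m := by
    rw [pow_succ] at h1
    exact Nat.eq_of_mul_eq_mul_right hp.pos h1
  subst hc
  have hmk : m ≤ k := (Nat.pow_dvd_pow_iff_le_right hp.one_lt).mp h2
  have hkn : k ≤ m + 1 := (Nat.pow_le_pow_iff_right hp.one_lt).mp h5
  have hkm : k ≠ m := fun h => h3 (by rw [h])
  have hk : k = m + 1 := by omega
  rw [hk]

theorem pow_helper2 {p : ℕ} (hp : p.Prime) {n c d : ℕ} (h1 : c * p = p ^ n) (h2 : d ∣ p ^ n)
    (h3 : d ≠ p ^ n) : d ≤ c := by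
  obtain ⟨i, hi, rfl⟩ := (Nat.dvd_prime_pow hp).mp h2
  have hin : i < n := lt_of_le_of_ne hi (fun h => h3 (by rw [h]))
  obtain ⟨m, rfl⟩ := Nat.exists_eq_succ_of_ne_zero (by omega : n ≠ 0)
  have hc : c = p ^ m := by
    rw [pow_succ] at h1
    exact Nat.eq_of_mul_eq_mul_right hp.pos h1
  rw [hc]
  exact Nat.pow_le_pow_right hp.pos (by omega)

theorem pow_dvd_of_mul {p : ℕ} (hp : p.Prime) {n a c : ℕ} (h : c * p = p ^ n) (han : a < n) :
    p ^ a ∣ c := by
  obtain ⟨m, rfl⟩ := Nat.exists_eq_succ_of_ne_zero (by omega : n ≠ 0)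
  have hc : c = p ^ m := by
    rw [pow_succ] at h
    exact Nat.eq_of_mul_eq_mul_right hp.pos h
  rw [hc]
  exact pow_dvd_pow p (by omega)

theorem sup_facts [Finite G] {p : ℕ} [hp : Fact p.Prime] (P : Sylow p G) {n a : ℕ}
    (hn : Nat.card P.1 = p ^ n) (H M : Subgroup G) (hH : Nat.card H = p ^ a) (hHP : ¬ H ≤ P.1)
    (hMP : M ≤ P.1) (hMN : M ≤ Subgroup.normalizer (H : Set G)) (hM : Nat.card M * p = p ^ n) :
    Nat.card ↥(H ⊔ M) = p ^ n ∧ H ⊔ M ≠ P.1 ∧ P.1 ⊓ (H ⊔ M) = M := by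
  have hpr := hp.out
  have hHp : IsPGroup p H := IsPGroup.of_card hH
  have hMp : IsPGroup p M := P.isPGroup'.to_le hMP
  have hQp : IsPGroup p ↥(H ⊔ M) := hHp.to_sup_of_normal_left' hMp hMN
  have hne : H ⊔ M ≠ M := by
    intro h
    apply hHP
    exact le_trans (h ▸ le_sup_left) hMP
  have hcard : Nat.card ↥(H ⊔ M) = p ^ n := by
    apply pow_helper hpr hM (Subgroup.card_dvd_of_le le_sup_right)
    · intro h
      apply hne
      exact (Subgroup.eq_of_le_of_card_ge le_sup_right h.le).symm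
    · exact (IsPGroup.iff_card).mp hQp
    · rw [← hn]; exact card_le_sylow P _ hQp
  have hneP : H ⊔ M ≠ P.1 := by
    intro h
    apply hHP
    rw [← h]; exact le_sup_left
  refine ⟨hcard, hneP, ?_⟩
  symm
  apply Subgroup.eq_of_le_of_card_ge (le_inf hMP le_sup_right)
  apply pow_helper2 hpr hM
  · rw [← hn]; exact Subgroup.card_dvd_of_le inf_le_left
  · intro h
    apply hneP
    have h1 : P.1 ⊓ (H ⊔ M) = P.1 :=
      Subgroup.eq_of_le_of_card_ge inf_le_left (by rw [h, hn])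
    have h2 : P.1 ≤ H ⊔ M := h1 ▸ inf_le_right
    exact (Subgroup.eq_of_le_of_card_ge h2 (by rw [hcard, hn])).symm

theorem back_facts [Finite G] {p : ℕ} [hp : Fact p.Prime] (P : Sylow p G) {n a : ℕ}
    (hn : Nat.card P.1 = p ^ n) (Q H : Subgroup G) (hQ : Nat.card Q = p ^ n)
    (hPQ : Nat.card ↥(P.1 ⊓ Q) * p = p ^ n) (hH : Nat.card H = p ^ a) (hHQ : H ≤ Q)
    (hQN : Q ≤ Subgroup.normalizer (H : Set G)) (hHP : ¬ H ≤ P.1) :
    nP P.1 H = P.1 ⊓ Q ∧ H ⊔ nP P.1 H = Q := by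
  have hpr := hp.out
  have hle : P.1 ⊓ Q ≤ nP P.1 H := by
    intro y hy
    rw [mem_nP]
    exact ⟨hy.1, hQN hy.2⟩
  have hne : Nat.card (nP P.1 H) ≠ p ^ n := by
    intro h
    apply hHP
    have h1 : nP P.1 H = P.1 := Subgroup.eq_of_le_of_card_ge (nP_le _ _) (by rw [h, hn])
    apply le_sylow_of_normalizes P H (IsPGroup.of_card hH)
    rw [← h1]; exact nP_le_normalizer _ _
  have h1 : nP P.1 H = P.1 ⊓ Q := by
    symm
    apply Subgroup.eq_of_le_of_card_ge hle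
    apply pow_helper2 hpr hPQ
    · rw [← hn]; exact Subgroup.card_dvd_of_le (nP_le _ _)
    · exact hne
  refine ⟨h1, ?_⟩
  rw [h1]
  have h2 := sup_facts P hn H (P.1 ⊓ Q) hH hHP inf_le_left (le_trans inf_le_right hQN) hPQ
  exact Subgroup.eq_of_le_of_card_ge (sup_le hHQ inf_le_right) (by rw [h2.1, hQ])

theorem stab_index_p [Finite G] {p : ℕ} [hp : Fact p.Prime] (P : Sylow p G) {n a : ℕ}
    (hn : Nat.card P.1 = p ^ n) (H : Subgroup G) (hH : Nat.card H = p ^ a) (hHP : ¬ H ≤ P.1)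
    (hidx : (MulAction.stabilizer ↥P.1 H).index ∣ p) : Nat.card (nP P.1 H) * p = p ^ n := by
  have hpr := hp.out
  rcases (Nat.dvd_prime hpr).mp hidx with h | h
  · exfalso
    apply hHP
    apply le_sylow_of_normalizes P H (IsPGroup.of_card hH)
    have htop : MulAction.stabilizer ↥P.1 H = ⊤ := Subgroup.index_eq_one.mp h
    intro y hy
    have h1 : (⟨y, hy⟩ : P.1) ∈ MulAction.stabilizer ↥P.1 H := by
      rw [htop]; exact Subgroup.mem_top _
    exact (smul_eq_self_iff P.1 ⟨y, hy⟩ H).mp (MulAction.mem_stabilizer_iff.mp h1)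
  · have h2 := card_nP_mul_index P.1 H
    rw [h, hn] at h2
    exact h2

/-- an index `p` subgroup of a `p`-group is normal -/
theorem idx_p_normal {p : ℕ} [hp : Fact p.Prime] {n : ℕ} (Q M : Subgroup G) [Finite Q]
    (hQ : Nat.card Q = p ^ n) (hMQ : M ≤ Q) (hM : Nat.card M * p = p ^ n) :
    ∀ x ∈ Q, ∀ m ∈ M, x * m * x⁻¹ ∈ M := by
  have hpr := hp.out
  have hn : n ≠ 0 := by
    rintro rfl
    rw [pow_zero] at hM
    have h6 : p ∣ 1 := Dvd.intro_left _ hM
    have := Nat.le_of_dvd one_pos h6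
    have := hpr.one_lt
    omega
  have hc : Nat.card (M.subgroupOf Q) = Nat.card M :=
    Nat.card_congr (Subgroup.subgroupOfEquivOfLe hMQ).toEquiv
  have hidx : (M.subgroupOf Q).index = p := by
    have h1 := (M.subgroupOf Q).card_mul_index
    rw [hc, hQ, ← hM] at h1
    have hpos : 0 < Nat.card M := Nat.pos_of_ne_zero (fun h0 => by
      rw [h0, zero_mul] at hM
      exact (pow_pos hpr.pos n).ne hM)
    exact Nat.eq_of_mul_eq_mul_left hpos h1
  haveI : (M.subgroupOf Q).Normal := by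
    apply Subgroup.normal_of_index_eq_minFac_card
    rw [hidx, hQ, Nat.pow_minFac hn, hpr.minFac_eq]
  intro x hx m hm
  have h1 : (⟨m, hMQ hm⟩ : Q) ∈ M.subgroupOf Q := Subgroup.mem_subgroupOf.mpr hm
  have h2 := Subgroup.Normal.conj_mem (inferInstance : (M.subgroupOf Q).Normal) _ h1 ⟨x, hx⟩
  exact Subgroup.mem_subgroupOf.mp h2

/-- the number of `Q`-invariant subgroups of order `p ^ a` of a `Q`-invariant subgroup `L` -/
theorem normal_count [Finite G] {p : ℕ} [hp : Fact p.Prime] (Q L : Subgroup G)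
    (hQ : IsPGroup p Q) (hL : ∀ x ∈ Q, ∀ l ∈ L, x * l * x⁻¹ ∈ L) (a : ℕ)
    (ha : p ^ a ∣ Nat.card L) :
    Nat.card {H : Subgroup G // Nat.card H = p ^ a ∧ H ≤ L ∧
      ∀ q ∈ Q, ∀ h ∈ H, q * h * q⁻¹ ∈ H} ≡ 1 [MOD p] := by
  let Z : SubMulAction ↥Q (Subgroup G) :=
    { carrier := {H | Nat.card H = p ^ a ∧ H ≤ L}
      smul_mem' := by
        intro x H hH
        refine ⟨(card_smul Q x H).trans hH.1, ?_⟩
        intro y hy
        rw [mem_smul] at hy
        have h1 := hL x x.2 _ (hH.2 hy)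
        have : (x : G) * ((x : G)⁻¹ * y * (x : G)) * (x : G)⁻¹ = y := by group
        rwa [this] at h1 }
  have h1 : Nat.card Z = Nat.card {H : Subgroup G // Nat.card H = p ^ a ∧ H ≤ L} := rfl
  have h2 := hQ.card_modEq_card_fixedPoints Z
  have h3 : Nat.card {H : Subgroup G // Nat.card H = p ^ a ∧ H ≤ L} ≡ 1 [MOD p] := by
    rw [card_subgroups_le]
    exact Cfsg.Agent.S3975.result p a hp.out ha
  have e : {H : Subgroup G // Nat.card H = p ^ a ∧ H ≤ L ∧
      ∀ q ∈ Q, ∀ h ∈ H, q * h * q⁻¹ ∈ H} ≃ MulAction.fixedPoints ↥Q Z :=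
    { toFun := fun H => ⟨⟨H.1, H.2.1, H.2.2.1⟩, by
        intro x
        apply Subtype.ext
        show x • H.1 = H.1
        ext y
        rw [mem_smul]
        constructor
        · intro hy
          have h4 := H.2.2.2 x x.2 _ hy
          have : (x : G) * ((x : G)⁻¹ * y * (x : G)) * (x : G)⁻¹ = y := by group
          rwa [this] at h4
        · intro hy
          have h4 := H.2.2.2 (x : G)⁻¹ (Q.inv_mem x.2) _ hy
          rwa [inv_inv] at h4⟩
      invFun := fun H => ⟨H.1.1, H.1.2.1, H.1.2.2, by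
        intro q hq h hh
        have h4 : (⟨q, hq⟩ : Q) • H.1 = H.1 := H.2 ⟨q, hq⟩
        have h5 : (⟨q, hq⟩ : Q) • H.1.1 = H.1.1 := congrArg Subtype.val h4
        have h6 := conj_mem_smul Q ⟨q, hq⟩ H.1.1 hh
        rwa [h5] at h6⟩
      left_inv := fun H => rfl
      right_inv := fun H => rfl }
  rw [Nat.card_congr e]
  exact h2.symm.trans (h1 ▸ h3)


theorem normalizes_of_conj {Q H : Subgroup G} (h : ∀ q ∈ Q, ∀ h ∈ H, q * h * q⁻¹ ∈ H) :
    Q ≤ Subgroup.normalizer (H : Set G) := by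
  intro q hq
  rw [Subgroup.mem_normalizer_iff]
  intro x
  constructor
  · intro hh
    exact h q hq x hh
  · intro hh
    have h6 := h q⁻¹ (Q.inv_mem hq) _ hh
    have : q⁻¹ * (q * x * q⁻¹) * q⁻¹⁻¹ = x := by group
    rwa [this] at h6

theorem hT_lemma [Finite G] {p : ℕ} [hp : Fact p.Prime] (P : Sylow p G) {n a : ℕ}
    (hn : Nat.card P.1 = p ^ n) (t : smallStab ↥P.1 ↥(outside P.1 (p ^ a)) p) :
    Nat.card (nP P.1 t.1.1) * p = p ^ n := by
  apply stab_index_p P hn t.1.1 t.1.2.1 t.1.2.2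
  have h4 := t.2
  rw [← SubMulAction.stabilizer_of_subMul t.1]
  exact h4

theorem hTB_lemma [Finite G] {p : ℕ} [hp : Fact p.Prime] (P : Sylow p G) {n a : ℕ}
    (hn : Nat.card P.1 = p ^ n) (t : smallStab ↥P.1 ↥(outside P.1 (p ^ a)) p) :
    t.1.1 ⊔ nP P.1 t.1.1 ∈ adjacent P.1 (p ^ n) p := by
  obtain ⟨h4, h5, h6⟩ := sup_facts P hn t.1.1 (nP P.1 t.1.1) t.1.2.1 t.1.2.2 (nP_le _ _)
    (nP_le_normalizer _ _) (hT_lemma P hn t)
  refine ⟨h4, h5, ?_⟩
  rw [h6]; exact hT_lemma P hn t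

/-- the fibre of `H ↦ H ⊔ N_P(H)` over `Q` -/
theorem fibre_card [Finite G] {p : ℕ} [hp : Fact p.Prime] (P : Sylow p G) {n a : ℕ}
    (hn : Nat.card P.1 = p ^ n) (b : adjacent P.1 (p ^ n) p) :
    Nat.card {t : smallStab ↥P.1 ↥(outside P.1 (p ^ a)) p //
        (⟨t.1.1 ⊔ nP P.1 t.1.1, hTB_lemma P hn t⟩ : adjacent P.1 (p ^ n) p) = b} =
      Nat.card {H : Subgroup G // (Nat.card H = p ^ a ∧ H ≤ b.1 ∧
        ∀ q ∈ b.1, ∀ h ∈ H, q * h * q⁻¹ ∈ H) ∧ ¬ H ≤ P.1} := by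
  obtain ⟨hbc, hbne, hbi⟩ := b.2
  have hfwd : ∀ t : {t : smallStab ↥P.1 ↥(outside P.1 (p ^ a)) p //
        (⟨t.1.1 ⊔ nP P.1 t.1.1, hTB_lemma P hn t⟩ : adjacent P.1 (p ^ n) p) = b},
      (Nat.card t.1.1.1 = p ^ a ∧ t.1.1.1 ≤ b.1 ∧
        ∀ q ∈ b.1, ∀ h ∈ t.1.1.1, q * h * q⁻¹ ∈ t.1.1.1) ∧ ¬ t.1.1.1 ≤ P.1 := by
    intro t
    have h4 : t.1.1.1 ⊔ nP P.1 t.1.1.1 = b.1 := congrArg Subtype.val t.2
    refine ⟨⟨t.1.1.2.1, ?_, ?_⟩, t.1.1.2.2⟩
    · rw [← h4]; exact le_sup_left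
    · have h5 : b.1 ≤ Subgroup.normalizer (t.1.1.1 : Set G) := by
        rw [← h4]
        exact sup_le Subgroup.le_normalizer (nP_le_normalizer _ _)
      intro q hq h hh
      exact (Subgroup.mem_normalizer_iff.mp (h5 hq) h).mp hh
  apply Nat.card_congr
  refine Equiv.ofBijective (fun t => ⟨t.1.1.1, hfwd t⟩) ⟨?_, ?_⟩
  · intro t1 t2 h
    have h1 := congrArg Subtype.val h
    exact Subtype.ext (Subtype.ext (Subtype.ext h1))
  · intro H
    have hQN : b.1 ≤ Subgroup.normalizer (H.1 : Set G) := normalizes_of_conj H.2.1.2.2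
    obtain ⟨h7, h7'⟩ := back_facts P hn b.1 H.1 hbc hbi H.2.1.1 H.2.1.2.1 hQN H.2.2
    have hsmall : (⟨H.1, H.2.1.1, H.2.2⟩ : outside P.1 (p ^ a)) ∈
        smallStab ↥P.1 ↥(outside P.1 (p ^ a)) p := by
      show (MulAction.stabilizer ↥P.1 (⟨H.1, H.2.1.1, H.2.2⟩ : outside P.1 (p ^ a))).index ∣ p
      rw [SubMulAction.stabilizer_of_subMul]
      have h8 := card_nP_mul_index P.1 H.1
      rw [h7, hn] at h8
      have hpos : 0 < Nat.card ↥(P.1 ⊓ b.1) := Nat.card_pos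
      have h9 := Nat.eq_of_mul_eq_mul_left hpos (h8.trans hbi.symm)
      show (MulAction.stabilizer ↥P.1 H.1).index ∣ p
      rw [h9]
    refine ⟨⟨⟨⟨H.1, H.2.1.1, H.2.2⟩, hsmall⟩, ?_⟩, ?_⟩
    · apply Subtype.ext
      exact h7'
    · exact Subtype.ext rfl

theorem fibre_dvd [Finite G] {p : ℕ} [hp : Fact p.Prime] (P : Sylow p G) {n a : ℕ}
    (hn : Nat.card P.1 = p ^ n) (han : a < n) (b : adjacent P.1 (p ^ n) p) :
    p ∣ Nat.card {H : Subgroup G // (Nat.card H = p ^ a ∧ H ≤ b.1 ∧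
        ∀ q ∈ b.1, ∀ h ∈ H, q * h * q⁻¹ ∈ H) ∧ ¬ H ≤ P.1} := by
  have hpr := hp.out
  obtain ⟨hbc, hbne, hbi⟩ := b.2
  have hbp : IsPGroup p ↥b.1 := IsPGroup.of_card hbc
  have hA := normal_count b.1 b.1 hbp
    (fun x hx l hl => b.1.mul_mem (b.1.mul_mem hx hl) (b.1.inv_mem hx)) a
    (by rw [hbc]; exact pow_dvd_pow p han.le)
  have hA' := normal_count b.1 (P.1 ⊓ b.1) hbp
    (idx_p_normal b.1 (P.1 ⊓ b.1) hbc inf_le_right hbi) a (pow_dvd_of_mul hpr hbi han)
  have hs := card_split (fun H : {H : Subgroup G // Nat.card H = p ^ a ∧ H ≤ b.1 ∧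
    ∀ q ∈ b.1, ∀ h ∈ H, q * h * q⁻¹ ∈ H} => H.1 ≤ P.1)
  have e3 : Nat.card {H : {H : Subgroup G // Nat.card H = p ^ a ∧ H ≤ b.1 ∧
      ∀ q ∈ b.1, ∀ h ∈ H, q * h * q⁻¹ ∈ H} // H.1 ≤ P.1} =
      Nat.card {H : Subgroup G // Nat.card H = p ^ a ∧ H ≤ P.1 ⊓ b.1 ∧
        ∀ q ∈ b.1, ∀ h ∈ H, q * h * q⁻¹ ∈ H} := by
    apply Nat.card_congr
    exact (Equiv.subtypeSubtypeEquivSubtypeInter
      (fun H : Subgroup G => Nat.card H = p ^ a ∧ H ≤ b.1 ∧
        ∀ q ∈ b.1, ∀ h ∈ H, q * h * q⁻¹ ∈ H) (fun H => H ≤ P.1)).trans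
      (Equiv.subtypeEquivRight fun H => by
        constructor
        · rintro ⟨⟨h1, h2, h3⟩, h4⟩
          exact ⟨h1, le_inf h4 h2, h3⟩
        · rintro ⟨h1, h2, h3⟩
          exact ⟨⟨h1, le_trans h2 inf_le_right, h3⟩, le_trans h2 inf_le_left⟩)
  have e4 : Nat.card {H : {H : Subgroup G // Nat.card H = p ^ a ∧ H ≤ b.1 ∧
      ∀ q ∈ b.1, ∀ h ∈ H, q * h * q⁻¹ ∈ H} // ¬ H.1 ≤ P.1} =
      Nat.card {H : Subgroup G // (Nat.card H = p ^ a ∧ H ≤ b.1 ∧
        ∀ q ∈ b.1, ∀ h ∈ H, q * h * q⁻¹ ∈ H) ∧ ¬ H ≤ P.1} :=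
    Nat.card_congr (Equiv.subtypeSubtypeEquivSubtypeInter
      (fun H : Subgroup G => Nat.card H = p ^ a ∧ H ≤ b.1 ∧
        ∀ q ∈ b.1, ∀ h ∈ H, q * h * q⁻¹ ∈ H) (fun H => ¬ H ≤ P.1))
  rw [hs, e3, e4] at hA
  have h10 : Nat.card {H : Subgroup G // Nat.card H = p ^ a ∧ H ≤ P.1 ⊓ b.1 ∧
        ∀ q ∈ b.1, ∀ h ∈ H, q * h * q⁻¹ ∈ H} +
      Nat.card {H : Subgroup G // (Nat.card H = p ^ a ∧ H ≤ b.1 ∧
        ∀ q ∈ b.1, ∀ h ∈ H, q * h * q⁻¹ ∈ H) ∧ ¬ H ≤ P.1} ≡
      Nat.card {H : Subgroup G // Nat.card H = p ^ a ∧ H ≤ P.1 ⊓ b.1 ∧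
        ∀ q ∈ b.1, ∀ h ∈ H, q * h * q⁻¹ ∈ H} + 0 [MOD p] := by
    rw [add_zero]; exact hA.trans hA'.symm
  exact (Nat.modEq_zero_iff_dvd).mp (Nat.ModEq.add_left_cancel' _ h10)

theorem pi_equivariant [Finite G] {p : ℕ} [hp : Fact p.Prime] (P : Sylow p G) {n a : ℕ}
    (hn : Nat.card P.1 = p ^ n) (x : P.1) (t : smallStab ↥P.1 ↥(outside P.1 (p ^ a)) p) :
    (⟨(x • t).1.1 ⊔ nP P.1 (x • t).1.1, hTB_lemma P hn (x • t)⟩ : adjacent P.1 (p ^ n) p) =
      x • (⟨t.1.1 ⊔ nP P.1 t.1.1, hTB_lemma P hn t⟩ : adjacent P.1 (p ^ n) p) := by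
  apply Subtype.ext
  show (x • t).1.1 ⊔ nP P.1 (x • t).1.1 = x • (t.1.1 ⊔ nP P.1 t.1.1)
  have h4 : (x • t).1.1 = x • t.1.1 := rfl
  rw [h4, nP_smul]
  exact (Subgroup.smul_sup (MulAut.conj (x : G)) _ _).symm

theorem pi_fibre [Finite G] {p : ℕ} [hp : Fact p.Prime] (P : Sylow p G) {n a : ℕ}
    (hn : Nat.card P.1 = p ^ n) (han : a < n) (b : adjacent P.1 (p ^ n) p) :
    p ∣ Nat.card {t : smallStab ↥P.1 ↥(outside P.1 (p ^ a)) p //
        (⟨t.1.1 ⊔ nP P.1 t.1.1, hTB_lemma P hn t⟩ : adjacent P.1 (p ^ n) p) = b} := by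
  rw [fibre_card P hn b]
  exact fibre_dvd P hn han b

theorem adjacent_moved [Finite G] {p : ℕ} [hp : Fact p.Prime] (P : Sylow p G) {n : ℕ}
    (hn : Nat.card P.1 = p ^ n) (b : adjacent P.1 (p ^ n) p) : ∃ x : P.1, x • b ≠ b := by
  by_contra hcon
  obtain ⟨hbc, hbne, -⟩ := b.2
  apply hbne
  have hbP : b.1 ≤ P.1 := by
    apply le_sylow_of_normalizes P b.1 (IsPGroup.of_card hbc)
    intro y hy
    have h4 : (⟨y, hy⟩ : P.1) • b = b := by
      by_contra hne
      exact hcon ⟨⟨y, hy⟩, hne⟩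
    have h7 : (⟨y, hy⟩ : P.1) • b.1 = b.1 := congrArg Subtype.val h4
    exact (smul_eq_self_iff P.1 ⟨y, hy⟩ b.1).mp h7
  exact Subgroup.eq_of_le_of_card_ge hbP (by rw [hbc, hn])

theorem sq_dvd_small [Finite G] {p : ℕ} [hp : Fact p.Prime] (P : Sylow p G) {n a : ℕ}
    (hn : Nat.card P.1 = p ^ n) (han : a < n) :
    p ^ 2 ∣ Nat.card (smallStab ↥P.1 ↥(outside P.1 (p ^ a)) p) :=
  sq_dvd_card_of_fibration (K := ↥P.1) (T := ↥(smallStab ↥P.1 ↥(outside P.1 (p ^ a)) p))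
    (B := ↥(adjacent P.1 (p ^ n) p)) P.isPGroup'
    (fun t => ⟨t.1.1 ⊔ nP P.1 t.1.1, hTB_lemma P hn t⟩)
    (fun x t => pi_equivariant P hn x t) (fun b => pi_fibre P hn han b)
    (fun b => adjacent_moved P hn b)

/-- **Hall's reduction**: modulo `p ^ 2` the number of subgroups of order `p ^ a` (below the order of
a Sylow subgroup) is the same in `G` and in a Sylow `p`-subgroup. -/
theorem hall [Finite G] {p : ℕ} [hp : Fact p.Prime] (P : Sylow p G) {n a : ℕ}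
    (hn : Nat.card P.1 = p ^ n) (han : a < n) :
    Nat.card {H : Subgroup G // Nat.card H = p ^ a} ≡
      Nat.card {H : Subgroup ↥P.1 // Nat.card H = p ^ a} [MOD p ^ 2] := by
  have hPp : IsPGroup p ↥P.1 := P.isPGroup'
  have h1 := card_split (fun H : {H : Subgroup G // Nat.card H = p ^ a} => H.1 ≤ P.1)
  have e1 : Nat.card {H : {H : Subgroup G // Nat.card H = p ^ a} // H.1 ≤ P.1} =
      Nat.card {H : Subgroup ↥P.1 // Nat.card H = p ^ a} := by
    rw [← card_subgroups_le]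
    exact Nat.card_congr (Equiv.subtypeSubtypeEquivSubtypeInter
      (fun H : Subgroup G => Nat.card H = p ^ a) (fun H => H ≤ P.1))
  have e2 : Nat.card {H : {H : Subgroup G // Nat.card H = p ^ a} // ¬ H.1 ≤ P.1} =
      Nat.card (outside P.1 (p ^ a)) :=
    Nat.card_congr (Equiv.subtypeSubtypeEquivSubtypeInter
      (fun H : Subgroup G => Nat.card H = p ^ a) (fun H => ¬ H ≤ P.1))
  rw [h1, e1, e2]
  have key : p ^ 2 ∣ Nat.card (outside P.1 (p ^ a)) := by
    have h2 := card_modEq_card_smallStab (K := ↥P.1) (Y := ↥(outside P.1 (p ^ a))) (p := p) hPp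
    have h3 := sq_dvd_small P hn han
    exact (Nat.modEq_zero_iff_dvd).mp (h2.trans ((Nat.modEq_zero_iff_dvd).mpr h3))
  obtain ⟨c, hc⟩ := key
  rw [hc]
  unfold Nat.ModEq
  rw [Nat.add_mul_mod_self_left]

end conj

/-- Let `p` be a prime, `a ≥ 0`, and `G` a finite group whose order is divisible by `p^(a+1)`. Then the number of subgroups of `G` of order `p^a` is congruent to `1` or to `1 + p` modulo `p²`. -/
theorem result {G : Type*} [Group G] [Finite G] (p a : ℕ) (hp : p.Prime) (hdvd : p ^ (a + 1) ∣ Nat.card G) :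
    Nat.card {H : Subgroup G // Nat.card H = p ^ a} ≡ 1 [MOD p ^ 2] ∨
      Nat.card {H : Subgroup G // Nat.card H = p ^ a} ≡ 1 + p [MOD p ^ 2] := by
  haveI : Fact p.Prime := ⟨hp⟩
  by_cases hp2 : p = 2
  · subst hp2
    have h1 := Cfsg.Agent.S3975.result (G := G) 2 a hp
      (dvd_trans (pow_dvd_pow 2 (Nat.le_succ a)) hdvd)
    unfold Nat.ModEq at h1 ⊢
    norm_num at h1 ⊢
    omega
  · obtain ⟨P⟩ : Nonempty (Sylow p G) := inferInstance
    have hn : Nat.card P.1 = p ^ (Nat.card G).factorization p := Sylow.card_eq_multiplicity P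
    have han : a + 1 ≤ (Nat.card G).factorization p :=
      (hp.pow_dvd_iff_le_factorization Nat.card_pos.ne').mp hdvd
    have h1 := hall P hn (by omega : a < (Nat.card G).factorization p)
    by_cases hcyc : IsCyclic ↥P.1
    · left
      haveI := hcyc
      have h2 := card_subgroups_of_isCyclic (C := ↥P.1) (p := p) a
        (by rw [hn]; exact pow_dvd_pow p (by omega))
      rw [h2] at h1
      exact h1
    · by_cases ha : a = 0
      · left
        subst ha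
        have h2 : Nat.card {H : Subgroup G // Nat.card H = p ^ 0} = 1 := by
          rw [Nat.card_eq_one_iff_unique]
          constructor
          · constructor
            rintro ⟨H1, h1⟩ ⟨H2, h2⟩
            apply Subtype.ext
            rw [pow_zero] at h1 h2
            show H1 = H2
            rw [Subgroup.card_eq_one.mp h1, Subgroup.card_eq_one.mp h2]
          · exact ⟨⟨⊥, by rw [pow_zero, Subgroup.card_bot]⟩⟩
        rw [h2]
      · right
        have h2 := Cfsg.Agent.Lib.Helper12.Kulakoff.kulakoff_odd (p := p) hp2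
          ((Nat.card G).factorization p) ↥P.1 hn hcyc a (by omega) (by omega)
        exact h1.trans h2

end Cfsg.Agent.S4237
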