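import Cfsg.Statements.S4238
import Cfsg.Agent.Lib.Helper2.MinNonPNilpotent
import Cfsg.Agent.Lib.Helper13.PNilpotent
import Cfsg.Agent.Lib.Helper13.Frobenius
import Cfsg.Agent.Lib.Helper16.SylowInf
import Cfsg.Agent.Lib.Helper17.Coprime
import Cfsg.Agent.Lib.Helper10.PGroup
import Cfsg.Agent.Lib.Helper22.Jordan

set_option autoImplicit false
open Cfsg

namespace Cfsg.Agent.S4238

open Subgroup Cfsg.Agent.Lib.Helper13 Cfsg.Agent.Lib.Helper2
open scoped commutatorElement

universe u

/-- A finite `p`-group has an element whose order is the exponent. -/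
theorem exists_orderOf_eq_exponent_of_card {K : Type u} [Group K] [Finite K] {p k : ℕ}
    (hp : p.Prime) (h : Nat.card K = p ^ k) : ∃ x : K, orderOf x = Monoid.exponent K := by
  have hdvd : Monoid.exponent K ∣ p ^ k := h ▸ Group.exponent_dvd_nat_card
  obtain ⟨e, -, he⟩ := (Nat.dvd_prime_pow hp).1 hdvd
  cases e with
  | zero =>
    refine ⟨1, ?_⟩
    rw [orderOf_one, he, pow_zero]
  | succ e =>
    by_contra hne
    push Not at hne
    have hall : ∀ x : K, x ^ p ^ e = 1 := by
      intro x
      have h1 : orderOf x ∣ p ^ (e + 1) := he ▸ Monoid.order_dvd_exponent x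
      obtain ⟨j, hj, hxj⟩ := (Nat.dvd_prime_pow hp).1 h1
      have hj' : j ≤ e := by
        rcases Nat.lt_or_ge e j with hlt | hge
        · exfalso
          have : j = e + 1 := by omega
          exact hne x (by rw [hxj, this, he])
        · exact hge
      apply orderOf_dvd_iff_pow_eq_one.1
      rw [hxj]
      exact pow_dvd_pow p hj'
    have h2 : Monoid.exponent K ∣ p ^ e := Monoid.exponent_dvd_of_forall_pow_eq_one hall
    rw [he, Nat.pow_dvd_pow_iff_le_right hp.one_lt] at h2
    omega

/-- In a `p`-subgroup `Q`, a nontrivial subgroup normalized by `Q` contains a nontrivial element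
central in `Q`. -/
theorem exists_central_of_normalized {K : Type u} [Group K] [Finite K] {p : ℕ} [Fact p.Prime]
    (Q N : Subgroup K) (hQ : IsPGroup p Q) (hNQ : N ≤ Q)
    (hnorm : ∀ u ∈ Q, ∀ n ∈ N, u * n * u⁻¹ ∈ N) (hN : N ≠ ⊥) :
    ∃ z ∈ N, z ≠ 1 ∧ ∀ u ∈ Q, u * z = z * u := by
  have hn : (N.subgroupOf Q).Normal := by
    constructor
    intro n hn u
    rw [mem_subgroupOf] at hn ⊢
    exact hnorm u u.2 n hn
  have hne : N.subgroupOf Q ≠ ⊥ := by
    intro h
    apply hN
    rw [eq_bot_iff]
    intro y hy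
    have : (⟨y, hNQ hy⟩ : Q) ∈ N.subgroupOf Q := mem_subgroupOf.2 hy
    rw [h, mem_bot] at this
    rw [mem_bot]
    exact congrArg Subtype.val this
  have h1 := Cfsg.Agent.Lib.Helper10.normal_inf_center_ne_bot hQ (N.subgroupOf Q) hne
  obtain ⟨⟨z, hz⟩, hz1⟩ := (Subgroup.ne_bot_iff_exists_ne_one).1 h1
  refine ⟨(z : K), mem_subgroupOf.1 (mem_inf.1 hz).1, ?_, ?_⟩
  · intro h
    apply hz1
    exact Subtype.ext (Subtype.ext h)
  · intro u hu
    have := (mem_center_iff.1 (mem_inf.1 hz).2) ⟨u, hu⟩
    exact congrArg Subtype.val this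

/-- Key lemma: in a non-`p`-nilpotent group all of whose proper quotients are `p`-nilpotent,
of the form `Q ⋊ ⟨h⟩`, the `p'`-element `h` acts fixed-point-freely on `Q`. -/
theorem eq_one_of_commute {K : Type u} [Group K] [Finite K] {p : ℕ} [Fact p.Prime]
    (h1 : ¬ HasNormalPComplement p K)
    (h3 : ∀ (M : Subgroup K) [M.Normal], M ≠ ⊥ → HasNormalPComplement p (K ⧸ M))
    (Q : Subgroup K) (hQ : IsPGroup p Q) [hQn : Q.Normal]
    (h : K) (hhcop : (orderOf h).Coprime p) (hQh : Q ⊔ zpowers h = ⊤)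
    (c : K) (hcQ : c ∈ Q) (hch : h * c = c * h) : c = 1 := by
  by_contra hc1
  have hp : p.Prime := Fact.out
  have hdecomp : ∀ x : K, ∃ u ∈ Q, ∃ i : ℤ, x = u * h ^ i := by
    intro x
    have hx : x ∈ Q ⊔ zpowers h := by rw [hQh]; exact mem_top x
    rw [mem_sup_of_normal_left] at hx
    obtain ⟨u, hu, z, hz, rfl⟩ := hx
    obtain ⟨i, rfl⟩ := mem_zpowers_iff.1 hz
    exact ⟨u, hu, i, rfl⟩
  have hL2 : ∀ (M : Subgroup K) [M.Normal], M ≠ ⊥ → ∀ u ∈ Q, ⁅u, h⁆ ∈ M := by
    intro M _ hM u hu
    obtain ⟨P', K', hK'n, hK'⟩ := h3 M hM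
    have hLC : LocalCentral p (K ⧸ M) := localCentral_of_normal_complement P' K' hK'
    let π := QuotientGroup.mk' M
    have hπ : Function.Surjective π := QuotientGroup.mk'_surjective M
    have hQ' : IsPGroup p (Q.map π) := hQ.map π
    have hQ'n : (Q.map π).Normal := hQn.map π hπ
    have hmem := hLC (Q.map π) hQ' (π h) (by rw [normalizer_eq_top]; exact mem_top _)
      (Nat.Coprime.coprime_dvd_left (orderOf_map_dvd π h) hhcop)
    have h4 := mem_centralizer_iff.1 hmem (π u) (mem_map_of_mem π hu)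
    have h5 : π ⁅u, h⁆ = 1 := by
      rw [map_commutatorElement, commutatorElement_eq_one_iff_commute]
      exact h4
    exact (QuotientGroup.eq_one_iff _).1 h5
  have hhC : ¬ ∀ u ∈ Q, h * u = u * h := by
    intro hcen
    apply h1
    rw [hasNormalPComplement_iff_exists]
    have hZn : (zpowers h).Normal := by
      constructor
      intro z hz x
      obtain ⟨u, hu, i, rfl⟩ := hdecomp x
      obtain ⟨j, rfl⟩ := mem_zpowers_iff.1 hz
      have hcu : Commute u h := (hcen u hu).symm
      have e : u * h ^ i * h ^ j * (u * h ^ i)⁻¹ = h ^ j := by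
        have h6 : Commute u (h ^ j) := hcu.zpow_right j
        calc u * h ^ i * h ^ j * (u * h ^ i)⁻¹ = u * h ^ j * u⁻¹ := by group
          _ = h ^ j * u * u⁻¹ := by rw [h6.eq]
          _ = h ^ j := by group
      rw [e]; exact zpow_mem (mem_zpowers h) j
    refine ⟨zpowers h, hZn, ?_, ?_⟩
    · rw [Nat.card_zpowers]; exact hhcop
    · obtain ⟨a, ha⟩ := hQ.exists_card_eq
      refine ⟨a, ?_⟩
      have hdis : zpowers h ⊓ Q = ⊥ := by
        apply disjoint_iff.1
        apply Subgroup.disjoint_of_coprime_natCard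
        rw [Nat.card_zpowers, ha]; exact Nat.Coprime.pow_right a hhcop
      have e1 : (zpowers h).relIndex Q = Nat.card Q := by
        rw [← inf_relIndex_right, hdis, relIndex_bot_left]
      have e2 : (zpowers h).relIndex (Q ⊔ zpowers h) = (zpowers h).relIndex Q :=
        relIndex_sup_right Q (zpowers h)
      rw [hQh, relIndex_top_right, e1, ha] at e2
      exact e2
  let Zq : Subgroup K := Q ⊓ centralizer (Q : Set K)
  have hZqn : Zq.Normal := by
    constructor
    intro z hz x
    obtain ⟨hzQ, hzC⟩ := mem_inf.1 hz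
    refine mem_inf.2 ⟨hQn.conj_mem z hzQ x, ?_⟩
    rw [mem_centralizer_iff]
    intro u hu
    have hu' : x⁻¹ * u * x ∈ Q := by simpa using hQn.conj_mem u hu x⁻¹
    have h6 := mem_centralizer_iff.1 hzC _ hu'
    calc u * (x * z * x⁻¹) = x * ((x⁻¹ * u * x) * z) * x⁻¹ := by group
      _ = x * (z * (x⁻¹ * u * x)) * x⁻¹ := by rw [h6]
      _ = x * z * x⁻¹ * u := by group
  have hQne : Q ≠ ⊥ := by
    intro hb
    rw [hb, mem_bot] at hcQ
    exact hc1 hcQ
  have hZqne : Zq ≠ ⊥ := by
    obtain ⟨z, hzQ, hz1, hzc⟩ := exists_central_of_normalized Q Q hQ le_rfl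
      (fun u _ n hn => hQn.conj_mem n hn u) hQne
    intro hb
    have : z ∈ Zq := mem_inf.2 ⟨hzQ, mem_centralizer_iff.2 (fun u hu => hzc u hu)⟩
    rw [hb, mem_bot] at this
    exact hz1 this
  have hA : ∀ u ∈ Q, ⁅u, h⁆ ∈ Zq := fun u hu => hL2 Zq hZqne u hu
  let Zh : Subgroup K := Zq ⊓ centralizer ({h} : Set K)
  have hZhc : ∀ z ∈ Zh, ∀ x : K, x * z = z * x := by
    intro z hz x
    obtain ⟨hzq, hzh⟩ := mem_inf.1 hz
    obtain ⟨hzQ, hzC⟩ := mem_inf.1 hzq
    obtain ⟨u, hu, i, rfl⟩ := hdecomp x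
    have h7 : u * z = z * u := mem_centralizer_iff.1 hzC u hu
    have h8 : h * z = z * h := mem_centralizer_iff.1 hzh h (Set.mem_singleton h)
    have h9 : Commute (h ^ i) z := (show Commute h z from h8).zpow_left i
    calc u * h ^ i * z = u * (h ^ i * z) := by group
      _ = u * (z * h ^ i) := by rw [h9.eq]
      _ = (u * z) * h ^ i := by group
      _ = z * u * h ^ i := by rw [h7]
      _ = z * (u * h ^ i) := by group
  have hZhn : Zh.Normal := by
    constructor
    intro z hz x
    have h6 := hZhc z hz x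
    have e : x * z * x⁻¹ = z := by rw [h6]; group
    rw [e]; exact hz
  have hZh : Zh = ⊥ := by
    by_contra hne
    apply hhC
    exact Cfsg.Agent.Lib.Helper17.stability_centralizes hQ hhcop (P₁ := Zh)
      (fun z hz => (mem_inf.1 (mem_inf.1 hz).1).1)
      (fun x hx => hL2 Zh hne x hx) (fun y hy => (hZhc y hy h))
  let C : Subgroup K := Q ⊓ centralizer ({h} : Set K)
  have hcC : c ∈ C := mem_inf.2 ⟨hcQ, mem_centralizer_iff.2 (fun y hy => by
    rw [Set.mem_singleton_iff] at hy; subst hy; exact hch)⟩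
  have hCnorm : ∀ u ∈ Q, ∀ n ∈ C, u * n * u⁻¹ ∈ C := by
    intro u hu n hn
    obtain ⟨hnQ, hnh⟩ := mem_inf.1 hn
    refine mem_inf.2 ⟨hQn.conj_mem n hnQ u, ?_⟩
    rw [mem_centralizer_iff]
    intro y hy
    rw [Set.mem_singleton_iff] at hy
    subst hy
    have hhn : y * n = n * y := mem_centralizer_iff.1 hnh y (Set.mem_singleton y)
    have hz : ⁅u⁻¹, y⁆ ∈ Zq := hA u⁻¹ (Q.inv_mem hu)
    have hzc : ∀ v ∈ Q, v * ⁅u⁻¹, y⁆ = ⁅u⁻¹, y⁆ * v :=
      fun v hv => mem_centralizer_iff.1 (mem_inf.1 hz).2 v hv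
    have e1 : y * u = u * ⁅u⁻¹, y⁆ * y := by rw [commutatorElement_def]; group
    have e2 : y * u⁻¹ = ⁅u⁻¹, y⁆⁻¹ * u⁻¹ * y := by rw [commutatorElement_def]; group
    calc y * (u * n * u⁻¹) = (y * u) * n * u⁻¹ := by group
      _ = u * ⁅u⁻¹, y⁆ * y * n * u⁻¹ := by rw [e1]
      _ = u * ⁅u⁻¹, y⁆ * (y * n) * u⁻¹ := by group
      _ = u * ⁅u⁻¹, y⁆ * (n * y) * u⁻¹ := by rw [hhn]
      _ = u * (⁅u⁻¹, y⁆ * n) * (y * u⁻¹) := by group
      _ = u * (n * ⁅u⁻¹, y⁆) * (⁅u⁻¹, y⁆⁻¹ * u⁻¹ * y) := by rw [← hzc n hnQ, e2]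
      _ = u * n * u⁻¹ * y := by group
  have hCne : C ≠ ⊥ := by
    intro hb
    rw [hb, mem_bot] at hcC
    exact hc1 hcC
  obtain ⟨z, hzC, hz1, hzc⟩ := exists_central_of_normalized Q C hQ inf_le_left hCnorm hCne
  have hzZh : z ∈ Zh := by
    obtain ⟨hzQ, hzh⟩ := mem_inf.1 hzC
    exact mem_inf.2 ⟨mem_inf.2 ⟨hzQ, mem_centralizer_iff.2 (fun u hu => hzc u hu)⟩, hzh⟩
  rw [hZh, mem_bot] at hzZh
  exact hz1 hzZh

/-- A non-`p`-nilpotent group whose proper subgroups and proper quotients are all `p`-nilpotent has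
no element of order equal to the exponent. -/
theorem no_exponent_element {K : Type u} [Group K] [Finite K] {p : ℕ} [Fact p.Prime]
    (h1 : ¬ HasNormalPComplement p K)
    (h2 : ∀ L : Subgroup K, L ≠ ⊤ → HasNormalPComplement p L)
    (h3 : ∀ (M : Subgroup K) [M.Normal], M ≠ ⊥ → HasNormalPComplement p (K ⧸ M)) :
    ¬ ∃ k : K, orderOf k = Monoid.exponent K := by
  rintro ⟨k, hk⟩
  have hp : p.Prime := Fact.out
  obtain ⟨Q, g, hQ, hQn, hgcop, hgC, htop⟩ := minNonPNilpotent_structure h1 h2
  have hidx : Q.index ∣ orderOf g := index_dvd_orderOf_of_sup_zpowers htop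
  have hQidx : Q.index.Coprime p := Nat.Coprime.coprime_dvd_left hidx hgcop
  have hQne : Q ≠ ⊥ := by
    intro hb
    apply hgC
    rw [hb, mem_centralizer_iff]
    intro y hy
    rw [coe_bot, Set.mem_singleton_iff] at hy
    subst hy
    simp
  have hpexp : p ∣ Monoid.exponent K := by
    have hpQ : p ∣ Nat.card Q := by
      rcases hQ.card_eq_or_dvd with h | h
      · exact absurd (Subgroup.card_eq_one.1 h) hQne
      · exact h
    have hpK : p ∣ Nat.card K := hpQ.trans (Subgroup.card_subgroup_dvd_card Q)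
    obtain ⟨x, hx⟩ := exists_prime_orderOf_dvd_card' p hpK
    exact hx ▸ Monoid.order_dvd_exponent x
  obtain ⟨c, h, hc, hh, hkch, ⟨j, hcj⟩, hhcop⟩ := Cfsg.Agent.Lib.Helper16.exists_p_decomp' p k
  have hcomm : Commute c h := by
    obtain ⟨a, rfl⟩ := mem_zpowers_iff.1 hc
    obtain ⟨b, rfl⟩ := mem_zpowers_iff.1 hh
    exact Commute.zpow_zpow_self k a b
  have hcQ : c ∈ Q := Cfsg.Agent.Lib.Helper22.mem_of_coprime_index Q c (by
    rw [hcj]; exact (Nat.Coprime.pow_left j hQidx.symm))
  have hord : orderOf k = orderOf c * orderOf h := by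
    rw [hkch]
    exact hcomm.orderOf_mul_eq_mul_orderOf_of_coprime (by
      rw [hcj]; exact Nat.Coprime.pow_left j hhcop.symm)
  have hc1 : c ≠ 1 := by
    intro hc1
    rw [hc1, orderOf_one, one_mul] at hord
    rw [← hk, hord] at hpexp
    exact (Nat.Prime.coprime_iff_not_dvd hp).1 hhcop.symm hpexp
  have h5 : orderOf g ∣ orderOf h := by
    have h6 : orderOf g ∣ orderOf c * orderOf h := by
      rw [← hord, hk]; exact Monoid.order_dvd_exponent g
    rw [hcj] at h6
    exact (Nat.Coprime.pow_right j hgcop).dvd_of_dvd_mul_left h6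
  have h7 : orderOf h ∣ Q.index := by
    apply orderOf_dvd_of_pow_eq_one
    have hmem : h ^ Q.index ∈ Q := Q.pow_index_mem h
    obtain ⟨a, ha⟩ := hQ ⟨_, hmem⟩
    have ha' : (h ^ Q.index) ^ p ^ a = 1 := congrArg Subtype.val ha
    have h8 : orderOf (h ^ Q.index) ∣ p ^ a := orderOf_dvd_of_pow_eq_one ha'
    have h9 : orderOf (h ^ Q.index) ∣ orderOf h := orderOf_pow_dvd _
    have h10 : orderOf (h ^ Q.index) = 1 :=
      Nat.eq_one_of_dvd_coprimes (Nat.Coprime.pow_right a hhcop) h9 h8
    exact orderOf_eq_one_iff.1 h10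
  have h11 : orderOf h = Q.index := Nat.dvd_antisymm h7 (hidx.trans h5)
  have hQh : Q ⊔ zpowers h = ⊤ := by
    obtain ⟨a, ha⟩ := hQ.exists_card_eq
    have hdis : Q ⊓ zpowers h = ⊥ := by
      apply disjoint_iff.1
      apply Subgroup.disjoint_of_coprime_natCard
      rw [Nat.card_zpowers, ha]; exact (Nat.Coprime.pow_right a hhcop).symm
    have e1 : Q.relIndex (zpowers h) = Q.index := by
      rw [← inf_relIndex_right, hdis, relIndex_bot_left, Nat.card_zpowers, h11]
    have e2 : Q.relIndex (Q ⊔ zpowers h) = Q.relIndex (zpowers h) :=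
      relIndex_sup_left (zpowers h) Q
    have e3 := relIndex_mul_index (le_sup_left : Q ≤ Q ⊔ zpowers h)
    rw [e2, e1] at e3
    have hpos : 0 < Q.index := Nat.pos_of_ne_zero index_ne_zero_of_finite
    have e4 : (Q ⊔ zpowers h).index = 1 := by
      have : Q.index * (Q ⊔ zpowers h).index = Q.index * 1 := by rw [e3, mul_one]
      exact Nat.eq_of_mul_eq_mul_left hpos this
    exact index_eq_one.1 e4
  exact hc1 (eq_one_of_commute h1 h3 Q hQ h hhcop hQh c hcQ hcomm.eq.symm)

/-- Let G be a finite group and p a prime. Then G has a normal p-complement if and only if every section K = H/N of G (N a normal subgroup of a subgroup H) whose largest normal subgroup of order prime to p is trivial contains an element whose order equals the exponent of K. -/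
theorem result {G : Type*} [Group G] [Finite G] (p : ℕ) [Fact p.Prime] :
    Cfsg.HasNormalPComplement p G ↔
      ∀ (H : Subgroup G) (N : Subgroup H) [N.Normal], Cfsg.pPrimeCore p (H ⧸ N) = ⊥ →
        ∃ k : H ⧸ N, orderOf k = Monoid.exponent (H ⧸ N) := by
  have hp : p.Prime := Fact.out
  constructor
  · intro hG H N _ hcore
    have hH : HasNormalPComplement p H := hasNormalPComplement_subgroup hG H
    have hK : HasNormalPComplement p (H ⧸ N) :=
      hasNormalPComplement_of_surjective (QuotientGroup.mk' N) (QuotientGroup.mk'_surjective N) hH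
    obtain ⟨M, hMn, hMcop, k, hMk⟩ := hasNormalPComplement_iff_exists.mp hK
    have hM : M = ⊥ := by
      rw [eq_bot_iff, ← hcore]
      exact le_sSup ⟨hMn, hMcop⟩
    rw [hM, index_bot] at hMk
    exact exists_orderOf_eq_exponent_of_card hp hMk
  · intro hall
    by_contra hG
    -- Step 1: a minimal non-`p`-nilpotent subgroup
    let S : Set (Subgroup G) := {H | ¬ HasNormalPComplement p H}
    have hS : S.Nonempty :=
      ⟨⊤, fun h => hG (hasNormalPComplement_of_equiv Subgroup.topEquiv h)⟩
    obtain ⟨H, hH, hmin⟩ := wellFounded_lt.has_min S hS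
    have hH2 : ∀ L : Subgroup H, L ≠ ⊤ → HasNormalPComplement p L := by
      intro L hL
      have hlt : L.map H.subtype < H := by
        refine lt_of_le_of_ne (map_subtype_le L) ?_
        intro he
        apply hL
        rw [eq_top_iff]
        intro x _
        have hx : (x : G) ∈ L.map H.subtype := by rw [he]; exact x.2
        obtain ⟨y, hy, hyx⟩ := hx
        have : y = x := Subtype.ext hyx
        rwa [← this]
      have h1 : HasNormalPComplement p (L.map H.subtype) := by
        by_contra h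
        exact hmin _ h hlt
      exact hasNormalPComplement_of_equiv
        (L.equivMapOfInjective H.subtype H.subtype_injective).symm h1
    -- Step 2: a maximal normal subgroup with non-`p`-nilpotent quotient
    let T : Set (Subgroup H) := {N | ∃ _ : N.Normal, ¬ HasNormalPComplement p (H ⧸ N)}
    have hT : T.Nonempty :=
      ⟨⊥, inferInstance, fun h => hH (hasNormalPComplement_of_equiv QuotientGroup.quotientBot h)⟩
    obtain ⟨N, ⟨hNn, hK1⟩, hmax⟩ := wellFounded_gt.has_min T hT
    have hK2 : ∀ L : Subgroup (H ⧸ N), L ≠ ⊤ → HasNormalPComplement p L := by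
      intro L hL
      let π := QuotientGroup.mk' N
      have hπ : Function.Surjective π := QuotientGroup.mk'_surjective N
      have hL' : L.comap π ≠ ⊤ := by
        intro he
        apply hL
        have h1 := congrArg (Subgroup.map π) he
        rw [map_comap_eq_self_of_surjective hπ, ← MonoidHom.range_eq_map,
          MonoidHom.range_eq_top.2 hπ] at h1
        exact h1
      have h1 := hH2 _ hL'
      exact hasNormalPComplement_of_surjective (π.subgroupComap L)
        (MonoidHom.subgroupComap_surjective_of_surjective π L hπ) h1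
    have hK3 : ∀ (M : Subgroup (H ⧸ N)) [M.Normal], M ≠ ⊥ →
        HasNormalPComplement p ((H ⧸ N) ⧸ M) := by
      intro M _ hM
      let π := QuotientGroup.mk' N
      have hπ : Function.Surjective π := QuotientGroup.mk'_surjective N
      have hM'n : (M.comap π).Normal := inferInstance
      have hNM : N < M.comap π := by
        refine lt_of_le_of_ne ?_ ?_
        · intro x hx
          rw [mem_comap]
          have h1 : π x = 1 := (QuotientGroup.eq_one_iff x).2 hx
          rw [h1]; exact M.one_mem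
        · intro he
          apply hM
          have h1 := congrArg (Subgroup.map π) he
          rw [map_comap_eq_self_of_surjective hπ] at h1
          rw [← h1, eq_bot_iff]
          rintro _ ⟨x, hx, rfl⟩
          rw [mem_bot]; exact (QuotientGroup.eq_one_iff x).2 hx
      have h1 : HasNormalPComplement p (H ⧸ M.comap π) := by
        by_contra h
        exact hmax (M.comap π) ⟨hM'n, h⟩ hNM
      let f : H ⧸ M.comap π →* (H ⧸ N) ⧸ M := QuotientGroup.map (M.comap π) M π le_rfl
      have hf : Function.Surjective f := by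
        apply QuotientGroup.map_surjective_of_surjective
        intro y
        induction y using QuotientGroup.induction_on with
        | H a =>
          obtain ⟨b, rfl⟩ := hπ a
          exact ⟨b, rfl⟩
      exact hasNormalPComplement_of_surjective f hf h1
    have hcore : pPrimeCore p (H ⧸ N) = ⊥ := by
      unfold pPrimeCore
      rw [sSup_eq_bot]
      rintro M ⟨hMn, hMcop⟩
      by_contra hM
      exact hK1 (hasNormalPComplement_of_quotient M hMcop (hK3 M hM))
    obtain ⟨k, hk⟩ := hall H N hcore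
    exact no_exponent_element hK1 hK2 hK3 ⟨k, hk⟩

end Cfsg.Agent.S4238
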