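import Cfsg.Statements.S4242
import Cfsg.Agent.Lib.Helper1.MaxNilp

set_option autoImplicit false
open Cfsg

namespace Cfsg.Agent.S4242

/-- Let G be a finite group and p a prime dividing its order. Every maximal subgroup of G of order divisible by p is nilpotent if and only if G is nilpotent, or G is a minimal non-nilpotent group, or G is the internal direct product of a normal subgroup of order p and a normal minimal non-nilpotent subgroup of order prime to p. -/
theorem result {G : Type*} [Group G] [Finite G] (p : ℕ) (hp : p.Prime) (hpG : p ∣ Nat.card G) :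
    (∀ M : Subgroup G, IsCoatom M → p ∣ Nat.card M → Group.IsNilpotent M) ↔
      (Group.IsNilpotent G ∨ Cfsg.IsMinimalNonNilpotent G ∨
        ∃ Z K : Subgroup G, Z.Normal ∧ K.Normal ∧ Z ⊓ K = ⊥ ∧ Z ⊔ K = ⊤ ∧ Nat.card Z = p ∧
          Cfsg.IsMinimalNonNilpotent K ∧ ¬ p ∣ Nat.card K) := by
  have : Fact p.Prime := ⟨hp⟩
  constructor
  · intro h
    by_cases hnil : Group.IsNilpotent G
    · exact Or.inl hnil
    by_cases hmin : Cfsg.IsMinimalNonNilpotent G
    · exact Or.inr (Or.inl hmin)
    right; right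
    have hex : ∃ H : Subgroup G, H ≠ ⊤ ∧ ¬ Group.IsNilpotent H := by
      by_contra hcon
      push Not at hcon
      exact hmin ⟨hnil, hcon⟩
    obtain ⟨H, hH, hHnil⟩ := hex
    obtain ⟨M, hM, hHM⟩ := Cfsg.Agent.Lib.Helper1.MaxNilp.exists_coatom_ge hH
    have hMnil : ¬ Group.IsNilpotent M :=
      fun hn => hHnil (Cfsg.Agent.Lib.Helper1.isNilpotent_of_le hHM hn)
    by_cases hex : ∃ R : Subgroup G, R.Normal ∧ IsPGroup p R ∧ R ≠ ⊥
    · obtain ⟨R, hRn, hR, hR1⟩ := hex
      exact Cfsg.Agent.Lib.Helper1.MaxNilp.exists_of_normal_pgroup h M hM hMnil R hR hR1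
    · exfalso
      push Not at hex
      exact Cfsg.Agent.Lib.Helper1.MaxNilp.false_of_no_normal_pgroup hpG h M hM hMnil hex
  · rintro (hnil | hmin | ⟨Z, K, hZn, hKn, hZK, hsup, hZ, hKmin, hpK⟩) M hM hpM
    · infer_instance
    · exact hmin.2 M hM.1
    · exact Cfsg.Agent.Lib.Helper1.MaxNilp.isNilpotent_of_decomp Z K hZn hKn hZK hsup hZ hKmin hpK
        M hM hpM

end Cfsg.Agent.S4242
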