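import Cfsg.Statements.S4244

set_option autoImplicit false
open Cfsg

namespace Cfsg.Agent.S4244

theorem relIndex_mul_card {G : Type*} [Group G] {H K : Subgroup G} (h : H ≤ K) :
    H.relIndex K * Nat.card H = Nat.card K := by
  rw [Subgroup.relIndex, ← Subgroup.index_mul_card (H.subgroupOf K)]
  congr 1
  exact Nat.card_congr (Subgroup.subgroupOfEquivOfLe h).toEquiv.symm

theorem normal_case {G : Type*} [Group G] [Finite G] (N K : Subgroup G) [N.Normal] :
    (N ⊓ K).relIndex N ∣ K.index := by
  have h1 : N.relIndex (K ⊔ N) = N.relIndex K := Subgroup.relIndex_sup_right K N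
  have e1 := relIndex_mul_card (le_sup_right : N ≤ K ⊔ N)
  have e2 := relIndex_mul_card (le_sup_left : K ≤ K ⊔ N)
  have e3 := relIndex_mul_card (inf_le_left : N ⊓ K ≤ N)
  have e4 := relIndex_mul_card (inf_le_right : N ⊓ K ≤ K)
  rw [h1, ← Subgroup.inf_relIndex_right] at e1
  have hc : 0 < Nat.card (N ⊓ K : Subgroup G) := Nat.card_pos
  have hb : 0 < (N ⊓ K).relIndex K := by
    rcases Nat.eq_zero_or_pos ((N ⊓ K).relIndex K) with h0 | h0
    · rw [h0, zero_mul] at e4
      have : 0 < Nat.card K := Nat.card_pos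
      omega
    · exact h0
  have key : K.relIndex (K ⊔ N) = (N ⊓ K).relIndex N := by
    have : K.relIndex (K ⊔ N) * ((N ⊓ K).relIndex K * Nat.card (N ⊓ K : Subgroup G)) =
        (N ⊓ K).relIndex N * ((N ⊓ K).relIndex K * Nat.card (N ⊓ K : Subgroup G)) := by
      rw [e4, e2, ← e1, ← e3, ← e4]; ring
    exact Nat.eq_of_mul_eq_mul_right (Nat.mul_pos hb hc) this
  rw [← key]
  exact Subgroup.relIndex_dvd_index_of_le le_sup_left

/-- Let H be a subnormal subgroup of a finite group G. Then for every subgroup K of G the index of H ∩ K in H divides the index of K in G. -/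
theorem result {G : Type*} [Group G] [Finite G] (H : Subgroup G) (hH : H.IsSubnormal) (K : Subgroup G) :
    (H ⊓ K).relIndex H ∣ K.index := by
  induction hH with
  | top => rw [top_inf_eq, Subgroup.relIndex_top_right]
  | step H L hHL hL hN ih =>
    have h1 := normal_case (H.subgroupOf L) (K.subgroupOf L)
    have h2 : (H.subgroupOf L ⊓ K.subgroupOf L) = (H ⊓ K).subgroupOf L := by
      ext x; simp [Subgroup.mem_subgroupOf]
    rw [h2, Subgroup.relIndex_subgroupOf hHL] at h1
    have h3 : (K.subgroupOf L).index = (L ⊓ K).relIndex L := by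
      rw [Subgroup.inf_relIndex_left]; rfl
    rw [h3] at h1
    exact h1.trans ih

end Cfsg.Agent.S4244
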