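import Cfsg.Statements.S4249
import Cfsg.Agent.Lib.Lead.Kegel
import Cfsg.Agent.H5.GTMain
import Cfsg.Agent.Lib.Helper1.NoncyclicAbelian

set_option autoImplicit false
open Cfsg

namespace Cfsg.Agent.S4249

open Cfsg.Agent.Lib.Lead.Kegel Cfsg.Agent.Lib.Lead.Fpf

universe u

theorem hughes_normal {G : Type*} [Group G] (p : ℕ) :
    (Subgroup.closure {g : G | g ^ p ≠ 1}).Normal := by
  constructor
  intro n hn g
  have hle : Subgroup.closure {g : G | g ^ p ≠ 1} ≤
      (Subgroup.closure {g : G | g ^ p ≠ 1}).comap (MulAut.conj g).toMonoidHom := by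
    rw [Subgroup.closure_le]
    intro s hs
    rw [SetLike.mem_coe, Subgroup.mem_comap]
    apply Subgroup.subset_closure
    show (g * s * g⁻¹) ^ p ≠ 1
    rw [conj_pow]
    intro h
    apply hs
    have h2 := congrArg (fun t => g⁻¹ * t * g) h
    simpa [mul_assoc] using h2
  exact hle hn

theorem pow_eq_one_of_not_mem {G : Type*} [Group G] (p : ℕ) {g : G}
    (hg : g ∉ Subgroup.closure {g : G | g ^ p ≠ 1}) : g ^ p = 1 := by
  by_contra h
  exact hg (Subgroup.subset_closure h)

/-- the Hughes-type subgroup is nilpotent, by Kegel's theorem -/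
theorem nilpotent_of_out {G : Type u} [Group G] [Finite G] (p : ℕ) (hp : p.Prime)
    (H : Subgroup G) [H.Normal] (hout : ∀ g : G, g ∉ H → g ^ p = 1) (hH : H ≠ ⊤) :
    Group.IsNilpotent H := by
  obtain ⟨x, hx⟩ : ∃ x : G, x ∉ H := by
    by_contra hcon
    push Not at hcon
    exact hH ((Subgroup.eq_top_iff' H).mpr hcon)
  have hGT : GTHyp.{u} := by
    intro K _ _ q _ hq2 P h
    exact Cfsg.H5.GT.glauberman_thompson hq2 0 P h
  refine kegel_aux hGT p hp _ H rfl (MulAut.conjNormal x : MulAut H) ?_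
  intro v
  apply Subtype.ext
  rw [nrm_coe_of_comm (MulAut.conjNormal x : MulAut H) (MulAut.conj x)
    (fun w => MulAut.conjNormal_apply x w) p v]
  have h1 := nrm_conj (1 : MulAut G) x p (v : G)
  have h2 : (MulAut.conj x * (1 : MulAut G) : G ≃* G) = MulAut.conj x := mul_one _
  rw [h2] at h1
  rw [h1, nrm_of_fixed (1 : MulAut G) (x := (v : G) * x) rfl p,
    nrm_of_fixed (1 : MulAut G) (x := x) rfl p]
  have hvx : (v : G) * x ∉ H := fun h => hx ((Subgroup.mul_mem_cancel_left H v.2).mp h)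
  rw [hout _ hvx, hout _ hx]
  simp

/-- a normal `p'`-subgroup outside of which all elements have order `p` is trivial when `p ^ 2`
divides the group order -/
theorem lemmaC {G : Type*} [Group G] [Finite G] (p : ℕ) (hp : p.Prime) (K : Subgroup G)
    [K.Normal] (hout : ∀ g : G, g ∉ K → g ^ p = 1)
    (hK : ∀ y : G, y ∈ K → y ^ p = 1 → y = 1)
    (hdvd : p ^ 2 ∣ Nat.card G) : K = ⊥ := by
  have : Fact p.Prime := ⟨hp⟩
  obtain ⟨B, hB⟩ := Sylow.exists_subgroup_card_pow_prime p hdvd
  have hBK : ∀ b : G, b ∈ B → b ∈ K → b = 1 := by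
    intro b hb hbK
    have h1 : b ^ (p ^ 2) = 1 := by
      have h0 := pow_card_eq_one' (G := B) (x := ⟨b, hb⟩)
      rw [hB] at h0
      have h0' := congrArg Subtype.val h0
      simpa using h0'
    have h2 : b ^ p = 1 := hK (b ^ p) (K.pow_mem hbK p) (by rw [← pow_mul, ← sq]; exact h1)
    exact hK b hbK h2
  have hBexp : ∀ b : G, b ∈ B → b ^ p = 1 := by
    intro b hb
    by_cases hbK : b ∈ K
    · rw [hBK b hb hbK, one_pow]
    · exact hout b hbK
  have hBc : IsMulCommutative B := IsPGroup.isMulCommutative_of_card_eq_prime_sq hB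
  have hBnc : ¬ IsCyclic B := by
    intro hcyc
    obtain ⟨g, hg⟩ := IsCyclic.exists_ofOrder_eq_natCard (α := B)
    rw [hB] at hg
    have hd : orderOf g ∣ p := by
      apply orderOf_dvd_of_pow_eq_one
      apply Subtype.ext
      rw [Subgroup.coe_pow, hBexp _ g.2]
      rfl
    rw [hg] at hd
    have hle := Nat.le_of_dvd hp.pos hd
    have h2 := hp.two_le
    nlinarith
  have hcop : (Nat.card B).Coprime (Nat.card K) := by
    rw [hB]
    apply Nat.Coprime.pow_left
    rw [Nat.Prime.coprime_iff_not_dvd hp]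
    intro hd
    obtain ⟨y, hy⟩ := exists_prime_orderOf_dvd_card' p hd
    have h1 : (y : G) ^ p = 1 := by
      have h0 := pow_orderOf_eq_one y
      rw [hy] at h0
      have h0' := congrArg Subtype.val h0
      simpa using h0'
    have h2 : (y : G) = 1 := hK _ y.2 h1
    have h3 : y = 1 := Subtype.ext h2
    rw [h3, orderOf_one] at hy
    exact hp.one_lt.ne hy
  have hnorm : B ≤ Subgroup.normalizer (K : Set G) := by
    rw [Subgroup.normalizer_eq_top]
    exact le_top
  have key := Cfsg.Agent.Lib.Helper1.iSup_inf_centralizer_eq_of_not_isCyclic B K hBnc hnorm hcop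
  refine key.symm.trans ?_
  rw [eq_bot_iff]
  apply iSup₂_le
  intro a ha
  obtain ⟨haB, ha1⟩ := ha
  intro y hy
  obtain ⟨hyK, hyc⟩ := Subgroup.mem_inf.mp hy
  rw [Subgroup.mem_bot]
  have haK : a ∉ K := fun h => ha1 (hBK a haB h)
  have hcomm : Commute y a := by
    have h0 := Subgroup.mem_centralizer_iff.mp hyc a (Set.mem_singleton a)
    exact h0.symm
  have hya : y * a ∉ K := fun h => haK ((Subgroup.mul_mem_cancel_left K hyK).mp h)
  have h1 : (y * a) ^ p = 1 := hout _ hya
  rw [hcomm.mul_pow, hBexp a haB, mul_one] at h1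
  exact hK y hyK h1

theorem lemmaD {G : Type*} [Group G] [Finite G] (p : ℕ) (hp : p.Prime) (H R : Subgroup G)
    [H.Normal] [R.Normal] (hRH : R ≤ H) (hout : ∀ g : G, g ∉ H → g ^ p = 1)
    (hRp : ∀ g : G, g ∈ R → ∃ k : ℕ, g ^ p ^ k = 1)
    (hpel : ∀ h : G, h ∈ H → ∀ k : ℕ, h ^ p ^ k = 1 → h ∈ R)
    (hdvd : p ^ 2 ∣ H.index) : H ≤ R := by
  have hKn : (H.map (QuotientGroup.mk' R)).Normal :=
    Subgroup.Normal.map inferInstance _ (QuotientGroup.mk'_surjective R)
  have hK : H.map (QuotientGroup.mk' R) = ⊥ := by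
    apply lemmaC p hp (H.map (QuotientGroup.mk' R))
    · intro q hq
      obtain ⟨g, rfl⟩ := QuotientGroup.mk'_surjective R q
      have hg : g ∉ H := fun h => hq (Subgroup.mem_map_of_mem _ h)
      rw [← map_pow, hout g hg, map_one]
    · intro y hy hyp
      obtain ⟨h, hh, rfl⟩ := Subgroup.mem_map.mp hy
      rw [← map_pow] at hyp
      have h1 : h ^ p ∈ R := by
        rwa [QuotientGroup.mk'_apply, QuotientGroup.eq_one_iff] at hyp
      obtain ⟨k, hk⟩ := hRp _ h1
      have h2 : h ∈ R := hpel h hh (k + 1) (by rw [pow_succ', pow_mul]; exact hk)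
      rw [QuotientGroup.mk'_apply, QuotientGroup.eq_one_iff]
      exact h2
    · have h1 : H.index ∣ R.index := Subgroup.index_dvd_of_le hRH
      exact dvd_trans hdvd h1
  intro h hh
  have h1 : QuotientGroup.mk' R h ∈ H.map (QuotientGroup.mk' R) := Subgroup.mem_map_of_mem _ hh
  rw [hK, Subgroup.mem_bot, QuotientGroup.mk'_apply, QuotientGroup.eq_one_iff] at h1
  exact h1

theorem index_eq_of_out {G : Type*} [Group G] [Finite G] (p : ℕ) (hp : p.Prime)
    (hG : ¬ IsPGroup p G) (H : Subgroup G) [H.Normal] (hout : ∀ g : G, g ∉ H → g ^ p = 1)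
    (hH : H ≠ ⊤) (hnil : Group.IsNilpotent H) : H.index = p := by
  have : Fact p.Prime := ⟨hp⟩
  have hquo : IsPGroup p (G ⧸ H) := by
    intro q
    refine ⟨1, ?_⟩
    obtain ⟨g, rfl⟩ := QuotientGroup.mk_surjective q
    rw [pow_one]
    by_cases hg : g ∈ H
    · have h1 : (QuotientGroup.mk g : G ⧸ H) = 1 := (QuotientGroup.eq_one_iff g).mpr hg
      rw [h1, one_pow]
    · rw [← QuotientGroup.mk_pow, hout g hg]
      rfl
  obtain ⟨a, ha⟩ := IsPGroup.iff_card.mp hquo
  have hidx : H.index = p ^ a := ha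
  have ha0 : a ≠ 0 := by
    intro h0
    rw [h0, pow_zero] at hidx
    exact hH (Subgroup.index_eq_one.mp hidx)
  by_contra hne
  have ha2 : 2 ≤ a := by
    rcases Nat.lt_or_ge a 2 with h | h
    · exfalso
      apply hne
      have h1 : a = 1 := by omega
      rw [hidx, h1, pow_one]
    · exact h
  obtain ⟨P0⟩ : Nonempty (Sylow p H) := inferInstance
  have h03 := (Group.isNilpotent_of_finite_tfae (G := H)).out 0 3
  have hP0n : (P0 : Subgroup H).Normal := (h03.mp hnil) p inferInstance P0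
  have hP0c : (P0 : Subgroup H).Characteristic := Sylow.characteristic_of_normal P0 hP0n
  have hRn : ((P0 : Subgroup H).map H.subtype).Normal :=
    ConjAct.normal_of_characteristic_of_normal
  have hRmem : ∀ g : G, g ∈ (P0 : Subgroup H).map H.subtype ↔
      ∃ h : H, h ∈ (P0 : Subgroup H) ∧ (h : G) = g := fun g => Subgroup.mem_map
  have hRH : (P0 : Subgroup H).map H.subtype ≤ H := by
    intro g hg
    obtain ⟨h, _, rfl⟩ := (hRmem g).mp hg
    exact h.2
  have hRp : ∀ g : G, g ∈ (P0 : Subgroup H).map H.subtype → ∃ k : ℕ, g ^ p ^ k = 1 := by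
    intro g hg
    obtain ⟨h, hh, rfl⟩ := (hRmem g).mp hg
    obtain ⟨k, hk⟩ := P0.isPGroup' ⟨h, hh⟩
    refine ⟨k, ?_⟩
    have h1 : h ^ p ^ k = 1 := by
      have h0 := congrArg Subtype.val hk
      simpa using h0
    rw [← Subgroup.coe_pow, h1]
    rfl
  have hpel : ∀ h : G, h ∈ H → ∀ k : ℕ, h ^ p ^ k = 1 →
      h ∈ (P0 : Subgroup H).map H.subtype := by
    intro h hh k hk
    have hz : IsPGroup p (Subgroup.zpowers (⟨h, hh⟩ : H)) := by
      have hd : orderOf (⟨h, hh⟩ : H) ∣ p ^ k := by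
        apply orderOf_dvd_of_pow_eq_one
        apply Subtype.ext
        rw [Subgroup.coe_pow]
        exact hk
      obtain ⟨j, _, hj⟩ := (Nat.dvd_prime_pow hp).mp hd
      exact IsPGroup.of_card (n := j) (by rw [Nat.card_zpowers, hj])
    obtain ⟨Q, hQ⟩ := hz.exists_le_sylow
    obtain ⟨g, hg⟩ := MulAction.exists_smul_eq H P0 Q
    have hQP : Q = P0 := by
      rw [← hg]
      exact Sylow.smul_eq_of_normal
    refine (hRmem h).mpr ⟨⟨h, hh⟩, ?_, rfl⟩
    rw [← hQP]
    exact hQ (Subgroup.mem_zpowers _)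
  have hHR : H ≤ (P0 : Subgroup H).map H.subtype :=
    lemmaD p hp H ((P0 : Subgroup H).map H.subtype) hRH hout hRp hpel
      (by rw [hidx]; exact pow_dvd_pow p ha2)
  apply hG
  intro g
  by_cases hg : g ∈ H
  · exact hRp g (hHR hg)
  · exact ⟨1, by rw [pow_one]; exact hout g hg⟩

/-- Let G be a finite group and p a prime such that G is not a p-group, and suppose the Hughes subgroup H_p(G), generated by all elements g with g^p ≠ 1, is a proper subgroup. Then H_p(G) is nilpotent and has index p in G. -/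
theorem result {G : Type*} [Group G] [Finite G] (p : ℕ) (hp : p.Prime) (hG : ¬ IsPGroup p G)
    (hH : Subgroup.closure {g : G | g ^ p ≠ 1} ≠ ⊤) :
    Group.IsNilpotent (Subgroup.closure {g : G | g ^ p ≠ 1}) ∧ (Subgroup.closure {g : G | g ^ p ≠ 1}).index = p := by
  have hN : (Subgroup.closure {g : G | g ^ p ≠ 1}).Normal := hughes_normal p
  have hout : ∀ g : G, g ∉ Subgroup.closure {g : G | g ^ p ≠ 1} → g ^ p = 1 :=
    fun g hg => pow_eq_one_of_not_mem p hg
  have hnil := nilpotent_of_out p hp _ hout hH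
  exact ⟨hnil, index_eq_of_out p hp hG _ hout hH hnil⟩

end Cfsg.Agent.S4249
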