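import Cfsg.Statements.S4250
import Cfsg.Agent.S2012

set_option autoImplicit false
open Cfsg

namespace Cfsg.Agent.S4250

open scoped commutatorElement

/-- Let P be a Sylow p-subgroup of a finite group G. Call an intersection H = P ∩ Q with a Sylow p-subgroup Q tame when N_P(H) and N_Q(H) are Sylow p-subgroups of N_G(H). Then P ∩ G′ is generated by [P, N_G(P)] together with the commutator subgroups [P ∩ Q, ⟨x⟩] for all tame intersections P ∩ Q and all p-elements x of N_G(P ∩ Q). -/
theorem result {G : Type*} [Group G] [Finite G] (p : ℕ) [Fact p.Prime] (P : Sylow p G) :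
    (P : Subgroup G) ⊓ commutator G =
      ⁅(P : Subgroup G), Subgroup.normalizer ((P : Subgroup G) : Set G)⁆ ⊔
        ⨆ (Q : Sylow p G) (_ : (¬ p ∣ ((P : Subgroup G) ⊓ Subgroup.normalizer (((P : Subgroup G) ⊓ (Q : Subgroup G) : Subgroup G) : Set G)).relIndex (Subgroup.normalizer (((P : Subgroup G) ⊓ (Q : Subgroup G) : Subgroup G) : Set G)) ∧ ¬ p ∣ ((Q : Subgroup G) ⊓ Subgroup.normalizer (((P : Subgroup G) ⊓ (Q : Subgroup G) : Subgroup G) : Set G)).relIndex (Subgroup.normalizer (((P : Subgroup G) ⊓ (Q : Subgroup G) : Subgroup G) : Set G))))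
          (x : G) (_ : x ∈ Subgroup.normalizer (((P : Subgroup G) ⊓ (Q : Subgroup G) : Subgroup G) : Set G) ∧ ∃ k : ℕ, orderOf x = p ^ k),
          ⁅(P : Subgroup G) ⊓ (Q : Subgroup G), Subgroup.zpowers x⁆ := by
  -- a commutator `[H, K]` with `K ≤ N(H)` lies in `H`
  have hcomm_le : ∀ (H : Subgroup G) (y : G), y ∈ Subgroup.normalizer (H : Set G) →
      ∀ a ∈ H, ⁅a, y⁆ ∈ H := by
    intro H y hy a ha
    have h1 : y * a⁻¹ * y⁻¹ ∈ H := (Subgroup.mem_normalizer_iff.mp hy a⁻¹).mp (H.inv_mem ha)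
    have : ⁅a, y⁆ = a * (y * a⁻¹ * y⁻¹) := by rw [commutatorElement_def]; group
    rw [this]; exact H.mul_mem ha h1
  have hGc : ∀ (H K : Subgroup G), ⁅H, K⁆ ≤ commutator G := by
    intro H K
    rw [commutator_def]
    exact Subgroup.commutator_mono le_top le_top
  apply le_antisymm
  · -- use the focal subgroup theorem and Alperin's fusion theorem
    rw [inf_comm, Subgroup.commutator_inf_eq_focalSubgroup, Subgroup.focalSubgroup_def,
      Subgroup.closure_le]
    rintro g ⟨hgP, x, hxP, u, rfl⟩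
    set R : Subgroup G := ⁅(P : Subgroup G), Subgroup.normalizer ((P : Subgroup G) : Set G)⁆ ⊔
        ⨆ (Q : Sylow p G) (_ : (¬ p ∣ ((P : Subgroup G) ⊓ Subgroup.normalizer (((P : Subgroup G) ⊓ (Q : Subgroup G) : Subgroup G) : Set G)).relIndex (Subgroup.normalizer (((P : Subgroup G) ⊓ (Q : Subgroup G) : Subgroup G) : Set G)) ∧ ¬ p ∣ ((Q : Subgroup G) ⊓ Subgroup.normalizer (((P : Subgroup G) ⊓ (Q : Subgroup G) : Subgroup G) : Set G)).relIndex (Subgroup.normalizer (((P : Subgroup G) ⊓ (Q : Subgroup G) : Subgroup G) : Set G))))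
          (x : G) (_ : x ∈ Subgroup.normalizer (((P : Subgroup G) ⊓ (Q : Subgroup G) : Subgroup G) : Set G) ∧ ∃ k : ℕ, orderOf x = p ^ k),
          ⁅(P : Subgroup G) ⊓ (Q : Subgroup G), Subgroup.zpowers x⁆ with hR
    show ⁅x, u⁆ ∈ R
    have huxP : u * x * u⁻¹ ∈ (P : Subgroup G) := by
      have h1 : x⁻¹ * ⁅x, u⁆ ∈ (P : Subgroup G) :=
        Subgroup.mul_mem _ (Subgroup.inv_mem _ hxP) hgP
      have h2 : u * x * u⁻¹ = (x⁻¹ * ⁅x, u⁆)⁻¹ := by rw [commutatorElement_def]; group
      rw [h2]; exact Subgroup.inv_mem _ h1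
    obtain ⟨n, Q, y, hprod, hy, h0, hstep⟩ := Cfsg.Agent.S2012.result P ({x} : Set G) u⁻¹
      (by intro a ha; rw [Set.mem_singleton_iff] at ha; subst ha; exact hxP)
      (by
        rintro _ ⟨a, ha, rfl⟩
        rw [Set.mem_singleton_iff] at ha; subst ha
        show u⁻¹⁻¹ * a * u⁻¹ ∈ (P : Subgroup G)
        rw [inv_inv]; exact huxP)
    set L := List.ofFn y with hL
    have hlen : L.length = n := by simp [hL]
    have hmem : ∀ (i : ℕ) (hi : i < n),
        ((L.take i).prod)⁻¹ * x * (L.take i).prod ∈ (P : Subgroup G) ⊓ (Q ⟨i, hi⟩ : Subgroup G) := by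
      intro i hi
      cases i with
      | zero =>
        simp only [List.take_zero, List.prod_nil, inv_one, one_mul, mul_one]
        exact h0 hi (Set.mem_singleton x)
      | succ j =>
        exact hstep ⟨j, by omega⟩ hi ⟨x, Set.mem_singleton x, rfl⟩
    have key : ∀ i : ℕ, i ≤ n →
        x * (((L.take i).prod)⁻¹ * x * (L.take i).prod)⁻¹ ∈ R := by
      intro i
      induction i with
      | zero => intro _; simp
      | succ i ih =>
        intro hi
        have hi' : i < n := hi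
        have ih' := ih (by omega)
        obtain ⟨hyN, ht1, ht2, hcase⟩ := hy ⟨i, hi'⟩
        have htake : L.take (i + 1) = L.take i ++ [y ⟨i, hi'⟩] := by
          rw [List.take_succ_eq_append_getElem (by rw [hlen]; exact hi')]
          simp [hL]
        rw [htake, List.prod_append, List.prod_singleton]
        set w := (L.take i).prod with hw
        set a := w⁻¹ * x * w with ha
        have haH : a ∈ (P : Subgroup G) ⊓ (Q ⟨i, hi'⟩ : Subgroup G) := hmem i hi'
        have hsplit : x * ((w * y ⟨i, hi'⟩)⁻¹ * x * (w * y ⟨i, hi'⟩))⁻¹ =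
            (x * a⁻¹) * ⁅a, (y ⟨i, hi'⟩)⁻¹⁆ := by
          rw [commutatorElement_def, ha]; group
        rw [hsplit]
        refine R.mul_mem ih' ?_
        rcases hcase with hQP | ⟨k, hk⟩
        · -- `Q i = P`
          have hHP : (P : Subgroup G) ⊓ (Q ⟨i, hi'⟩ : Subgroup G) = (P : Subgroup G) := by
            rw [hQP, inf_idem]
          rw [hHP] at hyN haH
          have : ⁅a, (y ⟨i, hi'⟩)⁻¹⁆ ∈
              ⁅(P : Subgroup G), Subgroup.normalizer ((P : Subgroup G) : Set G)⁆ :=
            Subgroup.commutator_mem_commutator haH (Subgroup.inv_mem _ hyN)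
          exact (le_sup_left : _ ≤ R) this
        · have h1 : ⁅a, (y ⟨i, hi'⟩)⁻¹⁆ ∈
              ⁅(P : Subgroup G) ⊓ (Q ⟨i, hi'⟩ : Subgroup G), Subgroup.zpowers (y ⟨i, hi'⟩)⁆ :=
            Subgroup.commutator_mem_commutator haH
              (Subgroup.inv_mem _ (Subgroup.mem_zpowers _))
          have h2 : ⁅(P : Subgroup G) ⊓ (Q ⟨i, hi'⟩ : Subgroup G), Subgroup.zpowers (y ⟨i, hi'⟩)⁆ ≤ R := by
            refine le_trans ?_ (le_sup_right : _ ≤ R)
            exact le_iSup_of_le (Q ⟨i, hi'⟩) (le_iSup_of_le ⟨ht1, ht2⟩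
              (le_iSup_of_le (y ⟨i, hi'⟩) (le_iSup_of_le ⟨hyN, k, hk⟩ le_rfl)))
          exact h2 h1
    have hfin := key n le_rfl
    have htn : L.take n = L := by rw [← hlen]; exact List.take_length
    rw [htn, hprod] at hfin
    have : ⁅x, u⁆ = x * (u⁻¹⁻¹ * x * u⁻¹)⁻¹ := by rw [commutatorElement_def]; group
    rw [this]; exact hfin
  · apply sup_le
    · apply le_inf
      · rw [Subgroup.commutator_le]
        intro a ha b hb
        exact hcomm_le _ b hb a ha
      · exact hGc _ _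
    · refine iSup_le fun Q => iSup_le fun _ => iSup_le fun x => iSup_le fun hx => ?_
      apply le_inf
      · rw [Subgroup.commutator_le]
        intro a ha b hb
        have hbN : b ∈ Subgroup.normalizer
            ((((P : Subgroup G) ⊓ (Q : Subgroup G) : Subgroup G)) : Set G) := by
          obtain ⟨k, rfl⟩ := Subgroup.mem_zpowers_iff.mp hb
          exact Subgroup.zpow_mem _ hx.1 k
        exact (inf_le_left : (P : Subgroup G) ⊓ (Q : Subgroup G) ≤ _) (hcomm_le _ b hbN a ha)
      · exact hGc _ _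

end Cfsg.Agent.S4250
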