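import Cfsg.Statements.S4251
import Cfsg.Agent.S2012
import Cfsg.Agent.Lib.Helper13.Frobenius

set_option autoImplicit false
open Cfsg

namespace Cfsg.Agent.S4251

open Cfsg.Agent.Lib.Helper13

section aux

variable {G : Type*} [Group G] [Finite G] {p : ℕ} [Fact p.Prime]

/-- local step: if `N_G(U)/C_G(U)` is a `p`-group and `N_P(U)` is Sylow in `N_G(U)` then
every element of `N_G(U)` acts on `U` like an element of `P`. -/
theorem local_conj (P : Sylow p G) (U : Subgroup G)
    (hU : ¬ p ∣ ((P : Subgroup G) ⊓ Subgroup.normalizer (U : Set G)).relIndex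
      (Subgroup.normalizer (U : Set G)))
    (hNC : IsPGroup p (Subgroup.normalizer (U : Set G) ⧸
      (Subgroup.centralizer (U : Set G)).subgroupOf (Subgroup.normalizer (U : Set G))))
    (c : G) (hc : c ∈ Subgroup.normalizer (U : Set G)) :
    ∃ s ∈ (P : Subgroup G), ∀ y ∈ U, c * y * c⁻¹ = s * y * s⁻¹ := by
  set N : Subgroup G := Subgroup.normalizer (U : Set G) with hN
  obtain ⟨m, hm, u, hu, hcmu⟩ := exists_mul_of_sylow_pResidual p
    (((P : Subgroup G) ⊓ N).subgroupOf N) hU ⟨c, hc⟩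
  have hres : Cfsg.pResidual p ↥N ≤ (Subgroup.centralizer (U : Set G)).subgroupOf N := by
    unfold Cfsg.pResidual
    rw [Subgroup.closure_le]
    intro g hg
    have hg' : Nat.Coprime (orderOf g) p := hg
    show g ∈ (Subgroup.centralizer (U : Set G)).subgroupOf N
    rw [← QuotientGroup.eq_one_iff]
    obtain ⟨k, hk⟩ := hNC (g : N ⧸ (Subgroup.centralizer (U : Set G)).subgroupOf N)
    have h1 : orderOf (g : N ⧸ (Subgroup.centralizer (U : Set G)).subgroupOf N) ∣ orderOf g :=
      orderOf_map_dvd (QuotientGroup.mk' _) g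
    have h2 : orderOf (g : N ⧸ (Subgroup.centralizer (U : Set G)).subgroupOf N) ∣ p ^ k :=
      orderOf_dvd_of_pow_eq_one hk
    have h3 : orderOf (g : N ⧸ (Subgroup.centralizer (U : Set G)).subgroupOf N) = 1 :=
      Nat.eq_one_of_dvd_coprimes (Nat.Coprime.pow_right k hg') h1 h2
    exact orderOf_eq_one_iff.mp h3
  have huC : (u : G) ∈ Subgroup.centralizer (U : Set G) := Subgroup.mem_subgroupOf.mp (hres hu)
  refine ⟨(m : G), (Subgroup.mem_inf.mp (Subgroup.mem_subgroupOf.mp hm)).1, ?_⟩
  intro y hy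
  have hc' : c = (m : G) * (u : G) := by
    have := congrArg Subtype.val hcmu
    simpa using this
  have huy : (u : G) * y = y * (u : G) := (Subgroup.mem_centralizer_iff.mp huC y hy).symm
  rw [hc']
  calc (m : G) * (u : G) * y * ((m : G) * (u : G))⁻¹
      = (m : G) * ((u : G) * y) * (u : G)⁻¹ * (m : G)⁻¹ := by group
    _ = (m : G) * (y * (u : G)) * (u : G)⁻¹ * (m : G)⁻¹ := by rw [huy]
    _ = (m : G) * y * (m : G)⁻¹ := by group

omit [Finite G] [Fact p.Prime] in
/-- if `g` normalizes `U` and acts on `U` like the `p`-element `s`, and `g` is a `p'`-element,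
then `g` centralizes `U`. -/
theorem mem_centralizer_of_conj_eq (U : Subgroup G) (g s : G)
    (hg : g ∈ Subgroup.normalizer (U : Set G)) (hcop : Nat.Coprime (orderOf g) p)
    (hs : ∃ a : ℕ, s ^ p ^ a = 1)
    (hgs : ∀ y ∈ U, g⁻¹ * y * g = s⁻¹ * y * s) :
    g ∈ Subgroup.centralizer (U : Set G) := by
  have hpow : ∀ k : ℕ, ∀ y ∈ U, (g ^ k)⁻¹ * y * g ^ k = (s ^ k)⁻¹ * y * s ^ k := by
    intro k
    induction k with
    | zero => intro y _; simp
    | succ k ih =>
      intro y hy
      have hy' : (g ^ k)⁻¹ * y * g ^ k ∈ U := by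
        have hgk : (g ^ k)⁻¹ ∈ Subgroup.normalizer (U : Set G) :=
          Subgroup.inv_mem _ (Subgroup.pow_mem _ hg k)
        have := (Subgroup.mem_normalizer_iff.mp hgk y).mp hy
        simpa using this
      have h1 := hgs _ hy'
      rw [ih y hy] at h1
      rw [pow_succ, pow_succ]
      calc (g ^ k * g)⁻¹ * y * (g ^ k * g) = g⁻¹ * ((g ^ k)⁻¹ * y * g ^ k) * g := by group
        _ = g⁻¹ * ((s ^ k)⁻¹ * y * s ^ k) * g := by rw [ih y hy]
        _ = s⁻¹ * ((s ^ k)⁻¹ * y * s ^ k) * s := h1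
        _ = (s ^ k * s)⁻¹ * y * (s ^ k * s) := by group
  obtain ⟨a, ha⟩ := hs
  have hcent : g ^ p ^ a ∈ Subgroup.centralizer (U : Set G) := by
    rw [Subgroup.mem_centralizer_iff]
    intro y hy
    have := hpow (p ^ a) y hy
    rw [ha] at this
    simp only [inv_one, one_mul, mul_one] at this
    calc y * g ^ p ^ a = g ^ p ^ a * ((g ^ p ^ a)⁻¹ * y * g ^ p ^ a) := by group
      _ = g ^ p ^ a * y := by rw [this]
  obtain ⟨m, hm⟩ := exists_pow_eq_self_of_coprime (Nat.Coprime.pow_left a hcop.symm)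
  rw [← hm]
  exact Subgroup.pow_mem _ hcent m

end aux

/-- Let P be a Sylow p-subgroup of a finite group G. Call an intersection H = P ∩ Q with a Sylow p-subgroup Q tame when N_P(H) and N_Q(H) are Sylow p-subgroups of N_G(H). If N_G(H)/C_G(H) is a p-group for every nontrivial tame intersection H = P ∩ Q, then G has a normal p-complement. -/
theorem result {G : Type*} [Group G] [Finite G] (p : ℕ) [Fact p.Prime] (P : Sylow p G)
    (h : ∀ Q : Sylow p G, (P : Subgroup G) ⊓ (Q : Subgroup G) ≠ ⊥ → (¬ p ∣ ((P : Subgroup G) ⊓ Subgroup.normalizer (((P : Subgroup G) ⊓ (Q : Subgroup G) : Subgroup G) : Set G)).relIndex (Subgroup.normalizer (((P : Subgroup G) ⊓ (Q : Subgroup G) : Subgroup G) : Set G)) ∧ ¬ p ∣ ((Q : Subgroup G) ⊓ Subgroup.normalizer (((P : Subgroup G) ⊓ (Q : Subgroup G) : Subgroup G) : Set G)).relIndex (Subgroup.normalizer (((P : Subgroup G) ⊓ (Q : Subgroup G) : Subgroup G) : Set G))) →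
      IsPGroup p (Subgroup.normalizer (((P : Subgroup G) ⊓ (Q : Subgroup G) : Subgroup G) : Set G) ⧸
        (Subgroup.centralizer (((P : Subgroup G) ⊓ (Q : Subgroup G) : Subgroup G) : Set G)).subgroupOf
          (Subgroup.normalizer (((P : Subgroup G) ⊓ (Q : Subgroup G) : Subgroup G) : Set G)))) :
    Cfsg.HasNormalPComplement p G := by
  have hLC : LocalCentral p G := by
    apply localCentral_of_sylow P
    intro U hUP g hg hcop
    by_cases hUbot : U = ⊥
    · subst hUbot
      rw [Subgroup.mem_centralizer_iff]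
      intro y hy
      rw [SetLike.mem_coe, Subgroup.mem_bot] at hy
      subst hy; simp
    obtain ⟨y₀, hy₀U, hy₀⟩ : ∃ y₀ ∈ U, y₀ ≠ 1 := by
      by_contra hcon
      push Not at hcon
      exact hUbot ((Subgroup.eq_bot_iff_forall U).mpr hcon)
    have hgU : ∀ y ∈ U, g⁻¹ * y * g ∈ U := by
      intro y hy
      have hg' : g⁻¹ ∈ Subgroup.normalizer (U : Set G) := Subgroup.inv_mem _ hg
      have := (Subgroup.mem_normalizer_iff.mp hg' y).mp hy
      simpa using this
    obtain ⟨n, Q, x, hprod, hx, h0, hstep⟩ := Cfsg.Agent.S2012.result P (U : Set G) g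
      (fun a ha => hUP ha) (by
        rintro _ ⟨a, ha, rfl⟩
        exact hUP (hgU a ha))
    set L := List.ofFn x with hL
    have hlen : L.length = n := by simp [hL]
    -- conjugates of `U` stay inside the tame intersections
    have hmem : ∀ (i : ℕ) (hi : i < n), ∀ y ∈ U,
        ((L.take i).prod)⁻¹ * y * (L.take i).prod ∈ (P : Subgroup G) ⊓ (Q ⟨i, hi⟩ : Subgroup G) := by
      intro i hi y hy
      cases i with
      | zero =>
        simp only [List.take_zero, List.prod_nil, inv_one, one_mul, mul_one]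
        exact h0 hi hy
      | succ j =>
        exact hstep ⟨j, by omega⟩ hi ⟨y, hy, rfl⟩
    have key : ∀ i : ℕ, i ≤ n → ∃ s ∈ (P : Subgroup G), ∀ y ∈ U,
        ((L.take i).prod)⁻¹ * y * (L.take i).prod = s⁻¹ * y * s := by
      intro i
      induction i with
      | zero => intro _; exact ⟨1, Subgroup.one_mem _, by simp⟩
      | succ i ih =>
        intro hi
        have hi' : i < n := hi
        obtain ⟨s, hsP, hs⟩ := ih (by omega)
        obtain ⟨hxN, ht1, ht2, -⟩ := hx ⟨i, hi'⟩
        have hne : (P : Subgroup G) ⊓ (Q ⟨i, hi'⟩ : Subgroup G) ≠ ⊥ := by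
          intro hbot
          have h1 := hmem i hi' y₀ hy₀U
          rw [hbot, Subgroup.mem_bot] at h1
          apply hy₀
          have : y₀ = (L.take i).prod * (((L.take i).prod)⁻¹ * y₀ * (L.take i).prod) *
              ((L.take i).prod)⁻¹ := by group
          rw [this, h1]; group
        have hNC := h (Q ⟨i, hi'⟩) hne ⟨ht1, ht2⟩
        obtain ⟨t, htP, ht⟩ := local_conj P _ ht1 hNC (x ⟨i, hi'⟩)⁻¹ (Subgroup.inv_mem _ hxN)
        refine ⟨s * t⁻¹, Subgroup.mul_mem _ hsP (Subgroup.inv_mem _ htP), ?_⟩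
        intro y hy
        have htake : L.take (i + 1) = L.take i ++ [x ⟨i, hi'⟩] := by
          rw [List.take_succ_eq_append_getElem (by rw [hlen]; exact hi')]
          simp [hL]
        rw [htake, List.prod_append, List.prod_singleton]
        have h2 := ht _ (hmem i hi' y hy)
        rw [inv_inv] at h2
        calc ((L.take i).prod * x ⟨i, hi'⟩)⁻¹ * y * ((L.take i).prod * x ⟨i, hi'⟩)
            = (x ⟨i, hi'⟩)⁻¹ * (((L.take i).prod)⁻¹ * y * (L.take i).prod) * x ⟨i, hi'⟩ := by group
          _ = t * (((L.take i).prod)⁻¹ * y * (L.take i).prod) * t⁻¹ := h2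
          _ = t * (s⁻¹ * y * s) * t⁻¹ := by rw [hs y hy]
          _ = (s * t⁻¹)⁻¹ * y * (s * t⁻¹) := by group
    obtain ⟨s, hsP, hs⟩ := key n le_rfl
    have htn : L.take n = L := by rw [← hlen]; exact List.take_length
    rw [htn, hprod] at hs
    refine mem_centralizer_of_conj_eq (p := p) U g s hg hcop ?_ hs
    obtain ⟨a, ha⟩ := (P.isPGroup' : IsPGroup p (P : Subgroup G)) ⟨s, hsP⟩
    refine ⟨a, ?_⟩
    have := congrArg Subtype.val ha
    simpa using this
  obtain ⟨K, hKn, hK⟩ := exists_normal_complement_of_localCentral hLC P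
  exact ⟨P, K, hKn, hK⟩

end Cfsg.Agent.S4251
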