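import Cfsg.Statements.S4261
import Cfsg.Agent.Lib.Helper1.SZ
import Cfsg.Agent.Lib.Helper23.SylowCount

set_option autoImplicit false
open Cfsg

namespace Cfsg.Agent.S4261

open Subgroup Cfsg.Agent.Lib.Helper23

theorem aux {G : Type*} [Group G] [Finite G] (hG : Group.IsSolvable G) (M : Subgroup G) (hM : IsCoatom M)
    (hexp : ∀ x : G, x ^ M.index ∈ M) (N : Subgroup G) [N.Normal] (hNM : N ≤ M)
    (hNcore : ∀ x : G, (∀ g : G, g * x * g⁻¹ ∈ M) → x ∈ N) : M.Normal := by
  let π : G →* G ⧸ N := QuotientGroup.mk' N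
  have hπ : Function.Surjective π := QuotientGroup.mk'_surjective N
  have hker : π.ker = N := QuotientGroup.ker_mk' N
  set Mb : Subgroup (G ⧸ N) := M.map π with hMb
  have hcomap : Mb.comap π = M := by
    rw [hMb, Subgroup.comap_map_eq, hker, sup_of_le_left hNM]
  have hidx : Mb.index = M.index := Subgroup.index_map_eq M hπ (by rw [hker]; exact hNM)
  -- Mb is a coatom
  have hMbco : IsCoatom Mb := by
    constructor
    · intro h
      apply hM.1
      rw [← hcomap, h, Subgroup.comap_top]
    · intro L hL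
      have h1 : M < L.comap π := by
        rw [← hcomap]
        refine lt_of_le_of_ne (Subgroup.comap_mono hL.le) ?_
        intro h
        exact hL.ne (Subgroup.comap_injective hπ h)
      have h2 := hM.2 _ h1
      rw [← Subgroup.comap_top π] at h2
      exact Subgroup.comap_injective hπ h2
  -- core of Mb is trivial
  have hcore : ∀ A : Subgroup (G ⧸ N), A.Normal → A ≤ Mb → A = ⊥ := by
    intro A hA hAM
    rw [eq_bot_iff]
    intro xb hxb
    obtain ⟨x, rfl⟩ := hπ xb
    have hx : x ∈ N := by
      apply hNcore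
      intro g
      have h1 : π (g * x * g⁻¹) ∈ A := by
        rw [map_mul, map_mul, map_inv]
        exact hA.conj_mem _ hxb _
      have h2 : g * x * g⁻¹ ∈ Mb.comap π := hAM h1
      rwa [hcomap] at h2
    rw [Subgroup.mem_bot]
    exact (QuotientGroup.eq_one_iff x).2 hx
  -- a normal elementary abelian q-subgroup of G/N
  have hbot : (⊤ : Subgroup (G ⧸ N)) ≠ ⊥ := by
    intro h
    apply hMbco.1
    exact le_antisymm le_top (by rw [h]; exact bot_le)
  have hsolv : Group.IsSolvable (⊤ : Subgroup (G ⧸ N)) := inferInstance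
  obtain ⟨q, hq, A, hAn, -, hAbot, -, hAexp⟩ :=
    Cfsg.Agent.Lib.Helper1.exists_normal_elementary_abelian_le (Nat.card (⊤ : Subgroup (G ⧸ N)))
      (⊤ : Subgroup (G ⧸ N)) rfl hbot hsolv
  have : Fact q.Prime := ⟨hq⟩
  have hAq : IsPGroup q A := by
    intro x
    refine ⟨1, ?_⟩
    rw [pow_one]
    exact Subtype.ext (by simpa using hAexp x x.2)
  have hAM : ¬ A ≤ Mb := fun h => hAbot (hcore A hAn h)
  have hsup : A ⊔ Mb = ⊤ := by
    apply hMbco.2
    refine lt_of_le_of_ne le_sup_right ?_
    intro h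
    apply hAM
    rw [h]
    exact le_sup_left
  have hAtop : normalizer (A : Set (G ⧸ N)) = ⊤ := @Subgroup.normalizer_eq_top _ _ A hAn
  have h1 : Mb.relIndex (A ⊔ Mb) = Mb.relIndex A :=
    relIndex_sup_of_le_normalizer' (A := A) (B := Mb) (by rw [hAtop]; exact le_top)
  rw [hsup, relIndex_top_right, hidx] at h1
  obtain ⟨k, hk⟩ := IsPGroup.iff_card.1 hAq
  have h2 : M.index ∣ q ^ k := by
    rw [h1, ← hk]
    exact Subgroup.relIndex_dvd_card _ _
  obtain ⟨j, -, hj⟩ := (Nat.dvd_prime_pow hq).1 h2
  -- q'-elements lie in N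
  have hq' : ∀ x : G, (orderOf x).Coprime q → x ∈ N := by
    intro x hx
    apply hNcore
    intro g
    have ho : orderOf (g * x * g⁻¹) = orderOf x := by
      have := orderOf_injective (MulAut.conj g).toMonoidHom (MulAut.conj g).injective x
      simpa using this
    have hc : (M.index).Coprime (orderOf (g * x * g⁻¹)) := by
      rw [ho, hj]
      exact (Nat.Coprime.pow_left j hx.symm)
    obtain ⟨m, hm⟩ := exists_pow_eq_self_of_coprime hc
    rw [← hm]
    exact M.pow_mem (hexp _) m
  -- G/N is a q-group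
  have hGq : IsPGroup q (G ⧸ N) := by
    intro xb
    obtain ⟨x, rfl⟩ := hπ xb
    have hpos : orderOf x ≠ 0 := (orderOf_pos x).ne'
    obtain ⟨a, b, hb, hab⟩ := Nat.exists_eq_pow_mul_and_not_dvd hpos q hq.ne_one
    refine ⟨a, ?_⟩
    have hmem : x ^ q ^ a ∈ N := by
      apply hq'
      rw [orderOf_pow' _ (pow_ne_zero a hq.ne_zero), hab, Nat.gcd_mul_right_left,
        Nat.mul_div_cancel_left _ (pow_pos hq.pos a)]
      exact (Nat.Coprime.symm ((Nat.Prime.coprime_iff_not_dvd hq).2 hb))
    rw [← map_pow]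
    exact (QuotientGroup.eq_one_iff _).2 hmem
  have hnil : Group.IsNilpotent (G ⧸ N) := hGq.isNilpotent
  have hMbn : Mb.Normal :=
    Subgroup.NormalizerCondition.normal_of_coatom Mb Group.normalizerCondition_of_isNilpotent hMbco
  rw [← hcomap]
  exact hMbn.comap π

/-- Let M be a maximal subgroup of a finite solvable group G such that x^[G : M] lies in M for every x in G. Then M is normal in G. -/
theorem result {G : Type*} [Group G] [Finite G] (hG : Group.IsSolvable G) (M : Subgroup G) (hM : IsCoatom M)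
    (hexp : ∀ x : G, x ^ M.index ∈ M) : M.Normal :=
  aux hG M hM hexp M.normalCore M.normalCore_le (fun _ hx => hx)

end Cfsg.Agent.S4261
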