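import Cfsg.Statements.S4262
import Mathlib
import Cfsg.Agent.S3904

set_option autoImplicit false
open Cfsg

namespace Cfsg.Agent.S4262

/-- Let G be a finite group in which the centralizer of every non-central element is a maximal subgroup of G. Then G is solvable. -/
theorem result {G : Type*} [Group G] [Finite G]
    (h : ∀ g : G, g ∉ Subgroup.center G → IsCoatom (Subgroup.centralizer ({g} : Set G))) :
    Group.IsSolvable G := by
  classical
  by_cases hab : IsMulCommutative G
  · exact Group.isSolvable_of_comm (fun a b => hab.is_comm.comm a b)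
  · -- the centre is solvable
    haveI hZ : Group.IsSolvable ↥(Subgroup.center G) :=
      Group.isSolvable_of_comm (fun a b => by
        apply Subtype.ext
        have := a.2
        rw [Subgroup.mem_center_iff] at this
        simpa using (this b.1).symm)
    suffices hQ : Group.IsSolvable (G ⧸ Subgroup.center G) by
      haveI := hQ
      refine Group.isSolvable_of_ker_le_range (Subgroup.center G).subtype
        (QuotientGroup.mk' (Subgroup.center G)) ?_
      rw [QuotientGroup.ker_mk', Subgroup.range_subtype]
    rcases Cfsg.Agent.S3904.result hab h with ⟨p, hp, hE⟩ | ⟨-, -, p, q, a, hp, hq, hpq, hcard, hN⟩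
    · -- elementary abelian quotient
      have hc := hE.1
      refine Group.isSolvable_of_comm (fun x y => ?_)
      have := hc.is_comm.comm (⟨x, Subgroup.mem_top x⟩ : ↥(⊤ : Subgroup (G ⧸ Subgroup.center G)))
        ⟨y, Subgroup.mem_top y⟩
      exact congrArg Subtype.val this
    · -- order p^a q with normal Sylow p-subgroup
      haveI : Fact p.Prime := ⟨hp⟩
      haveI : Fact q.Prime := ⟨hq⟩
      obtain ⟨K, hK⟩ := Sylow.exists_subgroup_card_pow_prime (G := G ⧸ Subgroup.center G) p
        (n := a) (by rw [hcard]; exact Dvd.intro _ rfl)
      haveI hKn : K.Normal := hN K hK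
      have hKp : IsPGroup p ↥K := IsPGroup.of_card hK
      haveI : Group.IsNilpotent ↥K := hKp.isNilpotent
      haveI : Group.IsSolvable ↥K := inferInstance
      have hqc : Nat.card ((G ⧸ Subgroup.center G) ⧸ K) = q := by
        have h1 := Subgroup.card_eq_card_quotient_mul_card_subgroup K
        rw [hcard, hK, mul_comm] at h1
        exact (Nat.eq_of_mul_eq_mul_right (pow_pos hp.pos a) h1).symm
      haveI : IsCyclic ((G ⧸ Subgroup.center G) ⧸ K) := isCyclic_of_prime_card hqc
      haveI : Group.IsSolvable ((G ⧸ Subgroup.center G) ⧸ K) :=
        Group.isSolvable_of_comm (fun x y => IsCyclic.isMulCommutative.is_comm.comm x y)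
      refine Group.isSolvable_of_ker_le_range K.subtype (QuotientGroup.mk' K) ?_
      rw [QuotientGroup.ker_mk', Subgroup.range_subtype]

end Cfsg.Agent.S4262
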