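import Cfsg.Statements.S4263
import Cfsg.Agent.Lib.Helper1.Cores

set_option autoImplicit false
open Cfsg

namespace Cfsg.Agent.S4263

theorem relIndex_mul_card {G : Type*} [Group G] {H K : Subgroup G} (h : H ≤ K) :
    H.relIndex K * Nat.card H = Nat.card K := by
  rw [Subgroup.relIndex, ← Subgroup.index_mul_card (H.subgroupOf K)]
  congr 1
  exact Nat.card_congr (Subgroup.subgroupOfEquivOfLe h).toEquiv.symm

/-- second isomorphism theorem, as indices: `[KN : K] = [N : N ∩ K]` for `N` normal -/
theorem relIndex_sup_eq {G : Type*} [Group G] [Finite G] (N K : Subgroup G) [N.Normal] :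
    K.relIndex (K ⊔ N) = (N ⊓ K).relIndex N := by
  have h1 : N.relIndex (K ⊔ N) = N.relIndex K := Subgroup.relIndex_sup_right K N
  have e1 := relIndex_mul_card (le_sup_right : N ≤ K ⊔ N)
  have e2 := relIndex_mul_card (le_sup_left : K ≤ K ⊔ N)
  have e3 := relIndex_mul_card (inf_le_left : N ⊓ K ≤ N)
  have e4 := relIndex_mul_card (inf_le_right : N ⊓ K ≤ K)
  rw [h1, ← Subgroup.inf_relIndex_right] at e1
  have hc : 0 < Nat.card (N ⊓ K : Subgroup G) := Nat.card_pos
  have hb : 0 < (N ⊓ K).relIndex K := by
    rcases Nat.eq_zero_or_pos ((N ⊓ K).relIndex K) with h0 | h0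
    · rw [h0, zero_mul] at e4
      have : 0 < Nat.card K := Nat.card_pos
      omega
    · exact h0
  have : K.relIndex (K ⊔ N) * ((N ⊓ K).relIndex K * Nat.card (N ⊓ K : Subgroup G)) =
      (N ⊓ K).relIndex N * ((N ⊓ K).relIndex K * Nat.card (N ⊓ K : Subgroup G)) := by
    rw [e4, e2, ← e1, ← e3, ← e4]; ring
  exact Nat.eq_of_mul_eq_mul_right (Nat.mul_pos hb hc) this

/-- In a finite nilpotent group, `y ^ [F : L] ∈ L` for every subgroup `L`. -/
theorem nil_pow_index_mem {F : Type*} [Group F] [Finite F] [Group.IsNilpotent F]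
    (L : Subgroup F) (y : F) : y ^ L.index ∈ L := by
  induction h : L.index using Nat.strong_induction_on generalizing L with
  | _ n ih =>
    by_cases htop : L = ⊤
    · rw [htop]; trivial
    · have hlt : L < Subgroup.normalizer (L : Set F) :=
        Group.normalizerCondition_of_isNilpotent L (lt_top_iff_ne_top.mpr htop)
      set L1 := Subgroup.normalizer (L : Set F) with hL1
      have hidx : L.relIndex L1 * L1.index = L.index := Subgroup.relIndex_mul_index hlt.le
      have hrel : 1 < L.relIndex L1 := by
        have h0 : L.relIndex L1 ≠ 0 := by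
          intro h0
          rw [h0, zero_mul] at hidx
          exact Subgroup.index_ne_zero_of_finite hidx.symm
        have h1 : L.relIndex L1 ≠ 1 := by
          intro h1
          rw [Subgroup.relIndex_eq_one] at h1
          exact absurd hlt (not_lt_of_ge h1)
        omega
      have hL1pos : 0 < L1.index := Nat.pos_of_ne_zero Subgroup.index_ne_zero_of_finite
      have hlt' : L1.index < n := by
        rw [← h, ← hidx]
        nlinarith
      have hz := ih L1.index hlt' L1 rfl
      have hn : (L.subgroupOf L1).Normal := Subgroup.normal_in_normalizer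
      have h5 := Subgroup.pow_index_mem (L.subgroupOf L1) ⟨y ^ L1.index, hz⟩
      rw [Subgroup.mem_subgroupOf] at h5
      have h6 : (y ^ L1.index) ^ (L.relIndex L1) ∈ L := by
        simpa [Subgroup.relIndex] using h5
      rw [← pow_mul, mul_comm, hidx, h] at h6
      exact h6

/-- Let G be a finite group. An element x lies in the Fitting subgroup F(G) if and only if, for every subgroup H of G, the power x^[G : H] lies in H. -/
theorem result {G : Type*} [Group G] [Finite G] (x : G) :
    x ∈ Cfsg.fittingSubgroup G ↔ ∀ H : Subgroup G, x ^ H.index ∈ H := by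
  have hFn : (Cfsg.fittingSubgroup G).Normal := Cfsg.Agent.Lib.Helper1.fittingSubgroup_normal
  have hFnil : Group.IsNilpotent (Cfsg.fittingSubgroup G) :=
    Cfsg.Agent.Lib.Helper1.fittingSubgroup_isNilpotent
  set F := Cfsg.fittingSubgroup G with hF
  constructor
  · intro hx H
    have h1 : H.relIndex (H ⊔ F) * (H ⊔ F).index = H.index := Subgroup.relIndex_mul_index le_sup_left
    have h2 : H.relIndex (H ⊔ F) = (F ⊓ H).relIndex F := relIndex_sup_eq F H
    have hy : x ^ (H ⊔ F).index ∈ F := F.pow_mem hx _
    have h3 := nil_pow_index_mem ((F ⊓ H).subgroupOf F) ⟨x ^ (H ⊔ F).index, hy⟩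
    rw [Subgroup.mem_subgroupOf] at h3
    have h4 : (x ^ (H ⊔ F).index) ^ ((F ⊓ H).relIndex F) ∈ F ⊓ H := by
      simpa [Subgroup.relIndex] using h3
    rw [← h2, ← pow_mul, mul_comm, h1] at h4
    exact h4.2
  · intro hx
    have key : ∀ p : ℕ, p.Prime → p ∣ orderOf x → x ^ (ordCompl[p] (orderOf x)) ∈ F := by
      intro p hp _
      have : Fact p.Prime := ⟨hp⟩
      apply Cfsg.Agent.Lib.Helper1.pCore_le_fittingSubgroup p
      rw [Cfsg.Agent.Lib.Helper1.pCore_eq_iInf_sylow, Subgroup.mem_iInf]
      intro P
      set z := x ^ (ordCompl[p] (orderOf x)) with hz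
      have hzord : orderOf z ∣ ordProj[p] (orderOf x) := by
        apply orderOf_dvd_of_pow_eq_one
        rw [hz, ← pow_mul, mul_comm, Nat.ordProj_mul_ordCompl_eq_self, pow_orderOf_eq_one]
      have hcop : Nat.Coprime (P : Subgroup G).index (orderOf z) := by
        apply Nat.Coprime.coprime_dvd_right hzord
        apply Nat.Coprime.pow_right
        exact (Nat.Prime.coprime_iff_not_dvd hp).mpr P.not_dvd_index |>.symm
      obtain ⟨m, hm⟩ := exists_pow_eq_self_of_coprime hcop
      rw [← hm]
      apply Subgroup.pow_mem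
      have := (P : Subgroup G).pow_mem (hx P) (ordCompl[p] (orderOf x))
      rw [← pow_mul, mul_comm, pow_mul] at this
      exact this
    rw [← QuotientGroup.eq_one_iff (N := F), ← orderOf_eq_one_iff]
    by_contra hne
    obtain ⟨q, hq, hqd⟩ := Nat.exists_prime_and_dvd hne
    have hdn : orderOf (x : G ⧸ F) ∣ orderOf x := orderOf_map_dvd (QuotientGroup.mk' F) x
    have hqn : q ∣ orderOf x := hqd.trans hdn
    have h1 : orderOf (x : G ⧸ F) ∣ ordCompl[q] (orderOf x) := by
      apply orderOf_dvd_of_pow_eq_one
      rw [← QuotientGroup.mk_pow, QuotientGroup.eq_one_iff]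
      exact key q hq hqn
    exact Nat.not_dvd_ordCompl hq (orderOf_pos x).ne' (hqd.trans h1)

end Cfsg.Agent.S4263
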