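import Cfsg.Statements.S4269
import Cfsg.Agent.Lib.Helper21.Pronormal

set_option autoImplicit false
open Cfsg

namespace Cfsg.Agent.S4269

open Subgroup Cfsg.Agent.Lib.Helper21
open scoped Pointwise commutatorElement

section aux

variable {G : Type*} [Group G]

/-- The forward direction. -/
theorem forward (V : Subgroup G) (H : Subgroup G) (hpro : Cfsg.IsPronormal H)
    (U : Subgroup G) (hUV : U ≤ V) (hU : ∀ h ∈ H, cj h U = U) :
    U = (U ⊓ Subgroup.normalizer (H : Set G)) ⊔ ⁅H, U⁆ := by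
  have hCU : ⁅H, U⁆ ≤ U := by
    rw [Subgroup.commutator_le]
    intro h hh u hu
    rw [commutatorElement_def]
    have h1 : h * u * h⁻¹ ∈ cj h U := conj_mem_cj hu
    rw [hU h hh] at h1
    exact mul_mem h1 (inv_mem hu)
  have hHC : H ≤ Subgroup.normalizer ((⁅H, U⁆ : Subgroup G) : Set G) := by
    intro h hh
    apply mem_normalizer_of_cj_eq_self
    change Subgroup.map (MulAut.conj h).toMonoidHom ⁅H, U⁆ = ⁅H, U⁆
    rw [Subgroup.map_commutator]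
    change ⁅cj h H, cj h U⁆ = ⁅H, U⁆
    rw [hU h hh, cj_eq_self_of_mem hh]
  apply le_antisymm
  · intro u hu
    obtain ⟨x, hx, hxu⟩ := hpro u
    have hxn : x⁻¹ * u ∈ Subgroup.normalizer (H : Set G) := cj_eq_cj_iff.mp hxu
    have hle : H ⊔ cj u H ≤ ⁅H, U⁆ ⊔ H := by
      apply sup_le le_sup_right
      intro y hy
      rw [mem_cj] at hy
      have h1 : y = ⁅u⁻¹⁻¹, (u⁻¹ * y * u)⁆ * (u⁻¹ * y * u) := by
        rw [commutatorElement_def]; group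
      have h2 : ⁅u⁻¹⁻¹, (u⁻¹ * y * u)⁆ ∈ ⁅H, U⁆ := by
        have h3 : ⁅u⁻¹⁻¹, (u⁻¹ * y * u)⁆ = ⁅(u⁻¹ * y * u), u⁻¹⁻¹⁆⁻¹ := by
          rw [commutatorElement_inv]
        rw [h3]
        apply inv_mem
        apply Subgroup.commutator_mem_commutator hy
        rw [inv_inv]; exact hu
      rw [h1]
      exact mul_mem (Subgroup.mem_sup_left h2) (Subgroup.mem_sup_right hy)
    have hx' : x ∈ ((⁅H, U⁆ ⊔ H : Subgroup G) : Set G) := hle hx
    rw [Subgroup.coe_mul_of_right_le_normalizer_left _ _ hHC] at hx'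
    obtain ⟨c, hc, h, hh, rfl⟩ := hx'
    have hcn : c⁻¹ * u ∈ Subgroup.normalizer (H : Set G) := by
      have h1 : c⁻¹ * u = h * ((c * h)⁻¹ * u) := by group
      rw [h1]
      exact mul_mem (Subgroup.le_normalizer hh) hxn
    have hcU : c⁻¹ * u ∈ U := mul_mem (inv_mem (hCU hc)) hu
    have h3 : u = c * (c⁻¹ * u) := by group
    rw [h3]
    exact mul_mem (Subgroup.mem_sup_right hc) (Subgroup.mem_sup_left ⟨hcU, hcn⟩)
  · exact sup_le inf_le_left hCU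

/-- The backward direction. -/
theorem backward (V : Subgroup G) [hVn : V.Normal] (hV : ∀ a ∈ V, ∀ b ∈ V, a * b = b * a)
    (H : Subgroup G) (hHV : H ⊔ V = ⊤)
    (hcond : ∀ U : Subgroup G, U ≤ V → (∀ h ∈ H, cj h U = U) →
      U = (U ⊓ Subgroup.normalizer (H : Set G)) ⊔ ⁅H, U⁆) :
    Cfsg.IsPronormal H := by
  intro g
  have hg : g ∈ ((V ⊔ H : Subgroup G) : Set G) := by
    rw [sup_comm, hHV]; trivial
  rw [Subgroup.normal_mul] at hg
  obtain ⟨v, hv, h, hh, rfl⟩ := hg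
  have hcjg : cj (v * h) H = cj v H := by rw [cj_mul, cj_eq_self_of_mem hh]
  change ∃ x ∈ H ⊔ cj (v * h) H, cj (v * h) H = cj x H
  rw [hcjg]
  set K := H ⊔ cj v H with hK
  have hHK : H ≤ K := le_sup_left
  -- conjugation is trivial inside `V`
  have hconjV : ∀ a ∈ V, ∀ c ∈ V, a * c * a⁻¹ = c := by
    intro a ha c hc
    rw [hV a ha c hc, mul_assoc, mul_inv_cancel, mul_one]
  have hcomV : ∀ h₁ : G, ∀ u ∈ V, h₁ * u * h₁⁻¹ * u⁻¹ ∈ V := fun h₁ u hu =>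
    mul_mem (hVn.conj_mem u hu h₁) (inv_mem hu)
  let U : Subgroup G :=
    { carrier := {u | u ∈ V ∧ ∀ h₁ ∈ H, h₁ * u * h₁⁻¹ * u⁻¹ ∈ K}
      one_mem' := by
        refine ⟨one_mem _, fun h₁ _ => ?_⟩
        have : h₁ * 1 * h₁⁻¹ * (1 : G)⁻¹ = 1 := by group
        rw [this]; exact one_mem _
      mul_mem' := by
        rintro u₁ u₂ ⟨hu₁, h1⟩ ⟨hu₂, h2⟩
        refine ⟨mul_mem hu₁ hu₂, fun h₁ hh₁ => ?_⟩
        have e : h₁ * (u₁ * u₂) * h₁⁻¹ * (u₁ * u₂)⁻¹ =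
            (h₁ * u₁ * h₁⁻¹ * u₁⁻¹) * (u₁ * (h₁ * u₂ * h₁⁻¹ * u₂⁻¹) * u₁⁻¹) := by group
        rw [e, hconjV u₁ hu₁ _ (hcomV h₁ u₂ hu₂)]
        exact mul_mem (h1 h₁ hh₁) (h2 h₁ hh₁)
      inv_mem' := by
        rintro u ⟨hu, h1⟩
        refine ⟨inv_mem hu, fun h₁ hh₁ => ?_⟩
        have e : h₁ * u⁻¹ * h₁⁻¹ * u⁻¹⁻¹ = u⁻¹ * (h₁ * u * h₁⁻¹ * u⁻¹)⁻¹ * u⁻¹⁻¹ := by group
        rw [e, hconjV u⁻¹ (inv_mem hu) _ (inv_mem (hcomV h₁ u hu))]
        exact inv_mem (h1 h₁ hh₁) }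
  have hUmem : ∀ u : G, u ∈ U ↔ (u ∈ V ∧ ∀ h₁ ∈ H, h₁ * u * h₁⁻¹ * u⁻¹ ∈ K) := fun _ => Iff.rfl
  have hUV : U ≤ V := fun u hu => hu.1
  have hUle : ∀ h₂ ∈ H, cj h₂ U ≤ U := by
    intro h₂ hh₂ y hy
    rw [mem_cj] at hy
    obtain ⟨hyV, hyK⟩ := hy
    rw [hUmem]
    constructor
    · have h1 := hVn.conj_mem _ hyV h₂
      have e : h₂ * (h₂⁻¹ * y * h₂) * h₂⁻¹ = y := by group
      rwa [e] at h1
    · intro h₁ hh₁
      have h3 := hyK (h₂⁻¹ * h₁ * h₂) (mul_mem (mul_mem (inv_mem hh₂) hh₁) hh₂)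
      have e : h₁ * y * h₁⁻¹ * y⁻¹ =
          h₂ * ((h₂⁻¹ * h₁ * h₂) * (h₂⁻¹ * y * h₂) * (h₂⁻¹ * h₁ * h₂)⁻¹ * (h₂⁻¹ * y * h₂)⁻¹) * h₂⁻¹ := by
        group
      rw [e]
      exact mul_mem (mul_mem (hHK hh₂) h3) (inv_mem (hHK hh₂))
  have hUinv : ∀ h₂ ∈ H, cj h₂ U = U := by
    intro h₂ hh₂
    apply le_antisymm (hUle h₂ hh₂)
    have h1 := cj_mono (g := h₂) (hUle h₂⁻¹ (inv_mem hh₂))
    rwa [cj_cj_inv] at h1
  have hvU : v ∈ U := by
    rw [hUmem]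
    refine ⟨hv, fun h₁ hh₁ => ?_⟩
    have e : h₁ * v * h₁⁻¹ * v⁻¹ = h₁ * (v * h₁⁻¹ * v⁻¹) := by group
    rw [e]
    exact mul_mem (hHK hh₁) (Subgroup.mem_sup_right (conj_mem_cj (inv_mem hh₁)))
  have hCK : ⁅H, U⁆ ≤ K := by
    rw [Subgroup.commutator_le]
    intro h₁ hh₁ u hu
    rw [commutatorElement_def]
    exact hu.2 h₁ hh₁
  have hCV : ⁅H, U⁆ ≤ V := by
    rw [Subgroup.commutator_le]
    intro h₁ hh₁ u hu
    rw [commutatorElement_def]
    exact hcomV h₁ u hu.1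
  have hLE : U ⊓ Subgroup.normalizer (H : Set G) ≤
      Subgroup.normalizer ((⁅H, U⁆ : Subgroup G) : Set G) := by
    intro a ha
    have haV : a ∈ V := hUV ha.1
    rw [Subgroup.mem_normalizer_iff]
    intro c
    constructor
    · intro hc
      rw [hconjV a haV c (hCV hc)]; exact hc
    · intro hc
      have h1 := hconjV a⁻¹ (inv_mem haV) _ (hCV hc)
      have e : a⁻¹ * (a * c * a⁻¹) * a⁻¹⁻¹ = c := by group
      rw [e] at h1
      rw [h1]; exact hc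
  have hdec := hcond U hUV hUinv
  have hv' : v ∈ (((U ⊓ Subgroup.normalizer (H : Set G)) ⊔ ⁅H, U⁆ : Subgroup G) : Set G) := by
    rw [← hdec]; exact hvU
  rw [Subgroup.coe_mul_of_left_le_normalizer_right _ _ hLE] at hv'
  obtain ⟨n, hn, c, hc, hnc⟩ := hv'
  refine ⟨c, hCK hc, ?_⟩
  rw [cj_eq_cj_iff]
  have hnc' : v = n * c := hnc.symm
  have e : c⁻¹ * v = n := by
    rw [hnc']
    have h1 := hconjV c⁻¹ (inv_mem (hCV hc)) n (hUV hn.1)
    rw [inv_inv] at h1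
    rw [← mul_assoc]
    exact h1
  rw [e]
  exact hn.2

end aux

/-- Let G be a finite group, V an abelian normal subgroup and H a subgroup with HV = G. Then H is pronormal in G (H and gHg⁻¹ are conjugate inside the subgroup they generate, for every g) if and only if every H-invariant subgroup U of V satisfies U = N_U(H)·[H, U], that is, U is the join of U ∩ N_G(H) and the commutator subgroup [H, U]. -/
theorem result {G : Type*} [Group G] [Finite G]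
    (V : Subgroup G) [V.Normal] (hV : IsMulCommutative ↥V) (H : Subgroup G) (hHV : H ⊔ V = ⊤) :
    Cfsg.IsPronormal H ↔
      ∀ U : Subgroup G, U ≤ V → (∀ h ∈ H, U.map (MulAut.conj h).toMonoidHom = U) →
        U = (U ⊓ Subgroup.normalizer (H : Set G)) ⊔ ⁅H, U⁆ := by
  have hVc : ∀ a ∈ V, ∀ b ∈ V, a * b = b * a := by
    intro a ha b hb
    have := hV.is_comm.comm (⟨a, ha⟩ : ↥V) ⟨b, hb⟩
    exact congrArg Subtype.val this
  constructor
  · intro hpro U hUV hU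
    exact forward V H hpro U hUV hU
  · intro hcond
    exact backward V hVc H hHV hcond

end Cfsg.Agent.S4269
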