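-- Statement S4275.
import Cfsg.Statements.S4275
-- import your own Cfsg.Agent.* helpers here

set_option autoImplicit false
open Cfsg

namespace Cfsg.Agent.S4275

/-- Let G be a transitive group of permutations of a finite set Ω, let o ∈ Ω, and let α be an automorphism of G. Then α is induced by conjugation by a permutation of Ω normalizing G if and only if the image under α of the stabilizer of o fixes some point of Ω. -/
theorem result {Ω : Type*} [Fintype Ω] (G : Subgroup (Equiv.Perm Ω)) (htr : MulAction.IsPretransitive G Ω) (o : Ω) (α : G ≃* G) : (∃ σ : Equiv.Perm Ω, σ ∈ Subgroup.normalizer (G : Set (Equiv.Perm Ω)) ∧ ∀ g : G, ((α g : G) : Equiv.Perm Ω) = σ * (g : Equiv.Perm Ω) * σ⁻¹) ↔ ∃ ω : Ω, ∀ g ∈ (MulAction.stabilizer G o).map α.toMonoidHom, g • ω = ω := by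
  classical
  constructor
  · rintro ⟨σ, _, hσ⟩
    refine ⟨σ o, ?_⟩
    rintro g ⟨h, hh, rfl⟩
    have hho : (h : Equiv.Perm Ω) o = o := hh
    show ((α h : G) : Equiv.Perm Ω) (σ o) = σ o
    rw [hσ h, Equiv.Perm.mul_apply, Equiv.Perm.mul_apply, Equiv.Perm.inv_def,
      Equiv.symm_apply_apply, hho]
  · rintro ⟨ω, hω⟩
    -- choice of transporters
    have hex : ∀ x : Ω, ∃ g : G, g • o = x := fun x => MulAction.exists_smul_eq G o x
    choose t ht using hex
    -- key property of fixing
    have hfix : ∀ h : G, h • o = o → α h • ω = ω := by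
      intro h hh
      exact hω (α h) ⟨h, hh, rfl⟩
    let s : Ω → Ω := fun x => α (t x) • ω
    have hs : ∀ g : G, s (g • o) = α g • ω := by
      intro g
      show α (t (g • o)) • ω = α g • ω
      have h1 : ((t (g • o))⁻¹ * g) • o = o := by
        rw [mul_smul, inv_smul_eq_iff, ht]
      have h2 := hfix _ h1
      rw [map_mul, map_inv, mul_smul, inv_smul_eq_iff] at h2
      exact h2.symm
    have hsurj : Function.Surjective s := by
      intro y
      obtain ⟨k, hk⟩ := MulAction.exists_smul_eq G ω y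
      refine ⟨(α.symm k) • o, ?_⟩
      rw [hs, MulEquiv.apply_symm_apply, hk]
    have hbij : Function.Bijective s := ⟨Finite.injective_iff_surjective.mpr hsurj, hsurj⟩
    set σ : Equiv.Perm Ω := Equiv.ofBijective s hbij with hσdef
    have hσs : ∀ x, σ x = s x := fun x => rfl
    have hequi : ∀ (g : G) (x : Ω), σ (g • x) = α g • σ x := by
      intro g x
      obtain ⟨h, rfl⟩ := MulAction.exists_smul_eq G o x
      rw [← mul_smul, hσs, hσs, hs, hs, map_mul, mul_smul]
    have hconj : ∀ g : G, ((α g : G) : Equiv.Perm Ω) = σ * (g : Equiv.Perm Ω) * σ⁻¹ := by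
      intro g
      ext y
      obtain ⟨x, rfl⟩ := σ.surjective y
      rw [Equiv.Perm.mul_apply, Equiv.Perm.mul_apply, Equiv.Perm.inv_def, Equiv.symm_apply_apply]
      exact (hequi g x).symm
    refine ⟨σ, ?_, hconj⟩
    rw [Subgroup.mem_normalizer_iff]
    intro h
    constructor
    · intro hh
      have := hconj ⟨h, hh⟩
      rw [← this]
      exact (α ⟨h, hh⟩).2
    · intro hh
      have h1 := hconj (α.symm ⟨_, hh⟩)
      rw [MulEquiv.apply_symm_apply] at h1
      have h2 : h = ((α.symm ⟨_, hh⟩ : G) : Equiv.Perm Ω) := by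
        have h3 : σ * h * σ⁻¹ = σ * ((α.symm ⟨_, hh⟩ : G) : Equiv.Perm Ω) * σ⁻¹ := h1
        have h4 := mul_right_cancel h3
        exact mul_left_cancel h4
      rw [h2]
      exact (α.symm ⟨_, hh⟩).2

end Cfsg.Agent.S4275
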