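import Cfsg.Statements.S4282
import Cfsg.Agent.Lib.Helper23.HBMin

set_option autoImplicit false
open Cfsg

namespace Cfsg.Agent.S4282

/-- A critical case behind the Hall–Higman theorem. Let p ≠ q be primes and G a finite group generated by a normal q-subgroup Q and a cyclic p-subgroup generated by x, such that the centralizer of every non-identity element of that cyclic subgroup is its product with the centre of G. Let K be an algebraically closed field of characteristic p and ρ a faithful representation of G on a nonzero finite-dimensional K-space whose restriction to Q is irreducible. If s is the least exponent with (ρ(x) − 1)^s = 0, then |⟨x⟩| − 1 ≤ s ≤ |⟨x⟩|; and if s = |⟨x⟩| − 1 then |⟨x⟩| − 1 is a power of q and Q is non-abelian. -/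
theorem result {G : Type*} [Group G] [Finite G] (p q : ℕ) [Fact p.Prime] [Fact q.Prime] (hpq : p ≠ q) (Q : Subgroup G) [Q.Normal] (hQ : IsPGroup q Q) (x : G) (hx : IsPGroup p (Subgroup.zpowers x)) (hgen : Q ⊔ Subgroup.zpowers x = ⊤) (hC : ∀ y ∈ Subgroup.zpowers x, y ≠ 1 → Subgroup.centralizer ({y} : Set G) = Subgroup.zpowers x ⊔ Subgroup.center G) {K : Type*} [Field K] [IsAlgClosed K] [CharP K p] {V : Type*} [AddCommGroup V] [Module K V] [FiniteDimensional K V] [Nontrivial V] (ρ : Representation K G V) (hfaith : Function.Injective ρ) (hirr : ∀ W : Submodule K V, (∀ g ∈ Q, Submodule.map (ρ g) W ≤ W) → W = ⊥ ∨ W = ⊤) (s : ℕ) (hs : (ρ x - 1) ^ s = 0) (hmin : ∀ k < s, (ρ x - 1) ^ k ≠ 0) : Nat.card (Subgroup.zpowers x) - 1 ≤ s ∧ s ≤ Nat.card (Subgroup.zpowers x) ∧ (s = Nat.card (Subgroup.zpowers x) - 1 → (∃ b : ℕ, Nat.card (Subgroup.zpowers x) - 1 = q ^ b) ∧ ¬ IsMulCommutative Q) := by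
  classical
  have hp : p.Prime := Fact.out
  have hq : q.Prime := Fact.out
  obtain ⟨n, hn⟩ := IsPGroup.iff_card.mp hx
  have hord : orderOf x = p ^ n := by rw [← Nat.card_zpowers]; exact hn
  have hxN : x ^ (p ^ n) = 1 := by rw [← hord]; exact pow_orderOf_eq_one x
  have hρxN : ρ x ^ (p ^ n) = 1 := by rw [← map_pow, hxN, map_one]
  have hnil : (ρ x - 1) ^ (p ^ n) = 0 := by
    rw [Cfsg.Agent.Lib.Helper23.HB.sub_one_pow_char_pow_alg (E := K), hρxN, sub_self]
  have hsle : s ≤ p ^ n := by
    by_contra h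
    push Not at h
    exact hmin (p ^ n) h hnil
  have hNpos : 0 < p ^ n := pow_pos hp.pos n
  have hzero : ∀ a b : ℕ, a ≤ b → (ρ x - 1) ^ a = 0 → (ρ x - 1) ^ b = 0 := by
    intro a b hab h0
    obtain ⟨c, rfl⟩ := Nat.exists_eq_add_of_le hab
    rw [pow_add, h0, zero_mul]
  rw [hn]
  rcases Nat.eq_zero_or_pos n with hn0 | hn1
  · -- trivial element
    subst hn0
    rw [pow_zero] at hsle ⊢
    refine ⟨Nat.zero_le _, hsle, ?_⟩
    intro hs0
    exfalso
    have : s = 0 := by omega
    rw [this, pow_zero] at hs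
    exact one_ne_zero hs
  -- the key dichotomy
  have key : (ρ x - 1) ^ (p ^ n - 1) ≠ 0 ∨
      ((ρ x - 1) ^ (p ^ n - 2) ≠ 0 ∧ (∃ m, 1 ≤ m ∧ p ^ n - 1 = q ^ m) ∧ ¬ IsMulCommutative Q) := by
    set y : G := x ^ (p ^ (n - 1)) with hydef
    have hy1 : y ≠ 1 := by
      apply pow_ne_one_of_lt_orderOf (pow_pos hp.pos _).ne'
      rw [hord]
      exact Nat.pow_lt_pow_right hp.one_lt (by omega)
    have hyx : y ∈ Subgroup.zpowers x := Subgroup.pow_mem _ (Subgroup.mem_zpowers x) _
    have hCy := hC y hyx hy1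
    -- Schur's lemma
    have schur : ∀ f : Module.End K V, (∀ g ∈ Q, f * ρ g = ρ g * f) →
        ∃ c : K, f = c • (1 : Module.End K V) := by
      intro f hf
      obtain ⟨c, hc⟩ := Module.End.exists_eigenvalue f
      have hW : Module.End.eigenspace f c = ⊤ := by
        rcases hirr (Module.End.eigenspace f c) (by
          intro g hg
          rintro _ ⟨w, hw, rfl⟩
          rw [SetLike.mem_coe, Module.End.mem_eigenspace_iff] at hw
          rw [Module.End.mem_eigenspace_iff, ← Module.End.mul_apply, hf g hg, Module.End.mul_apply,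
            hw, map_smul]) with h | h
        · exact absurd h hc
        · exact h
      refine ⟨c, ?_⟩
      apply LinearMap.ext
      intro w
      have hw : w ∈ Module.End.eigenspace f c := hW ▸ Submodule.mem_top
      rw [Module.End.mem_eigenspace_iff] at hw
      rw [hw, LinearMap.smul_apply, Module.End.one_apply]
    have hcenter : ∀ z ∈ Subgroup.center G, ∃ c : K, ρ z = c • (1 : Module.End K V) := by
      intro z hz
      apply schur
      intro g _
      rw [← map_mul, ← map_mul, Subgroup.mem_center_iff.mp hz g]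
    -- elements of `Q` commuting with `y` are central
    have hQy : ∀ g ∈ Q, y * g * y⁻¹ = g → g ∈ Subgroup.center G := by
      intro g hg hgy
      have h1 : g ∈ Subgroup.centralizer ({y} : Set G) := by
        rw [Subgroup.mem_centralizer_iff]
        intro h hh
        rw [Set.mem_singleton_iff] at hh
        rw [hh]
        calc y * g = y * g * y⁻¹ * y := by group
          _ = g * y := by rw [hgy]
      rw [hCy, Subgroup.mem_sup_of_normal_right] at h1
      obtain ⟨a, ha, z, hz, haz⟩ := h1
      have haN : a ^ (p ^ n) = 1 := by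
        obtain ⟨i, rfl⟩ := Subgroup.mem_zpowers_iff.mp ha
        rw [← zpow_natCast, ← zpow_mul, mul_comm, zpow_mul, zpow_natCast, hxN, one_zpow]
      have hcomm : Commute a z := Subgroup.mem_center_iff.mp hz a
      have hgN : g ^ (p ^ n) ∈ Subgroup.center G := by
        rw [← haz, hcomm.mul_pow, haN, one_mul]
        exact Subgroup.pow_mem _ hz _
      obtain ⟨j, hj⟩ := hQ ⟨g, hg⟩
      have hj' : g ^ (q ^ j) = 1 := by
        have := congrArg Subtype.val hj
        rwa [Subgroup.coe_pow] at this
      have hcop : (p ^ n).Coprime (orderOf g) := by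
        have h2 : orderOf g ∣ q ^ j := orderOf_dvd_of_pow_eq_one hj'
        apply Nat.Coprime.coprime_dvd_right h2
        exact Nat.Coprime.pow _ _ ((Nat.coprime_primes hp hq).mpr hpq)
      obtain ⟨m, hm⟩ := exists_pow_eq_self_of_coprime hcop
      rw [← hm]
      exact Subgroup.pow_mem _ hgN _
    -- `y` does not centralize `Q`
    have hyQ : ∃ g ∈ Q, y * g * y⁻¹ ≠ g := by
      by_contra hcon
      push Not at hcon
      have h1 : Q ≤ Subgroup.centralizer ({y} : Set G) := by
        intro g hg
        rw [Subgroup.mem_centralizer_iff]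
        intro h hh
        rw [Set.mem_singleton_iff] at hh
        rw [hh]
        calc y * g = y * g * y⁻¹ * y := by group
          _ = g * y := by rw [hcon g hg]
      have h2 : Subgroup.zpowers x ≤ Subgroup.centralizer ({y} : Set G) := by
        rw [Subgroup.zpowers_le, Subgroup.mem_centralizer_iff]
        intro h hh
        rw [Set.mem_singleton_iff] at hh
        rw [hh, hydef, ← pow_succ, ← pow_succ']
      have h3 : Subgroup.centralizer ({y} : Set G) = ⊤ := by
        rw [eq_top_iff, ← hgen]
        exact sup_le h1 h2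
      have hyc : y ∈ Subgroup.center G := by
        rw [Subgroup.mem_center_iff]
        intro g
        have : g ∈ Subgroup.centralizer ({y} : Set G) := h3 ▸ Subgroup.mem_top g
        rw [Subgroup.mem_centralizer_iff] at this
        exact (this y rfl).symm
      obtain ⟨c, hc⟩ := hcenter y hyc
      have hyN : ρ y ^ (p ^ n) = 1 := by
        rw [← map_pow, hydef, ← pow_mul, mul_comm, pow_mul, hxN, one_pow, map_one]
      rw [hc, smul_pow, one_pow] at hyN
      have hcN : c ^ (p ^ n) = 1 := by
        have h4 : (c ^ (p ^ n) - 1) • (1 : Module.End K V) = 0 := by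
          rw [sub_smul, one_smul, hyN, sub_self]
        rcases smul_eq_zero.mp h4 with h5 | h5
        · exact sub_eq_zero.mp h5
        · exact absurd h5 one_ne_zero
      have hc1 := Cfsg.Agent.Lib.Helper23.HB.eq_one_of_pow_char_pow c n hcN
      rw [hc1, one_smul] at hc
      apply hy1
      apply hfaith
      rw [hc, map_one]
    -- a minimal configuration inside `Q`
    let S : Set (Subgroup G) := {P | P ≤ Q ∧ (∀ g ∈ P, x * g * x⁻¹ ∈ P) ∧
      ∃ g ∈ P, y * g * y⁻¹ ≠ g}
    have hQS : Q ∈ S := by
      refine ⟨le_refl _, ?_, hyQ⟩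
      intro g hg
      exact (inferInstance : Q.Normal).conj_mem g hg x
    obtain ⟨M₁, hM₁S, hM₁min⟩ := wellFounded_lt.has_min S ⟨Q, hQS⟩
    obtain ⟨hM₁Q, hM₁x, hM₁y⟩ := hM₁S
    have hxM₁ : x ∈ Subgroup.normalizer (M₁ : Set G) :=
      Cfsg.Agent.Lib.Helper10.XRep.mem_normalizer_of_conj_mem x M₁ hM₁x
    have hres := Cfsg.Agent.Lib.Helper23.HB.minStep (E := K) (p := p) ρ hq (Ne.symm hpq) M₁
      (hQ.to_le hM₁Q)
      (fun g _ hg => hfaith (by rw [hg, map_one])) x hxM₁ hn1 hρxN
      (by
        intro P hP hPx g hg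
        by_contra hne
        exact hM₁min P ⟨hP.le.trans hM₁Q, hPx, g, hg, hne⟩ hP)
      hM₁y
      (by
        intro z hz _ hzy
        exact hcenter z (hQy z (hM₁Q hz) hzy))
    rcases hres with h | ⟨h1, h2, a, ha, b, hb, hab⟩
    · exact Or.inl h
    · refine Or.inr ⟨h1, h2, ?_⟩
      intro hcomm
      apply hab
      have := hcomm.is_comm.comm (⟨a, hM₁Q ha⟩ : Q) ⟨b, hM₁Q hb⟩
      exact congrArg Subtype.val this
  have h2N : 2 ≤ p ^ n := by
    calc 2 ≤ p := hp.two_le
      _ = p ^ 1 := (pow_one p).symm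
      _ ≤ p ^ n := Nat.pow_le_pow_right hp.pos hn1
  rcases key with h | ⟨h1, h2, h3⟩
  · have hs' : p ^ n ≤ s := by
      by_contra hlt
      push Not at hlt
      exact h (hzero s _ (by omega) hs)
    refine ⟨by omega, hsle, ?_⟩
    intro heq
    omega
  · have hs' : p ^ n - 1 ≤ s := by
      by_contra hlt
      push Not at hlt
      exact h1 (hzero s _ (by omega) hs)
    refine ⟨hs', hsle, ?_⟩
    intro _
    obtain ⟨m, _, hm⟩ := h2
    exact ⟨⟨m, hm⟩, h3⟩

end Cfsg.Agent.S4282
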