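import Cfsg.Statements.S4283
import Cfsg.Agent.Lib.Helper1.Frobenius

set_option autoImplicit false
open Cfsg

namespace Cfsg.Agent.S4283

open Subgroup
open scoped Pointwise

section aux

variable {G : Type*} [Group G]

theorem mem_conj_iff (g x : G) (H : Subgroup G) : x ∈ MulAut.conj g • H ↔ g⁻¹ * x * g ∈ H := by
  rw [Subgroup.mem_pointwise_smul_iff_inv_smul_mem, ← map_inv, MulAut.smul_def, MulAut.conj_apply,
    inv_inv]

theorem index_conj_smul (g : G) (H : Subgroup G) : (MulAut.conj g • H).index = H.index := by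
  have h : MulAut.conj g • H = H.map ((MulAut.conj g : G ≃* G) : G →* G) := rfl
  rw [h, Subgroup.index_map_equiv]

/-- In a Frobenius group, the centralizer of a non-identity element of a conjugate of the
complement lies in that conjugate. -/
theorem mem_conj_of_commute {H : Subgroup G} (hH : Cfsg.IsFrobeniusComplement H) {g u w : G}
    (hu : u ∈ MulAut.conj g • H) (hu1 : u ≠ 1) (hc : Commute w u) : w ∈ MulAut.conj g • H := by
  rw [mem_conj_iff] at hu ⊢
  have h1 : g⁻¹ * u * g ≠ 1 := by
    intro h
    apply hu1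
    have : u = g * (g⁻¹ * u * g) * g⁻¹ := by group
    rw [this, h]; group
  refine Cfsg.Agent.Lib.Helper1.mem_of_mem_conj_of_mem hH h1 hu ?_
  rw [mem_conj_iff]
  have h2 : (g⁻¹ * w * g)⁻¹ * (g⁻¹ * u * g) * (g⁻¹ * w * g) = g⁻¹ * (w⁻¹ * u * w) * g := by group
  have h3 : w⁻¹ * u * w = u := by rw [mul_assoc, ← hc.eq, ← mul_assoc, inv_mul_cancel, one_mul]
  rw [h2, h3]
  exact hu

/-- Membership in the image of a subgroup containing the kernel. -/
theorem mk_mem_map_iff (Z : Subgroup G) [Z.Normal] (K : Subgroup G) (hZK : Z ≤ K) (x : G) :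
    QuotientGroup.mk' Z x ∈ K.map (QuotientGroup.mk' Z) ↔ x ∈ K := by
  constructor
  · rintro ⟨k, hk, hkx⟩
    have h1 : k⁻¹ * x ∈ Z := by
      rw [← QuotientGroup.eq_one_iff, QuotientGroup.mk_mul, QuotientGroup.mk_inv]
      have : (k : G ⧸ Z) = (x : G ⧸ Z) := hkx
      rw [this, inv_mul_cancel]
    have : x = k * (k⁻¹ * x) := by group
    rw [this]
    exact mul_mem hk (hZK h1)
  · intro hx
    exact ⟨x, hx, rfl⟩

theorem mk_mem_conj_map_iff (Z : Subgroup G) [Z.Normal] (H : Subgroup G) (hZH : Z ≤ H) (g x : G) :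
    QuotientGroup.mk' Z x ∈ MulAut.conj (QuotientGroup.mk' Z g) • H.map (QuotientGroup.mk' Z) ↔
      x ∈ MulAut.conj g • H := by
  rw [mem_conj_iff, mem_conj_iff, ← map_inv, ← map_mul, ← map_mul, mk_mem_map_iff Z H hZH]

end aux

/-- Let G be a finite group with centre Z and let K, H be abelian subgroups of G containing Z such that G/Z is a Frobenius group with complement H/Z and kernel K/Z. Then the conjugacy class sizes of G are exactly 1, [G : K] and [G : H], and these two indices are coprime. (This is the converse half of the characterization of finite groups whose conjugacy class sizes are exactly 1, m and n with m and n coprime.) -/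
theorem result {G : Type*} [Group G] [Finite G] (K H : Subgroup G) (hZK : Subgroup.center G ≤ K) (hZH : Subgroup.center G ≤ H) (hK : IsMulCommutative K) (hH : IsMulCommutative H) (hFrob : Cfsg.IsFrobeniusComplement (H.map (QuotientGroup.mk' (Subgroup.center G)))) (hker : Cfsg.frobeniusKernel (H.map (QuotientGroup.mk' (Subgroup.center G))) = (K.map (QuotientGroup.mk' (Subgroup.center G)) : Set (G ⧸ Subgroup.center G))) : Set.range (fun x : G => (Subgroup.centralizer ({x} : Set G)).index) = ({1, K.index, H.index} : Set ℕ) ∧ K.index.Coprime H.index := by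
  set Z := Subgroup.center G with hZ
  set π := QuotientGroup.mk' Z with hπ
  set Hb := H.map π with hHb
  set Kb := K.map π with hKb
  have hπs : Function.Surjective π := QuotientGroup.mk'_surjective Z
  have hkerπ : π.ker = Z := QuotientGroup.ker_mk' Z
  have hKidx : Kb.index = K.index := Subgroup.index_map_eq K hπs (by rw [hkerπ]; exact hZK)
  have hHidx : Hb.index = H.index := Subgroup.index_map_eq H hπs (by rw [hkerπ]; exact hZH)
  have hKcard : Nat.card Kb = Hb.index := by
    have h1 := Cfsg.Agent.Lib.Helper1.IsFrobeniusComplement.card_kernel hFrob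
    rw [hker] at h1
    exact h1
  have hKbidx : Kb.index = Nat.card Hb := by
    have h1 := Kb.card_mul_index
    have h2 := Hb.card_mul_index
    rw [hKcard] at h1
    have hpos : 0 < Hb.index := Nat.pos_of_ne_zero Hb.index_ne_zero_of_finite
    exact Nat.eq_of_mul_eq_mul_left hpos (by rw [h1, ← h2, mul_comm])
  have hcop : K.index.Coprime H.index := by
    rw [← hKidx, ← hHidx, hKbidx]
    have h : Nat.ModEq (Nat.card Hb) Hb.index 1 :=
      Cfsg.Agent.Lib.Helper1.IsFrobeniusComplement.index_mod_card hFrob
    have h2 := h.gcd_eq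
    rw [Nat.Coprime, Nat.gcd_comm, h2, Nat.gcd_one_left]
  -- membership in the kernel
  have hmemK : ∀ x : G, π x ∈ Cfsg.frobeniusKernel Hb ↔ x ∈ K := by
    intro x
    rw [hker]
    exact mk_mem_map_iff Z K hZK x
  have hπ1 : ∀ x : G, π x = 1 ↔ x ∈ Z := fun x => QuotientGroup.eq_one_iff (G := G) (N := Z) x
  -- centralizers of elements of `K`
  have claimK : ∀ x ∈ K, x ∉ Z → Subgroup.centralizer ({x} : Set G) = K := by
    intro x hx hxZ
    apply le_antisymm
    · intro y hy
      rw [Subgroup.mem_centralizer_singleton_iff] at hy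
      by_contra hyK
      have h1 : π y ∉ Cfsg.frobeniusKernel Hb := fun h => hyK ((hmemK y).mp h)
      have h2 : π y ≠ 1 ∧ ∃ g : G ⧸ Z, π y ∈ MulAut.conj g • Hb := by
        constructor
        · intro h; exact h1 (Or.inl h)
        · by_contra hcon
          push Not at hcon
          exact h1 (Or.inr hcon)
      obtain ⟨hy1, g, hg⟩ := h2
      have hcomm : Commute (π x) (π y) := by
        change π x * π y = π y * π x
        rw [← map_mul, ← map_mul, hy]
      have h3 := mem_conj_of_commute hFrob hg hy1 hcomm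
      rcases (hmemK x).mpr hx with h4 | h4
      · exact hxZ ((hπ1 x).mp h4)
      · exact h4 g h3
    · intro y hy
      rw [Subgroup.mem_centralizer_singleton_iff]
      have h := hK.is_comm.comm (⟨y, hy⟩ : K) ⟨x, hx⟩
      exact congrArg Subtype.val h
  -- centralizers of elements of conjugates of `H`
  have claimH : ∀ g x : G, x ∈ MulAut.conj g • H → x ∉ Z →
      Subgroup.centralizer ({x} : Set G) = MulAut.conj g • H := by
    intro g x hx hxZ
    apply le_antisymm
    · intro y hy
      rw [Subgroup.mem_centralizer_singleton_iff] at hy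
      have hcomm : Commute (π y) (π x) := by
        change π y * π x = π x * π y
        rw [← map_mul, ← map_mul, hy]
      have hx' : π x ∈ MulAut.conj (π g) • Hb := (mk_mem_conj_map_iff Z H hZH g x).mpr hx
      have hx1 : π x ≠ 1 := fun h => hxZ ((hπ1 x).mp h)
      have h3 := mem_conj_of_commute hFrob hx' hx1 hcomm
      exact (mk_mem_conj_map_iff Z H hZH g y).mp h3
    · intro y hy
      rw [Subgroup.mem_centralizer_singleton_iff]
      rw [mem_conj_iff] at hx hy
      have h := hH.is_comm.comm (⟨g⁻¹ * y * g, hy⟩ : H) ⟨g⁻¹ * x * g, hx⟩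
      have h2 : (g⁻¹ * y * g) * (g⁻¹ * x * g) = (g⁻¹ * x * g) * (g⁻¹ * y * g) :=
        congrArg Subtype.val h
      have h3 : y * x = g * ((g⁻¹ * y * g) * (g⁻¹ * x * g)) * g⁻¹ := by group
      have h4 : x * y = g * ((g⁻¹ * x * g) * (g⁻¹ * y * g)) * g⁻¹ := by group
      rw [h3, h4, h2]
  refine ⟨?_, hcop⟩
  ext n
  simp only [Set.mem_range, Set.mem_insert_iff, Set.mem_singleton_iff]
  constructor
  · rintro ⟨x, rfl⟩
    by_cases hxZ : x ∈ Z
    · left
      rw [Subgroup.index_eq_one, Subgroup.centralizer_eq_top_iff_subset, Set.singleton_subset_iff]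
      exact hxZ
    · by_cases hxK : x ∈ K
      · right; left
        rw [claimK x hxK hxZ]
      · right; right
        have h1 : π x ∉ Cfsg.frobeniusKernel Hb := fun h => hxK ((hmemK x).mp h)
        have h2 : ∃ g : G ⧸ Z, π x ∈ MulAut.conj g • Hb := by
          by_contra hcon
          push Not at hcon
          exact h1 (Or.inr hcon)
        obtain ⟨gb, hgb⟩ := h2
        obtain ⟨g, rfl⟩ := hπs gb
        have hx := (mk_mem_conj_map_iff Z H hZH g x).mp hgb
        rw [claimH g x hx hxZ, index_conj_smul]
  · rintro (rfl | rfl | rfl)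
    · refine ⟨1, ?_⟩
      rw [Subgroup.index_eq_one, Subgroup.centralizer_eq_top_iff_subset, Set.singleton_subset_iff]
      exact one_mem _
    · -- an element of `K` outside `Z`
      have hKb : Kb ≠ ⊥ := by
        intro h
        have h1 : Nat.card Kb = 1 := by rw [h]; exact Subgroup.card_bot
        rw [hKcard, Subgroup.index_eq_one] at h1
        exact hFrob.2.1 h1
      obtain ⟨kb, hkb1⟩ := (Subgroup.ne_bot_iff_exists_ne_one.mp hKb)
      obtain ⟨k, hk, hkeq⟩ := Subgroup.mem_map.mp kb.2
      have hkZ : k ∉ Z := by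
        intro h
        apply hkb1
        apply Subtype.ext
        rw [← hkeq]
        exact (hπ1 k).mpr h
      exact ⟨k, by rw [claimK k hk hkZ]⟩
    · obtain ⟨hb, hhb1⟩ := (Subgroup.ne_bot_iff_exists_ne_one.mp hFrob.1)
      obtain ⟨h, hh, hheq⟩ := Subgroup.mem_map.mp hb.2
      have hhZ : h ∉ Z := by
        intro h'
        apply hhb1
        apply Subtype.ext
        rw [← hheq]
        exact (hπ1 h).mpr h'
      have hh' : h ∈ MulAut.conj (1 : G) • H := by rw [map_one, one_smul]; exact hh
      exact ⟨h, by rw [claimH 1 h hh' hhZ, index_conj_smul]⟩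

end Cfsg.Agent.S4283
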