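import Cfsg.Statements.S4292
import Cfsg.Agent.Lib.Helper24.FrobCompl

set_option autoImplicit false
open Cfsg

namespace Cfsg.Agent.S4292

open Cfsg.Agent.Lib.Helper24.FrobNorm

/-- Let A and B be nontrivial finite groups. Then the direct product A × B occurs as a Frobenius complement if and only if A and B both occur as Frobenius complements and the orders of A and B are coprime. -/
theorem result {A B : Type*} [Group A] [Finite A] [Nontrivial A] [Group B] [Finite B] [Nontrivial B] :
    (∃ (L : Type) (_ : Group L) (_ : Finite L) (H : Subgroup L), Cfsg.IsFrobeniusComplement H ∧ Nonempty ((A × B) ≃* H)) ↔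
    ((∃ (L : Type) (_ : Group L) (_ : Finite L) (H : Subgroup L), Cfsg.IsFrobeniusComplement H ∧ Nonempty (A ≃* H)) ∧
     (∃ (L : Type) (_ : Group L) (_ : Finite L) (H : Subgroup L), Cfsg.IsFrobeniusComplement H ∧ Nonempty (B ≃* H)) ∧
     (Nat.card A).Coprime (Nat.card B)) := by
  constructor
  · rintro ⟨L, hL1, hL2, H, hH, ⟨e⟩⟩
    refine ⟨?_, ?_, coprime_of_prod_complement hH e⟩
    · exact exists_frobenius_of_injective hH (e.toMonoidHom.comp (MonoidHom.inl A B))
        (e.injective.comp (fun x y h => (Prod.mk.inj h).1))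
    · exact exists_frobenius_of_injective hH (e.toMonoidHom.comp (MonoidHom.inr A B))
        (e.injective.comp (fun x y h => (Prod.mk.inj h).2))
  · rintro ⟨⟨LA, _, _, HA, hHA, ⟨eA⟩⟩, ⟨LB, _, _, HB, hHB, ⟨eB⟩⟩, hcop⟩
    obtain ⟨qA, hqA, hqA', hA⟩ := exists_prime_normIdeal_proper hHA eA
    obtain ⟨qB, hqB, hqB', hB⟩ := exists_prime_normIdeal_proper hHB eB
    exact exists_frobenius_prod hcop hqA hqA' hA hqB hqB' hB

end Cfsg.Agent.S4292
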