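import Cfsg.Statements.S4293
import Cfsg.Agent.Lib.Helper23.FrobeniusShrink

set_option autoImplicit false
open Cfsg

namespace Cfsg.Agent.S4293

universe u v

section prime

variable {D : Type u} [DivisionRing D]

/-- Choice of a prime `ℓ` compatible with the characteristic and with the orders in `H`. -/
theorem exists_good_prime (H : Subgroup Dˣ) [Finite H] :
    ∃ ℓ : ℕ, ℓ.Prime ∧ (∀ r : ℤ, (r : D) = 0 → (ℓ : ℤ) ∣ r) ∧
      ∀ h ∈ H, Nat.Coprime ℓ (orderOf h) := by
  obtain ⟨p, hp⟩ := CharP.exists D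
  rcases Nat.eq_zero_or_pos p with rfl | hpos
  · have := CharP.charP_to_charZero D
    obtain ⟨ℓ, hℓ1, hℓ2⟩ := Nat.exists_infinite_primes (Nat.card H + 1)
    refine ⟨ℓ, hℓ2, ?_, ?_⟩
    · intro r hr
      rw [Int.cast_eq_zero] at hr
      rw [hr]; exact dvd_zero _
    · intro h hh
      rw [Nat.Prime.coprime_iff_not_dvd hℓ2]
      intro hdvd
      have h1 : orderOf h ∣ Nat.card H := by
        have := orderOf_dvd_natCard (⟨h, hh⟩ : H)
        rwa [Subgroup.orderOf_mk] at this
      have h2 := Nat.le_of_dvd Nat.card_pos (hdvd.trans h1)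
      omega
  · have hprime : p.Prime := (CharP.char_is_prime_or_zero D p).resolve_right hpos.ne'
    have : Fact p.Prime := ⟨hprime⟩
    refine ⟨p, hprime, ?_, ?_⟩
    · intro r hr
      exact (CharP.intCast_eq_zero_iff D p r).mp hr
    · intro h hh
      rw [Nat.Prime.coprime_iff_not_dvd hprime]
      intro hdvd
      obtain ⟨k, hk⟩ := hdvd
      have hord : 0 < orderOf h := by
        have : IsOfFinOrder (⟨h, hh⟩ : H) := isOfFinOrder_of_finite _
        have h2 := this.orderOf_pos
        rwa [Subgroup.orderOf_mk] at h2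
      have h1 : (h ^ k) ^ p = 1 := by rw [← pow_mul, mul_comm, ← hk, pow_orderOf_eq_one]
      have h2 : (((h ^ k : Dˣ) : D) - 1) ^ p = 0 := by
        rw [sub_pow_char_of_commute p (Commute.one_right _), one_pow, ← Units.val_pow_eq_pow_val, h1,
          Units.val_one, sub_self]
      have h3 : ((h ^ k : Dˣ) : D) = 1 := by
        have := (pow_eq_zero_iff hprime.ne_zero).mp h2
        exact sub_eq_zero.mp this
      have h4 : h ^ k = 1 := Units.ext h3
      have h5 := orderOf_dvd_of_pow_eq_one h4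
      rw [hk] at h5
      have hk0 : 0 < k := by
        rcases Nat.eq_zero_or_pos k with rfl | h
        · rw [mul_zero] at hk; omega
        · exact h
      have h6 := Nat.le_of_dvd hk0 h5
      have h7 := hprime.two_le
      nlinarith

end prime

section abstract

variable {B : Type u} [Ring B] [NoZeroDivisors B] [Module.Finite ℤ B]
variable {H : Type v} [Group H] [Finite H] [Nontrivial H]

theorem abstract_fpf (ι : H →* B) (hι : ∀ h, ι h = 1 → h = 1)
    (ℓ : ℕ) (hℓ : ℓ.Prime) (ha : ∀ r : ℤ, (r : B) = 0 → (ℓ : ℤ) ∣ r)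
    (hb : ∀ h : H, Nat.Coprime ℓ (orderOf h)) :
    ∃ (L : Type) (_ : Group L) (_ : Finite L) (C : Subgroup L),
      Cfsg.IsFrobeniusComplement C ∧ Nonempty (H ≃* C) := by
  let I : Submodule B B := Submodule.span B {(ℓ : B)}
  let _ : DistribMulAction H (B ⧸ I) := DistribMulAction.compHom (B ⧸ I) ι
  have hsm : ∀ (h : H) (v : B ⧸ I), h • v = ι h • v := fun _ _ => rfl
  -- `ℓ` kills `V`
  have hkill : ∀ v : B ⧸ I, (ℓ : B) • v = 0 := by
    intro v
    obtain ⟨x, rfl⟩ := Submodule.Quotient.mk_surjective I v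
    rw [← Submodule.Quotient.mk_smul, Submodule.Quotient.mk_eq_zero, smul_eq_mul, Nat.cast_comm]
    exact Submodule.smul_mem _ _ (Submodule.mem_span_singleton_self _)
  have hkill' : ∀ v : B ⧸ I, ℓ • v = 0 := by
    intro v
    rw [← Nat.cast_smul_eq_nsmul B]
    exact hkill v
  have hfinV : Finite (B ⧸ I) := by
    have : Module.Finite ℤ (B ⧸ I) :=
      Module.Finite.of_surjective (I.mkQ.restrictScalars ℤ) I.mkQ_surjective
    apply Module.finite_of_fg_torsion
    intro v
    refine ⟨⟨(ℓ : ℤ), mem_nonZeroDivisors_of_ne_zero (by exact_mod_cast hℓ.ne_zero)⟩, ?_⟩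
    change ((ℓ : ℤ)) • v = 0
    rw [natCast_zsmul]
    exact hkill' v
  have hntV : Nontrivial (B ⧸ I) := by
    rw [Submodule.Quotient.nontrivial_iff]
    intro htop
    have h1 : (1 : B) ∈ I := by rw [htop]; trivial
    obtain ⟨a, ha1⟩ := Submodule.mem_span_singleton.mp h1
    rw [smul_eq_mul] at ha1
    obtain ⟨r, hr1, hr2⟩ := Submodule.exists_sub_one_mem_and_smul_eq_zero_of_fg_of_le_smul
      (Ideal.span {(ℓ : ℤ)}) (⊤ : Submodule ℤ B) Module.Finite.fg_top (by
        intro x _
        have hx : x = (ℓ : ℤ) • (a * x) := by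
          rw [natCast_zsmul, ← Nat.cast_smul_eq_nsmul B, smul_eq_mul, ← mul_assoc, Nat.cast_comm,
            ha1, one_mul]
        rw [hx]
        exact Submodule.smul_mem_smul (Ideal.mem_span_singleton_self _) trivial)
    have h2 := hr2 1 trivial
    rw [zsmul_eq_mul, mul_one] at h2
    have h3 := ha r h2
    have h4 := Ideal.mem_span_singleton.mp hr1
    have h5 : (ℓ : ℤ) ∣ 1 := by
      have := dvd_sub h3 h4
      rwa [sub_sub_cancel] at this
    have h6 : ℓ ∣ 1 := by exact_mod_cast h5
    exact hℓ.ne_one (Nat.dvd_one.mp h6)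
  obtain ⟨L, hL1, hL2, C, hC, he, -⟩ :=
    Cfsg.Agent.Lib.Helper23.exists_frobenius_of_fpf_add_univ (H := H) (V := B ⧸ I) (by
      intro h hh v hv
      rw [hsm] at hv
      set b := ι h with hbdef
      have hb1 : b ≠ 1 := fun h1 => hh (hι h h1)
      set m := orderOf h with hm
      have hbm : b ^ m = 1 := by rw [hbdef, ← map_pow, hm, pow_orderOf_eq_one, map_one]
      have hs : ∑ k ∈ Finset.range m, b ^ k = 0 := by
        have h1 : (∑ k ∈ Finset.range m, b ^ k) * (b - 1) = 0 := by
          rw [geom_sum_mul, hbm, sub_self]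
        rcases mul_eq_zero.mp h1 with h2 | h2
        · exact h2
        · exact absurd (sub_eq_zero.mp h2) hb1
      have hw : (∑ k ∈ Finset.range m, ∑ j ∈ Finset.range k, b ^ j) * (b - 1) = -(m : B) := by
        rw [Finset.sum_mul]
        simp_rw [geom_sum_mul]
        rw [Finset.sum_sub_distrib, hs, Finset.sum_const, Finset.card_range, nsmul_eq_mul, mul_one,
          zero_sub]
      have h1 : (b - 1) • v = 0 := by rw [sub_smul, one_smul, hv, sub_self]
      have h2 : (-(m : B)) • v = 0 := by rw [← hw, mul_smul, h1, smul_zero]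
      have h3 : m • v = 0 := by
        rw [neg_smul, neg_eq_zero, Nat.cast_smul_eq_nsmul] at h2
        exact h2
      have h4 : addOrderOf v ∣ m := addOrderOf_dvd_of_nsmul_eq_zero h3
      have h5 : addOrderOf v ∣ ℓ := addOrderOf_dvd_of_nsmul_eq_zero (hkill' v)
      have h6 : addOrderOf v = 1 := Nat.eq_one_of_dvd_coprimes (hb h) h5 h4
      exact AddMonoid.addOrderOf_eq_one_iff.mp h6)
  exact ⟨L, hL1, hL2, C, hC, he⟩

end abstract

/-- A nontrivial finite subgroup of the multiplicative group of a division ring occurs as a Frobenius complement of some finite Frobenius group. -/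
theorem result {D : Type*} [DivisionRing D] (H : Subgroup Dˣ) [Finite H] (hH : H ≠ ⊥) :
    ∃ (L : Type) (_ : Group L) (_ : Finite L) (C : Subgroup L), Cfsg.IsFrobeniusComplement C ∧ Nonempty (H ≃* C) := by
  obtain ⟨ℓ, hℓ, ha, hb⟩ := exists_good_prime H
  let S : Submonoid D := H.toSubmonoid.map (Units.coeHom D)
  let B : Subalgebra ℤ D := Algebra.adjoin ℤ (S : Set D)
  have hfg : B.toSubmodule.FG := by
    rw [Algebra.adjoin_eq_span, Submonoid.closure_eq]
    apply Submodule.fg_span
    exact (Set.toFinite (H : Set Dˣ)).image _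
  have hfin : Module.Finite ℤ B := Module.Finite.iff_fg.mpr hfg
  have hnt : Nontrivial H := (Subgroup.nontrivial_iff_ne_bot H).mpr hH
  let ι : H →* B :=
    { toFun := fun h => ⟨((h : Dˣ) : D), Algebra.subset_adjoin ⟨h, h.2, rfl⟩⟩
      map_one' := rfl
      map_mul' := fun _ _ => rfl }
  refine abstract_fpf ι ?_ ℓ hℓ ?_ ?_
  · intro h hh
    have h1 : ((h : Dˣ) : D) = 1 := congrArg Subtype.val hh
    exact Subtype.ext (Units.ext h1)
  · intro r hr
    apply ha r
    have h1 := congrArg Subtype.val hr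
    simpa using h1
  · intro h
    have := hb h h.2
    rwa [Subgroup.orderOf_coe] at this

end Cfsg.Agent.S4293
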