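import Cfsg.Statements.S4295
import Cfsg.Agent.Lib.Helper23.QuatSquare
import Cfsg.Agent.Lib.Helper23.FrobeniusConstruct

set_option autoImplicit false
open Cfsg

namespace Cfsg.Agent.S4295

open Cfsg.Agent.Lib.Helper23 Cfsg.Agent.Lib.Helper23.QuatSquare Cfsg.Agent.Lib.Helper23.Dedekind

section Construct

variable {R : Type*} [CommRing R]

/-- the matrix `[[0,-1],[1,0]]` -/
def addX : (R × R) ≃+ (R × R) where
  toFun w := (-w.2, w.1)
  invFun w := (w.2, -w.1)
  left_inv w := by ext <;> simp
  right_inv w := by ext <;> simp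
  map_add' w z := by ext <;> simp [add_comm]

theorem addX_apply (w : R × R) : (addX w : R × R) = (-w.2, w.1) := rfl

/-- the matrix `[[a,b],[b,-a]]` with `a² + b² = -1` -/
def addY (a b : R) (hab : a * a + b * b = -1) : (R × R) ≃+ (R × R) where
  toFun w := (a * w.1 + b * w.2, b * w.1 - a * w.2)
  invFun w := (-(a * w.1 + b * w.2), -(b * w.1 - a * w.2))
  left_inv w := by
    apply Prod.ext
    · show -(a * (a * w.1 + b * w.2) + b * (b * w.1 - a * w.2)) = w.1
      linear_combination (-w.1) * hab
    · show -(b * (a * w.1 + b * w.2) - a * (b * w.1 - a * w.2)) = w.2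
      linear_combination (-w.2) * hab
  right_inv w := by
    apply Prod.ext
    · show a * (-(a * w.1 + b * w.2)) + b * (-(b * w.1 - a * w.2)) = w.1
      linear_combination (-w.1) * hab
    · show b * (-(a * w.1 + b * w.2)) - a * (-(b * w.1 - a * w.2)) = w.2
      linear_combination (-w.2) * hab
  map_add' w z := by
    apply Prod.ext
    · show a * (w + z).1 + b * (w + z).2 = (a * w.1 + b * w.2) + (a * z.1 + b * z.2)
      rw [Prod.fst_add, Prod.snd_add]; ring
    · show b * (w + z).1 - a * (w + z).2 = (b * w.1 - a * w.2) + (b * z.1 - a * z.2)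
      rw [Prod.fst_add, Prod.snd_add]; ring

theorem addY_apply (a b : R) (hab : a * a + b * b = -1) (w : R × R) :
    (addY a b hab w : R × R) = (a * w.1 + b * w.2, b * w.1 - a * w.2) := rfl

theorem addX_addX (w : R × R) : addX (addX w) = -w := by
  rw [addX_apply, addX_apply]
  apply Prod.ext <;> simp

theorem addY_addY (a b : R) (hab : a * a + b * b = -1) (w : R × R) :
    addY a b hab (addY a b hab w) = -w := by
  rw [addY_apply, addY_apply]
  apply Prod.ext
  · show a * (a * w.1 + b * w.2) + b * (b * w.1 - a * w.2) = -w.1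
    linear_combination w.1 * hab
  · show b * (a * w.1 + b * w.2) - a * (b * w.1 - a * w.2) = -w.2
    linear_combination w.2 * hab

theorem addX_addY_addX (a b : R) (hab : a * a + b * b = -1) (w : R × R) :
    addX (addY a b hab (addX w)) = addY a b hab w := by
  rw [addX_apply, addY_apply, addX_apply, addY_apply]
  apply Prod.ext
  · show -(b * -w.2 - a * w.1) = a * w.1 + b * w.2
    ring
  · show a * -w.2 + b * w.1 = b * w.1 - a * w.2
    ring

end Construct

theorem quat_cases : ∀ q : QuaternionGroup 2, q ≠ 1 →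
    q = QuaternionGroup.a 2 ∨ q * q = QuaternionGroup.a 2 := by
  decide

theorem exists_frobenius_of_ring {R : Type} [CommRing R] [Finite R] (hodd : Odd (Nat.card R))
    (hnt : 1 < Nat.card R) (a b : R) (hab : a * a + b * b = -1) :
    ∃ (L : Type) (_ : Group L) (_ : Finite L) (C : Subgroup L), Cfsg.IsFrobeniusComplement C ∧
      Nonempty (QuaternionGroup 2 ≃* C) ∧
      Nat.card (Cfsg.frobeniusKernel C) = Nat.card R * Nat.card R := by
  have hfin : Finite (Multiplicative (R × R)) := inferInstanceAs (Finite (R × R))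
  have hcardN : Nat.card (Multiplicative (R × R)) = Nat.card R * Nat.card R := by
    rw [← Nat.card_prod]
    exact Nat.card_congr Multiplicative.toAdd
  have hntN : Nontrivial (Multiplicative (R × R)) := by
    apply (Finite.one_lt_card_iff_nontrivial).mp
    rw [hcardN]
    nlinarith
  have hoddN : Odd (Nat.card (Multiplicative (R × R))) := by
    rw [hcardN]
    exact Nat.odd_mul.mpr ⟨hodd, hodd⟩
  let x : MulAut (Multiplicative (R × R)) := AddEquiv.toMultiplicative addX
  let y : MulAut (Multiplicative (R × R)) := AddEquiv.toMultiplicative (addY a b hab)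
  have hxx : ∀ n : Multiplicative (R × R), x (x n) = n⁻¹ := by
    intro n
    exact congrArg Multiplicative.ofAdd (addX_addX (Multiplicative.toAdd n))
  have hyy : ∀ n : Multiplicative (R × R), y (y n) = n⁻¹ := by
    intro n
    exact congrArg Multiplicative.ofAdd (addY_addY a b hab (Multiplicative.toAdd n))
  have hxyx : ∀ n : Multiplicative (R × R), x (y (x n)) = y n := by
    intro n
    exact congrArg Multiplicative.ofAdd (addX_addY_addX a b hab (Multiplicative.toAdd n))
  have hx4 : x ^ (2 * 2) = 1 := by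
    rw [pow_mul, pow_two, pow_two]
    apply MulEquiv.ext
    intro n
    rw [MulAut.mul_apply, MulAut.mul_apply, MulAut.mul_apply, MulAut.one_apply, hxx, hxx, inv_inv]
  have hy2 : y ^ 2 = x ^ 2 := by
    rw [pow_two, pow_two]
    apply MulEquiv.ext
    intro n
    rw [MulAut.mul_apply, MulAut.mul_apply, hxx, hyy]
  have hconj : y * x * y⁻¹ = x⁻¹ := by
    rw [mul_inv_eq_iff_eq_mul, eq_inv_mul_iff_mul_eq]
    apply MulEquiv.ext
    intro n
    rw [MulAut.mul_apply, MulAut.mul_apply, hxyx]
  obtain ⟨φ, hφ⟩ : ∃ φ : QuaternionGroup 2 →* MulAut (Multiplicative (R × R)),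
      φ = quatHom hx4 hy2 hconj := ⟨_, rfl⟩
  have hφ2 : φ (QuaternionGroup.a 2) = x ^ 2 := by
    rw [hφ]
    change x ^ (2 : ZMod (2 * 2)).val = x ^ 2
    have h1 : (2 : ZMod (2 * 2)).val = 2 := rfl
    rw [h1]
  have hfix : ∀ n : Multiplicative (R × R), n⁻¹ = n → n = 1 := by
    intro n hn
    have h1 : n ^ 2 = 1 := by
      rw [pow_two]
      nth_rewrite 1 [← hn]
      exact inv_mul_cancel n
    have h2 : orderOf n ∣ 2 := orderOf_dvd_of_pow_eq_one h1
    have h3 : orderOf n ∣ Nat.card (Multiplicative (R × R)) := orderOf_dvd_natCard n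
    have h4 : orderOf n ∣ Nat.gcd 2 (Nat.card (Multiplicative (R × R))) := Nat.dvd_gcd h2 h3
    have h5 : Nat.gcd 2 (Nat.card (Multiplicative (R × R))) = 1 := by
      have := Nat.Coprime.symm (Nat.Coprime.symm (Nat.coprime_two_left.mpr hoddN))
      exact this
    rw [h5] at h4
    exact orderOf_eq_one_iff.mp (Nat.dvd_one.mp h4)
  have hfpf : ∀ q : QuaternionGroup 2, q ≠ 1 → ∀ n : Multiplicative (R × R), φ q n = n → n = 1 := by
    intro q hq n hn
    have h2 : φ (QuaternionGroup.a 2) n = n := by
      rcases quat_cases q hq with h | h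
      · rw [← h]; exact hn
      · rw [← h, map_mul, MulAut.mul_apply, hn, hn]
    rw [hφ2, pow_two, MulAut.mul_apply, hxx] at h2
    exact hfix n h2
  obtain ⟨L, hL1, hL2, C, hC, he, hcard⟩ := exists_frobenius_of_fpf φ hfpf
  exact ⟨L, hL1, hL2, C, hC, he, hcard.trans hcardN⟩

theorem quat_pair_two : ∃ x y : QuaternionGroup 2, x ^ 4 = 1 ∧ x ^ 2 ≠ 1 ∧ y ^ 2 = x ^ 2 ∧
    y * x * y⁻¹ = x⁻¹ :=
  quat_pair_in_quaternionGroup 1 le_rfl

/-- For a natural number m the following are equivalent: (a) some finite group has a Frobenius complement isomorphic to the quaternion group of order 8 whose Frobenius kernel (the identity together with the elements lying in no conjugate of the complement) has exactly m elements; (b) m is an odd perfect square greater than 1. -/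
theorem result (m : ℕ) :
    (∃ (L : Type) (_ : Group L) (_ : Finite L) (H : Subgroup L), Cfsg.IsFrobeniusComplement H ∧
        Nonempty (H ≃* QuaternionGroup 2) ∧ Nat.card (Cfsg.frobeniusKernel H) = m) ↔
    (Odd m ∧ IsSquare m ∧ 1 < m) := by
  constructor
  · rintro ⟨L, hL1, hL2, H, hF, ⟨e⟩, hm⟩
    obtain ⟨x', y', h1, h2, h3, h4⟩ := quat_pair_two
    let ψ : QuaternionGroup 2 →* L := (H.subtype).comp e.symm.toMonoidHom
    have hψinj : Function.Injective ψ := by
      intro u v huv
      exact e.symm.injective (Subtype.ext huv)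
    have hxH : ψ x' ∈ H := (e.symm x').2
    have hx4 : ψ x' ^ 4 = 1 := by rw [← map_pow, h1, map_one]
    have hx2 : ψ x' ^ 2 ≠ 1 := by
      rw [← map_pow]
      intro h
      exact h2 (hψinj (by rw [h, map_one]))
    have hy2 : ψ y' ^ 2 = ψ x' ^ 2 := by rw [← map_pow, ← map_pow, h3]
    have hconj : ψ y' * ψ x' * (ψ y')⁻¹ = (ψ x')⁻¹ := by
      rw [← map_inv, ← map_inv, ← map_mul, ← map_mul, h4]
    have key := kernel_square_of_quat_pair H hF (ψ x') (ψ y') hxH hx4 hx2 hy2 hconj
    rw [hm] at key
    exact key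
  · rintro ⟨hodd, ⟨k, hk⟩, hm1⟩
    have hkodd : Odd k := by
      rw [hk] at hodd
      exact (Nat.odd_mul.mp hodd).1
    have hk1 : 1 < k := by
      by_contra h
      have : k ≤ 1 := by omega
      have : k * k ≤ 1 := by nlinarith
      omega
    have hk0 : k ≠ 0 := by omega
    obtain ⟨l, hl⟩ : ∃ l : List ℕ, l = k.primeFactorsList := ⟨_, rfl⟩
    have hprime : ∀ i : Fin l.length, (l[i.1]).Prime := by
      intro i
      apply Nat.prime_of_mem_primeFactorsList (n := k)
      rw [← hl]
      exact List.getElem_mem i.2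
    have hne : ∀ i : Fin l.length, NeZero (l[i.1]) := fun i => ⟨(hprime i).ne_zero⟩
    have hab : ∀ i : Fin l.length, ∃ a b : ZMod (l[i.1]), a ^ 2 + b ^ 2 = -1 := fun i =>
      @ZMod.sq_add_sq (l[i.1]) ⟨hprime i⟩ (-1)
    choose a b hab' using hab
    have hcardR : Nat.card ((i : Fin l.length) → ZMod (l[i.1])) = k := by
      rw [Nat.card_pi]
      simp only [Nat.card_zmod]
      rw [Fin.prod_univ_getElem, hl, Nat.prod_primeFactorsList hk0]
    have hRab : a * a + b * b = -1 := by
      funext i
      have := hab' i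
      rw [pow_two, pow_two] at this
      exact this
    obtain ⟨L, hL1, hL2, C, hC, ⟨e⟩, hcard⟩ :=
      exists_frobenius_of_ring (R := (i : Fin l.length) → ZMod (l[i.1]))
        (by rw [hcardR]; exact hkodd) (by rw [hcardR]; exact hk1) a b hRab
    refine ⟨L, hL1, hL2, C, hC, ⟨e.symm⟩, ?_⟩
    rw [hcard, hcardR, hk]

end Cfsg.Agent.S4295
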