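import Cfsg.Statements.S4296
import Cfsg.Agent.Lib.Helper23.QuatSquare

set_option autoImplicit false
open Cfsg

namespace Cfsg.Agent.S4296

open Cfsg.Agent.Lib.Helper23.QuatSquare

/-- Let H be a Frobenius complement in a finite group, and suppose some Sylow subgroup of H is not cyclic. Then the number of elements of the Frobenius kernel (the identity together with the elements lying in no conjugate of H) is an odd perfect square. -/
theorem result {L : Type*} [Group L] [Finite L] (H : Subgroup L) (hF : Cfsg.IsFrobeniusComplement H)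
    (hZ : ∃ (p : ℕ) (_ : Fact p.Prime) (P : Sylow p H), ¬ IsCyclic P) :
    Odd (Nat.card (Cfsg.frobeniusKernel H)) ∧ IsSquare (Nat.card (Cfsg.frobeniusKernel H)) := by
  obtain ⟨p, hp, P, hP⟩ := hZ
  obtain ⟨N, hNset, hNn, hNc⟩ := Cfsg.Agent.Lib.Helper18.frobenius_kernel_subgroup H hF
  have hH1 : H ≠ ⊥ := hF.1
  have hH2 : H ≠ ⊤ := hF.2.1
  have hN1 : N ≠ ⊥ := by
    intro h
    rw [h] at hNc
    exact hH2 (Subgroup.isComplement'_bot_left.mp hNc)
  have hfpf := (Cfsg.Agent.Lib.Helper1.isFrobeniusComplement_iff_fpf N H hNc hN1 hH1).mp hF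
  rcases Cfsg.Agent.Lib.Helper1.sylow_isCyclic_or_quaternion_of_fpf N H hN1 hfpf p P with
    h | ⟨n, ⟨e⟩⟩
  · exact absurd h hP
  · have hn : 1 ≤ n := by
      by_contra h0
      have hn0 : n = 0 := by omega
      subst hn0
      apply hP
      have hc : IsCyclic (QuaternionGroup (2 ^ 0)) :=
        QuaternionGroup.quaternionGroup_one_isCyclic
      exact isCyclic_of_surjective e.symm e.symm.surjective
    obtain ⟨x', y', h1, h2, h3, h4⟩ := quat_pair_in_quaternionGroup n hn
    let ψ : QuaternionGroup (2 ^ n) →* L :=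
      (H.subtype).comp ((P : Subgroup H).subtype.comp e.symm.toMonoidHom)
    have hψinj : Function.Injective ψ := by
      intro a b hab
      have h5 : ((e.symm a : P) : H) = ((e.symm b : P) : H) := Subtype.ext hab
      exact e.symm.injective (Subtype.ext h5)
    have hxH : ψ x' ∈ H := ((e.symm x' : P) : H).2
    have hx4 : ψ x' ^ 4 = 1 := by rw [← map_pow, h1, map_one]
    have hx2 : ψ x' ^ 2 ≠ 1 := by
      rw [← map_pow]
      intro h
      exact h2 (hψinj (by rw [h, map_one]))
    have hy2 : ψ y' ^ 2 = ψ x' ^ 2 := by rw [← map_pow, ← map_pow, h3]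
    have hconj : ψ y' * ψ x' * (ψ y')⁻¹ = (ψ x')⁻¹ := by
      rw [← map_inv, ← map_inv, ← map_mul, ← map_mul, h4]
    have key := kernel_square_of_quat_pair H hF (ψ x') (ψ y') hxH hx4 hx2 hy2 hconj
    exact ⟨key.1, key.2.1⟩

end Cfsg.Agent.S4296
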