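import Cfsg.Statements.S4297
import Cfsg.Agent.Lib.Helper23.FrobeniusConstruct

set_option autoImplicit false
open Cfsg

namespace Cfsg.Agent.S4297

open Cfsg.Agent.Lib.Helper23

/-- a faithful character of `ZMod m` from a unit of order `m` -/
theorem exists_char {K : Type*} [Field K] (m : ℕ) [NeZero m] (ζ : Kˣ) (hζ : orderOf ζ = m) :
    ∃ c : ZMod m → K, c 0 = 1 ∧ (∀ i j, c (i + j) = c i * c j) ∧ (∀ i, c i = 1 → i = 0) := by
  have h0 : (zmultiplesHom (Additive Kˣ) (Additive.ofMul ζ)) (m : ℤ) = 0 := by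
    simp only [zmultiplesHom_apply, natCast_zsmul]
    rw [← ofMul_pow, ← hζ, pow_orderOf_eq_one]
    rfl
  let χ : ZMod m →+ Additive Kˣ := ZMod.lift m ⟨zmultiplesHom (Additive Kˣ) (Additive.ofMul ζ), h0⟩
  refine ⟨fun i => ((Additive.toMul (χ i) : Kˣ) : K), ?_, ?_, ?_⟩
  · simp
  · intro i j
    simp only [map_add, toMul_add, Units.val_mul]
  · intro i hi
    have h1 : Additive.toMul (χ i) = 1 := Units.ext hi
    have h2 : χ i = Additive.ofMul (ζ ^ i.val) := by
      have : i = ((i.val : ℤ) : ZMod m) := by simp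
      conv_lhs => rw [this]
      rw [ZMod.lift_coe]
      simp only [zmultiplesHom_apply, natCast_zsmul]
      rfl
    rw [h2] at h1
    have h3 : ζ ^ i.val = 1 := h1
    have h4' : orderOf ζ ∣ i.val := orderOf_dvd_of_pow_eq_one h3
    have h4 : m ∣ i.val := by rw [hζ] at h4'; exact h4'
    have h5 : i.val < m := ZMod.val_lt i
    have h6 : i.val = 0 := Nat.eq_zero_of_dvd_of_lt h4 h5
    exact (ZMod.val_eq_zero i).1 h6

/-- For every n ≥ 2 the dicyclic group of order 4n (generated by an element a of order 2n and an element x with x² = aⁿ and x a x⁻¹ = a⁻¹) occurs as a Frobenius complement of some finite Frobenius group. -/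
theorem result (n : ℕ) (hn : 2 ≤ n) :
    ∃ (L : Type) (_ : Group L) (_ : Finite L) (H : Subgroup L), Cfsg.IsFrobeniusComplement H ∧ Nonempty (H ≃* QuaternionGroup n) := by
  have hn0 : 2 * n ≠ 0 := by omega
  have : NeZero n := ⟨by omega⟩
  have : NeZero (2 * n) := ⟨hn0⟩
  obtain ⟨p, hp, -, hpn⟩ := Nat.exists_prime_gt_modEq_one 0 hn0
  have : Fact p.Prime := ⟨hp⟩
  have hdvd : 2 * n ∣ p - 1 := (Nat.modEq_iff_dvd' hp.one_lt.le).1 hpn.symm
  obtain ⟨g, hg⟩ := IsCyclic.exists_ofOrder_eq_natCard (α := (ZMod p)ˣ)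
  have hcard : Nat.card (ZMod p)ˣ = p - 1 := by
    rw [Nat.card_eq_fintype_card, ZMod.card_units_eq_totient, Nat.totient_prime hp]
  rw [hcard] at hg
  obtain ⟨k, hk⟩ := hdvd
  have hk0 : k ≠ 0 := by
    rintro rfl
    have := hp.one_lt
    omega
  have hou : orderOf (g ^ k) = 2 * n := by
    rw [orderOf_pow_of_dvd hk0 (by rw [hg, hk]; exact dvd_mul_left k (2 * n)), hg, hk,
      Nat.mul_div_cancel _ (Nat.pos_of_ne_zero hk0)]
  obtain ⟨c, c0, cadd, cinj⟩ := exists_char (K := ZMod p) (2 * n) (g ^ k) hou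
  have hp2 : (2 : ZMod p) ≠ 0 := by
    have hp5 : 5 ≤ p := by
      have : 2 * n ≤ p - 1 := Nat.le_of_dvd (by have := hp.one_lt; omega) ⟨k, hk⟩
      omega
    intro h2
    have : ((2 : ℕ) : ZMod p) = 0 := by exact_mod_cast h2
    rw [ZMod.natCast_eq_zero_iff] at this
    have := Nat.le_of_dvd (by norm_num) this
    omega
  have cneg : ∀ i, c i * c (-i) = 1 := fun i => by rw [← cadd, add_neg_cancel, c0]
  have cn : c (n : ZMod (2 * n)) = -1 := by
    have h1 : c (n : ZMod (2 * n)) * c (n : ZMod (2 * n)) = 1 := by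
      rw [← cadd, ← c0]
      congr 1
      have : ((n : ZMod (2 * n)) + n) = ((2 * n : ℕ) : ZMod (2 * n)) := by push_cast; ring
      rw [this, ZMod.natCast_self]
    rcases mul_self_eq_one_iff.1 h1 with h | h
    · exfalso
      have := cinj _ h
      rw [ZMod.natCast_eq_zero_iff] at this
      have := Nat.le_of_dvd (by omega) this
      omega
    · exact h
  -- the action
  let _inst : DistribMulAction (QuaternionGroup n) (ZMod p × ZMod p) :=
    { smul := fun g v => match g with
        | QuaternionGroup.a i => (c i * v.1, c (-i) * v.2)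
        | QuaternionGroup.xa i => (-(c (-i) * v.2), c i * v.1)
      one_smul := by
        rintro ⟨v1, v2⟩
        show (c 0 * v1, c (-0) * v2) = (v1, v2)
        rw [neg_zero, c0, one_mul, one_mul]
      mul_smul := by
        rintro (i | i) (j | j) ⟨v1, v2⟩
        · show (c (i + j) * v1, c (-(i + j)) * v2) = (c i * (c j * v1), c (-i) * (c (-j) * v2))
          rw [neg_add, cadd, cadd, mul_assoc, mul_assoc]
        · show (-(c (-(j - i)) * v2), c (j - i) * v1) =
            (c i * (-(c (-j) * v2)), c (-i) * (c j * v1))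
          have e1 : -(j - i) = i + -j := by ring
          have e2 : j - i = -i + j := by ring
          rw [e1, e2, cadd, cadd]
          ext <;> simp <;> ring
        · show (-(c (-(i + j)) * v2), c (i + j) * v1) =
            (-(c (-i) * (c (-j) * v2)), c i * (c j * v1))
          rw [neg_add, cadd, cadd, mul_assoc, mul_assoc]
        · show (c ((n : ZMod (2 * n)) + j - i) * v1, c (-((n : ZMod (2 * n)) + j - i)) * v2) =
            (-(c (-i) * (c j * v1)), c i * (-(c (-j) * v2)))
          have e1 : (n : ZMod (2 * n)) + j - i = (n : ZMod (2 * n)) + (-i + j) := by ring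
          have e2 : -((n : ZMod (2 * n)) + (-i + j)) = -(n : ZMod (2 * n)) + (i + -j) := by ring
          have cn' : c (-(n : ZMod (2 * n))) = -1 := by
            have := cneg (n : ZMod (2 * n))
            rw [cn] at this
            have h : c (-(n : ZMod (2 * n))) = -(-1 * c (-(n : ZMod (2 * n)))) := by ring
            rw [h, this]
          rw [e1, e2, cadd, cadd, cadd, cadd, cn, cn']
          ext <;> simp <;> ring
      smul_zero := by
        rintro (i | i)
        · show (c i * 0, c (-i) * 0) = ((0 : ZMod p), (0 : ZMod p))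
          simp
        · show (-(c (-i) * 0), c i * 0) = ((0 : ZMod p), (0 : ZMod p))
          simp
      smul_add := by
        rintro (i | i) ⟨v1, v2⟩ ⟨w1, w2⟩
        · show (c i * (v1 + w1), c (-i) * (v2 + w2)) =
            (c i * v1 + c i * w1, c (-i) * v2 + c (-i) * w2)
          rw [mul_add, mul_add]
        · show (-(c (-i) * (v2 + w2)), c i * (v1 + w1)) =
            (-(c (-i) * v2) + -(c (-i) * w2), c i * v1 + c i * w1)
          rw [mul_add, mul_add, neg_add] }
  have hsa : ∀ (i : ZMod (2 * n)) (v : ZMod p × ZMod p),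
      QuaternionGroup.a i • v = (c i * v.1, c (-i) * v.2) := fun _ _ => rfl
  have hsx : ∀ (i : ZMod (2 * n)) (v : ZMod p × ZMod p),
      QuaternionGroup.xa i • v = (-(c (-i) * v.2), c i * v.1) := fun _ _ => rfl
  have hfpf : ∀ h : QuaternionGroup n, h ≠ 1 → ∀ v : ZMod p × ZMod p, h • v = v → v = 0 := by
    rintro (i | i) hh ⟨v1, v2⟩ hv
    · rw [hsa] at hv
      have hi : i ≠ 0 := fun h0 => hh (by rw [h0]; rfl)
      have h1 : c i * v1 = v1 := congrArg Prod.fst hv
      have h2 : c (-i) * v2 = v2 := congrArg Prod.snd hv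
      have hc1 : c i ≠ 1 := fun h => hi (cinj i h)
      have hc2 : c (-i) ≠ 1 := fun h => hi (neg_eq_zero.1 (cinj _ h))
      have e1 : (c i - 1) * v1 = 0 := by rw [sub_mul, one_mul, h1, sub_self]
      have e2 : (c (-i) - 1) * v2 = 0 := by rw [sub_mul, one_mul, h2, sub_self]
      have z1 : v1 = 0 := (mul_eq_zero.1 e1).resolve_left (sub_ne_zero.2 hc1)
      have z2 : v2 = 0 := (mul_eq_zero.1 e2).resolve_left (sub_ne_zero.2 hc2)
      rw [z1, z2]; rfl
    · rw [hsx] at hv
      have h1 : -(c (-i) * v2) = v1 := congrArg Prod.fst hv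
      have h2 : c i * v1 = v2 := congrArg Prod.snd hv
      have h3 : v1 = -v1 := by
        have hci : c (-i) * c i = 1 := by rw [mul_comm]; exact cneg i
        calc v1 = -(c (-i) * (c i * v1)) := by rw [h2, h1]
          _ = -((c (-i) * c i) * v1) := by rw [mul_assoc]
          _ = -v1 := by rw [hci, one_mul]
      have h4 : (2 : ZMod p) * v1 = 0 := by
        have : v1 + v1 = 0 := by nth_rewrite 1 [h3]; exact neg_add_cancel v1
        rw [two_mul]; exact this
      have z1 : v1 = 0 := (mul_eq_zero.1 h4).resolve_left hp2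
      have z2 : v2 = 0 := by rw [← h2, z1, mul_zero]
      rw [z1, z2]; rfl
  have hnt : Nontrivial (QuaternionGroup n) := by
    refine ⟨⟨QuaternionGroup.xa 0, 1, ?_⟩⟩
    rw [QuaternionGroup.one_def]
    intro h
    cases h
  obtain ⟨L, hL1, hL2, K, hK, ⟨e⟩, -⟩ :=
    exists_frobenius_of_fpf_add (H := QuaternionGroup n) (V := ZMod p × ZMod p) hfpf
  exact ⟨L, hL1, hL2, K, hK, ⟨e.symm⟩⟩

end Cfsg.Agent.S4297
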