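import Cfsg.Statements.S4299
import Cfsg.Agent.Lib.Helper23.FrobeniusConstruct

set_option autoImplicit false
open Cfsg

namespace Cfsg.Agent.S4299

open Cfsg.Agent.Lib.Helper23

/-- Every nontrivial finite cyclic group occurs as a Frobenius complement of some finite Frobenius group. -/
theorem result {C : Type*} [Group C] [Finite C] [IsCyclic C] [Nontrivial C] :
    ∃ (L : Type) (_ : Group L) (_ : Finite L) (H : Subgroup L), Cfsg.IsFrobeniusComplement H ∧ Nonempty (C ≃* H) := by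
  set n := Nat.card C with hn
  have hn2 : 2 ≤ n := Finite.one_lt_card
  obtain ⟨p, hp, -, hpn⟩ := Nat.exists_prime_gt_modEq_one 0 (show n ≠ 0 by omega)
  have : Fact p.Prime := ⟨hp⟩
  have hdvd : n ∣ p - 1 := (Nat.modEq_iff_dvd' hp.one_lt.le).1 hpn.symm
  obtain ⟨g, hg⟩ := IsCyclic.exists_ofOrder_eq_natCard (α := (ZMod p)ˣ)
  have hcard : Nat.card (ZMod p)ˣ = p - 1 := by
    rw [Nat.card_eq_fintype_card, ZMod.card_units_eq_totient, Nat.totient_prime hp]
  rw [hcard] at hg
  obtain ⟨k, hk⟩ := hdvd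
  have hk0 : k ≠ 0 := by
    rintro rfl
    have := hp.one_lt
    omega
  set u : (ZMod p)ˣ := g ^ k with hu
  have hou : orderOf u = n := by
    rw [hu, orderOf_pow_of_dvd hk0 (by rw [hg, hk]; exact dvd_mul_left k n), hg, hk,
      Nat.mul_div_cancel _ (Nat.pos_of_ne_zero hk0)]
  let H' : Subgroup (ZMod p)ˣ := Subgroup.zpowers u
  have hH'card : Nat.card H' = n := by rw [Nat.card_zpowers, hou]
  have hnt : Nontrivial H' := by
    rw [← Finite.one_lt_card_iff_nontrivial, hH'card]; omega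
  have hfpf : ∀ h : H', h ≠ 1 → ∀ x : ZMod p, h • x = x → x = 0 := by
    intro h hh x hx
    have h1 : ((h : (ZMod p)ˣ) : ZMod p) * x = x := hx
    have h2 : (((h : (ZMod p)ˣ) : ZMod p) - 1) * x = 0 := by
      rw [sub_mul, one_mul, h1, sub_self]
    rcases mul_eq_zero.1 h2 with h3 | h3
    · exfalso
      apply hh
      have : ((h : (ZMod p)ˣ) : ZMod p) = 1 := sub_eq_zero.1 h3
      exact Subtype.ext (Units.ext this)
    · exact h3
  obtain ⟨L, hL1, hL2, K, hK, ⟨e⟩, -⟩ := exists_frobenius_of_fpf_add (H := H') (V := ZMod p) hfpf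
  refine ⟨L, hL1, hL2, K, hK, ⟨?_⟩⟩
  have hcyc : IsCyclic H' := inferInstance
  have e' : C ≃* H' := mulEquivOfCyclicCardEq (by rw [hH'card])
  exact e'.trans e

end Cfsg.Agent.S4299
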