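import Cfsg.Statements.S4300

set_option autoImplicit false
open Cfsg

namespace Cfsg.Agent.S4300

/-- Let G act faithfully and primitively on a set X, and suppose the stabilizer of some point is a simple group. Then either G is simple, or G has a normal subgroup, neither trivial nor the whole group, that acts regularly on X (transitively with trivial point stabilizers). -/
theorem result {G : Type*} [Group G] {X : Type*} [MulAction G X] [FaithfulSMul G X]
    (hprim : MulAction.IsPreprimitive G X) (x : X) (hsimple : IsSimpleGroup (MulAction.stabilizer G x)) :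
    IsSimpleGroup G ∨ ∃ N : Subgroup G, N.Normal ∧ N ≠ ⊥ ∧ N ≠ ⊤ ∧
      MulAction.IsPretransitive N X ∧ ∀ y : X, MulAction.stabilizer N y = ⊥ := by
  by_cases h : ∃ N : Subgroup G, N.Normal ∧ N ≠ ⊥ ∧ N ≠ ⊤
  · right
    obtain ⟨N, hN, hbot, htop⟩ := h
    have hfix : MulAction.fixedPoints N X ≠ Set.univ := by
      intro hf
      apply hbot
      rw [Subgroup.eq_bot_iff_forall]
      intro n hn
      apply FaithfulSMul.eq_of_smul_eq_smul (α := X)
      intro y
      rw [one_smul]
      have : y ∈ MulAction.fixedPoints N X := by rw [hf]; trivial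
      exact this ⟨n, hn⟩
    have htrans : MulAction.IsPretransitive N X :=
      MulAction.IsQuasiPreprimitive.isPretransitive_of_normal hfix
    refine ⟨N, hN, hbot, htop, htrans, ?_⟩
    have hK : (N.subgroupOf (MulAction.stabilizer G x)).Normal := inferInstance
    rcases hK.eq_bot_or_eq_top with h0 | h1
    · intro y
      obtain ⟨g, rfl⟩ := MulAction.exists_smul_eq G x y
      rw [Subgroup.eq_bot_iff_forall]
      intro n hn
      rw [MulAction.mem_stabilizer_iff] at hn
      have hmem : g⁻¹ * (n : G) * g ∈ N := by
        have := hN.conj_mem (n : G) n.2 g⁻¹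
        simpa using this
      have hstab : g⁻¹ * (n : G) * g ∈ MulAction.stabilizer G x := by
        rw [MulAction.mem_stabilizer_iff, mul_smul, mul_smul]
        have : (n : G) • g • x = g • x := hn
        rw [this, inv_smul_smul]
      have h2 : (⟨g⁻¹ * (n : G) * g, hstab⟩ : MulAction.stabilizer G x) ∈ N.subgroupOf (MulAction.stabilizer G x) := by
        rw [Subgroup.mem_subgroupOf]; exact hmem
      rw [h0, Subgroup.mem_bot] at h2
      have h3 : g⁻¹ * (n : G) * g = 1 := congrArg Subtype.val h2
      have h4 : (n : G) = 1 := by
        have : (n : G) = g * (g⁻¹ * (n : G) * g) * g⁻¹ := by group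
        rw [this, h3]; group
      exact Subtype.ext h4
    · exfalso
      apply htop
      rw [Subgroup.subgroupOf_eq_top] at h1
      rw [eq_top_iff]
      intro g _
      obtain ⟨n, hn⟩ := MulAction.exists_smul_eq N x (g • x)
      have hstab : (n : G)⁻¹ * g ∈ MulAction.stabilizer G x := by
        rw [MulAction.mem_stabilizer_iff, mul_smul]
        have : (n : G) • x = g • x := hn
        rw [← this, inv_smul_smul]
      have := N.mul_mem n.2 (h1 hstab)
      simpa using this
  · left
    push Not at h
    have : Nontrivial G := by
      have : Nontrivial (MulAction.stabilizer G x) := inferInstance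
      obtain ⟨a, b, hab⟩ := this
      exact ⟨⟨a, b, fun h => hab (Subtype.ext h)⟩⟩
    refine ⟨fun N hN => ?_⟩
    by_contra hcon
    push Not at hcon
    exact hcon.2 (h N hN hcon.1)

end Cfsg.Agent.S4300
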