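-- Statement S4301.
import Cfsg.Statements.S4301

set_option autoImplicit false
open Cfsg

namespace Cfsg.Agent.S4301

variable {X : Type*}

/-- a permutation of `X` with prescribed values at two points -/
theorem exists_perm_two [DecidableEq X] {p q u v : X} (hpq : p ≠ q) (huv : u ≠ v) :
    ∃ σ : Equiv.Perm X, σ p = u ∧ σ q = v := by
  refine ⟨Equiv.swap (Equiv.swap p u q) v * Equiv.swap p u, ?_, ?_⟩
  · rw [Equiv.Perm.mul_apply, Equiv.swap_apply_left]
    have h1 : u ≠ Equiv.swap p u q := by
      intro h
      have := congrArg (Equiv.swap p u) h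
      rw [Equiv.swap_apply_right, Equiv.swap_apply_self] at this
      exact hpq this
    exact Equiv.swap_apply_of_ne_of_ne h1 huv
  · rw [Equiv.Perm.mul_apply, Equiv.swap_apply_left]

/-- 2-transitivity on `X` extracted from `k`-transitivity -/
theorem two_trans (G : Subgroup (Equiv.Perm (Option X))) (k : ℕ) (hk : 2 ≤ k) (hkX : Nonempty (Fin k ↪ X))
    (htrans : ∀ a b : Fin k ↪ X, ∃ f ∈ G, ∀ i, f (some (a i)) = some (b i))
    {u v u' v' : X} (huv : u ≠ v) (huv' : u' ≠ v') :
    ∃ f ∈ G, f (some u) = some u' ∧ f (some v) = some v' := by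
  classical
  obtain ⟨e⟩ := hkX
  have h01 : e ⟨0, by omega⟩ ≠ e ⟨1, by omega⟩ := fun h => by
    have := e.injective h
    simp at this
  obtain ⟨σ, hσ0, hσ1⟩ := exists_perm_two h01 huv
  obtain ⟨σ', hσ'0, hσ'1⟩ := exists_perm_two h01 huv'
  obtain ⟨f, hf, hfab⟩ := htrans (e.trans σ.toEmbedding) (e.trans σ'.toEmbedding)
  refine ⟨f, hf, ?_, ?_⟩
  · have := hfab ⟨0, by omega⟩
    simpa [hσ0, hσ'0] using this
  · have := hfab ⟨1, by omega⟩
    simpa [hσ1, hσ'1] using this


/-- One-point extension of a multiply transitive group. Let X be a set and G a group of permutations of Option X (the set X with one extra point ∗ = none) all of whose elements fix ∗, such that G is k-transitive on the points of X for some k ≥ 2, X having at least k points. Suppose a permutation h of Option X and an element g of G satisfy: h interchanges ∗ with a point x of X and fixes a point y of X; g interchanges x and y; (g h)³ and h² lie in G; and for every f in G fixing x, the product h f h lies in G and fixes x. Then an element of the group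 generated by G and h fixes ∗ exactly when it lies in G, and that group acts (k+1)-transitively on Option X. -/
theorem result {X : Type*} (G : Subgroup (Equiv.Perm (Option X))) (hfix : ∀ f ∈ G, f none = none)
    (k : ℕ) (hk : 2 ≤ k) (hkX : Nonempty (Fin k ↪ X))
    (htrans : ∀ a b : Fin k ↪ X, ∃ f ∈ G, ∀ i, f (some (a i)) = some (b i))
    (h g : Equiv.Perm (Option X)) (hg : g ∈ G) (x y : X)
    (h1 : h none = some x) (h2 : h (some x) = none) (h3 : h (some y) = some y)
    (h4 : g (some x) = some y) (h5 : g (some y) = some x)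
    (h6 : (g * h) ^ 3 ∈ G) (h7 : h ^ 2 ∈ G)
    (h8 : ∀ f ∈ G, f (some x) = some x → h * f * h ∈ G ∧ (h * f * h) (some x) = some x) :
    (∀ f ∈ Subgroup.closure ((G : Set (Equiv.Perm (Option X))) ∪ {h}), f none = none ↔ f ∈ G) ∧
      MulAction.IsMultiplyPretransitive (Subgroup.closure ((G : Set (Equiv.Perm (Option X))) ∪ {h})) (Option X) (k + 1) := by
  classical
  have hxy : x ≠ y := by
    rintro rfl
    rw [h3] at h2
    exact Option.some_ne_none _ h2
  have hsome : ∀ f ∈ G, ∀ u : X, ∃ v : X, f (some u) = some v := by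
    intro f hf u
    cases hfu : f (some u) with
    | none =>
      exfalso
      have := hfix f hf
      rw [← this] at hfu
      exact Option.some_ne_none u (f.injective hfu)
    | some v => exact ⟨v, rfl⟩
  have hinv : h⁻¹ = (h ^ 2)⁻¹ * h := by rw [pow_two]; group
  have hAB : h⁻¹ * g * h⁻¹ =
      ((h ^ 2)⁻¹ * g⁻¹ * (g * h) ^ 3 * (h ^ 2)⁻¹) * h * (g⁻¹ * (h ^ 2)⁻¹) := by
    rw [show (g * h) ^ 3 = g * h * (g * h) * (g * h) by rw [pow_succ, pow_two], pow_two]
    group
  have hA : (h ^ 2)⁻¹ * g⁻¹ * (g * h) ^ 3 * (h ^ 2)⁻¹ ∈ G :=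
    G.mul_mem (G.mul_mem (G.mul_mem (G.inv_mem h7) (G.inv_mem hg)) h6) (G.inv_mem h7)
  have hB : g⁻¹ * (h ^ 2)⁻¹ ∈ G := G.mul_mem (G.inv_mem hg) (G.inv_mem h7)
  -- h f h lies in G ∪ G h G
  have key2 : ∀ f ∈ G, h * f * h ∈ G ∨ ∃ a ∈ G, ∃ b ∈ G, h * f * h = a * h * b := by
    intro f hf
    by_cases hfx : f (some x) = some x
    · exact Or.inl (h8 f hf hfx).1
    · right
      obtain ⟨z, hz⟩ := hsome f hf x
      have hzx : x ≠ z := by
        rintro rfl
        exact hfx hz
      obtain ⟨f1, hf1, hf1x, hf1y⟩ := two_trans G k hk hkX htrans hxy hzx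
      have hf2 : g⁻¹ * f1⁻¹ * f ∈ G := G.mul_mem (G.mul_mem (G.inv_mem hg) (G.inv_mem hf1)) hf
      have hf2x : (g⁻¹ * f1⁻¹ * f) (some x) = some x := by
        have e1 : f1⁻¹ (some z) = some y := by rw [Equiv.Perm.inv_def, Equiv.symm_apply_eq, hf1y]
        have e2 : g⁻¹ (some y) = some x := by rw [Equiv.Perm.inv_def, Equiv.symm_apply_eq, h4]
        simp only [Equiv.Perm.mul_apply]
        rw [hz, e1, e2]
      have e1 := (h8 f1 hf1 hf1x).1
      have e2 := (h8 _ hf2 hf2x).1
      refine ⟨(h * f1 * h) * ((h ^ 2)⁻¹ * g⁻¹ * (g * h) ^ 3 * (h ^ 2)⁻¹), G.mul_mem e1 hA,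
        (g⁻¹ * (h ^ 2)⁻¹) * (h * (g⁻¹ * f1⁻¹ * f) * h), G.mul_mem hB e2, ?_⟩
      calc h * f * h = (h * f1 * h) * (h⁻¹ * g * h⁻¹) * (h * (g⁻¹ * f1⁻¹ * f) * h) := by group
        _ = _ := by rw [hAB]; group
  -- the closure is G ∪ G h G
  have hS : ∀ f ∈ Subgroup.closure ((G : Set (Equiv.Perm (Option X))) ∪ {h}),
      f ∈ G ∨ ∃ a ∈ G, ∃ b ∈ G, f = a * h * b := by
    intro f hf
    induction hf using Subgroup.closure_induction with
    | mem f hf =>
      rcases hf with hf | hf
      · exact Or.inl hf
      · rw [Set.mem_singleton_iff] at hf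
        exact Or.inr ⟨1, G.one_mem, 1, G.one_mem, by rw [hf, one_mul, mul_one]⟩
    | one => exact Or.inl G.one_mem
    | mul p q _ _ hp hq =>
      rcases hp with hp | ⟨a, ha, b, hb, rfl⟩
      · rcases hq with hq | ⟨a', ha', b', hb', rfl⟩
        · exact Or.inl (G.mul_mem hp hq)
        · exact Or.inr ⟨p * a', G.mul_mem hp ha', b', hb', by group⟩
      · rcases hq with hq | ⟨a', ha', b', hb', rfl⟩
        · exact Or.inr ⟨a, ha, b * q, G.mul_mem hb hq, by group⟩
        · rcases key2 (b * a') (G.mul_mem hb ha') with h9 | ⟨a'', ha'', b'', hb'', h9⟩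
          · left
            have : a * h * b * (a' * h * b') = a * (h * (b * a') * h) * b' := by group
            rw [this]
            exact G.mul_mem (G.mul_mem ha h9) hb'
          · right
            refine ⟨a * a'', G.mul_mem ha ha'', b'' * b', G.mul_mem hb'' hb', ?_⟩
            have : a * h * b * (a' * h * b') = a * (h * (b * a') * h) * b' := by group
            rw [this, h9]
            group
    | inv p _ hp =>
      rcases hp with hp | ⟨a, ha, b, hb, rfl⟩
      · exact Or.inl (G.inv_mem hp)
      · right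
        refine ⟨b⁻¹ * (h ^ 2)⁻¹, G.mul_mem (G.inv_mem hb) (G.inv_mem h7), a⁻¹, G.inv_mem ha, ?_⟩
        rw [mul_inv_rev, mul_inv_rev, hinv]
        group
  have hGΓ : G ≤ Subgroup.closure ((G : Set (Equiv.Perm (Option X))) ∪ {h}) := by
    intro f hf
    exact Subgroup.subset_closure (Or.inl hf)
  have hhΓ : h ∈ Subgroup.closure ((G : Set (Equiv.Perm (Option X))) ∪ {h}) :=
    Subgroup.subset_closure (Or.inr rfl)
  refine ⟨?_, ?_⟩
  · intro f hf
    constructor
    · intro hfn
      rcases hS f hf with hG | ⟨a, ha, b, hb, rfl⟩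
      · exact hG
      · exfalso
        simp only [Equiv.Perm.mul_apply] at hfn
        rw [hfix b hb, h1] at hfn
        obtain ⟨v, hv⟩ := hsome a ha x
        rw [hv] at hfn
        exact Option.some_ne_none v hfn
    · exact hfix f
  · -- transitivity on Option X
    have hto_none : ∀ p : Option X, ∃ γ : Subgroup.closure ((G : Set (Equiv.Perm (Option X))) ∪ {h}),
        γ • p = none := by
      intro p
      cases p with
      | none => exact ⟨1, one_smul _ _⟩
      | some u =>
        by_cases hux : u = x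
        · subst hux
          exact ⟨⟨h, hhΓ⟩, h2⟩
        · obtain ⟨f, hf, hfu, _⟩ := two_trans G k hk hkX htrans hux (Ne.symm hux)
          refine ⟨⟨h * f, Subgroup.mul_mem _ hhΓ (hGΓ hf)⟩, ?_⟩
          show (h * f) (some u) = none
          rw [Equiv.Perm.mul_apply, hfu, h2]
    have hpre : MulAction.IsPretransitive (Subgroup.closure ((G : Set (Equiv.Perm (Option X))) ∪ {h}))
        (Option X) := by
      constructor
      intro p q
      obtain ⟨γ1, hγ1⟩ := hto_none p
      obtain ⟨γ2, hγ2⟩ := hto_none q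
      refine ⟨γ2⁻¹ * γ1, ?_⟩
      rw [mul_smul, hγ1, inv_smul_eq_iff, hγ2]
    refine (SubMulAction.ofStabilizer.isMultiplyPretransitive (a := (none : Option X))).mpr ?_
    constructor
    intro a b
    have hget : ∀ (c : Fin k ↪ SubMulAction.ofStabilizer
        (Subgroup.closure ((G : Set (Equiv.Perm (Option X))) ∪ {h})) (none : Option X)) (i : Fin k),
        ((c i : Option X)).isSome = true := by
      intro c i
      rw [← Option.ne_none_iff_isSome]
      exact (c i).2
    let a' : Fin k ↪ X := ⟨fun i => Option.get _ (hget a i), fun i j hij => by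
      apply a.injective
      apply Subtype.ext
      have := congrArg some hij
      simpa using this⟩
    let b' : Fin k ↪ X := ⟨fun i => Option.get _ (hget b i), fun i j hij => by
      apply b.injective
      apply Subtype.ext
      have := congrArg some hij
      simpa using this⟩
    obtain ⟨f, hf, hfab⟩ := htrans a' b'
    refine ⟨⟨⟨f, hGΓ hf⟩, ?_⟩, ?_⟩
    · rw [MulAction.mem_stabilizer_iff]
      exact hfix f hf
    · apply DFunLike.ext
      intro i
      apply Subtype.ext
      have := hfab i
      change f (some (Option.get _ (hget a i))) = some (Option.get _ (hget b i)) at this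
      rw [Option.some_get, Option.some_get] at this
      exact this

end Cfsg.Agent.S4301
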