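import Cfsg.Statements.S4302
import Cfsg.Agent.Lib.Helper18.SolvOffH
import Cfsg.Agent.Lib.Helper1.Fitting
import Cfsg.Agent.Lib.Helper16.SylowInf

set_option autoImplicit false
open Cfsg

namespace Cfsg.Agent.S4302

open Subgroup Cfsg.Agent.Lib.Helper18 Cfsg.Agent.Lib.Helper18.SolvOff Cfsg.Agent.Lib.Helper1

/-- The Frattini argument: `X = Y N_X(J(T))` for the normal closure `Y` of `J(T)`. -/
theorem part1 {X : Type*} [Group X] [Finite X] (T : Sylow 2 X) (C : Subgroup X) :
    C ⊔ normalClosure (thompsonSubgroupAOf (T : Subgroup X) : Set X)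
      ⊔ normalizer (thompsonSubgroupAOf (T : Subgroup X) : Set X) = ⊤ := by
  haveI : Fact (Nat.Prime 2) := ⟨Nat.prime_two⟩
  rw [eq_top_iff]
  intro g _
  obtain ⟨a, ha, c, hc, rfl⟩ := Cfsg.Agent.Lib.Helper16.frattini_inf_normal T
    (normalClosure (thompsonSubgroupAOf (T : Subgroup X) : Set X)) g
  have hJT : thompsonSubgroupAOf (T : Subgroup X) ≤ T := by
    unfold thompsonSubgroupAOf
    exact Subgroup.map_subtype_le _
  have hJR : thompsonSubgroupAOf (T : Subgroup X) ≤
      (T : Subgroup X) ⊓ normalClosure (thompsonSubgroupAOf (T : Subgroup X) : Set X) :=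
    le_inf hJT le_normalClosure
  have ha' := normalizer_le_normalizer_thompson (T : Subgroup X) _ inf_le_left hJR ha
  have h1 : a ∈ C ⊔ normalClosure (thompsonSubgroupAOf (T : Subgroup X) : Set X)
      ⊔ normalizer (thompsonSubgroupAOf (T : Subgroup X) : Set X) :=
    (le_sup_right : normalizer (thompsonSubgroupAOf (T : Subgroup X) : Set X) ≤ _) ha'
  have h2 : c ∈ C ⊔ normalClosure (thompsonSubgroupAOf (T : Subgroup X) : Set X)
      ⊔ normalizer (thompsonSubgroupAOf (T : Subgroup X) : Set X) :=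
    (le_sup_left : C ⊔ normalClosure (thompsonSubgroupAOf (T : Subgroup X) : Set X) ≤ _)
      ((le_sup_right : normalClosure (thompsonSubgroupAOf (T : Subgroup X) : Set X) ≤ _) hc)
  exact Subgroup.mul_mem _ h1 h2

/-- The structure of `Y C / C`. -/
theorem part2 {X : Type*} [Group X] [Finite X] [Group.IsSolvable X]
    (hF : fittingSubgroup X = pCore 2 X) (T : Sylow 2 X) :
    ∃ n : ℕ, Nonempty (↥(normalClosure (thompsonSubgroupAOf (T : Subgroup X) : Set X)) ⧸
      ((centralizer (((T : Subgroup X) ⊓ centralizer ((T : Subgroup X) : Set X) : Subgroup X) :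
        Set X)).normalCore).subgroupOf
        (normalClosure (thompsonSubgroupAOf (T : Subgroup X) : Set X)) ≃*
          (Fin n → Equiv.Perm (Fin 3))) := by
  classical
  haveI : Fact (Nat.Prime 2) := ⟨Nat.prime_two⟩
  obtain ⟨ZT, hZT⟩ : ∃ ZT : Subgroup X,
    ZT = (T : Subgroup X) ⊓ centralizer ((T : Subgroup X) : Set X) := ⟨_, rfl⟩
  rw [← hZT]
  -- `Q = O₂(X)`
  obtain ⟨Q, hQ⟩ : ∃ Q : Subgroup X, Q = pCore 2 X := ⟨_, rfl⟩
  haveI hQn : Q.Normal := by rw [hQ]; exact Cfsg.Agent.Lib.Helper1.pCore_normal (G := X) 2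
  have hQ2 : IsPGroup 2 Q := by rw [hQ]; exact Cfsg.Agent.Lib.Helper1.pCore_isPGroup (G := X) 2
  have hQT : Q ≤ T := by rw [hQ]; exact Cfsg.Agent.Lib.Helper1.pCore_le_sylow T
  have hCQ : centralizer (Q : Set X) ≤ Q := by
    have := Cfsg.Agent.Lib.Helper1.centralizer_fittingSubgroup_le (G := X)
    rw [hF, ← hQ] at this
    exact this
  have hZTQ : ZT ≤ Q ⊓ centralizer (Q : Set X) := by
    have h1 : ZT ≤ centralizer (Q : Set X) := by
      rw [hZT]
      exact inf_le_right.trans
        (Subgroup.centralizer_le (show (Q : Set X) ⊆ ((T : Subgroup X) : Set X) from hQT))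
    exact le_inf (h1.trans hCQ) h1
  haveI hZQn : (Q ⊓ centralizer (Q : Set X)).Normal := inferInstance
  obtain ⟨V', hV'⟩ : ∃ V' : Subgroup X, V' = normalClosure (ZT : Set X) := ⟨_, rfl⟩
  haveI hV'n : V'.Normal := by rw [hV']; exact normalClosure_normal
  have hV'ZQ : V' ≤ Q ⊓ centralizer (Q : Set X) := by
    rw [hV']; exact normalClosure_le_normal hZTQ
  have hV'ab : ∀ a ∈ V', ∀ b ∈ V', a * b = b * a := by
    intro a ha b hb
    exact mem_centralizer_iff.mp (Subgroup.mem_inf.mp (hV'ZQ hb)).2 a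
      (Subgroup.mem_inf.mp (hV'ZQ ha)).1
  have hV'2 : IsPGroup 2 V' := hQ2.to_le (hV'ZQ.trans inf_le_left)
  have hCeq : (centralizer (ZT : Set X)).normalCore = centralizer (V' : Set X) := by
    rw [hV']; exact normalCore_centralizer_eq ZT
  -- `V₁ = Ω₁(V')`
  obtain ⟨V₁, hV₁⟩ : ∃ V₁ : Subgroup X, V₁ = omegaTwo V' hV'ab := ⟨_, rfl⟩
  haveI hV₁n : V₁.Normal := by rw [hV₁]; exact omegaTwo_normal V' hV'ab
  have hV₁V' : V₁ ≤ V' := by rw [hV₁]; exact omegaTwo_le V' hV'ab
  have hV₁ab : ∀ a ∈ V₁, ∀ b ∈ V₁, a * b = b * a := fun a ha b hb =>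
    hV'ab a (hV₁V' ha) b (hV₁V' hb)
  have hV₁2 : ∀ v ∈ V₁, v ^ 2 = 1 := by
    intro v hv
    rw [hV₁] at hv
    exact hv.2
  have hV₁T : V₁ ≤ T := hV₁V'.trans ((hV'ZQ.trans inf_le_left).trans hQT)
  -- normal subgroups whose elements of odd order centralize `V₁` centralize `V'`
  have hclaim : ∀ D : Subgroup X, D.Normal →
      (∀ x ∈ D, Odd (orderOf x) → x ∈ centralizer (V₁ : Set X)) →
      D ≤ centralizer (V' : Set X) := by
    intro D hDn hD
    haveI := hDn
    have hle := le_centralizer_of_odd T D (by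
      intro x hx hxodd
      rw [← hZT, ← hV']
      have hxV₁ := hD x hx hxodd
      rw [mem_centralizer_iff]
      intro v hv
      have h1 := conj_eq_of_conj_eq_omega V' hV'ab hV'2 (x := x)
        (fun v hv => hV'n.conj_mem v hv x) hxodd (by
          intro w hw hw2
          have hwV₁ : w ∈ V₁ := by rw [hV₁]; exact ⟨hw, hw2⟩
          have := mem_centralizer_iff.mp hxV₁ w hwV₁
          rw [← this, mul_inv_cancel_right]) v hv
      calc v * x = (x * v * x⁻¹) * x := by rw [h1]
        _ = x * v := by group)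
    rw [← hZT, ← hV'] at hle
    exact hle
  have hCC₁ : centralizer (V' : Set X) = centralizer (V₁ : Set X) := by
    apply le_antisymm
    · exact Subgroup.centralizer_le (show (V₁ : Set X) ⊆ (V' : Set X) from hV₁V')
    · exact hclaim _ inferInstance (fun x hx _ => hx)
  have hO2 : pCore 2 ↥(MulAut.conjNormal (H := V₁)).range = ⊥ := by
    apply pCore_range_conjNormal_eq_bot
    intro D hDn hD
    rw [← hCC₁]
    exact hclaim D hDn hD
  -- the family of offenders
  obtain ⟨Y, hY⟩ : ∃ Y : Subgroup X,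
    Y = normalClosure (thompsonSubgroupAOf (T : Subgroup X) : Set X) := ⟨_, rfl⟩
  rw [← hY]
  haveI hYn : Y.Normal := by rw [hY]; exact normalClosure_normal
  have hYsup : Y = ⨆ p : X × {A : Subgroup X // IsMaxAbIn (T : Subgroup X) A}, cj p.1 p.2.1 := by
    rw [hY]; exact normalClosure_thompsonSubgroupAOf_eq (T : Subgroup X)
  have hfam_ab : ∀ p : X × {A : Subgroup X // IsMaxAbIn (T : Subgroup X) A},
      ∀ a ∈ cj p.1 p.2.1, ∀ b ∈ cj p.1 p.2.1, a * b = b * a :=
    fun p => (isMaxAbIn_cj p.2.2 p.1).2.1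
  have hfam_2 : ∀ p : X × {A : Subgroup X // IsMaxAbIn (T : Subgroup X) A},
      IsPGroup 2 (cj p.1 p.2.1) :=
    fun p => isPGroup_cj p.1 _ (T.isPGroup'.to_le p.2.2.1)
  have hfam_off : ∀ p : X × {A : Subgroup X // IsMaxAbIn (T : Subgroup X) A},
      Nat.card V₁ * Nat.card (cj p.1 p.2.1 ⊓ centralizer (V₁ : Set X) : Subgroup X) ≤
        Nat.card (cj p.1 p.2.1) *
          Nat.card (V₁ ⊓ centralizer (cj p.1 p.2.1 : Set X) : Subgroup X) := by
    intro p
    apply offender_card_le V₁ hV₁ab (isMaxAbIn_cj p.2.2 p.1)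
    intro v hv
    rw [mem_cj_iff]
    apply hV₁T
    have := hV₁n.conj_mem v hv p.1⁻¹
    rwa [inv_inv] at this
  obtain ⟨n, ⟨e⟩⟩ := exists_quotient_mulEquiv_pi_perm_three V₁ hV₁ab hV₁2 hO2
    (fun p : X × {A : Subgroup X // IsMaxAbIn (T : Subgroup X) A} => cj p.1 p.2.1)
    hfam_ab hfam_2 hfam_off Y hYsup
  have hsub : ((centralizer (ZT : Set X)).normalCore).subgroupOf Y =
      (centralizer (V₁ : Set X)).subgroupOf Y := by
    rw [hCeq, hCC₁]
  exact ⟨n, ⟨(QuotientGroup.quotientMulEquivOfEq hsub).trans e⟩⟩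


/-- Let `X` be a finite solvable group whose Fitting subgroup is a 2-group (equivalently `F(X) = O₂(X)`), `T` a Sylow 2-subgroup of `X`, `J(T)` the subgroup generated by the abelian subgroups of `T` of largest order, `C` the largest normal subgroup of `X` centralizing the centre `Z(T)`, and `Y` the normal closure of `J(T)` in `X`. Then `X = C · Y · N_X(J(T))`, and either `Y ≤ C`, or `CY/C` is isomorphic to a direct product of at least one copy of the symmetric group of degree 3. -/
theorem result {X : Type*} [Group X] [Finite X]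
    [Group.IsSolvable X] (hF : Cfsg.fittingSubgroup X = Cfsg.pCore 2 X) (T : Sylow 2 X) :
    ((Subgroup.centralizer (((T : Subgroup X) ⊓ Subgroup.centralizer ((T : Subgroup X) : Set X) : Subgroup X) : Set X)).normalCore
        ⊔ Subgroup.normalClosure (Cfsg.thompsonSubgroupAOf (T : Subgroup X) : Set X)
        ⊔ Subgroup.normalizer (Cfsg.thompsonSubgroupAOf (T : Subgroup X) : Set X) = ⊤) ∧
    (Subgroup.normalClosure (Cfsg.thompsonSubgroupAOf (T : Subgroup X) : Set X)
        ≤ (Subgroup.centralizer (((T : Subgroup X) ⊓ Subgroup.centralizer ((T : Subgroup X) : Set X) : Subgroup X) : Set X)).normalCore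
      ∨ ∃ n : ℕ, 1 ≤ n ∧
        Nonempty (↥(Subgroup.normalClosure (Cfsg.thompsonSubgroupAOf (T : Subgroup X) : Set X)) ⧸
            ((Subgroup.centralizer (((T : Subgroup X) ⊓ Subgroup.centralizer ((T : Subgroup X) : Set X) : Subgroup X) : Set X)).normalCore).subgroupOf
              (Subgroup.normalClosure (Cfsg.thompsonSubgroupAOf (T : Subgroup X) : Set X))
          ≃* (Fin n → Equiv.Perm (Fin 3)))) := by
  refine ⟨part1 T _, ?_⟩
  by_cases hYC : Subgroup.normalClosure (Cfsg.thompsonSubgroupAOf (T : Subgroup X) : Set X)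
      ≤ (Subgroup.centralizer (((T : Subgroup X) ⊓
        Subgroup.centralizer ((T : Subgroup X) : Set X) : Subgroup X) : Set X)).normalCore
  · exact Or.inl hYC
  · right
    obtain ⟨n, ⟨e⟩⟩ := part2 hF T
    refine ⟨n, ?_, ⟨e⟩⟩
    by_contra hn
    have hn0 : n = 0 := by omega
    subst hn0
    apply hYC
    intro y hy
    have h1 : (QuotientGroup.mk (⟨y, hy⟩ :
        ↥(Subgroup.normalClosure (Cfsg.thompsonSubgroupAOf (T : Subgroup X) : Set X))) :
        ↥(Subgroup.normalClosure (Cfsg.thompsonSubgroupAOf (T : Subgroup X) : Set X)) ⧸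
          ((Subgroup.centralizer (((T : Subgroup X) ⊓
            Subgroup.centralizer ((T : Subgroup X) : Set X) : Subgroup X) :
              Set X)).normalCore).subgroupOf
            (Subgroup.normalClosure (Cfsg.thompsonSubgroupAOf (T : Subgroup X) : Set X))) = 1 :=
      e.injective (Subsingleton.elim _ _)
    rw [QuotientGroup.eq_one_iff, Subgroup.mem_subgroupOf] at h1
    exact h1

end Cfsg.Agent.S4302
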