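import Cfsg.Statements.S4341
import Cfsg.Agent.Lib.Helper23.SylowCount

set_option autoImplicit false
open Cfsg

namespace Cfsg.Agent.S4341

open Subgroup Cfsg.Agent.Lib.Helper23

/-- Let K be a normal subgroup of a finite group G, p a prime and P a Sylow p-subgroup of G; let N be the normalizer of P ∩ K inside the subgroup PK. Then the number of Sylow p-subgroups of G equals the product of the numbers of Sylow p-subgroups of G/K, of K, and of N/(P ∩ K). (The normality of P ∩ K in N, which always holds, is assumed as a hypothesis so that the quotient can be formed.) -/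
theorem result {G : Type*} [Group G] [Finite G]
    (p : ℕ) [Fact p.Prime] (K : Subgroup G) [K.Normal] (P : Sylow p G) (N : Subgroup G)
    (hN : N = ((P : Subgroup G) ⊔ K) ⊓ Subgroup.normalizer (((P : Subgroup G) ⊓ K : Subgroup G) : Set G))
    [hn : (((P : Subgroup G) ⊓ K).subgroupOf N).Normal] :
    Nat.card (Sylow p G) =
      Nat.card (Sylow p (G ⧸ K)) * Nat.card (Sylow p K) * Nat.card (Sylow p (N ⧸ ((P : Subgroup G) ⊓ K).subgroupOf N)) := by
  set Q : Subgroup G := (P : Subgroup G) ⊓ K with hQ
  set H : Subgroup G := (P : Subgroup G) ⊔ K with hH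
  set NQ : Subgroup G := normalizer (Q : Set G) with hNQ
  set NP : Subgroup G := normalizer ((P : Subgroup G) : Set G) with hNP
  set NH : Subgroup G := normalizer (H : Set G) with hNH
  have hKn : K.Normal := inferInstance
  -- 1. NP ≤ NQ
  have hNPQ : NP ≤ NQ := by
    intro g hg
    rw [hNP, mem_normalizer_iff] at hg
    rw [hNQ, mem_normalizer_iff]
    intro x
    rw [hQ, mem_inf, mem_inf, ← hg x]
    constructor
    · rintro ⟨h1, h2⟩
      exact ⟨h1, hKn.conj_mem x h2 g⟩
    · rintro ⟨h1, h2⟩
      refine ⟨h1, ?_⟩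
      have := hKn.conj_mem _ h2 g⁻¹
      simpa [mul_assoc] using this
  -- 2. NP ≤ NH
  have hNPH : NP ≤ NH := by
    have e : H = ((P : Subgroup G).map (QuotientGroup.mk' K)).comap (QuotientGroup.mk' K) := by
      rw [Subgroup.comap_map_eq, QuotientGroup.ker_mk']
    rw [hNH, e, ← Subgroup.comap_normalizer_eq_of_surjective _ (QuotientGroup.mk'_surjective K)]
    intro g hg
    rw [mem_comap]
    exact Subgroup.le_normalizer_map _ (mem_map_of_mem _ hg)
  have hPH : (P : Subgroup G) ≤ H := le_sup_left
  have hKH : K ≤ H := le_sup_right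
  have hNH' : N ≤ H := hN ▸ inf_le_left
  have hPN : (P : Subgroup G) ≤ N := by
    rw [hN]
    exact le_inf hPH (le_normalizer.trans hNPQ)
  have hHNH : H ≤ NH := le_normalizer
  -- counts
  have c1 : Nat.card (Sylow p G) = NP.index := P.card_eq_index_normalizer
  have c2 : Nat.card (Sylow p (G ⧸ K)) = NH.index := card_sylow_quotient P K
  have c3 : Nat.card (Sylow p K) = NQ.relIndex K := card_sylow_normal P K
  have c4 : Nat.card (Sylow p (N ⧸ Q.subgroupOf N)) = NP.relIndex N := by
    rw [card_sylow_quotient_pgroup (Q.subgroupOf N)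
      ((P.isPGroup'.to_le (inf_le_left : Q ≤ P)).comap_subtype), card_sylow_of_le P N hPN]
  -- 8. relative Frattini: NH = H ⊔ NP
  have f1 : NP.relIndex NH = NP.relIndex H := by
    have hnorm : (H.subgroupOf NH).Normal :=
      (Subgroup.normal_subgroupOf_iff_le_normalizer hHNH).2 le_rfl
    have hPNH : (P : Subgroup G) ≤ NH := hPH.trans hHNH
    have hle : ((P.subtype hPNH : Sylow p NH) : Subgroup NH) ≤ H.subgroupOf NH := by
      rw [Sylow.coe_subtype]
      exact Subgroup.comap_mono hPH
    have key := Sylow.normalizer_sup_eq_top' (P.subtype hPNH) hle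
    have e : normalizer ((P.subtype hPNH : Sylow p NH) : Set NH) =
        normalizer (((P : Subgroup G).subgroupOf NH : Subgroup NH) : Set NH) := rfl
    rw [e, ← Subgroup.subgroupOf_normalizer_eq hPNH, ← Subgroup.subgroupOf_sup hNPH hHNH,
      Subgroup.subgroupOf_eq_top] at key
    have hEq : NH = H ⊔ NP := le_antisymm (by rw [sup_comm]; exact key) (sup_le hHNH hNPH)
    have h1 : NP.relIndex (H ⊔ NP) = NP.relIndex H :=
      relIndex_sup_of_le_normalizer' (A := H) (B := NP) hNPH
    rw [← h1, ← hEq]
  -- 9. N.relIndex H = NQ.relIndex K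
  have f2 : N.relIndex H = NQ.relIndex K := by
    have key := Sylow.normalizer_sup_eq_top (sylowInfNormal P K)
    have e : ((sylowInfNormal P K : Sylow p K) : Subgroup K).map K.subtype = Q := by
      rw [coe_sylowInfNormal, Subgroup.subgroupOf_map_subtype, inf_assoc, inf_idem]
    rw [e] at key
    have hHle : H ≤ K ⊔ N := by
      intro h hh
      have hmem : h ∈ ((NQ ⊔ K : Subgroup G) : Set G) := by
        rw [hNQ, key]; exact mem_top h
      rw [Subgroup.mul_normal] at hmem
      obtain ⟨n, hn, k, hk, rfl⟩ := hmem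
      have hnH : n ∈ H := by
        have : n = n * k * k⁻¹ := by group
        rw [this]
        exact H.mul_mem hh (H.inv_mem (hKH hk))
      have hnN : n ∈ N := by
        rw [hN]; exact ⟨hnH, hn⟩
      exact mul_mem (mem_sup_right hnN) (mem_sup_left hk)
    have hEq : H = K ⊔ N := le_antisymm hHle (sup_le hKH hNH')
    have h1 : N.relIndex (K ⊔ N) = N.relIndex K :=
      relIndex_sup_of_le_normalizer' (A := K) (B := N) (by rw [normalizer_eq_top]; exact le_top)
    rw [hEq, h1, ← Subgroup.inf_relIndex_right N K, ← Subgroup.inf_relIndex_right NQ K]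
    congr 1
    rw [hN, inf_comm H, inf_assoc, inf_of_le_right hKH]
  -- 10. arithmetic
  have a1 : NP.relIndex NH * NH.index = NP.index := Subgroup.relIndex_mul_index hNPH
  have a2 : (NP ⊓ H).relIndex N * N.relIndex H = (NP ⊓ H).relIndex H := by
    apply Subgroup.relIndex_mul_relIndex _ _ _ _ hNH'
    rw [hN]
    exact le_inf inf_le_right (inf_le_left.trans hNPQ)
  have a3 : (NP ⊓ H).relIndex H = NP.relIndex H := Subgroup.inf_relIndex_right NP H
  have a4 : (NP ⊓ H).relIndex N = NP.relIndex N := by
    rw [← Subgroup.inf_relIndex_right (NP ⊓ H) N, inf_assoc, inf_of_le_right hNH',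
      Subgroup.inf_relIndex_right]
  rw [c1, c2, c3, c4, ← a1, f1, ← a3, ← a2, a4, f2]
  ring

end Cfsg.Agent.S4341
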