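import Cfsg.Statements.S4303
import Cfsg.Agent.S4341
import Cfsg.Agent.Lib.Helper23.SylowPNil

set_option autoImplicit false
universe u
open Cfsg

namespace Cfsg.Agent.S4303

open Subgroup Cfsg.Agent.Lib.Helper23

/-- admissible factor -/
def OK (p m : ℕ) : Prop :=
  (IsPrimePow m ∧ m % p = 1) ∨
    ∃ (S : Type u) (_ : Group S) (_ : Finite S), IsSimpleGroup S ∧ m = Nat.card (Sylow p S)

theorem primePow_list (p : ℕ) [Fact p.Prime] (n : ℕ) (hn : n ≠ 0)
    (h : ∀ q : ℕ, q.Prime → q ^ n.factorization q ≡ 1 [MOD p]) :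
    ∃ l : List ℕ, l.prod = n ∧ ∀ m ∈ l, OK.{u} p m := by
  refine ⟨n.primeFactors.toList.map (fun q => q ^ n.factorization q), ?_, ?_⟩
  · rw [Finset.prod_map_toList]
    have := Nat.prod_factorization_pow_eq_self hn
    rw [Finsupp.prod, Nat.support_factorization] at this
    exact this
  · intro m hm
    rw [List.mem_map] at hm
    obtain ⟨q, hq, rfl⟩ := hm
    rw [Finset.mem_toList] at hq
    have hqp : q.Prime := Nat.prime_of_mem_primeFactors hq
    left
    refine ⟨⟨q, n.factorization q, hqp.prime, ?_, rfl⟩, ?_⟩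
    · exact hqp.factorization_pos_of_dvd hn (Nat.dvd_of_mem_primeFactors hq)
    · have h1 := h q hqp
      have hp : p.Prime := Fact.out
      rw [Nat.ModEq, Nat.mod_eq_of_lt hp.one_lt] at h1
      exact h1

theorem main (p : ℕ) [Fact p.Prime] :
    ∀ (n : ℕ) (G : Type u) [Group G] [Finite G], Nat.card G = n →
      ∃ l : List ℕ, l.prod = Nat.card (Sylow p G) ∧ ∀ m ∈ l, OK.{u} p m := by
  intro n
  induction n using Nat.strong_induction_on with
  | _ n ih =>
  intro G _ _ hn
  by_cases hsub : Subsingleton G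
  · refine ⟨[], ?_, by simp⟩
    have P : Sylow p G := default
    have h1 : Nat.card (Sylow p G) ∣ 1 := by
      have hc : Nat.card G = 1 := Nat.card_unique
      rw [← hc]
      exact (P.card_dvd_index).trans (Subgroup.index_dvd_card _)
    rw [List.prod_nil, Nat.dvd_one.1 h1]
  have hnt : Nontrivial G := not_subsingleton_iff_nontrivial.1 hsub
  by_cases hsimple : IsSimpleGroup G
  · refine ⟨[Nat.card (Sylow p G)], by simp, ?_⟩
    intro m hm
    rw [List.mem_singleton] at hm
    right
    exact ⟨G, inferInstance, inferInstance, hsimple, hm⟩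
  obtain ⟨K, hKn, hKbot, hKtop⟩ : ∃ K : Subgroup G, K.Normal ∧ K ≠ ⊥ ∧ K ≠ ⊤ := by
    by_contra hcon
    push Not at hcon
    apply hsimple
    exact ⟨fun H hH => by
      by_cases h : H = ⊥
      · exact Or.inl h
      · exact Or.inr (hcon H hH h)⟩
  have P : Sylow p G := default
  set N : Subgroup G := ((P : Subgroup G) ⊔ K) ⊓
    normalizer ((((P : Subgroup G) ⊓ K : Subgroup G)) : Set G) with hN
  have hQN : (P : Subgroup G) ⊓ K ≤ N :=
    le_inf (inf_le_left.trans le_sup_left) le_normalizer
  have hnorm : (((P : Subgroup G) ⊓ K).subgroupOf N).Normal :=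
    (Subgroup.normal_subgroupOf_iff_le_normalizer hQN).2 inf_le_right
  have key := Cfsg.Agent.S4341.result p K P N hN
  have hKcard : 1 < Nat.card K := (Subgroup.one_lt_card_iff_ne_bot K).2 hKbot
  have hquot : Nat.card (G ⧸ K) < n := by
    rw [← hn, Subgroup.card_eq_card_quotient_mul_card_subgroup K]
    have : 0 < Nat.card (G ⧸ K) := Nat.card_pos
    nlinarith
  have hKlt : Nat.card K < n := by
    rw [← hn]
    exact lt_of_le_of_ne (Subgroup.card_le_card_group K)
      (fun h => hKtop ((Subgroup.card_eq_iff_eq_top K).1 h))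
  obtain ⟨l1, hl1, hl1'⟩ := ih _ hquot (G ⧸ K) rfl
  obtain ⟨l2, hl2, hl2'⟩ := ih _ hKlt K rfl
  by_cases hlt : Nat.card (N ⧸ ((P : Subgroup G) ⊓ K).subgroupOf N) < n
  · obtain ⟨l3, hl3, hl3'⟩ := ih _ hlt (N ⧸ ((P : Subgroup G) ⊓ K).subgroupOf N) rfl
    refine ⟨l1 ++ l2 ++ l3, ?_, ?_⟩
    · rw [List.prod_append, List.prod_append, hl1, hl2, hl3, key]
    · intro m hm
      rw [List.mem_append, List.mem_append] at hm
      rcases hm with (hm | hm) | hm
      · exact hl1' m hm
      · exact hl2' m hm
      · exact hl3' m hm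
  · -- the `p`-nilpotent case
    have e1 := Subgroup.card_eq_card_quotient_mul_card_subgroup
      (((P : Subgroup G) ⊓ K).subgroupOf N)
    have e2 : Nat.card N ≤ n := hn ▸ Subgroup.card_le_card_group N
    have hpos : 0 < Nat.card (((P : Subgroup G) ⊓ K).subgroupOf N) := Nat.card_pos
    have hNn : Nat.card N = n := by
      push Not at hlt
      have : Nat.card (N ⧸ ((P : Subgroup G) ⊓ K).subgroupOf N) ≤ Nat.card N := by
        rw [e1]; exact Nat.le_mul_of_pos_right _ hpos
      omega
    have hQ1 : Nat.card (((P : Subgroup G) ⊓ K).subgroupOf N) = 1 := by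
      push Not at hlt
      rw [hNn] at e1
      by_contra hne
      have h2 : 2 ≤ Nat.card (((P : Subgroup G) ⊓ K).subgroupOf N) := by omega
      have : 0 < Nat.card (N ⧸ ((P : Subgroup G) ⊓ K).subgroupOf N) := Nat.card_pos
      nlinarith
    have hNtop : N = ⊤ := (Subgroup.card_eq_iff_eq_top N).1 (hNn.trans hn.symm)
    have hPK : (P : Subgroup G) ⊔ K = ⊤ := by
      rw [eq_top_iff, ← hNtop]
      exact inf_le_left
    have hQ1' : Nat.card ((P : Subgroup G) ⊓ K : Subgroup G) = 1 := by
      rw [← hQ1]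
      exact Nat.card_congr (Subgroup.subgroupOfEquivOfLe hQN).toEquiv.symm
    have hpK : ¬ p ∣ Nat.card K := by
      have h1 := not_dvd_relIndex_inf_normal P K
      have h2 := relIndex_mul_card' (inf_le_right : (P : Subgroup G) ⊓ K ≤ K)
      rw [hQ1', mul_one] at h2
      rwa [h2] at h1
    have hn0 : Nat.card (Sylow p G) ≠ 0 := by
      have : Nonempty (Sylow p G) := Sylow.nonempty
      exact Nat.card_pos.ne'
    exact primePow_list p _ hn0 (fun q hq => pnil_pow_factorization_modEq_one P K hpK hPK q hq)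

/-- For a finite group `G` and a prime `p`, the number of Sylow `p`-subgroups of `G` is a product of natural numbers each of which is either a prime power congruent to 1 modulo `p` or the number of Sylow `p`-subgroups of some finite simple group. -/
theorem result {G : Type u} [Group G] [Finite G]
    (p : ℕ) [Fact p.Prime] :
    ∃ l : List ℕ, l.prod = Nat.card (Sylow p G) ∧
      ∀ m ∈ l, (IsPrimePow m ∧ m % p = 1) ∨
        ∃ (S : Type u) (_ : Group S) (_ : Finite S), IsSimpleGroup S ∧ m = Nat.card (Sylow p S) := by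
  exact main p _ G rfl

end Cfsg.Agent.S4303
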