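import Cfsg.Statements.S4305
import Cfsg.Agent.Lib.Helper7.S3Main

set_option autoImplicit false
open Cfsg

namespace Cfsg.Agent.S4305

/-- Let the symmetric group of degree 3 act by automorphisms on a finite solvable group `G` of order prime to 6, so that only the identity of `G` is fixed by all of it. Then the derived subgroup of `G` is nilpotent. -/
theorem result {G : Type*} [Group G] [Finite G] [Group.IsSolvable G]
    [MulDistribMulAction (Equiv.Perm (Fin 3)) G] (hcop : (Nat.card G).Coprime 6)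
    (hfpf : ∀ g : G, (∀ a : Equiv.Perm (Fin 3), a • g = g) → g = 1) :
    Group.IsNilpotent ↥(commutator G) := by
  obtain ⟨c, w, hc3, hw2, hcw, hall⟩ : ∃ c w : Equiv.Perm (Fin 3), c * c * c = 1 ∧ w * w = 1 ∧
      c * w * c = w ∧ ∀ a : Equiv.Perm (Fin 3),
        a = 1 ∨ a = c ∨ a = c * c ∨ a = w ∨ a = c * w ∨ a = c * c * w :=
    ⟨Equiv.swap 0 1 * Equiv.swap 1 2, Equiv.swap 0 1, by decide, by decide, by decide, by decide⟩
  let σ : MulAut G := MulDistribMulAction.toMulAut (Equiv.Perm (Fin 3)) G c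
  let τ : MulAut G := MulDistribMulAction.toMulAut (Equiv.Perm (Fin 3)) G w
  have hσ : ∀ g : G, σ g = c • g := fun g => rfl
  have hτ : ∀ g : G, τ g = w • g := fun g => rfl
  apply Cfsg.Agent.Lib.Helper7.S3W.derived_nilpotent_aux (Nat.card G) G σ τ rfl
  · intro g
    rw [hσ, hσ, hσ, ← mul_smul, ← mul_smul, hc3, one_smul]
  · intro g
    rw [hτ, hτ, ← mul_smul, hw2, one_smul]
  · intro g
    rw [hσ, hτ, hσ, hτ, ← mul_smul, ← mul_smul, hcw]
  · infer_instance
  · exact hcop
  · intro g hσg hτg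
    rw [hσ] at hσg
    rw [hτ] at hτg
    apply hfpf
    intro a
    rcases hall a with rfl | rfl | rfl | rfl | rfl | rfl
    · exact one_smul _ g
    · exact hσg
    · rw [mul_smul, hσg, hσg]
    · exact hτg
    · rw [mul_smul, hτg, hσg]
    · rw [mul_smul, mul_smul, hτg, hσg, hσg]

end Cfsg.Agent.S4305
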