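import Cfsg.Statements.S4309

set_option autoImplicit false
open Cfsg

namespace Cfsg.Agent.S4309

theorem relIndex_mul_card {G : Type*} [Group G] {H K : Subgroup G} (h : H ≤ K) :
    H.relIndex K * Nat.card H = Nat.card K := by
  rw [Subgroup.relIndex, ← Subgroup.index_mul_card (H.subgroupOf K)]
  congr 1
  exact Nat.card_congr (Subgroup.subgroupOfEquivOfLe h).toEquiv.symm

theorem normal_case {G : Type*} [Group G] [Finite G] (N K : Subgroup G) [N.Normal] :
    (N ⊓ K).relIndex N ∣ K.index := by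
  have h1 : N.relIndex (K ⊔ N) = N.relIndex K := Subgroup.relIndex_sup_right K N
  have e1 := relIndex_mul_card (le_sup_right : N ≤ K ⊔ N)
  have e2 := relIndex_mul_card (le_sup_left : K ≤ K ⊔ N)
  have e3 := relIndex_mul_card (inf_le_left : N ⊓ K ≤ N)
  have e4 := relIndex_mul_card (inf_le_right : N ⊓ K ≤ K)
  rw [h1, ← Subgroup.inf_relIndex_right] at e1
  have hc : 0 < Nat.card (N ⊓ K : Subgroup G) := Nat.card_pos
  have hb : 0 < (N ⊓ K).relIndex K := by
    rcases Nat.eq_zero_or_pos ((N ⊓ K).relIndex K) with h0 | h0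
    · rw [h0, zero_mul] at e4
      have : 0 < Nat.card K := Nat.card_pos
      omega
    · exact h0
  have key : K.relIndex (K ⊔ N) = (N ⊓ K).relIndex N := by
    have : K.relIndex (K ⊔ N) * ((N ⊓ K).relIndex K * Nat.card (N ⊓ K : Subgroup G)) =
        (N ⊓ K).relIndex N * ((N ⊓ K).relIndex K * Nat.card (N ⊓ K : Subgroup G)) := by
      rw [e4, e2, ← e1, ← e3, ← e4]; ring
    exact Nat.eq_of_mul_eq_mul_right (Nat.mul_pos hb hc) this
  rw [← key]
  exact Subgroup.relIndex_dvd_index_of_le le_sup_left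

/-- Let `π` be a set of primes, `G` a finite group with a Hall `π`-subgroup `H` (every prime divisor of the order of `H` lies in `π` and no prime of `π` divides its index), and `A` a normal subgroup of `G`. Then `H ∩ A` is a Hall `π`-subgroup of `A` and the image of `H` in `G/A` is a Hall `π`-subgroup of `G/A`. -/
theorem result {G : Type*} [Group G] [Finite G] (π : Set ℕ)
    (H A : Subgroup G) [A.Normal] (hH : Cfsg.IsPiHall π H) :
    Cfsg.IsPiHall π ((H ⊓ A).subgroupOf A) ∧ Cfsg.IsPiHall π (H.map (QuotientGroup.mk' A)) := by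
  obtain ⟨h1, h2⟩ := hH
  refine ⟨⟨?_, ?_⟩, ⟨?_, ?_⟩⟩
  · intro p hp hdvd
    apply h1 p hp
    have e : Nat.card ((H ⊓ A).subgroupOf A) = Nat.card (H ⊓ A : Subgroup G) :=
      Nat.card_congr (Subgroup.subgroupOfEquivOfLe (inf_le_right : H ⊓ A ≤ A)).toEquiv
    rw [e] at hdvd
    exact hdvd.trans (Subgroup.card_dvd_of_le inf_le_left)
  · intro p hp hpπ hdvd
    apply h2 p hp hpπ
    have : ((H ⊓ A).subgroupOf A).index = (A ⊓ H).relIndex A := by
      rw [inf_comm]; rfl
    rw [this] at hdvd
    exact hdvd.trans (normal_case A H)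
  · intro p hp hdvd
    exact h1 p hp (hdvd.trans (Subgroup.card_map_dvd _ _))
  · intro p hp hpπ hdvd
    apply h2 p hp hpπ
    exact hdvd.trans (Subgroup.index_map_dvd H (QuotientGroup.mk'_surjective A))

end Cfsg.Agent.S4309
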