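import Cfsg.Statements.S4314

set_option autoImplicit false
open Cfsg

namespace Cfsg.Agent.S4314

universe u

open scoped commutatorElement

section LemmaQ

variable {Q : Type u} [Group Q]

theorem le_normalizer_of_conj_mem {I B : Subgroup Q}
    (h : ∀ s ∈ I, ∀ b ∈ B, s * b * s⁻¹ ∈ B) : I ≤ Subgroup.normalizer (B : Set Q) := by
  intro s hs
  rw [Subgroup.mem_normalizer_iff]
  intro b
  constructor
  · exact h s hs b
  · intro hb
    have h1 := h s⁻¹ (I.inv_mem hs) _ hb
    rw [inv_inv] at h1
    have h2 : s⁻¹ * (s * b * s⁻¹) * s = b := by group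
    rwa [h2] at h1

theorem eq_top_of_index_prime {p : ℕ} (hp : p.Prime) {M L : Subgroup Q} (hM : M.index = p)
    (hML : M ≤ L) (hne : ¬ L ≤ M) : L = ⊤ := by
  have h1 : L.index ∣ M.index := Subgroup.index_dvd_of_le hML
  rw [hM] at h1
  rcases (Nat.dvd_prime hp).mp h1 with h | h
  · exact Subgroup.index_eq_one.mp h
  · exfalso
    apply hne
    have h2 := Subgroup.relIndex_mul_index hML
    rw [h, hM] at h2
    have h3 : M.relIndex L = 1 :=
      Nat.eq_of_mul_eq_mul_right hp.pos (by rw [one_mul]; exact h2)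
    exact Subgroup.relIndex_eq_one.mp h3

/-- a group with a core-free nonnormal subgroup of prime index `p`, all of whose class sizes
are `1` or prime, is nonabelian of order `pq` -/
theorem quotient_structure [Finite Q] (p : ℕ) [hp : Fact p.Prime]
    (h1 : Nat.card Q ∣ p.factorial) (M : Subgroup Q) (h2 : M.index = p)
    (h3 : ∀ D : Subgroup Q, D.Normal → D ≤ M → D = ⊥) (h4 : M ≠ ⊥)
    (h5 : ∀ c : Q, (Subgroup.centralizer ({c} : Set Q)).index = 1 ∨
      ((Subgroup.centralizer ({c} : Set Q)).index).Prime) :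
    Subgroup.center Q = ⊥ ∧ ∃ q : ℕ, q.Prime ∧ q ≠ p ∧ Nat.card Q = p * q := by
  have hZ : Subgroup.center Q = ⊥ := by
    have hZMn : (Subgroup.center Q ⊓ M).Normal := by
      constructor
      intro a ha g
      have h6 := Subgroup.mem_center_iff.mp ha.1 g
      rw [h6, mul_assoc, mul_inv_cancel, mul_one]
      exact ha
    have hZM : Subgroup.center Q ⊓ M = ⊥ := h3 _ hZMn inf_le_right
    by_contra hZne
    obtain ⟨⟨z, hz⟩, hz1⟩ := (Subgroup.ne_bot_iff_exists_ne_one).mp hZne
    have hz1' : z ≠ 1 := fun h => hz1 (Subtype.ext h)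
    have hzM : z ∉ M := by
      intro h
      have h6 : z ∈ Subgroup.center Q ⊓ M := ⟨hz, h⟩
      rw [hZM, Subgroup.mem_bot] at h6
      exact hz1' h6
    have hL : M ⊔ Subgroup.zpowers z = ⊤ := by
      apply eq_top_of_index_prime hp.out h2 le_sup_left
      intro h
      exact hzM (h (Subgroup.mem_sup_right (Subgroup.mem_zpowers z)))
    have hN : Subgroup.normalizer (M : Set Q) = ⊤ := by
      rw [eq_top_iff, ← hL]
      apply sup_le Subgroup.le_normalizer
      rw [Subgroup.zpowers_le, Subgroup.mem_normalizer_iff]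
      intro h
      have h6 := Subgroup.mem_center_iff.mp hz h
      rw [← h6, mul_assoc, mul_inv_cancel, mul_one]
    have hMn : M.Normal := Subgroup.normalizer_eq_top_iff.mp hN
    exact h4 (h3 M hMn le_rfl)
  refine ⟨hZ, ?_⟩
  have hpdvd : p ∣ Nat.card Q := by
    rw [← h2]; exact Subgroup.index_dvd_card M
  have hp2 : ¬ p ^ 2 ∣ Nat.card Q := by
    intro h
    have h6 : p ^ 2 ∣ p.factorial := h.trans h1
    obtain ⟨k, hk⟩ : ∃ k, p = k + 1 := ⟨p - 1, (Nat.succ_pred_eq_of_pos hp.out.pos).symm⟩
    have hkp : (k + 1).Prime := hk ▸ hp.out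
    rw [hk, Nat.factorial_succ, pow_two] at h6
    have h7 : k + 1 ∣ k.factorial := Nat.dvd_of_mul_dvd_mul_left (Nat.succ_pos k) h6
    have h8 := (Nat.Prime.dvd_factorial hkp).mp h7
    omega
  obtain ⟨P⟩ : Nonempty (Sylow p Q) := inferInstance
  have hPcard : Nat.card P = p := by
    obtain ⟨k, hk⟩ := IsPGroup.iff_card.mp P.isPGroup'
    have h6 : p ∣ Nat.card P := P.dvd_card_of_dvd_card hpdvd
    have h7 : Nat.card P ∣ Nat.card Q := Subgroup.card_subgroup_dvd_card _
    rw [hk] at h6 h7 ⊢
    have hk1 : k ≠ 0 := by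
      rintro rfl
      rw [pow_zero] at h6
      exact hp.out.one_lt.ne' (Nat.dvd_one.mp h6)
    have hk2 : k < 2 := by
      by_contra hge
      push Not at hge
      exact hp2 ((pow_dvd_pow p hge).trans h7)
    have hk3 : k = 1 := by omega
    rw [hk3, pow_one]
  have hgen : ∀ y ∈ (P : Subgroup Q), y ≠ 1 → (P : Subgroup Q) ≤ Subgroup.zpowers y := by
    intro y hy hy1
    have h6 : Subgroup.zpowers y ≤ P := by
      rw [Subgroup.zpowers_le]; exact hy
    have h7 : orderOf y ∣ p := by
      have h8 := orderOf_dvd_natCard (⟨y, hy⟩ : (P : Subgroup Q))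
      rwa [← Subgroup.orderOf_coe, hPcard] at h8
    have h9 : orderOf y = p := by
      rcases (Nat.dvd_prime hp.out).mp h7 with h | h
      · exact absurd (orderOf_eq_one_iff.mp h) hy1
      · exact h
    have h10 : Subgroup.zpowers y = P := by
      apply Subgroup.eq_of_le_of_card_ge h6
      rw [Nat.card_zpowers, h9, hPcard]
    rw [h10]
  have hPnt : ∃ c ∈ (P : Subgroup Q), c ≠ 1 := by
    have h6 : 1 < Nat.card P := by rw [hPcard]; exact hp.out.one_lt
    have hnt : Nontrivial P := Finite.one_lt_card_iff_nontrivial.mp h6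
    obtain ⟨c, hc⟩ := exists_ne (1 : P)
    exact ⟨c, c.2, fun h => hc (Subtype.ext h)⟩
  obtain ⟨c, hcP, hc1⟩ := hPnt
  have hPc : (P : Subgroup Q) ≤ Subgroup.zpowers c := hgen c hcP hc1
  obtain ⟨C, hCdef⟩ : ∃ C : Subgroup Q, C = Subgroup.centralizer {c} := ⟨_, rfl⟩
  have hCmem : ∀ x, x ∈ C ↔ x * c = c * x := by
    intro x
    rw [hCdef, Subgroup.mem_centralizer_singleton_iff]
  have hCP : ∀ x ∈ C, ∀ y ∈ (P : Subgroup Q), x * y = y * x := by
    intro x hx y hy
    obtain ⟨i, rfl⟩ := Subgroup.mem_zpowers_iff.mp (hPc hy)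
    have h6 : Commute x c := (hCmem x).mp hx
    exact h6.zpow_right i
  have hPC : (P : Subgroup Q) ≤ C := by
    intro y hy
    rw [hCmem]
    obtain ⟨i, rfl⟩ := Subgroup.mem_zpowers_iff.mp (hPc hy)
    exact (Commute.refl c).zpow_left i
  have hCidx : (C.index).Prime := by
    rcases h5 c with h | h
    · exfalso
      rw [← hCdef, Subgroup.index_eq_one] at h
      have h6 : c ∈ Subgroup.center Q := by
        rw [Subgroup.mem_center_iff]
        intro g
        have h7 : g ∈ C := by rw [h]; exact Subgroup.mem_top g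
        exact (hCmem g).mp h7
      rw [hZ, Subgroup.mem_bot] at h6
      exact hc1 h6
    · rw [hCdef]; exact h
  have hCN : C ≤ Subgroup.normalizer ((P : Subgroup Q) : Set Q) := by
    apply le_normalizer_of_conj_mem
    intro x hx y hy
    rw [hCP x hx y hy, mul_assoc, mul_inv_cancel, mul_one]
    exact hy
  have hnp : Nat.card (Sylow p Q) = (Subgroup.normalizer ((P : Subgroup Q) : Set Q)).index :=
    Sylow.card_eq_index_normalizer P
  have hmod := card_sylow_modEq_one p Q
  have hrel := Subgroup.relIndex_mul_index hCN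
  have hNidx : (Subgroup.normalizer ((P : Subgroup Q) : Set Q)).index = 1 := by
    have h6 : (Subgroup.normalizer ((P : Subgroup Q) : Set Q)).index ∣ C.index :=
      Dvd.intro_left _ hrel
    rcases (Nat.dvd_prime hCidx).mp h6 with h | h
    · exact h
    · exfalso
      rw [hnp, h] at hmod
      have h7 : C.index ∣ p.factorial := (Subgroup.index_dvd_card C).trans h1
      have h8 : C.index ≤ p := (Nat.Prime.dvd_factorial hCidx).mp h7
      have h9 : C.index % p = 1 % p := hmod
      rw [Nat.mod_eq_of_lt hp.out.one_lt] at h9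
      rcases Nat.lt_or_ge C.index p with hlt | hge
      · rw [Nat.mod_eq_of_lt hlt] at h9
        exact hCidx.one_lt.ne' h9
      · have h10 : C.index = p := le_antisymm h8 hge
        rw [h10, Nat.mod_self] at h9
        exact zero_ne_one h9
  have hPn : (P : Subgroup Q).Normal :=
    Subgroup.normalizer_eq_top_iff.mp (Subgroup.index_eq_one.mp hNidx)
  have hcM : c ∉ M := by
    intro h
    have h6 : (P : Subgroup Q) ≤ M := by
      intro y hy
      obtain ⟨i, rfl⟩ := Subgroup.mem_zpowers_iff.mp (hPc hy)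
      exact M.zpow_mem h i
    have h7 := h3 _ hPn h6
    rw [h7, Subgroup.mem_bot] at hcP
    exact hc1 hcP
  have hPM : (P : Subgroup Q) ⊔ M = ⊤ := by
    rw [sup_comm]
    apply eq_top_of_index_prime hp.out h2 le_sup_left
    intro h
    exact hcM (h (Subgroup.mem_sup_right hcP))
  have hCn : ∀ x ∈ C, ∀ g : Q, g * x * g⁻¹ ∈ C := by
    intro x hx g
    rw [hCmem]
    have h6 : g⁻¹ * c * g ∈ (P : Subgroup Q) := by
      have h0 := hPn.conj_mem c hcP g⁻¹
      rwa [inv_inv] at h0
    have h7 := hCP x hx _ h6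
    calc g * x * g⁻¹ * c = g * (x * (g⁻¹ * c * g)) * g⁻¹ := by group
      _ = g * ((g⁻¹ * c * g) * x) * g⁻¹ := by rw [h7]
      _ = c * (g * x * g⁻¹) := by group
  have hD : C ⊓ M = ⊥ := by
    apply h3 _ _ inf_le_right
    constructor
    intro d hd g
    have hg : g ∈ (((P : Subgroup Q) ⊔ M : Subgroup Q) : Set Q) := by
      rw [hPM]; exact Set.mem_univ g
    rw [Subgroup.normal_mul] at hg
    obtain ⟨y, hy, m, hm, rfl⟩ := Set.mem_mul.mp hg
    have h6 : m * d * m⁻¹ ∈ C ⊓ M :=
      ⟨hCn d hd.1 m, M.mul_mem (M.mul_mem hm hd.2) (M.inv_mem hm)⟩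
    have h7 := hCP _ h6.1 y hy
    have h8 : y * m * d * (y * m)⁻¹ = m * d * m⁻¹ := by
      calc y * m * d * (y * m)⁻¹ = (y * (m * d * m⁻¹)) * y⁻¹ := by group
        _ = ((m * d * m⁻¹) * y) * y⁻¹ := by rw [h7]
        _ = m * d * m⁻¹ := by group
    rw [h8]
    exact h6
  have hCleP : C ≤ (P : Subgroup Q) := by
    intro x hx
    have hg : x ∈ (((P : Subgroup Q) ⊔ M : Subgroup Q) : Set Q) := by
      rw [hPM]; exact Set.mem_univ x
    rw [Subgroup.normal_mul] at hg
    obtain ⟨y, hy, m, hm, rfl⟩ := Set.mem_mul.mp hg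
    have h6 : m ∈ C ⊓ M := by
      refine ⟨?_, hm⟩
      have h7 : m = y⁻¹ * (y * m) := by group
      rw [h7]
      exact C.mul_mem (C.inv_mem (hPC hy)) hx
    rw [hD, Subgroup.mem_bot] at h6
    rw [h6, mul_one]
    exact hy
  have hCeq : C = (P : Subgroup Q) := le_antisymm hCleP hPC
  have hCcard : Nat.card C = p := by rw [hCeq]; exact hPcard
  have hQcard : Nat.card Q = p * C.index := by
    rw [← Subgroup.card_mul_index C, hCcard]
  refine ⟨C.index, hCidx, ?_, hQcard⟩
  intro h
  apply hp2
  rw [hQcard, h, pow_two]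

end LemmaQ

section Main

variable {G : Type u} [Group G] [Finite G]

omit [Finite G] in
theorem index_centralizer_mk_dvd (K : Subgroup G) [K.Normal] (g : G) :
    (Subgroup.centralizer ({(QuotientGroup.mk g : G ⧸ K)} : Set (G ⧸ K))).index ∣
      ((Subgroup.centralizer ({g} : Set G)).map (QuotientGroup.mk' K)).index := by
  apply Subgroup.index_dvd_of_le
  rintro _ ⟨x, hx, rfl⟩
  have hx' : x ∈ Subgroup.centralizer ({g} : Set G) := hx
  rw [Subgroup.mem_centralizer_singleton_iff] at hx' ⊢
  change (QuotientGroup.mk x : G ⧸ K) * QuotientGroup.mk g = QuotientGroup.mk g * QuotientGroup.mk x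
  rw [← QuotientGroup.mk_mul, ← QuotientGroup.mk_mul, hx']

theorem case_normal (hall : ∀ x : G, (Subgroup.centralizer ({x} : Set G)).Normal)
    (h : ∀ x : G, (Subgroup.centralizer ({x} : Set G)).index = 1 ∨
      ((Subgroup.centralizer ({x} : Set G)).index).Prime) :
    Subgroup.upperCentralSeries G 2 = ⊤ := by
  rw [eq_top_iff]
  intro x _
  change x ∈ Subgroup.upperCentralSeries G (1 + 1)
  rw [Subgroup.mem_upperCentralSeries_succ_iff]
  intro y
  rw [Subgroup.upperCentralSeries_one, Subgroup.mem_center_iff]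
  intro z
  have hmem : ⁅x, y⁆ ∈ Subgroup.centralizer ({z} : Set G) := by
    have hn := hall z
    rcases h z with h1 | h1
    · rw [Subgroup.index_eq_one.mp h1]
      exact Subgroup.mem_top _
    · have hcard : Nat.card (G ⧸ Subgroup.centralizer ({z} : Set G)) =
          (Subgroup.centralizer ({z} : Set G)).index := (Subgroup.index_eq_card _).symm
      have hpf : Fact ((Subgroup.centralizer ({z} : Set G)).index).Prime := ⟨h1⟩
      have hcyc : IsCyclic (G ⧸ Subgroup.centralizer ({z} : Set G)) :=
        isCyclic_of_prime_card hcard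
      rw [← QuotientGroup.eq_one_iff, commutatorElement_def, QuotientGroup.mk_mul,
        QuotientGroup.mk_mul, QuotientGroup.mk_mul, QuotientGroup.mk_inv, QuotientGroup.mk_inv,
        mul_comm' (QuotientGroup.mk x : G ⧸ Subgroup.centralizer ({z} : Set G))
          (QuotientGroup.mk y)]
      group
  exact (Subgroup.mem_centralizer_singleton_iff.mp hmem).symm

theorem case_nonnormal
    (h : ∀ x : G, (Subgroup.centralizer ({x} : Set G)).index = 1 ∨
      ((Subgroup.centralizer ({x} : Set G)).index).Prime)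
    (x : G) (hx : ¬ (Subgroup.centralizer ({x} : Set G)).Normal) :
    ∃ p q : ℕ, p.Prime ∧ q.Prime ∧ p ≠ q ∧ Nat.card (G ⧸ Subgroup.center G) = p * q ∧
      ¬ IsMulCommutative (G ⧸ Subgroup.center G) := by
  obtain ⟨M, hMdef⟩ : ∃ M : Subgroup G, M = Subgroup.centralizer ({x} : Set G) := ⟨_, rfl⟩
  have hMn : ¬ M.Normal := by rw [hMdef]; exact hx
  have hMidx : (M.index).Prime := by
    rcases h x with h1 | h1
    · exfalso
      apply hx
      rw [Subgroup.index_eq_one.mp h1]
      infer_instance
    · rw [hMdef]; exact h1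
  obtain ⟨p, hpdef⟩ : ∃ p, p = M.index := ⟨_, rfl⟩
  have hp : p.Prime := hpdef ▸ hMidx
  have hpf : Fact p.Prime := ⟨hp⟩
  obtain ⟨K, hKdef⟩ : ∃ K : Subgroup G, K = M.normalCore := ⟨_, rfl⟩
  have hKn : K.Normal := by rw [hKdef]; infer_instance
  have hKM : K ≤ M := by rw [hKdef]; exact Subgroup.normalCore_le M
  have hKcore : ∀ D : Subgroup G, D.Normal → D ≤ M → D ≤ K := by
    intro D hD hDM
    rw [hKdef]
    exact Subgroup.normal_le_normalCore.mpr hDM
  obtain ⟨π, hπdef⟩ : ∃ π : G →* G ⧸ K, π = QuotientGroup.mk' K := ⟨_, rfl⟩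
  have hπs : Function.Surjective π := by rw [hπdef]; exact QuotientGroup.mk'_surjective K
  have hπker : π.ker = K := by rw [hπdef]; exact QuotientGroup.ker_mk' K
  have h1 : Nat.card (G ⧸ K) ∣ p.factorial := by
    have e1 : K = (MulAction.toPermHom G (G ⧸ M)).ker := by
      rw [hKdef]; exact Subgroup.normalCore_eq_ker M
    have e2 : K.index = Nat.card (MulAction.toPermHom G (G ⧸ M)).range := by
      rw [e1]; exact Subgroup.index_ker _
    have e3 : Nat.card (MulAction.toPermHom G (G ⧸ M)).range ∣
        Nat.card (Equiv.Perm (G ⧸ M)) := Subgroup.card_subgroup_dvd_card _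
    rw [Nat.card_perm, ← Subgroup.index_eq_card, ← hpdef] at e3
    rw [← Subgroup.index_eq_card, e2]
    exact e3
  obtain ⟨Mb, hMbdef⟩ : ∃ Mb : Subgroup (G ⧸ K), Mb = M.map π := ⟨_, rfl⟩
  have h2 : Mb.index = p := by
    have hkerM : π.ker ≤ M := by rw [hπker]; exact hKM
    rw [hMbdef, Subgroup.index_map_eq M hπs hkerM, hpdef]
  have hcomap : Mb.comap π = M := by
    rw [hMbdef, Subgroup.comap_map_eq, hπker, sup_eq_left.mpr hKM]
  have h3 : ∀ D : Subgroup (G ⧸ K), D.Normal → D ≤ Mb → D = ⊥ := by
    intro D hD hDM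
    have e1 : D.comap π ≤ K := by
      apply hKcore _ (hD.comap π)
      rw [← hcomap]
      exact Subgroup.comap_mono hDM
    rw [eq_bot_iff]
    intro d hd
    obtain ⟨g, rfl⟩ := hπs d
    have e2 : g ∈ K := e1 hd
    rw [Subgroup.mem_bot, ← MonoidHom.mem_ker, hπker]
    exact e2
  have h4 : Mb ≠ ⊥ := by
    intro hMb
    apply hMn
    have e1 : M = K := by
      rw [← hcomap, hMb, MonoidHom.comap_bot, hπker]
    rw [e1]
    exact hKn
  have h5 : ∀ c : G ⧸ K, (Subgroup.centralizer ({c} : Set (G ⧸ K))).index = 1 ∨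
      ((Subgroup.centralizer ({c} : Set (G ⧸ K))).index).Prime := by
    intro c
    obtain ⟨g, rfl⟩ := hπs c
    have e1 : (Subgroup.centralizer ({π g} : Set (G ⧸ K))).index ∣
        (Subgroup.centralizer ({g} : Set G)).index := by
      have e0 := index_centralizer_mk_dvd K g
      rw [hπdef]
      exact e0.trans (Subgroup.index_map_dvd _ (QuotientGroup.mk'_surjective K))
    rcases h g with e2 | e2
    · left
      rw [e2] at e1
      exact Nat.dvd_one.mp e1
    · rcases (Nat.dvd_prime e2).mp e1 with e3 | e3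
      · exact Or.inl e3
      · right
        rw [e3]
        exact e2
  obtain ⟨hZQ, q, hq, hqp, hcard⟩ := quotient_structure p h1 Mb h2 h3 h4 h5
  have hKZ : K ≤ Subgroup.center G := by
    have key : ∀ g : G, g ∉ K → K ≤ Subgroup.centralizer ({g} : Set G) := by
      intro g hg
      obtain ⟨H, hHdef⟩ : ∃ H : Subgroup G, H = Subgroup.centralizer ({g} : Set G) := ⟨_, rfl⟩
      rw [← hHdef]
      have e0 : π g ≠ 1 := by
        intro h0
        apply hg
        rw [← hπker]
        exact h0
      have e1 : (Subgroup.centralizer ({π g} : Set (G ⧸ K))).index ≠ 1 := by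
        intro h0
        rw [Subgroup.index_eq_one] at h0
        have h6 : π g ∈ Subgroup.center (G ⧸ K) := by
          rw [Subgroup.mem_center_iff]
          intro y
          have hy : y ∈ Subgroup.centralizer ({π g} : Set (G ⧸ K)) := by
            rw [h0]; exact Subgroup.mem_top y
          exact Subgroup.mem_centralizer_singleton_iff.mp hy
        rw [hZQ, Subgroup.mem_bot] at h6
        exact e0 h6
      have e2 : (Subgroup.centralizer ({π g} : Set (G ⧸ K))).index ∣ (H.map π).index := by
        rw [hHdef, hπdef]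
        exact index_centralizer_mk_dvd K g
      have e3 : (H.map π).index ∣ H.index := Subgroup.index_map_dvd _ hπs
      have e4 : (H.index).Prime := by
        rcases h g with e | e
        · exfalso
          rw [← hHdef] at e
          rw [e] at e3
          rw [Nat.dvd_one.mp e3] at e2
          exact e1 (Nat.dvd_one.mp e2)
        · rw [hHdef]; exact e
      have e5 : (H.map π).index = H.index := by
        rcases (Nat.dvd_prime e4).mp e3 with e | e
        · exfalso
          rw [e] at e2
          exact e1 (Nat.dvd_one.mp e2)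
        · exact e
      rw [Subgroup.index_map, MonoidHom.range_eq_top_of_surjective π hπs, Subgroup.index_top,
        mul_one, hπker] at e5
      have e6 := Subgroup.relIndex_mul_index (le_sup_left : H ≤ H ⊔ K)
      rw [e5] at e6
      have e7 : H.relIndex (H ⊔ K) = 1 :=
        Nat.eq_of_mul_eq_mul_right e4.pos (by rw [one_mul]; exact e6)
      exact le_sup_right.trans (Subgroup.relIndex_eq_one.mp e7)
    obtain ⟨g₀, hg₀⟩ : ∃ g₀ : G, g₀ ∉ K := by
      by_contra hall
      push Not at hall
      apply hMn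
      have e1 : M = ⊤ := eq_top_iff.mpr (fun g _ => hKM (hall g))
      rw [e1]
      infer_instance
    intro k hk
    rw [Subgroup.mem_center_iff]
    intro g
    by_cases hg : g ∈ K
    · have hgg₀ : g * g₀ ∉ K := by
        intro h0
        apply hg₀
        have h6 := K.mul_mem (K.inv_mem hg) h0
        rwa [inv_mul_cancel_left] at h6
      have c1 := Subgroup.mem_centralizer_singleton_iff.mp (key _ hgg₀ hk)
      have c2 := Subgroup.mem_centralizer_singleton_iff.mp (key _ hg₀ hk)
      have h6 : g * k * g₀ = k * g * g₀ := by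
        calc g * k * g₀ = g * (k * g₀) := by rw [mul_assoc]
          _ = g * (g₀ * k) := by rw [c2]
          _ = (g * g₀) * k := by rw [mul_assoc]
          _ = k * (g * g₀) := c1.symm
          _ = k * g * g₀ := by rw [mul_assoc]
      exact mul_right_cancel h6
    · exact (Subgroup.mem_centralizer_singleton_iff.mp (key g hg hk)).symm
  have hZK : Subgroup.center G ≤ K := by
    intro z hz
    have h6 : π z ∈ Subgroup.center (G ⧸ K) := by
      rw [Subgroup.mem_center_iff]
      intro y
      obtain ⟨g, rfl⟩ := hπs y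
      rw [← map_mul, ← map_mul, Subgroup.mem_center_iff.mp hz g]
    rw [hZQ, Subgroup.mem_bot] at h6
    rw [← hπker]
    exact h6
  have hKeq : Subgroup.center G = K := le_antisymm hZK hKZ
  obtain ⟨e⟩ : Nonempty ((G ⧸ Subgroup.center G) ≃* (G ⧸ K)) :=
    ⟨QuotientGroup.quotientMulEquivOfEq hKeq⟩
  refine ⟨p, q, hp, hq, hqp.symm, ?_, ?_⟩
  · rw [Nat.card_congr e.toEquiv, hcard]
  · intro hcomm
    have hc : ∀ a b : G ⧸ K, a * b = b * a := by
      intro a b
      have h6 := mul_comm' (e.symm a) (e.symm b)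
      have h7 := congrArg e h6
      rwa [map_mul, map_mul, e.apply_symm_apply, e.apply_symm_apply] at h7
    have htop : Subgroup.center (G ⧸ K) = ⊤ := by
      rw [eq_top_iff]
      intro a _
      rw [Subgroup.mem_center_iff]
      intro b
      exact hc b a
    rw [hZQ] at htop
    have h6 : Nat.card (G ⧸ K) = 1 := by
      rw [← Subgroup.card_top (G := G ⧸ K), ← htop, Subgroup.card_bot]
    rw [hcard] at h6
    have h7 := hp.two_le
    have h8 := hq.two_le
    nlinarith

end Main

end Cfsg.Agent.S4314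

namespace Cfsg.Agent.S4314

/-- Let `G` be a finite group every conjugacy class of which has size 1 or a prime. Then either `G` is nilpotent of class at most 2, or `G/Z(G)` is a non-abelian group of order `pq` for distinct primes `p, q` (a Frobenius group of order `pq`). -/
theorem result {G : Type*} [Group G] [Finite G]
    (h : ∀ x : G, (Subgroup.centralizer ({x} : Set G)).index = 1 ∨ ((Subgroup.centralizer ({x} : Set G)).index).Prime) :
    Subgroup.upperCentralSeries G 2 = ⊤ ∨
      ∃ p q : ℕ, p.Prime ∧ q.Prime ∧ p ≠ q ∧ Nat.card (G ⧸ Subgroup.center G) = p * q ∧ ¬ IsMulCommutative (G ⧸ Subgroup.center G) := by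
  by_cases hall : ∀ x : G, (Subgroup.centralizer ({x} : Set G)).Normal
  · exact Or.inl (case_normal hall h)
  · push Not at hall
    obtain ⟨x, hx⟩ := hall
    exact Or.inr (case_nonnormal h x hx)

end Cfsg.Agent.S4314
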