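import Cfsg.Statements.S4320
import Cfsg.Agent.Lib.Helper1.PIT

set_option autoImplicit false
open Cfsg

namespace Cfsg.Agent.S4320

/-- The Principal Ideal Theorem of class field theory in its group-theoretic form: for every finite group `G`, the transfer homomorphism from `G` into the abelianization `G'/G''` of its derived subgroup `G'` is the trivial homomorphism. -/
theorem result {G : Type*} [Group G] [Finite G] :
    MonoidHom.transfer (Abelianization.of : ↥(commutator G) →* Abelianization ↥(commutator G)) =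
      (1 : G →* Abelianization ↥(commutator G)) := by
  classical
  ext g
  rw [MonoidHom.one_apply]
  set H : Subgroup G := commutator G with hH
  set ϕ : ↥H →* Abelianization ↥H := Abelianization.of with hϕ
  let u : G ⧸ H → G := Quotient.out
  have hu : ∀ q : G ⧸ H, ((u q : G) : G ⧸ H) = q := fun q => QuotientGroup.out_eq' q
  let T : H.LeftTransversal := ⟨Set.range u, Subgroup.isComplement_range_left hu⟩
  have hT : ∀ q : G ⧸ H, ((T.2.leftQuotientEquiv q : G)) = u q := fun q =>
    Subgroup.IsComplement.leftQuotientEquiv_apply hu q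
  -- the extension by zero of ϕ
  let ψ : G → Additive (Abelianization ↥H) := fun x =>
    if h : x ∈ H then Additive.ofMul (ϕ ⟨x, h⟩) else 0
  have hψ : ∀ x y : G, x ∈ H → y ∈ H → ψ (x * y) = ψ x + ψ y := by
    intro x y hx hy
    simp only [ψ, dif_pos hx, dif_pos hy, dif_pos (H.mul_mem hx hy)]
    rw [← ofMul_mul, ← map_mul]
    rfl
  let π : G →* Abelianization G := Abelianization.of
  have hπu : ∀ q : Abelianization G, π (u q) = q := fun q => hu q
  have hmem : ∀ (g : G) (q : Abelianization G), (u q)⁻¹ * g * u ((π g)⁻¹ * q) ∈ H := by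
    intro g q
    rw [hH, ← Abelianization.ker_of, MonoidHom.mem_ker, map_mul, map_mul, map_inv]
    change (π (u q))⁻¹ * π g * π (u ((π g)⁻¹ * q)) = 1
    rw [hπu, hπu]
    rw [mul_comm (π g)⁻¹ q, ← mul_assoc, mul_assoc q⁻¹, mul_comm (π g), mul_assoc, mul_assoc,
      mul_inv_cancel, mul_one, inv_mul_cancel]
  let d : G → Abelianization G → Additive (Abelianization ↥H) := fun g q =>
    ψ ((u q)⁻¹ * g * u ((π g)⁻¹ * q))
  have hd : H1PIT.IsDeriv π d := by
    intro a b
    funext q
    rw [Pi.add_apply, H1PIT.single_smul_apply, one_smul]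
    change ψ ((u q)⁻¹ * (a * b) * u ((π (a * b))⁻¹ * q)) =
      ψ ((u q)⁻¹ * a * u ((π a)⁻¹ * q)) + ψ ((u ((π a)⁻¹ * q))⁻¹ * b * u ((π b)⁻¹ * ((π a)⁻¹ * q)))
    rw [← hψ _ _ (hmem a q) (hmem b _)]
    congr 1
    rw [map_mul, mul_inv_rev, mul_assoc (π b)⁻¹]
    group
  letI inst1 : Fintype (G ⧸ H) := H.fintypeQuotientOfFiniteIndex
  letI inst2 : Fintype (Abelianization G) := inst1
  have hsum := H1PIT.sum_eq_zero_of_isDeriv d hd g
  rw [MonoidHom.transfer_def ϕ T g]
  unfold Subgroup.leftTransversals.diff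
  have hprod : ∀ q : G ⧸ H,
      (ϕ ⟨((T.2.leftQuotientEquiv q : G))⁻¹ * ((g • T).2.leftQuotientEquiv q : G),
        QuotientGroup.leftRel_apply.mp <| Quotient.exact'
          ((T.2.leftQuotientEquiv.symm_apply_apply q).trans
            ((g • T).2.leftQuotientEquiv.symm_apply_apply q).symm)⟩) =
      Additive.toMul (d g q) := by
    intro q
    have h1 : ((T.2.leftQuotientEquiv q : G))⁻¹ * ((g • T).2.leftQuotientEquiv q : G) =
        (u q)⁻¹ * g * u ((π g)⁻¹ * @id (Abelianization G) q) := by
      rw [Subgroup.smul_apply_eq_smul_apply_inv_smul, hT, hT, smul_eq_mul, mul_assoc]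
      rfl
    simp only [d, ψ, dif_pos (hmem g q)]
    rw [toMul_ofMul]
    congr 1
    exact Subtype.ext h1
  have hfin : (∏ q : G ⧸ H, Additive.toMul (d g q)) = 1 := by
    rw [← toMul_sum]
    exact (congrArg Additive.toMul hsum).trans toMul_zero
  exact (Finset.prod_congr rfl (fun q _ => hprod q)).trans hfin

end Cfsg.Agent.S4320
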