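import Cfsg.Statements.S4325

set_option autoImplicit false
open Cfsg

namespace Cfsg.Agent.S4325

open Equiv Equiv.Perm Subgroup

/-- A transitive-like subgroup generated by `m` transpositions on `r` points needs `r ≤ m + 1`. -/
theorem card_le_of_transitive {r m : ℕ} (t : Fin m → Perm (Fin r)) (ht : ∀ i, (t i).IsSwap)
    (htr : ∀ u v : Fin r, ∃ h ∈ closure (Set.range t), h u = v) (hr : 0 < r) : r ≤ m + 1 := by
  classical
  choose xs ys hxy using ht
  let e : Fin m → Sym2 (Fin r) := fun i => s(xs i, ys i)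
  let Γ : SimpleGraph (Fin r) := SimpleGraph.fromEdgeSet (Set.range e)
  have hreach : ∀ h ∈ closure (Set.range t), ∀ v, Γ.Reachable v (h v) := by
    intro h hh
    induction hh using closure_induction with
    | mem s hs =>
      obtain ⟨i, rfl⟩ := hs
      intro v
      rw [(hxy i).2]
      by_cases h1 : v = xs i
      · subst h1
        rw [swap_apply_left]
        apply SimpleGraph.Adj.reachable
        rw [SimpleGraph.fromEdgeSet_adj]
        exact ⟨⟨i, rfl⟩, (hxy i).1⟩
      · by_cases h2 : v = ys i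
        · subst h2
          rw [swap_apply_right]
          apply SimpleGraph.Adj.reachable
          rw [SimpleGraph.fromEdgeSet_adj]
          exact ⟨⟨i, Sym2.eq_swap⟩, (hxy i).1.symm⟩
        · rw [swap_apply_of_ne_of_ne h1 h2]
    | one => intro v; exact SimpleGraph.Reachable.refl _
    | mul a b ha hb iha ihb =>
      intro v
      rw [Perm.mul_apply]
      exact (ihb v).trans (iha (b v))
    | inv a ha iha =>
      intro v
      have := iha (a⁻¹ v)
      have e : a (a⁻¹ v) = v := by
        rw [← Perm.mul_apply, mul_inv_cancel]; rfl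
      rw [e] at this
      exact this.symm
  have hconn : Γ.Connected := by
    have : Nonempty (Fin r) := ⟨⟨0, hr⟩⟩
    refine ⟨fun u v => ?_⟩
    obtain ⟨h, hh, rfl⟩ := htr u v
    exact hreach h hh u
  have h1 := hconn.card_vert_le_card_edgeSet_add_one
  rw [Nat.card_eq_fintype_card, Fintype.card_fin] at h1
  have h2 : Nat.card Γ.edgeSet ≤ m := by
    have hsub : Γ.edgeSet ⊆ Set.range e := by
      rw [SimpleGraph.edgeSet_fromEdgeSet]
      exact Set.sdiff_subset
    calc Nat.card Γ.edgeSet ≤ Nat.card (Set.range e) := Nat.card_mono (Set.toFinite _) hsub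
      _ ≤ Nat.card (Fin m) := Finite.card_range_le e
      _ = m := by rw [Nat.card_eq_fintype_card, Fintype.card_fin]
  omega

theorem part1 (r m : ℕ) (hr : r.Prime)
    (hm : m + 1 < r) (π : Set ℕ) (hπ : ∀ q : ℕ, q.Prime → q < r → q ∈ π)
    (t : Fin m → Equiv.Perm (Fin r)) (ht : ∀ i, (t i).IsSwap) :
    Cfsg.IsPiSubgroup π (Subgroup.closure (Set.range t)) := by
  classical
  intro q hq hqd
  have hle : q ≤ r := by
    have h1 : q ∣ Nat.card (Perm (Fin r)) := hqd.trans (Subgroup.card_subgroup_dvd_card _)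
    rw [Nat.card_eq_fintype_card, Fintype.card_perm, Fintype.card_fin] at h1
    exact (hq.dvd_factorial).1 h1
  rcases lt_or_eq_of_le hle with h | h
  · exact hπ q hq h
  · exfalso
    subst h
    have : Fact q.Prime := ⟨hq⟩
    obtain ⟨g, hg⟩ := exists_prime_orderOf_dvd_card' q hqd
    have hg' : orderOf (g : Perm (Fin q)) = q := by rw [Subgroup.orderOf_coe]; exact hg
    have hcyc : (g : Perm (Fin q)).IsCycle := by
      apply isCycle_of_prime_order''
      · rw [Fintype.card_fin]; exact hq
      · rw [Fintype.card_fin]; exact hg'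
    have hsupp : (g : Perm (Fin q)).support = Finset.univ := by
      apply Finset.eq_univ_of_card
      rw [← hcyc.orderOf, hg', Fintype.card_fin]
    have hmem : ∀ x : Fin q, (g : Perm (Fin q)) x ≠ x := fun x =>
      Equiv.Perm.mem_support.1 (hsupp ▸ Finset.mem_univ x)
    have htr : ∀ u v : Fin q, ∃ h ∈ closure (Set.range t), h u = v := by
      intro u v
      obtain ⟨i, hi⟩ := hcyc.sameCycle (hmem u) (hmem v)
      exact ⟨(g : Perm (Fin q)) ^ i, zpow_mem g.2 i, hi⟩
    have := card_le_of_transitive t ht htr hq.pos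
    omega

theorem part2 (r : ℕ) (hr : r.Prime) (π : Set ℕ) (hrπ : r ∉ π) :
    Cfsg.piCore π (Equiv.Perm (Fin r)) = ⊥ := by
  classical
  unfold Cfsg.piCore
  rw [sSup_eq_bot]
  rintro N ⟨hN, hNπ⟩
  by_contra hne
  apply hrπ
  apply hNπ r hr
  obtain ⟨σ, hσ, hσ1⟩ : ∃ σ ∈ N, σ ≠ 1 := by
    obtain ⟨a, ha⟩ := (Subgroup.ne_bot_iff_exists_ne_one).1 hne
    exact ⟨(a : Perm (Fin r)), a.2, fun h1 => ha (Subtype.ext h1)⟩
  obtain ⟨x, hx⟩ : ∃ x, σ x ≠ x := by
    by_contra hcon
    push Not at hcon
    exact hσ1 (Equiv.ext hcon)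
  have htr : ∀ z : Fin r, ∃ τ ∈ N, τ x = z := by
    intro z
    by_cases hzx : z = x
    · exact ⟨1, one_mem _, by rw [hzx]; rfl⟩
    · by_cases hyz : σ x = z
      · exact ⟨σ, hσ, hyz⟩
      · refine ⟨swap (σ x) z * σ * (swap (σ x) z)⁻¹, hN.conj_mem σ hσ _, ?_⟩
        rw [swap_inv, Perm.mul_apply, Perm.mul_apply, swap_apply_of_ne_of_ne (Ne.symm hx) (Ne.symm hzx),
          swap_apply_left]
  have horb : MulAction.orbit N x = Set.univ := by
    ext z
    simp only [Set.mem_univ, iff_true]
    obtain ⟨τ, hτ, rfl⟩ := htr z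
    exact ⟨⟨τ, hτ⟩, rfl⟩
  have h1 := MulAction.index_stabilizer N x
  rw [horb, Set.ncard_univ, Nat.card_eq_fintype_card, Fintype.card_fin] at h1
  have h2 := Subgroup.index_dvd_card (MulAction.stabilizer N x)
  rw [h1] at h2
  exact h2

/-- Let r be a prime and m a natural number with m + 1 < r, and let π be a set of primes containing every prime below r but not r itself. Then in the symmetric group of degree r any m transpositions generate a π-subgroup, while O_π of the symmetric group is trivial. (So no bound on the number of conjugates that works for all π exists in the π-radical analogue of the Baer–Suzuki Theorem.) -/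
theorem result (r m : ℕ) (hr : r.Prime)
    (hm : m + 1 < r) (π : Set ℕ) (hπ : ∀ q : ℕ, q.Prime → q < r → q ∈ π) (hrπ : r ∉ π)
    (t : Fin m → Equiv.Perm (Fin r)) (ht : ∀ i, (t i).IsSwap) :
    Cfsg.IsPiSubgroup π (Subgroup.closure (Set.range t)) ∧ Cfsg.piCore π (Equiv.Perm (Fin r)) = ⊥ := by
  exact ⟨part1 r m hr hm π hπ t ht, part2 r hr π hrπ⟩

end Cfsg.Agent.S4325
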