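import Cfsg.Statements.S4326

set_option autoImplicit false
open Cfsg

namespace Cfsg.Agent.S4326

open scoped Pointwise

/-- the map induced on cosets by an automorphism fixing `M` elementwise -/
def qmap {G : Type*} [Group G] (M : Subgroup G) (y : MulAut G) (hy : ∀ m ∈ M, y m = m) :
    Function.End (G ⧸ M) :=
  Quotient.map' (fun g => y g) (by
    intro a b hab
    rw [QuotientGroup.leftRel_apply] at hab ⊢
    have := hy _ hab
    rw [map_mul, map_inv] at this
    rw [this]; exact hab)

theorem qmap_mk {G : Type*} [Group G] (M : Subgroup G) (y : MulAut G) (hy : ∀ m ∈ M, y m = m)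
    (g : G) : qmap M y hy (QuotientGroup.mk g) = QuotientGroup.mk (y g) := rfl

theorem qmap_pow {G : Type*} [Group G] (M : Subgroup G) (y : MulAut G) (hy : ∀ m ∈ M, y m = m)
    (n : ℕ) (g : G) : ((qmap M y hy) ^ n) (QuotientGroup.mk g) = QuotientGroup.mk ((y ^ n) g) := by
  induction n generalizing g with
  | zero => rfl
  | succ n ih =>
    rw [pow_succ]
    show (qmap M y hy ^ n) (qmap M y hy (QuotientGroup.mk g)) = _
    rw [qmap_mk, ih, pow_succ, MulAut.mul_apply]

/-- Let G be a finite group, p a prime, x an automorphism of G of p-power order and M the subgroup of fixed points of x. Suppose that p divides the index of M and that either M is self-normalizing or M has trivial center. Then some conjugate of M is mapped onto itself by x but is not fixed elementwise by x. -/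
theorem result {G : Type*} [Group G] [Finite G]
    (p : ℕ) [Fact p.Prime] (x : MulAut G) (hx : ∃ k : ℕ, orderOf x = p ^ k) (M : Subgroup G)
    (hM : ∀ g : G, g ∈ M ↔ x g = g) (hp : p ∣ M.index)
    (hself : Subgroup.normalizer (M : Set G) = M ∨ Subgroup.center M = ⊥) :
    ∃ g : G, (∀ y ∈ MulAut.conj g • M, x y ∈ MulAut.conj g • M) ∧ ∃ y ∈ MulAut.conj g • M, x y ≠ y := by
  classical
  obtain ⟨k, hk⟩ := hx
  have hy : ∀ m ∈ M, x m = m := fun m hm => (hM m).mp hm
  have : Fintype (G ⧸ M) := Fintype.ofFinite _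
  set f := qmap M x hy with hf
  have hfpow : f ^ p ^ k = 1 := by
    funext q
    induction q using QuotientGroup.induction_on with
    | H g =>
      rw [qmap_pow, ← hk, pow_orderOf_eq_one]; rfl
  have hmod := Equiv.Perm.card_fixedPoints_modEq (p := p) hfpow
  have hcard : Fintype.card (G ⧸ M) = M.index := by
    rw [Subgroup.index, Nat.card_eq_fintype_card]
  rw [hcard, Fintype.card_eq_nat_card] at hmod
  have hdvd : p ∣ Nat.card (Function.fixedPoints f) := by
    have := (Nat.modEq_zero_iff_dvd.mpr hp).symm.trans hmod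
    exact (Nat.modEq_zero_iff_dvd.mp this.symm)
  have h1fix : (QuotientGroup.mk (1 : G) : G ⧸ M) ∈ Function.fixedPoints f := by
    show f _ = _
    rw [hf, qmap_mk, map_one]
  have hlt : 1 < Nat.card (Function.fixedPoints f) := by
    have : Nonempty (Function.fixedPoints f) := ⟨⟨_, h1fix⟩⟩
    have hpos : 0 < Nat.card (Function.fixedPoints f) := Nat.card_pos
    have := Nat.le_of_dvd hpos hdvd
    have := (Fact.out : p.Prime).two_le
    omega
  have hnt : Nontrivial (Function.fixedPoints f) := Finite.one_lt_card_iff_nontrivial.mp hlt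
  obtain ⟨⟨q, hq⟩, hne⟩ := exists_ne (⟨_, h1fix⟩ : Function.fixedPoints f)
  induction q using QuotientGroup.induction_on with
  | H g =>
  have hgM : g ∉ M := by
    intro hg
    apply hne
    apply Subtype.ext
    show (QuotientGroup.mk g : G ⧸ M) = QuotientGroup.mk 1
    rw [QuotientGroup.eq]
    simpa using M.inv_mem hg
  have hc : g⁻¹ * x g ∈ M := by
    have h1 : f (QuotientGroup.mk g) = QuotientGroup.mk g := hq
    rw [hf, qmap_mk, QuotientGroup.eq] at h1
    have := M.inv_mem h1
    simpa using this
  have hmem : ∀ y : G, y ∈ MulAut.conj g • M ↔ g⁻¹ * y * g ∈ M := by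
    intro y
    rw [Subgroup.mem_pointwise_smul_iff_inv_smul_mem]
    simp only [MulAut.smul_def, MulAut.conj_inv_apply]
  have hxy : ∀ y : G, g⁻¹ * y * g ∈ M →
      g⁻¹ * x y * g = (g⁻¹ * x g) * (g⁻¹ * y * g) * (g⁻¹ * x g)⁻¹ := by
    intro y hyM
    have h1 : y = g * (g⁻¹ * y * g) * g⁻¹ := by group
    have h2 : x y = x g * (g⁻¹ * y * g) * (x g)⁻¹ := by
      conv_lhs => rw [h1]
      rw [map_mul, map_mul, map_inv, hy _ hyM]
    rw [h2]; group
  refine ⟨g, ?_, ?_⟩
  · intro y hyc
    rw [hmem] at hyc ⊢
    rw [hxy y hyc]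
    exact M.mul_mem (M.mul_mem hc hyc) (M.inv_mem hc)
  · by_contra hcon
    push Not at hcon
    -- conj g • M ≤ M
    have hle : MulAut.conj g • M ≤ M := fun y hyc => (hM y).mpr (hcon y hyc)
    -- c centralizes M
    have hcent : ∀ m ∈ M, (g⁻¹ * x g) * m = m * (g⁻¹ * x g) := by
      intro m hm
      have hyc : g * m * g⁻¹ ∈ MulAut.conj g • M := by
        rw [hmem]; simpa [mul_assoc] using hm
      have h1 := hcon _ hyc
      have h2 := hxy (g * m * g⁻¹) (by simpa [mul_assoc] using hm)
      rw [h1] at h2
      have h3 : g⁻¹ * (g * m * g⁻¹) * g = m := by group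
      rw [h3] at h2
      -- h2 : m = c * m * c⁻¹
      calc (g⁻¹ * x g) * m = ((g⁻¹ * x g) * m * (g⁻¹ * x g)⁻¹) * (g⁻¹ * x g) := by group
        _ = m * (g⁻¹ * x g) := by rw [← h2]
    rcases hself with hN | hZ
    · apply hgM
      rw [← hN]
      have heq : MulAut.conj g • M = M := by
        apply Subgroup.eq_of_le_of_card_ge hle
        exact le_of_eq (Nat.card_congr (Subgroup.equivSMul (MulAut.conj g) M).toEquiv)
      rw [Subgroup.mem_normalizer_iff]
      intro n
      rw [← Subgroup.smul_mem_pointwise_smul_iff (a := MulAut.conj g) (S := M), heq]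
      simp [MulAut.smul_def]
    · have hcz : (⟨g⁻¹ * x g, hc⟩ : M) ∈ Subgroup.center M := by
        rw [Subgroup.mem_center_iff]
        intro m
        apply Subtype.ext
        exact (hcent m.1 m.2).symm
      rw [hZ, Subgroup.mem_bot] at hcz
      have h1 : g⁻¹ * x g = 1 := congrArg Subtype.val hcz
      apply hgM
      rw [hM]
      have : x g = g * (g⁻¹ * x g) := by group
      rw [this, h1, mul_one]

end Cfsg.Agent.S4326
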