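import Cfsg.Statements.S4331
import Cfsg.Agent.Lib.Helper23.FrobeniusConstruct
import Cfsg.Agent.Lib.Helper1.Nilpotent
import Cfsg.Agent.Lib.Helper1.Cores

set_option autoImplicit false
open Cfsg

namespace Cfsg.Agent.S4331

open Cfsg.Agent.Lib.Helper23 SemidirectProduct Multiplicative

/-- Hypotheses on the nine-element field. -/
class NineField (F : Type) [Field F] : Prop where
  char3 : CharP F 3
  fin : Finite F
  pow9 : ∀ x : F, x ^ 9 = x
  exists_not_fixed : ∃ v : F, v ^ 3 ≠ v

section construction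

variable (F : Type) [Field F] [hF : NineField F]

instance : CharP F 3 := hF.char3
instance : Finite F := hF.fin

theorem cube_add (x y : F) : (x + y) ^ 3 = x ^ 3 + y ^ 3 := add_pow_char x y 3

variable {F} in
theorem cube_cube (x : F) : (x ^ 3) ^ 3 = x := by rw [← pow_mul]; exact hF.pow9 x

/-- Multiplication by a unit, as an automorphism of `Multiplicative F`. -/
noncomputable def mC : Fˣ →* MulAut (Multiplicative F) := distribMulAut Fˣ F

/-- The Frobenius map, as an automorphism of `Multiplicative F`. -/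
noncomputable def sig : MulAut (Multiplicative F) where
  toFun n := ofAdd ((toAdd n) ^ 3)
  invFun n := ofAdd ((toAdd n) ^ 3)
  left_inv n := by simp [cube_cube]
  right_inv n := by simp [cube_cube]
  map_mul' x y := by
    simp only [toAdd_mul, cube_add, ofAdd_add]

variable {F}

@[simp] theorem mC_apply (c : Fˣ) (n : Multiplicative F) : mC F c n = ofAdd ((c : F) * toAdd n) := rfl
@[simp] theorem sig_apply (n : Multiplicative F) : sig F n = ofAdd ((toAdd n) ^ 3) := rfl

theorem sig_mul_sig : sig F * sig F = 1 := by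
  ext n
  simp [cube_cube]

theorem sig_mul_mC (c : Fˣ) : sig F * mC F c = mC F (c ^ 3) * sig F := by
  ext n
  simp only [MulAut.mul_apply, mC_apply, sig_apply, toAdd_ofAdd, mul_pow, Units.val_pow_eq_pow_val]

/-- The group `ΓL(1, F)` of semilinear maps `x ↦ c x` and `x ↦ c x ^ 3`. -/
noncomputable def T (F : Type) [Field F] [hF : NineField F] : Subgroup (MulAut (Multiplicative F)) where
  carrier := {t | ∃ c : Fˣ, t = mC F c ∨ t = mC F c * sig F}
  one_mem' := ⟨1, Or.inl (map_one _).symm⟩
  mul_mem' := by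
    rintro a b ⟨c, rfl | rfl⟩ ⟨d, rfl | rfl⟩
    · exact ⟨c * d, Or.inl (map_mul _ _ _).symm⟩
    · exact ⟨c * d, Or.inr (by rw [map_mul, mul_assoc])⟩
    · refine ⟨c * d ^ 3, Or.inr ?_⟩
      rw [mul_assoc, sig_mul_mC, ← mul_assoc, ← map_mul]
    · refine ⟨c * d ^ 3, Or.inl ?_⟩
      rw [mul_assoc, ← mul_assoc (sig F), sig_mul_mC, mul_assoc, sig_mul_sig, mul_one, ← map_mul]
  inv_mem' := by
    rintro a ⟨c, rfl | rfl⟩
    · exact ⟨c⁻¹, Or.inl (map_inv _ _).symm⟩
    · refine ⟨(c⁻¹) ^ 3, Or.inr ?_⟩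
      rw [mul_inv_rev, ← map_inv, ← sig_mul_mC]
      congr 1

/-- Multiplication by a unit, as an element of `T`. -/
noncomputable def mCT (c : Fˣ) : T F := ⟨mC F c, c, Or.inl rfl⟩

/-- The Frobenius, as an element of `T`. -/
noncomputable def sigT : T F := ⟨sig F, 1, Or.inr (by rw [map_one, one_mul])⟩

theorem unit_pow_eight (c : Fˣ) : c ^ 8 = 1 := by
  apply Units.ext
  rw [Units.val_pow_eq_pow_val, Units.val_one]
  have h := hF.pow9 (c : F)
  have h2 : (c : F) * ((c : F) ^ 8 - 1) = 0 := by
    rw [mul_sub, mul_one, ← pow_succ']; exact sub_eq_zero.mpr h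
  rcases mul_eq_zero.mp h2 with h3 | h3
  · exact absurd h3 c.ne_zero
  · exact sub_eq_zero.mp h3

theorem T_pow_eight (t : T F) : t ^ 8 = 1 := by
  obtain ⟨τ, c, rfl | rfl⟩ := t
  · apply Subtype.ext
    change (mC F c) ^ 8 = 1
    rw [← map_pow, unit_pow_eight, map_one]
  · apply Subtype.ext
    change (mC F c * sig F) ^ 8 = 1
    have h2 : (mC F c * sig F) ^ 2 = mC F (c ^ 4) := by
      rw [pow_two, mul_assoc, ← mul_assoc (sig F), sig_mul_mC, mul_assoc, sig_mul_sig, mul_one,
        ← map_mul]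
      congr 1
      rw [← pow_succ']
    rw [show 8 = 2 * 4 from rfl, pow_mul, h2, ← map_pow, ← pow_mul, show 4 * 4 = 8 * 2 from rfl,
      pow_mul, unit_pow_eight, one_pow, map_one]

/-- The group `AΓL(1, F) = F ⋊ ΓL(1, F)`. -/
abbrev Gp (F : Type) [Field F] [hF : NineField F] : Type :=
  Multiplicative F ⋊[(T F).subtype] (T F)

theorem conj_inl (w v : F) (t : T F) :
    (inl (ofAdd w) : Gp F) * ⟨ofAdd v, t⟩ * (inl (ofAdd w))⁻¹ =
      ⟨ofAdd (w + v - toAdd ((t : MulAut (Multiplicative F)) (ofAdd w))), t⟩ := by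
  apply SemidirectProduct.ext
  · simp only [mul_left, mul_right, inv_left, inv_right, left_inl, right_inl, map_one, inv_one,
      MulAut.one_apply, one_mul, Subgroup.coe_subtype]
    rw [map_inv, sub_eq_add_neg, ofAdd_add, ofAdd_add, ofAdd_neg, ofAdd_toAdd]
  · simp

theorem conj_inr (s : T F) (n : Multiplicative F) (t : T F) :
    (inr s : Gp F) * ⟨n, t⟩ * (inr s)⁻¹ = ⟨(s : MulAut (Multiplicative F)) n, s * t * s⁻¹⟩ := by
  apply SemidirectProduct.ext
  · simp
  · simp

theorem commute_sig (u : F) (hu : u ^ 3 = u) (t : T F) (ht : sigT * t = t * sigT) :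
    Commute (inr sigT : Gp F) ⟨ofAdd u, t⟩ := by
  apply SemidirectProduct.ext
  · simp only [mul_left, left_inr, right_inr, one_mul, Subgroup.coe_subtype, map_one]
    rw [mul_one]
    change ofAdd (u ^ 3) = ofAdd u
    rw [hu]
  · simp only [mul_right, right_inr]
    exact ht

theorem three_eq_zero : (3 : F) = 0 := by
  have := CharP.cast_eq_zero F 3
  exact_mod_cast this

theorem cube_sub (x y : F) : (x - y) ^ 3 = x ^ 3 - y ^ 3 := sub_pow_char x y (p := 3)

theorem T_cases (t : T F) : (∃ c, t = mCT c) ∨ (∃ c, t = mCT c * sigT) := by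
  obtain ⟨τ, c, rfl | rfl⟩ := t
  · exact Or.inl ⟨c, rfl⟩
  · exact Or.inr ⟨c, rfl⟩

@[simp] theorem coe_mCT (c : Fˣ) : ((mCT c : T F) : MulAut (Multiplicative F)) = mC F c := rfl
@[simp] theorem coe_sigT : ((sigT : T F) : MulAut (Multiplicative F)) = sig F := rfl

theorem exists_rep (g : Gp F) :
    ∃ g' : Gp F, IsConj g g' ∧ ((∃ t, g' = inr t) ∨ Commute (inr sigT : Gp F) g') := by
  obtain ⟨n, t⟩ := g
  obtain ⟨v, hv⟩ : ∃ v : F, ofAdd v = n := ⟨toAdd n, rfl⟩
  subst hv
  rcases T_cases t with ⟨c, rfl⟩ | ⟨c, rfl⟩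
  · -- multiplication by c
    by_cases hc : c = 1
    · subst hc
      have ht1 : (mCT 1 : T F) = 1 := Subtype.ext (map_one _)
      rw [ht1]
      by_cases hv : v = 0
      · refine ⟨⟨ofAdd v, 1⟩, IsConj.refl _, Or.inr ?_⟩
        exact commute_sig v (by rw [hv]; ring) 1 (by rw [mul_one, one_mul])
      · refine ⟨⟨ofAdd 1, 1⟩, ?_, Or.inr (commute_sig 1 (one_pow 3) 1 (by rw [mul_one, one_mul]))⟩
        rw [isConj_iff]
        refine ⟨inr (mCT (Units.mk0 v hv)⁻¹), ?_⟩
        rw [conj_inr]
        apply SemidirectProduct.ext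
        · change ofAdd ((((Units.mk0 v hv)⁻¹ : Fˣ) : F) * v) = ofAdd 1
          rw [Units.val_inv_eq_inv_val, Units.val_mk0, inv_mul_cancel₀ hv]
        · change mCT _ * 1 * (mCT _)⁻¹ = 1
          rw [mul_one, mul_inv_cancel]
    · -- c ≠ 1: conjugate to inr t
      have hc1 : (c : F) - 1 ≠ 0 := fun h => hc (Units.ext (sub_eq_zero.mp h))
      refine ⟨inr (mCT c), ?_, Or.inl ⟨_, rfl⟩⟩
      rw [isConj_iff]
      refine ⟨inl (ofAdd (v / ((c : F) - 1))), ?_⟩
      rw [conj_inl]
      apply SemidirectProduct.ext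
      · change ofAdd (v / (↑c - 1) + v - ↑c * (v / (↑c - 1))) = 1
        rw [← ofAdd_zero]
        congr 1
        field_simp
        ring
      · rfl
  · -- x ↦ c x ^ 3
    by_cases hfix : ∃ w₀ : F, w₀ ≠ 0 ∧ (c : F) * w₀ ^ 3 = w₀
    · obtain ⟨w₀, hw0, hw⟩ := hfix
      have hcd : (c : F) * w₀ ^ 2 = 1 := by
        have h1 : w₀ * ((c : F) * w₀ ^ 2 - 1) = 0 := by linear_combination hw
        rcases mul_eq_zero.mp h1 with h2 | h2
        · exact absurd h2 hw0
        · exact sub_eq_zero.mp h2
      have hceq : (c : F) = (w₀ ^ 2)⁻¹ := eq_inv_of_mul_eq_one_left hcd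
      set v' : F := w₀⁻¹ * v with hv'
      have step1 : IsConj (⟨ofAdd v, mCT c * sigT⟩ : Gp F) ⟨ofAdd v', sigT⟩ := by
        rw [isConj_iff]
        refine ⟨inr (mCT (Units.mk0 w₀ hw0)⁻¹), ?_⟩
        rw [conj_inr]
        apply SemidirectProduct.ext
        · change ofAdd ((((Units.mk0 w₀ hw0)⁻¹ : Fˣ) : F) * v) = ofAdd v'
          rw [Units.val_inv_eq_inv_val, Units.val_mk0]
        · change mCT _ * _ * (mCT _)⁻¹ = sigT
          rw [mul_inv_eq_iff_eq_mul]
          apply Subtype.ext
          change mC F _ * (mC F c * sig F) = sig F * mC F _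
          ext n
          simp only [MulAut.mul_apply, mC_apply, sig_apply, toAdd_ofAdd, Units.val_inv_eq_inv_val,
            Units.val_mk0]
          rw [hceq]
          field_simp
      have step2 : IsConj (⟨ofAdd v', sigT⟩ : Gp F) ⟨ofAdd (v' + v' - v' ^ 3), sigT⟩ := by
        rw [isConj_iff]
        refine ⟨inl (ofAdd v'), ?_⟩
        rw [conj_inl]
        rfl
      refine ⟨_, step1.trans step2, Or.inr ?_⟩
      apply commute_sig _ _ _ rfl
      rw [cube_sub, cube_add, cube_cube]
      linear_combination (v' ^ 3 - v') * (three_eq_zero (F := F))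
    · -- no nonzero fixed point: `w ↦ w - c w ^ 3` is bijective
      push Not at hfix
      have hinj : Function.Injective (fun w : F => w - (c : F) * w ^ 3) := by
        intro w₁ w₂ h
        simp only at h
        by_contra hne
        have hd : w₁ - w₂ ≠ 0 := sub_ne_zero.mpr hne
        apply hfix (w₁ - w₂) hd
        rw [cube_sub]
        linear_combination (-1 : F) * h
      have hsurj := Finite.injective_iff_surjective.mp hinj
      obtain ⟨w, hw⟩ := hsurj (-v)
      simp only at hw
      refine ⟨inr (mCT c * sigT), ?_, Or.inl ⟨_, rfl⟩⟩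
      rw [isConj_iff]
      refine ⟨inl (ofAdd w), ?_⟩
      rw [conj_inl]
      apply SemidirectProduct.ext
      · change ofAdd (w + v - (c : F) * w ^ 3) = 1
        rw [← ofAdd_zero]
        congr 1
        linear_combination hw
      · rfl

theorem subnormal_of_rep (g' : Gp F)
    (h : (∃ t, g' = inr t) ∨ Commute (inr sigT : Gp F) g') :
    ((Subgroup.zpowers (inr sigT : Gp F)).subgroupOf
      (Subgroup.zpowers (inr sigT : Gp F) ⊔ Subgroup.zpowers g')).IsSubnormal := by
  set a : Gp F := inr sigT with ha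
  set K := Subgroup.zpowers a ⊔ Subgroup.zpowers g' with hK
  rcases h with ⟨t, rfl⟩ | hcomm
  · have hKle : K ≤ (inr : T F →* Gp F).range := by
      rw [hK, sup_le_iff, Subgroup.zpowers_le, Subgroup.zpowers_le]
      exact ⟨⟨sigT, rfl⟩, ⟨t, rfl⟩⟩
    have hp : IsPGroup 2 K := by
      intro x
      refine ⟨3, ?_⟩
      obtain ⟨s, hs⟩ := hKle x.2
      apply Subtype.ext
      rw [Subgroup.coe_pow, ← hs]
      norm_num
      rw [← map_pow, T_pow_eight, map_one]
    have hfin : Finite K := inferInstance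
    have hnil : Group.IsNilpotent K := hp.isNilpotent
    exact (Cfsg.Agent.Lib.Helper1.isNilpotent_iff_forall_isSubnormal.mp hnil) _
  · apply Subgroup.Normal.isSubnormal
    have hKc : K ≤ Subgroup.centralizer {a} := by
      rw [hK, sup_le_iff, Subgroup.zpowers_le, Subgroup.zpowers_le]
      constructor
      · exact Subgroup.mem_centralizer_singleton_iff.mpr rfl
      · exact Subgroup.mem_centralizer_singleton_iff.mpr hcomm.eq.symm
    constructor
    intro n hn x
    rw [Subgroup.mem_subgroupOf] at hn ⊢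
    obtain ⟨k, hk⟩ := Subgroup.mem_zpowers_iff.mp hn
    have hx : Commute (x : Gp F) a := Subgroup.mem_centralizer_singleton_iff.mp (hKc x.2)
    have h1 : (x : Gp F) * n * (x : Gp F)⁻¹ = n := by
      rw [← hk]
      exact mul_inv_eq_iff_eq_mul.mpr (hx.zpow_right k).eq
    rw [Subgroup.coe_mul, Subgroup.coe_mul, Subgroup.coe_inv, h1]
    exact hn

theorem sigT_ne_one : (sigT : T F) ≠ 1 := by
  obtain ⟨v, hv⟩ := hF.exists_not_fixed
  intro h
  apply hv
  have h1 : ((sigT : T F) : MulAut (Multiplicative F)) (ofAdd v) = ofAdd v := by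
    rw [h]; rfl
  exact h1

theorem main (F : Type) [Field F] [hF : NineField F] :
    ∃ (G : Type) (_ : Group G) (_ : Finite G) (A : Subgroup G), Group.IsSolvable G ∧ Nat.card A = 2 ∧
      (∀ c : G, ∃ g : G, IsConj c g ∧ (A.subgroupOf (A ⊔ Subgroup.zpowers g)).IsSubnormal) ∧
      ¬ A ≤ Cfsg.pCore 2 G := by
  have hfinN : Finite (Multiplicative F) := inferInstanceAs (Finite F)
  have hfinT : Finite (T F) := inferInstance
  have hfinG : Finite (Gp F) := Finite.of_equiv _ (SemidirectProduct.equivProd (φ := (T F).subtype)).symm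
  have hTp : IsPGroup 2 (T F) := fun t => ⟨3, by norm_num; exact T_pow_eight t⟩
  have hTnil : Group.IsNilpotent (T F) := hTp.isNilpotent
  refine ⟨Gp F, inferInstance, hfinG, Subgroup.zpowers (inr sigT), ?_, ?_, ?_, ?_⟩
  · exact Group.isSolvable_of_ker_le_range (inl : Multiplicative F →* Gp F) rightHom
      range_inl_eq_ker_rightHom.ge
  · rw [Nat.card_zpowers]
    apply orderOf_eq_prime
    · rw [← map_pow]
      have : (sigT : T F) ^ 2 = 1 := by
        apply Subtype.ext
        change sig F ^ 2 = 1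
        rw [pow_two, sig_mul_sig]
      rw [this, map_one]
    · intro h
      exact sigT_ne_one (inr_injective (by rw [h, map_one]))
  · intro c
    obtain ⟨g', hconj, hg'⟩ := exists_rep c
    exact ⟨g', hconj, subnormal_of_rep g' hg'⟩
  · intro hle
    have ha : (inr sigT : Gp F) ∈ Cfsg.pCore 2 (Gp F) := hle (Subgroup.mem_zpowers _)
    obtain ⟨v, hv⟩ := hF.exists_not_fixed
    have hnorm : (Cfsg.pCore 2 (Gp F)).Normal := Cfsg.Agent.Lib.Helper1.pCore_normal 2
    set z : Gp F := inr sigT * inl (ofAdd v) * (inr sigT)⁻¹ * (inl (ofAdd v))⁻¹ with hz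
    have hzmem : z ∈ Cfsg.pCore 2 (Gp F) := by
      rw [hz, mul_assoc, mul_assoc]
      apply mul_mem ha
      rw [← mul_assoc]
      exact hnorm.conj_mem _ (inv_mem ha) _
    have hzeq : z = inl (ofAdd (v ^ 3 - v)) := by
      rw [hz, ← map_inv inr, ← inl_aut, ← map_inv, ← map_mul]
      congr 1
      change ofAdd (v ^ 3) * (ofAdd v)⁻¹ = ofAdd (v ^ 3 - v)
      rw [sub_eq_add_neg, ofAdd_add, ofAdd_neg]
    have hz3 : z ^ 3 = 1 := by
      rw [hzeq, ← map_pow, ← ofAdd_nsmul, nsmul_eq_mul]
      have : ((3 : ℕ) : F) = 0 := CharP.cast_eq_zero F 3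
      rw [this, zero_mul, ofAdd_zero, map_one]
    obtain ⟨k, hk⟩ := (Cfsg.Agent.Lib.Helper1.pCore_isPGroup 2) ⟨z, hzmem⟩
    have hk' : z ^ 2 ^ k = 1 := by
      have := congrArg Subtype.val hk
      simpa using this
    have h1 : orderOf z ∣ 3 := orderOf_dvd_of_pow_eq_one hz3
    have h2 : orderOf z ∣ 2 ^ k := orderOf_dvd_of_pow_eq_one hk'
    have h3 : orderOf z = 1 := by
      have hcop : Nat.Coprime 3 (2 ^ k) := Nat.Coprime.pow_right k (by norm_num)
      exact Nat.eq_one_of_dvd_coprimes hcop h1 h2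
    rw [orderOf_eq_one_iff, hzeq] at h3
    have h4 : ofAdd (v ^ 3 - v) = (1 : Multiplicative F) := inl_injective (by rw [h3, map_one])
    have h5 : v ^ 3 - v = 0 := h4
    exact hv (sub_eq_zero.mp h5)

end construction

section galois

open Polynomial

theorem nineField_of_card (K : Type) [Field K] [Finite K] [CharP K 3] (hK : Nat.card K = 9) :
    NineField K := by
  classical
  have hfin : Fintype K := Fintype.ofFinite K
  have hcard : Fintype.card K = 9 := by rw [← Nat.card_eq_fintype_card, hK]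
  refine ⟨inferInstance, inferInstance, fun x => ?_, ?_⟩
  · have := FiniteField.pow_card x
    rwa [hcard] at this
  · by_contra hcon
    push Not at hcon
    have hdeg : (X ^ 3 - X : K[X]).natDegree = 3 :=
      FiniteField.X_pow_card_sub_X_natDegree_eq _ (by norm_num)
    have hne : (X ^ 3 - X : K[X]) ≠ 0 := by
      intro h
      rw [h, natDegree_zero] at hdeg
      norm_num at hdeg
    have hsub : (Finset.univ : Finset K) ⊆ (X ^ 3 - X : K[X]).roots.toFinset := by
      intro x _
      rw [Multiset.mem_toFinset, mem_roots hne]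
      simp [hcon x]
    have h1 := Finset.card_le_card hsub
    have h2 := Multiset.toFinset_card_le (X ^ 3 - X : K[X]).roots
    have h3 := card_roots' (X ^ 3 - X : K[X])
    rw [Finset.card_univ, hcard] at h1
    omega

instance nineField_galois : NineField (GaloisField 3 2) :=
  nineField_of_card _ (by rw [GaloisField.card 3 2 (by norm_num)]; norm_num)

end galois

/-- There is a finite solvable group G with a subgroup A of order 2 such that every conjugacy class of G contains an element g for which A is subnormal in the subgroup generated by A and g, and yet A is not contained in O_2(G). (So the corresponding criteria for odd primes fail at the prime 2, even for solvable groups.) -/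
theorem result :
    ∃ (G : Type) (_ : Group G) (_ : Finite G) (A : Subgroup G), Group.IsSolvable G ∧ Nat.card A = 2 ∧
      (∀ c : G, ∃ g : G, IsConj c g ∧ (A.subgroupOf (A ⊔ Subgroup.zpowers g)).IsSubnormal) ∧
      ¬ A ≤ Cfsg.pCore 2 G :=
  main (GaloisField 3 2)

end Cfsg.Agent.S4331
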