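import Cfsg.Statements.S4332

set_option autoImplicit false
open Cfsg

namespace Cfsg.Agent.S4332

open Equiv Equiv.Perm
open Pointwise

/-- every permutation of 8 points stabilizes some 3-set or moves some 3-set off itself -/
theorem exists_good_set {α : Type*} [Fintype α] [DecidableEq α] (hα : Fintype.card α = 8)
    (c : Perm α) :
    ∃ T : Finset α, T.card = 3 ∧ ((∀ x ∈ T, c x ∈ T) ∨ (∀ x ∈ T, c x ∉ T)) := by
  classical
  set F : Finset α := Finset.univ.filter (fun x => c x = x) with hF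
  set M : Finset α := Finset.univ.filter (fun x => ¬ c x = x) with hM
  have hFM : F.card + M.card = 8 := by
    rw [hF, hM, Finset.card_filter_add_card_filter_not, Finset.card_univ, hα]
  by_cases h3 : 3 ≤ F.card
  · obtain ⟨T, hTF, hT⟩ := Finset.exists_subset_card_eq h3
    refine ⟨T, hT, Or.inl ?_⟩
    intro x hx
    have : c x = x := (Finset.mem_filter.1 (hTF hx)).2
    rw [this]; exact hx
  · have hM6 : 6 ≤ M.card := by omega
    have hMne : M.Nonempty := Finset.card_pos.1 (by omega)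
    obtain ⟨v, hv⟩ := hMne
    have hvM : ¬ c v = v := (Finset.mem_filter.1 hv).2
    set W : Finset α := M \ {v, c v, c.symm v} with hW
    have hW3 : 3 ≤ W.card := by
      have h1 : M.card - ({v, c v, c.symm v} : Finset α).card ≤ W.card :=
        Finset.le_card_sdiff ({v, c v, c.symm v} : Finset α) M
      have h2 : ({v, c v, c.symm v} : Finset α).card ≤ 3 := Finset.card_le_three
      omega
    obtain ⟨W', hW'W, hW'⟩ := Finset.exists_subset_card_eq hW3
    obtain ⟨w1, w2, w3, h12, h13, h23, rfl⟩ := Finset.card_eq_three.1 hW'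
    have hmemW : ∀ w ∈ W, ¬ c w = w ∧ w ≠ v ∧ w ≠ c v ∧ c w ≠ v := by
      intro w hw
      rw [hW, Finset.mem_sdiff] at hw
      obtain ⟨hwM, hwn⟩ := hw
      simp only [Finset.mem_insert, Finset.mem_singleton, not_or] at hwn
      refine ⟨(Finset.mem_filter.1 hwM).2, hwn.1, hwn.2.1, ?_⟩
      intro h
      apply hwn.2.2
      rw [← h, Equiv.symm_apply_apply]
    have m1 := hmemW w1 (hW'W (by simp))
    have m2 := hmemW w2 (hW'W (by simp))
    have m3 := hmemW w3 (hW'W (by simp))
    -- helper: a non-adjacent pair together with v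
    have key : ∀ a b : α, a ≠ b → (¬ c a = a ∧ a ≠ v ∧ a ≠ c v ∧ c a ≠ v) →
        (¬ c b = b ∧ b ≠ v ∧ b ≠ c v ∧ c b ≠ v) → ¬ (c a = b ∨ c b = a) →
        ∃ T : Finset α, T.card = 3 ∧ ((∀ x ∈ T, c x ∈ T) ∨ (∀ x ∈ T, c x ∉ T)) := by
      intro a b hab ha hb hadj
      push Not at hadj
      refine ⟨{v, a, b}, Finset.card_eq_three.2 ⟨v, a, b, ha.2.1.symm, hb.2.1.symm, hab, rfl⟩,
        Or.inr ?_⟩
      intro x hx
      simp only [Finset.mem_insert, Finset.mem_singleton] at hx ⊢
      rcases hx with rfl | rfl | rfl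
      · rintro (h | h | h)
        · exact hvM h
        · exact ha.2.2.1 h.symm
        · exact hb.2.2.1 h.symm
      · rintro (h | h | h)
        · exact ha.2.2.2 h
        · exact ha.1 h
        · exact hadj.1 h
      · rintro (h | h | h)
        · exact hb.2.2.2 h
        · exact hadj.2 h
        · exact hb.1 h
    by_cases a12 : c w1 = w2 ∨ c w2 = w1
    swap
    · exact key w1 w2 h12 m1 m2 a12
    by_cases a13 : c w1 = w3 ∨ c w3 = w1
    swap
    · exact key w1 w3 h13 m1 m3 a13
    by_cases a23 : c w2 = w3 ∨ c w3 = w2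
    swap
    · exact key w2 w3 h23 m2 m3 a23
    refine ⟨{w1, w2, w3}, hW', Or.inl ?_⟩
    intro x hx
    simp only [Finset.mem_insert, Finset.mem_singleton] at hx ⊢
    rcases hx with rfl | rfl | rfl
    · rcases a12 with h | h
      · exact Or.inr (Or.inl h)
      · rcases a13 with h' | h'
        · exact Or.inr (Or.inr h')
        · exact absurd (c.injective (h.trans h'.symm)) h23
    · rcases a12 with h | h
      · rcases a23 with h' | h'
        · exact Or.inr (Or.inr h')
        · exact absurd (c.injective (h.trans h'.symm)) h13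
      · exact Or.inl h
    · rcases a13 with h | h
      · rcases a23 with h' | h'
        · exact absurd (c.injective (h.trans h'.symm)) h12
        · exact Or.inr (Or.inl h')
      · exact Or.inl h


/-- a permutation fixing every point outside `T` lies in the image of `Perm T` -/
theorem mem_range_ofSubtype {α : Type*} [Fintype α] [DecidableEq α] (T : Finset α) (s : Perm α)
    (hs : ∀ x, x ∉ T → s x = x) :
    s ∈ (Equiv.Perm.ofSubtype : Perm {x // x ∈ T} →* Perm α).range := by
  have h2 : ∀ x, s x ≠ x → x ∈ T := fun x hx => by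
    by_contra hxT
    exact hx (hs x hxT)
  have h1 : ∀ x, s x ∈ T ↔ x ∈ T := by
    intro x
    constructor
    · intro hsx
      by_contra hx
      rw [hs x hx] at hsx
      exact hx hsx
    · intro hx
      by_contra hsx
      have := hs (s x) hsx
      have hxx : s x = x := s.injective this
      rw [hxx] at hsx
      exact hsx hx
  exact ⟨subtypePerm s h1, Equiv.Perm.ofSubtype_subtypePerm h1 h2⟩

theorem subnormal_of_stable (σ σ' : Perm (Fin 8)) (hσ : σ.IsThreeCycle)
    (hσ' : ∀ x, x ∉ σ.support → σ' x = x) :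
    ((Subgroup.zpowers σ).subgroupOf (Subgroup.zpowers σ ⊔ Subgroup.zpowers σ')).IsSubnormal := by
  classical
  set A := Subgroup.zpowers σ with hA
  set B := Subgroup.zpowers σ ⊔ Subgroup.zpowers σ' with hB
  let f : Perm {x // x ∈ σ.support} →* Perm (Fin 8) := Equiv.Perm.ofSubtype
  have hf : Function.Injective f := Equiv.Perm.ofSubtype_injective
  have hBle : B ≤ f.range := by
    rw [hB, sup_le_iff, Subgroup.zpowers_le, Subgroup.zpowers_le]
    exact ⟨mem_range_ofSubtype _ σ (fun x hx => Equiv.Perm.notMem_support.1 hx),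
      mem_range_ofSubtype _ σ' hσ'⟩
  have hcardR : Nat.card f.range = 6 := by
    rw [← Nat.card_congr (MonoidHom.ofInjective hf).toEquiv, Nat.card_eq_fintype_card,
      Fintype.card_perm, Fintype.card_coe, hσ.card_support]
    rfl
  have hcardA : Nat.card A = 3 := by rw [hA, Nat.card_zpowers, hσ.orderOf]
  have hAB : A ≤ B := le_sup_left
  have h1 : Nat.card B ∣ 6 := hcardR ▸ Subgroup.card_dvd_of_le hBle
  have h2 : A.relIndex B * Nat.card A = Nat.card B := by
    rw [Subgroup.relIndex, ← Subgroup.index_mul_card (A.subgroupOf B)]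
    congr 1
    exact Nat.card_congr (Subgroup.subgroupOfEquivOfLe hAB).toEquiv.symm
  rw [hcardA] at h2
  have h3 : A.relIndex B ∣ 2 := by
    have : A.relIndex B * 3 ∣ 2 * 3 := by rw [h2]; exact h1
    exact Nat.dvd_of_mul_dvd_mul_right (by norm_num) this
  have h4 : A.relIndex B = 1 ∨ A.relIndex B = 2 := by
    have := Nat.le_of_dvd (by norm_num) h3
    have hpos : A.relIndex B ≠ 0 := by
      intro h0; rw [h0] at h3; simp at h3
    interval_cases (A.relIndex B) <;> simp_all
  rcases h4 with h | h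
  · have : A.subgroupOf B = ⊤ := Subgroup.index_eq_one.1 h
    rw [this]
    exact Subgroup.IsSubnormal.top
  · exact (Subgroup.normal_of_index_eq_two h).isSubnormal

theorem subnormal_of_disjoint (σ σ' : Perm (Fin 8)) (hd : Equiv.Perm.Disjoint σ σ') :
    ((Subgroup.zpowers σ).subgroupOf (Subgroup.zpowers σ ⊔ Subgroup.zpowers σ')).IsSubnormal := by
  apply Subgroup.Normal.isSubnormal
  rw [Subgroup.normal_subgroupOf_iff_le_normalizer le_sup_left]
  rw [sup_le_iff]
  refine ⟨Subgroup.le_normalizer, ?_⟩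
  rw [Subgroup.zpowers_le]
  apply Subgroup.centralizer_le_normalizer
  rw [Subgroup.mem_centralizer_iff]
  intro x hx
  obtain ⟨k, rfl⟩ := Subgroup.mem_zpowers_iff.1 hx
  exact (hd.commute.zpow_left k).eq

theorem part2 : Cfsg.pCore 3 (Equiv.Perm (Fin 8)) = ⊥ := by
  classical
  unfold Cfsg.pCore
  rw [sSup_eq_bot]
  rintro N ⟨hN, hN3⟩
  by_contra hne
  obtain ⟨σ, hσ, hσ1⟩ : ∃ σ ∈ N, σ ≠ 1 := by
    obtain ⟨a, ha⟩ := (Subgroup.ne_bot_iff_exists_ne_one).1 hne
    exact ⟨(a : Perm (Fin 8)), a.2, fun h1 => ha (Subtype.ext h1)⟩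
  obtain ⟨x, hx⟩ : ∃ x, σ x ≠ x := by
    by_contra hcon
    push Not at hcon
    exact hσ1 (Equiv.ext hcon)
  have htr : ∀ z : Fin 8, ∃ τ ∈ N, τ x = z := by
    intro z
    by_cases hzx : z = x
    · exact ⟨1, one_mem _, by rw [hzx]; rfl⟩
    · by_cases hyz : σ x = z
      · exact ⟨σ, hσ, hyz⟩
      · refine ⟨swap (σ x) z * σ * (swap (σ x) z)⁻¹, hN.conj_mem σ hσ _, ?_⟩
        rw [swap_inv, Perm.mul_apply, Perm.mul_apply, swap_apply_of_ne_of_ne (Ne.symm hx) (Ne.symm hzx),
          swap_apply_left]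
  have horb : MulAction.orbit N x = Set.univ := by
    ext z
    simp only [Set.mem_univ, iff_true]
    obtain ⟨τ, hτ, rfl⟩ := htr z
    exact ⟨⟨τ, hτ⟩, rfl⟩
  have h1 := MulAction.index_stabilizer N x
  rw [horb, Set.ncard_univ, Nat.card_eq_fintype_card, Fintype.card_fin] at h1
  have h2 := Subgroup.index_dvd_card (MulAction.stabilizer N x)
  rw [h1] at h2
  obtain ⟨k, hk⟩ := IsPGroup.iff_card.1 hN3
  rw [hk] at h2
  have h3 : 2 ∣ 3 ^ k := (by norm_num : 2 ∣ 8).trans h2
  have := (Nat.Prime.dvd_of_dvd_pow Nat.prime_two h3)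
  omega

/-- In the symmetric group of degree 8, let A be the subgroup generated by a 3-cycle. Then every conjugacy class contains an element g for which A is subnormal in the subgroup generated by A and its conjugate by g, although O_3 of the symmetric group of degree 8 is trivial. -/
theorem result
    (σ : Equiv.Perm (Fin 8)) (hσ : σ.IsThreeCycle) :
    (∀ c : Equiv.Perm (Fin 8), ∃ g : Equiv.Perm (Fin 8), IsConj c g ∧
      ((Subgroup.zpowers σ).subgroupOf (Subgroup.zpowers σ ⊔ MulAut.conj g • Subgroup.zpowers σ)).IsSubnormal) ∧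
    Cfsg.pCore 3 (Equiv.Perm (Fin 8)) = ⊥ := by
  classical
  refine ⟨?_, part2⟩
  intro c
  obtain ⟨T, hT3, hT⟩ := exists_good_set (by simp) c
  set S := σ.support with hS
  have hS3 : S.card = 3 := hσ.card_support
  -- a permutation τ with τ T = S
  have hcard : Fintype.card {x // x ∈ T} = Fintype.card {x // x ∈ S} := by
    rw [Fintype.card_coe, Fintype.card_coe, hT3, hS3]
  let e : {x // x ∈ T} ≃ {x // x ∈ S} := Fintype.equivOfCardEq hcard
  let τ : Perm (Fin 8) := e.extendSubtype
  have hτ1 : ∀ x, x ∈ T → τ x ∈ S := fun x hx => e.extendSubtype_mem x hx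
  have hτ2 : ∀ x, x ∉ T → τ x ∉ S := fun x hx => e.extendSubtype_not_mem x hx
  have hτinv : ∀ s, s ∈ S → τ⁻¹ s ∈ T := by
    intro s hs
    by_contra h
    have := hτ2 _ h
    rw [← Perm.mul_apply, mul_inv_cancel] at this
    exact this hs
  have hτinv' : ∀ s, s ∉ S → τ⁻¹ s ∉ T := by
    intro s hs h
    have := hτ1 _ h
    rw [← Perm.mul_apply, mul_inv_cancel] at this
    exact hs this
  set g : Perm (Fin 8) := τ * c * τ⁻¹ with hg
  refine ⟨g, isConj_iff.2 ⟨τ, rfl⟩, ?_⟩
  have hconj : MulAut.conj g • Subgroup.zpowers σ = Subgroup.zpowers (g * σ * g⁻¹) := by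
    ext y
    rw [Subgroup.mem_pointwise_smul_iff_inv_smul_mem, Subgroup.mem_zpowers_iff, Subgroup.mem_zpowers_iff]
    constructor
    · rintro ⟨k, hk⟩
      refine ⟨k, ?_⟩
      have : y = g * (σ ^ k) * g⁻¹ := by
        rw [hk]
        simp [MulAut.smul_def, MulAut.conj_symm_apply, mul_assoc]
      rw [this, conj_zpow]
    · rintro ⟨k, hk⟩
      refine ⟨k, ?_⟩
      rw [← hk, conj_zpow]
      simp [MulAut.smul_def, mul_assoc]
  rw [hconj]
  have hsupp : ∀ x, x ∈ (g * σ * g⁻¹).support ↔ g⁻¹ x ∈ S := by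
    intro x
    rw [Equiv.Perm.mem_support, hS, Equiv.Perm.mem_support]
    simp only [Perm.mul_apply]
    constructor
    · intro h h'
      apply h
      rw [h', ← Perm.mul_apply, mul_inv_cancel]; rfl
    · intro h h'
      apply h
      have := congrArg (fun z => g⁻¹ z) h'
      change g⁻¹ (g _) = g⁻¹ x at this
      rwa [← Perm.mul_apply, inv_mul_cancel] at this
  rcases hT with hstab | hdisj
  · -- g stabilizes S
    apply subnormal_of_stable σ _ hσ
    intro x hx
    by_contra hmoved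
    have hx' : x ∈ (g * σ * g⁻¹).support := Equiv.Perm.mem_support.2 hmoved
    rw [hsupp] at hx'
    -- g⁻¹ x ∈ S, so x = g (g⁻¹ x) ∈ g S = S
    apply hx
    have h1 : τ⁻¹ (g⁻¹ x) ∈ T := hτinv _ hx'
    have h2 : c (τ⁻¹ (g⁻¹ x)) ∈ T := hstab _ h1
    have h3 : τ (c (τ⁻¹ (g⁻¹ x))) ∈ S := hτ1 _ h2
    have h4 : τ (c (τ⁻¹ (g⁻¹ x))) = x := by
      have h5 : g (g⁻¹ x) = x := by rw [← Perm.mul_apply, mul_inv_cancel]; rfl
      have h6 : τ (c (τ⁻¹ (g⁻¹ x))) = g (g⁻¹ x) := rfl
      rw [h6, h5]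
    rwa [h4] at h3
  · apply subnormal_of_disjoint
    rw [Equiv.Perm.disjoint_iff_disjoint_support, Finset.disjoint_left]
    intro x hxσ hx'
    rw [hsupp] at hx'
    -- x ∈ S and g⁻¹ x ∈ S : but x = g (g⁻¹ x) ∉ S
    have h1 : τ⁻¹ (g⁻¹ x) ∈ T := hτinv _ hx'
    have h2 : c (τ⁻¹ (g⁻¹ x)) ∉ T := hdisj _ h1
    have h3 : τ (c (τ⁻¹ (g⁻¹ x))) ∉ S := hτ2 _ h2
    have h4 : τ (c (τ⁻¹ (g⁻¹ x))) = x := by
      have h5 : g (g⁻¹ x) = x := by rw [← Perm.mul_apply, mul_inv_cancel]; rfl
      have h6 : τ (c (τ⁻¹ (g⁻¹ x))) = g (g⁻¹ x) := rfl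
      rw [h6, h5]
    rw [h4] at h3
    exact h3 hxσ

end Cfsg.Agent.S4332
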