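import Cfsg.Statements.S4334
import Cfsg.Agent.Lib.Helper21.Pronormal
import Cfsg.Agent.Lib.Helper10.FittingHall
import Cfsg.Agent.Lib.Helper13.Frobenius

set_option autoImplicit false
open Cfsg

namespace Cfsg.Agent.S4334

open Cfsg.Agent.Lib.Helper21

variable {G : Type*} [Group G]

/-- `p`-elements of `H` commute with `p'`-elements of `H` -/
def Good (p : ℕ) (H : Subgroup G) : Prop :=
  ∀ u ∈ H, ∀ v ∈ H, (∃ k : ℕ, u ^ (p ^ k) = 1) → Nat.Coprime (orderOf v) p → u * v = v * u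

theorem good_cj {p : ℕ} {H : Subgroup G} (h : Good p H) (g : G) : Good p (cj g H) := by
  intro u hu v hv hup hvp
  rw [mem_cj] at hu hv
  obtain ⟨k, hk⟩ := hup
  have h1 : (g⁻¹ * u * g) ^ (p ^ k) = 1 := by
    have h := map_pow (MulAut.conj g⁻¹) u (p ^ k)
    rw [hk, map_one, MulAut.conj_apply, inv_inv] at h
    exact h.symm
  have h2 : orderOf (g⁻¹ * v * g) = orderOf v := by
    have h := (MulAut.conj g⁻¹).orderOf_eq v
    rwa [MulAut.conj_apply, inv_inv] at h
  have h3 := h _ hu _ hv ⟨k, h1⟩ (by rw [h2]; exact hvp)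
  calc u * v = g * ((g⁻¹ * u * g) * (g⁻¹ * v * g)) * g⁻¹ := by group
    _ = g * ((g⁻¹ * v * g) * (g⁻¹ * u * g)) * g⁻¹ := by rw [h3]
    _ = v * u := by group

theorem exists_mul_of_mem_sup {Hs Ht : Subgroup G} (hcomm : ∀ a ∈ Hs, ∀ b ∈ Ht, a * b = b * a)
    {x : G} (hx : x ∈ Hs ⊔ Ht) : ∃ a ∈ Hs, ∃ b ∈ Ht, x = a * b := by
  have hc : ∀ (m : Hs) (n : Ht), Commute (Hs.subtype m) (Ht.subtype n) :=
    fun m n => hcomm m m.2 n n.2
  have hr := MonoidHom.noncommCoprod_range Hs.subtype Ht.subtype hc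
  rw [Subgroup.range_subtype, Subgroup.range_subtype] at hr
  rw [← hr] at hx
  obtain ⟨⟨a, b⟩, rfl⟩ := hx
  exact ⟨a, a.2, b, b.2, by rw [MonoidHom.noncommCoprod_apply]; rfl⟩

section decomp

variable [Finite G] {σ τ : Set ℕ} (hd : Disjoint σ τ) {Hs Ht : Subgroup G}
  (hs : Cfsg.IsPiSubgroup σ Hs) (ht : Cfsg.IsPiSubgroup τ Ht)

include hd hs ht in
theorem eq_one_of_mem_both {x : G} (h1 : x ∈ Hs) (h2 : x ∈ Ht) : x = 1 := by
  by_contra hne
  have ho : orderOf x ≠ 1 := fun h => hne (orderOf_eq_one_iff.mp h)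
  have hq := Nat.minFac_prime ho
  have hqd := Nat.minFac_dvd (orderOf x)
  have hσ := hs _ hq (dvd_trans hqd (Subgroup.orderOf_dvd_natCard Hs h1))
  have hτ := ht _ hq (dvd_trans hqd (Subgroup.orderOf_dvd_natCard Ht h2))
  exact Set.disjoint_left.mp hd hσ hτ

include hd hs ht in
theorem pow_split (hcomm : ∀ a ∈ Hs, ∀ b ∈ Ht, a * b = b * a) {a b : G} (ha : a ∈ Hs) (hb : b ∈ Ht)
    (n : ℕ) (h : (a * b) ^ n = 1) : a ^ n = 1 ∧ b ^ n = 1 := by
  have hc : Commute a b := hcomm a ha b hb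
  rw [hc.mul_pow] at h
  have h1 : a ^ n = (b ^ n)⁻¹ := eq_inv_of_mul_eq_one_left h
  have h2 : a ^ n = 1 :=
    eq_one_of_mem_both hd hs ht (Hs.pow_mem ha n) (by rw [h1]; exact Ht.inv_mem (Ht.pow_mem hb n))
  refine ⟨h2, ?_⟩
  rw [h2, one_mul] at h
  exact h

include hd hs ht in
theorem good_of_decomp (hsn : Group.IsNilpotent Hs)
    (hcomm : ∀ a ∈ Hs, ∀ b ∈ Ht, a * b = b * a) (p : ℕ) (hp : p.Prime) (hpσ : p ∈ σ) :
    Good p (Hs ⊔ Ht) := by
  intro u hu v hv hup hvp
  obtain ⟨a, ha, b, hb, rfl⟩ := exists_mul_of_mem_sup hcomm hu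
  obtain ⟨c, hc, d, hd', rfl⟩ := exists_mul_of_mem_sup hcomm hv
  obtain ⟨k, hk⟩ := hup
  obtain ⟨hak, hbk⟩ := pow_split hd hs ht hcomm ha hb _ hk
  -- b = 1
  have hb1 : b = 1 := by
    have h1 : orderOf b ∣ p ^ k := orderOf_dvd_of_pow_eq_one hbk
    have h2 : (orderOf b).Coprime (p ^ k) := by
      apply Nat.Coprime.pow_right
      apply Nat.Coprime.symm
      rw [Nat.Prime.coprime_iff_not_dvd hp]
      intro hdv
      have hτ := ht p hp (dvd_trans hdv (Subgroup.orderOf_dvd_natCard Ht hb))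
      exact Set.disjoint_left.mp hd hpσ hτ
    exact orderOf_eq_one_iff.mp (Nat.Coprime.eq_one_of_dvd h2 h1)
  subst hb1
  rw [mul_one]
  obtain ⟨hcm, _⟩ := pow_split hd hs ht hcomm hc hd' _ (pow_orderOf_eq_one (c * d))
  have hco : (orderOf a).Coprime (orderOf c) := by
    have h1 : orderOf a ∣ p ^ k := orderOf_dvd_of_pow_eq_one hak
    have h2 : orderOf c ∣ orderOf (c * d) := orderOf_dvd_of_pow_eq_one hcm
    have h3 : (p ^ k).Coprime (orderOf (c * d)) := (Nat.Coprime.symm hvp).pow_left k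
    exact Nat.Coprime.coprime_dvd_right h2 (Nat.Coprime.coprime_dvd_left h1 h3)
  have hac : a * c = c * a := by
    haveI := hsn
    have h1 := Cfsg.Agent.Lib.Helper10.commute_of_coprime_orderOf ↥Hs ⟨a, ha⟩ ⟨c, hc⟩
      (by rw [Subgroup.orderOf_mk, Subgroup.orderOf_mk]; exact hco)
    exact congrArg Subtype.val h1.eq
  have had : a * d = d * a := hcomm a ha d hd'
  calc a * (c * d) = (a * c) * d := by rw [mul_assoc]
    _ = c * (a * d) := by rw [hac, mul_assoc]
    _ = c * d * a := by rw [had, mul_assoc]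

end decomp

/-- Sylow's theorem inside the normalizer of `A`. -/
theorem exists_cj_ge [Finite G] (H' A B : Subgroup G) (r : ℕ) [Fact r.Prime] (hr : ¬ r ∣ H'.index)
    (hA : A ≤ H') (hB : IsPGroup r B) (hBN : B ≤ Subgroup.normalizer (A : Set G))
    (hcent : ∀ u ∈ H', (∃ k : ℕ, u ^ (r ^ k) = 1) → u ∈ Subgroup.normalizer (A : Set G)) :
    ∃ z : G, A ⊔ B ≤ cj z H' := by
  obtain ⟨S₀⟩ : Nonempty (Sylow r ↥H') := inferInstance
  obtain ⟨R₀, hR₀⟩ : ∃ R₀ : Subgroup G, R₀ = (S₀ : Subgroup ↥H').map H'.subtype := ⟨_, rfl⟩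
  have hR₀H : R₀ ≤ H' := by rw [hR₀]; exact Subgroup.map_subtype_le _
  have hR₀p : IsPGroup r R₀ := by rw [hR₀]; exact S₀.2.map _
  have hR₀i : ¬ r ∣ R₀.index := by
    rw [hR₀, Subgroup.index_map_subtype]
    intro h
    rcases (Nat.Prime.dvd_mul Fact.out).mp h with h | h
    · exact S₀.not_dvd_index h
    · exact hr h
  have hR₀L : R₀ ≤ Subgroup.normalizer (A : Set G) := by
    intro u hu
    apply hcent u (hR₀H hu)
    obtain ⟨k, hk⟩ := hR₀p ⟨u, hu⟩
    exact ⟨k, by simpa using congrArg Subtype.val hk⟩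
  obtain ⟨L, hL⟩ : ∃ L : Subgroup G, L = Subgroup.normalizer (A : Set G) := ⟨_, rfl⟩
  rw [← hL] at hR₀L hBN
  have hR₁p : IsPGroup r (R₀.subgroupOf L) := hR₀p.comap_subtype
  have hR₁i : ¬ r ∣ (R₀.subgroupOf L).index := by
    intro h
    apply hR₀i
    rw [← Subgroup.relIndex_mul_index hR₀L]
    exact Dvd.dvd.mul_right h _
  obtain ⟨S₂, hS₂⟩ := (hB.comap_subtype (K := L)).exists_le_sylow
  obtain ⟨z, hz⟩ := MulAction.exists_smul_eq ↥L S₂ (hR₁p.toSylow hR₁i)
  have hzN : (z : G) ∈ Subgroup.normalizer (A : Set G) := by rw [← hL]; exact z.2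
  refine ⟨(z : G)⁻¹, sup_le ?_ ?_⟩
  · intro x hx
    rw [mem_cj, inv_inv]
    exact hA ((Subgroup.mem_normalizer_iff.mp hzN x).mp hx)
  · intro b hb
    rw [mem_cj, inv_inv]
    have hb' : (⟨b, hBN hb⟩ : ↥L) ∈ (S₂ : Subgroup ↥L) := hS₂ (Subgroup.mem_comap.mpr hb)
    have h1 : z * ⟨b, hBN hb⟩ * z⁻¹ ∈ ((z • S₂ : Sylow r ↥L) : Subgroup ↥L) := by
      have h3 : ((z • S₂ : Sylow r ↥L) : Subgroup ↥L) = cj z (S₂ : Subgroup ↥L) := rfl
      rw [h3]
      exact conj_mem_cj hb'
    rw [hz] at h1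
    have h2 : z * ⟨b, hBN hb⟩ * z⁻¹ ∈ R₀.subgroupOf L := (IsPGroup.mem_toSylow hR₁p hR₁i).mp h1
    rw [Subgroup.mem_subgroupOf] at h2
    exact hR₀H (by simpa using h2)

/-- `τ`-subgroups lie in conjugates of `H`. -/
theorem exists_cj_ge_of_tau [Finite G] (σ τ π : Set ℕ) (hπ : π = σ ∪ τ) (hd : Disjoint σ τ)
    (H Hs Ht : Subgroup G) (hH : Cfsg.IsPiHall π H)
    (hs : Cfsg.IsPiSubgroup σ Hs) (ht : Cfsg.IsPiSubgroup τ Ht)
    (hjoin : Hs ⊔ Ht = H) (hcomm : ∀ a ∈ Hs, ∀ b ∈ Ht, a * b = b * a) (hD : Cfsg.IsDPiGroup τ G)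
    (K : Subgroup G) (hK : Cfsg.IsPiSubgroup τ K) : ∃ g : G, K ≤ cj g H := by
  have hHtH : Ht ≤ H := by rw [← hjoin]; exact le_sup_right
  have hcard : Nat.card H ∣ Nat.card Hs * Nat.card Ht := by
    have hc : ∀ (m : Hs) (n : Ht), Commute (Hs.subtype m) (Ht.subtype n) :=
      fun m n => hcomm m m.2 n n.2
    have hr := MonoidHom.noncommCoprod_range Hs.subtype Ht.subtype hc
    rw [Subgroup.range_subtype, Subgroup.range_subtype, hjoin] at hr
    have h1 := Subgroup.card_range_dvd (Hs.subtype.noncommCoprod Ht.subtype hc)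
    rw [hr, Nat.card_prod] at h1
    exact h1
  have hrel : Ht.relIndex H ∣ Nat.card Hs := by
    have h1 : Nat.card (Ht.subgroupOf H) * (Ht.subgroupOf H).index = Nat.card H :=
      Subgroup.card_mul_index _
    have h2 : Nat.card (Ht.subgroupOf H) = Nat.card Ht :=
      Nat.card_congr (Subgroup.subgroupOfEquivOfLe hHtH).toEquiv
    rw [h2] at h1
    have h3 : Ht.relIndex H * Nat.card Ht ∣ Nat.card Hs * Nat.card Ht := by
      have : Ht.relIndex H * Nat.card Ht = Nat.card H := by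
        rw [mul_comm]; exact h1
      rw [this]; exact hcard
    exact Nat.dvd_of_mul_dvd_mul_right Nat.card_pos h3
  have hHall : ∀ q : ℕ, q.Prime → q ∈ τ → ¬ q ∣ Ht.index := by
    intro q hq hqτ hdv
    rw [← Subgroup.relIndex_mul_index hHtH] at hdv
    rcases (Nat.Prime.dvd_mul hq).mp hdv with h | h
    · exact Set.disjoint_left.mp hd (hs q hq (dvd_trans h hrel)) hqτ
    · exact hH.2 q hq (by rw [hπ]; exact Or.inr hqτ) h
  have hmaxHt : Maximal (Cfsg.IsPiSubgroup τ) Ht := by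
    refine ⟨ht, ?_⟩
    intro T' hT' hle
    by_contra hnot
    have hj : Ht.relIndex T' ≠ 1 := fun h1 => hnot (Subgroup.relIndex_eq_one.mp h1)
    have hq := Nat.minFac_prime hj
    have hqd := Nat.minFac_dvd (Ht.relIndex T')
    have hqτ := hT' _ hq (dvd_trans hqd (Subgroup.relIndex_dvd_card Ht T'))
    apply hHall _ hq hqτ
    rw [← Subgroup.relIndex_mul_index hle]
    exact Dvd.dvd.mul_right hqd _
  obtain ⟨T, hKT, hT⟩ := Finite.exists_le_maximal (p := Cfsg.IsPiSubgroup τ) hK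
  obtain ⟨g, hg⟩ := hD Ht T hmaxHt hT
  refine ⟨g, hKT.trans ?_⟩
  rw [hg]
  exact cj_mono hHtH

theorem claimA [Finite G] (σ τ π : Set ℕ) (hπ : π = σ ∪ τ) (H : Subgroup G)
    (hidx : ∀ r : ℕ, r.Prime → r ∈ π → ¬ r ∣ H.index)
    (hgood : ∀ p : ℕ, p.Prime → p ∈ σ → Good p H)
    (hτ : ∀ K : Subgroup G, Cfsg.IsPiSubgroup τ K → ∃ g : G, K ≤ cj g H) :
    ∀ n : ℕ, ∀ K : Subgroup G, Nat.card K = n → Cfsg.IsPiSubgroup π K →
      ∃ g : G, K ≤ cj g H := by
  intro n
  induction n using Nat.strong_induction_on with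
  | _ n ih =>
  intro K hKn hKπ
  by_cases hKτ : Cfsg.IsPiSubgroup τ K
  · exact hτ K hKτ
  · unfold Cfsg.IsPiSubgroup at hKτ
    push Not at hKτ
    obtain ⟨p, hp, hpK, hpτ⟩ := hKτ
    have hpπ : p ∈ π := hKπ p hp hpK
    have hpσ : p ∈ σ := by
      rw [hπ] at hpπ
      rcases hpπ with h | h
      · exact h
      · exact absurd h hpτ
    haveI : Fact p.Prime := ⟨hp⟩
    have hidx' : ∀ g : G, ∀ r : ℕ, r.Prime → r ∈ π → ¬ r ∣ (cj g H).index := by
      intro g r hr hrπ
      rw [Subgroup.index_map_of_bijective (MulAut.conj g).bijective]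
      exact hidx r hr hrπ
    have hgood' : ∀ g : G, Good p (cj g H) := fun g => good_cj (hgood p hp hpσ) g
    have hsub : ∀ T : Subgroup G, T ≤ K → Nat.card T < n → ∃ g : G, T ≤ cj g H := by
      intro T hTK hTn
      refine ih _ hTn T rfl ?_
      intro q hq hqT
      exact hKπ q hq (dvd_trans hqT (Subgroup.card_dvd_of_le hTK))
    by_cases hLC : Cfsg.Agent.Lib.Helper13.LocalCentral p ↥K
    · -- normal `p`-complement
      obtain ⟨P⟩ : Nonempty (Sylow p ↥K) := inferInstance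
      obtain ⟨Kc, hKcn, hKcP⟩ :=
        Cfsg.Agent.Lib.Helper13.exists_normal_complement_of_localCentral hLC P
      obtain ⟨M, hM⟩ : ∃ M : Subgroup G, M = Kc.map K.subtype := ⟨_, rfl⟩
      obtain ⟨P', hP'⟩ : ∃ P' : Subgroup G, P' = (P : Subgroup ↥K).map K.subtype := ⟨_, rfl⟩
      have hMK : M ≤ K := by rw [hM]; exact Subgroup.map_subtype_le _
      have hsup : M ⊔ P' = K := by
        rw [hM, hP', ← Subgroup.map_sup, hKcP.sup_eq_top, ← MonoidHom.range_eq_map,
          Subgroup.range_subtype]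
      have hcM : Nat.card M = Nat.card Kc := by
        rw [hM]; exact Subgroup.card_map_of_injective K.subtype_injective
      have hcP : Nat.card P' = Nat.card (P : Subgroup ↥K) := by
        rw [hP']; exact Subgroup.card_map_of_injective K.subtype_injective
      have hmul : Nat.card M * Nat.card P' = n := by
        rw [hcM, hcP, hKcP.card_mul_card, hKn]
      have hKcop : (Nat.card M).Coprime p := by
        rw [hcM]
        exact (Cfsg.Agent.Lib.Helper13.coprime_and_index_of_isComplement' Kc P hKcP).1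
      have hPne : 1 < Nat.card P' := by
        rw [hcP, P.card_eq_multiplicity]
        exact Nat.one_lt_pow (hp.factorization_pos_of_dvd Nat.card_pos.ne' hpK).ne' hp.one_lt
      have hMlt : Nat.card M < n := by
        rw [← hmul]
        have : 0 < Nat.card M := Nat.card_pos
        nlinarith
      obtain ⟨g, hg⟩ := hsub M hMK hMlt
      have hP'p : IsPGroup p P' := by rw [hP']; exact P.2.map _
      have hP'N : P' ≤ Subgroup.normalizer (M : Set G) := by
        have h1 := Subgroup.le_normalizer_map (H := Kc) K.subtype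
        have hN : Subgroup.normalizer (Kc : Set ↥K) = ⊤ := Subgroup.normalizer_eq_top_iff.mpr hKcn
        rw [hN, ← hM] at h1
        refine le_trans ?_ h1
        rw [hP']; exact Subgroup.map_mono le_top
      have hcent : ∀ u ∈ cj g H, (∃ k : ℕ, u ^ (p ^ k) = 1) →
          u ∈ Subgroup.normalizer (M : Set G) := by
        intro u hu hup
        apply Subgroup.centralizer_le_normalizer
        rw [Subgroup.mem_centralizer_iff]
        intro m hm
        have hmo : (orderOf m).Coprime p :=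
          Nat.Coprime.coprime_dvd_left (Subgroup.orderOf_dvd_natCard M hm) hKcop
        exact (hgood' g u hu m (hg hm) hup hmo).symm
      obtain ⟨z, hz⟩ := exists_cj_ge (cj g H) M P' p (hidx' g p hp hpπ) hg hP'p hP'N hcent
      refine ⟨z * g, ?_⟩
      rw [cj_mul, ← hsup]
      exact hz
    · -- a `p'`-element acting nontrivially on a `p`-subgroup
      unfold Cfsg.Agent.Lib.Helper13.LocalCentral at hLC
      push Not at hLC
      obtain ⟨Q, hQp, x, hxN, hxo, hxC⟩ := hLC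
      obtain ⟨X, hX⟩ : ∃ X : Subgroup ↥K, X = Subgroup.zpowers x := ⟨_, rfl⟩
      have hxX : x ∈ X := by rw [hX]; exact Subgroup.mem_zpowers x
      have hXN : X ≤ Subgroup.normalizer (Q : Set ↥K) := by
        rw [hX]; exact Subgroup.zpowers_le.mpr hxN
      obtain ⟨D, hD⟩ : ∃ D : Subgroup ↥X,
        D = (Subgroup.centralizer (Q : Set ↥K)).subgroupOf X := ⟨_, rfl⟩
      have hDtop : D ≠ ⊤ := by
        intro h
        rw [hD, Subgroup.subgroupOf_eq_top] at h
        exact hxC (h hxX)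
      have hDi : D.index ≠ 1 := fun h => hDtop (Subgroup.index_eq_one.mp h)
      obtain ⟨r, hr, hrD⟩ : ∃ r : ℕ, r.Prime ∧ r ∣ D.index :=
        ⟨_, Nat.minFac_prime hDi, Nat.minFac_dvd _⟩
      haveI : Fact r.Prime := ⟨hr⟩
      obtain ⟨R⟩ : Nonempty (Sylow r ↥X) := inferInstance
      have hRD : ¬ (R : Subgroup ↥X) ≤ D := by
        intro h
        exact R.not_dvd_index (dvd_trans hrD (Subgroup.index_dvd_of_le h))
      obtain ⟨y, hyR, hyD⟩ := SetLike.not_le_iff_exists.mp hRD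
      obtain ⟨k, hk⟩ := R.2 ⟨y, hyR⟩
      obtain ⟨y', hy'⟩ : ∃ y' : G, y' = ((y : ↥K) : G) := ⟨_, rfl⟩
      have hyk : y' ^ (r ^ k) = 1 := by
        have := congrArg (fun t : ↥(R : Subgroup ↥X) => (((t : ↥X) : ↥K) : G)) hk
        rw [hy']
        simpa using this
      have hrx : r ∣ orderOf x := by
        have h1 : r ∣ Nat.card ↥X := dvd_trans hrD (Subgroup.index_dvd_card D)
        rwa [hX, Nat.card_zpowers] at h1
      have hrp : r ≠ p := by
        intro h
        rw [h] at hrx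
        exact (hp.coprime_iff_not_dvd.mp hxo.symm) hrx
      have hrK : r ∣ Nat.card ↥K := dvd_trans hrx (orderOf_dvd_natCard x)
      have hrπ : r ∈ π := hKπ r hr hrK
      obtain ⟨Q', hQ'⟩ : ∃ Q' : Subgroup G, Q' = Q.map K.subtype := ⟨_, rfl⟩
      have hy'K : y' ∈ K := by rw [hy']; exact (y : ↥K).2
      have hy'N : y' ∈ Subgroup.normalizer (Q' : Set G) := by
        rw [hQ']
        exact Subgroup.le_normalizer_map K.subtype ⟨(y : ↥K), hXN y.2, hy'.symm⟩
      have hy'C : ¬ ∀ q ∈ Q', q * y' = y' * q := by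
        intro h
        apply hyD
        rw [hD, Subgroup.mem_subgroupOf, Subgroup.mem_centralizer_iff]
        intro q hq
        apply Subtype.ext
        have := h (q : G) (by rw [hQ']; exact ⟨q, hq, rfl⟩)
        rw [hy'] at this
        exact this
      obtain ⟨B, hB⟩ : ∃ B : Subgroup G, B = Subgroup.zpowers y' := ⟨_, rfl⟩
      have hy'B : y' ∈ B := by rw [hB]; exact Subgroup.mem_zpowers y'
      obtain ⟨j, _, hj⟩ := (Nat.dvd_prime_pow hr).mp (orderOf_dvd_of_pow_eq_one hyk)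
      have hBp : IsPGroup r B := by
        rw [hB]
        exact IsPGroup.of_card (n := j) (by rw [Nat.card_zpowers, hj])
      have hBN : B ≤ Subgroup.normalizer (Q' : Set G) := by
        rw [hB]; exact Subgroup.zpowers_le.mpr hy'N
      have hQ'p : IsPGroup p Q' := by rw [hQ']; exact hQp.map _
      have hQ'K : Q' ≤ K := by rw [hQ']; exact Subgroup.map_subtype_le _
      have hBK : B ≤ K := by rw [hB]; exact Subgroup.zpowers_le.mpr hy'K
      have hcop : Nat.Coprime r p := (Nat.coprime_primes hr hp).mpr hrp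
      have hy'o : (orderOf y').Coprime p := by rw [hj]; exact hcop.pow_left j
      have hQel : ∀ q ∈ Q', ∃ kq : ℕ, q ^ (p ^ kq) = 1 := by
        intro q hq
        obtain ⟨kq, hkq⟩ := hQ'p ⟨q, hq⟩
        exact ⟨kq, by simpa using congrArg Subtype.val hkq⟩
      by_cases hlt : Nat.card ↥(Q' ⊔ B) < n
      · exfalso
        obtain ⟨g, hg⟩ := hsub (Q' ⊔ B) (sup_le hQ'K hBK) hlt
        apply hy'C
        intro q hq
        exact hgood' g q (hg (Subgroup.mem_sup_left hq)) y' (hg (Subgroup.mem_sup_right hy'B))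
          (hQel q hq) hy'o
      · have hTK : Q' ⊔ B = K := by
          apply Subgroup.eq_of_le_of_card_ge (sup_le hQ'K hBK)
          rw [hKn]; exact not_lt.mp hlt
        have hQlt : Nat.card Q' < n := by
          rw [← hKn]
          apply lt_of_le_of_ne (Subgroup.card_le_of_le hQ'K)
          intro heq
          obtain ⟨a, ha⟩ := (IsPGroup.iff_card).mp hQ'p
          rw [← heq, ha] at hrK
          exact hrp ((Nat.prime_dvd_prime_iff_eq hr hp).mp (hr.dvd_of_dvd_pow hrK))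
        obtain ⟨g, hg⟩ := hsub Q' hQ'K hQlt
        have hcent : ∀ u ∈ cj g H, (∃ k : ℕ, u ^ (r ^ k) = 1) →
            u ∈ Subgroup.normalizer (Q' : Set G) := by
          intro u hu hur
          obtain ⟨ku, hku⟩ := hur
          apply Subgroup.centralizer_le_normalizer
          rw [Subgroup.mem_centralizer_iff]
          intro q hq
          have huo : (orderOf u).Coprime p :=
            Nat.Coprime.coprime_dvd_left (orderOf_dvd_of_pow_eq_one hku) (hcop.pow_left ku)
          exact hgood' g q (hg hq) u hu (hQel q hq) huo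
        obtain ⟨z, hz⟩ := exists_cj_ge (cj g H) Q' B r (hidx' g r hr hrπ) hg hBp hBN hcent
        refine ⟨z * g, ?_⟩
        rw [cj_mul, ← hTK]
        exact hz

end Cfsg.Agent.S4334

namespace Cfsg.Agent.S4334

open Cfsg.Agent.Lib.Helper21 in
/-- Let σ and τ be disjoint sets of primes with union π. Suppose a finite group G has a Hall π-subgroup H which is the direct product of a nilpotent σ-subgroup and a τ-subgroup (two elementwise-commuting subgroups generating H), and that the maximal τ-subgroups of G are pairwise conjugate. Then the maximal π-subgroups of G are pairwise conjugate. -/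
theorem result {G : Type*} [Group G] [Finite G]
    (σ τ π : Set ℕ) (hπ : π = σ ∪ τ) (hd : Disjoint σ τ) (H Hs Ht : Subgroup G) (hH : Cfsg.IsPiHall π H)
    (hs : Cfsg.IsPiSubgroup σ Hs) (ht : Cfsg.IsPiSubgroup τ Ht) (hsn : Group.IsNilpotent Hs)
    (hjoin : Hs ⊔ Ht = H) (hcomm : ∀ a ∈ Hs, ∀ b ∈ Ht, a * b = b * a) (hD : Cfsg.IsDPiGroup τ G) :
    Cfsg.IsDPiGroup π G := by
  intro M₁ M₂ hM₁ hM₂
  have hidx : ∀ r : ℕ, r.Prime → r ∈ π → ¬ r ∣ H.index := fun r hr hrπ => hH.2 r hr hrπ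
  have hgood : ∀ p : ℕ, p.Prime → p ∈ σ → Good p H := by
    intro p hp hpσ
    rw [← hjoin]
    exact good_of_decomp hd hs ht hsn hcomm p hp hpσ
  have hτ := exists_cj_ge_of_tau σ τ π hπ hd H Hs Ht hH hs ht hjoin hcomm hD
  have hA := claimA σ τ π hπ H hidx hgood hτ
  have key : ∀ M : Subgroup G, Maximal (Cfsg.IsPiSubgroup π) M → ∃ g : G, M = cj g H := by
    intro M hM
    obtain ⟨g, hg⟩ := hA _ M rfl hM.1
    refine ⟨g, le_antisymm hg (hM.2 ?_ hg)⟩
    intro q hq hqd
    rw [Subgroup.card_map_of_injective (MulAut.conj g).injective] at hqd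
    exact hH.1 q hq hqd
  obtain ⟨g₁, h₁⟩ := key M₁ hM₁
  obtain ⟨g₂, h₂⟩ := key M₂ hM₂
  refine ⟨g₂ * g₁⁻¹, ?_⟩
  show M₂ = cj (g₂ * g₁⁻¹) M₁
  rw [cj_mul, h₁, cj_inv_cj, h₂]

end Cfsg.Agent.S4334
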