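import Cfsg.Statements.S4337
import Cfsg.Agent.Lib.Helper2.BurnsidePQ

set_option autoImplicit false
open Cfsg

namespace Cfsg.Agent.S4337

open Equiv Equiv.Perm Subgroup

/-- a divisor of `2^k * 3^l` is of the form `2^a * 3^b` -/
theorem eq_two_pow_mul_three_pow {n k l : ℕ} (h : n ∣ 2 ^ k * 3 ^ l) : ∃ a b : ℕ, n = 2 ^ a * 3 ^ b := by
  obtain ⟨k₁, k₂, h1, h2, rfl⟩ := (Nat.dvd_mul).1 h
  obtain ⟨a, -, rfl⟩ := (Nat.dvd_prime_pow Nat.prime_two).1 h1
  obtain ⟨b, -, rfl⟩ := (Nat.dvd_prime_pow Nat.prime_three).1 h2
  exact ⟨a, b, rfl⟩

theorem solvable_of_card_dvd {H : Type*} [Group H] [Finite H] {k l : ℕ}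
    (h : Nat.card H ∣ 2 ^ k * 3 ^ l) : Group.IsSolvable H :=
  Cfsg.Agent.Lib.Helper2.isSolvable_of_card_eq_prime_pow_mul_prime_pow 2 3 Nat.prime_two
    Nat.prime_three _ H rfl (eq_two_pow_mul_three_pow h)

variable {α : Type*} [Fintype α] [DecidableEq α]

/-- A set of permutations fixing every point outside a set of at most four points generates a
solvable group. -/
theorem solvable_of_fix_outside (T : Finset α) (hT : T.card ≤ 4) (S : Set (Perm α))
    (hS : ∀ s ∈ S, ∀ x, x ∉ T → s x = x) : Group.IsSolvable (closure S) := by
  classical
  let f : Perm {x // x ∈ T} →* Perm α := Equiv.Perm.ofSubtype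
  have hf : Function.Injective f := Equiv.Perm.ofSubtype_injective
  have hle : closure S ≤ f.range := by
    rw [closure_le]
    intro s hs
    have h2 : ∀ x, s x ≠ x → x ∈ T := fun x hx => by
      by_contra hxT
      exact hx (hS s hs x hxT)
    have h1 : ∀ x, x ∈ T ↔ s x ∈ T := by
      intro x
      constructor
      · intro hx
        by_contra hsx
        have := hS s hs (s x) hsx
        have hxx : s x = x := s.injective this
        rw [hxx] at hsx
        exact hsx hx
      · intro hsx
        by_contra hx
        rw [hS s hs x hx] at hsx
        exact hx hsx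
    exact ⟨subtypePerm s (fun x => (h1 x).symm), Equiv.Perm.ofSubtype_subtypePerm (fun x => (h1 x).symm) h2⟩
  have hcard : Nat.card f.range = (T.card).factorial := by
    rw [← Nat.card_congr (MonoidHom.ofInjective hf).toEquiv, Nat.card_eq_fintype_card,
      Fintype.card_perm, Fintype.card_coe]
  have hdvd : Nat.card (closure S) ∣ 2 ^ 3 * 3 ^ 1 := by
    refine (Subgroup.card_dvd_of_le hle).trans ?_
    rw [hcard]
    exact Nat.factorial_dvd_factorial hT
  exact solvable_of_card_dvd hdvd

theorem IsSwap.fix_outside {s : Perm α} (x : α) (hx : x ∉ s.support) : s x = x :=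
  Equiv.Perm.notMem_support.1 hx

/-- connected case -/
theorem solv3 (x y z : Perm α) (hx : x.IsSwap) (hy : y.IsSwap) (hz : z.IsSwap)
    (hxy : ¬ Disjoint x.support y.support) (hxyz : ¬ Disjoint (x.support ∪ y.support) z.support) :
    Group.IsSolvable (closure ({x, y, z} : Set (Perm α))) := by
  have cx : x.support.card = 2 := Equiv.Perm.card_support_eq_two.2 hx
  have cy : y.support.card = 2 := Equiv.Perm.card_support_eq_two.2 hy
  have cz : z.support.card = 2 := Equiv.Perm.card_support_eq_two.2 hz
  have h1 : 1 ≤ (x.support ∩ y.support).card := by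
    rw [Nat.one_le_iff_ne_zero, Ne, Finset.card_eq_zero, ← Finset.disjoint_iff_inter_eq_empty]
    exact hxy
  have h2 : 1 ≤ ((x.support ∪ y.support) ∩ z.support).card := by
    rw [Nat.one_le_iff_ne_zero, Ne, Finset.card_eq_zero, ← Finset.disjoint_iff_inter_eq_empty]
    exact hxyz
  have e1 := Finset.card_union_add_card_inter x.support y.support
  have e2 := Finset.card_union_add_card_inter (x.support ∪ y.support) z.support
  apply solvable_of_fix_outside ((x.support ∪ y.support) ∪ z.support) (by omega)
  intro s hs w hw
  simp only [Finset.mem_union, not_or] at hw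
  rcases hs with rfl | rfl | rfl
  · exact Equiv.Perm.notMem_support.1 hw.1.1
  · exact Equiv.Perm.notMem_support.1 hw.1.2
  · exact Equiv.Perm.notMem_support.1 hw.2

/-- one transposition commutes with the other two -/
theorem solv_comm (x y z : Perm α) (hx : x.IsSwap) (hy : y.IsSwap)
    (hzx : Commute x z) (hzy : Commute y z) :
    Group.IsSolvable (closure ({x, y, z} : Set (Perm α))) := by
  have cx : x.support.card = 2 := Equiv.Perm.card_support_eq_two.2 hx
  have cy : y.support.card = 2 := Equiv.Perm.card_support_eq_two.2 hy
  have hN : Group.IsSolvable (closure ({x, y} : Set (Perm α))) := by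
    apply solvable_of_fix_outside (x.support ∪ y.support)
      ((Finset.card_union_le _ _).trans (by omega))
    intro s hs w hw
    simp only [Finset.mem_union, not_or] at hw
    rcases hs with rfl | rfl
    · exact Equiv.Perm.notMem_support.1 hw.1
    · exact Equiv.Perm.notMem_support.1 hw.2
  have hC : Group.IsSolvable (zpowers z) := inferInstance
  have comm : ∀ (m : closure ({x, y} : Set (Perm α))) (n : zpowers z),
      Commute ((closure ({x, y} : Set (Perm α))).subtype m) ((zpowers z).subtype n) := by
    rintro ⟨m, hm⟩ ⟨n, hn⟩
    show Commute m n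
    have hmz : Commute m z := by
      have hle : closure ({x, y} : Set (Perm α)) ≤ centralizer ({z} : Set (Perm α)) := by
        rw [closure_le]
        intro g hg
        rw [SetLike.mem_coe, Subgroup.mem_centralizer_iff]
        intro w hw
        rw [Set.mem_singleton_iff] at hw
        subst hw
        rcases hg with rfl | rfl
        · exact hzx.eq.symm
        · exact hzy.eq.symm
      have := Subgroup.mem_centralizer_iff.1 (hle hm) z rfl
      exact this.symm
    obtain ⟨k, rfl⟩ := Subgroup.mem_zpowers_iff.1 hn
    exact hmz.zpow_right k
  let F := MonoidHom.noncommCoprod _ _ comm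
  have hle : closure ({x, y, z} : Set (Perm α)) ≤ F.range := by
    rw [MonoidHom.noncommCoprod_range, closure_le]
    intro s hs
    rcases hs with rfl | rfl | rfl
    · apply mem_sup_left
      rw [Subgroup.range_subtype]
      exact subset_closure (by simp)
    · apply mem_sup_left
      rw [Subgroup.range_subtype]
      exact subset_closure (by simp)
    · apply mem_sup_right
      rw [Subgroup.range_subtype]
      exact mem_zpowers _
  have hR : Group.IsSolvable F.range := Group.isSolvable_of_surjective F.rangeRestrict_surjective
  exact Group.isSolvable_of_isSolvable_injective (Subgroup.inclusion_injective hle)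

theorem main (a b c : Perm α) (ha : a.IsSwap) (hb : b.IsSwap) (hc : c.IsSwap) :
    Group.IsSolvable (closure ({a, b, c} : Set (Perm α))) := by
  have comm_of : ∀ {f g : Perm α}, Disjoint f.support g.support → Commute f g := fun h =>
    (Equiv.Perm.disjoint_iff_disjoint_support.2 h).commute
  by_cases dab : Disjoint a.support b.support
  · by_cases dac : Disjoint a.support c.support
    · -- a commutes with b and c
      have e : ({a, b, c} : Set (Perm α)) = {b, c, a} := by
        ext s; simp only [Set.mem_insert_iff, Set.mem_singleton_iff]; tauto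
      rw [e]
      exact solv_comm b c a hb hc (comm_of dab.symm) (comm_of dac.symm)
    · by_cases dbc : Disjoint b.support c.support
      · -- b commutes with a and c
        have e : ({a, b, c} : Set (Perm α)) = {a, c, b} := by
          ext s; simp only [Set.mem_insert_iff, Set.mem_singleton_iff]; tauto
        rw [e]
        exact solv_comm a c b ha hc (comm_of dab) (comm_of dbc.symm)
      · -- a~c, b~c
        have e : ({a, b, c} : Set (Perm α)) = {a, c, b} := by
          ext s; simp only [Set.mem_insert_iff, Set.mem_singleton_iff]; tauto
        rw [e]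
        apply solv3 a c b ha hc hb dac
        intro h
        exact dbc (Finset.disjoint_of_subset_left Finset.subset_union_right h).symm
  · by_cases dac : Disjoint a.support c.support
    · by_cases dbc : Disjoint b.support c.support
      · exact solv_comm a b c ha hb (comm_of dac) (comm_of dbc)
      · apply solv3 a b c ha hb hc dab
        intro h
        exact dbc (Finset.disjoint_of_subset_left Finset.subset_union_right h)
    · apply solv3 a b c ha hb hc dab
      intro h
      exact dac (Finset.disjoint_of_subset_left Finset.subset_union_left h)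

/-- In a finite symmetric group, any three transpositions generate a solvable subgroup. -/
theorem result (n : ℕ) (a b c : Equiv.Perm (Fin n))
    (ha : a.IsSwap) (hb : b.IsSwap) (hc : c.IsSwap) :
    Group.IsSolvable (Subgroup.closure ({a, b, c} : Set (Equiv.Perm (Fin n)))) := by
  exact main a b c ha hb hc

end Cfsg.Agent.S4337
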