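import Cfsg.Statements.S4342

set_option autoImplicit false
open Cfsg

namespace Cfsg.Agent.S4342

/-- The number of Sylow subgroups does not change modulo the centre. -/
theorem card_sylow_quotient_center (K : Type*) [Group K] [Finite K] (p : ℕ) [Fact p.Prime] :
    Nat.card (Sylow p (K ⧸ Subgroup.center K)) = Nat.card (Sylow p K) := by
  symm
  have hf : Function.Surjective (QuotientGroup.mk' (Subgroup.center K)) :=
    QuotientGroup.mk'_surjective _
  apply Nat.card_eq_of_bijective (Sylow.mapSurjective hf)
  refine ⟨?_, Sylow.mapSurjective_surjective hf p⟩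
  intro P Q hPQ
  have h1 : (P : Subgroup K).map (QuotientGroup.mk' (Subgroup.center K)) =
      (Q : Subgroup K).map (QuotientGroup.mk' (Subgroup.center K)) := by
    have := congrArg (fun S : Sylow p (K ⧸ Subgroup.center K) => S.toSubgroup) hPQ
    simpa using this
  have h2 := congrArg (Subgroup.comap (QuotientGroup.mk' (Subgroup.center K))) h1
  rw [Subgroup.comap_map_eq, Subgroup.comap_map_eq, QuotientGroup.ker_mk'] at h2
  have hQle : (Q : Subgroup K) ≤ Subgroup.normalizer ((P : Subgroup K) : Set K) := by
    calc (Q : Subgroup K) ≤ (Q : Subgroup K) ⊔ Subgroup.center K := le_sup_left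
      _ = (P : Subgroup K) ⊔ Subgroup.center K := h2.symm
      _ ≤ Subgroup.normalizer ((P : Subgroup K) : Set K) :=
          sup_le Subgroup.le_normalizer (Subgroup.center_le_normalizer _)
  have hpg := IsPGroup.to_sup_of_normal_left' P.isPGroup' Q.isPGroup' hQle
  have e1 := P.is_maximal' hpg le_sup_left
  have e2 := Q.is_maximal' hpg le_sup_right
  apply Sylow.ext
  rw [← e1, e2]

/-- Sylow subgroups of a normal subgroup of index prime to `p`. -/
theorem card_sylow_normal_of_not_dvd_index {G : Type*} [Group G] [Finite G]
    (p : ℕ) [Fact p.Prime] (H : Subgroup G) [H.Normal] (hp : ¬ p ∣ H.index) :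
    Nat.card (Sylow p H) = Nat.card (Sylow p G) := by
  have hidx : ∀ P : Sylow p H, ¬ p ∣ ((P : Subgroup H).map H.subtype).index := by
    intro P
    rw [Subgroup.index_map_subtype]
    exact Nat.Prime.not_dvd_mul Fact.out P.not_dvd_index hp
  let F : Sylow p H → Sylow p G := fun P => (P.isPGroup'.map H.subtype).toSylow (hidx P)
  apply Nat.card_eq_of_bijective F
  constructor
  · intro P Q hPQ
    have h1 : (P : Subgroup H).map H.subtype = (Q : Subgroup H).map H.subtype := by
      have := congrArg (fun S : Sylow p G => S.toSubgroup) hPQ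
      simpa [F] using this
    apply Sylow.ext
    exact Subgroup.map_injective (Subgroup.subtype_injective H) h1
  · intro Q
    have hQH : (Q : Subgroup G) ≤ H := by
      have hpg : IsPGroup p ((Q : Subgroup G).map (QuotientGroup.mk' H)) := Q.isPGroup'.map _
      obtain ⟨n, hn⟩ := IsPGroup.iff_card.mp hpg
      have hdvd : Nat.card ((Q : Subgroup G).map (QuotientGroup.mk' H)) ∣ H.index := by
        rw [Subgroup.index_eq_card]
        exact Subgroup.card_subgroup_dvd_card _
      rw [hn] at hdvd
      have hn0 : n = 0 := by
        by_contra h0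
        exact hp ((dvd_pow_self p h0).trans hdvd)
      rw [hn0, pow_zero, Subgroup.card_eq_one] at hn
      rw [← QuotientGroup.ker_mk' H]
      rw [← Subgroup.map_eq_bot_iff] 
      exact hn
    refine ⟨Q.subtype hQH, ?_⟩
    apply Sylow.ext
    show ((Q.subtype hQH : Sylow p H) : Subgroup H).map H.subtype = Q
    rw [Sylow.coe_subtype, Subgroup.subgroupOf_map_subtype, inf_of_le_left hQH]

/-- Let H be a normal subgroup of a finite group G and p a prime not dividing the index of H. Then the number of Sylow p-subgroups of H/Z(H) equals the number of Sylow p-subgroups of G. -/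
theorem result {G : Type*} [Group G] [Finite G]
    (p : ℕ) [Fact p.Prime] (H : Subgroup G) [H.Normal] (hp : ¬ p ∣ H.index) :
    Nat.card (Sylow p (H ⧸ Subgroup.center H)) = Nat.card (Sylow p G) := by
  rw [card_sylow_quotient_center H p, card_sylow_normal_of_not_dvd_index p H hp]

end Cfsg.Agent.S4342
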