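import Cfsg.Statements.S4343

set_option autoImplicit false
open Cfsg

namespace Cfsg.Agent.S4343

open Subgroup MulAction
open scoped Pointwise

section aux

variable {S : Type*} [Group S] [Finite S] {p : ℕ} [Fact p.Prime]

omit [Finite S] [Fact p.Prime] in
theorem mem_smul_sylow_iff (P : Sylow p S) (g a : S) :
    a ∈ ((g • P : Sylow p S) : Subgroup S) ↔ g⁻¹ * a * g ∈ (P : Subgroup S) := by
  rw [Sylow.coe_subgroup_smul, Subgroup.mem_pointwise_smul_iff_inv_smul_mem]
  simp [MulAut.smul_def]

/-- a `p`-subgroup can be conjugated into a subgroup of index prime to `p` -/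
theorem exists_conj_mem {G : Type*} [Group G] (M K : Subgroup G) (hM : IsPGroup p M)
    (hK : ¬ p ∣ K.index) :
    ∃ g : G, ∀ m ∈ M, g⁻¹ * m * g ∈ K := by
  obtain ⟨a, ha⟩ := hM.nonempty_fixed_point_of_prime_not_dvd_card (G ⧸ K) (by
    rwa [← Subgroup.index_eq_card])
  induction a using QuotientGroup.induction_on with | _ g => ?_
  refine ⟨g, fun m hm => ?_⟩
  have h1 := ha ⟨m, hm⟩
  have h2 : ((m * g : G) : G ⧸ K) = (g : G ⧸ K) := h1
  rw [QuotientGroup.eq] at h2
  have h3 := K.inv_mem h2
  have h4 : ((m * g)⁻¹ * g)⁻¹ = g⁻¹ * m * g := by group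
  rwa [h4] at h3

theorem relIndex_inf_eq (hn : Nat.card (Sylow p S) < p ^ 2) (P Q : Sylow p S) (hPQ : Q ≠ P) :
    ((P : Subgroup S) ⊓ (Q : Subgroup S)).relIndex (P : Subgroup S) = p := by
  have hp : p.Prime := Fact.out
  have hstab : MulAction.stabilizer (↥(P : Subgroup S)) Q =
      ((P : Subgroup S) ⊓ (Q : Subgroup S)).subgroupOf (P : Subgroup S) := by
    ext x
    rw [MulAction.mem_stabilizer_iff, Subgroup.mem_subgroupOf, Subgroup.smul_def,
      Sylow.smul_eq_iff_mem_normalizer, ← IsPGroup.inf_normalizer_sylow P.2 Q, Subgroup.mem_inf]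
    exact ⟨fun h => ⟨x.2, h⟩, fun h => h.2⟩
  have hidx : ((P : Subgroup S) ⊓ (Q : Subgroup S)).relIndex (P : Subgroup S) =
      (orbit (↥(P : Subgroup S)) Q).ncard := by
    rw [← MulAction.index_stabilizer, hstab]; rfl
  obtain ⟨k, hk⟩ := (P.2 : IsPGroup p (P : Subgroup S)).card_orbit Q
  have hncard : (orbit (↥(P : Subgroup S)) Q).ncard = p ^ k := by
    rw [← hk]; rfl
  -- the orbit avoids `P`
  have hPnot : P ∉ orbit (↥(P : Subgroup S)) Q := by
    rintro ⟨x, hx⟩
    apply hPQ
    have h1 : (x : S)⁻¹ • P = P := by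
      rw [Sylow.smul_eq_iff_mem_normalizer]
      exact Subgroup.le_normalizer (Subgroup.inv_mem _ x.2)
    have h2 : (x : S) • Q = P := hx
    calc Q = (x : S)⁻¹ • ((x : S) • Q) := by rw [inv_smul_smul]
      _ = P := by rw [h2, h1]
  have hlt : (orbit (↥(P : Subgroup S)) Q).ncard < p ^ 2 := by
    have h1 : (orbit (↥(P : Subgroup S)) Q).ncard < (Set.univ : Set (Sylow p S)).ncard :=
      Set.ncard_lt_ncard (Set.ssubset_univ_iff.mpr (fun h => hPnot (h ▸ Set.mem_univ P)))
    rw [Set.ncard_univ] at h1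
    omega
  rw [hncard] at hlt
  have hk2 : k < 2 := (Nat.pow_lt_pow_iff_right hp.one_lt).mp hlt
  have hk0 : k ≠ 0 := by
    rintro rfl
    rw [pow_zero] at hncard
    rw [hncard, Subgroup.relIndex_eq_one] at hidx
    apply hPQ
    have hle : (P : Subgroup S) ≤ (Q : Subgroup S) := hidx.trans inf_le_right
    exact (Sylow.ext (P.3 Q.2 hle)) 
  have : k = 1 := by omega
  rw [hidx, hncard, this, pow_one]

omit [Finite S] [Fact p.Prime] in
theorem card_mul_relIndex_of_le {H K : Subgroup S} (h : H ≤ K) :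
    Nat.card H * H.relIndex K = Nat.card K := by
  have h1 := (H.subgroupOf K).card_mul_index
  rwa [Nat.card_congr (Subgroup.subgroupOfEquivOfLe h).toEquiv] at h1

/-- a subgroup of index `p` in a Sylow `p`-subgroup is normalized by it -/
theorem le_normalizer_of_relIndex (P : Sylow p S) (D : Subgroup S) (hDP : D ≤ (P : Subgroup S))
    (hidx : D.relIndex (P : Subgroup S) = p) :
    (P : Subgroup S) ≤ normalizer (D : Set S) := by
  have hp : p.Prime := Fact.out
  rw [← Subgroup.normal_subgroupOf_iff_le_normalizer hDP]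
  apply Subgroup.normal_of_index_eq_minFac_card
  obtain ⟨n, hn⟩ := (P.2 : IsPGroup p (P : Subgroup S)).exists_card_eq
  have hn0 : n ≠ 0 := by
    rintro rfl
    rw [pow_zero] at hn
    have h1 : (D.subgroupOf (P : Subgroup S)).index ∣ Nat.card (P : Subgroup S) :=
      Subgroup.index_dvd_card _
    rw [hn] at h1
    have h2 : D.relIndex (P : Subgroup S) = 1 := Nat.dvd_one.mp h1
    rw [hidx] at h2
    exact hp.one_lt.ne' h2
  rw [hn, hp.pow_minFac hn0]
  exact hidx

end aux

/-- Let S be a finite non-abelian simple group and p a prime dividing its order. If S has fewer than p² Sylow p-subgroups, then its Sylow p-subgroups have order p. -/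
theorem result {S : Type*} [Group S] [Finite S]
    [IsSimpleGroup S] (hS : ¬ IsMulCommutative S) (p : ℕ) [Fact p.Prime] (hp : p ∣ Nat.card S)
    (hn : Nat.card (Sylow p S) < p ^ 2) (P : Sylow p S) : Nat.card P = p := by
  have hpp : p.Prime := Fact.out
  -- `P ≠ ⊤`
  have hPtop : (P : Subgroup S) ≠ ⊤ := by
    intro h
    have hSp : IsPGroup p S := by
      intro g
      obtain ⟨k, hk⟩ := (P.2 : IsPGroup p (P : Subgroup S)) ⟨g, h ▸ Subgroup.mem_top g⟩
      exact ⟨k, by simpa using congrArg Subtype.val hk⟩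
    have hZ : Nontrivial (Subgroup.center S) := hSp.center_nontrivial
    have hZtop : Subgroup.center S = ⊤ := by
      rcases (inferInstance : (Subgroup.center S).Normal).eq_bot_or_eq_top with h1 | h1
      · exfalso
        rw [Subgroup.nontrivial_iff_ne_bot] at hZ
        exact hZ h1
      · exact h1
    apply hS
    refine ⟨⟨fun a b => ?_⟩⟩
    have : a ∈ Subgroup.center S := hZtop ▸ Subgroup.mem_top a
    exact (Subgroup.mem_center_iff.mp this b).symm
  have hcore : (P : Subgroup S).normalCore = ⊥ := by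
    rcases (Subgroup.normalCore_normal (P : Subgroup S)).eq_bot_or_eq_top with h | h
    · exact h
    · exfalso
      apply hPtop
      rw [eq_top_iff, ← h]
      exact Subgroup.normalCore_le _
  obtain ⟨Q, hQP⟩ : ∃ Q : Sylow p S, Q ≠ P := by
    by_contra hcon
    push Not at hcon
    have hsub : Subsingleton (Sylow p S) := ⟨fun a b => (hcon a).trans (hcon b).symm⟩
    have hPn : (P : Subgroup S).Normal := Sylow.normal_of_subsingleton P
    rcases hPn.eq_bot_or_eq_top with h | h
    · exact P.ne_bot_of_dvd_card hp h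
    · exact hPtop h
  set D : Subgroup S := (P : Subgroup S) ⊓ (Q : Subgroup S) with hD
  have hDP : D.relIndex (P : Subgroup S) = p := relIndex_inf_eq hn P Q hQP
  have hDQ : D.relIndex (Q : Subgroup S) = p := by
    rw [hD, inf_comm]; exact relIndex_inf_eq hn Q P (Ne.symm hQP)
  have hPN : (P : Subgroup S) ≤ normalizer (D : Set S) :=
    le_normalizer_of_relIndex P D inf_le_left hDP
  have hQN : (Q : Subgroup S) ≤ normalizer (D : Set S) :=
    le_normalizer_of_relIndex Q D inf_le_right hDQ
  set N : Subgroup S := normalizer (D : Set S) with hN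
  -- `D` lies in every Sylow subgroup
  have hall : ∀ R : Sylow p S, D ≤ (R : Subgroup S) := by
    intro R
    have hMp : IsPGroup p (((R : Subgroup S) ⊓ N).subgroupOf N) := by
      have h1 : IsPGroup p ((R : Subgroup S) ⊓ N : Subgroup S) :=
        (R.2 : IsPGroup p (R : Subgroup S)).to_le inf_le_left
      exact h1.comap_subtype
    have hKidx : ¬ p ∣ ((P : Subgroup S).subgroupOf N).index := by
      intro h
      have h1 : (P : Subgroup S).relIndex N * N.index = (P : Subgroup S).index :=
        Subgroup.relIndex_mul_index hPN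
      exact P.not_dvd_index (h1 ▸ dvd_mul_of_dvd_left h _)
    obtain ⟨n, hn'⟩ := exists_conj_mem _ _ hMp hKidx
    set R' : Sylow p S := (n : S)⁻¹ • R with hR'
    have hR'Q : (R' : Subgroup S) ⊓ (Q : Subgroup S) ≤ D := by
      intro x hx
      have hxR : x ∈ ((R' : Sylow p S) : Subgroup S) := hx.1
      have hxQ : x ∈ (Q : Subgroup S) := hx.2
      refine ⟨?_, hxQ⟩
      show x ∈ (P : Subgroup S)
      rw [hR', mem_smul_sylow_iff, inv_inv] at hxR
      have hxN : x ∈ N := hQN hxQ
      have hmN : (n : S) * x * (n : S)⁻¹ ∈ N := N.mul_mem (N.mul_mem n.2 hxN) (N.inv_mem n.2)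
      have h1 := hn' ⟨(n : S) * x * (n : S)⁻¹, hmN⟩ (mem_subgroupOf.mpr ⟨hxR, hmN⟩)
      rw [mem_subgroupOf] at h1
      have h2 : ((n⁻¹ * ⟨(n : S) * x * (n : S)⁻¹, hmN⟩ * n : N) : S) = x := by
        simp [mul_assoc]
      rwa [h2] at h1
    have hR'neQ : R' ≠ Q := by
      intro h
      apply hQP
      have hle : (Q : Subgroup S) ≤ (P : Subgroup S) := by
        intro x hx
        exact (hR'Q ⟨h ▸ hx, hx⟩).1
      exact Sylow.ext (Q.3 P.2 hle).symm
    have hidx' : ((Q : Subgroup S) ⊓ (R' : Subgroup S)).relIndex (Q : Subgroup S) = p :=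
      relIndex_inf_eq hn Q R' hR'neQ
    have hcard : Nat.card ((Q : Subgroup S) ⊓ (R' : Subgroup S) : Subgroup S) = Nat.card D := by
      have e1 := card_mul_relIndex_of_le (inf_le_left : (Q : Subgroup S) ⊓ (R' : Subgroup S) ≤ Q)
      have e2 := card_mul_relIndex_of_le (inf_le_right : D ≤ (Q : Subgroup S))
      rw [hidx'] at e1
      rw [hDQ] at e2
      exact Nat.eq_of_mul_eq_mul_right hpp.pos (e1.trans e2.symm)
    have hle : (Q : Subgroup S) ⊓ (R' : Subgroup S) ≤ D := by rw [inf_comm]; exact hR'Q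
    have heq : (Q : Subgroup S) ⊓ (R' : Subgroup S) = D :=
      Subgroup.eq_of_le_of_card_ge hle (le_of_eq hcard.symm)
    have hDR' : D ≤ (R' : Subgroup S) := heq ▸ inf_le_right
    intro d hd
    have hnN : (n : S) ∈ normalizer (D : Set S) := n.2
    have hd' : (n : S)⁻¹ * d * (n : S) ∈ D := by
      have := (mem_normalizer_iff.mp (inv_mem hnN) d).mp hd
      simpa using this
    have h4 := hDR' hd'
    rw [hR', mem_smul_sylow_iff, inv_inv] at h4
    have h3 : (n : S) * ((n : S)⁻¹ * d * (n : S)) * (n : S)⁻¹ = d := by group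
    rwa [h3] at h4
  have hDbot : D = ⊥ := by
    rw [eq_bot_iff, ← hcore]
    intro a ha b
    have h1 := hall (b⁻¹ • P) ha
    rw [mem_smul_sylow_iff, inv_inv] at h1
    exact h1
  have hcardD : Nat.card D = 1 := by rw [hDbot]; exact Subgroup.card_bot
  have h1 : Nat.card (D.subgroupOf (P : Subgroup S)) * (D.subgroupOf (P : Subgroup S)).index =
      Nat.card (P : Subgroup S) := Subgroup.card_mul_index _
  have h2 : Nat.card (D.subgroupOf (P : Subgroup S)) = Nat.card D :=
    Nat.card_congr (Subgroup.subgroupOfEquivOfLe (inf_le_left : D ≤ (P : Subgroup S))).toEquiv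
  rw [h2, hcardD, one_mul] at h1
  rw [← h1]
  exact hDP

end Cfsg.Agent.S4343
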