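import Cfsg.Statements.S4344

set_option autoImplicit false
open Cfsg

namespace Cfsg.Agent.S4344

open scoped Pointwise

/-- Let S be a finite non-abelian simple group, M a maximal subgroup of S and C a cyclic normal subgroup of M. If a Sylow p-subgroup P of S (for a prime p dividing the order of S) is contained in C, then the number of Sylow p-subgroups of S equals the index of M. -/
theorem result {S : Type*} [Group S] [Finite S]
    [IsSimpleGroup S] (hS : ¬ IsMulCommutative S) (p : ℕ) [Fact p.Prime] (hp : p ∣ Nat.card S)
    (M : Subgroup S) (hM : IsCoatom M) (C : Subgroup S) (hCM : C ≤ M) (hCn : (C.subgroupOf M).Normal)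
    (hC : IsCyclic C) (P : Sylow p S) (hP : (P : Subgroup S) ≤ C) :
    Nat.card (Sylow p S) = M.index := by
  rw [P.card_eq_index_normalizer]
  congr 1
  -- commutativity in C
  have hcomm : ∀ x ∈ C, ∀ y ∈ C, x * y = y * x := by
    intro x hx y hy
    have hc : IsMulCommutative C := inferInstance
    have := hc.is_comm.comm (⟨x, hx⟩ : C) ⟨y, hy⟩
    exact congrArg Subtype.val this
  -- M normalizes P
  have hMN : M ≤ Subgroup.normalizer ((P : Subgroup S) : Set S) := by
    intro m hm
    refine (Sylow.smul_eq_iff_mem_normalizer (g := m) (P := P)).mp ?_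
    -- m • P ≤ C
    have hP'C : ((m • P : Sylow p S) : Subgroup S) ≤ C := by
      intro y hy
      rw [Sylow.coe_subgroup_smul, Subgroup.mem_pointwise_smul_iff_inv_smul_mem] at hy
      have hy' : m⁻¹ * y * m ∈ C := hP (by simpa [MulAut.smul_def] using hy)
      have hnorm := hCn.conj_mem ⟨m⁻¹ * y * m, hCM hy'⟩ (by simpa [Subgroup.mem_subgroupOf] using hy') ⟨m, hm⟩
      rw [Subgroup.mem_subgroupOf] at hnorm
      simpa [mul_assoc] using hnorm
    have hnorm : (P : Subgroup S) ≤ Subgroup.normalizer (((m • P : Sylow p S) : Subgroup S) : Set S) := by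
      intro x hx
      rw [Subgroup.mem_normalizer_iff]
      intro y
      constructor
      · intro hy
        have : x * y * x⁻¹ = y := by
          rw [hcomm x (hP hx) y (hP'C hy)]; group
        rw [this]; exact hy
      · intro hy
        have hy2 : x⁻¹ * (x * y * x⁻¹) * x ∈ C := by
          have h1 := hP'C hy
          have hx' := hP hx
          exact C.mul_mem (C.mul_mem (C.inv_mem hx') h1) hx'
        have hyC : y ∈ C := by
          have : x⁻¹ * (x * y * x⁻¹) * x = y := by group
          rwa [this] at hy2
        have : x * y * x⁻¹ = y := by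
          rw [hcomm x (hP hx) y hyC]; group
        rwa [this] at hy
    have hpg := IsPGroup.to_sup_of_normal_right' P.isPGroup' (m • P : Sylow p S).isPGroup' hnorm
    have h1 := P.is_maximal' hpg le_sup_left
    have h2 := (m • P : Sylow p S).is_maximal' hpg le_sup_right
    apply Sylow.ext
    rw [← h2, h1]
  rcases hM.le_iff.mp hMN with h | h
  · exfalso
    have hPn : (P : Subgroup S).Normal := Subgroup.normalizer_eq_top_iff.mp h
    rcases hPn.eq_bot_or_eq_top with h0 | h1
    · exact P.ne_bot_of_dvd_card hp h0
    · apply hS
      constructor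
      constructor
      intro a b
      have ha : a ∈ C := hP (by rw [h1]; trivial)
      have hb : b ∈ C := hP (by rw [h1]; trivial)
      exact hcomm a ha b hb
  · exact h

end Cfsg.Agent.S4344
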