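import Cfsg.Statements.S4345
import Cfsg.Agent.S4341
import Cfsg.Agent.Lib.Helper1.SZ

set_option autoImplicit false
open Cfsg

namespace Cfsg.Agent.S4345

open Subgroup Cfsg.Agent.Lib.Helper23

universe u

/-- the `ℓ`-part of `n` is `≡ 1 mod p` -/
def Good (p ℓ n : ℕ) : Prop := ℓ ^ n.factorization ℓ ≡ 1 [MOD p]

theorem good_one (p ℓ : ℕ) : Good p ℓ 1 := by
  unfold Good
  rw [Nat.factorization_one]
  simp [Nat.ModEq]

theorem good_mul {p ℓ a b : ℕ} (ha : Good p ℓ a) (hb : Good p ℓ b) (ha0 : a ≠ 0) (hb0 : b ≠ 0) :
    Good p ℓ (a * b) := by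
  unfold Good at *
  rw [Nat.factorization_mul ha0 hb0, Finsupp.add_apply, pow_add]
  simpa using Nat.ModEq.mul ha hb

theorem good_prime_pow {p ℓ q a : ℕ} (hq : q.Prime) (h : q ^ a ≡ 1 [MOD p]) :
    Good p ℓ (q ^ a) := by
  unfold Good
  rw [Nat.Prime.factorization_pow hq]
  by_cases hql : ℓ = q
  · subst hql
    simp only [Finsupp.single_eq_same]
    exact h
  · have : (a • Finsupp.single q 1 : ℕ →₀ ℕ) ℓ = 0 := by
      simp [Ne.symm hql]
    simp only [Finsupp.smul_single, smul_eq_mul, mul_one] at this ⊢
    rw [this, pow_zero]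

theorem card_sylow_pos {X : Type*} [Group X] [Finite X] (p : ℕ) [Fact p.Prime] :
    Nat.card (Sylow p X) ≠ 0 := by
  have : Nonempty (Sylow p X) := Sylow.nonempty
  exact Nat.card_pos.ne'

/-- a `q`-group has a unique Sylow `p`-subgroup for `p ≠ q` -/
theorem card_sylow_of_isPGroup_ne {K : Type*} [Group K] [Finite K] (p q : ℕ) [Fact p.Prime]
    [Fact q.Prime] (hpq : q ≠ p) (hK : IsPGroup q K) : Nat.card (Sylow p K) = 1 := by
  rw [Nat.card_eq_one_iff_unique]
  refine ⟨⟨fun S T => ?_⟩, Sylow.nonempty⟩
  have h : ∀ S : Sylow p K, (S : Subgroup K) = ⊥ := by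
    intro S
    have hd := IsPGroup.disjoint_of_ne p q hpq.symm (S : Subgroup K) (S : Subgroup K) S.isPGroup'
      (hK.to_subgroup _)
    exact disjoint_self.1 hd
  apply Sylow.ext
  rw [h S, h T]

theorem main (p ℓ : ℕ) [Fact p.Prime] (hℓ : ℓ.Prime) :
    ∀ (n : ℕ) (G : Type u) [Group G] [Finite G], Group.IsSolvable G → Nat.card G = n →
      Good p ℓ (Nat.card (Sylow p G)) := by
  intro n
  induction n using Nat.strong_induction_on with
  | _ n ih =>
  intro G _ _ hG hn
  by_cases hbot : (⊤ : Subgroup G) = ⊥
  · -- trivial group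
    have P : Sylow p G := default
    have h1 : Nat.card (Sylow p G) ∣ 1 := by
      have hc : Nat.card G = 1 := by
        rw [← Subgroup.card_top (G := G), hbot, Subgroup.card_bot]
      rw [← hc]
      exact (P.card_dvd_index).trans (Subgroup.index_dvd_card _)
    rw [Nat.dvd_one.1 h1]
    exact good_one p ℓ
  · have hsolv : Group.IsSolvable (⊤ : Subgroup G) := inferInstance
    obtain ⟨q, hq, K, hKn, -, hKbot, -, hKexp⟩ :=
      Cfsg.Agent.Lib.Helper1.exists_normal_elementary_abelian_le (Nat.card (⊤ : Subgroup G))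
        (⊤ : Subgroup G) rfl hbot hsolv
    have : Fact q.Prime := ⟨hq⟩
    have hKq : IsPGroup q K := by
      intro x
      refine ⟨1, ?_⟩
      rw [pow_one]
      have := hKexp x x.2
      exact Subtype.ext (by simpa using this)
    have hKcard : 1 < Nat.card K := (Subgroup.one_lt_card_iff_ne_bot K).2 hKbot
    have hquot : Nat.card (G ⧸ K) < n := by
      rw [← hn, Subgroup.card_eq_card_quotient_mul_card_subgroup K]
      have : 0 < Nat.card (G ⧸ K) := Nat.card_pos
      nlinarith
    have ihQ : Good p ℓ (Nat.card (Sylow p (G ⧸ K))) :=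
      ih _ hquot (G ⧸ K) inferInstance rfl
    by_cases hqp : q = p
    · subst hqp
      rw [← card_sylow_quotient_pgroup K hKq]
      exact ihQ
    · have P : Sylow p G := default
      have hQbot : (P : Subgroup G) ⊓ K = ⊥ :=
        disjoint_iff.1 (IsPGroup.disjoint_of_ne p q (Ne.symm hqp) _ _ P.isPGroup' hKq)
      by_cases hPK : (P : Subgroup G) ⊔ K = ⊤
      · -- G = PK
        have NPK : normalizer ((P : Subgroup G) : Set G) ⊔ K = ⊤ := by
          rw [eq_top_iff, ← hPK]
          exact sup_le_sup_right le_normalizer K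
        have h1 : (normalizer ((P : Subgroup G) : Set G)).relIndex
            (K ⊔ normalizer ((P : Subgroup G) : Set G)) =
            (normalizer ((P : Subgroup G) : Set G)).relIndex K :=
          relIndex_sup_of_le_normalizer' (A := K) (by
            have hKtop : normalizer (K : Set G) = ⊤ := @Subgroup.normalizer_eq_top _ _ K hKn
            rw [hKtop]; exact le_top)
        rw [sup_comm, NPK, relIndex_top_right] at h1
        have h0 : Nat.card (Sylow p G) = (normalizer ((P : Subgroup G) : Set G)).index :=
          P.card_eq_index_normalizer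
        rw [← h0] at h1
        have h2 : Nat.card (Sylow p G) ∣ Nat.card K := by
          rw [h1]
          exact Subgroup.relIndex_dvd_card _ _
        obtain ⟨b, hb⟩ := IsPGroup.iff_card.1 hKq
        rw [hb] at h2
        obtain ⟨a, -, ha⟩ := (Nat.dvd_prime_pow hq).1 h2
        rw [ha]
        apply good_prime_pow hq
        rw [← ha]
        exact card_sylow_modEq_one p G
      · -- PK proper: use the product formula
        set N : Subgroup G := ((P : Subgroup G) ⊔ K) ⊓
          normalizer ((((P : Subgroup G) ⊓ K : Subgroup G)) : Set G) with hN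
        have hQN : (P : Subgroup G) ⊓ K ≤ N := by
          rw [hQbot]; exact bot_le
        have hnorm : (((P : Subgroup G) ⊓ K).subgroupOf N).Normal :=
          (Subgroup.normal_subgroupOf_iff_le_normalizer hQN).2 inf_le_right
        have key := Cfsg.Agent.S4341.result p K P N hN
        rw [key]
        have hNtop : N ≠ ⊤ := by
          intro h
          apply hPK
          rw [eq_top_iff, ← h]
          exact inf_le_left
        have hNcard : Nat.card N < n := by
          rw [← hn]
          exact lt_of_le_of_ne (Subgroup.card_le_card_group N)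
            (fun h => hNtop ((Subgroup.card_eq_iff_eq_top N).1 h))
        have hNQ : Nat.card (N ⧸ ((P : Subgroup G) ⊓ K).subgroupOf N) < n :=
          lt_of_le_of_lt (Nat.card_le_card_of_surjective _ (QuotientGroup.mk'_surjective _)) hNcard
        have ihN := ih _ hNQ (N ⧸ ((P : Subgroup G) ⊓ K).subgroupOf N) inferInstance rfl
        have hK1 : Nat.card (Sylow p K) = 1 := card_sylow_of_isPGroup_ne p q hqp hKq
        rw [hK1, mul_one]
        exact good_mul ihQ ihN (card_sylow_pos p) (card_sylow_pos p)

/-- Let G be a finite solvable group and p, ℓ primes. Then the largest power of ℓ dividing the number of Sylow p-subgroups of G is congruent to 1 modulo p. -/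
theorem result {G : Type*} [Group G] [Finite G]
    (hG : Group.IsSolvable G) (p ℓ : ℕ) [Fact p.Prime] (hℓ : ℓ.Prime) :
    ℓ ^ (Nat.card (Sylow p G)).factorization ℓ ≡ 1 [MOD p] := by
  exact main p ℓ hℓ _ G hG rfl

end Cfsg.Agent.S4345
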