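import Cfsg.Statements.S4349
import Cfsg.Agent.Lib.Helper1.SylowTwoUnique

set_option autoImplicit false
open Cfsg

namespace Cfsg.Agent.S4349

/-- Let n ≥ 2 and let x be an element of 2-power order of the symmetric group of degree n. Then x lies in exactly one Sylow 2-subgroup if and only if x has at most two fixed points and the nontrivial cycles of x have pairwise different lengths. -/
theorem result (n : ℕ) (hn : 2 ≤ n)
    (x : Equiv.Perm (Fin n)) (hx : ∃ k : ℕ, orderOf x = 2 ^ k) :
    (∃! P : Sylow 2 (Equiv.Perm (Fin n)), x ∈ P) ↔ (n ≤ x.support.card + 2 ∧ x.cycleType.Nodup) := by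
  classical
  haveI : Fact (Nat.Prime 2) := ⟨Nat.prime_two⟩
  constructor
  · rintro ⟨P, hxP, hP⟩
    have hP' : ∀ P' : Sylow 2 (Equiv.Perm (Fin n)), x ∈ P' → P' = P := hP
    constructor
    · by_contra hcon
      push Not at hcon
      have hcard : 2 < (Finset.univ \ x.support).card := by
        rw [Finset.card_sdiff_of_subset (Finset.subset_univ _), Finset.card_univ, Fintype.card_fin]
        omega
      obtain ⟨a, b, c, ha, hb, hc, hab, hac, hbc⟩ := Finset.two_lt_card_iff.mp hcard
      have hfix : ∀ t ∈ Finset.univ \ x.support, x t = t := by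
        intro t ht
        rw [Finset.mem_sdiff, Equiv.Perm.mem_support, not_not] at ht
        exact ht.2
      have hfa := hfix a ha
      have hfb := hfix b hb
      have hfc := hfix c hc
      refine Cfsg.Agent.Lib.Helper1.SylUniq.false_of_unique_of_three x hx P hP' a b c hbc ?_ ?_ ?_ ?_
      · intro i
        rw [Equiv.Perm.zpow_apply_eq_self_of_apply_eq_self hfa]; exact hab
      · intro i
        rw [Equiv.Perm.zpow_apply_eq_self_of_apply_eq_self hfa,
          Equiv.Perm.zpow_apply_eq_self_of_apply_eq_self hfb]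
        simp
      · intro i
        rw [Equiv.Perm.zpow_apply_eq_self_of_apply_eq_self hfa]; exact hac
      · intro i
        rw [Equiv.Perm.zpow_apply_eq_self_of_apply_eq_self hfa,
          Equiv.Perm.zpow_apply_eq_self_of_apply_eq_self hfc]
        simp
    · by_contra hnd
      rw [Equiv.Perm.cycleType_def, Multiset.nodup_map_iff_inj_on (Finset.nodup _)] at hnd
      push Not at hnd
      obtain ⟨c, hc, c', hc', hcard, hne⟩ := hnd
      rw [Finset.mem_val] at hc hc'
      have hcyc := (Equiv.Perm.mem_cycleFactorsFinset_iff.mp hc).1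
      have hcyc' := (Equiv.Perm.mem_cycleFactorsFinset_iff.mp hc').1
      obtain ⟨a, ha⟩ := hcyc.nonempty_support
      obtain ⟨b, hb⟩ := hcyc'.nonempty_support
      have hca := Equiv.Perm.cycle_is_cycleOf ha hc
      have hcb := Equiv.Perm.cycle_is_cycleOf hb hc'
      have hfa : x a ≠ a :=
        Equiv.Perm.mem_support.mp (Equiv.Perm.mem_cycleFactorsFinset_support_le hc ha)
      have hfb : x b ≠ b :=
        Equiv.Perm.mem_support.mp (Equiv.Perm.mem_cycleFactorsFinset_support_le hc' hb)
      have hnot : ¬ x.SameCycle a b := by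
        intro h
        apply hne
        rw [hca, hcb]
        exact h.cycleOf_eq
      have hcl : Cfsg.Agent.Lib.Helper1.SylUniq.cl x a = Cfsg.Agent.Lib.Helper1.SylUniq.cl x b := by
        unfold Cfsg.Agent.Lib.Helper1.SylUniq.cl
        rw [← hca, ← hcb]
        exact hcard
      have hfb' : x (x b) ≠ x b := fun h => hfb (x.injective h)
      have hsc : x.SameCycle b (x b) := ⟨1, by simp⟩
      have hcl' : Cfsg.Agent.Lib.Helper1.SylUniq.cl x a = Cfsg.Agent.Lib.Helper1.SylUniq.cl x (x b) := by
        rw [hcl]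
        unfold Cfsg.Agent.Lib.Helper1.SylUniq.cl
        rw [hsc.cycleOf_eq]
      refine Cfsg.Agent.Lib.Helper1.SylUniq.false_of_unique_of_three x hx P hP' a b (x b) (fun h => hfb h.symm) ?_ ?_ ?_ ?_
      · intro i h
        exact hnot ⟨i, h⟩
      · intro i
        rw [Cfsg.Agent.Lib.Helper1.SylUniq.zpow_apply_eq_iff hfa, Cfsg.Agent.Lib.Helper1.SylUniq.zpow_apply_eq_iff hfb, hcl]
      · intro i h
        have h' : x.SameCycle a (x b) := ⟨i, h⟩
        exact hnot (h'.trans hsc.symm)
      · intro i
        rw [Cfsg.Agent.Lib.Helper1.SylUniq.zpow_apply_eq_iff hfa, Cfsg.Agent.Lib.Helper1.SylUniq.zpow_apply_eq_iff hfb', hcl']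
  · rintro ⟨h1, h2⟩
    have hgood : Cfsg.Agent.Lib.Helper1.SylUniq.GoodOn x Set.univ :=
      Cfsg.Agent.Lib.Helper1.SylUniq.goodOn_univ_of_cycleType (by rwa [Fintype.card_fin]) h2
    have hZ : IsPGroup 2 (Subgroup.zpowers x) := by
      obtain ⟨k, hk⟩ := hx
      apply IsPGroup.of_card (n := k)
      rw [Nat.card_zpowers, hk]
    obtain ⟨P, hP⟩ := hZ.exists_le_sylow
    have hxP : x ∈ P := hP (Subgroup.mem_zpowers x)
    refine ⟨P, hxP, ?_⟩
    intro P' hxP'
    exact Cfsg.Agent.Lib.Helper1.SylUniq.sylow_unique_of_good hx hgood P' P hxP' hxP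

end Cfsg.Agent.S4349
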