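import Cfsg.Statements.S4354
import Cfsg.Agent.Lib.Helper23.PClassAbelian

set_option autoImplicit false
open Cfsg

namespace Cfsg.Agent.S4354

/-- Let G be a finite group and p a prime such that the Sylow p-subgroups of G are non-abelian while every element of p-power order has conjugacy class size prime to p, and suppose no nontrivial proper normal subgroup N of G has this property and no quotient G/N by such an N has it. Then G is simple. -/
theorem result {G : Type*} [Group G] [Finite G]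
    (p : ℕ) [Fact p.Prime] (h : ((∃ P : Sylow p G, ¬ IsMulCommutative P) ∧ ∀ x : G, (∃ k : ℕ, orderOf x = p ^ k) → ¬ p ∣ (Subgroup.centralizer ({x} : Set G)).index))
    (hmin : ∀ (N : Subgroup G) [N.Normal], N ≠ ⊥ → N ≠ ⊤ →
      ¬ ((∃ P : Sylow p N, ¬ IsMulCommutative P) ∧ ∀ x : N, (∃ k : ℕ, orderOf x = p ^ k) → ¬ p ∣ (Subgroup.centralizer ({x} : Set N)).index) ∧
      ¬ ((∃ P : Sylow p (G ⧸ N), ¬ IsMulCommutative P) ∧ ∀ x : (G ⧸ N), (∃ k : ℕ, orderOf x = p ^ k) → ¬ p ∣ (Subgroup.centralizer ({x} : Set (G ⧸ N))).index)) :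
    IsSimpleGroup G := by
  classical
  have hcp : Cfsg.Agent.Lib.Helper23.PClassAbelian.CP p G := h.2
  obtain ⟨P0, hP0⟩ := h.1
  have hnt : Nontrivial G := by
    by_contra hn
    rw [not_nontrivial_iff_subsingleton] at hn
    exact hP0 ⟨⟨fun a b => Subsingleton.elim _ _⟩⟩
  refine { toNontrivial := hnt, eq_bot_or_eq_top_of_normal := ?_ }
  intro N hNn
  by_contra hcon
  push Not at hcon
  obtain ⟨hbot, htop⟩ := hcon
  haveI := hNn
  obtain ⟨h1, h2⟩ := hmin N hbot htop
  have hcpN := hcp.subgroup N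
  have hcpQ := hcp.quotient N
  have hN : ∀ R : Sylow p N, ∀ a ∈ R, ∀ b ∈ R, a * b = b * a := by
    intro R a ha b hb
    by_contra hne
    apply h1
    refine ⟨⟨R, ?_⟩, hcpN⟩
    intro hc
    have := hc.is_comm.comm (⟨a, ha⟩ : (R : Subgroup N)) ⟨b, hb⟩
    exact hne (congrArg Subtype.val this)
  have hQ : ∀ R : Sylow p (G ⧸ N), ∀ a ∈ R, ∀ b ∈ R, a * b = b * a := by
    intro R a ha b hb
    by_contra hne
    apply h2
    refine ⟨⟨R, ?_⟩, hcpQ⟩
    intro hc
    have := hc.is_comm.comm (⟨a, ha⟩ : (R : Subgroup (G ⧸ N))) ⟨b, hb⟩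
    exact hne (congrArg Subtype.val this)
  have hP := Cfsg.Agent.Lib.Helper23.PClassAbelian.sylow_comm_of_normal hcp N hN hQ P0
  apply hP0
  exact ⟨⟨fun a b => Subtype.ext (hP a.1 a.2 b.1 b.2)⟩⟩

end Cfsg.Agent.S4354
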