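import Cfsg.Statements.S4357
import Cfsg.Agent.Lib.Helper15.RedSyl2

set_option autoImplicit false
open Cfsg

namespace Cfsg.Agent.S4357

open Matrix
open Cfsg.Agent.Lib.Helper14
open Cfsg.Agent.Lib.Helper15

theorem two_pow_mod_four (k : ℕ) : 2 ^ k = 1 ∨ 2 ^ k = 2 ∨ 2 ^ k % 4 = 0 := by
  rcases k with _ | _ | k
  · left; rfl
  · right; left; rfl
  · right; right
    rw [show 2 ^ (k + 1 + 1) = 4 * 2 ^ k by ring]
    exact Nat.mul_mod_right 4 _

/-- the torus of a square root of `-1` is a `2`-group when `q ± 1` is a suitable power of `2` -/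
theorem torus_two_pow {F : Type*} [Field F] [Fintype F] (hodd : Odd (Fintype.card F)) (h2 : (2 : F) ≠ 0)
    (h : (∃ k : ℕ, Fintype.card F + 1 = 2 ^ k) ∨ ∃ k : ℕ, Fintype.card F = 2 ^ k + 1)
    (x : SpecialLinearGroup (Fin 2) F) (hx : x * x = -1) :
    ∃ j : ℕ, Nat.card (Subgroup.centralizer ({x} : Set (SpecialLinearGroup (Fin 2) F))) = 2 ^ j := by
  obtain ⟨c1, c3⟩ := card_torus_of_sq h2 x hx
  have hq2 : 2 ≤ Fintype.card F := Fintype.one_lt_card
  rw [Nat.odd_iff] at hodd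
  have h4 : Fintype.card F % 4 = 1 ∨ Fintype.card F % 4 = 3 := by omega
  rcases h4 with h4 | h4
  · rw [c1 h4]
    rcases h with ⟨k, hk⟩ | ⟨k, hk⟩
    · rcases two_pow_mod_four k with h' | h' | h' <;> omega
    · exact ⟨k, by omega⟩
  · rw [c3 h4]
    rcases h with ⟨k, hk⟩ | ⟨k, hk⟩
    · exact ⟨k, hk⟩
    · rcases two_pow_mod_four k with h' | h' | h'
      · omega
      · exact ⟨2, by omega⟩
      · omega

/-- the torus of a square root of `-1` is not a `2`-group otherwise -/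
theorem torus_not_two_pow {F : Type*} [Field F] [Fintype F] (h2 : (2 : F) ≠ 0)
    (h1 : ¬ ∃ k : ℕ, Fintype.card F + 1 = 2 ^ k) (h3 : ¬ ∃ k : ℕ, Fintype.card F = 2 ^ k + 1)
    (hodd : Odd (Fintype.card F))
    (x : SpecialLinearGroup (Fin 2) F) (hx : x * x = -1) :
    ¬ ∃ j : ℕ, Nat.card (Subgroup.centralizer ({x} : Set (SpecialLinearGroup (Fin 2) F))) = 2 ^ j := by
  obtain ⟨c1, c3⟩ := card_torus_of_sq h2 x hx
  have hq2 : 2 ≤ Fintype.card F := Fintype.one_lt_card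
  rw [Nat.odd_iff] at hodd
  have h4 : Fintype.card F % 4 = 1 ∨ Fintype.card F % 4 = 3 := by omega
  rintro ⟨j, hj⟩
  rcases h4 with h4 | h4
  · rw [c1 h4] at hj
    exact h3 ⟨j, by omega⟩
  · rw [c3 h4] at hj
    exact h1 ⟨j, hj⟩

theorem card_two_pow_of_char_two {F : Type*} [Field F] [Fintype F] (h2 : (2 : F) = 0) :
    ∃ k : ℕ, Fintype.card F = 2 ^ k := by
  obtain ⟨p', hp'⟩ := CharP.exists F
  obtain ⟨n, hn1, hn2⟩ := FiniteField.card F p'
  have h2' : ((2 : ℕ) : F) = 0 := by exact_mod_cast h2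
  rw [CharP.cast_eq_zero_iff F p'] at h2'
  have : p' = 2 := (Nat.prime_dvd_prime_iff_eq hn1 Nat.prime_two).1 h2'
  exact ⟨n, by rw [hn2, this]⟩

/-- Let F be a finite field with q elements, p a prime and G = SL(2, F). Say a Sylow p-subgroup Q of G is redundant when every element of p-power order lies in some Sylow p-subgroup other than Q. Then G has a redundant Sylow p-subgroup if and only if p = 2 and q is not of any of the forms 2ᵏ - 1, 2ᵏ, 2ᵏ + 1. -/
theorem result {F : Type*} [Field F] [Fintype F] (p : ℕ) [Fact p.Prime] :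
    (∃ Q : Sylow p (Matrix.SpecialLinearGroup (Fin 2) F), ∀ x : Matrix.SpecialLinearGroup (Fin 2) F,
        (∃ k : ℕ, orderOf x = p ^ k) → ∃ P : Sylow p (Matrix.SpecialLinearGroup (Fin 2) F), P ≠ Q ∧ x ∈ P) ↔
      (p = 2 ∧ (¬ ∃ k : ℕ, Fintype.card F + 1 = 2 ^ k) ∧ (¬ ∃ k : ℕ, Fintype.card F = 2 ^ k) ∧
        ¬ ∃ k : ℕ, Fintype.card F = 2 ^ k + 1) := by
  constructor
  · rintro ⟨Q, hQ⟩
    by_cases hp : p ≠ 2 ∨ (2 : F) = 0
    · obtain ⟨x, hxo, hx⟩ := exists_unique_sylow_elt p hp Q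
      obtain ⟨P, hPQ, hxP⟩ := hQ x hxo
      exact absurd (hx P hxP) hPQ
    · push Not at hp
      obtain ⟨hp2, h2⟩ := hp
      subst hp2
      have hodd : Odd (Fintype.card F) := by
        rw [← Nat.not_even_iff_odd, even_iff_two_dvd, two_dvd_card_iff]
        exact h2
      have key : ¬ ((∃ k : ℕ, Fintype.card F + 1 = 2 ^ k) ∨ ∃ k : ℕ, Fintype.card F = 2 ^ k + 1) := by
        intro h
        obtain ⟨y, hyo, hy⟩ := exists_unique_sylow_elt_two hodd h2 (torus_two_pow hodd h2 h) Q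
        obtain ⟨P, hPQ, hyP⟩ := hQ y hyo
        exact absurd (hy P hyP) hPQ
      refine ⟨rfl, fun h => key (Or.inl h), ?_, fun h => key (Or.inr h)⟩
      rintro ⟨k, hk⟩
      have hq2 : 2 ≤ Fintype.card F := Fintype.one_lt_card
      rw [Nat.odd_iff] at hodd
      rcases two_pow_mod_four k with h' | h' | h' <;> omega
  · rintro ⟨rfl, h1, h2', h3⟩
    have h2 : (2 : F) ≠ 0 := fun h => h2' (card_two_pow_of_char_two h)
    have hodd : Odd (Fintype.card F) := by
      rw [← Nat.not_even_iff_odd, even_iff_two_dvd, two_dvd_card_iff]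
      exact h2
    obtain ⟨Q⟩ := (Sylow.nonempty : Nonempty (Sylow 2 (SpecialLinearGroup (Fin 2) F)))
    refine ⟨Q, ?_⟩
    rintro g ⟨k, hk⟩
    have hg : g ^ 2 ^ k = 1 := by rw [← hk]; exact pow_orderOf_eq_one g
    obtain ⟨x, hx, S, hS, hgx⟩ := exists_torusTwo_cover hodd h2 g k hg
    obtain ⟨S', hne, hle⟩ := exists_two_sylow hodd h2 x hx S hS (torus_not_two_pow h2 h1 h3 hodd x hx)
    by_cases hSQ : S = Q
    · exact ⟨S', by rw [← hSQ]; exact hne, hle hgx⟩
    · exact ⟨S, hSQ, torusTwo_le_sylow h2 x hx S hS hgx⟩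

end Cfsg.Agent.S4357
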