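import Cfsg.Statements.S4365

set_option autoImplicit false
open Cfsg

namespace Cfsg.Agent.S4365

universe u

section Norm

variable {A : Type u} [CommGroup A]

/-- the norm `∏_{k<n} Φ^k x` of an automorphism -/
def Nm (n : ℕ) (Φ : MulAut A) (x : A) : A := ∏ k ∈ Finset.range n, (Φ ^ k) x

theorem Nm_one (n : ℕ) (x : A) : Nm n (1 : MulAut A) x = x ^ n := by
  unfold Nm
  simp

theorem Nm_fixed {n : ℕ} {Φ : MulAut A} (h : Φ ^ n = 1) (x : A) :
    Φ (Nm n Φ x) = Nm n Φ x := by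
  unfold Nm
  rw [map_prod]
  have h1 : ∀ k, Φ ((Φ ^ k) x) = (Φ ^ (k + 1)) x := by
    intro k
    rw [pow_succ', MulAut.mul_apply]
  rw [Finset.prod_congr rfl (fun k _ => h1 k)]
  have h2 := Finset.prod_range_succ (fun k => (Φ ^ k) x) n
  have h3 := Finset.prod_range_succ' (fun k => (Φ ^ k) x) n
  rw [h2] at h3
  simp only [h, pow_zero, MulAut.one_apply] at h3
  exact (mul_right_cancel h3).symm

theorem Nm_identity (n : ℕ) {Φ₁ Φ₂ : MulAut A} (hc : Commute Φ₁ Φ₂) (x : A) :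
    ∏ k ∈ Finset.range n, Nm n (Φ₁ * Φ₂ ^ k) x =
      ∏ i ∈ Finset.range n, (Φ₁ ^ i) (Nm n (Φ₂ ^ i) x) := by
  unfold Nm
  rw [Finset.prod_comm]
  apply Finset.prod_congr rfl
  intro i _
  rw [map_prod]
  apply Finset.prod_congr rfl
  intro k _
  rw [(hc.pow_right k).mul_pow, MulAut.mul_apply, ← pow_mul, ← pow_mul, mul_comm k i]

end Norm

section Main

variable {P : Type u} [Group P]

/-- the centralizer of an element -/
abbrev Cz (x : P) : Subgroup P := Subgroup.centralizer ({x} : Set P)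

theorem mem_Cz {x y : P} : y ∈ Cz x ↔ x * y = y * x := by
  rw [Subgroup.mem_centralizer_singleton_iff]
  exact eq_comm

/-- the centre of the centralizer of `u` -/
def ZL (u : P) : Subgroup P := Subgroup.centralizer ((Cz u : Subgroup P) : Set P) ⊓ Cz u

theorem mem_ZL {u v : P} : v ∈ ZL u ↔ (∀ l ∈ Cz u, l * v = v * l) ∧ v ∈ Cz u := by
  unfold ZL
  rw [Subgroup.mem_inf, Subgroup.mem_centralizer_iff]
  constructor
  · rintro ⟨h1, h2⟩
    exact ⟨fun l hl => h1 l hl, h2⟩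
  · rintro ⟨h1, h2⟩
    exact ⟨fun l hl => h1 l hl, h2⟩

theorem ZL_normal (u : P) [hn : (Cz u).Normal] : (ZL u).Normal := by
  constructor
  intro v hv g
  rw [mem_ZL] at hv ⊢
  refine ⟨?_, hn.conj_mem v hv.2 g⟩
  intro l hl
  have h1 : g⁻¹ * l * g ∈ Cz u := by
    have h0 := hn.conj_mem l hl g⁻¹
    rwa [inv_inv] at h0
  have h2 := hv.1 _ h1
  calc l * (g * v * g⁻¹) = g * ((g⁻¹ * l * g) * v) * g⁻¹ := by group
    _ = g * (v * (g⁻¹ * l * g)) * g⁻¹ := by rw [h2]
    _ = g * v * g⁻¹ * l := by group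

instance ZL_comm (u : P) : IsMulCommutative (ZL u) := by
  constructor
  constructor
  intro v w
  apply Subtype.ext
  have hv := mem_ZL.mp v.2
  have hw := mem_ZL.mp w.2
  exact hw.1 v hv.2

variable [Finite P] (p : ℕ) [hp : Fact p.Prime] (a : ℕ)

theorem index_of_nc (hcs' : ∀ x : P, (Cz x).index = 1 ∨ (Cz x).index = p ^ a) {x : P}
    (hx : x ∉ Subgroup.center P) : (Cz x).index = p ^ a := by
  rcases hcs' x with h | h
  · exfalso
    apply hx
    rw [Subgroup.index_eq_one] at h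
    rw [Subgroup.mem_center_iff]
    intro g
    have h1 : g ∈ Cz x := by
      rw [h]; exact Subgroup.mem_top g
    exact (mem_Cz.mp h1).symm
  · exact h

theorem Cz_eq_of_le (hcs' : ∀ x : P, (Cz x).index = 1 ∨ (Cz x).index = p ^ a) {v w : P}
    (hv : v ∉ Subgroup.center P) (hw : w ∉ Subgroup.center P) (h : Cz v ≤ Cz w) :
    Cz v = Cz w := by
  apply Subgroup.eq_of_le_of_card_ge h
  have h1 := Subgroup.card_mul_index (Cz v)
  have h2 := Subgroup.card_mul_index (Cz w)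
  rw [index_of_nc p a hcs' hv] at h1
  rw [index_of_nc p a hcs' hw] at h2
  have hpos : 0 < p ^ a := pow_pos hp.out.pos a
  have h3 : Nat.card (Cz v) = Nat.card (Cz w) :=
    Nat.eq_of_mul_eq_mul_right hpos (h1.trans h2.symm)
  exact h3.ge

/-- all class sizes `1` or `p` -/
theorem case_one (hP : IsPGroup p P)
    (hcs' : ∀ x : P, (Cz x).index = 1 ∨ (Cz x).index = p ^ 1) (x : P) :
    x ^ p ∈ Subgroup.center P := by
  rw [Subgroup.mem_center_iff]
  intro y
  by_cases hy : y ∈ Subgroup.center P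
  · exact (Subgroup.mem_center_iff.mp hy (x ^ p)).symm
  · have hidx : (Cz y).index = p := by rw [index_of_nc p 1 hcs' hy, pow_one]
    have hn : (Cz y).Normal := by
      apply Subgroup.normal_of_index_eq_minFac_card
      rw [hidx]
      obtain ⟨n, hn⟩ := hP.exists_card_eq
      rw [hn]
      have hn0 : n ≠ 0 := by
        rintro rfl
        have h1 : (Cz y).index ∣ Nat.card P := Subgroup.index_dvd_card _
        rw [hidx, hn, pow_zero] at h1
        exact hp.out.one_lt.ne' (Nat.dvd_one.mp h1)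
      exact (hp.out.pow_minFac hn0).symm
    have h1 : x ^ p ∈ Cz y := by
      have h2 : ((QuotientGroup.mk x : P ⧸ Cz y)) ^ p = 1 := by
        have h3 : Nat.card (P ⧸ Cz y) = p := by
          rw [← Subgroup.index_eq_card]; exact hidx
        have h4 : ((QuotientGroup.mk x : P ⧸ Cz y)) ^ Nat.card (P ⧸ Cz y) = 1 :=
          pow_card_eq_one'
        rwa [h3] at h4
      rw [← QuotientGroup.mk_pow, QuotientGroup.eq_one_iff] at h2
      exact h2
    exact mem_Cz.mp h1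

/-- an element of `Z₂(P)` of order `p` modulo the centre -/
theorem exists_u (hP : IsPGroup p P) (hnab : Subgroup.center P ≠ ⊤) :
    ∃ u : P, u ∉ Subgroup.center P ∧ u ^ p ∈ Subgroup.center P ∧
      (∀ g : P, g * u * g⁻¹ * u⁻¹ ∈ Subgroup.center P) ∧
      ∀ x : P, (x ^ p)⁻¹ * (u * x) ^ p ∈ Subgroup.center P := by
  obtain ⟨π, hπdef⟩ : ∃ π : P →* P ⧸ Subgroup.center P, π = QuotientGroup.mk' _ := ⟨_, rfl⟩
  have hπ : ∀ g, π g = 1 ↔ g ∈ Subgroup.center P := by
    intro g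
    rw [hπdef, ← MonoidHom.mem_ker, QuotientGroup.ker_mk']
  have hπs : Function.Surjective π := by
    rw [hπdef]; exact QuotientGroup.mk'_surjective _
  have hQ : IsPGroup p (P ⧸ Subgroup.center P) := hP.to_quotient (Subgroup.center P)
  have hQnt : Nontrivial (P ⧸ Subgroup.center P) := by
    obtain ⟨g, hg⟩ : ∃ g : P, g ∉ Subgroup.center P := by
      by_contra hall
      push Not at hall
      exact hnab ((Subgroup.eq_top_iff' _).mpr hall)
    exact ⟨⟨π g, 1, fun h => hg ((hπ g).mp h)⟩⟩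
  have hcnt : Nontrivial (Subgroup.center (P ⧸ Subgroup.center P)) := hQ.center_nontrivial
  have hQc : IsPGroup p (Subgroup.center (P ⧸ Subgroup.center P)) := hQ.to_subgroup _
  have hdvd : p ∣ Nat.card (Subgroup.center (P ⧸ Subgroup.center P)) := by
    obtain ⟨n, hn⟩ := hQc.exists_card_eq
    have hn0 : n ≠ 0 := by
      rintro rfl
      have h1 := Finite.one_lt_card (α := Subgroup.center (P ⧸ Subgroup.center P))
      rw [hn, pow_zero] at h1
      exact lt_irrefl _ h1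
    rw [hn]
    exact dvd_pow_self p hn0
  obtain ⟨ub, hub⟩ := exists_prime_orderOf_dvd_card' p hdvd
  obtain ⟨u, hu⟩ := hπs (ub : P ⧸ Subgroup.center P)
  have hubne : (ub : P ⧸ Subgroup.center P) ≠ 1 := by
    intro h
    have h1 : ub = 1 := Subtype.ext h
    rw [h1, orderOf_one] at hub
    exact hp.out.one_lt.ne' hub.symm
  have hubp : (ub : P ⧸ Subgroup.center P) ^ p = 1 := by
    have h1 : ub ^ p = 1 := by rw [← hub]; exact pow_orderOf_eq_one ub
    have h2 := congrArg Subtype.val h1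
    rwa [Subgroup.coe_pow] at h2
  have hubc : ∀ q : P ⧸ Subgroup.center P, q * ub = ub * q :=
    fun q => Subgroup.mem_center_iff.mp ub.2 q
  refine ⟨u, ?_, ?_, ?_, ?_⟩
  · intro h
    apply hubne
    rw [← hu]
    exact (hπ u).mpr h
  · rw [← hπ, map_pow, hu, hubp]
  · intro g
    rw [← hπ, map_mul, map_mul, map_mul, map_inv, map_inv, hu, hubc, mul_inv_cancel_right,
      mul_inv_cancel]
  · intro x
    rw [← hπ, map_mul, map_inv, map_pow, map_pow, map_mul, hu]
    have hcm : Commute (ub : P ⧸ Subgroup.center P) (π x) := (hubc (π x)).symm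
    rw [hcm.mul_pow, hubp, one_mul, inv_mul_cancel]

section WithU

variable (hcs' : ∀ x : P, (Cz x).index = 1 ∨ (Cz x).index = p ^ a)
  (u : P) (hu : u ∉ Subgroup.center P) (hup : u ^ p ∈ Subgroup.center P)
  (huc : ∀ g : P, g * u * g⁻¹ * u⁻¹ ∈ Subgroup.center P)
  (hux : ∀ x : P, (x ^ p)⁻¹ * (u * x) ^ p ∈ Subgroup.center P)

include hcs' hu hux in
/-- elements not commuting with `u` have central `p`-th powers -/
theorem pow_mem_center_of_not_mem (x : P) (hx : x ∉ Cz u) : x ^ p ∈ Subgroup.center P := by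
  by_contra hxp
  have hg : u * x ∉ Subgroup.center P := by
    intro h
    apply hx
    rw [mem_Cz]
    have h1 := Subgroup.mem_center_iff.mp h u
    rw [mul_assoc] at h1
    exact mul_left_cancel h1
  have hxnc : x ∉ Subgroup.center P := fun h => hxp (Subgroup.pow_mem _ h p)
  have hc := hux x
  have hcc := Subgroup.mem_center_iff.mp hc
  have hgp : (u * x) ^ p = x ^ p * ((x ^ p)⁻¹ * (u * x) ^ p) := by group
  have hle : Cz (u * x) ≤ Cz (x ^ p) := by
    intro y hy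
    rw [mem_Cz] at hy ⊢
    have h1 : Commute y (u * x) := hy.symm
    have h2 : Commute y ((u * x) ^ p) := h1.pow_right p
    have h3 : Commute y ((x ^ p)⁻¹ * (u * x) ^ p) := hcc y
    have h4 : Commute y (((x ^ p)⁻¹ * (u * x) ^ p)⁻¹) := h3.inv_right
    have h5 : x ^ p = (u * x) ^ p * ((x ^ p)⁻¹ * (u * x) ^ p)⁻¹ := by group
    have h6 : Commute y (x ^ p) := by
      rw [h5]; exact h2.mul_right h4
    exact h6.symm
  have he1 : Cz (u * x) = Cz (x ^ p) := Cz_eq_of_le p a hcs' hg hxp hle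
  have hle2 : Cz x ≤ Cz (x ^ p) := by
    intro y hy
    rw [mem_Cz] at hy ⊢
    have h1 : Commute y x := hy.symm
    exact (h1.pow_right p).symm
  have he2 : Cz x = Cz (x ^ p) := Cz_eq_of_le p a hcs' hxnc hxp hle2
  have h1 : x ∈ Cz (u * x) := by
    rw [he1, ← he2, mem_Cz]
  rw [mem_Cz] at h1
  apply hx
  rw [mem_Cz]
  have h2 : u * x * x = x * u * x := by rw [h1, mul_assoc]
  exact mul_right_cancel h2

include hcs' hu hup huc in
/-- structure of `P / C(u)` -/
theorem exists_indep (ha : 2 ≤ a) :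
    (Cz u).Normal ∧ (∀ g : P, g ^ p ∈ Cz u) ∧ (∀ g h : P, g * h * g⁻¹ * h⁻¹ ∈ Cz u) ∧
    ∃ y₁ y₂ : P, (∀ k : ℕ, y₁ * y₂ ^ k ∉ Cz u) ∧ ∀ i, 0 < i → i < p → y₂ ^ i ∉ Cz u := by
  obtain ⟨ψ, hψ⟩ : ∃ ψ : P →* P, ∀ g, ψ g = g * u * g⁻¹ * u⁻¹ := by
    refine ⟨MonoidHom.mk' (fun g => g * u * g⁻¹ * u⁻¹) ?_, fun g => rfl⟩
    intro g h
    have hc := Subgroup.mem_center_iff.mp (huc h)
    have e1 : g * h * u * (g * h)⁻¹ * u⁻¹ = g * (h * u * h⁻¹ * u⁻¹) * (u * g⁻¹ * u⁻¹) := by group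
    have e2 : (h * u * h⁻¹ * u⁻¹) * g * (u * g⁻¹ * u⁻¹) =
        (h * u * h⁻¹ * u⁻¹) * (g * u * g⁻¹ * u⁻¹) := by group
    rw [e1, hc g, e2]
    exact (hc _).symm
  have hψc : ∀ g, ψ g ∈ Subgroup.center P := fun g => by rw [hψ]; exact huc g
  have hker : ψ.ker = Cz u := by
    ext g
    rw [MonoidHom.mem_ker, hψ, mem_Cz]
    constructor
    · intro h
      have h1 : g * u = u * g := by
        calc g * u = (g * u * g⁻¹ * u⁻¹) * (u * g) := by group
          _ = u * g := by rw [h, one_mul]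
      exact h1.symm
    · intro h
      calc g * u * g⁻¹ * u⁻¹ = (u * g) * g⁻¹ * u⁻¹ := by rw [h]
        _ = 1 := by group
  have hψp : ∀ g, ψ g ^ p = 1 := by
    intro g
    have hcg := Subgroup.mem_center_iff.mp (hψc g)
    have e1 : ψ g * u = g * u * g⁻¹ := by rw [hψ]; group
    have hcm : Commute (ψ g) u := (hcg u).symm
    have e2 : (ψ g * u) ^ p = ψ g ^ p * u ^ p := hcm.mul_pow p
    have e3 : (g * u * g⁻¹) ^ p = u ^ p := by
      rw [conj_pow, Subgroup.mem_center_iff.mp hup g, mul_assoc, mul_inv_cancel, mul_one]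
    rw [e1, e3] at e2
    apply mul_right_cancel (b := u ^ p)
    rw [one_mul]
    exact e2.symm
  have hn : (Cz u).Normal := by
    rw [← hker]; exact MonoidHom.normal_ker ψ
  have hpow : ∀ g : P, g ^ p ∈ Cz u := by
    intro g
    rw [← hker, MonoidHom.mem_ker, map_pow, hψp]
  have hcomm : ∀ g h : P, g * h * g⁻¹ * h⁻¹ ∈ Cz u := by
    intro g h
    rw [← hker, MonoidHom.mem_ker, map_mul, map_mul, map_mul, map_inv, map_inv]
    have h1 := Subgroup.mem_center_iff.mp (hψc g) (ψ h)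
    rw [← h1]
    group
  have hex : ∃ y₂, y₂ ∉ Cz u := by
    by_contra hall
    push Not at hall
    apply hu
    rw [Subgroup.mem_center_iff]
    intro g
    exact (mem_Cz.mp (hall g)).symm
  obtain ⟨y₂, hy₂⟩ := hex
  have hc2 : ψ y₂ ≠ 1 := by
    intro h
    apply hy₂
    rw [← hker, MonoidHom.mem_ker]
    exact h
  have hord : orderOf (ψ y₂) = p := orderOf_eq_prime (hψp y₂) hc2
  have hcard : Nat.card ψ.range = p ^ a := by
    rw [← Subgroup.index_ker, hker]
    exact index_of_nc p a hcs' hu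
  have hex1 : ∃ y₁, ψ y₁ ∉ Subgroup.zpowers (ψ y₂) := by
    by_contra hall
    push Not at hall
    have hle : ψ.range ≤ Subgroup.zpowers (ψ y₂) := by
      rintro _ ⟨y, rfl⟩
      exact hall y
    have h1 := Subgroup.card_le_of_le hle
    rw [hcard, Nat.card_zpowers, hord] at h1
    have h2 : p ^ 2 ≤ p ^ a := Nat.pow_le_pow_right hp.out.pos ha
    have h3 : p < p ^ 2 := by nlinarith [hp.out.one_lt]
    omega
  obtain ⟨y₁, hy₁⟩ := hex1
  refine ⟨hn, hpow, hcomm, y₁, y₂, ?_, ?_⟩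
  · intro k hk
    rw [← hker, MonoidHom.mem_ker, map_mul, map_pow] at hk
    apply hy₁
    have h1 : ψ y₁ = (ψ y₂ ^ k)⁻¹ := eq_inv_of_mul_eq_one_left hk
    rw [h1]
    exact Subgroup.inv_mem _ (Subgroup.pow_mem _ (Subgroup.mem_zpowers _) k)
  · intro i hi0 hip hmem
    rw [← hker, MonoidHom.mem_ker, map_pow] at hmem
    have h1 := orderOf_dvd_of_pow_eq_one hmem
    rw [hord] at h1
    exact absurd (Nat.le_of_dvd hi0 h1) (not_le.mpr hip)

open scoped IsMulCommutative in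
include hcs' hu in
/-- the case `C(x) = C(u)`: the norm argument -/
theorem norm_case [hLn : (Cz u).Normal]
    (hpow : ∀ g : P, g ^ p ∈ Cz u) (hcomm : ∀ g h : P, g * h * g⁻¹ * h⁻¹ ∈ Cz u)
    (y₁ y₂ : P) (h1 : ∀ k : ℕ, y₁ * y₂ ^ k ∉ Cz u) (h2 : ∀ i, 0 < i → i < p → y₂ ^ i ∉ Cz u)
    (x : P) (hx : Cz x = Cz u) : x ^ p ∈ Subgroup.center P := by
  have hAn : (ZL u).Normal := ZL_normal u
  obtain ⟨φ, hφ⟩ : ∃ φ : P →* MulAut (ZL u),
      ∀ (g : P) (v : ZL u), ((φ g v : ZL u) : P) = g * v * g⁻¹ :=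
    ⟨MulAut.conjNormal, fun g v => MulAut.conjNormal_apply g v⟩
  have hφL : ∀ l ∈ Cz u, φ l = 1 := by
    intro l hl
    apply MulEquiv.ext
    intro v
    apply Subtype.ext
    rw [hφ, MulAut.one_apply, (mem_ZL.mp v.2).1 l hl, mul_assoc, mul_inv_cancel, mul_one]
  have hφp : ∀ e : P, (φ e) ^ p = 1 := fun e => by
    rw [← map_pow]; exact hφL _ (hpow e)
  have hfix : ∀ e : P, e ∉ Cz u → ∀ v : ZL u, φ e v = v → (v : P) ∈ Subgroup.center P := by
    intro e he v hv
    by_contra hvc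
    have h3 : Cz u ≤ Cz (v : P) := by
      intro l hl
      rw [mem_Cz]
      exact ((mem_ZL.mp v.2).1 l hl).symm
    have h4 := Cz_eq_of_le p a hcs' hu hvc h3
    apply he
    rw [h4, mem_Cz]
    have h5 := congrArg Subtype.val hv
    rw [hφ] at h5
    calc (v : P) * e = (e * v * e⁻¹) * e := by rw [h5]
      _ = e * v := by group
  have hcen : ∀ (g : P) (v : ZL u), (v : P) ∈ Subgroup.center P → φ g v = v := by
    intro g v hv
    apply Subtype.ext
    rw [hφ, Subgroup.mem_center_iff.mp hv g, mul_assoc, mul_inv_cancel, mul_one]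
  have hxA : x ∈ ZL u := by
    rw [mem_ZL]
    constructor
    · intro l hl
      rw [← hx] at hl
      exact (mem_Cz.mp hl).symm
    · rw [← hx, mem_Cz]
  obtain ⟨xA, hxA'⟩ : ∃ xA : ZL u, (xA : P) = x := ⟨⟨x, hxA⟩, rfl⟩
  have hc : Commute (φ y₁) (φ y₂) := by
    have h3 : y₁ * y₂ = (y₁ * y₂ * y₁⁻¹ * y₂⁻¹) * (y₂ * y₁) := by group
    change φ y₁ * φ y₂ = φ y₂ * φ y₁
    rw [← map_mul, ← map_mul, h3, map_mul, hφL _ (hcomm y₁ y₂), one_mul]
  obtain ⟨Zc, hZc⟩ : ∃ Zc : Subgroup (ZL u), ∀ v : ZL u, v ∈ Zc ↔ (v : P) ∈ Subgroup.center P :=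
    ⟨(Subgroup.center P).subgroupOf (ZL u), fun v => Subgroup.mem_subgroupOf⟩
  have hL1 : ∀ k, Nm p (φ y₁ * φ y₂ ^ k) xA ∈ Zc := by
    intro k
    rw [hZc]
    have e1 : φ y₁ * φ y₂ ^ k = φ (y₁ * y₂ ^ k) := by rw [map_mul, map_pow]
    rw [e1]
    exact hfix _ (h1 k) _ (Nm_fixed (hφp _) xA)
  have hR1 : ∀ i, 0 < i → i < p → (φ y₁ ^ i) (Nm p (φ y₂ ^ i) xA) ∈ Zc := by
    intro i hi0 hip
    have e1 : φ y₂ ^ i = φ (y₂ ^ i) := by rw [map_pow]
    have e2 : φ y₁ ^ i = φ (y₁ ^ i) := by rw [map_pow]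
    have h3 : ((Nm p (φ (y₂ ^ i)) xA : ZL u) : P) ∈ Subgroup.center P :=
      hfix _ (h2 i hi0 hip) _ (Nm_fixed (hφp _) xA)
    rw [hZc, e1, e2, hcen _ _ h3]
    exact h3
  have hid := Nm_identity p hc xA
  have hLHS : ∏ k ∈ Finset.range p, Nm p (φ y₁ * φ y₂ ^ k) xA ∈ Zc :=
    Subgroup.prod_mem _ (fun k _ => hL1 k)
  have hp0 : 0 ∈ Finset.range p := Finset.mem_range.mpr hp.out.pos
  rw [hid, ← Finset.mul_prod_erase _ _ hp0] at hLHS
  have hR : ∏ i ∈ (Finset.range p).erase 0, (φ y₁ ^ i) (Nm p (φ y₂ ^ i) xA) ∈ Zc := by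
    apply Subgroup.prod_mem
    intro i hi
    rw [Finset.mem_erase, Finset.mem_range] at hi
    exact hR1 i (Nat.pos_of_ne_zero hi.1) hi.2
  have h0 : (φ y₁ ^ 0) (Nm p (φ y₂ ^ 0) xA) = xA ^ p := by
    rw [pow_zero, pow_zero, MulAut.one_apply, Nm_one]
  rw [h0] at hLHS
  have hxp : xA ^ p ∈ Zc := (Subgroup.mul_mem_cancel_right _ hR).mp hLHS
  rw [hZc, Subgroup.coe_pow, hxA'] at hxp
  exact hxp

end WithU

theorem case_ge_two (hP : IsPGroup p P) (ha : 2 ≤ a)
    (hcs' : ∀ x : P, (Cz x).index = 1 ∨ (Cz x).index = p ^ a)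
    (hnab : Subgroup.center P ≠ ⊤) (x : P) : x ^ p ∈ Subgroup.center P := by
  obtain ⟨u, hu, hup, huc, hux⟩ := exists_u p hP hnab
  obtain ⟨hn, hpow, hcomm, y₁, y₂, h1, h2⟩ := exists_indep p a hcs' u hu hup huc ha
  by_cases hxL : x ∈ Cz u
  swap
  · exact pow_mem_center_of_not_mem p a hcs' u hu hux x hxL
  by_cases hxZ : x ∈ Subgroup.center P
  · exact Subgroup.pow_mem _ hxZ p
  by_cases hC : Cz x ≤ Cz u
  · have hx : Cz x = Cz u := Cz_eq_of_le p a hcs' hxZ hu hC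
    exact norm_case p a hcs' u hu hpow hcomm y₁ y₂ h1 h2 x hx
  · obtain ⟨h, hh1, hh2⟩ := SetLike.not_le_iff_exists.mp hC
    have e1 : h ^ p ∈ Subgroup.center P :=
      pow_mem_center_of_not_mem p a hcs' u hu hux h hh2
    have e2 : x * h ∉ Cz u := by
      intro hm
      apply hh2
      have h3 := (Cz u).mul_mem ((Cz u).inv_mem hxL) hm
      rwa [inv_mul_cancel_left] at h3
    have e3 : (x * h) ^ p ∈ Subgroup.center P :=
      pow_mem_center_of_not_mem p a hcs' u hu hux _ e2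
    have hcm : Commute x h := mem_Cz.mp hh1
    have e4 : (x * h) ^ p = x ^ p * h ^ p := hcm.mul_pow p
    have e5 : x ^ p = (x * h) ^ p * (h ^ p)⁻¹ := by rw [e4]; group
    rw [e5]
    exact Subgroup.mul_mem _ e3 (Subgroup.inv_mem _ e1)

end Main

end Cfsg.Agent.S4365

namespace Cfsg.Agent.S4365

/-- Let P be a finite p-group whose conjugacy class sizes are exactly 1 and pᵃ for some a ≥ 1. Then every element of P has its p-th power in the center of P (P/Z(P) has exponent p). -/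
theorem result {P : Type*} [Group P] [Finite P] (p : ℕ) [Fact p.Prime]
    (hP : IsPGroup p P) (a : ℕ) (ha : 1 ≤ a)
    (hcs : {k : ℕ | ∃ x : P, (Subgroup.centralizer ({x} : Set P)).index = k} = {1, p ^ a}) (x : P) :
    x ^ p ∈ Subgroup.center P := by
  have hcs' : ∀ x : P, (Cz x).index = 1 ∨ (Cz x).index = p ^ a := by
    intro x
    have hx : (Cz x).index ∈ ({1, p ^ a} : Set ℕ) := by
      rw [← hcs]; exact ⟨x, rfl⟩
    rcases hx with h | h
    · exact Or.inl h
    · exact Or.inr h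
  by_cases hab : Subgroup.center P = ⊤
  · rw [hab]; exact Subgroup.mem_top _
  rcases Nat.lt_or_ge a 2 with h | h
  · have ha1 : a = 1 := by omega
    subst ha1
    exact case_one p hP hcs' x
  · exact case_ge_two p a hP h hcs' hab x

end Cfsg.Agent.S4365
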