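import Cfsg.Statements.S4370
import Cfsg.Agent.Lib.Helper10.UniqueOrderP
import Cfsg.Agent.Lib.Helper10.FittingHall

set_option autoImplicit false
open Cfsg

namespace Cfsg.Agent.S4370

open Subgroup

section quaternion

open QuaternionGroup

variable {n : ℕ} [NeZero n]

theorem eq_zero_or_eq_of_add_self (j : ZMod (2 * n)) (h : j + j = 0) :
    j = 0 ∨ j = (n : ZMod (2 * n)) := by
  have hv : (2 * n) ∣ (j.val + j.val) := by
    have h1 : ((j.val + j.val : ℕ) : ZMod (2 * n)) = 0 := by
      push_cast
      rw [ZMod.natCast_zmod_val]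
      exact h
    exact (ZMod.natCast_eq_zero_iff _ _).mp h1
  have hlt : j.val < 2 * n := ZMod.val_lt j
  obtain ⟨k, hk⟩ := hv
  have hn : 0 < n := Nat.pos_of_ne_zero (NeZero.ne n)
  have hk2 : k < 2 := by
    by_contra hcon
    push Not at hcon
    have : 2 * n * 2 ≤ 2 * n * k := Nat.mul_le_mul_left _ hcon
    omega
  interval_cases k
  · left
    have : j.val = 0 := by omega
    exact (ZMod.val_eq_zero j).mp this
  · right
    have h2 : j.val = n := by omega
    rw [← ZMod.natCast_zmod_val j, h2]

theorem exists_centralizer_le_zpowers (q : QuaternionGroup n)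
    (hq : q ∉ Subgroup.center (QuaternionGroup n)) :
    ∃ g : QuaternionGroup n, Subgroup.centralizer {q} ≤ Subgroup.zpowers g := by
  cases q with
  | a i =>
    have hi : i + i ≠ 0 := by
      intro h
      apply hq
      rw [Subgroup.mem_center_iff]
      intro g
      cases g with
      | a j => rw [a_mul_a, a_mul_a, add_comm]
      | xa j =>
        rw [xa_mul_a, a_mul_xa]
        congr 1
        linear_combination h
    refine ⟨a 1, ?_⟩
    intro u hu
    rw [Subgroup.mem_centralizer_singleton_iff] at hu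
    cases u with
    | a j =>
      rw [Subgroup.mem_zpowers_iff]
      exact ⟨(j.val : ℤ), by rw [zpow_natCast, a_one_pow, ZMod.natCast_zmod_val]⟩
    | xa j =>
      exfalso
      rw [xa_mul_a, a_mul_xa] at hu
      have h1 := xa.inj hu
      apply hi
      linear_combination h1
  | xa i =>
    refine ⟨xa i, ?_⟩
    intro u hu
    rw [Subgroup.mem_centralizer_singleton_iff] at hu
    cases u with
    | a j =>
      rw [a_mul_xa, xa_mul_a] at hu
      have h1 : j + j = 0 := by
        have h2 := xa.inj hu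
        linear_combination (-1 : ZMod (2 * n)) * h2
      rcases eq_zero_or_eq_of_add_self j h1 with rfl | rfl
      · rw [a_zero]; exact one_mem _
      · rw [← xa_sq i]; exact pow_mem (Subgroup.mem_zpowers _) 2
    | xa j =>
      rw [xa_mul_xa, xa_mul_xa] at hu
      have h1 : (j - i) + (j - i) = 0 := by
        have h2 := a.inj hu
        linear_combination (-1 : ZMod (2 * n)) * h2
      rcases eq_zero_or_eq_of_add_self (j - i) h1 with h2 | h2
      · have h3 : j = i := sub_eq_zero.mp h2
        rw [h3]; exact Subgroup.mem_zpowers _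
      · have h3 : j = i + n := by linear_combination h2
        rw [h3, ← xa_mul_a, ← xa_sq i, ← pow_succ']
        exact pow_mem (Subgroup.mem_zpowers _) 3

end quaternion

section backward

theorem isCyclic_centralizer_prod (k m : ℕ) (hm : Odd m)
    (x : QuaternionGroup (2 ^ k) × Multiplicative (ZMod m))
    (hx : x ∉ Subgroup.center (QuaternionGroup (2 ^ k) × Multiplicative (ZMod m))) :
    IsCyclic (Subgroup.centralizer ({x} : Set (QuaternionGroup (2 ^ k) × Multiplicative (ZMod m)))) := by
  have hm0 : NeZero m := ⟨fun h => by rw [h] at hm; exact absurd hm (by decide)⟩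
  obtain ⟨q, c⟩ := x
  have hq : q ∉ Subgroup.center (QuaternionGroup (2 ^ k)) := by
    intro hq
    apply hx
    rw [Subgroup.mem_center_iff]
    rintro ⟨u, v⟩
    ext
    · exact Subgroup.mem_center_iff.mp hq u
    · exact mul_comm v c
  obtain ⟨g, hg⟩ := exists_centralizer_le_zpowers q hq
  have hle : Subgroup.centralizer ({(q, c)} : Set (QuaternionGroup (2 ^ k) × Multiplicative (ZMod m))) ≤
      (Subgroup.zpowers g).prod ⊤ := by
    rintro ⟨u, v⟩ huv
    rw [Subgroup.mem_centralizer_singleton_iff] at huv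
    refine Subgroup.mem_prod.mpr ⟨hg ?_, Subgroup.mem_top _⟩
    rw [Subgroup.mem_centralizer_singleton_iff]
    exact congrArg Prod.fst huv
  have hcop : (Nat.card (Subgroup.zpowers g)).Coprime
      (Nat.card (⊤ : Subgroup (Multiplicative (ZMod m)))) := by
    rw [Subgroup.card_top, Nat.card_zpowers]
    have h1 : Nat.card (Multiplicative (ZMod m)) = m := by
      rw [Nat.card_congr Multiplicative.toAdd, Nat.card_zmod]
    rw [h1]
    have h2 : orderOf g ∣ 2 ^ (k + 2) := by
      have h3 := orderOf_dvd_natCard g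
      rw [Nat.card_eq_fintype_card, QuaternionGroup.card] at h3
      have h4 : 4 * 2 ^ k = 2 ^ (k + 2) := by ring
      rwa [h4] at h3
    apply Nat.Coprime.coprime_dvd_left h2
    apply Nat.Coprime.pow_left
    exact Nat.coprime_two_left.mpr hm
  have hcyc : IsCyclic ((Subgroup.zpowers g).prod (⊤ : Subgroup (Multiplicative (ZMod m)))) := by
    have h1 : IsCyclic (Subgroup.zpowers g × (⊤ : Subgroup (Multiplicative (ZMod m)))) :=
      Group.isCyclic_prod_iff.mpr ⟨inferInstance, inferInstance, hcop⟩
    exact (Subgroup.prodEquiv (Subgroup.zpowers g) (⊤ : Subgroup (Multiplicative (ZMod m)))).isCyclic.mpr h1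
  exact Subgroup.isCyclic_of_le hle

theorem backward {G : Type*} [Group G] (k m : ℕ) (hm : Odd m)
    (e : G ≃* QuaternionGroup (2 ^ k) × Multiplicative (ZMod m)) (x : G)
    (hx : x ∉ Subgroup.center G) : IsCyclic (Subgroup.centralizer ({x} : Set G)) := by
  have hex : e x ∉ Subgroup.center (QuaternionGroup (2 ^ k) × Multiplicative (ZMod m)) := by
    intro h
    apply hx
    rw [Subgroup.mem_center_iff] at h ⊢
    intro g
    apply e.injective
    rw [map_mul, map_mul]
    exact h (e g)
  have hcyc := isCyclic_centralizer_prod k m hm (e x) hex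
  let f : ↥(Subgroup.centralizer ({x} : Set G)) →*
      ↥(Subgroup.centralizer ({e x} : Set (QuaternionGroup (2 ^ k) × Multiplicative (ZMod m)))) :=
    (e.toMonoidHom.comp (Subgroup.subtype _)).codRestrict _ (by
      intro u
      rw [Subgroup.mem_centralizer_singleton_iff]
      have hu := Subgroup.mem_centralizer_singleton_iff.mp u.2
      change e u * e x = e x * e u
      rw [← map_mul, ← map_mul, hu])
  apply isCyclic_of_injective f
  intro u v huv
  have h1 : e (u : G) = e (v : G) := congrArg Subtype.val huv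
  exact Subtype.ext (e.injective h1)

end backward

section forward

variable {G : Type*} [Group G] [Finite G]

/-- A finite group all of whose elements of prime power order are central is commutative. -/
theorem exists_noncentral_prime_power (hna : ¬ IsMulCommutative G) :
    ∃ (q : ℕ) (_ : Fact q.Prime) (S : Sylow q G) (x : G), x ∈ S ∧ x ∉ Subgroup.center G := by
  by_contra hcon
  push Not at hcon
  apply hna
  have hdvd : Nat.card G ∣ Nat.card (Subgroup.center G) := by
    rw [← Nat.factorization_prime_le_iff_dvd Nat.card_pos.ne' Nat.card_pos.ne']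
    intro q hq
    have : Fact q.Prime := ⟨hq⟩
    obtain ⟨S⟩ : Nonempty (Sylow q G) := inferInstance
    have hle : (S : Subgroup G) ≤ Subgroup.center G := fun x hx => hcon q ⟨hq⟩ S x hx
    have h1 := Subgroup.card_dvd_of_le hle
    rw [S.card_eq_multiplicity] at h1
    exact (hq.pow_dvd_iff_le_factorization Nat.card_pos.ne').mp h1
  have htop : Subgroup.center G = ⊤ := (Subgroup.card_eq_iff_eq_top _).mp
    (Nat.le_antisymm (Subgroup.card_le_card_group _) (Nat.le_of_dvd Nat.card_pos hdvd))
  constructor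
  constructor
  intro a b
  have ha : a ∈ Subgroup.center G := by rw [htop]; exact Subgroup.mem_top a
  exact (Subgroup.mem_center_iff.mp ha b).symm

theorem forward (hG : Group.IsNilpotent G) (hna : ¬ IsMulCommutative G)
    (hyp : ∀ x : G, x ∉ Subgroup.center G → IsCyclic (Subgroup.centralizer ({x} : Set G))) :
    ∃ (k m : ℕ), 1 ≤ k ∧ Odd m ∧
      Nonempty (G ≃* QuaternionGroup (2 ^ k) × Multiplicative (ZMod m)) := by
  obtain ⟨q, hqF, S, x₁, hx₁S, hx₁Z⟩ := exists_noncentral_prime_power hna
  have hq : q.Prime := hqF.out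
  have h03 : Group.IsNilpotent G ↔
      ∀ (p : ℕ) (_ : Fact p.Prime) (P : Sylow p G), (P : Subgroup G).Normal :=
    (Group.isNilpotent_of_finite_tfae (G := G)).out 0 3
  have hSn : (S : Subgroup G).Normal := h03.mp hG q hqF S
  obtain ⟨H, hH⟩ := Subgroup.exists_right_complement'_of_coprime (N := (S : Subgroup G))
    S.card_coprime_index
  have hHcard : Nat.card H = (S : Subgroup G).index := hH.symm.index_eq_card.symm
  have hcomm : ∀ s ∈ (S : Subgroup G), ∀ h ∈ H, s * h = h * s := by
    intro s hs h hh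
    apply Cfsg.Agent.Lib.Helper10.commute_of_coprime_orderOf G s h
    obtain ⟨j, hj⟩ := (IsPGroup.iff_orderOf.mp S.isPGroup') ⟨s, hs⟩
    have h1 : orderOf s = q ^ j := by rw [← hj, Subgroup.orderOf_mk]
    have h2 : orderOf h ∣ Nat.card H := by
      have := orderOf_dvd_natCard (⟨h, hh⟩ : H)
      rwa [Subgroup.orderOf_mk] at this
    rw [h1]
    apply Nat.Coprime.pow_left
    apply Nat.Coprime.coprime_dvd_right h2
    rw [hHcard]
    exact (Nat.Prime.coprime_iff_not_dvd hq).mpr S.not_dvd_index
  have hC := hyp x₁ hx₁Z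
  have hHC : H ≤ Subgroup.centralizer {x₁} := fun h hh =>
    Subgroup.mem_centralizer_singleton_iff.mpr (hcomm x₁ hx₁S h hh).symm
  have hHcyc : IsCyclic H := Subgroup.isCyclic_of_le hHC
  have hZC : Subgroup.center G ≤ Subgroup.centralizer {x₁} := Subgroup.center_le_centralizer _
  have hfact : ∀ g : G, ∃ s ∈ (S : Subgroup G), ∃ h ∈ H, g = s * h := by
    intro g
    obtain ⟨⟨s, h⟩, hsh⟩ := hH.2 g
    exact ⟨s, s.2, h, h.2, hsh.symm⟩
  have hSna : ¬ ∀ a ∈ (S : Subgroup G), ∀ b ∈ (S : Subgroup G), a * b = b * a := by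
    intro hab
    apply hx₁Z
    rw [Subgroup.mem_center_iff]
    intro g
    obtain ⟨s, hs, h, hh, rfl⟩ := hfact g
    rw [mul_assoc, ← hcomm x₁ hx₁S h hh, ← mul_assoc, hab s hs x₁ hx₁S, mul_assoc]
  have hcc : ∀ u v : G, u * v = v * u → ∃ C : Subgroup G, IsCyclic C ∧ u ∈ C ∧ v ∈ C := by
    intro u v huv
    by_cases hu : u ∈ Subgroup.center G
    · by_cases hv : v ∈ Subgroup.center G
      · exact ⟨Subgroup.center G, Subgroup.isCyclic_of_le hZC, hu, hv⟩
      · exact ⟨Subgroup.centralizer {v}, hyp v hv, Subgroup.mem_centralizer_singleton_iff.mpr huv,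
          Subgroup.mem_centralizer_singleton_iff.mpr rfl⟩
    · exact ⟨Subgroup.centralizer {u}, hyp u hu, Subgroup.mem_centralizer_singleton_iff.mpr rfl,
        Subgroup.mem_centralizer_singleton_iff.mpr huv.symm⟩
  have hSp : IsPGroup q ↥(S : Subgroup G) := S.isPGroup'
  have hx₁1 : x₁ ≠ 1 := fun h => hx₁Z (h ▸ one_mem _)
  have hSnt : Nontrivial ↥(S : Subgroup G) :=
    ⟨⟨⟨x₁, hx₁S⟩, 1, fun h => hx₁1 (congrArg Subtype.val h)⟩⟩
  have hu : Cfsg.Agent.Lib.Helper10.UniqueOrderP q ↥(S : Subgroup G) := by
    have hcnt : Nontrivial (Subgroup.center ↥(S : Subgroup G)) := hSp.center_nontrivial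
    have hdvd : q ∣ Nat.card (Subgroup.center ↥(S : Subgroup G)) := by
      rcases (hSp.to_subgroup (Subgroup.center ↥(S : Subgroup G))).card_eq_or_dvd with h | h
      · exact absurd h (Finite.one_lt_card).ne'
      · exact h
    obtain ⟨z, hz⟩ := exists_prime_orderOf_dvd_card' q hdvd
    have hzo : orderOf ((z : ↥(S : Subgroup G)) : G) = q := by
      rw [Subgroup.orderOf_coe, Subgroup.orderOf_coe, hz]
    have hzc : ∀ w : ↥(S : Subgroup G), (w : G) * ((z : ↥(S : Subgroup G)) : G) =
        ((z : ↥(S : Subgroup G)) : G) * (w : G) := by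
      intro w
      have := Subgroup.mem_center_iff.mp z.2 w
      exact congrArg Subtype.val this
    intro x y hx hx1 hy
    have hxo : orderOf (x : G) = q := by
      rw [Subgroup.orderOf_coe]
      exact orderOf_eq_prime hx hx1
    obtain ⟨C₁, hC₁, hxC, hzC⟩ := hcc (x : G) _ (hzc x)
    have hzx : ((z : ↥(S : Subgroup G)) : G) ∈ Subgroup.zpowers (x : G) :=
      Cfsg.Agent.Lib.Helper10.mem_zpowers_of_orderOf_dvd' C₁ hC₁ hzC hxC (by rw [hzo, hxo])
    obtain ⟨C₂, hC₂, hyC, hzC'⟩ := hcc (y : G) _ (hzc y)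
    have hyo : orderOf (y : G) ∣ q := by
      apply orderOf_dvd_of_pow_eq_one
      have := congrArg Subtype.val hy
      simpa using this
    have hyz : (y : G) ∈ Subgroup.zpowers ((z : ↥(S : Subgroup G)) : G) :=
      Cfsg.Agent.Lib.Helper10.mem_zpowers_of_orderOf_dvd' C₂ hC₂ hyC hzC' (by rw [hzo]; exact hyo)
    have hyx : (y : G) ∈ Subgroup.zpowers (x : G) := (Subgroup.zpowers_le.mpr hzx) hyz
    obtain ⟨k, hk⟩ := Subgroup.mem_zpowers_iff.mp hyx
    exact Subgroup.mem_zpowers_iff.mpr ⟨k, Subtype.ext (by rw [Subgroup.coe_zpow]; exact hk)⟩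
  have hcyc_contra : IsCyclic ↥(S : Subgroup G) → False := by
    intro hcyc
    apply hSna
    intro a ha b hb
    have := (IsCyclic.isMulCommutative (α := ↥(S : Subgroup G))).is_comm.comm ⟨a, ha⟩ ⟨b, hb⟩
    exact congrArg Subtype.val this
  rcases Cfsg.Agent.Lib.Helper10.isCyclic_or_quaternion_of_uniqueOrderP hSp hu with
    hcyc | ⟨hq2, n, ⟨e⟩⟩
  · exact absurd hcyc hcyc_contra
  · subst hq2
    have hn : 1 ≤ n := by
      by_contra hn0
      have hn0' : n = 0 := by omega
      subst hn0'
      apply hcyc_contra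
      have h1 : IsCyclic (QuaternionGroup (2 ^ 0)) := by
        rw [pow_zero]; exact QuaternionGroup.quaternionGroup_one_isCyclic
      exact e.isCyclic.mpr h1
    have hodd : Odd (Nat.card H) := by
      rw [hHcard, ← Nat.not_even_iff_odd, even_iff_two_dvd]
      exact S.not_dvd_index
    let e₂ : ↥H ≃* Multiplicative (ZMod (Nat.card H)) := (zmodCyclicMulEquiv hHcyc).symm
    let e₀ : ↥(S : Subgroup G) × ↥H ≃* G :=
      MulEquiv.ofBijective
        (MonoidHom.noncommCoprod (S : Subgroup G).subtype H.subtype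
          (fun s h => hcomm s s.2 h h.2)) hH
    exact ⟨n, Nat.card H, hn, hodd, ⟨e₀.symm.trans (MulEquiv.prodCongr e e₂)⟩⟩

end forward

/-- Let G be a finite non-abelian nilpotent group. Then the centralizer of every non-central element of G is cyclic if and only if G is isomorphic to the direct product of a generalized quaternion group and a cyclic group of odd order. -/
theorem result {G : Type*} [Group G] [Finite G] (hG : Group.IsNilpotent G)
    (hna : ¬ IsMulCommutative G) :
    (∀ x : G, x ∉ Subgroup.center G → IsCyclic (Subgroup.centralizer ({x} : Set G))) ↔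
      ∃ (k m : ℕ), 1 ≤ k ∧ Odd m ∧ Nonempty (G ≃* QuaternionGroup (2 ^ k) × Multiplicative (ZMod m)) := by
  constructor
  · exact forward hG hna
  · rintro ⟨k, m, -, hm, ⟨e⟩⟩ x hx
    exact backward k m hm e x hx

end Cfsg.Agent.S4370
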