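import Cfsg.Statements.S4376
import Cfsg.Agent.Lib.Helper24.OTData
import Cfsg.Agent.Lib.Helper24.OTGb
import Cfsg.Agent.Lib.Helper24.OTLb

set_option autoImplicit false
open Cfsg

namespace Cfsg.Agent.S4376

open Cfsg.Agent.Lib.Helper24.OT

/-- the diagonal part with multiplicities `m` -/
abbrev DgPart (m : Fin 24 → ℕ) : Type := ∀ i : Fin 24, Fin (m i) → (dgList i).Grp

/-- the solvable group -/
abbrev GS : Type := (Fin 3 → G168) × DgPart mulA

/-- the non-solvable group -/
abbrev HS : Type := (Fin 3 → L168) × DgPart mulB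

theorem F_DgPart (m : Fin 24 → ℕ) (n : ℕ) :
    F (DgPart m) n = ∏ i, (dgList i).eval n ^ m i := by
  rw [F_pi]
  apply Finset.prod_congr rfl
  intro i _
  rw [F_pow, DgData.F_Grp]

theorem dg_exp : ∀ i : Fin 24,
    (dgList i).eval 84 = (∏ j, (dgList i).q j) * ((dgList i).m1 * (dgList i).m2) := by
  decide +kernel

theorem key : ∀ d ∈ Nat.divisors 84,
    fG d ^ 3 * ∏ i, (dgList i).eval d ^ mulA i = fL d ^ 3 * ∏ i, (dgList i).eval d ^ mulB i := by
  decide +kernel

theorem DgPart_pow (m : Fin 24 → ℕ) (g : DgPart m) : g ^ 84 = 1 := by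
  funext i j
  exact (dgList i).pow_eq_one_of_eval (dg_exp i) (g i j)

theorem GS_pow (g : GS) : g ^ 84 = 1 := by
  apply Prod.ext
  · funext j
    exact G168_pow_84 (g.1 j)
  · exact DgPart_pow mulA g.2

theorem HS_pow (g : HS) : g ^ 84 = 1 := by
  apply Prod.ext
  · funext j
    exact L168_pow_84 (g.1 j)
  · exact DgPart_pow mulB g.2

theorem F_eq (n : ℕ) : F GS n = F HS n := by
  rw [F_gcd GS_pow n, F_gcd HS_pow n]
  have hd : Nat.gcd n 84 ∈ Nat.divisors 84 :=
    Nat.mem_divisors.mpr ⟨Nat.gcd_dvd_right n 84, by norm_num⟩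
  rw [F_prod, F_prod, F_pow, F_pow, F_DgPart, F_DgPart, F_G168 _ hd, F_L168 _ hd]
  exact key _ hd

instance : Group.IsSolvable (Fin 3 → G168) := isSolvable_pi _

instance (m : Fin 24 → ℕ) : Group.IsSolvable (DgPart m) := by
  haveI : ∀ i : Fin 24, Group.IsSolvable (Fin (m i) → (dgList i).Grp) := fun i => isSolvable_pi _
  exact isSolvable_pi _

theorem HS_not_solvable : ¬ Group.IsSolvable HS := by
  intro h
  apply L168_not_solvable
  let f : L168 →* HS :=
    (MonoidHom.inl (Fin 3 → L168) (DgPart mulB)).comp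
      (MonoidHom.mulSingle (fun _ : Fin 3 => L168) 0)
  have hf : Function.Injective f := by
    intro x y hxy
    have h1 : Pi.mulSingle (0 : Fin 3) x = (Pi.mulSingle (0 : Fin 3) y : Fin 3 → L168) :=
      congrArg Prod.fst hxy
    exact Pi.mulSingle_injective (0 : Fin 3) h1
  exact Group.isSolvable_of_isSolvable_injective hf

/-- There are finite groups G and H having the same number of elements of each order (the same order type) with G solvable and H not solvable. -/
theorem result :
    ∃ (G : Type) (_ : Group G) (_ : Finite G) (H : Type) (_ : Group H) (_ : Finite H),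
      Group.IsSolvable G ∧ ¬ Group.IsSolvable H ∧ ∀ n : ℕ, Nat.card {g : G // orderOf g = n} = Nat.card {h : H // orderOf h = n} := by
  refine ⟨GS, inferInstance, inferInstance, HS, inferInstance, inferInstance,
    inferInstance, HS_not_solvable, ?_⟩
  intro n
  exact ordCount_eq_of_F_eq GS HS F_eq n

end Cfsg.Agent.S4376
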