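import Cfsg.Statements.S4381
import Cfsg.Agent.Lib.Helper23.ExtCoprime
import Cfsg.Agent.Lib.Helper23.ExtInvariant

set_option autoImplicit false
open Cfsg

namespace Cfsg.Agent.S4381

open Subgroup Cfsg.Agent.Lib.Helper23
open scoped Pointwise commutatorElement

section aux

variable {A G : Type*} [Group A] [Finite A] [Group G] [Finite G] [MulDistribMulAction A G]

/-- Maximal invariant proper subgroup. -/
abbrev MaxInv (A : Type*) {G : Type*} [Group A] [Group G] [MulDistribMulAction A G]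
    (M : Subgroup G) : Prop :=
  M ≠ ⊤ ∧ (∀ a : A, ∀ x ∈ M, a • x ∈ M) ∧
    ∀ L : Subgroup G, M < L → (∀ a : A, ∀ x ∈ L, a • x ∈ L) → L = ⊤

theorem maxInv_iff_of_irr
    (irr : ∀ L : Subgroup G, frattini G < L → (∀ a : A, ∀ x ∈ L, a • x ∈ L) → L = ⊤)
    (M : Subgroup G) : MaxInv A M ↔ (M = frattini G ∧ M ≠ ⊤) := by
  constructor
  · rintro ⟨hne, hinv, hmax⟩
    have h1 : IsInv A (M ⊔ frattini G) := IsInv.sup hinv isInv_frattini
    have h2 : M ⊔ frattini G ≠ ⊤ := fun h => hne (frattini_nongenerating h)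
    have h3 : ¬ M < M ⊔ frattini G := fun h => h2 (hmax _ h h1)
    have h4 : frattini G ≤ M := by
      have h5 : M ⊔ frattini G ≤ M := by
        by_contra hcon
        exact h3 (lt_of_le_not_ge le_sup_left hcon)
      exact le_sup_right.trans h5
    rcases h4.lt_or_eq with h5 | h5
    · exact absurd (irr M h5 hinv) hne
    · exact ⟨h5.symm, hne⟩
  · rintro ⟨rfl, hne⟩
    exact ⟨hne, isInv_frattini, irr⟩

theorem isPGroup_of_conj (hcop : (Nat.card A).Coprime (Nat.card G))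
    (hsol : Group.IsSolvable A ∨ Group.IsSolvable G)
    (hconj : ∀ M N : Subgroup G, MaxInv A M → MaxInv A N → ∃ c : G, N = MulAut.conj c • M) :
    ∃ p : ℕ, p.Prime ∧ IsPGroup p G := by
  by_contra hno
  push Not at hno
  have key : ∀ r : ℕ, r.Prime → ∃ M : Subgroup G, MaxInv A M ∧
      r ^ (Nat.card G).factorization r ∣ Nat.card M := by
    intro r hr
    have : Fact r.Prime := ⟨hr⟩
    obtain ⟨R, hR⟩ := exists_invariant_sylow_of_coprime (A := A) (G := G) hcop hsol r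
    have hRne : (R : Subgroup G) ≠ ⊤ := by
      intro h
      apply hno r hr
      intro g
      have hg : g ∈ (R : Subgroup G) := by rw [h]; exact Subgroup.mem_top g
      obtain ⟨k, hk⟩ := R.isPGroup' ⟨g, hg⟩
      exact ⟨k, by simpa using congrArg Subtype.val hk⟩
    obtain ⟨M, hRM, hM1, hM2, hM3⟩ :=
      exists_maximal_isInv (A := A) _ (R : Subgroup G) rfl hRne (fun a x hx => hR a x hx)
    refine ⟨M, ⟨hM1, hM2, hM3⟩, ?_⟩
    rw [← R.card_eq_multiplicity]
    exact Subgroup.card_dvd_of_le hRM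
  obtain ⟨M₀, hM₀, -⟩ := key 2 Nat.prime_two
  have hdvd : Nat.card G ∣ Nat.card M₀ := by
    rw [← Nat.factorization_prime_le_iff_dvd Nat.card_pos.ne' Nat.card_pos.ne']
    intro r hr
    obtain ⟨M, hM, hdiv⟩ := key r hr
    obtain ⟨c, hc⟩ := hconj M₀ M hM₀ hM
    have hcard : Nat.card M = Nat.card M₀ := by
      rw [hc]
      exact (Nat.card_congr (Subgroup.equivSMul (MulAut.conj c) M₀).toEquiv).symm
    rw [hcard] at hdiv
    exact (hr.pow_dvd_iff_le_factorization Nat.card_pos.ne').mp hdiv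
  have htop : M₀ = ⊤ := (Subgroup.card_eq_iff_eq_top M₀).mp
    (Nat.le_antisymm (Subgroup.card_le_card_group M₀) (Nat.le_of_dvd Nat.card_pos hdvd))
  exact hM₀.1 htop

theorem irr_of_conj {p : ℕ} [Fact p.Prime] (hG : IsPGroup p G)
    (hcop : (Nat.card A).Coprime (Nat.card G))
    (hconj : ∀ M N : Subgroup G, MaxInv A M → MaxInv A N → ∃ c : G, N = MulAut.conj c • M) :
    ∀ L : Subgroup G, frattini G < L → (∀ a : A, ∀ x ∈ L, a • x ∈ L) → L = ⊤ := by
  intro L hΦL hL
  by_contra hLne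
  obtain ⟨L', hL'inv, hΦL', hinf, hsup⟩ :=
    exists_isInv_compl_mod_frattini (A := A) hG hcop hL hΦL.le
  have hL'ne : L' ≠ ⊤ := by
    intro h
    rw [h, inf_top_eq] at hinf
    exact hΦL.ne' hinf
  obtain ⟨M, hLM, hM⟩ := exists_maximal_isInv (A := A) _ L rfl hLne hL
  obtain ⟨M', hL'M', hM'⟩ := exists_maximal_isInv (A := A) _ L' rfl hL'ne hL'inv
  obtain ⟨c, hc⟩ := hconj M M' hM hM'
  have hcomm : commutator G ≤ M :=
    (Cfsg.Agent.Lib.Helper1.IsPGroup.commutator_le_frattini hG).trans (hΦL.le.trans hLM)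
  have hMn : M.Normal := by
    constructor
    intro n hn g
    have h1 : g * n * g⁻¹ = ⁅g, n⁆ * n := by rw [commutatorElement_def]; group
    rw [h1]
    refine mul_mem (hcomm ?_) hn
    rw [_root_.commutator_def]
    exact Subgroup.commutator_mem_commutator (Subgroup.mem_top _) (Subgroup.mem_top _)
  have hMM' : M' = M := by rw [hc]; exact Subgroup.Normal.conj_smul_eq_self c M
  have htop : (⊤ : Subgroup G) ≤ M := by
    rw [← hsup]
    exact sup_le hLM (hMM' ▸ hL'M')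
  exact hM.1 (top_le_iff.mp htop)

end aux

/-- Let the finite group A act by automorphisms on the finite group G with the orders of A and G coprime, and assume that A or G is solvable. Call a proper A-invariant subgroup of G maximal A-invariant when no A-invariant subgroup lies strictly between it and G. Then all maximal A-invariant subgroups of G are conjugate under elements of the fixed-point subgroup C_G(A) if and only if G is a p-group for some prime p and A leaves invariant no subgroup strictly between the Frattini subgroup of G and G. In that case, if G is nontrivial, the Frattini subgroup is the only maximal A-invariant subgroup (a trivial G has none). -/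
theorem result {A G : Type*} [Group A] [Finite A]
    [Group G] [Finite G] [MulDistribMulAction A G] (hcop : (Nat.card A).Coprime (Nat.card G)) (hsol : Group.IsSolvable A ∨ Group.IsSolvable G) :
    ((∀ M N : Subgroup G, (M ≠ ⊤ ∧ (∀ a : A, ∀ x ∈ M, a • x ∈ M) ∧ ∀ L : Subgroup G, M < L → (∀ a : A, ∀ x ∈ L, a • x ∈ L) → L = ⊤) → (N ≠ ⊤ ∧ (∀ a : A, ∀ x ∈ N, a • x ∈ N) ∧ ∀ L : Subgroup G, N < L → (∀ a : A, ∀ x ∈ L, a • x ∈ L) → L = ⊤) →
        ∃ c : G, (∀ a : A, a • c = c) ∧ N = MulAut.conj c • M) ↔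
      ((∃ p : ℕ, p.Prime ∧ IsPGroup p G) ∧ ∀ L : Subgroup G, frattini G < L → (∀ a : A, ∀ x ∈ L, a • x ∈ L) → L = ⊤)) ∧
    (((∃ p : ℕ, p.Prime ∧ IsPGroup p G) ∧ ∀ L : Subgroup G, frattini G < L → (∀ a : A, ∀ x ∈ L, a • x ∈ L) → L = ⊤) →
      ∀ M : Subgroup G, (M ≠ ⊤ ∧ (∀ a : A, ∀ x ∈ M, a • x ∈ M) ∧ ∀ L : Subgroup G, M < L → (∀ a : A, ∀ x ∈ L, a • x ∈ L) → L = ⊤) ↔ (M = frattini G ∧ M ≠ ⊤)) := by
  have weaken : (∀ M N : Subgroup G, (M ≠ ⊤ ∧ (∀ a : A, ∀ x ∈ M, a • x ∈ M) ∧ ∀ L : Subgroup G, M < L → (∀ a : A, ∀ x ∈ L, a • x ∈ L) → L = ⊤) → (N ≠ ⊤ ∧ (∀ a : A, ∀ x ∈ N, a • x ∈ N) ∧ ∀ L : Subgroup G, N < L → (∀ a : A, ∀ x ∈ L, a • x ∈ L) → L = ⊤) →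
        ∃ c : G, (∀ a : A, a • c = c) ∧ N = MulAut.conj c • M) →
      ∀ M N : Subgroup G, MaxInv A M → MaxInv A N → ∃ c : G, N = MulAut.conj c • M := by
    intro h M N hM hN
    obtain ⟨c, -, hc⟩ := h M N hM hN
    exact ⟨c, hc⟩
  refine ⟨⟨?_, ?_⟩, ?_⟩
  · intro h
    have hconj := weaken h
    obtain ⟨p, hp, hG⟩ := isPGroup_of_conj hcop hsol hconj
    have : Fact p.Prime := ⟨hp⟩
    exact ⟨⟨p, hp, hG⟩, irr_of_conj hG hcop hconj⟩
  · rintro ⟨-, irr⟩ M N hM hN
    have h1 := (maxInv_iff_of_irr irr M).mp hM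
    have h2 := (maxInv_iff_of_irr irr N).mp hN
    refine ⟨1, fun a => smul_one a, ?_⟩
    rw [map_one, one_smul, h1.1, h2.1]
  · rintro ⟨-, irr⟩ M
    exact maxInv_iff_of_irr irr M

end Cfsg.Agent.S4381
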