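import Cfsg.Statements.S4394
import Cfsg.Agent.Lib.Helper2.S4394F
import Cfsg.Agent.Lib.Helper10.PComponent
import Cfsg.Agent.Lib.Helper20.PLen
import Cfsg.Agent.H5.Cores
import Cfsg.Agent.H5.PSolvable

set_option autoImplicit false
open Cfsg

namespace Cfsg.Agent.S4394

/-- Let X be a finite minimal non-nilpotent group (not nilpotent, every proper subgroup nilpotent) with a nontrivial normal Sylow p-subgroup P. If G is a finite p-solvable group whose Sylow p-subgroups are isomorphic to P, then G has p-length at most 1. -/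
theorem result {G X : Type*} [Group G] [Finite G] [Group X] [Finite X] (p : ℕ) [Fact p.Prime]
    (hX : Cfsg.IsMinimalNonNilpotent X) (P : Sylow p X) (hPn : (P : Subgroup X).Normal) (hP1 : (P : Subgroup X) ≠ ⊥)
    (hG : Cfsg.IsPSolvable p G) (Q : Sylow p G) (hQ : Nonempty (↥(Q : Subgroup G) ≃* ↥(P : Subgroup X))) : Cfsg.PLengthLE p 1 G := by
  obtain ⟨e⟩ := hQ
  obtain ⟨hFP, hAP⟩ := Cfsg.Agent.Lib.Helper2.S4394F.schmidt_sylow hX P hPn hP1
  haveI := Cfsg.H5.pPrimeCore_normal p G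
  have h0 : Cfsg.PLengthLE p 0 ↥(Cfsg.pPrimeCore p G) :=
    Cfsg.Agent.Lib.Helper20.PLen.pLengthLE_zero_iff.2 (Cfsg.H5.coprime_card_pPrimeCore p G)
  have h1 : Cfsg.PLengthLE p 1 (G ⧸ Cfsg.pPrimeCore p G) := by
    have hcoe : ((Q.mapSurjective (QuotientGroup.mk'_surjective (Cfsg.pPrimeCore p G)) :
        Sylow p (G ⧸ Cfsg.pPrimeCore p G)) : Subgroup (G ⧸ Cfsg.pPrimeCore p G)) =
        (Q : Subgroup G).map (QuotientGroup.mk' (Cfsg.pPrimeCore p G)) :=
      Sylow.coe_mapSurjective _ _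
    obtain ⟨e'⟩ := Cfsg.Agent.Lib.Helper2.S4394F.sylow_quot_equiv (Cfsg.pPrimeCore p G)
      (Cfsg.H5.coprime_card_pPrimeCore p G) Q
    exact Cfsg.Agent.Lib.Helper2.S4394F.main_core
      (Cfsg.H5.isPSolvable_quotient (Cfsg.pPrimeCore p G) hG)
      (Cfsg.Agent.Lib.Helper10.pPrimeCore_quotient_eq_bot p)
      (Q.mapSurjective (QuotientGroup.mk'_surjective (Cfsg.pPrimeCore p G)))
      (((MulEquiv.subgroupCongr hcoe).trans e').trans e) hFP hAP
  have := Cfsg.Agent.Lib.Helper20.PLen.pLengthLE_of_extension (Cfsg.pPrimeCore p G) h0 h1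
  rwa [zero_add] at this

end Cfsg.Agent.S4394
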