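import Mathlib
import Cfsg.Statements.S4397
import Cfsg.Agent.Lib.Helper16.SectRank
import Cfsg.Agent.Lib.Helper1.Nilpotent
import Cfsg.Agent.Lib.Helper1.Extraspecial
import Cfsg.Agent.Lib.Helper1.Frattini
import Cfsg.Agent.Lib.Helper10.UniqueOrderP
import Cfsg.Agent.Lib.Helper12.QuatFpf

set_option autoImplicit false
open Cfsg
open Cfsg.Agent.Lib.Helper16.SectRank
open scoped commutatorElement

namespace Cfsg.Agent.S4397

universe u

theorem two_mul_card_le_of_lt {G : Type*} [Group G] [Finite G] {K H : Subgroup G} (h : K < H) :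
    2 * Nat.card K ≤ Nat.card H := by
  obtain ⟨m, hm⟩ := Subgroup.card_dvd_of_le h.le
  rcases m with _ | _ | m
  · exfalso; rw [mul_zero] at hm; exact Nat.card_pos.ne' hm
  · exfalso; rw [zero_add, mul_one] at hm
    exact h.ne (Subgroup.eq_of_le_of_card_ge h.le hm.le)
  · rw [hm]; nlinarith

theorem card_le_four_mul_frattini {S : Type*} [Group S] [Finite S] (h2 : IsPGroup 2 S)
    (hr : SectionalPRankLE 2 2 S) : Nat.card S ≤ 4 * Nat.card (frattini S) := by
  haveI : Fact (Nat.Prime 2) := ⟨Nat.prime_two⟩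
  have := card_le_of_EA hr (EA_frattini h2)
  rw [Subgroup.card_top] at this
  norm_num at this
  exact this

theorem exists_gen_pair {S : Type*} [Group S] [Finite S] (h2 : IsPGroup 2 S)
    (hr : SectionalPRankLE 2 2 S) (u : S) (hu : u ∉ frattini S) :
    ∃ v : S, Subgroup.zpowers u ⊔ Subgroup.zpowers v = ⊤ := by
  have hcard := card_le_four_mul_frattini h2 hr
  by_cases hH : Subgroup.zpowers u ⊔ frattini S = ⊤
  · refine ⟨1, ?_⟩
    rw [Subgroup.zpowers_one_eq_bot, sup_bot_eq]
    exact frattini_nongenerating hH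
  · obtain ⟨v, -, hv⟩ := SetLike.exists_of_lt (lt_top_iff_ne_top.mpr hH)
    refine ⟨v, ?_⟩
    apply frattini_nongenerating
    have h1 : frattini S < Subgroup.zpowers u ⊔ frattini S := by
      apply lt_of_le_of_ne le_sup_right
      intro h; apply hu; rw [h]; exact Subgroup.mem_sup_left (Subgroup.mem_zpowers u)
    have h2' : Subgroup.zpowers u ⊔ frattini S <
        Subgroup.zpowers u ⊔ Subgroup.zpowers v ⊔ frattini S := by
      apply lt_of_le_of_ne (sup_le_sup_right le_sup_left _)
      intro h; apply hv; rw [h]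
      exact Subgroup.mem_sup_left (Subgroup.mem_sup_right (Subgroup.mem_zpowers v))
    have c1 := two_mul_card_le_of_lt h1
    have c2 := two_mul_card_le_of_lt h2'
    apply Subgroup.eq_top_of_le_card
    omega

theorem exists_two_gens {S : Type*} [Group S] [Finite S] (h2 : IsPGroup 2 S)
    (hr : SectionalPRankLE 2 2 S) :
    ∃ x y : S, Subgroup.zpowers x ⊔ Subgroup.zpowers y = ⊤ := by
  by_cases h : ∃ u : S, u ∉ frattini S
  · obtain ⟨u, hu⟩ := h
    obtain ⟨v, hv⟩ := exists_gen_pair h2 hr u hu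
    exact ⟨u, v, hv⟩
  · push Not at h
    refine ⟨1, 1, ?_⟩
    apply frattini_nongenerating
    rw [eq_top_iff]; intro x _; exact Subgroup.mem_sup_right (h x)

theorem isCyclic_quotient_of_sup_eq_top {S : Type*} [Group S] (N : Subgroup S) [N.Normal] (v : S)
    (h : N ⊔ Subgroup.zpowers v = ⊤) : IsCyclic (S ⧸ N) := by
  rw [isCyclic_iff_exists_zpowers_eq_top]
  refine ⟨QuotientGroup.mk' N v, ?_⟩
  rw [eq_top_iff]
  intro q _
  obtain ⟨s, rfl⟩ := QuotientGroup.mk'_surjective N q
  have hs : s ∈ N ⊔ Subgroup.zpowers v := by rw [h]; exact Subgroup.mem_top s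
  have h1 := Subgroup.mem_map_of_mem (QuotientGroup.mk' N) hs
  rw [Subgroup.map_sup, MonoidHom.map_zpowers, QuotientGroup.map_mk'_self, bot_sup_eq] at h1
  exact h1

theorem metacyclic_of_comm {S : Type*} [Group S] [Finite S] (h2 : IsPGroup 2 S)
    (hr : SectionalPRankLE 2 2 S) (hc : ∀ a b : S, a * b = b * a) : IsMetacyclic S := by
  obtain ⟨x, y, hxy⟩ := exists_two_gens h2 hr
  haveI hN : (Subgroup.zpowers x).Normal :=
    ⟨fun n hn g => by rw [hc g n, mul_inv_cancel_right]; exact hn⟩
  exact ⟨Subgroup.zpowers x, hN, inferInstance, isCyclic_quotient_of_sup_eq_top _ y hxy⟩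

theorem exists_z {S : Type*} [Group S] [Finite S] (h2 : IsPGroup 2 S)
    (hK : Nat.card (commutator S) = 2) :
    ∃ z : S, z ∈ commutator S ∧ z ≠ 1 ∧ z * z = 1 ∧ (∀ g : S, g * z = z * g) ∧
      ∀ c ∈ commutator S, c = 1 ∨ c = z := by
  haveI : Fact (Nat.Prime 2) := ⟨Nat.prime_two⟩
  obtain ⟨z', hz'1, hz'u⟩ := (Nat.card_eq_two_iff' (1 : ↥(commutator S))).mp hK
  have hz'2 : z' ^ 2 = 1 := by rw [← hK]; exact pow_card_eq_one'
  have hKc : commutator S ≤ Subgroup.center S :=
    Cfsg.Agent.Lib.Helper1.le_center_of_normal_of_card_prime h2 (commutator S) hK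
  refine ⟨z'.1, z'.2, ?_, ?_, ?_, ?_⟩
  · intro h; apply hz'1; exact Subtype.ext h
  · have := congrArg Subtype.val hz'2
    simpa [pow_two] using this
  · exact Subgroup.mem_center_iff.mp (hKc z'.2)
  · intro c hc
    by_cases h : (⟨c, hc⟩ : ↥(commutator S)) = 1
    · left; exact congrArg Subtype.val h
    · right; exact congrArg Subtype.val (hz'u ⟨c, hc⟩ h)

/-- the case of a derived subgroup of order 2 -/
theorem metacyclic_of_card_commutator_two {S : Type*} [Group S] [Finite S] (h2 : IsPGroup 2 S)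
    (hr : SectionalPRankLE 2 2 S) (hK : Nat.card (commutator S) = 2) : IsMetacyclic S := by
  classical
  haveI : Fact (Nat.Prime 2) := ⟨Nat.prime_two⟩
  obtain ⟨z, hzK, hz1, hz2, hzc, hKz⟩ := exists_z h2 hK
  have hcom : ∀ g h : S, h⁻¹ * g⁻¹ * h * g = 1 ∨ h⁻¹ * g⁻¹ * h * g = z := by
    intro g h
    apply hKz
    have e : h⁻¹ * g⁻¹ * h * g = ⁅h⁻¹, g⁻¹⁆ := by rw [commutatorElement_def]; simp
    rw [e]
    exact Subgroup.commutator_mem_commutator (Subgroup.mem_top _) (Subgroup.mem_top _)
  have hzz : ∀ e : S, (e = 1 ∨ e = z) → ∀ g, g * e = e * g := by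
    rintro e (rfl | rfl) g
    · simp
    · exact hzc g
  have hmulsq : ∀ g h : S, (g * h) * (g * h) = g * g * (h * h) * (h⁻¹ * g⁻¹ * h * g) := by
    intro g h
    have hc := hzz _ (hcom g h) h
    calc g * h * (g * h) = g * g * h * ((h⁻¹ * g⁻¹ * h * g) * h) := by group
      _ = g * g * h * (h * (h⁻¹ * g⁻¹ * h * g)) := by rw [hc]
      _ = g * g * (h * h) * (h⁻¹ * g⁻¹ * h * g) := by group
  -- the subgroup T
  obtain ⟨T, hT⟩ : ∃ T : Subgroup S, ∀ g, g ∈ T ↔ (g * g = 1 ∨ g * g = z) :=
    ⟨{ carrier := {g | g * g = 1 ∨ g * g = z}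
       one_mem' := Or.inl (one_mul 1)
       mul_mem' := by
         intro a b ha hb
         show (a * b) * (a * b) = 1 ∨ (a * b) * (a * b) = z
         rw [hmulsq a b]
         rcases ha with ha | ha <;> rcases hb with hb | hb <;> rcases hcom a b with hc | hc <;>
           rw [ha, hb, hc] <;> simp [hz2]
       inv_mem' := by
         intro a ha
         show a⁻¹ * a⁻¹ = 1 ∨ a⁻¹ * a⁻¹ = z
         rcases ha with ha | ha
         · left; rw [← mul_inv_rev, ha, inv_one]
         · right; rw [← mul_inv_rev, ha]; exact inv_eq_of_mul_eq_one_left hz2 },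
      fun g => Iff.rfl⟩
  have hSnc : ¬ IsMulCommutative S := by
    intro h
    have := (commutator_eq_bot_iff S).mpr h
    rw [this, Subgroup.card_bot] at hK
    omega
  -- some element squares to z
  have hex : ∃ t : S, t * t = z := by
    by_contra hno
    push Not at hno
    have hT1 : ∀ g ∈ T, g * g = 1 := by
      intro g hg
      rcases (hT g).mp hg with h | h
      · exact h
      · exact absurd h (hno g)
    have hEA : EA 2 T ⊥ := by
      refine ⟨bot_le, ?_, ?_, ?_⟩
      · intro b _ n hn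
        rw [Subgroup.mem_bot] at hn ⊢
        rw [hn]; group
      · intro b hb
        rw [Subgroup.mem_bot, pow_two]; exact hT1 b hb
      · intro a ha b hb
        rw [Subgroup.mem_bot]
        have h1 := hT1 a ha
        have h2' := hT1 b hb
        have h3 := hT1 (a * b) (mul_mem ha hb)
        have ea : a⁻¹ = a := inv_eq_of_mul_eq_one_left h1
        have eb : b⁻¹ = b := inv_eq_of_mul_eq_one_left h2'
        rw [ea, eb]
        calc a * b * a * b = (a * b) * (a * b) := by group
          _ = 1 := h3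
    have hTle := card_le_of_EA hr hEA
    rw [Subgroup.card_bot] at hTle
    have hncyc : ¬ IsCyclic (S ⧸ commutator S) := fun hc =>
      hSnc (Cfsg.Agent.Lib.Helper12.QuatFpf.isMulCommutative_of_isCyclic_quotient (commutator S)
        (Cfsg.Agent.Lib.Helper1.IsPGroup.commutator_le_frattini h2) hc)
    have hcommA : ∀ a b : S ⧸ commutator S, a * b = b * a := by
      intro a b
      have := (Subgroup.Normal.quotient_commutative_iff_commutator_le (N := commutator S)).mpr
        le_rfl
      exact (isMulCommutative_iff.mp this) a b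
    have hnu : ¬ Cfsg.Agent.Lib.Helper10.UniqueOrderP 2 (S ⧸ commutator S) := fun hu =>
      hncyc (Cfsg.Agent.Lib.Helper10.isCyclic_of_comm_of_uniqueOrderP (h2.to_quotient _) hcommA hu)
    unfold Cfsg.Agent.Lib.Helper10.UniqueOrderP at hnu
    push Not at hnu
    obtain ⟨xb, yb, hx2, hx1, hy2, hy⟩ := hnu
    obtain ⟨x, rfl⟩ := QuotientGroup.mk'_surjective (commutator S) xb
    obtain ⟨y, rfl⟩ := QuotientGroup.mk'_surjective (commutator S) yb
    have hxT : x ∈ T := by
      rw [hT]
      rw [← map_pow, QuotientGroup.mk'_apply, QuotientGroup.eq_one_iff, pow_two] at hx2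
      exact hKz _ hx2
    have hyT : y ∈ T := by
      rw [hT]
      rw [← map_pow, QuotientGroup.mk'_apply, QuotientGroup.eq_one_iff, pow_two] at hy2
      exact hKz _ hy2
    have hzT : z ∈ T := (hT z).mpr (Or.inl hz2)
    have l1 : (⊥ : Subgroup S) < Subgroup.zpowers z := by
      rw [bot_lt_iff_ne_bot]; intro h
      rw [Subgroup.zpowers_eq_bot] at h; exact hz1 h
    have l2 : Subgroup.zpowers z < Subgroup.zpowers z ⊔ Subgroup.zpowers x := by
      apply lt_of_le_of_ne le_sup_left
      intro h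
      have hx : x ∈ Subgroup.zpowers z := by
        rw [h]; exact Subgroup.mem_sup_right (Subgroup.mem_zpowers x)
      apply hx1
      rw [QuotientGroup.mk'_apply, QuotientGroup.eq_one_iff]
      exact (Subgroup.zpowers_le.mpr hzK) hx
    have l3 : Subgroup.zpowers z ⊔ Subgroup.zpowers x <
        Subgroup.zpowers z ⊔ Subgroup.zpowers x ⊔ Subgroup.zpowers y := by
      apply lt_of_le_of_ne le_sup_left
      intro h
      have hy' : y ∈ Subgroup.zpowers z ⊔ Subgroup.zpowers x := by
        rw [h]; exact Subgroup.mem_sup_right (Subgroup.mem_zpowers y)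
      apply hy
      have h5 := Subgroup.mem_map_of_mem (QuotientGroup.mk' (commutator S)) hy'
      rw [Subgroup.map_sup, MonoidHom.map_zpowers, MonoidHom.map_zpowers] at h5
      have hz0 : (QuotientGroup.mk' (commutator S)) z = 1 := (QuotientGroup.eq_one_iff z).mpr hzK
      rw [hz0, Subgroup.zpowers_one_eq_bot, bot_sup_eq] at h5
      exact h5
    have l4 : Subgroup.zpowers z ⊔ Subgroup.zpowers x ⊔ Subgroup.zpowers y ≤ T :=
      sup_le (sup_le (Subgroup.zpowers_le.mpr hzT) (Subgroup.zpowers_le.mpr hxT))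
        (Subgroup.zpowers_le.mpr hyT)
    have c1 := two_mul_card_le_of_lt l1
    have c2 := two_mul_card_le_of_lt l2
    have c3 := two_mul_card_le_of_lt l3
    have c4 := Subgroup.card_le_of_le l4
    rw [Subgroup.card_bot] at c1
    norm_num at hTle
    omega
  obtain ⟨t, ht⟩ := hex
  have htU : z ∈ Subgroup.zpowers t := by
    rw [← ht, ← pow_two]; exact Subgroup.pow_mem _ (Subgroup.mem_zpowers t) 2
  obtain ⟨u, huU, humax⟩ := Set.exists_max_image {u : S | z ∈ Subgroup.zpowers u} orderOf
    (Set.toFinite _) ⟨t, htU⟩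
  have huU' : z ∈ Subgroup.zpowers u := huU
  -- elements of the Frattini subgroup are squares up to z
  have hcommA : ∀ a b : S ⧸ commutator S, a * b = b * a := by
    intro a b
    have := (Subgroup.Normal.quotient_commutative_iff_commutator_le (N := commutator S)).mpr
      le_rfl
    exact (isMulCommutative_iff.mp this) a b
  have hfr : ∀ g ∈ frattini S, ∃ w : S, g = w * w ∨ g = w * w * z := by
    intro g hg
    let f : (S ⧸ commutator S) →* (S ⧸ commutator S) :=
      MonoidHom.mk' (fun x => x ^ 2) (fun a b => Commute.mul_pow (hcommA a b) 2)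
    let Q : Subgroup S := f.range.comap (QuotientGroup.mk' (commutator S))
    have hQ1 : commutator S ≤ Q := by
      intro c hc
      show QuotientGroup.mk' (commutator S) c ∈ f.range
      have : QuotientGroup.mk' (commutator S) c = 1 := (QuotientGroup.eq_one_iff c).mpr hc
      rw [this]; exact one_mem _
    have hQ2 : ∀ x : S, x ^ 2 ∈ Q := by
      intro x
      show QuotientGroup.mk' (commutator S) (x ^ 2) ∈ f.range
      rw [map_pow]; exact ⟨QuotientGroup.mk' (commutator S) x, rfl⟩
    have hle := Cfsg.Agent.Lib.Helper1.frattini_le_of_commutator_le_of_pow_mem (p := 2) Q hQ1 hQ2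
    obtain ⟨ab, hab⟩ := hle hg
    obtain ⟨w, rfl⟩ := QuotientGroup.mk'_surjective (commutator S) ab
    have hab' : (QuotientGroup.mk' (commutator S) w) ^ 2 = QuotientGroup.mk' (commutator S) g := hab
    have h1 : g * (w * w)⁻¹ ∈ commutator S := by
      rw [← QuotientGroup.eq_one_iff]
      have : ((g * (w * w)⁻¹ : S) : S ⧸ commutator S) =
          QuotientGroup.mk' (commutator S) g * ((QuotientGroup.mk' (commutator S) w) ^ 2)⁻¹ := by
        simp [pow_two]
      rw [this, hab', mul_inv_cancel]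
    rcases hKz _ h1 with h | h
    · exact ⟨w, Or.inl (mul_inv_eq_one.mp h)⟩
    · refine ⟨w, Or.inr ?_⟩
      rw [mul_inv_eq_iff_eq_mul] at h
      rw [h]; exact (hzc (w * w)).symm
  have hot : orderOf t = 4 := by
    have h4 : t ^ 2 ^ (1 + 1) = 1 := by
      have e4 : (2 : ℕ) ^ (1 + 1) = 2 + 2 := by norm_num
      rw [e4, pow_add, pow_two, ht, hz2]
    have h2' : ¬ t ^ 2 ^ 1 = 1 := by rw [pow_one, pow_two, ht]; exact hz1
    have := orderOf_eq_prime_pow h2' h4
    simpa using this
  have hunf : u ∉ frattini S := by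
    intro hu
    obtain ⟨w, hw⟩ := hfr u hu
    obtain ⟨m, hm⟩ := (IsPGroup.iff_orderOf.mp h2) u
    have hle := humax t htU
    rw [hot, hm] at hle
    obtain ⟨k, rfl⟩ : ∃ k, m = k + 2 := by
      rcases m with _ | _ | m
      · norm_num at hle
      · norm_num at hle
      · exact ⟨m, rfl⟩
    have hou : orderOf u = 2 * 2 ^ (k + 1) := by rw [hm]; ring
    -- z = u ^ (2 ^ (k+1))
    have hzu : z = u ^ (2 ^ (k + 1)) := by
      obtain ⟨i, hi⟩ := (Submonoid.mem_powers_iff _ _).mp (mem_powers_iff_mem_zpowers.mpr huU')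
      -- z = u ^ i
      have h1 : u ^ (2 * i) = 1 := by rw [two_mul, pow_add, hi]; exact hz2
      have h2' : 2 * 2 ^ (k + 1) ∣ 2 * i := by rw [← hou]; exact orderOf_dvd_of_pow_eq_one h1
      have h3 : 2 ^ (k + 1) ∣ i := (Nat.mul_dvd_mul_iff_left (by norm_num)).mp h2'
      obtain ⟨j, rfl⟩ := h3
      have h4 : u ^ (2 * 2 ^ (k + 1)) = 1 := by rw [← hou]; exact pow_orderOf_eq_one u
      rcases Nat.even_or_odd' j with ⟨l, rfl | rfl⟩
      · exfalso
        apply hz1
        rw [← hi, ← mul_assoc, mul_comm (2 ^ (k + 1)) 2, pow_mul, h4, one_pow]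
      · rw [← hi, mul_add, mul_one, pow_add, ← mul_assoc, mul_comm (2 ^ (k + 1)) 2, pow_mul, h4,
          one_pow, one_mul]
    -- u ^ (2^(k+1)) = w ^ (2^(k+2))
    have hzw : z = w ^ (2 ^ (k + 2)) := by
      rw [hzu]
      rcases hw with hw | hw
      · rw [hw, ← pow_two, ← pow_mul, pow_succ 2 (k + 1), mul_comm]
      · rw [hw]
        have hcm : Commute (w * w) z := (hzc (w * w))
        rw [hcm.mul_pow]
        have hz0 : z ^ 2 ^ (k + 1) = 1 := by
          rw [pow_succ, mul_comm, pow_mul, pow_two, hz2, one_pow]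
        rw [hz0, mul_one, ← pow_two, ← pow_mul, pow_succ 2 (k + 1), mul_comm]
    have hwU : z ∈ Subgroup.zpowers w := by
      rw [hzw]; exact Subgroup.pow_mem _ (Subgroup.mem_zpowers w) _
    have how : orderOf w = 2 ^ (k + 2 + 1) := by
      apply orderOf_eq_prime_pow
      · rw [← hzw]; exact hz1
      · rw [pow_succ 2 (k + 2), pow_mul, ← hzw, pow_two, hz2]
    have := humax w hwU
    rw [how, hm] at this
    have : 2 ^ (k + 2 + 1) = 2 * 2 ^ (k + 2) := by ring
    have hpos : 0 < 2 ^ (k + 2) := by positivity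
    omega
  obtain ⟨v, huv⟩ := exists_gen_pair h2 hr u hunf
  haveI hN : (Subgroup.zpowers u).Normal := Subgroup.Normal.of_commutator_le _ (by
    intro c hc
    rcases hKz c hc with rfl | rfl
    · exact one_mem _
    · exact huU')
  exact ⟨Subgroup.zpowers u, hN, inferInstance, isCyclic_quotient_of_sup_eq_top _ v huv⟩

/-- the inductive step: derived subgroup of order more than 2 -/
theorem step {S : Type u} [Group S] [Finite S] (h2 : IsPGroup 2 S)
    (hK : 2 < Nat.card (commutator S))
    (ih : ∀ (N : Subgroup S) [N.Normal], Nat.card N = 2 → IsMetacyclic (S ⧸ N)) :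
    IsMetacyclic S := by
  classical
  haveI : Fact (Nat.Prime 2) := ⟨Nat.prime_two⟩
  haveI : Group.IsNilpotent S := h2.isNilpotent
  have hKne : commutator S ≠ ⊥ := by
    intro h; rw [h, Subgroup.card_bot] at hK; omega
  have h3 := Cfsg.Agent.Lib.Helper1.inf_center_ne_bot_of_normal (commutator S) hKne
  obtain ⟨⟨x, hx⟩, hx1⟩ := (Subgroup.ne_bot_iff_exists_ne_one).mp h3
  have hx1' : x ≠ 1 := fun h => hx1 (Subtype.ext h)
  obtain ⟨hxK, hxZ⟩ := Subgroup.mem_inf.mp hx
  obtain ⟨z, hzx, hz2', hz1⟩ :=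
    Cfsg.Agent.Lib.Helper10.exists_orderOf_eq_prime_zpowers h2 x hx1'
  have hz2 : z * z = 1 := by rw [← pow_two]; exact hz2'
  have hzK : z ∈ commutator S := (Subgroup.zpowers_le.mpr hxK) hzx
  have hzZ : z ∈ Subgroup.center S := (Subgroup.zpowers_le.mpr hxZ) hzx
  have hzc : ∀ g : S, g * z = z * g := Subgroup.mem_center_iff.mp hzZ
  have hoz : orderOf z = 2 := orderOf_eq_prime hz2' hz1
  obtain ⟨N, hNdef⟩ : ∃ N : Subgroup S, N = Subgroup.zpowers z := ⟨_, rfl⟩
  have hNmem : ∀ n, n ∈ N ↔ (n = 1 ∨ n = z) := by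
    intro n
    rw [hNdef]
    constructor
    · intro hn
      obtain ⟨k, rfl⟩ := Subgroup.mem_zpowers_iff.mp hn
      rcases Int.even_or_odd k with ⟨j, rfl⟩ | ⟨j, rfl⟩
      · left
        rw [← two_mul, zpow_mul, zpow_two, hz2, one_zpow]
      · right
        rw [zpow_add, zpow_one, zpow_mul, zpow_two, hz2, one_zpow, one_mul]
    · rintro (rfl | rfl)
      · exact one_mem _
      · exact Subgroup.mem_zpowers _
  haveI hNn : N.Normal := by
    constructor
    intro n hn g
    rw [hNmem] at hn ⊢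
    rcases hn with rfl | rfl
    · left; group
    · right; rw [hzc g]; group
  have hNcard : Nat.card N = 2 := by rw [hNdef, Nat.card_zpowers, hoz]
  obtain ⟨B, hBn, hBc, hQc⟩ := ih N hNcard
  haveI := hBn
  obtain ⟨A, hAdef⟩ : ∃ A : Subgroup S, A = B.comap (QuotientGroup.mk' N) := ⟨_, rfl⟩
  haveI hAn : A.Normal := by rw [hAdef]; exact Subgroup.Normal.comap hBn _
  have hAmem : ∀ s, s ∈ A ↔ (QuotientGroup.mk' N s) ∈ B := by
    intro s; rw [hAdef]; exact Iff.rfl
  obtain ⟨⟨β, hβB⟩, hβ⟩ := isCyclic_iff_exists_zpowers_eq_top.mp hBc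
  obtain ⟨a, rfl⟩ := QuotientGroup.mk'_surjective N β
  have haA : a ∈ A := (hAmem a).mpr hβB
  have hA1 : ∀ s ∈ A, ∃ k : ℤ, s * (a ^ k)⁻¹ ∈ N := by
    intro s hs
    have hsB := (hAmem s).mp hs
    have hmem : (⟨QuotientGroup.mk' N s, hsB⟩ : ↥B) ∈
        Subgroup.zpowers (⟨QuotientGroup.mk' N a, hβB⟩ : ↥B) := by
      rw [hβ]; exact Subgroup.mem_top _
    obtain ⟨k, hk⟩ := Subgroup.mem_zpowers_iff.mp hmem
    refine ⟨k, ?_⟩
    have hk' := congrArg Subtype.val hk
    rw [Subgroup.coe_zpow] at hk'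
    have hk'' : (QuotientGroup.mk' N a) ^ k = QuotientGroup.mk' N s := hk'
    rw [← QuotientGroup.ker_mk' N, MonoidHom.mem_ker, map_mul, map_inv, map_zpow, hk'',
      mul_inv_cancel]
  have hA2 : ∀ s ∈ A, ∃ k : ℤ, s = a ^ k ∨ s = z * a ^ k := by
    intro s hs
    obtain ⟨k, hk⟩ := hA1 s hs
    refine ⟨k, ?_⟩
    rcases (hNmem _).mp hk with h | h
    · left; exact mul_inv_eq_one.mp h
    · right; exact mul_inv_eq_iff_eq_mul.mp h
  have hcaz : Commute z a := (hzc a).symm
  have hAa : ∀ s ∈ A, Commute s a := by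
    intro s hs
    obtain ⟨k, h | h⟩ := hA2 s hs
    · rw [h]; exact (Commute.refl a).zpow_left k
    · rw [h]; exact hcaz.mul_left ((Commute.refl a).zpow_left k)
  have hAcomm : ∀ s ∈ A, ∀ t ∈ A, Commute s t := by
    intro s hs t ht
    obtain ⟨k, h | h⟩ := hA2 t ht
    · rw [h]; exact (hAa s hs).zpow_right k
    · rw [h]; exact Commute.mul_right (hzc s) ((hAa s hs).zpow_right k)
  obtain ⟨γ, hγ⟩ := isCyclic_iff_exists_zpowers_eq_top.mp hQc
  obtain ⟨γ', rfl⟩ := QuotientGroup.mk'_surjective B γ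
  obtain ⟨b, rfl⟩ := QuotientGroup.mk'_surjective N γ'
  have hS1 : ∀ s : S, ∃ j : ℤ, s * (b ^ j)⁻¹ ∈ A := by
    intro s
    have hmem : QuotientGroup.mk' B (QuotientGroup.mk' N s) ∈
        Subgroup.zpowers (QuotientGroup.mk' B (QuotientGroup.mk' N b)) := by
      rw [hγ]; exact Subgroup.mem_top _
    obtain ⟨j, hj⟩ := Subgroup.mem_zpowers_iff.mp hmem
    refine ⟨j, ?_⟩
    rw [hAmem, ← QuotientGroup.ker_mk' B, MonoidHom.mem_ker, map_mul, map_inv, map_zpow, map_mul,
      map_inv, map_zpow, hj, mul_inv_cancel]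
  by_cases hza : z ∈ Subgroup.zpowers a
  · have hAeq : A = Subgroup.zpowers a := by
      apply le_antisymm
      · intro s hs
        obtain ⟨k, h | h⟩ := hA2 s hs
        · rw [h]; exact Subgroup.zpow_mem _ (Subgroup.mem_zpowers a) k
        · rw [h]; exact mul_mem hza (Subgroup.zpow_mem _ (Subgroup.mem_zpowers a) k)
      · rw [Subgroup.zpowers_le]; exact haA
    have hAc : IsCyclic ↥A := by rw [hAeq]; infer_instance
    have hsup : A ⊔ Subgroup.zpowers b = ⊤ := by
      rw [eq_top_iff]; intro s _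
      obtain ⟨j, hj⟩ := hS1 s
      have e : s = (s * (b ^ j)⁻¹) * b ^ j := by group
      rw [e]
      exact mul_mem (Subgroup.mem_sup_left hj)
        (Subgroup.mem_sup_right (Subgroup.zpow_mem _ (Subgroup.mem_zpowers b) j))
    exact ⟨A, hAn, hAc, isCyclic_quotient_of_sup_eq_top A b hsup⟩
  · exfalso
    obtain ⟨β, hβdef⟩ : ∃ β : S, β = b⁻¹ := ⟨_, rfl⟩
    have hconjA : β * a * β⁻¹ ∈ A := hAn.conj_mem a haA β
    obtain ⟨r, hr'⟩ := hA2 _ hconjA
    obtain ⟨e, he, hconj⟩ : ∃ e : S, (e = 1 ∨ e = z) ∧ β * a * β⁻¹ = e * a ^ r := by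
      rcases hr' with h | h
      · exact ⟨1, Or.inl rfl, by rw [h, one_mul]⟩
      · exact ⟨z, Or.inr rfl, h⟩
    have hec : ∀ g : S, g * e = e * g := by
      intro g; rcases he with rfl | rfl
      · simp
      · exact hzc g
    obtain ⟨c, hcdef⟩ : ∃ c : S, c = a⁻¹ * (β * a * β⁻¹) := ⟨_, rfl⟩
    have hc1 : c = e * a ^ (r - 1) := by
      have e1 : a⁻¹ * a ^ r = a ^ (r - 1) := by
        rw [← zpow_neg_one, ← zpow_add]; congr 1; ring
      calc c = a⁻¹ * (e * a ^ r) := by rw [hcdef, hconj]
        _ = (a⁻¹ * e) * a ^ r := (mul_assoc _ _ _).symm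
        _ = (e * a⁻¹) * a ^ r := by rw [hec a⁻¹]
        _ = e * (a⁻¹ * a ^ r) := mul_assoc _ _ _
        _ = e * a ^ (r - 1) := by rw [e1]
    have hcA : c ∈ A := by rw [hcdef]; exact mul_mem (inv_mem haA) hconjA
    have hcconj : β * c * β⁻¹ = c ^ r := by
      have hce : ∀ g : S, Commute e g := fun g => (hec g).symm
      have e2 : e * e ^ (r - 1) = e ^ r := by
        rw [← zpow_one_add]; congr 1; ring
      calc β * c * β⁻¹ = β * (e * a ^ (r - 1)) * β⁻¹ := by rw [hc1]
        _ = (β * e) * a ^ (r - 1) * β⁻¹ := by group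
        _ = (e * β) * a ^ (r - 1) * β⁻¹ := by rw [hec β]
        _ = e * (β * a ^ (r - 1) * β⁻¹) := by group
        _ = e * (β * a * β⁻¹) ^ (r - 1) := by rw [conj_zpow]
        _ = e * (e * a ^ r) ^ (r - 1) := by rw [hconj]
        _ = e * (e ^ (r - 1) * (a ^ r) ^ (r - 1)) := by rw [(hce (a ^ r)).mul_zpow]
        _ = (e * e ^ (r - 1)) * (a ^ r) ^ (r - 1) := (mul_assoc _ _ _).symm
        _ = e ^ r * a ^ ((r - 1) * r) := by rw [e2, ← zpow_mul, mul_comm r (r - 1)]
        _ = e ^ r * (a ^ (r - 1)) ^ r := by rw [zpow_mul]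
        _ = (e * a ^ (r - 1)) ^ r := by rw [(hce (a ^ (r - 1))).mul_zpow]
        _ = c ^ r := by rw [← hc1]
    -- generation
    have hgen : ∀ s : S, s ∈ Subgroup.closure ({a, β, z} : Set S) := by
      intro s
      have haC : a ∈ Subgroup.closure ({a, β, z} : Set S) :=
        Subgroup.subset_closure (by simp)
      have hβC : β ∈ Subgroup.closure ({a, β, z} : Set S) :=
        Subgroup.subset_closure (by simp)
      have hzC : z ∈ Subgroup.closure ({a, β, z} : Set S) :=
        Subgroup.subset_closure (by simp)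
      obtain ⟨j, hj⟩ := hS1 s
      have e : s = (s * (b ^ j)⁻¹) * b ^ j := by group
      rw [e]
      apply mul_mem
      · obtain ⟨k, h | h⟩ := hA2 _ hj
        · rw [h]; exact Subgroup.zpow_mem _ haC k
        · rw [h]; exact mul_mem hzC (Subgroup.zpow_mem _ haC k)
      · have hb : b = β⁻¹ := by rw [hβdef, inv_inv]
        rw [hb]
        exact Subgroup.zpow_mem _ (inv_mem hβC) j
    -- C = ⟨c⟩ is normal
    have hCn : (Subgroup.zpowers c).Normal := by
      rw [← Subgroup.normalizer_eq_top_iff, eq_top_iff]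
      intro s _
      have hle : Subgroup.closure ({a, β, z} : Set S) ≤
          Subgroup.normalizer ((Subgroup.zpowers c : Subgroup S) : Set S) := by
        rw [Subgroup.closure_le]
        intro g hg
        apply Subgroup.mem_normalizer_fintype
        intro n hn
        rw [SetLike.mem_coe] at hn ⊢
        obtain ⟨i, rfl⟩ := Subgroup.mem_zpowers_iff.mp hn
        simp only [Set.mem_insert_iff, Set.mem_singleton_iff] at hg
        rcases hg with rfl | rfl | rfl
        · have hcm : Commute g (c ^ i) :=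
            (hAcomm g haA c hcA).zpow_right i
          rw [hcm.eq, mul_inv_cancel_right]
          exact Subgroup.zpow_mem _ (Subgroup.mem_zpowers c) i
        · rw [← conj_zpow, hcconj]
          exact Subgroup.zpow_mem _ (Subgroup.zpow_mem _ (Subgroup.mem_zpowers c) r) i
        · rw [(hzc (c ^ i)).symm, mul_inv_cancel_right]
          exact Subgroup.zpow_mem _ (Subgroup.mem_zpowers c) i
      exact hle (hgen s)
    haveI := hCn
    -- the quotient by C is commutative
    have hcomm : IsMulCommutative (S ⧸ Subgroup.zpowers c) := by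
      obtain ⟨π, hπ⟩ : ∃ π : S →* S ⧸ Subgroup.zpowers c, π = QuotientGroup.mk' _ := ⟨_, rfl⟩
      have hπs : Function.Surjective π := by rw [hπ]; exact QuotientGroup.mk'_surjective _
      have hπc : π c = 1 := by
        rw [hπ]; exact (QuotientGroup.eq_one_iff c).mpr (Subgroup.mem_zpowers c)
      have hk : ∀ x ∈ (π '' ({a, β, z} : Set S)), ∀ y ∈ (π '' ({a, β, z} : Set S)),
          x * y = y * x := by
        have hab : π β * π a = π a * π β := by
          have e : β * a = a * c * β := by rw [hcdef]; group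
          rw [← map_mul, e, map_mul, map_mul, hπc, mul_one]
        have hza' : π z * π a = π a * π z := by rw [← map_mul, ← map_mul, hzc a]
        have hzb' : π z * π β = π β * π z := by rw [← map_mul, ← map_mul, hzc β]
        rintro _ ⟨x, hx, rfl⟩ _ ⟨y, hy, rfl⟩
        simp only [Set.mem_insert_iff, Set.mem_singleton_iff] at hx hy
        rcases hx with rfl | rfl | rfl <;> rcases hy with rfl | rfl | rfl
        · rfl
        · exact hab.symm
        · exact hza'.symm
        · exact hab
        · rfl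
        · exact hzb'.symm
        · exact hza'
        · exact hzb'
        · rfl
      have hcl := Subgroup.isMulCommutative_closure hk
      have htop : Subgroup.closure (π '' ({a, β, z} : Set S)) = ⊤ := by
        have hcl' : Subgroup.closure ({a, β, z} : Set S) = ⊤ := eq_top_iff.mpr (fun s _ => hgen s)
        rw [← MonoidHom.map_closure, hcl', Subgroup.map_top_of_surjective π hπs]
      rw [isMulCommutative_iff]
      intro x y
      have hx : x ∈ Subgroup.closure (π '' ({a, β, z} : Set S)) := by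
        rw [htop]; exact Subgroup.mem_top x
      have hy : y ∈ Subgroup.closure (π '' ({a, β, z} : Set S)) := by
        rw [htop]; exact Subgroup.mem_top y
      have := (isMulCommutative_iff.mp hcl) ⟨x, hx⟩ ⟨y, hy⟩
      exact congrArg Subtype.val this
    have hSC : commutator S ≤ Subgroup.zpowers c :=
      Subgroup.Normal.quotient_commutative_iff_commutator_le.mp hcomm
    obtain ⟨k, hk⟩ := Subgroup.mem_zpowers_iff.mp (hSC hzK)
    rcases he with he | he
    · -- c ∈ ⟨a⟩
      apply hza
      rw [← hk, hc1, he, one_mul]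
      exact Subgroup.zpow_mem _ (Subgroup.zpow_mem _ (Subgroup.mem_zpowers a) _) k
    · -- c = z * a ^ (r-1)
      rw [he] at hc1
      have hck : c ^ k = z ^ k * a ^ ((r - 1) * k) := by
        have hcm : Commute z (a ^ (r - 1)) := (hzc (a ^ (r - 1))).symm
        rw [hc1, hcm.mul_zpow, ← zpow_mul]
      rw [hck] at hk
      -- a ^ ((r-1)k) ∈ N
      have haN : a ^ ((r - 1) * k) ∈ N := by
        have e : a ^ ((r - 1) * k) = (z ^ k)⁻¹ * (z ^ k * a ^ ((r - 1) * k)) := by group
        rw [e, hk, hNdef]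
        exact mul_mem (inv_mem (Subgroup.zpow_mem _ (Subgroup.mem_zpowers z) k))
          (Subgroup.mem_zpowers z)
      have ha1 : a ^ ((r - 1) * k) = 1 := by
        rcases (hNmem _).mp haN with h | h
        · exact h
        · exfalso; apply hza; rw [← h]
          exact Subgroup.zpow_mem _ (Subgroup.mem_zpowers a) _
      rw [ha1, mul_one] at hk
      -- z ^ (k - 1) = 1
      have hzk : z ^ (k - 1) = 1 := by
        rw [zpow_sub_one, hk, mul_inv_cancel]
      have hdvd1 : (2 : ℤ) ∣ k - 1 := by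
        have := orderOf_dvd_iff_zpow_eq_one.mpr hzk
        rw [hoz] at this
        exact_mod_cast this
      have hc2k : c ^ (2 * k) = 1 := by
        rw [mul_comm, zpow_mul, hck, ha1, mul_one, hk, zpow_two, hz2]
      have hdvd2 : (orderOf c : ℤ) ∣ 2 * k := orderOf_dvd_iff_zpow_eq_one.mpr hc2k
      obtain ⟨m, hm⟩ := (IsPGroup.iff_orderOf.mp h2) c
      have hm1 : m ≤ 1 := by
        by_contra hlt
        push Not at hlt
        obtain ⟨m', rfl⟩ : ∃ m', m = m' + 2 := ⟨m - 2, by omega⟩
        rw [hm] at hdvd2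
        have h4 : (4 : ℤ) ∣ 2 * k := by
          refine Dvd.dvd.trans ?_ hdvd2
          refine ⟨2 ^ m', ?_⟩
          push_cast
          ring
        omega
      have hcard : Nat.card (Subgroup.zpowers c) ≤ 2 := by
        rw [Nat.card_zpowers, hm]
        calc 2 ^ m ≤ 2 ^ 1 := Nat.pow_le_pow_right (by norm_num) hm1
          _ = 2 := by norm_num
      have := Subgroup.card_le_of_le hSC
      omega

theorem main : ∀ n : ℕ, ∀ (T : Type u) [Group T] [Finite T], Nat.card T = n → IsPGroup 2 T →
    SectionalPRankLE 2 2 T → IsMetacyclic T := by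
  intro n
  induction n using Nat.strong_induction_on with
  | _ n ih =>
    intro T _ _ hn h2 hr
    by_cases hc : IsMulCommutative T
    · exact metacyclic_of_comm h2 hr (isMulCommutative_iff.mp hc)
    · have hKne : commutator T ≠ ⊥ := fun h => hc ((commutator_eq_bot_iff T).mp h)
      have hK2 : 2 ≤ Nat.card (commutator T) := by
        have hpos : 0 < Nat.card (commutator T) := Nat.card_pos
        have : Nat.card (commutator T) ≠ 1 := fun h => hKne (Subgroup.eq_bot_of_card_eq _ h)
        omega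
      rcases Nat.lt_or_ge 2 (Nat.card (commutator T)) with hlt | hge
      · apply step h2 hlt
        intro N _ hN
        have hcard : Nat.card (T ⧸ N) < n := by
          have := Subgroup.card_eq_card_quotient_mul_card_subgroup N
          rw [hN, hn] at this
          have hpos : 0 < Nat.card (T ⧸ N) := Nat.card_pos
          omega
        exact ih _ hcard (T ⧸ N) rfl (h2.to_quotient N)
          (sectionalPRankLE_of_surjective hr _ (QuotientGroup.mk'_surjective N))
      · exact metacyclic_of_card_commutator_two h2 hr (by omega)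

/-- A finite 2-group of sectional 2-rank at most 2 (every section has no elementary abelian subgroup of order 8) is metacyclic: it has a cyclic normal subgroup with cyclic quotient. -/
theorem result {S : Type*} [Group S] [Finite S] (h2 : IsPGroup 2 S) (hr : Cfsg.SectionalPRankLE 2 2 S) : Cfsg.IsMetacyclic S :=
  main (Nat.card S) S rfl h2 hr

end Cfsg.Agent.S4397
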