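import Cfsg.Statements.S4399
import Cfsg.Agent.Lib.Helper1.MaxClassTwo
import Cfsg.Agent.Lib.Helper15.DihOrthPlus
import Cfsg.Agent.Lib.Helper10.UniqueOrderP

set_option autoImplicit false
open Cfsg

namespace Cfsg.Agent.S4399

open Cfsg.Agent.Lib.Helper1.MaxClassTwo

/-- the involution of a cyclic group of order `2m` -/
theorem eq_pow_of_mem_zpowers_of_sq {X : Type*} [Group X] [Finite X] (a y : X) (m : ℕ)
    (ha : orderOf a = 2 * m) (hy : y ∈ Subgroup.zpowers a) (hy2 : y * y = 1)
    (hy1 : y ≠ 1) : y = a ^ m := by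
  obtain ⟨k, rfl⟩ := (Submonoid.mem_powers_iff _ _).mp (mem_powers_iff_mem_zpowers.mpr hy)
  have h1 : a ^ (2 * k) = 1 := by rw [two_mul, pow_add]; exact hy2
  have h2 : 2 * m ∣ 2 * k := by rw [← ha]; exact orderOf_dvd_of_pow_eq_one h1
  have h3 : m ∣ k := (Nat.mul_dvd_mul_iff_left (by norm_num)).mp h2
  obtain ⟨j, rfl⟩ := h3
  have h4 : a ^ (2 * m) = 1 := by rw [← ha]; exact pow_orderOf_eq_one a
  rcases Nat.even_or_odd' j with ⟨l, rfl | rfl⟩
  · exfalso
    apply hy1
    rw [← mul_assoc, mul_comm m 2, pow_mul, h4, one_pow]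
  · rw [mul_add, mul_one, pow_add, ← mul_assoc, mul_comm m 2, pow_mul, h4, one_pow, one_mul]

theorem conj_of_mem_zpowers {X : Type*} [Group X] (a b : X) (h : b * a * b⁻¹ = a⁻¹) (c : X)
    (hc : c ∈ Subgroup.zpowers a) : b * c * b⁻¹ = c⁻¹ := by
  obtain ⟨j, rfl⟩ := Subgroup.mem_zpowers_iff.mp hc
  rw [← conj_zpow, h, inv_zpow]

/-- Let S be a finite 2-group whose commutator quotient S/[S,S] is a Klein four-group (order 4 and exponent 2). Then S itself has order 4, or S is dihedral of order at least 8, semidihedral of order at least 16 (order 2^(k+4) with an element a of order 2^(k+3) and an involution b with b a b⁻¹ = a^(2^(k+2)−1)), or generalized quaternion of order at least 8. -/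
theorem result {S : Type*} [Group S] [Finite S] (h2 : IsPGroup 2 S) (hab : Nat.card (Abelianization S) = 4)
    (hexp : ∀ x : Abelianization S, x ^ 2 = 1) :
    Nat.card S = 4 ∨
    ((∃ k : ℕ, Nonempty (S ≃* DihedralGroup (2 ^ (k + 2)))) ∨
      (∃ k : ℕ, Nat.card S = 2 ^ (k + 4) ∧ ∃ a b : S, orderOf a = 2 ^ (k + 3) ∧ orderOf b = 2 ∧ b * a * b⁻¹ = a ^ (2 ^ (k + 2) - 1)) ∨
      (∃ k : ℕ, Nonempty (S ≃* QuaternionGroup (2 ^ (k + 1))))) := by
  have : Fact (Nat.Prime 2) := ⟨Nat.prime_two⟩
  obtain ⟨n, hn⟩ := h2.exists_card_eq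
  have hab' : Nat.card (S ⧸ commutator S) = 4 := hab
  have hn2 : 2 ≤ n := by
    have h1 : Nat.card (S ⧸ commutator S) ∣ Nat.card S := Subgroup.card_quotient_dvd_card _
    rw [hab', hn] at h1
    by_contra hlt
    push Not at hlt
    have h3 : 2 ^ n ≤ 2 ^ 1 := Nat.pow_le_pow_right (by norm_num) (by omega)
    have := Nat.le_of_dvd (by positivity) h1
    omega
  rcases Nat.lt_or_ge n 3 with hlt | hn3
  · left
    have : n = 2 := by omega
    rw [hn, this]
    norm_num
  right
  obtain ⟨k, rfl⟩ := Nat.exists_eq_add_of_le hn3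
  have hc := maxClass_of_card_abelianization (3 + k) hn3 S hn hab'
  obtain ⟨C, hCcyc, hCidx⟩ := exists_cyclic_index_two (3 + k) hn3 S hn hc
  have hncomm := not_isMulCommutative_of_maxClass (3 + k) hn3 hn hc
  have hZ : Nat.card (Subgroup.center S) = 2 :=
    card_center_of_maxClass (p := 2) (3 + k) hn3 hn hc
  have hcomm := commute_of_isCyclic hCcyc
  have hCn : C.Normal := Subgroup.normal_of_index_eq_two hCidx
  obtain ⟨⟨a, haC⟩, hgen⟩ := hCcyc.exists_generator
  have hCa : C = Subgroup.zpowers a := by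
    apply le_antisymm
    · intro x hx
      obtain ⟨j, hj⟩ := Subgroup.mem_zpowers_iff.mp (hgen ⟨x, hx⟩)
      rw [Subgroup.mem_zpowers_iff]
      refine ⟨j, ?_⟩
      have := congrArg Subtype.val hj
      simpa using this
    · rw [Subgroup.zpowers_le]
      exact haC
  set M := 2 ^ (k + 1) with hM
  have hMpos : 0 < M := by positivity
  have hcardC : Nat.card C = 2 * M := by
    have h1 := Subgroup.card_mul_index C
    rw [hCidx, hn] at h1
    have : 2 ^ (3 + k) = 2 * M * 2 := by rw [hM]; ring
    omega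
  have hoa : orderOf a = 2 * M := by rw [← Nat.card_zpowers, ← hCa, hcardC]
  have hoa' : orderOf a = 2 ^ (k + 2) := by rw [hoa, hM]; ring
  have hcardS : Nat.card S = 2 * 2 ^ (k + 2) := by rw [hn]; ring
  have ha2M : a ^ (2 * M) = 1 := by rw [← hoa]; exact pow_orderOf_eq_one a
  -- the central involution
  obtain ⟨⟨z, hzZ⟩, hz1, -⟩ := (Nat.card_eq_two_iff' (1 : Subgroup.center S)).mp hZ
  have hz1' : z ≠ 1 := fun h => hz1 (Subtype.ext h)
  have hzz : z * z = 1 := by
    have h1 : (⟨z, hzZ⟩ : Subgroup.center S) ^ Nat.card (Subgroup.center S) = 1 :=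
      pow_card_eq_one'
    rw [hZ] at h1
    have := congrArg Subtype.val h1
    simpa [pow_two] using this
  have hcenter : ∀ s ∈ Subgroup.center S, s = 1 ∨ s = z := fun s hs =>
    eq_one_or_eq_of_card_two hZ hs hzZ hz1'
  have hzcomm : ∀ g : S, Commute z g := fun g => (Subgroup.mem_center_iff.mp hzZ g).symm
  have hzC : z ∈ C := by
    by_contra hzC
    apply hncomm
    refine ⟨⟨?_⟩⟩
    intro g h
    obtain ⟨c₁, hc₁, hg | hg⟩ := exists_eq_or_eq_mul hCidx hzC g <;>
    obtain ⟨c₂, hc₂, hh | hh⟩ := exists_eq_or_eq_mul hCidx hzC h <;>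
    rw [hg, hh]
    · exact (hcomm c₁ hc₁ c₂ hc₂).eq
    · exact (Commute.mul_right (hzcomm c₁).symm (hcomm c₁ hc₁ c₂ hc₂)).eq
    · exact (Commute.mul_left (hzcomm c₂) (hcomm c₁ hc₁ c₂ hc₂)).eq
    · exact (Commute.mul_left (Commute.mul_right (Commute.refl z) (hzcomm c₂))
        (Commute.mul_right (hzcomm c₁).symm (hcomm c₁ hc₁ c₂ hc₂))).eq
  have hza : z = a ^ M :=
    eq_pow_of_mem_zpowers_of_sq a z M hoa (hCa ▸ hzC) hzz hz1'
  -- an element outside C
  obtain ⟨b, hb⟩ : ∃ b, b ∉ C := by
    by_contra hall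
    push Not at hall
    have : C = ⊤ := eq_top_iff.mpr (fun x _ => hall x)
    rw [this, Subgroup.index_top] at hCidx
    omega
  -- the semidihedral conclusion
  have SD : ∀ b' : S, b' ∉ C → b' * a * b'⁻¹ = a ^ (M - 1) → b' * b' = 1 →
      ∃ k : ℕ, Nat.card S = 2 ^ (k + 4) ∧ ∃ a b : S, orderOf a = 2 ^ (k + 3) ∧ orderOf b = 2 ∧
        b * a * b⁻¹ = a ^ (2 ^ (k + 2) - 1) := by
    intro b' hb' hconj hsq
    rcases k with _ | k'
    · exfalso
      have hM2 : M = 2 := by rw [hM]; norm_num
      rw [hM2] at hconj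
      have h1 : Commute a b' := by
        have : b' * a = a * b' := by
          calc b' * a = b' * a * b'⁻¹ * b' := by group
            _ = a * b' := by rw [hconj]; simp
        exact this.symm
      have h2 : a ∈ Subgroup.center S :=
        mem_center_of_commute hCidx hb' h1 (fun c' hc' => hcomm a haC c' hc')
      have h3 : orderOf a ≤ 2 := by
        rcases hcenter a h2 with h | h
        · rw [h, orderOf_one]; omega
        · rw [h]
          exact Nat.le_of_dvd (by omega) (orderOf_dvd_of_pow_eq_one (by rw [pow_two]; exact hzz))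
      rw [hoa, hM2] at h3
      omega
    · refine ⟨k', ?_, a, b', ?_, ?_, ?_⟩
      · rw [hn]; ring
      · rw [hoa']
      · apply orderOf_eq_prime
        · rw [pow_two]; exact hsq
        · rintro rfl
          exact hb' C.one_mem
      · rw [hconj, hM]
  have hbz : b ∉ Subgroup.zpowers a := hCa ▸ hb
  have h1 := conj_mul_mem_center hCidx hcomm hb haC
  have h2' := sq_mem_center hCidx hcomm hb
  rw [pow_two] at h2'
  rcases hcenter _ h1 with hA | hB
  · -- b inverts a
    have hAinv : b * a * b⁻¹ = a⁻¹ := eq_inv_of_mul_eq_one_left hA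
    rcases hcenter _ h2' with hbb | hbb
    · -- dihedral
      left
      refine ⟨k, ?_⟩
      have : NeZero (2 ^ (k + 2)) := ⟨by positivity⟩
      exact Cfsg.Agent.Lib.Helper15.dihedral_of_card (2 ^ (k + 2)) b a hoa' hbb hAinv hbz hcardS
    · -- quaternion
      right; right
      have hinv2 : ∀ x : S, x ^ 2 = 1 → x = 1 ∨ x = z := by
        intro x hx
        rw [pow_two] at hx
        by_cases hxC : x ∈ C
        · by_cases hx1 : x = 1
          · exact Or.inl hx1
          · right
            rw [hza]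
            exact eq_pow_of_mem_zpowers_of_sq a x M hoa (hCa ▸ hxC) hx hx1
        · exfalso
          obtain ⟨c', hc', hx' | hx'⟩ := exists_eq_or_eq_mul hCidx hb x
          · exact hxC (hx' ▸ hc')
          · have hcc : b * c' * b⁻¹ = c'⁻¹ := conj_of_mem_zpowers a b hAinv c' (hCa ▸ hc')
            have : x * x = z := by
              calc x * x = (b * c' * b⁻¹) * (b * b) * c' := by rw [hx']; group
                _ = z := by rw [hcc, hbb, mul_assoc, (hzcomm c').eq, inv_mul_cancel_left]
            rw [this] at hx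
            exact hz1' hx
      have hu : Cfsg.Agent.Lib.Helper10.UniqueOrderP 2 S := by
        intro x y hx hx1 hy
        have hxz : x = z := (hinv2 x hx).resolve_left hx1
        rcases hinv2 y hy with h | h
        · rw [h]; exact Subgroup.one_mem _
        · rw [h, hxz]; exact Subgroup.mem_zpowers z
      rcases Cfsg.Agent.Lib.Helper10.isCyclic_or_quaternion_of_uniqueOrderP h2 hu with hcyc | ⟨-, j, ⟨e⟩⟩
      · exfalso
        exact hncomm hcyc.isMulCommutative
      · have hj : j = k + 1 := by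
          have h3 := Nat.card_congr e.toEquiv
          have : NeZero (2 ^ j) := ⟨by positivity⟩
          rw [Nat.card_eq_fintype_card (α := QuaternionGroup (2 ^ j)), QuaternionGroup.card, hn] at h3
          have h4 : (2 : ℕ) ^ (3 + k) = 2 ^ (j + 2) := by rw [h3]; ring
          have := Nat.pow_right_injective (le_refl 2) h4
          omega
        subst hj
        exact ⟨k, ⟨e⟩⟩
  · -- b a b⁻¹ = a^(M-1)
    right; left
    have hconj : b * a * b⁻¹ = a ^ (M - 1) := by
      have h3 : b * a * b⁻¹ = z * a⁻¹ := by rw [← hB]; group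
      rw [h3, hza, ← pow_sub_one_mul hMpos.ne' a, mul_inv_cancel_right]
    rcases hcenter _ h2' with hbb | hbb
    · exact SD b hb hconj hbb
    · apply SD (b * a)
      · intro h
        apply hb
        have := C.mul_mem h (C.inv_mem haC)
        rwa [mul_inv_cancel_right] at this
      · rw [← hconj]; group
      · calc b * a * (b * a) = (b * a * b⁻¹) * (b * b) * a := by group
          _ = 1 := by
            rw [hconj, hbb, hza, ← pow_add, ← pow_succ]
            have : M - 1 + M + 1 = 2 * M := by omega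
            rw [this, ha2M]

end Cfsg.Agent.S4399
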