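import Mathlib
import Cfsg.Statements.S4398
import Cfsg.Agent.S4399
import Cfsg.Agent.Lib.Helper16.SectRank
import Cfsg.Agent.Lib.Helper1.Extraspecial
import Cfsg.Agent.Lib.Helper1.Frattini
import Cfsg.Agent.Lib.Helper2.PGroupAbelianBound
import Cfsg.Agent.Lib.Helper12.QuatFpf

set_option autoImplicit false
open Cfsg
open Cfsg.Agent.Lib.Helper16.SectRank
open scoped commutatorElement

namespace Cfsg.Agent.S4398

universe u

theorem four_le_index_commutator {T : Type*} [Group T] [Finite T] (h2 : IsPGroup 2 T)
    (hT : ¬ IsMulCommutative T) : 4 ≤ (commutator T).index := by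
  haveI : Fact (Nat.Prime 2) := ⟨Nat.prime_two⟩
  exact four_le_index_of_le_frattini h2 hT (commutator T)
    (Cfsg.Agent.Lib.Helper1.IsPGroup.commutator_le_frattini h2)

theorem sq_eq_one_of_card_four {A : Type*} [Group A] (h4 : Nat.card A = 4) (hnc : ¬ IsCyclic A)
    (x : A) : x ^ 2 = 1 := by
  haveI : Finite A := Nat.finite_of_card_ne_zero (by rw [h4]; norm_num)
  have h1 : orderOf x ∣ 4 := h4 ▸ orderOf_dvd_natCard x
  have h2 : orderOf x ≠ 4 := fun h => hnc (isCyclic_of_orderOf_eq_card x (by rw [h, h4]))
  have h3 : orderOf x ∣ 2 := by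
    have hmem : orderOf x ∈ Nat.divisors 4 := Nat.mem_divisors.mpr ⟨h1, by norm_num⟩
    have hd : Nat.divisors 4 = {1, 2, 4} := by decide
    rw [hd] at hmem
    simp only [Finset.mem_insert, Finset.mem_singleton] at hmem
    rcases hmem with h | h | h
    · rw [h]; norm_num
    · rw [h]
    · exact absurd h h2
  exact orderOf_dvd_iff_pow_eq_one.mp h3

theorem sq_mem_commutator {M : Type*} [Group M] [Finite M] (h2 : IsPGroup 2 M)
    (hM : ¬ IsMulCommutative M) (hi : (commutator M).index = 4) (x : M) :
    x ^ 2 ∈ commutator M := by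
  haveI : Fact (Nat.Prime 2) := ⟨Nat.prime_two⟩
  have hle : commutator M ≤ frattini M := Cfsg.Agent.Lib.Helper1.IsPGroup.commutator_le_frattini h2
  have hnc : ¬ IsCyclic (M ⧸ commutator M) := fun hc =>
    hM (Cfsg.Agent.Lib.Helper12.QuatFpf.isMulCommutative_of_isCyclic_quotient (commutator M) hle hc)
  have h4 : Nat.card (M ⧸ commutator M) = 4 := by rw [← Subgroup.index_eq_card]; exact hi
  have := sq_eq_one_of_card_four h4 hnc (QuotientGroup.mk x)
  rw [← QuotientGroup.mk_pow, QuotientGroup.eq_one_iff] at this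
  exact this

/-- the order 16 case -/
theorem ord16 {Q : Type*} [Group Q] [Finite Q] (h2 : IsPGroup 2 Q) (hr : SectionalPRankLE 2 2 Q)
    (hQ : Nat.card Q = 16) (hK : Nat.card (commutator Q) = 2)
    (D : Subgroup Q) (hD : D.index = 2) (hnc : ∃ a ∈ D, ∃ b ∈ D, a * b ≠ b * a)
    (hsq : ∀ d ∈ D, d ^ 2 ∈ commutator Q) : False := by
  haveI : Fact (Nat.Prime 2) := ⟨Nat.prime_two⟩
  have hKc : commutator Q ≤ Subgroup.center Q :=
    Cfsg.Agent.Lib.Helper1.le_center_of_normal_of_card_prime h2 (commutator Q) hK
  have hcomK : ∀ x y : Q, x * y * x⁻¹ * y⁻¹ ∈ commutator Q := by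
    intro x y
    rw [← commutatorElement_def]
    exact Subgroup.commutator_mem_commutator (Subgroup.mem_top x) (Subgroup.mem_top y)
  have hK2 : ∀ c ∈ commutator Q, c * c = 1 := by
    intro c hc
    have h := pow_card_eq_one' (G := ↥(commutator Q)) (x := ⟨c, hc⟩)
    rw [hK] at h
    have := congrArg Subtype.val h
    simpa [pow_two] using this
  have hsqc : ∀ x : Q, x ^ 2 ∈ Subgroup.center Q := by
    intro x
    rw [Subgroup.mem_center_iff]
    intro y
    obtain ⟨c, hc⟩ : ∃ c, c = x * y * x⁻¹ * y⁻¹ := ⟨_, rfl⟩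
    have hcK : c ∈ commutator Q := hc ▸ hcomK x y
    have hcz : ∀ g, g * c = c * g := Subgroup.mem_center_iff.mp (hKc hcK)
    have hc2 := hK2 c hcK
    have e1 : x * y = c * (y * x) := by rw [hc]; group
    symm
    rw [pow_two]
    calc x * x * y = x * (x * y) := by group
      _ = x * (c * (y * x)) := by rw [e1]
      _ = (x * c) * y * x := by group
      _ = (c * x) * y * x := by rw [hcz x]
      _ = c * (x * y) * x := by group
      _ = c * (c * (y * x)) * x := by rw [e1]
      _ = (c * c) * y * (x * x) := by group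
      _ = y * (x * x) := by rw [hc2, one_mul]
  have hEAZ : EA 2 (⊤ : Subgroup Q) (Subgroup.center Q) := by
    refine ⟨le_top, ?_, fun b _ => hsqc b, fun a _ b _ => hKc (hcomK a b)⟩
    intro b _ n hn
    exact (inferInstance : (Subgroup.center Q).Normal).conj_mem n hn b
  have hZ4 : 4 ≤ Nat.card (Subgroup.center Q) := by
    have := card_le_of_EA hr hEAZ
    rw [Subgroup.card_top, hQ] at this
    norm_num at this
    omega
  have hD8 : Nat.card D = 8 := by
    have := Subgroup.card_mul_index D
    rw [hD, hQ] at this; omega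
  haveI hDn : D.Normal := Subgroup.normal_of_index_eq_two hD
  have hKD : commutator Q ≤ D := by
    rw [← Subgroup.Normal.quotient_commutative_iff_commutator_le]
    have hcard : Nat.card (Q ⧸ D) = 2 := by rw [← Subgroup.index_eq_card]; exact hD
    haveI : IsCyclic (Q ⧸ D) := isCyclic_of_prime_card hcard
    exact IsCyclic.isMulCommutative
  have hcent : ∀ Y : Subgroup Q, Y ≤ D → Y ≤ Subgroup.center Q → Nat.card Y ≤ 2 := by
    intro Y hYD hYZ
    by_contra hlt
    push Not at hlt
    obtain ⟨a, ha, b, hb, hab⟩ := hnc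
    apply hab
    haveI hYn : (Y.subgroupOf D).Normal := by
      constructor
      intro n hn g
      rw [Subgroup.mem_subgroupOf] at hn ⊢
      have h1 := Subgroup.mem_center_iff.mp (hYZ hn) (g : Q)
      have e : ((g * n * g⁻¹ : ↥D) : Q) = (n : Q) := by
        push_cast
        rw [h1]; group
      rw [e]; exact hn
    have hker : (QuotientGroup.mk' (Y.subgroupOf D)).ker ≤ Subgroup.center ↥D := by
      rw [QuotientGroup.ker_mk']
      intro n hn
      rw [Subgroup.mem_subgroupOf] at hn
      rw [Subgroup.mem_center_iff]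
      intro g
      apply Subtype.ext
      exact Subgroup.mem_center_iff.mp (hYZ hn) (g : Q)
    have hcardq : Nat.card (↥D ⧸ Y.subgroupOf D) ≤ 2 := by
      have h1 := Subgroup.card_eq_card_quotient_mul_card_subgroup (Y.subgroupOf D)
      have h2' : Nat.card (Y.subgroupOf D) = Nat.card Y :=
        Nat.card_congr (Subgroup.subgroupOfEquivOfLe hYD).toEquiv
      rw [hD8, h2'] at h1
      by_contra hq
      push Not at hq
      nlinarith
    haveI : IsCyclic (↥D ⧸ Y.subgroupOf D) := by
      have hpos : 0 < Nat.card (↥D ⧸ Y.subgroupOf D) := Nat.card_pos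
      rcases Nat.lt_or_ge (Nat.card (↥D ⧸ Y.subgroupOf D)) 2 with h | h
      · have h1 : Nat.card (↥D ⧸ Y.subgroupOf D) = 1 := by omega
        haveI : Subsingleton (↥D ⧸ Y.subgroupOf D) := (Nat.card_eq_one_iff_unique.mp h1).1
        exact isCyclic_of_subsingleton
      · have h1 : Nat.card (↥D ⧸ Y.subgroupOf D) = 2 := by omega
        exact isCyclic_of_prime_card h1
    have := commutative_of_cyclic_center_quotient (QuotientGroup.mk' (Y.subgroupOf D)) hker
      ⟨a, ha⟩ ⟨b, hb⟩
    exact congrArg Subtype.val this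
  have hZD : Nat.card ↥(Subgroup.center Q ⊓ D) ≤ 2 := hcent _ inf_le_right inf_le_left
  have hKZD : commutator Q = Subgroup.center Q ⊓ D :=
    Subgroup.eq_of_le_of_card_ge (le_inf hKc hKD) (by rw [hK]; exact hZD)
  have hZnD : ¬ Subgroup.center Q ≤ D := by
    intro h
    have := hcent _ h le_rfl
    omega
  obtain ⟨c, hcZ, hcD⟩ := SetLike.not_le_iff_exists.mp hZnD
  have hc2K : c ^ 2 ∈ commutator Q := by
    rw [hKZD]
    exact ⟨Subgroup.pow_mem _ hcZ 2, Subgroup.sq_mem_of_index_two hD c⟩
  have hallsq : ∀ t : Q, t ^ 2 ∈ commutator Q := by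
    intro t
    by_cases ht : t ∈ D
    · exact hsq t ht
    · have hd : t * c⁻¹ ∈ D := by
        rw [Subgroup.mul_mem_iff_of_index_two hD]
        constructor
        · intro h; exact absurd h ht
        · intro h; exact absurd (by simpa using h) hcD
      have hcz : ∀ g, g * c = c * g := Subgroup.mem_center_iff.mp hcZ
      have e : t ^ 2 = (t * c⁻¹) ^ 2 * c ^ 2 := by
        have h2' : t * c = c * t := hcz t
        rw [pow_two, pow_two, pow_two]
        calc t * t = t * c⁻¹ * (c * t) := by group
          _ = t * c⁻¹ * (t * c) := by rw [h2']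
          _ = (t * c⁻¹) * (t * c⁻¹) * (c * c) := by group
      rw [e]
      exact mul_mem (hsq _ hd) hc2K
  have hEAK : EA 2 (⊤ : Subgroup Q) (commutator Q) := by
    refine ⟨le_top, ?_, fun b _ => hallsq b, fun a _ b _ => hcomK a b⟩
    intro b _ n hn
    exact (inferInstance : (commutator Q).Normal).conj_mem n hn b
  have := card_le_of_EA hr hEAK
  rw [Subgroup.card_top, hQ, hK] at this
  norm_num at this

/-- going up one step -/
theorem step {T : Type*} [Group T] [Finite T] (h2 : IsPGroup 2 T) (hr : SectionalPRankLE 2 2 T)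
    (M : Subgroup T) (hM : M.index = 2) (hMnc : ¬ IsMulCommutative ↥M)
    (hMi : (commutator ↥M).index = 4) : (commutator T).index = 4 := by
  haveI : Fact (Nat.Prime 2) := ⟨Nat.prime_two⟩
  haveI hMn : M.Normal := Subgroup.normal_of_index_eq_two hM
  obtain ⟨K, hKdef⟩ : ∃ K : Subgroup T, K = (commutator ↥M).map M.subtype := ⟨_, rfl⟩
  haveI hKn : K.Normal := by rw [hKdef]; exact ConjAct.normal_of_characteristic_of_normal
  have hKM : K ≤ M := by rw [hKdef]; exact Subgroup.map_subtype_le _
  have hKle : K ≤ commutator T := by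
    rw [hKdef, Subgroup.map_subtype_commutator, commutator_def]
    exact Subgroup.commutator_mono le_top le_top
  have hKidx : K.index = 8 := by rw [hKdef, Subgroup.index_map_subtype, hMi, hM]
  have hTnc : ¬ IsMulCommutative T := by
    intro h
    apply hMnc
    rw [isMulCommutative_iff]
    intro a b
    apply Subtype.ext
    exact (isMulCommutative_iff.mp h) a.1 b.1
  have h4le := four_le_index_commutator h2 hTnc
  have hdvd : (commutator T).index ∣ 8 := hKidx ▸ Subgroup.index_dvd_of_le hKle
  by_contra hne
  have h8 : (commutator T).index = 8 := by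
    have hmem : (commutator T).index ∈ Nat.divisors 8 := Nat.mem_divisors.mpr ⟨hdvd, by norm_num⟩
    have hd : Nat.divisors 8 = {1, 2, 4, 8} := by decide
    rw [hd] at hmem
    simp only [Finset.mem_insert, Finset.mem_singleton] at hmem
    omega
  have hKeq : K = commutator T := by
    apply Subgroup.eq_of_le_of_card_ge hKle
    have h1 := Subgroup.card_mul_index K
    have h2' := Subgroup.card_mul_index (commutator T)
    rw [hKidx] at h1; rw [h8] at h2'
    omega
  have hKne : K ≠ ⊥ := by
    intro h
    apply hMnc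
    rw [← commutator_eq_bot_iff]
    have h1 : (commutator ↥M).map M.subtype = ⊥ := by rw [← hKdef, h]
    exact (Subgroup.map_eq_bot_iff_of_injective _ M.subtype_injective).mp h1
  obtain ⟨k, hk⟩ := IsPGroup.iff_card.mp (h2.to_subgroup K)
  obtain ⟨a, rfl⟩ : ∃ a, k = a + 1 := by
    rcases k with _ | a
    · exfalso; apply hKne
      rw [pow_zero] at hk
      exact Subgroup.eq_bot_of_card_eq K hk
    · exact ⟨a, rfl⟩
  obtain ⟨N, hNn, hNK, hNc⟩ := Cfsg.Agent.Lib.Helper2.exists_normal_le_card_pow h2 K a hk
  haveI := hNn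
  have hπs : Function.Surjective (QuotientGroup.mk' N) := QuotientGroup.mk'_surjective N
  have hQr : SectionalPRankLE 2 2 (T ⧸ N) := sectionalPRankLE_of_surjective hr _ hπs
  have hpos : 0 < 2 ^ a := by positivity
  have hpow : 2 ^ (a + 1) = 2 * 2 ^ a := by ring
  have hTcard : Nat.card T = 16 * 2 ^ a := by
    have := Subgroup.card_mul_index K
    rw [hKidx, hk, hpow] at this; omega
  have hQcard : Nat.card (T ⧸ N) = 16 := by
    have h1 := Subgroup.card_eq_card_quotient_mul_card_subgroup N
    rw [hTcard, hNc] at h1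
    exact (Nat.eq_of_mul_eq_mul_right hpos h1).symm
  have hQcomm : commutator (T ⧸ N) = K.map (QuotientGroup.mk' N) := by
    rw [hKeq, commutator_def, commutator_def, Subgroup.map_commutator,
      Subgroup.map_top_of_surjective _ hπs]
  have hQK : Nat.card (commutator (T ⧸ N)) = 2 := by
    rw [hQcomm]
    have h1 := card_comap_of_surjective (QuotientGroup.mk' N) hπs (K.map (QuotientGroup.mk' N))
    rw [Subgroup.comap_map_eq, QuotientGroup.ker_mk', sup_eq_left.mpr hNK, hk, hNc, hpow] at h1
    exact (Nat.eq_of_mul_eq_mul_right hpos h1).symm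
  have hNM : N ≤ M := hNK.trans hKM
  have hDidx : (M.map (QuotientGroup.mk' N)).index = 2 := by
    rw [Subgroup.index_map_eq _ hπs (by rw [QuotientGroup.ker_mk']; exact hNM), hM]
  have hnc : ∃ x ∈ M.map (QuotientGroup.mk' N), ∃ y ∈ M.map (QuotientGroup.mk' N),
      x * y ≠ y * x := by
    by_contra hall
    push Not at hall
    have hKN : K ≤ N := by
      rw [hKdef, Subgroup.map_subtype_commutator, Subgroup.commutator_le]
      intro x hx y hy
      have h1 := hall _ ⟨x, hx, rfl⟩ _ ⟨y, hy, rfl⟩
      rw [commutatorElement_def, ← QuotientGroup.eq_one_iff]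
      have e : ((x * y * x⁻¹ * y⁻¹ : T) : T ⧸ N) =
          (QuotientGroup.mk' N x) * (QuotientGroup.mk' N y) * (QuotientGroup.mk' N x)⁻¹ *
            (QuotientGroup.mk' N y)⁻¹ := by simp
      rw [e, h1]; group
    have := Subgroup.card_le_of_le hKN
    rw [hk, hNc, hpow] at this
    omega
  have hsq : ∀ d ∈ M.map (QuotientGroup.mk' N), d ^ 2 ∈ commutator (T ⧸ N) := by
    rintro _ ⟨m, hm, rfl⟩
    rw [hQcomm, ← map_pow]
    apply Subgroup.mem_map_of_mem
    rw [hKdef]
    have := sq_mem_commutator (h2.to_subgroup M) hMnc hMi ⟨m, hm⟩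
    exact ⟨_, this, rfl⟩
  exact ord16 (h2.to_quotient N) hQr hQcard hQK _ hDidx hnc hsq

theorem index_commutator_eq_four : ∀ n : ℕ, ∀ (T : Type u) [Group T] [Finite T],
    Nat.card T = n → IsPGroup 2 T → SectionalPRankLE 2 2 T →
    (∃ D : Subgroup T, ¬ IsMulCommutative ↥D ∧ Nat.card D = 8) → (commutator T).index = 4 := by
  intro n
  induction n using Nat.strong_induction_on with
  | _ n ih =>
    intro T _ _ hn h2 hr hD
    obtain ⟨D, hDnc, hD8⟩ := hD
    haveI : Fact (Nat.Prime 2) := ⟨Nat.prime_two⟩
    rcases eq_top_or_exists_le_coatom D with hDtop | ⟨M, hMco, hDM⟩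
    · have hT8 : Nat.card T = 8 := by rw [← hD8, hDtop, Subgroup.card_top]
      have hTnc : ¬ IsMulCommutative T := by
        intro h
        apply hDnc
        rw [isMulCommutative_iff]
        intro a b
        apply Subtype.ext
        exact (isMulCommutative_iff.mp h) a.1 b.1
      have h4 := four_le_index_commutator h2 hTnc
      have hne : commutator T ≠ ⊥ := fun h => hTnc ((commutator_eq_bot_iff T).mp h)
      have h1 := Subgroup.card_mul_index (commutator T)
      rw [hT8] at h1
      have h2c : 2 ≤ Nat.card (commutator T) := by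
        have hpos : 0 < Nat.card (commutator T) := Nat.card_pos
        have : Nat.card (commutator T) ≠ 1 := fun h => hne (Subgroup.eq_bot_of_card_eq _ h)
        omega
      have : (commutator T).index ≤ 4 := by
        by_contra h
        push Not at h
        nlinarith
      omega
    · have hMidx : M.index = 2 := Cfsg.Agent.Lib.Helper1.IsPGroup.index_of_isCoatom h2 hMco
      have hMcard : Nat.card M < n := by
        have := Subgroup.card_mul_index M
        rw [hMidx, hn] at this
        have hpos : 0 < Nat.card M := Nat.card_pos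
        omega
      have hMnc : ¬ IsMulCommutative ↥M := by
        intro h
        apply hDnc
        rw [isMulCommutative_iff]
        intro a b
        apply Subtype.ext
        have h3 := (isMulCommutative_iff.mp h) ⟨a.1, hDM a.2⟩ ⟨b.1, hDM b.2⟩
        have h4 := congrArg Subtype.val h3
        exact h4
      have e := Subgroup.subgroupOfEquivOfLe hDM
      have hD'nc : ¬ IsMulCommutative ↥(D.subgroupOf M) := by
        intro h
        apply hDnc
        rw [isMulCommutative_iff]
        intro a b
        have h1 := (isMulCommutative_iff.mp h) (e.symm a) (e.symm b)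
        have h2' := congrArg e h1
        simpa using h2'
      have hD'8 : Nat.card ↥(D.subgroupOf M) = 8 := by rw [Nat.card_congr e.toEquiv, hD8]
      have ihM := ih (Nat.card M) hMcard ↥M rfl (h2.to_subgroup M)
        (sectionalPRankLE_subgroup hr M) ⟨D.subgroupOf M, hD'nc, hD'8⟩
      exact step h2 hr M hMidx hMnc ihM

/-- Let S be a finite 2-group of sectional 2-rank at most 2 that contains a subgroup isomorphic to the dihedral group of order 8 or to the quaternion group of order 8. Then S is dihedral of order at least 8, semidihedral of order at least 16 (order 2^(k+4) with an element a of order 2^(k+3) and an involution b with b a b⁻¹ = a^(2^(k+2)−1)), or generalized quaternion of order at least 8. -/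
theorem result {S : Type*} [Group S] [Finite S] (h2 : IsPGroup 2 S) (hr : Cfsg.SectionalPRankLE 2 2 S)
    (hsub : ∃ H : Subgroup S, Nonempty (↥H ≃* DihedralGroup 4) ∨ Nonempty (↥H ≃* QuaternionGroup 2)) :
    ((∃ k : ℕ, Nonempty (S ≃* DihedralGroup (2 ^ (k + 2)))) ∨
      (∃ k : ℕ, Nat.card S = 2 ^ (k + 4) ∧ ∃ a b : S, orderOf a = 2 ^ (k + 3) ∧ orderOf b = 2 ∧ b * a * b⁻¹ = a ^ (2 ^ (k + 2) - 1)) ∨
      (∃ k : ℕ, Nonempty (S ≃* QuaternionGroup (2 ^ (k + 1))))) := by
  haveI : Fact (Nat.Prime 2) := ⟨Nat.prime_two⟩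
  obtain ⟨H, hH⟩ := hsub
  have hHD : ¬ IsMulCommutative ↥H ∧ Nat.card H = 8 := by
    rcases hH with hH | hH
    · obtain ⟨e⟩ := hH
      constructor
      · intro h
        have h1 := (isMulCommutative_iff.mp h) (e.symm (DihedralGroup.r 1))
          (e.symm (DihedralGroup.sr 0))
        have h2' := congrArg e h1
        simp only [map_mul, MulEquiv.apply_symm_apply] at h2'
        revert h2'; decide
      · rw [Nat.card_congr e.toEquiv, DihedralGroup.nat_card]
    · obtain ⟨e⟩ := hH
      constructor
      · intro h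
        have h1 := (isMulCommutative_iff.mp h) (e.symm (QuaternionGroup.a 1))
          (e.symm (QuaternionGroup.xa 0))
        have h2' := congrArg e h1
        simp only [map_mul, MulEquiv.apply_symm_apply] at h2'
        revert h2'; decide
      · rw [Nat.card_congr e.toEquiv, Nat.card_eq_fintype_card, QuaternionGroup.card]
  have hidx := index_commutator_eq_four (Nat.card S) S rfl h2 hr ⟨H, hHD.1, hHD.2⟩
  have hSnc : ¬ IsMulCommutative S := by
    intro h
    apply hHD.1
    rw [isMulCommutative_iff]
    intro a b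
    apply Subtype.ext
    exact (isMulCommutative_iff.mp h) a.1 b.1
  have hab' : Nat.card (S ⧸ commutator S) = 4 := by
    rw [← Subgroup.index_eq_card]; exact hidx
  have hab : Nat.card (Abelianization S) = 4 := hab'
  have hnc : ¬ IsCyclic (S ⧸ commutator S) := fun hc =>
    hSnc (Cfsg.Agent.Lib.Helper12.QuatFpf.isMulCommutative_of_isCyclic_quotient (commutator S)
      (Cfsg.Agent.Lib.Helper1.IsPGroup.commutator_le_frattini h2) hc)
  have hexp : ∀ x : Abelianization S, x ^ 2 = 1 := fun x =>
    sq_eq_one_of_card_four (A := S ⧸ commutator S) hab' hnc x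
  rcases Cfsg.Agent.S4399.result h2 hab hexp with h4 | h
  · exfalso
    have := Subgroup.card_le_card_group (H := H)
    rw [hHD.2, h4] at this
    omega
  · exact h

end Cfsg.Agent.S4398
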