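import Mathlib
import Cfsg.Statements.S4400
import Cfsg.Agent.Lib.Helper1.Nilpotent
import Cfsg.Agent.Lib.Helper1.Extraspecial
import Cfsg.Agent.Lib.Helper1.Frattini
import Cfsg.Agent.Lib.Helper12.QuatFpf

set_option autoImplicit false
open Cfsg
open Pointwise
open scoped commutatorElement

namespace Cfsg.Agent.S4400

/-- order of a join of two subgroups with trivial intersection, one of them normal -/
theorem card_sup_of_disjoint {S : Type*} [Group S] [Finite S] (A B : Subgroup S) [B.Normal]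
    (h : A ⊓ B = ⊥) : Nat.card ↥(A ⊔ B) = Nat.card A * Nat.card B := by
  have h1 := Subgroup.relIndex_mul_relIndex _ _ _ (bot_le : (⊥ : Subgroup S) ≤ B) (le_sup_right : B ≤ A ⊔ B)
  rw [Subgroup.relIndex_bot_left, Subgroup.relIndex_bot_left, Subgroup.relIndex_sup_right,
    ← Subgroup.inf_relIndex_right, inf_comm, h, Subgroup.relIndex_bot_left] at h1
  rw [← h1, mul_comm]

/-- the Frattini quotient of a non-commutative 2-group has order at least 4 -/
theorem four_le_index_frattini {P : Type*} [Group P] [Finite P] (h2 : IsPGroup 2 P)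
    (hP : ¬ IsMulCommutative P) : 4 ≤ (frattini P).index := by
  have : Fact (Nat.Prime 2) := ⟨Nat.prime_two⟩
  have hq : IsPGroup 2 (P ⧸ frattini P) := h2.to_quotient (frattini P)
  obtain ⟨k, hk⟩ := IsPGroup.iff_card.mp hq
  have hnc : ¬ IsCyclic (P ⧸ frattini P) := fun hc =>
    hP (Cfsg.Agent.Lib.Helper12.QuatFpf.isMulCommutative_of_isCyclic_quotient (frattini P) le_rfl hc)
  rw [Subgroup.index_eq_card, hk]
  rcases k with _ | _ | k
  · exfalso; apply hnc
    rw [pow_zero] at hk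
    have : Subsingleton (P ⧸ frattini P) := (Nat.card_eq_one_iff_unique.mp hk).1
    exact isCyclic_of_subsingleton
  · exfalso; apply hnc
    rw [zero_add, pow_one] at hk
    exact isCyclic_of_prime_card hk
  · have : 2 ^ (k + 1 + 1) = 4 * 2 ^ k := by ring
    rw [this]
    have := Nat.one_le_two_pow (n := k)
    omega

/-- A central extension of `P × Q` by a further element gives a section of rank 5. -/
theorem rank_contra {S : Type*} [Group S] [Finite S] (h2 : IsPGroup 2 S)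
    (P Q : Subgroup S) [P.Normal] [Q.Normal]
    (hP : ¬ IsMulCommutative ↥P) (hQ : ¬ IsMulCommutative ↥Q)
    (hcomm : ∀ a ∈ P, ∀ b ∈ Q, a * b = b * a) (hdisj : P ⊓ Q = ⊥)
    (x : S) (hxP : ∀ a ∈ P, a * x = x * a) (hxQ : ∀ b ∈ Q, b * x = x * b)
    (hxK : x ∉ P ⊔ Q)
    (hx2 : x ^ 2 ∈ (frattini ↥P).map P.subtype ⊔ (frattini ↥Q).map Q.subtype) :
    ¬ Cfsg.SectionalPRankLE 2 4 S := by
  classical
  intro hr
  have : Fact (Nat.Prime 2) := ⟨Nat.prime_two⟩
  obtain ⟨ΦP, hΦP⟩ : ∃ X : Subgroup S, X = (frattini ↥P).map P.subtype := ⟨_, rfl⟩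
  obtain ⟨ΦQ, hΦQ⟩ : ∃ X : Subgroup S, X = (frattini ↥Q).map Q.subtype := ⟨_, rfl⟩
  rw [← hΦP, ← hΦQ] at hx2
  have hΦPn : ΦP.Normal := by rw [hΦP]; infer_instance
  have hΦQn : ΦQ.Normal := by rw [hΦQ]; infer_instance
  have hΦPle : ΦP ≤ P := by rw [hΦP]; exact Subgroup.map_subtype_le _
  have hΦQle : ΦQ ≤ Q := by rw [hΦQ]; exact Subgroup.map_subtype_le _
  have hNn : (ΦP ⊔ ΦQ).Normal := inferInstance
  have hNK : ΦP ⊔ ΦQ ≤ P ⊔ Q := sup_le_sup hΦPle hΦQle
  have hKH : P ⊔ Q ≤ P ⊔ Q ⊔ Subgroup.zpowers x := le_sup_left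
  have hNH : ΦP ⊔ ΦQ ≤ P ⊔ Q ⊔ Subgroup.zpowers x := hNK.trans hKH
  -- squares
  have hsqP : ∀ a ∈ P, a ^ 2 ∈ ΦP := by
    intro a ha
    have h1 := Cfsg.Agent.Lib.Helper1.IsPGroup.pow_mem_frattini (h2.to_subgroup P) (⟨a, ha⟩ : ↥P)
    rw [hΦP]
    exact ⟨_, h1, rfl⟩
  have hsqQ : ∀ b ∈ Q, b ^ 2 ∈ ΦQ := by
    intro b hb
    have h1 := Cfsg.Agent.Lib.Helper1.IsPGroup.pow_mem_frattini (h2.to_subgroup Q) (⟨b, hb⟩ : ↥Q)
    rw [hΦQ]
    exact ⟨_, h1, rfl⟩
  have hsq : ∀ h ∈ P ⊔ Q ⊔ Subgroup.zpowers x, h ^ 2 ∈ ΦP ⊔ ΦQ := by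
    intro h hh
    have h1 : h ∈ ((P ⊔ Q : Subgroup S) : Set S) * (Subgroup.zpowers x : Set S) := by
      rw [← Subgroup.normal_mul]; exact hh
    obtain ⟨c, hc, y, hy, rfl⟩ := Set.mem_mul.mp h1
    have h2' : c ∈ (P : Set S) * (Q : Set S) := by
      rw [← Subgroup.normal_mul]; exact hc
    obtain ⟨a, ha, b, hb, rfl⟩ := Set.mem_mul.mp h2'
    obtain ⟨i, rfl⟩ := Subgroup.mem_zpowers_iff.mp hy
    have hab : Commute a b := hcomm a ha b hb
    have hax : Commute a x := hxP a ha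
    have hbx : Commute b x := hxQ b hb
    have haby : Commute (a * b) (x ^ i) := (hax.mul_left hbx).zpow_right i
    rw [haby.mul_pow, hab.mul_pow]
    have e : (x ^ i) ^ 2 = (x ^ 2) ^ i := by
      rw [← zpow_natCast, ← zpow_mul, mul_comm, zpow_mul, zpow_natCast]
    rw [e]
    exact Subgroup.mul_mem _ (Subgroup.mul_mem _ (Subgroup.mem_sup_left (hsqP a ha))
      (Subgroup.mem_sup_right (hsqQ b hb))) (Subgroup.zpow_mem _ hx2 i)
  -- the section
  have hsec := hr (P ⊔ Q ⊔ Subgroup.zpowers x) ((ΦP ⊔ ΦQ).subgroupOf (P ⊔ Q ⊔ Subgroup.zpowers x))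
  have hexp : ∀ q : ↥(P ⊔ Q ⊔ Subgroup.zpowers x) ⧸ (ΦP ⊔ ΦQ).subgroupOf (P ⊔ Q ⊔ Subgroup.zpowers x),
      q ^ 2 = 1 := by
    intro q
    obtain ⟨⟨h, hh⟩, rfl⟩ := QuotientGroup.mk_surjective q
    rw [← QuotientGroup.mk_pow, QuotientGroup.eq_one_iff, Subgroup.mem_subgroupOf]
    exact hsq h hh
  have hcm : ∀ a b : ↥(P ⊔ Q ⊔ Subgroup.zpowers x) ⧸ (ΦP ⊔ ΦQ).subgroupOf (P ⊔ Q ⊔ Subgroup.zpowers x),
      a * b = b * a := by
    intro a b
    have ha : a * a = 1 := by rw [← pow_two]; exact hexp a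
    have hb : b * b = 1 := by rw [← pow_two]; exact hexp b
    have hab : (a * b) * (a * b) = 1 := by rw [← pow_two]; exact hexp _
    calc a * b = (a * b)⁻¹ := (inv_eq_of_mul_eq_one_left hab).symm
      _ = b⁻¹ * a⁻¹ := mul_inv_rev _ _
      _ = b * a := by rw [inv_eq_of_mul_eq_one_left ha, inv_eq_of_mul_eq_one_left hb]
  have hmc : IsMulCommutative ↥(⊤ : Subgroup (↥(P ⊔ Q ⊔ Subgroup.zpowers x) ⧸
      (ΦP ⊔ ΦQ).subgroupOf (P ⊔ Q ⊔ Subgroup.zpowers x))) :=
    ⟨⟨fun a b => Subtype.ext (hcm a b)⟩⟩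
  have hle := hsec ⊤ hmc (fun a _ => hexp a)
  rw [Subgroup.card_top, ← Subgroup.index_eq_card] at hle
  have hle' : (ΦP ⊔ ΦQ).relIndex (P ⊔ Q ⊔ Subgroup.zpowers x) ≤ 2 ^ 4 := hle
  rw [← Subgroup.relIndex_mul_relIndex _ _ _ hNK hKH] at hle'
  -- index of K in H
  have h2le : 2 ≤ (P ⊔ Q).relIndex (P ⊔ Q ⊔ Subgroup.zpowers x) := by
    rw [Subgroup.relIndex_sup_left]
    have h0 : (P ⊔ Q).relIndex (Subgroup.zpowers x) ≠ 0 := by
      have := Subgroup.relIndex_dvd_card (P ⊔ Q) (Subgroup.zpowers x)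
      intro h0; rw [h0] at this
      exact (Nat.card_pos (α := ↥(Subgroup.zpowers x))).ne' (Nat.eq_zero_of_zero_dvd this)
    have h1 : (P ⊔ Q).relIndex (Subgroup.zpowers x) ≠ 1 := by
      intro h1
      exact hxK (Subgroup.relIndex_eq_one.mp h1 (Subgroup.mem_zpowers x))
    omega
  -- index of N in K
  have hcK := card_sup_of_disjoint P Q hdisj
  have hcN : Nat.card ↥(ΦP ⊔ ΦQ) = Nat.card ΦP * Nat.card ΦQ := by
    apply card_sup_of_disjoint
    rw [eq_bot_iff, ← hdisj]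
    exact inf_le_inf hΦPle hΦQle
  have hcP : Nat.card P = Nat.card ΦP * (frattini ↥P).index := by
    rw [hΦP, Subgroup.card_map_of_injective P.subtype_injective, Subgroup.card_mul_index]
  have hcQ : Nat.card Q = Nat.card ΦQ * (frattini ↥Q).index := by
    rw [hΦQ, Subgroup.card_map_of_injective Q.subtype_injective, Subgroup.card_mul_index]
  have hiP := four_le_index_frattini (h2.to_subgroup P) hP
  have hiQ := four_le_index_frattini (h2.to_subgroup Q) hQ
  have hrel := Subgroup.relIndex_mul_relIndex _ _ _ (bot_le : (⊥ : Subgroup S) ≤ ΦP ⊔ ΦQ) hNK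
  rw [Subgroup.relIndex_bot_left, Subgroup.relIndex_bot_left, hcK, hcN, hcP, hcQ] at hrel
  have hpos : 0 < Nat.card ΦP * Nat.card ΦQ := Nat.mul_pos Nat.card_pos Nat.card_pos
  have h16 : (ΦP ⊔ ΦQ).relIndex (P ⊔ Q) = (frattini ↥P).index * (frattini ↥Q).index := by
    apply Nat.eq_of_mul_eq_mul_left hpos
    rw [hrel]; ring
  rw [h16] at hle'
  have : 4 * 4 * 2 ≤ (frattini ↥P).index * (frattini ↥Q).index *
      (P ⊔ Q).relIndex (P ⊔ Q ⊔ Subgroup.zpowers x) :=
    Nat.mul_le_mul (Nat.mul_le_mul hiP hiQ) h2le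
  omega


/-- the centre of order 2 of a non-commutative 2-group lies in its Frattini subgroup -/
theorem center_le_frattini {P : Type*} [Group P] [Finite P] (h2 : IsPGroup 2 P)
    (hP : ¬ IsMulCommutative P) (hZ : Nat.card ↥(Subgroup.center P) = 2) :
    Subgroup.center P ≤ frattini P := by
  have : Fact (Nat.Prime 2) := ⟨Nat.prime_two⟩
  have hnil : Group.IsNilpotent P := h2.isNilpotent
  have hc : commutator P ≠ ⊥ := by
    intro h
    apply hP
    refine ⟨⟨fun a b => ?_⟩⟩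
    have h1 : ⁅a, b⁆ ∈ commutator P :=
      Subgroup.commutator_mem_commutator (Subgroup.mem_top a) (Subgroup.mem_top b)
    rw [h, Subgroup.mem_bot] at h1
    exact commutatorElement_eq_one_iff_mul_comm.mp h1
  have h1 := Cfsg.Agent.Lib.Helper1.inf_center_ne_bot_of_normal (commutator P) hc
  have h2' : Nat.card ↥(commutator P ⊓ Subgroup.center P) ∣ 2 := by
    rw [← hZ]; exact Subgroup.card_dvd_of_le inf_le_right
  have h3 : commutator P ⊓ Subgroup.center P = Subgroup.center P := by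
    apply Subgroup.eq_of_le_of_card_ge inf_le_right
    rcases (Nat.dvd_prime Nat.prime_two).mp h2' with h4 | h4
    · exact absurd (Subgroup.card_eq_one.mp h4) h1
    · rw [h4, hZ]
  calc Subgroup.center P = commutator P ⊓ Subgroup.center P := h3.symm
    _ ≤ commutator P := inf_le_left
    _ ≤ frattini P := Cfsg.Agent.Lib.Helper1.IsPGroup.commutator_le_frattini h2

/-- Let S be a finite 2-group of sectional 2-rank at most 4, and let P and Q be normal non-abelian subgroups of S whose centres have order 2 and are different. Then P and Q commute elementwise and intersect trivially, and PQ contains its own centralizer in S. -/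
theorem result {S : Type*} [Group S] [Finite S] (h2 : IsPGroup 2 S) (hr : Cfsg.SectionalPRankLE 2 4 S)
    (P Q : Subgroup S) [P.Normal] [Q.Normal] (hP : ¬ IsMulCommutative ↥P) (hQ : ¬ IsMulCommutative ↥Q)
    (hZP : Nat.card ↥(Subgroup.center ↥P) = 2) (hZQ : Nat.card ↥(Subgroup.center ↥Q) = 2)
    (hne : (Subgroup.center ↥P).map P.subtype ≠ (Subgroup.center ↥Q).map Q.subtype) :
    ⁅P, Q⁆ = ⊥ ∧ P ⊓ Q = ⊥ ∧ Subgroup.centralizer ((P ⊔ Q : Subgroup S) : Set S) ≤ P ⊔ Q := by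
  classical
  have : Fact (Nat.Prime 2) := ⟨Nat.prime_two⟩
  have hnil : Group.IsNilpotent S := h2.isNilpotent
  obtain ⟨ZP, hZPdef⟩ : ∃ X : Subgroup S, X = (Subgroup.center ↥P).map P.subtype := ⟨_, rfl⟩
  obtain ⟨ZQ, hZQdef⟩ : ∃ X : Subgroup S, X = (Subgroup.center ↥Q).map Q.subtype := ⟨_, rfl⟩
  rw [← hZPdef, ← hZQdef] at hne
  have hZPcard : Nat.card ZP = 2 := by
    rw [hZPdef, Subgroup.card_map_of_injective P.subtype_injective, hZP]
  have hZQcard : Nat.card ZQ = 2 := by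
    rw [hZQdef, Subgroup.card_map_of_injective Q.subtype_injective, hZQ]
  have hmemP : ∀ n ∈ P, (∀ g ∈ P, g * n = n * g) → n ∈ ZP := by
    intro n hn hc
    rw [hZPdef]
    refine Subgroup.mem_map.mpr ⟨⟨n, hn⟩, ?_, rfl⟩
    rw [Subgroup.mem_center_iff]
    intro g
    exact Subtype.ext (hc g g.2)
  have hmemQ : ∀ n ∈ Q, (∀ g ∈ Q, g * n = n * g) → n ∈ ZQ := by
    intro n hn hc
    rw [hZQdef]
    refine Subgroup.mem_map.mpr ⟨⟨n, hn⟩, ?_, rfl⟩
    rw [Subgroup.mem_center_iff]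
    intro g
    exact Subtype.ext (hc g g.2)
  have hdisj : P ⊓ Q = ⊥ := by
    by_contra hne0
    have h1 := Cfsg.Agent.Lib.Helper1.inf_center_ne_bot_of_normal (P ⊓ Q) hne0
    obtain ⟨⟨n, hn⟩, hn1⟩ := (Subgroup.ne_bot_iff_exists_ne_one).mp h1
    have hn1' : n ≠ 1 := fun h => hn1 (Subtype.ext h)
    obtain ⟨⟨hnP, hnQ⟩, hnc⟩ := hn
    have hnc' : ∀ g : S, g * n = n * g := Subgroup.mem_center_iff.mp hnc
    have hnZP := hmemP n hnP (fun g _ => hnc' g)
    have hnZQ := hmemQ n hnQ (fun g _ => hnc' g)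
    have ho : 2 ≤ orderOf n := by
      have h0 : orderOf n ≠ 0 := (orderOf_pos n).ne'
      have h1 : orderOf n ≠ 1 := fun h => hn1' (orderOf_eq_one_iff.mp h)
      omega
    have e1 : Subgroup.zpowers n = ZP := by
      apply Subgroup.eq_of_le_of_card_ge
      · rw [Subgroup.zpowers_le]; exact hnZP
      · rw [hZPcard, Nat.card_zpowers]; exact ho
    have e2 : Subgroup.zpowers n = ZQ := by
      apply Subgroup.eq_of_le_of_card_ge
      · rw [Subgroup.zpowers_le]; exact hnZQ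
      · rw [hZQcard, Nat.card_zpowers]; exact ho
    exact hne (e1.symm.trans e2)
  have hcomm0 : ⁅P, Q⁆ = ⊥ := by
    rw [eq_bot_iff, ← hdisj]; exact Subgroup.commutator_le_inf P Q
  have hcomm : ∀ a ∈ P, ∀ b ∈ Q, a * b = b * a := by
    intro a ha b hb
    have h1 := Subgroup.commutator_mem_commutator ha hb
    rw [hcomm0, Subgroup.mem_bot] at h1
    exact commutatorElement_eq_one_iff_mul_comm.mp h1
  refine ⟨hcomm0, hdisj, ?_⟩
  intro x hx
  by_contra hxK
  -- replace x by a power y with y ∉ PQ, y² ∈ PQ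
  have hex : ∃ j : ℕ, x ^ 2 ^ j ∈ P ⊔ Q := by
    obtain ⟨k, hk⟩ := h2 x
    exact ⟨k, by rw [hk]; exact Subgroup.one_mem _⟩
  have hj0 : Nat.find hex ≠ 0 := by
    intro h0
    have := Nat.find_spec hex
    rw [h0, pow_zero, pow_one] at this
    exact hxK this
  obtain ⟨m, hm⟩ := Nat.exists_eq_succ_of_ne_zero hj0
  obtain ⟨y, hy⟩ : ∃ y : S, y = x ^ 2 ^ m := ⟨_, rfl⟩
  have hyK : y ∉ P ⊔ Q := by
    rw [hy]; exact Nat.find_min hex (by rw [hm]; exact Nat.lt_succ_self m)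
  have hy2K : y ^ 2 ∈ P ⊔ Q := by
    have := Nat.find_spec hex
    rw [hm, pow_succ, pow_mul] at this
    rw [hy]; exact this
  have hyc : y ∈ Subgroup.centralizer ((P ⊔ Q : Subgroup S) : Set S) := by
    rw [hy]; exact Subgroup.pow_mem _ hx _
  have hyc' : ∀ h ∈ P ⊔ Q, h * y = y * h := Subgroup.mem_centralizer_iff.mp hyc
  have hy2c : ∀ h ∈ P ⊔ Q, h * y ^ 2 = y ^ 2 * h :=
    Subgroup.mem_centralizer_iff.mp (Subgroup.pow_mem _ hyc 2)
  have hy2 : y ^ 2 ∈ (frattini ↥P).map P.subtype ⊔ (frattini ↥Q).map Q.subtype := by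
    have h1 : y ^ 2 ∈ (P : Set S) * (Q : Set S) := by
      rw [← Subgroup.normal_mul]; exact hy2K
    obtain ⟨a, ha, b, hb, hab⟩ := Set.mem_mul.mp h1
    have haZ : a ∈ ZP := by
      apply hmemP a ha
      intro a' ha'
      have e1 := hy2c a' (Subgroup.mem_sup_left ha')
      rw [← hab] at e1
      have e2 := hcomm a' ha' b hb
      have e3 : a' * a * b = a * a' * b := by
        calc a' * a * b = a' * (a * b) := by rw [mul_assoc]
          _ = a * b * a' := e1
          _ = a * (b * a') := by rw [mul_assoc]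
          _ = a * (a' * b) := by rw [e2]
          _ = a * a' * b := by rw [mul_assoc]
      exact mul_right_cancel e3
    have hbZ : b ∈ ZQ := by
      apply hmemQ b hb
      intro b' hb'
      have e1 := hy2c b' (Subgroup.mem_sup_right hb')
      rw [← hab] at e1
      have e2 := hcomm a ha b' hb'
      have e3 : a * (b' * b) = a * (b * b') := by
        calc a * (b' * b) = (a * b') * b := by rw [mul_assoc]
          _ = (b' * a) * b := by rw [e2]
          _ = b' * (a * b) := by rw [mul_assoc]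
          _ = a * b * b' := e1
          _ = a * (b * b') := by rw [mul_assoc]
      exact mul_left_cancel e3
    have hZPΦ : ZP ≤ (frattini ↥P).map P.subtype := by
      rw [hZPdef]
      exact Subgroup.map_mono (center_le_frattini (h2.to_subgroup P) hP hZP)
    have hZQΦ : ZQ ≤ (frattini ↥Q).map Q.subtype := by
      rw [hZQdef]
      exact Subgroup.map_mono (center_le_frattini (h2.to_subgroup Q) hQ hZQ)
    rw [← hab]
    exact Subgroup.mul_mem _ (Subgroup.mem_sup_left (hZPΦ haZ)) (Subgroup.mem_sup_right (hZQΦ hbZ))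
  exact rank_contra h2 P Q hP hQ hcomm hdisj y
    (fun a ha => hyc' a (Subgroup.mem_sup_left ha)) (fun b hb => hyc' b (Subgroup.mem_sup_right hb))
    hyK hy2 hr

end Cfsg.Agent.S4400
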