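import Mathlib
import Cfsg.Statements.S4401
import Cfsg.Agent.Lib.Helper16.SectRank
import Cfsg.Agent.Lib.Helper1.Nilpotent
import Cfsg.Agent.Lib.Helper1.Frattini

set_option autoImplicit false
open Cfsg
open Cfsg.Agent.Lib.Helper16.SectRank
open scoped commutatorElement

namespace Cfsg.Agent.S4401

variable {S : Type*} [Group S]

/-- conjugate subgroup -/
def cj (b : S) (P : Subgroup S) : Subgroup S := P.map (MulAut.conj b).toMonoidHom

theorem cj_mem {b : S} {P : Subgroup S} {a : S} (ha : a ∈ P) : b * a * b⁻¹ ∈ cj b P :=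
  ⟨a, ha, by simp [MulAut.conj_apply]⟩

theorem mem_cj {b : S} {P : Subgroup S} {q : S} (hq : q ∈ cj b P) :
    ∃ a ∈ P, q = b * a * b⁻¹ := by
  obtain ⟨a, ha, rfl⟩ := hq
  exact ⟨a, ha, by simp [MulAut.conj_apply]⟩

theorem card_cj (b : S) (P : Subgroup S) : Nat.card (cj b P) = Nat.card P :=
  Subgroup.card_map_of_injective (MulAut.conj b).injective

theorem cj_mono (b : S) {P Q : Subgroup S} (h : P ≤ Q) : cj b P ≤ cj b Q := Subgroup.map_mono h

theorem nmem1 {S₀ : Subgroup S} {b s : S} (hb : b ∈ Subgroup.normalizer (S₀ : Set S))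
    (hs : s ∈ S₀) : b * s * b⁻¹ ∈ S₀ := (Subgroup.mem_normalizer_iff.mp hb s).mp hs

theorem nmem2 {S₀ : Subgroup S} {b s : S} (hb : b ∈ Subgroup.normalizer (S₀ : Set S))
    (hs : s ∈ S₀) : b⁻¹ * s * b ∈ S₀ := (Subgroup.mem_normalizer_iff''.mp hb s).mp hs

/-- `x ∈ {1, z, z₁, z z₁}` -/
def InW (z z₁ x : S) : Prop := x = 1 ∨ x = z ∨ x = z₁ ∨ x = z * z₁

/-- the situation of the statement, elementwise -/
structure Ctx [Finite S] (P S₀ : Subgroup S) (z : S) : Prop where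
  h2 : IsPGroup 2 S
  hr : SectionalPRankLE 2 4 S
  hP : ¬ (∀ a ∈ P, ∀ b ∈ P, a * b = b * a)
  hzP : z ∈ P
  hz1 : z ≠ 1
  hz2 : z * z = 1
  hzc : ∀ a ∈ P, a * z = z * a
  hZ : ∀ c ∈ P, (∀ a ∈ P, a * c = c * a) → c = 1 ∨ c = z
  hS₀ : ∀ s, s ∈ S₀ ↔ s * z = z * s
  hPn : ∀ s ∈ S₀, ∀ x ∈ P, s * x * s⁻¹ ∈ P

namespace Ctx

variable [Finite S] {P S₀ : Subgroup S} {z : S} (c : Ctx P S₀ z)
include c

theorem P_le : P ≤ S₀ := fun a ha => (c.hS₀ a).mpr (c.hzc a ha)

theorem z_mem : z ∈ S₀ := c.P_le c.hzP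

theorem conj_central {b : S} (hb : b ∈ Subgroup.normalizer (S₀ : Set S)) :
    ∀ s ∈ S₀, s * (b * z * b⁻¹) = (b * z * b⁻¹) * s := by
  intro s hs
  have h := (c.hS₀ _).mp (nmem2 hb hs)
  calc s * (b * z * b⁻¹) = b * ((b⁻¹ * s * b) * z) * b⁻¹ := by group
    _ = b * (z * (b⁻¹ * s * b)) * b⁻¹ := by rw [h]
    _ = b * z * b⁻¹ * s := by group

theorem conj_ne {b : S} (hb : b ∉ S₀) : b * z * b⁻¹ ≠ z := by
  intro h
  apply hb
  rw [c.hS₀]
  calc b * z = b * z * b⁻¹ * b := by group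
    _ = z * b := by rw [h]

theorem conj_eq_of_mem {b : S} (hb : b ∈ S₀) : b * z * b⁻¹ = z := by
  have h := (c.hS₀ b).mp hb
  rw [h]; group

theorem cj_le {b : S} (hbN : b ∈ Subgroup.normalizer (S₀ : Set S)) : cj b P ≤ S₀ := by
  intro q hq
  obtain ⟨a, ha, rfl⟩ := mem_cj hq
  exact nmem1 hbN (c.P_le ha)

theorem cj_norm {b : S} (hbN : b ∈ Subgroup.normalizer (S₀ : Set S)) :
    ∀ s ∈ S₀, ∀ q ∈ cj b P, s * q * s⁻¹ ∈ cj b P := by
  intro s hs q hq
  obtain ⟨a, ha, rfl⟩ := mem_cj hq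
  have e : s * (b * a * b⁻¹) * s⁻¹ = b * ((b⁻¹ * s * b) * a * (b⁻¹ * s * b)⁻¹) * b⁻¹ := by group
  rw [e]
  exact cj_mem (c.hPn _ (nmem2 hbN hs) a ha)

theorem cj_center (b : S) :
    ∀ q ∈ cj b P, (∀ q' ∈ cj b P, q' * q = q * q') → q = 1 ∨ q = b * z * b⁻¹ := by
  intro q hq hcen
  obtain ⟨a, ha, rfl⟩ := mem_cj hq
  have hac : ∀ a' ∈ P, a' * a = a * a' := by
    intro a' ha'
    have h := hcen (b * a' * b⁻¹) (cj_mem ha')
    have h' : b * (a' * a) * b⁻¹ = b * (a * a') * b⁻¹ := by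
      calc b * (a' * a) * b⁻¹ = b * a' * b⁻¹ * (b * a * b⁻¹) := by group
        _ = b * a * b⁻¹ * (b * a' * b⁻¹) := h
        _ = b * (a * a') * b⁻¹ := by group
    exact mul_left_cancel (mul_right_cancel h')
  rcases c.hZ a ha hac with h | h
  · left; rw [h]; group
  · right; rw [h]

theorem disj {b : S} (hbN : b ∈ Subgroup.normalizer (S₀ : Set S)) (hbz : b * z * b⁻¹ ≠ z) :
    P ⊓ cj b P = ⊥ := by
  by_contra hne
  haveI : Fact (Nat.Prime 2) := ⟨Nat.prime_two⟩
  haveI : Group.IsNilpotent ↥P := (c.h2.to_subgroup P).isNilpotent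
  have hNn : ((P ⊓ cj b P).subgroupOf P).Normal := by
    constructor
    intro n hn a
    rw [Subgroup.mem_subgroupOf] at hn ⊢
    refine ⟨(a * n * a⁻¹).2, ?_⟩
    have := c.cj_norm hbN a.1 (c.P_le a.2) n.1 hn.2
    simpa using this
  have hNne : (P ⊓ cj b P).subgroupOf P ≠ ⊥ := by
    intro h
    rw [Subgroup.subgroupOf_eq_bot] at h
    apply hne
    have := h.eq_bot
    rwa [inf_eq_left.mpr (inf_le_left : P ⊓ cj b P ≤ P)] at this
  have h3 := Cfsg.Agent.Lib.Helper1.inf_center_ne_bot_of_normal _ hNne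
  obtain ⟨⟨x, hx⟩, hx1⟩ := (Subgroup.ne_bot_iff_exists_ne_one).mp h3
  obtain ⟨hxN, hxZ⟩ := Subgroup.mem_inf.mp hx
  have hxc : ∀ a ∈ P, a * x.1 = x.1 * a := by
    intro a ha
    have := Subgroup.mem_center_iff.mp hxZ ⟨a, ha⟩
    exact congrArg Subtype.val this
  rcases c.hZ x.1 x.2 hxc with h | h
  · apply hx1
    apply Subtype.ext
    apply Subtype.ext
    simpa using h
  · rw [Subgroup.mem_subgroupOf] at hxN
    have hzQ : z ∈ cj b P := h ▸ hxN.2
    have hzcen : ∀ q' ∈ cj b P, q' * z = z * q' := fun q' hq' => (c.hS₀ q').mp (c.cj_le hbN hq')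
    rcases c.cj_center b z hzQ hzcen with h' | h'
    · exact c.hz1 h'
    · exact hbz h'.symm

theorem comm {b : S} (hbN : b ∈ Subgroup.normalizer (S₀ : Set S)) (hbz : b * z * b⁻¹ ≠ z) :
    ∀ a ∈ P, ∀ q ∈ cj b P, a * q = q * a := by
  intro a ha q hq
  have hm1 : a * q * a⁻¹ * q⁻¹ ∈ P := by
    have := c.hPn q (c.cj_le hbN hq) a⁻¹ (inv_mem ha)
    have e : a * q * a⁻¹ * q⁻¹ = a * (q * a⁻¹ * q⁻¹) := by group
    rw [e]; exact mul_mem ha this
  have hm2 : a * q * a⁻¹ * q⁻¹ ∈ cj b P :=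
    mul_mem (c.cj_norm hbN a (c.P_le ha) q hq) (inv_mem hq)
  have hm : a * q * a⁻¹ * q⁻¹ ∈ P ⊓ cj b P := ⟨hm1, hm2⟩
  rw [c.disj hbN hbz, Subgroup.mem_bot] at hm
  calc a * q = (a * q * a⁻¹ * q⁻¹) * (q * a) := by group
    _ = q * a := by rw [hm, one_mul]

theorem inW_central {g : S} (hgN : g ∈ Subgroup.normalizer (S₀ : Set S)) {w : S}
    (hw : InW z (g * z * g⁻¹) w) : ∀ s ∈ S₀, s * w = w * s := by
  intro s hs
  have h1 := (c.hS₀ s).mp hs
  have h2 := c.conj_central hgN s hs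
  rcases hw with h | h | h | h <;> rw [h]
  · simp
  · exact h1
  · exact h2
  · calc s * (z * (g * z * g⁻¹)) = (s * z) * (g * z * g⁻¹) := (mul_assoc _ _ _).symm
      _ = (z * s) * (g * z * g⁻¹) := by rw [h1]
      _ = z * (s * (g * z * g⁻¹)) := mul_assoc _ _ _
      _ = z * ((g * z * g⁻¹) * s) := by rw [h2]
      _ = z * (g * z * g⁻¹) * s := (mul_assoc _ _ _).symm

theorem inW_of_mem_sup {b : S} (hbN : b ∈ Subgroup.normalizer (S₀ : Set S))
    (hbz : b * z * b⁻¹ ≠ z) (x : S) (hx : x ∈ P ⊔ cj b P)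
    (hxP : ∀ a ∈ P, a * x = x * a) (hxQ : ∀ q ∈ cj b P, q * x = x * q) :
    InW z (b * z * b⁻¹) x := by
  have hcomm := c.comm hbN hbz
  obtain ⟨a, ha, q, hq, rfl⟩ := exists_mul_of_mem_sup hcomm hx
  have hac : ∀ a' ∈ P, a' * a = a * a' := by
    intro a' ha'
    have h1 := hxP a' ha'
    have h2 := hcomm a' ha' q hq
    have h3 : a' * a * q = a * a' * q := by
      calc a' * a * q = a' * (a * q) := mul_assoc _ _ _
        _ = a * q * a' := h1
        _ = a * (q * a') := mul_assoc _ _ _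
        _ = a * (a' * q) := by rw [h2]
        _ = a * a' * q := (mul_assoc _ _ _).symm
    exact mul_right_cancel h3
  have hqc : ∀ q' ∈ cj b P, q' * q = q * q' := by
    intro q' hq'
    have h1 := hxQ q' hq'
    have h2 := hcomm a ha q' hq'
    have h3 : a * (q' * q) = a * (q * q') := by
      calc a * (q' * q) = (a * q') * q := (mul_assoc _ _ _).symm
        _ = (q' * a) * q := by rw [h2]
        _ = q' * (a * q) := mul_assoc _ _ _
        _ = a * q * q' := h1
        _ = a * (q * q') := mul_assoc _ _ _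
    exact mul_left_cancel h3
  rcases c.hZ a ha hac with h | h <;> rcases c.cj_center b q hq hqc with h' | h' <;> rw [h, h']
  · left; simp
  · right; right; left; simp
  · right; left; simp
  · right; right; right; rfl

theorem z_mem_frattini : z ∈ (frattini ↥P).map P.subtype := by
  haveI : Fact (Nat.Prime 2) := ⟨Nat.prime_two⟩
  haveI : Group.IsNilpotent ↥P := (c.h2.to_subgroup P).isNilpotent
  have hne : commutator ↥P ≠ ⊥ := by
    intro h
    apply c.hP
    intro a ha b hb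
    have h1 : ⁅(⟨a, ha⟩ : ↥P), ⟨b, hb⟩⁆ ∈ commutator ↥P :=
      Subgroup.commutator_mem_commutator (Subgroup.mem_top _) (Subgroup.mem_top _)
    rw [h, Subgroup.mem_bot, commutatorElement_eq_one_iff_mul_comm] at h1
    exact congrArg Subtype.val h1
  have h3 := Cfsg.Agent.Lib.Helper1.inf_center_ne_bot_of_normal (commutator ↥P) hne
  obtain ⟨⟨x, hx⟩, hx1⟩ := (Subgroup.ne_bot_iff_exists_ne_one).mp h3
  obtain ⟨hxN, hxZ⟩ := Subgroup.mem_inf.mp hx
  have hxc : ∀ a ∈ P, a * x.1 = x.1 * a := by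
    intro a ha
    have := Subgroup.mem_center_iff.mp hxZ ⟨a, ha⟩
    exact congrArg Subtype.val this
  rcases c.hZ x.1 x.2 hxc with h | h
  · exfalso
    apply hx1
    apply Subtype.ext
    apply Subtype.ext
    simpa using h
  · exact ⟨x, Cfsg.Agent.Lib.Helper1.IsPGroup.commutator_le_frattini (c.h2.to_subgroup P) hxN, h⟩

theorem not_comm_P : ¬ IsMulCommutative ↥P := by
  intro h
  apply c.hP
  intro a ha b hb
  have := (isMulCommutative_iff.mp h) ⟨a, ha⟩ ⟨b, hb⟩
  exact congrArg Subtype.val this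

theorem rank_contra {b : S} (hbN : b ∈ Subgroup.normalizer (S₀ : Set S))
    (hbz : b * z * b⁻¹ ≠ z) (y : S)
    (hyP : ∀ a ∈ P, a * y = y * a) (hyQ : ∀ q ∈ cj b P, q * y = y * q)
    (hy : y ∉ P ⊔ cj b P) (hy2 : InW z (b * z * b⁻¹) (y ^ 2)) : False := by
  haveI : Fact (Nat.Prime 2) := ⟨Nat.prime_two⟩
  have hcomm := c.comm hbN hbz
  obtain ⟨ΦP, hΦP⟩ : ∃ X : Subgroup S, X = (frattini ↥P).map P.subtype := ⟨_, rfl⟩
  have e1 : EA 2 P ΦP := by
    have := (EA_frattini (c.h2.to_subgroup P)).map P.subtype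
    rwa [← MonoidHom.range_eq_map, Subgroup.range_subtype, ← hΦP] at this
  have e2 : EA 2 (cj b P) (cj b ΦP) := e1.map _
  have e3 := e1.sup e2 hcomm
  have e4 := EA_zpowers 2 y
  have hcy : ∀ a ∈ P ⊔ cj b P, ∀ w ∈ Subgroup.zpowers y, a * w = w * a := by
    intro a ha w hw
    obtain ⟨i, rfl⟩ := Subgroup.mem_zpowers_iff.mp hw
    have h1 : P ⊔ cj b P ≤ Subgroup.centralizer {y} := by
      apply sup_le
      · intro a ha
        rw [Subgroup.mem_centralizer_iff]
        intro h hh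
        rw [Set.mem_singleton_iff] at hh
        rw [hh]; exact (hyP a ha).symm
      · intro a ha
        rw [Subgroup.mem_centralizer_iff]
        intro h hh
        rw [Set.mem_singleton_iff] at hh
        rw [hh]; exact (hyQ a ha).symm
    have h2 := Subgroup.mem_centralizer_iff.mp (h1 ha) y (Set.mem_singleton y)
    have h3 : Commute a y := h2.symm
    exact (h3.zpow_right i).eq
  have e5 := e3.sup e4 hcy
  have hle := card_le_of_EA c.hr e5
  have hzΦ : z ∈ ΦP := hΦP ▸ c.z_mem_frattini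
  have hz₁Φ : b * z * b⁻¹ ∈ cj b ΦP := cj_mem hzΦ
  have hy2N : y ^ 2 ∈ ΦP ⊔ cj b ΦP := by
    rcases hy2 with h | h | h | h <;> rw [h]
    · exact one_mem _
    · exact Subgroup.mem_sup_left hzΦ
    · exact Subgroup.mem_sup_right hz₁Φ
    · exact mul_mem (Subgroup.mem_sup_left hzΦ) (Subgroup.mem_sup_right hz₁Φ)
  have hN : ΦP ⊔ cj b ΦP ⊔ Subgroup.zpowers (y ^ 2) = ΦP ⊔ cj b ΦP :=
    sup_eq_left.mpr ((Subgroup.zpowers_le).mpr hy2N)
  rw [hN] at hle
  have hΦle : ΦP ≤ P := e1.1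
  have hcN : Nat.card ↥(ΦP ⊔ cj b ΦP) ≤ Nat.card ΦP * Nat.card ΦP := by
    have := card_sup_le (A := ΦP) (B := cj b ΦP)
      (fun a ha q hq => hcomm a (hΦle ha) q (cj_mono b hΦle hq))
    rwa [card_cj] at this
  have hcK : Nat.card ↥(P ⊔ cj b P) = Nat.card P * Nat.card P := by
    have := card_sup_eq hcomm (c.disj hbN hbz)
    rwa [card_cj] at this
  have hlt : P ⊔ cj b P < P ⊔ cj b P ⊔ Subgroup.zpowers y := by
    apply lt_of_le_of_ne le_sup_left
    intro h
    apply hy; rw [h]; exact Subgroup.mem_sup_right (Subgroup.mem_zpowers y)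
  have hdvd := Subgroup.card_dvd_of_le hlt.le
  have h2le : 2 * Nat.card ↥(P ⊔ cj b P) ≤ Nat.card ↥(P ⊔ cj b P ⊔ Subgroup.zpowers y) := by
    obtain ⟨m, hm⟩ := hdvd
    rcases m with _ | _ | m
    · exfalso; rw [mul_zero] at hm; exact Nat.card_pos.ne' hm
    · exfalso; rw [zero_add, mul_one] at hm
      exact hlt.ne (Subgroup.eq_of_le_of_card_ge hlt.le hm.le)
    · rw [hm]; nlinarith
  have hPΦ : 4 * Nat.card ΦP ≤ Nat.card P := by
    have h1 := four_le_index_frattini (c.h2.to_subgroup P) c.not_comm_P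
    have h2 := Subgroup.card_mul_index (frattini ↥P)
    have h3 : Nat.card ΦP = Nat.card (frattini ↥P) := by
      rw [hΦP]; exact Subgroup.card_map_of_injective P.subtype_injective
    rw [h3, ← h2]; nlinarith
  have hpos : 0 < Nat.card P := Nat.card_pos
  have h16 : 16 * (Nat.card ΦP * Nat.card ΦP) ≤ Nat.card P * Nat.card P := by
    nlinarith [Nat.mul_le_mul hPΦ hPΦ]
  have hpp : 0 < Nat.card P * Nat.card P := Nat.mul_pos hpos hpos
  norm_num at hle
  linarith

theorem inW_of_comm {b : S} (hbN : b ∈ Subgroup.normalizer (S₀ : Set S))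
    (hbz : b * z * b⁻¹ ≠ z) (x : S)
    (hxP : ∀ a ∈ P, a * x = x * a) (hxQ : ∀ q ∈ cj b P, q * x = x * q) :
    InW z (b * z * b⁻¹) x := by
  classical
  obtain ⟨n, hn⟩ := c.h2 x
  have hex : ∃ j, x ^ 2 ^ j ∈ P ⊔ cj b P := ⟨n, by rw [hn]; exact one_mem _⟩
  have hpowP : ∀ k : ℕ, ∀ a ∈ P, a * x ^ k = x ^ k * a := by
    intro k a ha
    have h3 : Commute a x := hxP a ha
    exact (h3.pow_right k).eq
  have hpowQ : ∀ k : ℕ, ∀ q ∈ cj b P, q * x ^ k = x ^ k * q := by
    intro k a ha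
    have h3 : Commute a x := hxQ a ha
    exact (h3.pow_right k).eq
  rcases hj : Nat.find hex with _ | k
  · have h0 := Nat.find_spec hex
    rw [hj, pow_zero, pow_one] at h0
    exact c.inW_of_mem_sup hbN hbz x h0 hxP hxQ
  · exfalso
    have h1 := Nat.find_spec hex
    rw [hj] at h1
    have h0 : x ^ 2 ^ k ∉ P ⊔ cj b P := Nat.find_min hex (by rw [hj]; exact Nat.lt_succ_self k)
    have e : (x ^ 2 ^ k) ^ 2 = x ^ 2 ^ (k + 1) := by rw [← pow_mul, pow_succ]
    refine c.rank_contra hbN hbz (x ^ 2 ^ k) (hpowP _) (hpowQ _) h0 ?_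
    rw [e]
    exact c.inW_of_mem_sup hbN hbz _ h1 (hpowP _) (hpowQ _)

theorem sect_rank_P {b : S} (hbN : b ∈ Subgroup.normalizer (S₀ : Set S))
    (hbz : b * z * b⁻¹ ≠ z) : SectionalPRankLE 2 2 ↥P := by
  apply sectionalPRankLE_of_EA
  intro B N h
  have hcomm := c.comm hbN hbz
  have h1 := h.map P.subtype
  have h2 : EA 2 (cj b (B.map P.subtype)) (cj b (N.map P.subtype)) := h1.map _
  have hBP : B.map P.subtype ≤ P := Subgroup.map_subtype_le B
  have hBQ : cj b (B.map P.subtype) ≤ cj b P := cj_mono b hBP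
  have hcomm' : ∀ a ∈ B.map P.subtype, ∀ q ∈ cj b (B.map P.subtype), a * q = q * a :=
    fun a ha q hq => hcomm a (hBP ha) q (hBQ hq)
  have h3 := h1.sup h2 hcomm'
  have h4 := card_le_of_EA c.hr h3
  have hd : B.map P.subtype ⊓ cj b (B.map P.subtype) = ⊥ := by
    rw [eq_bot_iff, ← c.disj hbN hbz]
    exact inf_le_inf hBP hBQ
  have h5 := card_sup_eq hcomm' hd
  have h6 := card_sup_le (A := N.map P.subtype) (B := cj b (N.map P.subtype))
    (fun a ha q hq => hcomm' a (h1.1 ha) q (h2.1 hq))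
  rw [card_cj, Subgroup.card_map_of_injective P.subtype_injective] at h5 h6
  rw [h5] at h4
  norm_num at h4 ⊢
  by_contra hlt
  push Not at hlt
  have hpos : 0 < Nat.card N := Nat.card_pos
  nlinarith [Nat.mul_lt_mul'' hlt hlt]

theorem conj_eq {g b : S} (hgN : g ∈ Subgroup.normalizer (S₀ : Set S)) (hg : g ∉ S₀)
    (hbN : b ∈ Subgroup.normalizer (S₀ : Set S)) (hb : b ∉ S₀) :
    b * z * b⁻¹ = g * z * g⁻¹ := by
  have hgz := c.conj_ne hg
  have hbz := c.conj_ne hb
  have hz₂P : ∀ a ∈ P, a * (b * z * b⁻¹) = (b * z * b⁻¹) * a :=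
    fun a ha => c.conj_central hbN a (c.P_le ha)
  have hz₂Q : ∀ q ∈ cj g P, q * (b * z * b⁻¹) = (b * z * b⁻¹) * q :=
    fun q hq => c.conj_central hbN q (c.cj_le hgN hq)
  rcases c.inW_of_comm hgN hgz _ hz₂P hz₂Q with h | h | h | h
  · exfalso
    apply c.hz1
    have e : z = b⁻¹ * (b * z * b⁻¹) * b := by group
    rw [e, h]; group
  · exact absurd h hbz
  · exact h
  · exfalso
    have hb'N : g⁻¹ * b ∈ Subgroup.normalizer (S₀ : Set S) := mul_mem (inv_mem hgN) hbN
    have hb'z : (g⁻¹ * b) * z * (g⁻¹ * b)⁻¹ ≠ z := by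
      intro h'
      have h1 : b * z * b⁻¹ = g * z * g⁻¹ := by
        calc b * z * b⁻¹ = g * ((g⁻¹ * b) * z * (g⁻¹ * b)⁻¹) * g⁻¹ := by group
          _ = g * z * g⁻¹ := by rw [h']
      rw [h1] at h
      apply c.hz1
      have h2 : z * (g * z * g⁻¹) = 1 * (g * z * g⁻¹) := by rw [one_mul]; exact h.symm
      exact mul_right_cancel h2
    have hc1 := c.comm hbN hbz
    have hc2 := c.comm hb'N hb'z
    have hQ₂ : ∀ q₂ ∈ cj b P, InW z (g * z * g⁻¹) q₂ := by
      intro q₂ hq₂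
      apply c.inW_of_comm hgN hgz
      · intro a ha; exact hc1 a ha q₂ hq₂
      · intro q hq
        obtain ⟨a, ha, rfl⟩ := mem_cj hq
        obtain ⟨a', ha', rfl⟩ := mem_cj hq₂
        have h3 := hc2 a ha ((g⁻¹ * b) * a' * (g⁻¹ * b)⁻¹) (cj_mem ha')
        calc g * a * g⁻¹ * (b * a' * b⁻¹)
            = g * (a * ((g⁻¹ * b) * a' * (g⁻¹ * b)⁻¹)) * g⁻¹ := by group
          _ = g * (((g⁻¹ * b) * a' * (g⁻¹ * b)⁻¹) * a) * g⁻¹ := by rw [h3]
          _ = b * a' * b⁻¹ * (g * a * g⁻¹) := by group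
    apply c.hP
    intro a ha a' ha'
    have h1 := hQ₂ (b * a' * b⁻¹) (cj_mem ha')
    have h2 : b * a * b⁻¹ ∈ S₀ := c.cj_le hbN (cj_mem ha)
    have h3 := c.inW_central hgN h1 (b * a * b⁻¹) h2
    have h4 : b * (a * a') * b⁻¹ = b * (a' * a) * b⁻¹ := by
      calc b * (a * a') * b⁻¹ = (b * a * b⁻¹) * (b * a' * b⁻¹) := by group
        _ = (b * a' * b⁻¹) * (b * a * b⁻¹) := h3
        _ = b * (a' * a) * b⁻¹ := by group
    exact mul_left_cancel (mul_right_cancel h4)

theorem inv_mul_mem {g b : S} (hgN : g ∈ Subgroup.normalizer (S₀ : Set S)) (hg : g ∉ S₀)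
    (hbN : b ∈ Subgroup.normalizer (S₀ : Set S)) (hb : b ∉ S₀) : g⁻¹ * b ∈ S₀ := by
  rw [c.hS₀]
  have h := c.conj_eq hgN hg hbN hb
  calc g⁻¹ * b * z = g⁻¹ * (b * z * b⁻¹) * b := by group
    _ = g⁻¹ * (g * z * g⁻¹) * b := by rw [h]
    _ = z * (g⁻¹ * b) := by group

theorem mul_mem' {g b : S} (hgN : g ∈ Subgroup.normalizer (S₀ : Set S)) (hg : g ∉ S₀)
    (hbN : b ∈ Subgroup.normalizer (S₀ : Set S)) (hb : b ∉ S₀) : b * g ∈ S₀ := by
  have hb' : b⁻¹ ∉ S₀ := fun h => hb (by simpa using inv_mem h)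
  have := inv_mem (c.inv_mul_mem hgN hg (inv_mem hbN) hb')
  simpa using this

theorem conj_z₁ {g b : S} (hgN : g ∈ Subgroup.normalizer (S₀ : Set S)) (hg : g ∉ S₀)
    (hbN : b ∈ Subgroup.normalizer (S₀ : Set S)) (hb : b ∉ S₀) :
    b * (g * z * g⁻¹) * b⁻¹ = z := by
  have h := c.conj_eq_of_mem (c.mul_mem' hgN hg hbN hb)
  calc b * (g * z * g⁻¹) * b⁻¹ = (b * g) * z * (b * g)⁻¹ := by group
    _ = z := h

theorem conj_P {g b : S} (hgN : g ∈ Subgroup.normalizer (S₀ : Set S)) (hg : g ∉ S₀)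
    (hbN : b ∈ Subgroup.normalizer (S₀ : Set S)) (hb : b ∉ S₀) :
    ∀ a ∈ P, b * a * b⁻¹ ∈ cj g P := by
  intro a ha
  have h := c.hPn _ (c.inv_mul_mem hgN hg hbN hb) a ha
  have e : b * a * b⁻¹ = g * ((g⁻¹ * b) * a * (g⁻¹ * b)⁻¹) * g⁻¹ := by group
  rw [e]
  exact cj_mem h

theorem normalizer_eq_top {g : S} (hgN : g ∈ Subgroup.normalizer (S₀ : Set S)) (hg : g ∉ S₀) :
    Subgroup.normalizer (S₀ : Set S) = ⊤ := by
  by_contra hT
  haveI : Fact (Nat.Prime 2) := ⟨Nat.prime_two⟩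
  haveI : Group.IsNilpotent S := c.h2.isNilpotent
  have hnc := normalizerCondition_of_isNilpotent (G := S)
  have hlt := hnc _ (lt_top_iff_ne_top.mpr hT)
  obtain ⟨h, hhN, hhT⟩ := SetLike.exists_of_lt hlt
  have hgz := c.conj_ne hg
  have hS₀T : S₀ ≤ Subgroup.normalizer (S₀ : Set S) := Subgroup.le_normalizer
  obtain ⟨z₁, hz₁⟩ : ∃ z₁, z₁ = g * z * g⁻¹ := ⟨_, rfl⟩
  obtain ⟨u, hu⟩ : ∃ u, u = h * z * h⁻¹ := ⟨_, rfl⟩
  obtain ⟨u₁, hu₁⟩ : ∃ u₁, u₁ = h * z₁ * h⁻¹ := ⟨_, rfl⟩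
  obtain ⟨w, hw⟩ : ∃ w, w = h * (z * z₁) * h⁻¹ := ⟨_, rfl⟩
  have hz₁S₀ : z₁ ∈ S₀ := by rw [hz₁]; exact nmem1 hgN c.z_mem
  have hzz₁ : z * z₁ = z₁ * z := ((c.hS₀ z₁).mp hz₁S₀).symm
  have hu2 : u * u = 1 := by
    rw [hu]
    calc h * z * h⁻¹ * (h * z * h⁻¹) = h * (z * z) * h⁻¹ := by group
      _ = 1 := by rw [c.hz2]; group
  have huinv : u⁻¹ = u := inv_eq_of_mul_eq_one_left hu2
  have hwu : w = u₁ * u := by
    rw [hw, hu₁, hu, hzz₁]; group
  have huT : u ∈ Subgroup.normalizer (S₀ : Set S) := by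
    rw [hu]; exact nmem1 hhN (hS₀T c.z_mem)
  have G0 : ∀ s ∈ Subgroup.normalizer (S₀ : Set S), s * z * s⁻¹ = z ∨ s * z * s⁻¹ = z₁ := by
    intro s hs
    by_cases hsS : s ∈ S₀
    · left; exact c.conj_eq_of_mem hsS
    · right; rw [hz₁]; exact c.conj_eq hgN hg hs hsS
  have G1 : ∀ s ∈ Subgroup.normalizer (S₀ : Set S), s * u * s⁻¹ = u ∨ s * u * s⁻¹ = u₁ := by
    intro s hs
    have hs' : h⁻¹ * s * h ∈ Subgroup.normalizer (S₀ : Set S) := nmem2 hhN hs
    have e : s * u * s⁻¹ = h * ((h⁻¹ * s * h) * z * (h⁻¹ * s * h)⁻¹) * h⁻¹ := by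
      rw [hu]; group
    rcases G0 _ hs' with h1 | h1
    · left; rw [e, h1, hu]
    · right; rw [e, h1, hu₁]
  have C4 : ∀ s ∈ Subgroup.normalizer (S₀ : Set S), s * (z * z₁) * s⁻¹ = z * z₁ := by
    intro s hs
    by_cases hsS : s ∈ S₀
    · have hW : InW z (g * z * g⁻¹) (z * z₁) := by rw [hz₁]; right; right; right; rfl
      have := c.inW_central hgN hW s hsS
      rw [this]; group
    · have h1 : s * z * s⁻¹ = z₁ := by rw [hz₁]; exact c.conj_eq hgN hg hs hsS
      have h2 : s * z₁ * s⁻¹ = z := by rw [hz₁]; exact c.conj_z₁ hgN hg hs hsS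
      calc s * (z * z₁) * s⁻¹ = (s * z * s⁻¹) * (s * z₁ * s⁻¹) := by group
        _ = z₁ * z := by rw [h1, h2]
        _ = z * z₁ := hzz₁.symm
  have G2 : ∀ s ∈ Subgroup.normalizer (S₀ : Set S), s * w * s⁻¹ = w := by
    intro s hs
    have hs' : h⁻¹ * s * h ∈ Subgroup.normalizer (S₀ : Set S) := nmem2 hhN hs
    have e : s * w * s⁻¹ = h * ((h⁻¹ * s * h) * (z * z₁) * (h⁻¹ * s * h)⁻¹) * h⁻¹ := by
      rw [hw]; group
    rw [e, C4 _ hs', hw]
  have hw1 : w ≠ 1 := by
    intro h1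
    rw [hw] at h1
    have h2 : z * z₁ = 1 := by
      have e : z * z₁ = h⁻¹ * (h * (z * z₁) * h⁻¹) * h := by group
      rw [e, h1]; group
    apply hgz
    rw [← hz₁]
    have h3 : z * z₁ = z * z := by rw [h2, c.hz2]
    exact mul_left_cancel h3
  by_cases huS : u ∈ S₀
  · by_cases hall : (∀ a ∈ P, a * u = u * a) ∧ (∀ q ∈ cj g P, q * u = u * q)
    · have hW := c.inW_of_comm hgN hgz u hall.1 hall.2
      have hcen := c.inW_central hgN hW
      have hh' : h⁻¹ ∈ Subgroup.normalizer (S₀ : Set S) := by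
        apply Subgroup.mem_normalizer_fintype
        intro s hs
        rw [SetLike.mem_coe] at hs ⊢
        rw [c.hS₀]
        have h1 := hcen s hs
        rw [hu] at h1
        calc h⁻¹ * s * h⁻¹⁻¹ * z = h⁻¹ * (s * (h * z * h⁻¹)) * h := by group
          _ = h⁻¹ * ((h * z * h⁻¹) * s) * h := by rw [h1]
          _ = z * (h⁻¹ * s * h⁻¹⁻¹) := by group
      exact hhT (by simpa using inv_mem hh')
    · rw [not_and_or] at hall
      rcases hall with hall | hall
      · push Not at hall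
        obtain ⟨a, ha, hau⟩ := hall
        have haT := hS₀T (c.P_le ha)
        rcases G1 a haT with h1 | h1
        · apply hau
          calc a * u = a * u * a⁻¹ * a := by group
            _ = u * a := by rw [h1]
        · have hm : a * u * a⁻¹ * u⁻¹ ∈ P := by
            have := c.hPn u huS a⁻¹ (inv_mem ha)
            have e : a * u * a⁻¹ * u⁻¹ = a * (u * a⁻¹ * u⁻¹) := by group
            rw [e]; exact mul_mem ha this
          rw [h1, huinv, ← hwu] at hm
          have hwc : ∀ a' ∈ P, a' * w = w * a' := fun a' ha' => by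
            have := G2 a' (hS₀T (c.P_le ha'))
            calc a' * w = a' * w * a'⁻¹ * a' := by group
              _ = w * a' := by rw [this]
          rcases c.hZ w hm hwc with hw1' | hwz
          · exact hw1 hw1'
          · have := G2 g hgN
            rw [hwz] at this
            exact hgz this
      · push Not at hall
        obtain ⟨q, hq, hqu⟩ := hall
        have hqS := c.cj_le hgN hq
        have hqT := hS₀T hqS
        rcases G1 q hqT with h1 | h1
        · apply hqu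
          calc q * u = q * u * q⁻¹ * q := by group
            _ = u * q := by rw [h1]
        · have hm : q * u * q⁻¹ * u⁻¹ ∈ cj g P := by
            have := c.cj_norm hgN u huS q⁻¹ (inv_mem hq)
            have e : q * u * q⁻¹ * u⁻¹ = q * (u * q⁻¹ * u⁻¹) := by group
            rw [e]; exact mul_mem hq this
          rw [h1, huinv, ← hwu] at hm
          have hwc : ∀ q' ∈ cj g P, q' * w = w * q' := fun q' hq' => by
            have := G2 q' (hS₀T (c.cj_le hgN hq'))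
            calc q' * w = q' * w * q'⁻¹ * q' := by group
              _ = w * q' := by rw [this]
          rcases c.cj_center g w hm hwc with hw1' | hwz
          · exact hw1 hw1'
          · have := G2 g hgN
            rw [hwz] at this
            apply hgz
            have e : g * z * g⁻¹ = g⁻¹ * (g * (g * z * g⁻¹) * g⁻¹) * g := by group
            rw [e, this]; group
  · have hall : ∀ a ∈ P, a = 1 ∨ a = z := by
      intro a ha
      have haT := hS₀T (c.P_le ha)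
      rcases G1 a haT with h1 | h1
      · left
        have h2 : u * a * u⁻¹ = a := by
          have h3 : a * u = u * a := by
            calc a * u = a * u * a⁻¹ * a := by group
              _ = u * a := by rw [h1]
          rw [← h3]; group
        have h4 : a ∈ P ⊓ cj g P := ⟨ha, h2 ▸ c.conj_P hgN hg huT huS a ha⟩
        rw [c.disj hgN hgz, Subgroup.mem_bot] at h4
        exact h4
      · have hq : u * a⁻¹ * u⁻¹ ∈ cj g P := c.conj_P hgN hg huT huS a⁻¹ (inv_mem ha)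
        have hwa : w = a * (u * a⁻¹ * u⁻¹) := by
          calc w = u₁ * u := hwu
            _ = (a * u * a⁻¹) * u := by rw [h1]
            _ = (a * u * a⁻¹) * u⁻¹ := by rw [huinv]
            _ = a * (u * a⁻¹ * u⁻¹) := by group
        have hac : ∀ a' ∈ P, a' * a = a * a' := by
          intro a' ha'
          have h5 := G2 a' (hS₀T (c.P_le ha'))
          have h6 := c.comm hgN hgz a'⁻¹ (inv_mem ha') _ hq
          rw [hwa] at h5
          have h7 : a' * a * a'⁻¹ * (u * a⁻¹ * u⁻¹) = a * (u * a⁻¹ * u⁻¹) := by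
            calc a' * a * a'⁻¹ * (u * a⁻¹ * u⁻¹)
                = a' * a * (a'⁻¹ * (u * a⁻¹ * u⁻¹)) := by group
              _ = a' * a * ((u * a⁻¹ * u⁻¹) * a'⁻¹) := by rw [h6]
              _ = a' * (a * (u * a⁻¹ * u⁻¹)) * a'⁻¹ := by group
              _ = a * (u * a⁻¹ * u⁻¹) := h5
          have h8 := mul_right_cancel h7
          calc a' * a = a' * a * a'⁻¹ * a' := by group
            _ = a * a' := by rw [h8]
        exact c.hZ a ha hac
    apply c.hP
    intro a ha a' ha'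
    rcases hall a ha with h1 | h1
    · rw [h1]; simp
    · rw [h1]; exact (c.hzc a' ha').symm

end Ctx

/-- Let S be a finite 2-group of sectional 2-rank at most 4 and P a proper non-abelian subgroup whose centre has order 2. Let S₀ be the centralizer in S of Z(P) and suppose P is normal in S₀. Then either S₀ = S, or P has sectional 2-rank at most 2 and S₀ has index 2 in S. -/
theorem result {S : Type*} [Group S] [Finite S] (h2 : IsPGroup 2 S) (hr : Cfsg.SectionalPRankLE 2 4 S)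
    (P : Subgroup S) (hPlt : P ≠ ⊤) (hP : ¬ IsMulCommutative ↥P) (hZP : Nat.card ↥(Subgroup.center ↥P) = 2)
    (S₀ : Subgroup S) (hS₀ : S₀ = Subgroup.centralizer (((Subgroup.center ↥P).map P.subtype : Subgroup S) : Set S))
    (hPn : ∀ s ∈ S₀, ∀ x ∈ P, s * x * s⁻¹ ∈ P) :
    S₀ = ⊤ ∨ (Cfsg.SectionalPRankLE 2 2 ↥P ∧ S₀.index = 2) := by
  classical
  haveI : Fact (Nat.Prime 2) := ⟨Nat.prime_two⟩
  by_cases htop : S₀ = ⊤
  · exact Or.inl htop
  right
  obtain ⟨z', hz'1, hz'u⟩ := (Nat.card_eq_two_iff' (1 : ↥(Subgroup.center ↥P))).mp hZP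
  have hz'2 : z' ^ 2 = 1 := by rw [← hZP]; exact pow_card_eq_one'
  have hcases : ∀ y : ↥(Subgroup.center ↥P), y = 1 ∨ y = z' := by
    intro y
    by_cases hy : y = 1
    · exact Or.inl hy
    · exact Or.inr (hz'u y hy)
  obtain ⟨z, hz⟩ : ∃ z : S, z = ((z' : ↥P) : S) := ⟨_, rfl⟩
  have ctx : Ctx P S₀ z := by
    refine ⟨h2, hr, ?_, ?_, ?_, ?_, ?_, ?_, ?_, hPn⟩
    · intro h
      exact hP (isMulCommutative_iff.mpr (fun a b => Subtype.ext (h a a.2 b b.2)))
    · rw [hz]; exact (z' : ↥P).2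
    · intro h1
      apply hz'1
      apply Subtype.ext
      apply Subtype.ext
      rw [hz] at h1
      simpa using h1
    · have := congrArg (fun x : ↥(Subgroup.center ↥P) => ((x : ↥P) : S)) hz'2
      rw [hz]
      simpa [pow_two] using this
    · intro a ha
      have := Subgroup.mem_center_iff.mp z'.2 ⟨a, ha⟩
      rw [hz]
      exact congrArg Subtype.val this
    · intro c hc hcen
      have hmem : (⟨c, hc⟩ : ↥P) ∈ Subgroup.center ↥P := by
        rw [Subgroup.mem_center_iff]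
        intro g
        exact Subtype.ext (hcen g.1 g.2)
      rcases hcases ⟨⟨c, hc⟩, hmem⟩ with h | h
      · left
        have := congrArg (fun x : ↥(Subgroup.center ↥P) => ((x : ↥P) : S)) h
        simpa using this
      · right
        have := congrArg (fun x : ↥(Subgroup.center ↥P) => ((x : ↥P) : S)) h
        rw [hz]
        simpa using this
    · intro s
      rw [hS₀, Subgroup.mem_centralizer_iff]
      constructor
      · intro h
        have hzmem : z ∈ (((Subgroup.center ↥P).map P.subtype : Subgroup S) : Set S) := by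
          rw [hz]; exact ⟨(z' : ↥P), z'.2, rfl⟩
        exact (h z hzmem).symm
      · intro h x hx
        obtain ⟨y, hy, rfl⟩ := hx
        rcases hcases ⟨y, hy⟩ with h' | h'
        · have : y = 1 := congrArg Subtype.val h'
          rw [this]; simp
        · have : y = (z' : ↥P) := congrArg Subtype.val h'
          rw [this]
          show ((z' : ↥P) : S) * s = s * ((z' : ↥P) : S)
          rw [← hz]; exact h.symm
  haveI : Group.IsNilpotent S := h2.isNilpotent
  have hnc := normalizerCondition_of_isNilpotent (G := S)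
  have hlt := hnc S₀ (lt_top_iff_ne_top.mpr htop)
  obtain ⟨g, hgN, hg⟩ := SetLike.exists_of_lt hlt
  refine ⟨ctx.sect_rank_P hgN (ctx.conj_ne hg), ?_⟩
  have hT := ctx.normalizer_eq_top hgN hg
  rw [Subgroup.index_eq_two_iff]
  refine ⟨g, fun b => ?_⟩
  by_cases hb : b ∈ S₀
  · right
    refine ⟨hb, fun h => hg ?_⟩
    have := mul_mem (inv_mem hb) h
    simpa using this
  · left
    have hbN : b ∈ Subgroup.normalizer (S₀ : Set S) := by rw [hT]; exact Subgroup.mem_top b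
    exact ⟨ctx.mul_mem' hgN hg hbN hb, hb⟩

end Cfsg.Agent.S4401
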