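import Cfsg.Statements.S4403
import Cfsg.Agent.Lib.Helper1.Cores
import Cfsg.Agent.Lib.Helper9.Layer2
import Cfsg.Agent.Lib.Helper9.PComp2
import Cfsg.Agent.Lib.Helper10.PComponent2
import Cfsg.Agent.Lib.Helper16.UniqueOrderP

set_option autoImplicit false
open Cfsg

namespace Cfsg.Agent.S4403

open Subgroup
open Cfsg.Agent.Lib.Helper9

section aux
variable {K : Type*} [Group K] [Finite K] {p : ℕ} [Fact p.Prime]

/-- if `g x g⁻¹ = x^k` for `x` of order `p^n` and `g` commutes with `x^(p^(n-1))`,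
then `g^(p^(n-1))` commutes with `x`. -/
theorem conj_pow_prime_pow_eq {K : Type*} [Group K] {p : ℕ} [Fact p.Prime] (x g : K) (n : ℕ)
    (hx : orderOf x = p ^ n) (k : ℕ) (hgx : g * x * g⁻¹ = x ^ k)
    (hz : g * x ^ p ^ (n - 1) * g⁻¹ = x ^ p ^ (n - 1)) :
    g ^ p ^ (n - 1) * x * (g ^ p ^ (n - 1))⁻¹ = x := by
  have hp : p.Prime := Fact.out
  rcases Nat.eq_zero_or_pos n with hn0 | hnpos
  · subst hn0
    rw [pow_zero, orderOf_eq_one_iff] at hx
    subst hx; simp
  -- iterate
  have hiter : ∀ j : ℕ, g ^ j * x * (g ^ j)⁻¹ = x ^ k ^ j := by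
    intro j
    induction j with
    | zero => simp
    | succ j ih =>
      calc g ^ (j + 1) * x * (g ^ (j + 1))⁻¹ = g * (g ^ j * x * (g ^ j)⁻¹) * g⁻¹ := by
            rw [pow_succ']; group
        _ = g * x ^ k ^ j * g⁻¹ := by rw [ih]
        _ = (g * x * g⁻¹) ^ k ^ j := by rw [conj_pow]
        _ = x ^ k ^ (j + 1) := by rw [hgx, ← pow_mul, pow_succ']
  -- `k ≡ 1 mod p`
  have hzord : orderOf (x ^ p ^ (n - 1)) = p := by
    rw [orderOf_pow_of_dvd (pow_ne_zero _ hp.ne_zero) (by rw [hx]; exact pow_dvd_pow p (by omega)), hx]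
    have : p ^ n = p ^ (n - 1) * p := by rw [← pow_succ]; congr 1; omega
    rw [this, Nat.mul_div_cancel_left _ (pow_pos hp.pos _)]
  have hzk : (x ^ p ^ (n - 1)) ^ k = (x ^ p ^ (n - 1)) ^ 1 := by
    rw [pow_one]
    calc (x ^ p ^ (n - 1)) ^ k = (x ^ k) ^ p ^ (n - 1) := by rw [← pow_mul, ← pow_mul, mul_comm]
      _ = (g * x * g⁻¹) ^ p ^ (n - 1) := by rw [hgx]
      _ = g * x ^ p ^ (n - 1) * g⁻¹ := by rw [conj_pow]
      _ = x ^ p ^ (n - 1) := hz
  have hk1 : k ≡ 1 [MOD p] := by
    have := pow_eq_pow_iff_modEq.mp hzk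
    rwa [hzord] at this
  -- `k^(p^(n-1)) ≡ 1 mod p^n`
  have hkpow : k ^ p ^ (n - 1) ≡ 1 [MOD p ^ n] := by
    have h1 : (p : ℤ) ∣ (k : ℤ) - 1 := by
      have := (Nat.modEq_iff_dvd.mp hk1.symm)
      simpa using this
    have h2 := dvd_sub_pow_of_dvd_sub h1 (n - 1)
    have h3 : n - 1 + 1 = n := by omega
    rw [h3, one_pow] at h2
    apply Nat.ModEq.symm
    rw [Nat.modEq_iff_dvd]
    push_cast
    exact h2
  rw [hiter]
  have : x ^ k ^ p ^ (n - 1) = x ^ 1 := by
    rw [pow_eq_pow_iff_modEq, hx]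
    exact hkpow
  rw [this, pow_one]

omit [Finite K] [Fact p.Prime] in
theorem mem_of_pow_mem_of_coprime (H : Subgroup K) (g : K) (a b : ℕ) (hab : Nat.Coprime a b)
    (ha : g ^ a ∈ H) (hb : g ^ b ∈ H) : g ∈ H := by
  have hcop : IsCoprime (a : ℤ) (b : ℤ) := Nat.isCoprime_iff_coprime.mpr hab
  obtain ⟨u, v, huv⟩ := hcop
  have hsplit : g = (g ^ a) ^ u * (g ^ b) ^ v := by
    rw [← zpow_natCast, ← zpow_natCast, ← zpow_mul, ← zpow_mul, ← zpow_add]
    have : (a : ℤ) * u + (b : ℤ) * v = 1 := by linarith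
    rw [this, zpow_one]
  rw [hsplit]
  exact H.mul_mem (H.zpow_mem ha u) (H.zpow_mem hb v)

/-- data of a cyclic Sylow subgroup: a generator `x` of order `p^n` -/
theorem exists_generator (P : Sylow p K) (hP : IsCyclic ↥(P : Subgroup K)) :
    ∃ (x : K) (n : ℕ), (P : Subgroup K) = zpowers x ∧ orderOf x = p ^ n := by
  obtain ⟨⟨x, hxP⟩, hgen⟩ := hP.exists_generator
  have hPx : (P : Subgroup K) = zpowers x := by
    apply le_antisymm
    · intro y hy
      obtain ⟨j, hj⟩ := mem_zpowers_iff.mp (hgen ⟨y, hy⟩)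
      have := congrArg Subtype.val hj
      rw [mem_zpowers_iff]
      exact ⟨j, by simpa using this⟩
    · exact zpowers_le.mpr hxP
  obtain ⟨n, hn⟩ := (P.2 : IsPGroup p (P : Subgroup K)).exists_card_eq
  refine ⟨x, n, hPx, ?_⟩
  rw [← Nat.card_zpowers, ← hPx, hn]

/-- In a cyclic `p`-group `zpowers x`, an element of order `p` generates the same subgroup as
`x^(p^(n-1))`. -/
theorem mem_zpowers_of_orderOf_eq (x : K) (n : ℕ) (hx : orderOf x = p ^ n) (y w : K)
    (hy : y ∈ zpowers x) (hw : w ∈ zpowers x) (hyp : y ^ p = 1) (hy1 : y ≠ 1) (hwp : w ^ p = 1) :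
    w ∈ zpowers y := by
  have hcyc : IsCyclic ↥(zpowers x) := inferInstance
  have := Cfsg.Agent.Lib.Helper16.mem_zpowers_of_pow_eq_one_of_isCyclic (H := ↥(zpowers x)) (p := p)
    ⟨y, hy⟩ ⟨w, hw⟩ (by apply Subtype.ext; simpa using hyp)
    (by intro h; apply hy1; simpa using congrArg Subtype.val h) (by apply Subtype.ext; simpa using hwp)
  obtain ⟨j, hj⟩ := mem_zpowers_iff.mp this
  rw [mem_zpowers_iff]
  exact ⟨j, by simpa using congrArg Subtype.val hj⟩

/-- elements of `N_K(P)` that commute with `Ω₁(P)` centralize the cyclic Sylow subgroup `P` -/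
theorem mem_centralizer_of_commute_omega (P : Sylow p K) (x : K) (n : ℕ)
    (hPx : (P : Subgroup K) = zpowers x) (hxord : orderOf x = p ^ n) (g : K)
    (hgN : g ∈ normalizer ((P : Subgroup K) : Set K))
    (hgz : g * x ^ p ^ (n - 1) * g⁻¹ = x ^ p ^ (n - 1)) :
    g ∈ centralizer ((P : Subgroup K) : Set K) := by
  have hp : p.Prime := Fact.out
  have hxP : x ∈ (P : Subgroup K) := hPx ▸ mem_zpowers x
  have hgx : g * x * g⁻¹ ∈ zpowers x := by
    rw [← hPx]; exact (mem_normalizer_iff.mp hgN x).mp hxP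
  obtain ⟨k, hk⟩ := mem_powers_iff_mem_zpowers.mpr hgx
  have hk' : g * x * g⁻¹ = x ^ k := hk.symm
  have h1 := conj_pow_prime_pow_eq x g n hxord k hk' hgz
  -- centralizer of `P` is the centralizer of `x`
  have hcent : ∀ c : K, c * x * c⁻¹ = x → c ∈ centralizer ((P : Subgroup K) : Set K) := by
    intro c hc
    rw [mem_centralizer_iff]
    intro y hy
    rw [SetLike.mem_coe, hPx] at hy
    obtain ⟨a, rfl⟩ := mem_zpowers_iff.mp hy
    have hcx : Commute c x := by
      show c * x = x * c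
      calc c * x = c * x * c⁻¹ * c := by group
        _ = x * c := by rw [hc]
    exact ((hcx.zpow_right a).eq).symm
  have h2 : g ^ p ^ (n - 1) ∈ centralizer ((P : Subgroup K) : Set K) := hcent _ h1
  -- the index of `C(P)` in `N(P)` is prime to `p`
  set N := normalizer ((P : Subgroup K) : Set K) with hN
  set C := centralizer ((P : Subgroup K) : Set K) with hC
  have hPC : (P : Subgroup K) ≤ C := by
    intro y hy
    rw [hC, mem_centralizer_iff]
    intro w hw
    rw [SetLike.mem_coe, hPx] at hw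
    rw [hPx] at hy
    obtain ⟨a, rfl⟩ := mem_zpowers_iff.mp hy
    obtain ⟨b, rfl⟩ := mem_zpowers_iff.mp hw
    exact (((Commute.refl x).zpow_left b).zpow_right a).eq
  have hCN : C ≤ N := centralizer_le_normalizer _
  have hidx : ¬ p ∣ C.relIndex N := by
    intro h
    have h3 : (P : Subgroup K).relIndex C * C.relIndex N = (P : Subgroup K).relIndex N :=
      relIndex_mul_relIndex _ _ _ hPC hCN
    have h4 : (P : Subgroup K).relIndex N * N.index = (P : Subgroup K).index :=
      relIndex_mul_index (hPC.trans hCN)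
    apply P.not_dvd_index
    rw [← h4, ← h3]
    exact dvd_mul_of_dvd_left (dvd_mul_of_dvd_right h _) _
  have h5 : g ^ C.relIndex N ∈ C := by
    have := Subgroup.pow_index_mem (C.subgroupOf N) (⟨g, hgN⟩ : N)
    rw [mem_subgroupOf] at this
    have h6 : ((⟨g, hgN⟩ : N) ^ (C.subgroupOf N).index : N) = (g ^ C.relIndex N : K) := by
      rw [Subgroup.coe_pow]; rfl
    rwa [h6] at this
  exact mem_of_pow_mem_of_coprime C g _ _
    (Nat.Coprime.pow_left _ ((Nat.Prime.coprime_iff_not_dvd hp).mpr hidx)) h2 h5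

theorem isCyclic_mulAut_of_prime_card {p : ℕ} [Fact p.Prime] {Z : Type*} [Group Z] [Finite Z]
    (hZ : Nat.card Z = p) : IsCyclic (MulAut Z) ∧ Nat.card (MulAut Z) = p - 1 := by
  have hpp : p.Prime := Fact.out
  have hcyc : IsCyclic Z := isCyclic_of_prime_card hZ
  have hfact : Fact (Nat.card Z).Prime := ⟨hZ ▸ hpp⟩
  constructor
  · exact (IsCyclic.mulAutMulEquiv Z).isCyclic.mpr inferInstance
  · rw [IsCyclic.card_mulAut, hZ, Nat.totient_prime hpp]

theorem isCyclic_quotient_of_ker_eq {G A : Type*} [Group G] [Group A] [IsCyclic A] (φ : G →* A)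
    (N : Subgroup G) [hN : N.Normal] (h : φ.ker = N) :
    IsCyclic (G ⧸ N) ∧ Nat.card (G ⧸ N) ∣ Nat.card A := by
  subst h
  exact ⟨isCyclic_of_injective (QuotientGroup.kerLift φ) (QuotientGroup.kerLift_injective φ),
    Subgroup.card_dvd_of_injective _ (QuotientGroup.kerLift_injective φ)⟩

theorem caseA (hp : p ∣ Nat.card K) (hO : Cfsg.pPrimeCore p K = ⊥) (P : Sylow p K)
    (hP : IsCyclic ↥(P : Subgroup K)) (hQ : Cfsg.pCore p K ≠ ⊥) :
    (P : Subgroup K).Normal ∧ centralizer ((P : Subgroup K) : Set K) = (P : Subgroup K) ∧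
      (∀ (_ : (P : Subgroup K).Normal), IsCyclic (K ⧸ (P : Subgroup K))) ∧
      (P : Subgroup K).index ∣ p - 1 := by
  have hpp : p.Prime := Fact.out
  obtain ⟨x, n, hPx, hxord⟩ := exists_generator P hP
  have hn : n ≠ 0 := by
    rintro rfl
    rw [pow_zero, orderOf_eq_one_iff] at hxord
    apply P.ne_bot_of_dvd_card hp
    rw [hPx, hxord, zpowers_one_eq_bot]
  set z := x ^ p ^ (n - 1) with hz
  have hzord : orderOf z = p := by
    rw [hz, orderOf_pow_of_dvd (pow_ne_zero _ hpp.ne_zero)
      (by rw [hxord]; exact pow_dvd_pow p (by omega)), hxord]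
    have : p ^ n = p ^ (n - 1) * p := by rw [← pow_succ]; congr 1; omega
    rw [this, Nat.mul_div_cancel_left _ (pow_pos hpp.pos _)]
  have hzp : z ^ p = 1 := by rw [← hzord]; exact pow_orderOf_eq_one z
  have hz1 : z ≠ 1 := by
    intro h
    rw [h, orderOf_one] at hzord
    exact hpp.one_lt.ne hzord
  have hzx : z ∈ zpowers x := Subgroup.pow_mem _ (mem_zpowers x) _
  -- an element of order `p` in `O_p(K)`
  set Q := Cfsg.pCore p K with hQdef
  have hQP : Q ≤ (P : Subgroup K) := Cfsg.Agent.Lib.Helper1.pCore_le_sylow P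
  have hQn : Q.Normal := Cfsg.Agent.Lib.Helper1.pCore_normal p
  obtain ⟨y, hyQ, hyord⟩ : ∃ y ∈ Q, orderOf y = p := by
    have hQp : IsPGroup p Q := Cfsg.Agent.Lib.Helper1.pCore_isPGroup p
    obtain ⟨e, he⟩ := hQp.exists_card_eq
    have he0 : e ≠ 0 := by
      rintro rfl
      rw [pow_zero] at he
      exact hQ (card_eq_one.mp he)
    have hdvd : p ∣ Nat.card Q := by rw [he]; exact dvd_pow_self p he0
    obtain ⟨y', hy'⟩ := exists_prime_orderOf_dvd_card' p hdvd
    exact ⟨(y' : K), y'.2, by rw [Subgroup.orderOf_coe]; exact hy'⟩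
  have hyp : y ^ p = 1 := by rw [← hyord]; exact pow_orderOf_eq_one y
  have hy1 : y ≠ 1 := by
    intro h
    rw [h, orderOf_one] at hyord
    exact hpp.one_lt.ne hyord
  have hyx : y ∈ zpowers x := hPx ▸ hQP hyQ
  have hzQ : z ∈ Q := by
    have := mem_zpowers_of_orderOf_eq x n hxord y z hyx hzx hyp hy1 hzp
    exact (zpowers_le.mpr hyQ) this
  -- `Z = ⟨z⟩` is normal
  have hconj : ∀ g : K, g * z * g⁻¹ ∈ zpowers z := by
    intro g
    have h1 : g * z * g⁻¹ ∈ zpowers x := hPx ▸ hQP (hQn.conj_mem z hzQ g)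
    have h2 : (g * z * g⁻¹) ^ p = 1 := by rw [conj_pow, hzp]; group
    exact mem_zpowers_of_orderOf_eq x n hxord z _ hzx h1 hzp hz1 h2
  have hZn : (zpowers z).Normal := by
    refine ⟨fun a ha g => ?_⟩
    obtain ⟨j, rfl⟩ := mem_zpowers_iff.mp ha
    rw [← conj_zpow]
    exact zpow_mem (hconj g) j
  set C := centralizer ((zpowers z : Subgroup K) : Set K) with hC
  have hCn : C.Normal := normal_centralizer
  have hPC : (P : Subgroup K) ≤ C := by
    intro w hw
    rw [hC, mem_centralizer_iff]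
    intro v hv
    rw [hPx] at hw
    obtain ⟨a, rfl⟩ := mem_zpowers_iff.mp hw
    obtain ⟨b, rfl⟩ := mem_zpowers_iff.mp hv
    exact ((((Commute.refl x).pow_left _).zpow_left b).zpow_right a).eq
  have hCcore : Cfsg.pPrimeCore p ↥C = ⊥ := by
    rw [Cfsg.Agent.Lib.Helper9.pPrimeCore_subnormal_eq hCn.isSubnormal, hO, bot_subgroupOf]
  -- Burnside's transfer theorem inside `C`
  set P' : Sylow p ↥C := P.subtype hPC with hP'
  have hmemP' : ∀ c : ↥C, c ∈ (P' : Subgroup ↥C) ↔ (c : K) ∈ (P : Subgroup K) := by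
    intro c
    rw [hP', Sylow.coe_subtype, mem_subgroupOf]
  have hNC : normalizer ((P' : Subgroup ↥C) : Set ↥C) ≤ centralizer ((P' : Subgroup ↥C) : Set ↥C) := by
    intro g' hg'
    have hgN : (g' : K) ∈ normalizer ((P : Subgroup K) : Set K) := by
      rw [mem_normalizer_iff]
      intro w
      constructor
      · intro hw
        have := (mem_normalizer_iff.mp hg' ⟨w, hPC hw⟩).mp ((hmemP' _).mpr hw)
        exact (hmemP' _).mp this
      · intro hw
        have hwC : w ∈ C := by
          have h1 : (g' : K)⁻¹ * ((g' : K) * w * (g' : K)⁻¹) * (g' : K) ∈ C :=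
            C.mul_mem (C.mul_mem (C.inv_mem g'.2) (hPC hw)) g'.2
          have h2 : (g' : K)⁻¹ * ((g' : K) * w * (g' : K)⁻¹) * (g' : K) = w := by group
          rwa [h2] at h1
        have := (mem_normalizer_iff.mp hg' ⟨w, hwC⟩).mpr ((hmemP' _).mpr hw)
        exact (hmemP' _).mp this
    have hgz : (g' : K) * x ^ p ^ (n - 1) * (g' : K)⁻¹ = x ^ p ^ (n - 1) := by
      have hg'C : (g' : K) ∈ centralizer ((zpowers z : Subgroup K) : Set K) := g'.2
      rw [mem_centralizer_iff] at hg'C
      have h1 := hg'C z (mem_zpowers z)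
      calc (g' : K) * z * (g' : K)⁻¹ = z * (g' : K) * (g' : K)⁻¹ := by rw [h1]
        _ = z := by group
    have hgc := mem_centralizer_of_commute_omega P x n hPx hxord (g' : K) hgN hgz
    rw [mem_centralizer_iff] at hgc ⊢
    intro w hw
    apply Subtype.ext
    exact hgc (w : K) ((hmemP' w).mp hw)
  have hcomp := MonoidHom.ker_transferSylow_isComplement' P' hNC
  have hMcop : (Nat.card (MonoidHom.transferSylow P' hNC).ker).Coprime p :=
    ((Nat.Prime.coprime_iff_not_dvd hpp).mpr (MonoidHom.not_dvd_card_ker_transferSylow P' hNC)).symm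
  have hMbot : (MonoidHom.transferSylow P' hNC).ker = ⊥ := by
    rw [eq_bot_iff, ← hCcore]
    exact Cfsg.Agent.Lib.Helper1.le_pPrimeCore inferInstance hMcop
  rw [hMbot, isComplement'_bot_left] at hcomp
  have hCP : C = (P : Subgroup K) := by
    apply le_antisymm _ hPC
    intro c hc
    have : (⟨c, hc⟩ : ↥C) ∈ (P' : Subgroup ↥C) := by rw [hcomp]; exact mem_top _
    exact (hmemP' _).mp this
  have hPn : (P : Subgroup K).Normal := hCP ▸ hCn
  have hcentP : centralizer ((P : Subgroup K) : Set K) = (P : Subgroup K) := by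
    apply le_antisymm
    · calc centralizer ((P : Subgroup K) : Set K) ≤ C := by
            rw [hC]
            apply centralizer_le
            intro w hw
            rw [SetLike.mem_coe, hPx]
            exact (zpowers_le.mpr hzx) hw
        _ = P := hCP
    · intro w hw
      rw [mem_centralizer_iff]
      intro v hv
      rw [hPx] at hw
      rw [SetLike.mem_coe, hPx] at hv
      obtain ⟨a, rfl⟩ := mem_zpowers_iff.mp hw
      obtain ⟨b, rfl⟩ := mem_zpowers_iff.mp hv
      exact (((Commute.refl x).zpow_left b).zpow_right a).eq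
  -- the quotient embeds into `Aut(Z)`
  have hker : (MulAut.conjNormal (H := zpowers z)).ker = (P : Subgroup K) := by
    rw [← hCP, hC]
    ext g
    rw [MonoidHom.mem_ker, mem_centralizer_iff]
    constructor
    · intro h v hv
      have := congrArg (fun f : MulAut (zpowers z) => ((f ⟨v, hv⟩ : zpowers z) : K)) h
      simp only [MulAut.conjNormal_apply, MulAut.one_apply] at this
      calc v * g = (g * v * g⁻¹) * g := by rw [this]
        _ = g * v := by group
    · intro h
      ext v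
      rw [MulAut.conjNormal_apply, MulAut.one_apply]
      have := h (v : K) v.2
      calc g * (v : K) * g⁻¹ = (v : K) * g * g⁻¹ := by rw [this]
        _ = v := by group
  have hcardZ : Nat.card (zpowers z) = p := by rw [Nat.card_zpowers, hzord]
  obtain ⟨hcycAut, hcardAut⟩ := isCyclic_mulAut_of_prime_card (p := p) hcardZ
  refine ⟨hPn, hcentP, ?_, ?_⟩
  · intro hPn'
    exact (isCyclic_quotient_of_ker_eq (MulAut.conjNormal (H := zpowers z)) (P : Subgroup K) hker).1
  · have h1 := (isCyclic_quotient_of_ker_eq (MulAut.conjNormal (H := zpowers z))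
      (P : Subgroup K) hker).2
    rw [← Subgroup.index_eq_card, hcardAut] at h1
    exact h1

/-- the Fitting subgroup is trivial when `O_p` and `O_{p'}` are -/
theorem fitting_eq_bot (hO : Cfsg.pPrimeCore p K = ⊥) (hQ : Cfsg.pCore p K = ⊥) :
    Cfsg.fittingSubgroup K = ⊥ := by
  have hpp : p.Prime := Fact.out
  rw [Cfsg.Agent.Lib.Helper1.fittingSubgroup_eq_iSup_primes, iSup_eq_bot]
  intro q
  by_cases hqp : (q : ℕ) = p
  · rw [hqp]; exact hQ
  · rw [eq_bot_iff, ← hO]
    apply Cfsg.Agent.Lib.Helper1.le_pPrimeCore (Cfsg.Agent.Lib.Helper1.pCore_normal (q : ℕ))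
    have : Fact (q : ℕ).Prime := ⟨q.2⟩
    obtain ⟨e, he⟩ := (Cfsg.Agent.Lib.Helper1.pCore_isPGroup (G := K) (q : ℕ)).exists_card_eq
    rw [he]
    exact Nat.Coprime.pow_left e ((Nat.coprime_primes q.2 hpp).mpr hqp)

/-- every component has trivial centre and order divisible by `p` -/
theorem comp_props (hO : Cfsg.pPrimeCore p K = ⊥) (hF : Cfsg.fittingSubgroup K = ⊥)
    {L : Subgroup K} (hL : Cfsg.IsComponent L) : center ↥L = ⊥ ∧ p ∣ Nat.card L := by
  have hpp : p.Prime := Fact.out
  constructor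
  · have hn : (center ↥L).Normal := inferInstance
    have hsn : ((center ↥L).map L.subtype).IsSubnormal :=
      Subgroup.IsSubnormal.trans' hn.isSubnormal hL.1
    have hnil : Group.IsNilpotent ↥((center ↥L).map L.subtype) := by
      have : IsMulCommutative ↥((center ↥L).map L.subtype) := inferInstance
      exact isNilpotent_of_isMulCommutative
    have hle := subnormal_nilpotent_le_fitting hsn hnil
    rw [hF, le_bot_iff] at hle
    exact (map_eq_bot_iff_of_injective _ L.subtype_injective).mp hle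
  · by_contra hnd
    have hcop : (Nat.card L).Coprime p := ((Nat.Prime.coprime_iff_not_dvd hpp).mpr hnd).symm
    have hle := Cfsg.Agent.Lib.Helper10.subnormal_coprime_le_pPrimeCore p hL.1 hcop
    rw [hO, le_bot_iff] at hle
    exact comp_ne_bot hL hle

/-- an element of order `p` in a subgroup of order divisible by `p` -/
theorem exists_orderOf_eq (L : Subgroup K) (h : p ∣ Nat.card L) : ∃ y ∈ L, orderOf y = p := by
  obtain ⟨y', hy'⟩ := exists_prime_orderOf_dvd_card' p h
  exact ⟨(y' : K), y'.2, by rw [Subgroup.orderOf_coe]; exact hy'⟩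

/-- two distinct components cannot both have order divisible by `p` when the Sylow
`p`-subgroups are cyclic -/
theorem comp_unique (P : Sylow p K) (hP : IsCyclic ↥(P : Subgroup K))
    {L₁ L₂ : Subgroup K} (h₁ : Cfsg.IsComponent L₁) (h₂ : Cfsg.IsComponent L₂)
    (hc₁ : center ↥L₁ = ⊥) (hp₁ : p ∣ Nat.card L₁) (hp₂ : p ∣ Nat.card L₂) : L₁ = L₂ := by
  have hpp : p.Prime := Fact.out
  by_contra hne
  have hcomm := comp_commutator_eq_bot_of_ne h₁ h₂ hne
  rw [commutator_eq_bot_iff_le_centralizer] at hcomm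
  obtain ⟨x₁, hx₁L, hx₁⟩ := exists_orderOf_eq L₁ hp₁
  obtain ⟨x₂, hx₂L, hx₂⟩ := exists_orderOf_eq L₂ hp₂
  have hcomm12 : Commute x₁ x₂ := by
    have := hcomm hx₁L
    rw [mem_centralizer_iff] at this
    exact (this x₂ hx₂L).symm
  have hA : IsPGroup p (zpowers x₁ ⊔ zpowers x₂ : Subgroup K) := by
    apply IsPGroup.to_sup_of_normal_right'
    · exact IsPGroup.of_card (n := 1) (by rw [Nat.card_zpowers, hx₁, pow_one])
    · exact IsPGroup.of_card (n := 1) (by rw [Nat.card_zpowers, hx₂, pow_one])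
    · rw [zpowers_le]
      apply (centralizer_le_normalizer _)
      rw [mem_centralizer_iff]
      intro w hw
      obtain ⟨b, rfl⟩ := mem_zpowers_iff.mp hw
      exact (hcomm12.zpow_right b).eq.symm
  obtain ⟨P₂, hP₂⟩ := hA.exists_le_sylow
  have hP₂cyc : IsCyclic ↥(P₂ : Subgroup K) :=
    (Sylow.equiv P₂ P).isCyclic.mpr hP
  obtain ⟨x, n, hPx, hxord⟩ := exists_generator P₂ hP₂cyc
  have hx₁x : x₁ ∈ zpowers x := hPx ▸ hP₂ ((le_sup_left : zpowers x₁ ≤ _) (mem_zpowers x₁))
  have hx₂x : x₂ ∈ zpowers x := hPx ▸ hP₂ ((le_sup_right : zpowers x₂ ≤ _) (mem_zpowers x₂))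
  have hx₁p : x₁ ^ p = 1 := by rw [← hx₁]; exact pow_orderOf_eq_one _
  have hx₂p : x₂ ^ p = 1 := by rw [← hx₂]; exact pow_orderOf_eq_one _
  have hx₁1 : x₁ ≠ 1 := by
    intro h; rw [h, orderOf_one] at hx₁; exact hpp.one_lt.ne hx₁
  have hx₂1 : x₂ ≠ 1 := by
    intro h; rw [h, orderOf_one] at hx₂; exact hpp.one_lt.ne hx₂
  have h21 : x₂ ∈ zpowers x₁ := mem_zpowers_of_orderOf_eq x n hxord x₁ x₂ hx₁x hx₂x hx₁p hx₁1 hx₂p
  have hx₂L₁ : x₂ ∈ L₁ := (zpowers_le.mpr hx₁L) h21
  -- `x₂` is central in `L₁`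
  have hcen : (⟨x₂, hx₂L₁⟩ : ↥L₁) ∈ center ↥L₁ := by
    rw [mem_center_iff]
    intro a
    apply Subtype.ext
    have := hcomm a.2
    rw [mem_centralizer_iff] at this
    exact (this x₂ hx₂L).symm
  rw [hc₁, mem_bot] at hcen
  exact hx₂1 (congrArg Subtype.val hcen)

/-- transfer of normalizer membership from a subgroup `H ≥ P` to the ambient group -/
theorem coe_mem_normalizer (P : Sylow p K) (H : Subgroup K) (hPH : (P : Subgroup K) ≤ H)
    (g' : ↥H) (hg' : g' ∈ normalizer (((P.subtype hPH : Sylow p ↥H) : Subgroup ↥H) : Set ↥H)) :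
    (g' : K) ∈ normalizer ((P : Subgroup K) : Set K) := by
  have hmemP' : ∀ c : ↥H, c ∈ ((P.subtype hPH : Sylow p ↥H) : Subgroup ↥H) ↔
      (c : K) ∈ (P : Subgroup K) := by
    intro c
    rw [Sylow.coe_subtype, mem_subgroupOf]
  rw [mem_normalizer_iff]
  intro w
  constructor
  · intro hw
    have := (mem_normalizer_iff.mp hg' ⟨w, hPH hw⟩).mp ((hmemP' _).mpr hw)
    exact (hmemP' _).mp this
  · intro hw
    have hwC : w ∈ H := by
      have h1 : (g' : K)⁻¹ * ((g' : K) * w * (g' : K)⁻¹) * (g' : K) ∈ H :=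
        H.mul_mem (H.mul_mem (H.inv_mem g'.2) (hPH hw)) g'.2
      have h2 : (g' : K)⁻¹ * ((g' : K) * w * (g' : K)⁻¹) * (g' : K) = w := by group
      rwa [h2] at h1
    have := (mem_normalizer_iff.mp hg' ⟨w, hwC⟩).mpr ((hmemP' _).mpr hw)
    exact (hmemP' _).mp this

theorem caseB (hp : p ∣ Nat.card K) (hO : Cfsg.pPrimeCore p K = ⊥) (P : Sylow p K)
    (hP : IsCyclic ↥(P : Subgroup K)) (hQ : Cfsg.pCore p K = ⊥) :
    IsSimpleGroup ↥(Cfsg.generalizedFittingSubgroup K) ∧
      ¬ IsMulCommutative ↥(Cfsg.generalizedFittingSubgroup K) ∧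
      ¬ p ∣ (Cfsg.generalizedFittingSubgroup K).index := by
  have hpp : p.Prime := Fact.out
  have hF := fitting_eq_bot hO hQ
  have hgfs : Cfsg.generalizedFittingSubgroup K = Cfsg.layer K := by
    unfold Cfsg.generalizedFittingSubgroup; rw [hF, sup_bot_eq]
  -- a component exists
  obtain ⟨L, hL⟩ : ∃ L : Subgroup K, Cfsg.IsComponent L := by
    by_contra hcon
    push Not at hcon
    have hlayer : Cfsg.layer K = ⊥ := by
      unfold Cfsg.layer
      rw [sSup_eq_bot]
      intro L hL; exact absurd hL (hcon L)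
    have h1 := centralizer_gfs_le (G := K)
    rw [hgfs, hlayer] at h1
    have h2 : (⊤ : Subgroup K) ≤ ⊥ := by
      refine le_trans ?_ h1
      intro g _
      rw [mem_centralizer_iff]
      intro y hy
      rw [SetLike.mem_coe, mem_bot] at hy; subst hy; simp
    have h3 : Nat.card K = 1 := by
      have : (⊤ : Subgroup K) = ⊥ := le_bot_iff.mp h2
      rw [← Subgroup.card_top, this, Subgroup.card_bot]
    rw [h3] at hp
    exact hpp.one_lt.ne' (Nat.dvd_one.mp hp)
  obtain ⟨hcL, hpL⟩ := comp_props hO hF hL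
  have huniq : ∀ L' : Subgroup K, Cfsg.IsComponent L' → L' = L := by
    intro L' hL'
    obtain ⟨hcL', hpL'⟩ := comp_props hO hF hL'
    exact comp_unique P hP hL' hL hcL' hpL' hpL
  have hlayer : Cfsg.layer K = L := by
    apply le_antisymm
    · unfold Cfsg.layer
      exact sSup_le (fun L' hL' => (huniq L' hL').le)
    · exact comp_le_layer hL
  rw [hgfs, hlayer]
  have hLn : L.Normal := hlayer ▸ (layer_normal (G := K))
  have hLnt : Nontrivial ↥L := qs_nontrivial hL.2
  have hsimple : IsSimpleGroup ↥L := by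
    have hs : IsSimpleGroup (↥L ⧸ center ↥L) := hL.2.2
    have hbij : Function.Bijective (QuotientGroup.mk' (center ↥L)) := by
      refine ⟨?_, QuotientGroup.mk'_surjective _⟩
      rw [← MonoidHom.ker_eq_bot_iff, QuotientGroup.ker_mk', hcL]
    exact (MulEquiv.ofBijective (QuotientGroup.mk' (center ↥L)) hbij).isSimpleGroup
  have hnc : ¬ IsMulCommutative ↥L := by
    intro hc
    obtain ⟨a, b, hab⟩ := exists_pair_ne ↥L
    have hcen : ∀ a : ↥L, a = 1 := by
      intro a
      have : a ∈ center ↥L := by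
        rw [mem_center_iff]; intro b; exact hc.is_comm.comm b a
      rwa [hcL, mem_bot] at this
    exact hab ((hcen a).trans (hcen b).symm)
  refine ⟨hsimple, hnc, ?_⟩
  intro hdvd
  have hPL : ¬ (P : Subgroup K) ≤ L := by
    intro h
    exact P.not_dvd_index (dvd_trans hdvd (Subgroup.index_dvd_of_le h))
  obtain ⟨x, n, hPx, hxord⟩ := exists_generator P hP
  have hxL : x ∉ L := fun h => hPL (hPx ▸ zpowers_le.mpr h)
  have hxP : x ∈ (P : Subgroup K) := hPx ▸ mem_zpowers x
  set H : Subgroup K := L ⊔ (P : Subgroup K) with hH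
  have hLH : L ≤ H := le_sup_left
  have hPH : (P : Subgroup K) ≤ H := le_sup_right
  have hmemP' : ∀ c : ↥H, c ∈ ((P.subtype hPH : Sylow p ↥H) : Subgroup ↥H) ↔
      (c : K) ∈ (P : Subgroup K) := by
    intro c
    rw [Sylow.coe_subtype, mem_subgroupOf]
  have hNC : normalizer (((P.subtype hPH : Sylow p ↥H) : Subgroup ↥H) : Set ↥H) ≤
      centralizer (((P.subtype hPH : Sylow p ↥H) : Subgroup ↥H) : Set ↥H) := by
    intro g' hg'
    have hgN := coe_mem_normalizer P H hPH g' hg'
    have hgz : (g' : K) * x ^ p ^ (n - 1) * (g' : K)⁻¹ = x ^ p ^ (n - 1) := by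
      by_contra hne
      apply hxL
      have hgx : (g' : K) * x * (g' : K)⁻¹ ∈ zpowers x := by
        rw [← hPx]; exact (mem_normalizer_iff.mp hgN x).mp hxP
      obtain ⟨k, hk⟩ := mem_powers_iff_mem_zpowers.mpr hgx
      have hk' : x ^ k = (g' : K) * x * (g' : K)⁻¹ := hk
      have hcL' : (g' : K) * x * (g' : K)⁻¹ * x⁻¹ ∈ L := by
        obtain ⟨l, hl, s, hs, hls⟩ := mem_sup_of_normal_left.mp g'.2
        have hsx : s * x = x * s := by
          rw [hPx] at hs
          obtain ⟨a, rfl⟩ := mem_zpowers_iff.mp hs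
          exact ((Commute.refl x).zpow_left a).eq
        have h1 : (g' : K) * x * (g' : K)⁻¹ * x⁻¹ = l * (x * l⁻¹ * x⁻¹) := by
          rw [← hls]
          calc l * s * x * (l * s)⁻¹ * x⁻¹ = l * (s * x) * s⁻¹ * l⁻¹ * x⁻¹ := by group
            _ = l * (x * s) * s⁻¹ * l⁻¹ * x⁻¹ := by rw [hsx]
            _ = l * (x * l⁻¹ * x⁻¹) := by group
        rw [h1]; exact L.mul_mem hl (hLn.conj_mem _ (L.inv_mem hl) x)
      rcases Nat.eq_zero_or_pos k with hk0 | hkpos
      · -- then `x = 1`
        rw [hk0, pow_zero] at hk'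
        have : x = 1 := by
          calc x = (g' : K)⁻¹ * ((g' : K) * x * (g' : K)⁻¹) * (g' : K) := by group
            _ = 1 := by rw [← hk']; group
        rw [this]; exact L.one_mem
      · have hc : (g' : K) * x * (g' : K)⁻¹ * x⁻¹ = x ^ (k - 1) := by
          rw [← hk']
          have : x ^ k = x ^ (k - 1) * x := by rw [← pow_succ]; congr 1; omega
          rw [this]; group
        rw [hc] at hcL'
        have hnd : ¬ p ∣ k - 1 := by
          intro hd
          apply hne
          obtain ⟨t, ht⟩ := hd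
          have hkt : k = 1 + p * t := by omega
          have hn0 : n ≠ 0 := by
            rintro rfl
            rw [pow_zero, orderOf_eq_one_iff] at hxord
            exact hxL (hxord ▸ L.one_mem)
          have hzp : (x ^ p ^ (n - 1)) ^ p = 1 := by
            rw [← pow_mul, ← pow_succ]
            have : n - 1 + 1 = n := by omega
            rw [this, ← hxord, pow_orderOf_eq_one]
          calc (g' : K) * x ^ p ^ (n - 1) * (g' : K)⁻¹ = ((g' : K) * x * (g' : K)⁻¹) ^ p ^ (n - 1) := by
                rw [conj_pow]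
            _ = (x ^ k) ^ p ^ (n - 1) := by rw [hk']
            _ = (x ^ p ^ (n - 1)) ^ k := by rw [← pow_mul, ← pow_mul, mul_comm]
            _ = x ^ p ^ (n - 1) := by
                rw [hkt, pow_add, pow_one, pow_mul, hzp, one_pow, mul_one]
        have hcop : (k - 1).Coprime (orderOf x) := by
          rw [hxord]
          exact Nat.Coprime.pow_right n ((Nat.Prime.coprime_iff_not_dvd hpp).mpr hnd).symm
        obtain ⟨m, hm⟩ := exists_pow_eq_self_of_coprime hcop
        rw [← hm]
        exact L.pow_mem hcL' m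
    have hgc := mem_centralizer_of_commute_omega P x n hPx hxord (g' : K) hgN hgz
    rw [mem_centralizer_iff] at hgc ⊢
    intro w hw
    apply Subtype.ext
    exact hgc (w : K) ((hmemP' w).mp hw)
  have hcomp := MonoidHom.ker_transferSylow_isComplement' (P.subtype hPH) hNC
  have hMnd := MonoidHom.not_dvd_card_ker_transferSylow (P.subtype hPH) hNC
  set M := (MonoidHom.transferSylow (P.subtype hPH) hNC).ker with hM
  let f : ↥L →* ↥H ⧸ M := (QuotientGroup.mk' M).comp (Subgroup.inclusion hLH)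
  rcases (inferInstance : f.ker.Normal).eq_bot_or_eq_top with hker | hker
  · -- `L` embeds in a `p`-group
    have hinj : Function.Injective f := (MonoidHom.ker_eq_bot_iff f).mp hker
    have h1 : Nat.card ↥L ∣ Nat.card (↥H ⧸ M) := Subgroup.card_dvd_of_injective f hinj
    rw [← Subgroup.index_eq_card, hcomp.symm.index_eq_card] at h1
    obtain ⟨e, he⟩ := ((P.subtype hPH).2 : IsPGroup p ((P.subtype hPH : Sylow p ↥H) : Subgroup ↥H)).exists_card_eq
    rw [he] at h1
    obtain ⟨j, -, hj⟩ := (Nat.dvd_prime_pow hpp).1 h1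
    have hLp : IsPGroup p ↥L := IsPGroup.of_card hj
    have := hLp.center_nontrivial
    rw [Subgroup.nontrivial_iff_ne_bot] at this
    exact this hcL
  · -- `L ≤ M`, impossible since `p ∣ |L|`
    apply hMnd
    have hle : L.subgroupOf H ≤ M := by
      intro c hc
      have hcL' : (c : K) ∈ L := mem_subgroupOf.mp hc
      have : (⟨(c : K), hcL'⟩ : ↥L) ∈ f.ker := by rw [hker]; exact mem_top _
      rw [MonoidHom.mem_ker] at this
      have h2 : f ⟨(c : K), hcL'⟩ = QuotientGroup.mk' M c := rfl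
      rw [h2, QuotientGroup.mk'_apply, QuotientGroup.eq_one_iff] at this
      exact this
    have h3 : Nat.card (L.subgroupOf H) = Nat.card L :=
      Nat.card_congr (Subgroup.subgroupOfEquivOfLe hLH).toEquiv
    exact dvd_trans hpL (h3 ▸ card_dvd_of_le hle)

end aux

/-- Let K be a finite group, p a prime dividing its order with O_{p'}(K) = 1 (no nontrivial normal subgroup of order prime to p), and P a cyclic Sylow p-subgroup of K. Then either P is normal and self-centralizing in K with K/P cyclic of order dividing p − 1 (so K is the semidirect product of P by a group of automorphisms of P of order dividing p − 1), or the generalized Fitting subgroup F*(K) is a non-abelian simple group and p does not divide the index of F*(K) in K. -/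
theorem result {K : Type*} [Group K] [Finite K] (p : ℕ) [Fact p.Prime] (hp : p ∣ Nat.card K) (hO : Cfsg.pPrimeCore p K = ⊥)
    (P : Sylow p K) (hP : IsCyclic ↥(P : Subgroup K)) :
    ((P : Subgroup K).Normal ∧ Subgroup.centralizer ((P : Subgroup K) : Set K) = (P : Subgroup K) ∧
      (∀ (_ : (P : Subgroup K).Normal), IsCyclic (K ⧸ (P : Subgroup K))) ∧ (P : Subgroup K).index ∣ p - 1) ∨
    (IsSimpleGroup ↥(Cfsg.generalizedFittingSubgroup K) ∧ ¬ IsMulCommutative ↥(Cfsg.generalizedFittingSubgroup K) ∧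
      ¬ p ∣ (Cfsg.generalizedFittingSubgroup K).index) := by
  by_cases hQ : Cfsg.pCore p K = ⊥
  · exact Or.inr (caseB hp hO P hP hQ)
  · exact Or.inl (caseA hp hO P hP hQ)

end Cfsg.Agent.S4403
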