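import Mathlib
import Cfsg.Statements.S4405
import Cfsg.Agent.Lib.Helper1.Cores
import Cfsg.Agent.Lib.Helper1.ExtraspecialTwo

set_option autoImplicit false
open Cfsg
open scoped commutatorElement

namespace Cfsg.Agent.S4405

/-- Key computation: an involutory automorphism `τ` inverting an automorphism `α` of order 5 with
central fixed points cannot fix an element of order 4 of an extraspecial 2-group. -/
theorem keyA {E : Type*} [Group E] (α τ : E ≃* E)
    (hα5 : ∀ x, α (α (α (α (α x)))) = x)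
    (hτα : ∀ x, α (τ (α x)) = τ x)
    (hfix : ∀ x, α x = x → x ∈ Subgroup.center E)
    (hsq : ∀ g : E, g ^ 2 ∈ Subgroup.center E)
    (hZ2 : ∀ c ∈ Subgroup.center E, c ^ 2 = 1)
    (hαZ : ∀ c ∈ Subgroup.center E, α c = c)
    (hτZ : ∀ c ∈ Subgroup.center E, τ c = c)
    (hcl : ∀ a b : E, ⁅a, b⁆ ∈ Subgroup.center E)
    (h : E) (hτh : τ h = h) : h ^ 2 = 1 := by
  obtain ⟨h1, e1⟩ : ∃ y, α h = y := ⟨_, rfl⟩
  obtain ⟨h2, e2⟩ : ∃ y, α h1 = y := ⟨_, rfl⟩
  obtain ⟨h3, e3⟩ : ∃ y, α h2 = y := ⟨_, rfl⟩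
  obtain ⟨h4, e4⟩ : ∃ y, α h3 = y := ⟨_, rfl⟩
  have e5 : α h4 = h := by rw [← e4, ← e3, ← e2, ← e1]; exact hα5 h
  have t1 : τ h1 = h4 := α.injective (by rw [← e1, hτα, hτh, e5])
  have t2 : τ h2 = h3 := α.injective (by rw [← e2, hτα, t1, e4])
  have t3 : τ h3 = h2 := α.injective (by rw [← e3, hτα, t2, e3])
  have t4 : τ h4 = h1 := α.injective (by rw [← e4, hτα, t3, e2])
  obtain ⟨p, hp⟩ : ∃ y, h * h1 * h2 * h3 * h4 = y := ⟨_, rfl⟩
  have hαp : α p = h1 * h2 * h3 * h4 * h := by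
    rw [← hp]; simp only [map_mul, e1, e2, e3, e4, e5]
  have hc : α p = p * ⁅p⁻¹, h⁻¹⁆ := by
    rw [hαp, ← hp, commutatorElement_def]; group
  have hcZ := hcl p⁻¹ h⁻¹
  have hαα : α (α p) = p := by
    rw [hc, map_mul, hαZ _ hcZ, hc, mul_assoc, ← pow_two, hZ2 _ hcZ, mul_one]
  have h5 := hα5 p
  rw [hαα, hαα] at h5
  have hpZ : p ∈ Subgroup.center E := hfix p h5
  have hτp : τ p = h * h4 * h3 * h2 * h1 := by
    rw [← hp]; simp only [map_mul, hτh, t1, t2, t3, t4]
  have heq : h * h4 * h3 * h2 * h1 = h * h1 * h2 * h3 * h4 := by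
    rw [← hτp, hp]; exact hτZ p hpZ
  simp only [mul_assoc] at heq
  have hw : h4 * (h3 * (h2 * h1)) = h1 * (h2 * (h3 * h4)) := mul_left_cancel heq
  have hs := hsq h
  have hsc : ∀ g : E, g * h ^ 2 = h ^ 2 * g := Subgroup.mem_center_iff.mp hs
  have q1 : h1 ^ 2 = h ^ 2 := by rw [← e1, ← map_pow, hαZ _ hs]
  have q2 : h2 ^ 2 = h ^ 2 := by rw [← e2, ← map_pow, q1, hαZ _ hs]
  have q3 : h3 ^ 2 = h ^ 2 := by rw [← e3, ← map_pow, q2, hαZ _ hs]
  have q4 : h4 ^ 2 = h ^ 2 := by rw [← e4, ← map_pow, q3, hαZ _ hs]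
  have hss : h ^ 2 * h ^ 2 = 1 := by rw [← pow_two]; exact hZ2 _ hs
  have m0 : h4 * h4 = h ^ 2 := by rw [← pow_two, q4]
  have m1 : h3 * h ^ 2 * h3 = 1 := by rw [hsc h3, mul_assoc, ← pow_two, q3, hss]
  have m2 : h2 * h2 = h ^ 2 := by rw [← pow_two, q2]
  have m3 : h1 * h ^ 2 * h1 = 1 := by rw [hsc h1, mul_assoc, ← pow_two, q1, hss]
  obtain ⟨w, hwdef⟩ : ∃ y, h1 * (h2 * (h3 * h4)) = y := ⟨_, rfl⟩
  have hww : w * w = 1 := by
    calc w * w = (h1 * (h2 * (h3 * h4))) * (h4 * (h3 * (h2 * h1))) := by rw [hw, hwdef]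
      _ = h1 * (h2 * (h3 * (h4 * h4) * h3) * h2) * h1 := by simp only [mul_assoc]
      _ = h1 * (h2 * 1 * h2) * h1 := by rw [m0, m1]
      _ = h1 * h ^ 2 * h1 := by rw [mul_one, m2]
      _ = 1 := m3
  have hpw : p = h * w := by rw [← hp, ← hwdef]; simp only [mul_assoc]
  have hpc : w * p = p * w := Subgroup.mem_center_iff.mp hpZ w
  have hpp : p * p = 1 := by rw [← pow_two]; exact hZ2 _ hpZ
  have winv : w⁻¹ = w := inv_eq_of_mul_eq_one_left hww
  have hh : h = p * w := by rw [hpw, mul_assoc, hww, mul_one]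
  calc h ^ 2 = (p * w) * (p * w) := by rw [pow_two, ← hh]
    _ = p * (w * p) * w := by simp only [mul_assoc]
    _ = (p * p) * (w * w) := by rw [hpc]; simp only [mul_assoc]
    _ = 1 := by rw [hpp, hww, mul_one]

/-- Existence of an element of order 5 inverted by the involution `T`. -/
theorem exists_inverted {G : Type*} [Group G] [Finite G] (H : Subgroup G) [H.Normal]
    (hHp : IsPGroup 2 H)
    (hmax : ∀ N : Subgroup G, N.Normal → IsPGroup 2 N → N ≤ H)
    (hQ : Nat.card (G ⧸ H) = 10) (T : G) (hT2 : T * T = 1) (hTH : T ∉ H) :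
    ∃ f : G, orderOf f = 5 ∧ T * f * T⁻¹ = f⁻¹ := by
  classical
  have : Fact (Nat.Prime 2) := ⟨Nat.prime_two⟩
  have : Fact (Nat.Prime 5) := ⟨by norm_num⟩
  have hTinv : T⁻¹ = T := inv_eq_of_mul_eq_one_left hT2
  obtain ⟨π, hπ⟩ : ∃ π : G →* G ⧸ H, π = QuotientGroup.mk' H := ⟨_, rfl⟩
  have hker : ∀ x : G, π x = 1 ↔ x ∈ H := by
    intro x; rw [hπ]; exact QuotientGroup.eq_one_iff x
  have hsurj : Function.Surjective π := by rw [hπ]; exact QuotientGroup.mk'_surjective H
  have htne : π T ≠ 1 := fun h => hTH ((hker T).mp h)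
  have htt : π T * π T = 1 := by rw [← map_mul, hT2, map_one]
  have htinv : (π T)⁻¹ = π T := inv_eq_of_mul_eq_one_left htt
  have hto : orderOf (π T) = 2 := orderOf_eq_prime (by rw [pow_two]; exact htt) htne
  obtain ⟨g, hg⟩ := exists_prime_orderOf_dvd_card' (G := G ⧸ H) 5 (by rw [hQ]; norm_num)
  have hCcard : Nat.card (Subgroup.zpowers g) = 5 := by rw [Nat.card_zpowers, hg]
  have hCidx : (Subgroup.zpowers g).index = 2 := by
    have := Subgroup.card_mul_index (Subgroup.zpowers g)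
    rw [hCcard, hQ] at this; omega
  have hCn : (Subgroup.zpowers g).Normal := Subgroup.normal_of_index_eq_two hCidx
  by_cases hcomm : π T * g = g * π T
  · exfalso
    have hcent : Subgroup.centralizer ({π T} : Set (G ⧸ H)) = ⊤ := by
      apply (Subgroup.card_eq_iff_eq_top _).mp
      have h2 : 2 ∣ Nat.card (Subgroup.centralizer ({π T} : Set (G ⧸ H))) := by
        have hle : Subgroup.zpowers (π T) ≤ Subgroup.centralizer ({π T} : Set (G ⧸ H)) := by
          rw [Subgroup.zpowers_le]; exact Subgroup.mem_centralizer_singleton_iff.mpr rfl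
        have := Subgroup.card_dvd_of_le hle
        rwa [Nat.card_zpowers, hto] at this
      have h5 : 5 ∣ Nat.card (Subgroup.centralizer ({π T} : Set (G ⧸ H))) := by
        have hle : Subgroup.zpowers g ≤ Subgroup.centralizer ({π T} : Set (G ⧸ H)) := by
          rw [Subgroup.zpowers_le]; exact Subgroup.mem_centralizer_singleton_iff.mpr hcomm.symm
        have := Subgroup.card_dvd_of_le hle
        rwa [hCcard] at this
      have h10 : 10 ∣ Nat.card (Subgroup.centralizer ({π T} : Set (G ⧸ H))) :=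
        Nat.Coprime.mul_dvd_of_dvd_of_dvd (by norm_num : Nat.Coprime 2 5) h2 h5
      have hd := Subgroup.card_subgroup_dvd_card (Subgroup.centralizer ({π T} : Set (G ⧸ H)))
      rw [hQ] at hd ⊢
      exact Nat.dvd_antisymm hd h10
    have hcentral : ∀ x : G ⧸ H, x * π T = π T * x := by
      intro x
      have : x ∈ Subgroup.centralizer ({π T} : Set (G ⧸ H)) := by rw [hcent]; exact Subgroup.mem_top x
      exact Subgroup.mem_centralizer_singleton_iff.mp this
    have hZn : (Subgroup.zpowers (π T)).Normal := ⟨fun n hn x => by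
      obtain ⟨k, rfl⟩ := Subgroup.mem_zpowers_iff.mp hn
      have hx : Commute x (π T) := hcentral x
      rw [(hx.zpow_right k).eq, mul_inv_cancel_right]
      exact Subgroup.zpow_mem_zpowers _ k⟩
    have hSn : ((Subgroup.zpowers (π T)).comap π).Normal := hZn.comap π
    have hSp : IsPGroup 2 ((Subgroup.zpowers (π T)).comap π) := by
      rintro ⟨x, hx⟩
      have hx' : π x ∈ Subgroup.zpowers (π T) := hx
      have hx2 : π x ^ 2 = 1 := by
        obtain ⟨k, hk⟩ := Subgroup.mem_zpowers_iff.mp hx'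
        rw [← hk, ← zpow_natCast, ← zpow_mul, mul_comm, zpow_mul, zpow_natCast, pow_two, htt, one_zpow]
      have hxH : x ^ 2 ∈ H := (hker _).mp (by rw [map_pow, hx2])
      obtain ⟨k, hk⟩ := hHp ⟨x ^ 2, hxH⟩
      refine ⟨k + 1, Subtype.ext ?_⟩
      have hk' : (x ^ 2) ^ 2 ^ k = 1 := congrArg Subtype.val hk
      show x ^ 2 ^ (k + 1) = 1
      rw [pow_succ', pow_mul, hk']
    have hle := hmax _ hSn hSp
    exact hTH (hle (show π T ∈ Subgroup.zpowers (π T) from Subgroup.mem_zpowers _))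
  · obtain ⟨g₀, hg₀⟩ := hsurj g
    obtain ⟨y, hy⟩ : ∃ y : G, y = T * (g₀ * T * g₀⁻¹) := ⟨_, rfl⟩
    have hπy : π y = π T * (g * π T * g⁻¹) := by
      rw [hy]; simp only [map_mul, map_inv, hg₀]
    have hmem : π y ∈ Subgroup.zpowers g := by
      have h1 : π T * g * (π T)⁻¹ ∈ Subgroup.zpowers g := hCn.conj_mem g (Subgroup.mem_zpowers g) (π T)
      have h2 : g⁻¹ ∈ Subgroup.zpowers g := Subgroup.inv_mem _ (Subgroup.mem_zpowers g)
      have h3 := Subgroup.mul_mem _ h1 h2
      rw [htinv] at h3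
      have : π y = π T * g * π T * g⁻¹ := by rw [hπy]; simp only [mul_assoc]
      rw [this]; exact h3
    have hne : π y ≠ 1 := by
      intro h1
      apply hcomm
      rw [hπy] at h1
      have h2 : g * π T * g⁻¹ = (π T)⁻¹ := eq_inv_of_mul_eq_one_right h1
      rw [htinv] at h2
      have h3 : g * π T = π T * g := by
        calc g * π T = (g * π T * g⁻¹) * g := by group
          _ = π T * g := by rw [h2]
      exact h3.symm
    have ho : orderOf (π y) = 5 := by
      apply orderOf_eq_prime _ hne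
      obtain ⟨k, hk⟩ := Subgroup.mem_zpowers_iff.mp hmem
      have hg5 : g ^ 5 = 1 := by rw [← hg]; exact pow_orderOf_eq_one g
      rw [← hk, ← zpow_natCast, ← zpow_mul, mul_comm, zpow_mul, zpow_natCast, hg5, one_zpow]
    have h5y : 5 ∣ orderOf y := by rw [← ho]; exact orderOf_map_dvd π y
    have hy0 : orderOf y ≠ 0 := (orderOf_pos y).ne'
    refine ⟨y ^ (orderOf y / 5), orderOf_pow_orderOf_div hy0 h5y, ?_⟩
    have hTy : T * y * T⁻¹ = y⁻¹ := by
      rw [hy, hTinv]
      have e : (T * (g₀ * T * g₀⁻¹))⁻¹ = g₀ * T * g₀⁻¹ * T := by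
        rw [mul_inv_rev, mul_inv_rev, mul_inv_rev, inv_inv, hTinv]; simp only [mul_assoc]
      rw [e]
      calc T * (T * (g₀ * T * g₀⁻¹)) * T = (T * T) * (g₀ * T * g₀⁻¹) * T := by simp only [mul_assoc]
        _ = g₀ * T * g₀⁻¹ * T := by rw [hT2, one_mul]
    rw [← conj_pow, hTy, inv_pow]

/-- Fixed points of an automorphism of order dividing 5 of a group of order 32 with centre of order 2. -/
theorem fixed_le_center {E : Type*} [Group E] [Finite E] (α : MulAut E)
    (hE : Nat.card E = 32) (hα5 : α ^ 5 = 1) (hZ : Nat.card (Subgroup.center E) = 2)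
    (hαZ : ∀ c ∈ Subgroup.center E, α c = c) (hnt : ¬ ∀ x, α x = x) :
    ∀ x, α x = x → x ∈ Subgroup.center E := by
  classical
  have : Fact (Nat.Prime 5) := ⟨by norm_num⟩
  let F : Subgroup E :=
    { carrier := {x | α x = x}
      mul_mem' := by intro a b ha hb; simp only [Set.mem_ofPred_eq] at *; rw [map_mul, ha, hb]
      one_mem' := map_one α
      inv_mem' := by intro a ha; simp only [Set.mem_ofPred_eq] at *; rw [map_inv, ha] }
  have hFmem : ∀ x, x ∈ F ↔ α x = x := fun x => Iff.rfl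
  have hP : IsPGroup 5 (Subgroup.zpowers α) := by
    rintro ⟨a, ha⟩
    obtain ⟨k, rfl⟩ := Subgroup.mem_zpowers_iff.mp ha
    refine ⟨1, Subtype.ext ?_⟩
    show (α ^ k) ^ 5 ^ 1 = 1
    rw [pow_one, ← zpow_natCast, ← zpow_mul, mul_comm, zpow_mul, zpow_natCast, hα5, one_zpow]
  have hmod := hP.card_modEq_card_fixedPoints E
  have hset : MulAction.fixedPoints (Subgroup.zpowers α) E = (F : Set E) := by
    ext x
    constructor
    · intro hx
      exact hx ⟨α, Subgroup.mem_zpowers α⟩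
    · intro hx g
      have hle : Subgroup.zpowers α ≤ MulAction.stabilizer (MulAut E) x := by
        rw [Subgroup.zpowers_le]; exact hx
      exact hle g.2
  rw [hset, hE] at hmod
  have hcardeq : Nat.card ↥(↑F : Set E) = Nat.card ↥F := rfl
  rw [hcardeq] at hmod
  have hF5 : Nat.card F % 5 = 2 := by
    have := hmod; unfold Nat.ModEq at this; omega
  have hdvd : Nat.card F ∣ 2 ^ 5 := by
    have := Subgroup.card_subgroup_dvd_card F
    rw [hE] at this; exact this
  obtain ⟨k, hk, hFk⟩ := (Nat.dvd_prime_pow Nat.prime_two).mp hdvd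
  intro x hx
  have hxF : x ∈ F := hx
  interval_cases k
  · rw [hFk] at hF5; norm_num at hF5
  · have hle : Subgroup.center E ≤ F := fun c hc => hαZ c hc
    have := Subgroup.eq_of_le_of_card_ge hle (by rw [hZ, hFk]; norm_num)
    rw [this]; exact hxF
  · rw [hFk] at hF5; norm_num at hF5
  · rw [hFk] at hF5; norm_num at hF5
  · rw [hFk] at hF5; norm_num at hF5
  · exfalso
    have htop : F = ⊤ := (Subgroup.card_eq_iff_eq_top F).mp (by rw [hFk, hE]; norm_num)
    apply hnt
    intro y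
    have : y ∈ F := by rw [htop]; exact Subgroup.mem_top y
    exact this

/-- An element of order 5 cannot centralize `H = O₂(G) = F(G)`. -/
theorem not_centralize {G : Type*} [Group G] [Finite G] (H : Subgroup G) [H.Normal]
    (hHp : IsPGroup 2 H) (hF : Cfsg.fittingSubgroup G ≤ H)
    (hQ : Nat.card (G ⧸ H) = 10)
    (f : G) (hf5 : orderOf f = 5) (hcen : ∀ x ∈ H, f * x * f⁻¹ = x) : False := by
  classical
  have : Fact (Nat.Prime 2) := ⟨Nat.prime_two⟩
  have : Fact (Nat.Prime 5) := ⟨by norm_num⟩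
  have hf5' : f ^ 5 = 1 := by rw [← hf5]; exact pow_orderOf_eq_one f
  -- elements of H of order dividing 5 are trivial
  have hH5 : ∀ x ∈ H, x ^ 5 = 1 → x = 1 := by
    intro x hx hx5
    obtain ⟨k, hk⟩ := hHp ⟨x, hx⟩
    have hk' : x ^ 2 ^ k = 1 := congrArg Subtype.val hk
    have h1 : orderOf x ∣ 5 := orderOf_dvd_of_pow_eq_one hx5
    have h2 : orderOf x ∣ 2 ^ k := orderOf_dvd_of_pow_eq_one hk'
    have hc : Nat.Coprime 5 (2 ^ k) := Nat.Coprime.pow_right k (by norm_num)
    have h3 := Nat.dvd_gcd h1 h2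
    rw [Nat.Coprime.gcd_eq_one hc] at h3
    exact orderOf_eq_one_iff.mp (Nat.dvd_one.mp h3)
  have hfH : f ∉ H := by
    intro hfH
    have := hH5 f hfH hf5'
    rw [this, orderOf_one] at hf5
    norm_num at hf5
  obtain ⟨π, hπ⟩ : ∃ π : G →* G ⧸ H, π = QuotientGroup.mk' H := ⟨_, rfl⟩
  have hker : ∀ x : G, π x = 1 ↔ x ∈ H := by
    intro x; rw [hπ]; exact QuotientGroup.eq_one_iff x
  have hπf : orderOf (π f) = 5 :=
    orderOf_eq_prime (by rw [← map_pow, hf5', map_one]) (fun h => hfH ((hker f).mp h))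
  have hCcard : Nat.card (Subgroup.zpowers (π f)) = 5 := by rw [Nat.card_zpowers, hπf]
  have hCidx : (Subgroup.zpowers (π f)).index = 2 := by
    have := Subgroup.card_mul_index (Subgroup.zpowers (π f))
    rw [hCcard, hQ] at this; omega
  have hCn : (Subgroup.zpowers (π f)).Normal := Subgroup.normal_of_index_eq_two hCidx
  -- conjugates of f are powers of f
  have hconj : ∀ g : G, g * f * g⁻¹ ∈ Subgroup.zpowers f := by
    intro g
    have h1 : π g * π f * (π g)⁻¹ ∈ Subgroup.zpowers (π f) :=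
      hCn.conj_mem _ (Subgroup.mem_zpowers _) _
    obtain ⟨k, hk⟩ := Subgroup.mem_zpowers_iff.mp h1
    obtain ⟨h, hh⟩ : ∃ h : G, h = g * f * g⁻¹ * (f ^ k)⁻¹ := ⟨_, rfl⟩
    have hhH : h ∈ H := by
      rw [← hker, hh, map_mul, map_inv, map_zpow, hk, map_mul, map_mul, map_inv, mul_inv_cancel]
    have heq : g * f * g⁻¹ = h * f ^ k := by rw [hh]; group
    have hcomm : Commute h (f ^ k) := by
      have : Commute f h := by
        have := hcen h hhH
        show f * h = h * f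
        calc f * h = (f * h * f⁻¹) * f := by group
          _ = h * f := by rw [this]
      exact (this.zpow_left k).symm
    have h5 : (g * f * g⁻¹) ^ 5 = 1 := by rw [conj_pow, hf5', mul_one, mul_inv_cancel]
    rw [heq, hcomm.mul_pow] at h5
    have hfk5 : (f ^ k) ^ 5 = 1 := by
      rw [← zpow_natCast, ← zpow_mul, mul_comm, zpow_mul, zpow_natCast, hf5', one_zpow]
    rw [hfk5, mul_one] at h5
    have := hH5 h hhH h5
    rw [heq, this, one_mul]
    exact Subgroup.zpow_mem_zpowers f k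
  have hn : (Subgroup.zpowers f).Normal := ⟨fun n hn g => by
    obtain ⟨k, rfl⟩ := Subgroup.mem_zpowers_iff.mp hn
    rw [← conj_zpow]
    exact Subgroup.zpow_mem _ (hconj g) k⟩
  have hp5 : IsPGroup 5 (Subgroup.zpowers f) := IsPGroup.of_card (n := 1) (by rw [Nat.card_zpowers, hf5, pow_one])
  have hle := Cfsg.Agent.Lib.Helper1.le_fittingSubgroup hn hp5.isNilpotent
  exact hfH (hF (hle (Subgroup.mem_zpowers f)))

/-- Let G be a finite group of order 320 = 64·5 whose largest normal 2-subgroup H = O₂(G) equals the Fitting subgroup F(G) and is extraspecial of order 32 containing no elementary abelian subgroup of order 8 (so H is the central product of a quaternion group and a dihedral group of order 8). If T is an involution of G outside H whose centralizer in H contains an elementary abelian subgroup of order 4, then C_H(T) itself is elementary abelian of order 4. -/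
theorem result {G : Type*} [Group G] [Finite G]
    (hG : Nat.card G = 320) (hHF : Cfsg.pCore 2 G = Cfsg.fittingSubgroup G)
    (hex : Cfsg.IsExtraspecial 2 ↥(Cfsg.pCore 2 G)) (h32 : Nat.card ↥(Cfsg.pCore 2 G) = 32)
    (hminus : ∀ A : Subgroup G, A ≤ Cfsg.pCore 2 G → Cfsg.IsElementaryAbelian 2 A → Nat.card ↥A ≤ 4)
    (T : G) (hT : orderOf T = 2) (hTH : T ∉ Cfsg.pCore 2 G)
    (V : Subgroup G) (hV : V ≤ Cfsg.pCore 2 G ⊓ Subgroup.centralizer ({T} : Set G)) (hV4 : Nat.card ↥V = 4) (hVe : Cfsg.IsElementaryAbelian 2 V) :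
    Nat.card ↥(Cfsg.pCore 2 G ⊓ Subgroup.centralizer ({T} : Set G)) = 4 ∧
      Cfsg.IsElementaryAbelian 2 (Cfsg.pCore 2 G ⊓ Subgroup.centralizer ({T} : Set G)) := by
  classical
  have : Fact (Nat.Prime 2) := ⟨Nat.prime_two⟩
  have hHn : (Cfsg.pCore 2 G).Normal := Cfsg.Agent.Lib.Helper1.pCore_normal 2
  have hHp : IsPGroup 2 (Cfsg.pCore 2 G) := Cfsg.Agent.Lib.Helper1.pCore_isPGroup 2
  obtain ⟨z, S⟩ := Cfsg.Agent.Lib.Helper1.ExtraspecialTwo.exists_setting hex
  have hT2 : T * T = 1 := by rw [← pow_two, ← hT]; exact pow_orderOf_eq_one T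
  have hTinv : T⁻¹ = T := inv_eq_of_mul_eq_one_left hT2
  have hQ : Nat.card (G ⧸ Cfsg.pCore 2 G) = 10 := by
    have := Subgroup.card_eq_card_quotient_mul_card_subgroup (Cfsg.pCore 2 G)
    rw [hG, h32] at this; omega
  obtain ⟨f, hf5, hTf⟩ := exists_inverted (Cfsg.pCore 2 G) hHp
    (fun N hN hNp => Cfsg.Agent.Lib.Helper1.le_pCore hN hNp) hQ T hT2 hTH
  have hf5' : f ^ 5 = 1 := by rw [← hf5]; exact pow_orderOf_eq_one f
  obtain ⟨α, hα⟩ : ∃ α : MulAut ↥(Cfsg.pCore 2 G), α = MulAut.conjNormal f := ⟨_, rfl⟩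
  obtain ⟨τ, hτ⟩ : ∃ τ : MulAut ↥(Cfsg.pCore 2 G), τ = MulAut.conjNormal T := ⟨_, rfl⟩
  have hαv : ∀ x : ↥(Cfsg.pCore 2 G), ((α x : ↥(Cfsg.pCore 2 G)) : G) = f * x * f⁻¹ := by
    intro x; rw [hα]; exact MulAut.conjNormal_apply f x
  have hτv : ∀ x : ↥(Cfsg.pCore 2 G), ((τ x : ↥(Cfsg.pCore 2 G)) : G) = T * x * T⁻¹ := by
    intro x; rw [hτ]; exact MulAut.conjNormal_apply T x
  have hα5 : α ^ 5 = 1 := by rw [hα, ← map_pow, hf5', map_one]
  have hcenter_fix : ∀ φ : MulAut ↥(Cfsg.pCore 2 G), ∀ c ∈ Subgroup.center ↥(Cfsg.pCore 2 G), φ c = c := by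
    intro φ c hc
    have hφc : ∀ c' ∈ Subgroup.center ↥(Cfsg.pCore 2 G), φ c' ∈ Subgroup.center ↥(Cfsg.pCore 2 G) := by
      intro c' hc'
      rw [Subgroup.mem_center_iff] at hc' ⊢
      intro g
      have h1 := congrArg φ (hc' (φ.symm g))
      rwa [map_mul, map_mul, MulEquiv.apply_symm_apply] at h1
    rcases S.center_cases hc with h0 | h0
    · rw [h0]; exact map_one φ
    · rw [h0]
      rcases S.center_cases (hφc z S.hz) with h1 | h1
      · exfalso
        exact S.hz1 (φ.injective (h1.trans (map_one φ).symm))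
      · exact h1
  have hZ2 : ∀ c ∈ Subgroup.center ↥(Cfsg.pCore 2 G), c ^ 2 = 1 := by
    intro c hc
    rcases S.center_cases hc with h0 | h0
    · rw [h0]; exact one_pow 2
    · rw [h0]; exact S.z_sq
  have hnt : ¬ ∀ x, α x = x := by
    intro hall
    apply not_centralize (Cfsg.pCore 2 G) hHp hHF.ge hQ f hf5
    intro x hx
    have h1 := congrArg Subtype.val (hall ⟨x, hx⟩)
    rw [hαv] at h1; exact h1
  have hfix := fixed_le_center α h32 hα5 S.hZ (hcenter_fix α) hnt
  have hα5' : ∀ x, α (α (α (α (α x)))) = x := by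
    intro x
    have h1 := DFunLike.congr_fun hα5 x
    simpa only [pow_succ, pow_zero, one_mul, MulAut.mul_apply, MulAut.one_apply] using h1
  have e0 : T * f = f⁻¹ * T := mul_inv_eq_iff_eq_mul.mp hTf
  have e1 : f * T * f = T := by rw [mul_assoc, e0, mul_inv_cancel_left]
  have e2 : f⁻¹ * T⁻¹ * f⁻¹ = T⁻¹ := by
    have := congrArg (·⁻¹) e1
    simpa only [mul_inv_rev, mul_assoc] using this
  have hτα' : ∀ x, α (τ (α x)) = τ x := by
    intro x
    apply Subtype.ext
    rw [hαv, hτv, hαv, hτv]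
    calc f * (T * (f * ↑x * f⁻¹) * T⁻¹) * f⁻¹ = (f * T * f) * x * (f⁻¹ * T⁻¹ * f⁻¹) := by group
      _ = T * x * T⁻¹ := by rw [e1, e2]
  have hexp : ∀ c ∈ Cfsg.pCore 2 G ⊓ Subgroup.centralizer ({T} : Set G), c ^ 2 = 1 := by
    intro c hc
    have hcH : c ∈ Cfsg.pCore 2 G := hc.1
    have hcT : c * T = T * c := Subgroup.mem_centralizer_singleton_iff.mp hc.2
    have hτc : τ ⟨c, hcH⟩ = ⟨c, hcH⟩ := by
      apply Subtype.ext
      rw [hτv]
      show T * c * T⁻¹ = c
      rw [← hcT, mul_inv_cancel_right]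
    have h1 := keyA α τ hα5' hτα' hfix S.hsq hZ2 (hcenter_fix α) (hcenter_fix τ) S.hcl ⟨c, hcH⟩ hτc
    simpa using congrArg Subtype.val h1
  have hel : Cfsg.IsElementaryAbelian 2 (Cfsg.pCore 2 G ⊓ Subgroup.centralizer ({T} : Set G)) := by
    refine ⟨⟨⟨fun a b => ?_⟩⟩, hexp⟩
    have ha : (a : G) * a = 1 := by rw [← pow_two]; exact hexp a a.2
    have hb : (b : G) * b = 1 := by rw [← pow_two]; exact hexp b b.2
    have hab : ((a : G) * b) * (a * b) = 1 := by
      rw [← pow_two]; exact hexp _ (Subgroup.mul_mem _ a.2 b.2)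
    apply Subtype.ext
    show (a : G) * b = b * a
    calc (a : G) * b = ((a : G) * b)⁻¹ := (inv_eq_of_mul_eq_one_left hab).symm
      _ = (b : G)⁻¹ * (a : G)⁻¹ := mul_inv_rev _ _
      _ = b * a := by rw [inv_eq_of_mul_eq_one_left ha, inv_eq_of_mul_eq_one_left hb]
  refine ⟨?_, hel⟩
  have h1 := hminus _ inf_le_left hel
  have h2 := Subgroup.card_le_of_le hV
  omega

end Cfsg.Agent.S4405
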