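import Mathlib
import Cfsg.Statements.S4406

set_option autoImplicit false
open Cfsg

namespace Cfsg.Agent.S4406

abbrev A4 := ↥(alternatingGroup (Fin 4))

theorem k4 : ∀ σ : A4, σ ^ 2 = 1 ∨ σ ^ 3 = 1 := by decide +kernel

theorem k3 : ∀ v w : A4, v ^ 2 = 1 → w ^ 2 = 1 → (v * w) ^ 2 = 1 := by decide +kernel

set_option synthInstance.maxHeartbeats 400000 in
set_option synthInstance.maxSize 1024 in
theorem k1 : ∀ s v : A4, s ^ 3 = 1 → s ≠ 1 → v ^ 2 = 1 → v ≠ 1 →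
    s * (s * v * s⁻¹) * s⁻¹ = v * (s * v * s⁻¹) := by decide +kernel

set_option synthInstance.maxHeartbeats 400000 in
set_option synthInstance.maxSize 1024 in
theorem k2 : ∀ s w w' : A4, s ^ 3 = 1 → s ≠ 1 → w ^ 2 = 1 → w ≠ 1 → w' ^ 2 = 1 → w' ≠ 1 →
    w' ≠ w → w' = s * w * s⁻¹ ∨ w' = s⁻¹ * w * s := by decide +kernel

theorem k6 : ∀ v v₂ g : A4, v ^ 2 = 1 → v ≠ 1 → v₂ ^ 2 = 1 → v₂ ≠ 1 → v₂ ≠ v → g ^ 2 = 1 →
    g = 1 ∨ g = v ∨ g = v₂ ∨ g = v * v₂ := by decide +kernel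

theorem k5 : ∃ c : A4, c ^ 3 = 1 ∧ c ≠ 1 := by decide +kernel

theorem conj3 {G : Type*} [Group G] (s g : G) :
    s * (s * (s * g * s⁻¹) * s⁻¹) * s⁻¹ = s ^ 3 * g * (s ^ 3)⁻¹ := by
  simp only [pow_succ, pow_zero, one_mul, mul_inv_rev, mul_assoc]

theorem conj_mul2 {G : Type*} [Group G] (s a b : G) :
    s * (a * b) * s⁻¹ = (s * a * s⁻¹) * (s * b * s⁻¹) := by group

theorem key2 (σ : A4) (k : ℕ) (h : σ ^ 2 ^ k = 1) : σ ^ 2 = 1 := by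
  rcases k4 σ with h2 | h3
  · exact h2
  · have hd1 : orderOf σ ∣ 2 ^ k := orderOf_dvd_of_pow_eq_one h
    have hd2 : orderOf σ ∣ 3 := orderOf_dvd_of_pow_eq_one h3
    have hc : Nat.Coprime (2 ^ k) 3 := Nat.Coprime.pow_left k (by decide)
    have h1 := Nat.dvd_gcd hd1 hd2
    rw [Nat.Coprime.gcd_eq_one hc] at h1
    have h1' : orderOf σ = 1 := Nat.dvd_one.mp h1
    rw [orderOf_eq_one_iff] at h1'
    rw [h1', one_pow]

theorem key3 (σ : A4) (k : ℕ) (h : σ ^ 3 ^ k = 1) : σ ^ 3 = 1 := by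
  rcases k4 σ with h2 | h3
  · have hd1 : orderOf σ ∣ 3 ^ k := orderOf_dvd_of_pow_eq_one h
    have hd2 : orderOf σ ∣ 2 := orderOf_dvd_of_pow_eq_one h2
    have hc : Nat.Coprime (3 ^ k) 2 := Nat.Coprime.pow_left k (by decide)
    have h1 := Nat.dvd_gcd hd1 hd2
    rw [Nat.Coprime.gcd_eq_one hc] at h1
    have h1' : orderOf σ = 1 := Nat.dvd_one.mp h1
    rw [orderOf_eq_one_iff] at h1'
    rw [h1', one_pow]
  · exact h3

/-- Structure of a Sylow 3-subgroup of `A4 × A4`. -/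
theorem sylow3 (Q : Sylow 3 (A4 × A4)) :
    (∀ q ∈ (Q : Subgroup (A4 × A4)), q ^ 3 = 1) ∧
    (∀ q ∈ (Q : Subgroup (A4 × A4)), ∀ q' ∈ (Q : Subgroup (A4 × A4)),
      ((q.1, q'.2) : A4 × A4) ∈ (Q : Subgroup (A4 × A4))) ∧
    (∃ q ∈ (Q : Subgroup (A4 × A4)), q.1 ≠ 1) ∧
    (∃ q ∈ (Q : Subgroup (A4 × A4)), q.2 ≠ 1) := by
  have hQ3 : ∀ q ∈ (Q : Subgroup (A4 × A4)), q ^ 3 = 1 := by
    intro q hq
    obtain ⟨k, hk⟩ := Q.isPGroup' ⟨q, hq⟩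
    have hqk : q ^ 3 ^ k = 1 := congrArg Subtype.val hk
    apply Prod.ext
    · rw [Prod.pow_fst, Prod.fst_one]
      apply key3 q.1 k
      have := congrArg Prod.fst hqk
      rwa [Prod.pow_fst, Prod.fst_one] at this
    · rw [Prod.pow_snd, Prod.snd_one]
      apply key3 q.2 k
      have := congrArg Prod.snd hqk
      rwa [Prod.pow_snd, Prod.snd_one] at this
  -- a general criterion: a product subgroup all of whose components have cube one is a 3-group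
  have hP : ∀ (A C : Subgroup A4), (∀ a ∈ A, a ^ 3 = 1) → (∀ c ∈ C, c ^ 3 = 1) →
      IsPGroup 3 (A.prod C) := by
    intro A C hA hC g
    refine ⟨1, ?_⟩
    have hg := g.2
    rw [Subgroup.mem_prod] at hg
    apply Subtype.ext
    rw [pow_one]
    show (g : A4 × A4) ^ 3 = 1
    apply Prod.ext
    · rw [Prod.pow_fst, Prod.fst_one]; exact hA _ hg.1
    · rw [Prod.pow_snd, Prod.snd_one]; exact hC _ hg.2
  have hA3 : ∀ a ∈ (Q : Subgroup (A4 × A4)).map (MonoidHom.fst A4 A4), a ^ 3 = 1 := by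
    intro a ha
    obtain ⟨q, hq, rfl⟩ := Subgroup.mem_map.mp ha
    have := congrArg Prod.fst (hQ3 q hq)
    rwa [Prod.pow_fst, Prod.fst_one] at this
  have hC3 : ∀ a ∈ (Q : Subgroup (A4 × A4)).map (MonoidHom.snd A4 A4), a ^ 3 = 1 := by
    intro a ha
    obtain ⟨q, hq, rfl⟩ := Subgroup.mem_map.mp ha
    have := congrArg Prod.snd (hQ3 q hq)
    rwa [Prod.pow_snd, Prod.snd_one] at this
  have hfst : ∀ q ∈ (Q : Subgroup (A4 × A4)),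
      q.1 ∈ (Q : Subgroup (A4 × A4)).map (MonoidHom.fst A4 A4) :=
    fun q hq => Subgroup.mem_map.mpr ⟨q, hq, rfl⟩
  have hsnd : ∀ q ∈ (Q : Subgroup (A4 × A4)),
      q.2 ∈ (Q : Subgroup (A4 × A4)).map (MonoidHom.snd A4 A4) :=
    fun q hq => Subgroup.mem_map.mpr ⟨q, hq, rfl⟩
  have hT : ((Q : Subgroup (A4 × A4)).map (MonoidHom.fst A4 A4)).prod
      ((Q : Subgroup (A4 × A4)).map (MonoidHom.snd A4 A4)) = (Q : Subgroup (A4 × A4)) := by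
    apply Q.is_maximal' (hP _ _ hA3 hC3)
    intro q hq
    rw [Subgroup.mem_prod]
    exact ⟨hfst q hq, hsnd q hq⟩
  obtain ⟨c, hc3, hc1⟩ := k5
  have hz3 : ∀ a ∈ Subgroup.zpowers c, a ^ 3 = 1 := by
    intro a ha
    have h1 : orderOf a ∣ orderOf c := orderOf_dvd_of_mem_zpowers ha
    have h2 : orderOf c ∣ 3 := orderOf_dvd_of_pow_eq_one hc3
    exact orderOf_dvd_iff_pow_eq_one.mp (h1.trans h2)
  refine ⟨hQ3, ?_, ?_, ?_⟩
  · intro q hq q' hq'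
    rw [← hT, Subgroup.mem_prod]
    exact ⟨hfst q hq, hsnd q' hq'⟩
  · by_contra hcon
    push Not at hcon
    have hT' : (Subgroup.zpowers c).prod
        ((Q : Subgroup (A4 × A4)).map (MonoidHom.snd A4 A4)) = (Q : Subgroup (A4 × A4)) := by
      apply Q.is_maximal' (hP _ _ hz3 hC3)
      intro q hq
      rw [Subgroup.mem_prod]
      refine ⟨?_, hsnd q hq⟩
      rw [hcon q hq]
      exact Subgroup.one_mem _
    have hmem : ((c, 1) : A4 × A4) ∈ (Q : Subgroup (A4 × A4)) := by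
      rw [← hT', Subgroup.mem_prod]
      exact ⟨Subgroup.mem_zpowers c, Subgroup.one_mem _⟩
    exact hc1 (hcon _ hmem)
  · by_contra hcon
    push Not at hcon
    have hT' : ((Q : Subgroup (A4 × A4)).map (MonoidHom.fst A4 A4)).prod
        (Subgroup.zpowers c) = (Q : Subgroup (A4 × A4)) := by
      apply Q.is_maximal' (hP _ _ hA3 hz3)
      intro q hq
      rw [Subgroup.mem_prod]
      refine ⟨hfst q hq, ?_⟩
      rw [hcon q hq]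
      exact Subgroup.one_mem _
    have hmem : ((1, c) : A4 × A4) ∈ (Q : Subgroup (A4 × A4)) := by
      rw [← hT', Subgroup.mem_prod]
      exact ⟨Subgroup.one_mem _, Subgroup.mem_zpowers c⟩
    exact hc1 (hcon _ hmem)

/-- In a Sylow 2-subgroup of `A4 × A4` both components of every element square to one. -/
theorem sylow2 (X : Sylow 2 (A4 × A4)) :
    ∀ x ∈ (X : Subgroup (A4 × A4)), x.1 ^ 2 = 1 ∧ x.2 ^ 2 = 1 := by
  intro x hx
  obtain ⟨k, hk⟩ := X.isPGroup' ⟨x, hx⟩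
  have hxk : x ^ 2 ^ k = 1 := congrArg Subtype.val hk
  constructor
  · apply key2 x.1 k
    have := congrArg Prod.fst hxk
    rwa [Prod.pow_fst, Prod.fst_one] at this
  · apply key2 x.2 k
    have := congrArg Prod.snd hxk
    rwa [Prod.pow_snd, Prod.snd_one] at this

/-- For a nontrivial element of order three, choose it or its inverse to realise a conjugation. -/
theorem choose_conj (t v v₂ : A4) (ht3 : t ^ 3 = 1) (ht1 : t ≠ 1) (hv2 : v ^ 2 = 1) (hv1 : v ≠ 1)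
    (hv₂2 : v₂ ^ 2 = 1) (hv₂1 : v₂ ≠ 1) (hne : v₂ ≠ v) :
    ∃ s : A4, (s = t ∨ s = t⁻¹) ∧ s ^ 3 = 1 ∧ s ≠ 1 ∧ v₂ = s * v * s⁻¹ := by
  rcases k2 t v v₂ ht3 ht1 hv2 hv1 hv₂2 hv₂1 hne with h | h
  · exact ⟨t, Or.inl rfl, ht3, ht1, h⟩
  · refine ⟨t⁻¹, Or.inr rfl, ?_, ?_, ?_⟩
    · rw [inv_pow, ht3, inv_one]
    · intro h'
      exact ht1 (inv_eq_one.mp h')
    · rw [inv_inv]; exact h

theorem result
    (X : Sylow 2 (↥(alternatingGroup (Fin 4)) × ↥(alternatingGroup (Fin 4))))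
    (Q : Sylow 3 (↥(alternatingGroup (Fin 4)) × ↥(alternatingGroup (Fin 4))))
    (B : Subgroup (↥(alternatingGroup (Fin 4)) × ↥(alternatingGroup (Fin 4)))) (hBX : B ≤ (X : Subgroup _)) (hB4 : Nat.card ↥B = 4) :
    B ⊓ ((X : Subgroup _) ⊓ Subgroup.prod ⊤ ⊥) ≠ ⊥ ∨ B ⊓ ((X : Subgroup _) ⊓ Subgroup.prod ⊥ ⊤) ≠ ⊥ ∨
      ∃ R : Subgroup (↥(alternatingGroup (Fin 4)) × ↥(alternatingGroup (Fin 4))), R ≤ (Q : Subgroup _) ∧ Nat.card ↥R = 3 ∧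
        R ≠ (Q : Subgroup _) ⊓ Subgroup.prod ⊤ ⊥ ∧ R ≠ (Q : Subgroup _) ⊓ Subgroup.prod ⊥ ⊤ ∧ R ≤ Subgroup.normalizer (B : Set _) := by
  classical
  by_cases h1 : B ⊓ ((X : Subgroup _) ⊓ Subgroup.prod ⊤ ⊥) ≠ ⊥
  · exact Or.inl h1
  by_cases h2 : B ⊓ ((X : Subgroup _) ⊓ Subgroup.prod ⊥ ⊤) ≠ ⊥
  · exact Or.inr (Or.inl h2)
  refine Or.inr (Or.inr ?_)
  have h1' := not_not.mp h1
  have h2' := not_not.mp h2
  have hsq : ∀ g ∈ B, g.1 ^ 2 = 1 ∧ g.2 ^ 2 = 1 := fun g hg => sylow2 X g (hBX hg)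
  have eSnd : ∀ g ∈ B, g.2 = 1 → g = 1 := by
    intro g hg h
    have hm : g ∈ B ⊓ ((X : Subgroup (A4 × A4)) ⊓ Subgroup.prod ⊤ ⊥) := by
      refine Subgroup.mem_inf.mpr ⟨hg, Subgroup.mem_inf.mpr ⟨hBX hg, ?_⟩⟩
      rw [Subgroup.mem_prod]
      exact ⟨Subgroup.mem_top _, Subgroup.mem_bot.mpr h⟩
    rw [h1'] at hm
    exact Subgroup.mem_bot.mp hm
  have eFst : ∀ g ∈ B, g.1 = 1 → g = 1 := by
    intro g hg h
    have hm : g ∈ B ⊓ ((X : Subgroup (A4 × A4)) ⊓ Subgroup.prod ⊥ ⊤) := by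
      refine Subgroup.mem_inf.mpr ⟨hg, Subgroup.mem_inf.mpr ⟨hBX hg, ?_⟩⟩
      rw [Subgroup.mem_prod]
      exact ⟨Subgroup.mem_bot.mpr h, Subgroup.mem_top _⟩
    rw [h2'] at hm
    exact Subgroup.mem_bot.mp hm
  have inj1 : ∀ g ∈ B, ∀ g' ∈ B, g.1 = g'.1 → g = g' := by
    intro g hg g' hg' h
    have h3 : (g * g'⁻¹).1 = 1 := by
      rw [Prod.fst_mul, Prod.fst_inv, h, mul_inv_cancel]
    exact mul_inv_eq_one.mp (eFst _ (B.mul_mem hg (B.inv_mem hg')) h3)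
  have inj2 : ∀ g ∈ B, ∀ g' ∈ B, g.2 = g'.2 → g = g' := by
    intro g hg g' hg' h
    have h3 : (g * g'⁻¹).2 = 1 := by
      rw [Prod.snd_mul, Prod.snd_inv, h, mul_inv_cancel]
    exact mul_inv_eq_one.mp (eSnd _ (B.mul_mem hg (B.inv_mem hg')) h3)
  -- a nontrivial element of B
  haveI : Nontrivial B := (Finite.one_lt_card_iff_nontrivial).mp (by rw [hB4]; norm_num)
  obtain ⟨⟨b, hb⟩, hb1'⟩ := exists_ne (1 : B)
  have hb1 : b ≠ 1 := fun h => hb1' (Subtype.ext h)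
  have hb2 : b ^ 2 = 1 := by
    apply Prod.ext
    · rw [Prod.pow_fst, Prod.fst_one]; exact (hsq b hb).1
    · rw [Prod.pow_snd, Prod.snd_one]; exact (hsq b hb).2
  obtain ⟨b₂, hb₂, hb₂n⟩ : ∃ b₂ ∈ B, b₂ ∉ Subgroup.zpowers b := by
    by_contra hcon
    push Not at hcon
    have hle : B ≤ Subgroup.zpowers b := fun y hy => hcon y hy
    have hc1 := Subgroup.card_le_of_le hle
    have hc2 : Nat.card (Subgroup.zpowers b) ≤ 2 := by
      rw [Nat.card_zpowers]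
      exact Nat.le_of_dvd (by norm_num) (orderOf_dvd_of_pow_eq_one hb2)
    omega
  have hv2 := (hsq b hb).1
  have hw2 := (hsq b hb).2
  have hv₂2 := (hsq b₂ hb₂).1
  have hw₂2 := (hsq b₂ hb₂).2
  have hv1 : b.1 ≠ 1 := fun h => hb1 (eFst b hb h)
  have hw1 : b.2 ≠ 1 := fun h => hb1 (eSnd b hb h)
  have hv₂1 : b₂.1 ≠ 1 := fun h => hb₂n (by rw [eFst b₂ hb₂ h]; exact Subgroup.one_mem _)
  have hw₂1 : b₂.2 ≠ 1 := fun h => hb₂n (by rw [eSnd b₂ hb₂ h]; exact Subgroup.one_mem _)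
  have hvne : b₂.1 ≠ b.1 := fun h => hb₂n (by rw [inj1 b₂ hb₂ b hb h]; exact Subgroup.mem_zpowers b)
  have hwne : b₂.2 ≠ b.2 := fun h => hb₂n (by rw [inj2 b₂ hb₂ b hb h]; exact Subgroup.mem_zpowers b)
  obtain ⟨hQ3, hQprod, ⟨q, hq, hq1⟩, ⟨q', hq', hq'1⟩⟩ := sylow3 Q
  have hq3 : q.1 ^ 3 = 1 := by
    have := congrArg Prod.fst (hQ3 q hq)
    rwa [Prod.pow_fst, Prod.fst_one] at this
  have hq'3 : q'.2 ^ 3 = 1 := by
    have := congrArg Prod.snd (hQ3 q' hq')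
    rwa [Prod.pow_snd, Prod.snd_one] at this
  obtain ⟨s₁, hs₁c, hs₁3, hs₁1, hv₂⟩ :=
    choose_conj q.1 b.1 b₂.1 hq3 hq1 hv2 hv1 hv₂2 hv₂1 hvne
  obtain ⟨s₂, hs₂c, hs₂3, hs₂1, hw₂⟩ :=
    choose_conj q'.2 b.2 b₂.2 hq'3 hq'1 hw2 hw1 hw₂2 hw₂1 hwne
  -- the element s = (s₁, s₂) lies in Q
  have hs₁Q : ∃ r ∈ (Q : Subgroup (A4 × A4)), r.1 = s₁ := by
    rcases hs₁c with h | h
    · exact ⟨q, hq, h.symm⟩
    · exact ⟨q⁻¹, (Q : Subgroup (A4 × A4)).inv_mem hq, by rw [Prod.fst_inv, h]⟩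
  have hs₂Q : ∃ r ∈ (Q : Subgroup (A4 × A4)), r.2 = s₂ := by
    rcases hs₂c with h | h
    · exact ⟨q', hq', h.symm⟩
    · exact ⟨q'⁻¹, (Q : Subgroup (A4 × A4)).inv_mem hq', by rw [Prod.snd_inv, h]⟩
  obtain ⟨r₁, hr₁, hr₁e⟩ := hs₁Q
  obtain ⟨r₂, hr₂, hr₂e⟩ := hs₂Q
  have hsQ : ((s₁, s₂) : A4 × A4) ∈ (Q : Subgroup (A4 × A4)) := by
    have := hQprod r₁ hr₁ r₂ hr₂
    rwa [hr₁e, hr₂e] at this
  have hs3 : ((s₁, s₂) : A4 × A4) ^ 3 = 1 := by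
    apply Prod.ext
    · rw [Prod.pow_fst, Prod.fst_one]; exact hs₁3
    · rw [Prod.pow_snd, Prod.snd_one]; exact hs₂3
  have hs1 : ((s₁, s₂) : A4 × A4) ≠ 1 := by
    intro h
    exact hs₁1 (congrArg Prod.fst h)
  have hsb : ((s₁, s₂) : A4 × A4) * b * ((s₁, s₂) : A4 × A4)⁻¹ = b₂ := by
    apply Prod.ext
    · show s₁ * b.1 * s₁⁻¹ = b₂.1
      exact hv₂.symm
    · show s₂ * b.2 * s₂⁻¹ = b₂.2
      exact hw₂.symm
  have hsb₂ : ((s₁, s₂) : A4 × A4) * b₂ * ((s₁, s₂) : A4 × A4)⁻¹ = b * b₂ := by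
    apply Prod.ext
    · show s₁ * b₂.1 * s₁⁻¹ = b.1 * b₂.1
      rw [hv₂]
      exact k1 s₁ b.1 hs₁3 hs₁1 hv2 hv1
    · show s₂ * b₂.2 * s₂⁻¹ = b.2 * b₂.2
      rw [hw₂]
      exact k1 s₂ b.2 hs₂3 hs₂1 hw2 hw1
  have conjB : ∀ g ∈ B, ((s₁, s₂) : A4 × A4) * g * ((s₁, s₂) : A4 × A4)⁻¹ ∈ B := by
    intro g hg
    rcases k6 b.1 b₂.1 g.1 hv2 hv1 hv₂2 hv₂1 hvne (hsq g hg).1 with h | h | h | h
    · rw [eFst g hg h, mul_one, mul_inv_cancel]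
      exact B.one_mem
    · rw [inj1 g hg b hb h, hsb]
      exact hb₂
    · rw [inj1 g hg b₂ hb₂ h, hsb₂]
      exact B.mul_mem hb hb₂
    · have hg' : g = b * b₂ := inj1 g hg (b * b₂) (B.mul_mem hb hb₂) (by rw [h, Prod.fst_mul])
      rw [hg', conj_mul2, hsb, hsb₂]
      exact B.mul_mem hb₂ (B.mul_mem hb hb₂)
  have hsN : ((s₁, s₂) : A4 × A4) ∈ Subgroup.normalizer (B : Set (A4 × A4)) := by
    rw [Subgroup.mem_normalizer_iff]
    intro g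
    constructor
    · exact conjB g
    · intro h
      have h' := conjB _ (conjB _ h)
      rw [conj3, hs3, one_mul, inv_one, mul_one] at h'
      exact h'
  haveI : Fact (Nat.Prime 3) := ⟨Nat.prime_three⟩
  refine ⟨Subgroup.zpowers ((s₁, s₂) : A4 × A4), Subgroup.zpowers_le.mpr hsQ, ?_, ?_, ?_,
    Subgroup.zpowers_le.mpr hsN⟩
  · rw [Nat.card_zpowers]
    exact orderOf_eq_prime hs3 hs1
  · intro h
    have hm : ((s₁, s₂) : A4 × A4) ∈ Subgroup.zpowers ((s₁, s₂) : A4 × A4) :=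
      Subgroup.mem_zpowers _
    rw [h] at hm
    have h' := (Subgroup.mem_inf.mp hm).2
    rw [Subgroup.mem_prod] at h'
    exact hs₂1 (Subgroup.mem_bot.mp h'.2)
  · intro h
    have hm : ((s₁, s₂) : A4 × A4) ∈ Subgroup.zpowers ((s₁, s₂) : A4 × A4) :=
      Subgroup.mem_zpowers _
    rw [h] at hm
    have h' := (Subgroup.mem_inf.mp hm).2
    rw [Subgroup.mem_prod] at h'
    exact hs₁1 (Subgroup.mem_bot.mp h'.1)

end Cfsg.Agent.S4406
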