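import Cfsg.Statements.S4408
import Cfsg.Agent.Lib.Helper23.InvolutionAct
import Cfsg.Agent.Lib.Helper1.Fitting
import Cfsg.Agent.Lib.Helper1.ThompsonPQ

set_option autoImplicit false
open Cfsg

namespace Cfsg.Agent.S4408

open Cfsg.Agent.Lib.Helper1 Cfsg.Agent.Lib.Helper23.InvolutionAct

universe u

variable {S : Type u} [Group S]

theorem le_normalizer_of_conj_mem {I B : Subgroup S}
    (h : ∀ s ∈ I, ∀ b ∈ B, s * b * s⁻¹ ∈ B) : I ≤ Subgroup.normalizer (B : Set S) := by
  intro s hs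
  rw [Subgroup.mem_normalizer_iff]
  intro b
  constructor
  · exact h s hs b
  · intro hb
    have h1 := h s⁻¹ (I.inv_mem hs) _ hb
    rw [inv_inv] at h1
    have h2 : s⁻¹ * (s * b * s⁻¹) * s = b := by group
    rwa [h2] at h1

theorem mem_centralizer_iff_le {x : S} {H : Subgroup S} :
    x ∈ Subgroup.centralizer (H : Set S) ↔ H ≤ Subgroup.centralizer {x} := by
  constructor
  · intro h y hy
    rw [Subgroup.mem_centralizer_singleton_iff]
    exact Subgroup.mem_centralizer_iff.mp h y hy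
  · intro h
    rw [Subgroup.mem_centralizer_iff]
    intro y hy
    exact Subgroup.mem_centralizer_singleton_iff.mp (h hy)

/-- order of a join of two commuting subgroups meeting trivially -/
theorem card_sup_of_commute_disjoint (B A : Subgroup S)
    (hc : ∀ b ∈ B, ∀ a ∈ A, b * a = a * b) (hd : B ⊓ A = ⊥) :
    Nat.card (B ⊔ A : Subgroup S) = Nat.card B * Nat.card A := by
  have comm : ∀ (b : B) (a : A), Commute (B.subtype b) (A.subtype a) :=
    fun b a => hc b b.2 a a.2
  have hinj : Function.Injective (MonoidHom.noncommCoprod B.subtype A.subtype comm) := by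
    rw [MonoidHom.noncommCoprod_injective]
    refine ⟨B.subtype_injective, A.subtype_injective, ?_⟩
    rw [Subgroup.range_subtype, Subgroup.range_subtype, disjoint_iff]
    exact hd
  have hrange : (MonoidHom.noncommCoprod B.subtype A.subtype comm).range = B ⊔ A := by
    rw [MonoidHom.noncommCoprod_range, Subgroup.range_subtype, Subgroup.range_subtype]
  rw [← hrange, ← Nat.card_congr (MonoidHom.ofInjective hinj).toEquiv, Nat.card_prod]

/-- the ambient form of `exists_inverted` -/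
theorem exists_inverted_subgroup [Finite S] (r : ℕ) [hr : Fact r.Prime] (hr2 : r ≠ 2)
    (I U : Subgroup S) (hIc : ∀ a ∈ I, ∀ b ∈ I, a * b = b * a) (hI2 : ∀ a ∈ I, a * a = 1)
    (hIU : I ≤ Subgroup.normalizer (U : Set S)) (hU : IsPGroup r U) (t : S) (ht : t ∈ I)
    (htU : ∃ x ∈ U, t * x ≠ x * t) :
    ∃ B : Subgroup S, B ≤ U ∧ Nat.card B = r ∧ I ≤ Subgroup.normalizer (B : Set S) ∧
      (∀ s ∈ I, (∀ b ∈ B, s * b = b * s) ∨ (∀ b ∈ B, s * b * s⁻¹ = b⁻¹)) ∧
      ∀ b ∈ B, t * b * t⁻¹ = b⁻¹ := by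
  obtain ⟨φ, hφ⟩ : ∃ φ : I → (U →* U), ∀ (s : I) (x : U), ((φ s x : U) : S) = s * x * (s : S)⁻¹ :=
    ⟨fun s => (U.normalizerMonoidHom ⟨s, hIU s.2⟩).toMonoidHom, fun s x => rfl⟩
  have hφ2 : ∀ s x, φ s (φ s x) = x := by
    intro s x
    apply Subtype.ext
    rw [hφ, hφ]
    have h1 : (s : S) * (s * x * (s : S)⁻¹) * (s : S)⁻¹ = (s * s) * x * ((s : S) * s)⁻¹ := by group
    rw [h1, hI2 s s.2, one_mul, inv_one, mul_one]
  have hφc : ∀ s s' x, φ s (φ s' x) = φ s' (φ s x) := by
    intro s s' x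
    apply Subtype.ext
    rw [hφ, hφ, hφ, hφ]
    have h1 := hIc s s.2 s' s'.2
    have e1 : (s : S) * (s' * x * (s' : S)⁻¹) * (s : S)⁻¹ = (s * s') * x * ((s : S) * s')⁻¹ := by
      group
    have e2 : (s' : S) * (s * x * (s : S)⁻¹) * (s' : S)⁻¹ = (s' * s) * x * ((s' : S) * s)⁻¹ := by
      group
    rw [e1, e2, h1]
  have ht' : ∃ x : U, φ ⟨t, ht⟩ x ≠ x := by
    obtain ⟨x, hx, hxt⟩ := htU
    refine ⟨⟨x, hx⟩, ?_⟩
    intro h
    apply hxt
    have h1 := congrArg Subtype.val h
    rw [hφ] at h1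
    exact mul_inv_eq_iff_eq_mul.mp h1
  obtain ⟨B₀, hB1, hB2, hB3, hB4⟩ :=
    exists_inverted r hr2 (Nat.card U) U φ hφ2 hφc rfl hU ⟨t, ht⟩ ht'
  refine ⟨B₀.map U.subtype, Subgroup.map_subtype_le _, ?_, ?_, ?_, ?_⟩
  · rw [Subgroup.card_map_of_injective U.subtype_injective]
    exact hB1
  · apply le_normalizer_of_conj_mem
    intro s hs b hb
    obtain ⟨b₀, hb₀, rfl⟩ := Subgroup.mem_map.mp hb
    exact Subgroup.mem_map.mpr ⟨φ ⟨s, hs⟩ b₀, hB2 ⟨s, hs⟩ b₀ hb₀, hφ _ _⟩
  · intro s hs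
    rcases hB3 ⟨s, hs⟩ with h | h
    · left
      intro b hb
      obtain ⟨b₀, hb₀, rfl⟩ := Subgroup.mem_map.mp hb
      have h1 := congrArg Subtype.val (h b₀ hb₀)
      rw [hφ] at h1
      exact mul_inv_eq_iff_eq_mul.mp h1
    · right
      intro b hb
      obtain ⟨b₀, hb₀, rfl⟩ := Subgroup.mem_map.mp hb
      have h1 := congrArg Subtype.val (h b₀ hb₀)
      rw [hφ] at h1
      exact h1
  · intro b hb
    obtain ⟨b₀, hb₀, rfl⟩ := Subgroup.mem_map.mp hb
    have h1 := congrArg Subtype.val (hB4 b₀ hb₀)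
    rw [hφ] at h1
    exact h1

/-- elements of `O_q` and `O_r` commute for `q ≠ r` -/
theorem pCore_commute {q r : ℕ} (hq : q.Prime) (hr : r.Prime) (hqr : q ≠ r) {x y : S}
    (hx : x ∈ pCore q S) (hy : y ∈ pCore r S) : x * y = y * x := by
  have hqn := pCore_normal (G := S) q
  have hrn := pCore_normal (G := S) r
  have hqf : Fact q.Prime := ⟨hq⟩
  have hrf : Fact r.Prime := ⟨hr⟩
  have h1 : x * y * x⁻¹ * y⁻¹ ∈ pCore r S :=
    (pCore r S).mul_mem (hrn.conj_mem y hy x) ((pCore r S).inv_mem hy)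
  have h2 : x * y * x⁻¹ * y⁻¹ ∈ pCore q S := by
    have h3 : x * y * x⁻¹ * y⁻¹ = x * (y * x⁻¹ * y⁻¹) := by group
    rw [h3]
    exact (pCore q S).mul_mem hx (hqn.conj_mem x⁻¹ ((pCore q S).inv_mem hx) y)
  have hdisj := IsPGroup.disjoint_of_ne q r hqr (pCore q S) (pCore r S) (pCore_isPGroup q)
    (pCore_isPGroup r)
  have h4 : x * y * x⁻¹ * y⁻¹ ∈ pCore q S ⊓ pCore r S := ⟨h2, h1⟩
  rw [disjoint_iff.mp hdisj, Subgroup.mem_bot] at h4
  calc x * y = (x * y * x⁻¹ * y⁻¹) * (y * x) := by group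
    _ = y * x := by rw [h4, one_mul]

/-- the join of a list of subgroups -/
def J : List (Subgroup S) → Subgroup S
  | [] => ⊥
  | A :: l => A ⊔ J l

theorem J_le_iff {l : List (Subgroup S)} {B : Subgroup S} : J l ≤ B ↔ ∀ A ∈ l, A ≤ B := by
  induction l with
  | nil => simp [J]
  | cons A l ih => simp [J, ih]

theorem le_J {l : List (Subgroup S)} {A : Subgroup S} (h : A ∈ l) : A ≤ J l :=
  J_le_iff.mp le_rfl A h

theorem iSup_getElem_eq_J (l : List (Subgroup S)) :
    (⨆ i : Fin l.length, l[i.1]) = J l := by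
  apply le_antisymm
  · exact iSup_le fun i => le_J (List.getElem_mem _)
  · rw [J_le_iff]
    intro A hA
    obtain ⟨i, hi, rfl⟩ := List.getElem_of_mem hA
    exact le_iSup (fun i : Fin l.length => l[i.1]) ⟨i, hi⟩

/-- the invariant of the construction -/
def Good (I : Subgroup S) (n : ℕ) (l : List (Subgroup S)) : Prop :=
  (∀ A ∈ l, ∃ q : ℕ, q.Prime ∧ Nat.card A = q ∧ A ≤ pCore q S ∧
    I ≤ Subgroup.normalizer (A : Set S)) ∧
  l.Pairwise (fun A B => ∀ a ∈ A, ∀ b ∈ B, a * b = b * a) ∧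
  Nat.card (J l) = (l.map (fun A : Subgroup S => Nat.card A)).prod ∧
  Nat.card (I ⊓ Subgroup.centralizer (J l : Set S) : Subgroup S) * 2 ^ l.length = 2 ^ n

section Step

variable [Finite S] [Group.IsSolvable S] (hF : Odd (Nat.card (fittingSubgroup S)))
  (I : Subgroup S) (hIc : ∀ a ∈ I, ∀ b ∈ I, a * b = b * a) (hI2 : ∀ a ∈ I, a * a = 1)

include hF hI2 in
theorem eq_one_of_mem_fitting {x : S} (hxI : x ∈ I) (hxF : x ∈ fittingSubgroup S) : x = 1 := by
  have h1 : orderOf x ∣ 2 := orderOf_dvd_of_pow_eq_one (by rw [pow_two]; exact hI2 x hxI)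
  have h2 : orderOf x ∣ Nat.card (fittingSubgroup S) := by
    have h3 := orderOf_dvd_natCard (⟨x, hxF⟩ : fittingSubgroup S)
    rwa [← Subgroup.orderOf_coe] at h3
  have hc : Nat.Coprime 2 (Nat.card (fittingSubgroup S)) := Nat.coprime_two_left.mpr hF
  exact orderOf_eq_one_iff.mp (Nat.eq_one_of_dvd_coprimes hc h1 h2)

include hF hI2 in
/-- a nonidentity element of `I` does not centralize some `O_r(S)`, `r` odd -/
theorem exists_pCore_not_centralized {t : S} (htI : t ∈ I) (ht1 : t ≠ 1) :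
    ∃ r : ℕ, r.Prime ∧ r ≠ 2 ∧ ∃ x ∈ pCore r S, t * x ≠ x * t := by
  by_contra hall
  push Not at hall
  -- every `O_r` with `r` odd is centralized; and `O_2` too
  have h1 : ∀ r : ℕ, r.Prime → ∀ x ∈ pCore r S, t * x = x * t := by
    intro r hr x hx
    by_cases hr2 : r = 2
    · have hxF : x ∈ fittingSubgroup S := by
        have hrf : Fact r.Prime := ⟨hr⟩
        exact pCore_le_fittingSubgroup r hx
      obtain ⟨k, hk⟩ := (pCore_isPGroup (G := S) r) ⟨x, hx⟩
      have hk' : x ^ r ^ k = 1 := by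
        have h2 := congrArg Subtype.val hk
        rwa [Subgroup.coe_pow] at h2
      have h3 : orderOf x ∣ 2 ^ k := by rw [← hr2]; exact orderOf_dvd_of_pow_eq_one hk'
      have h4 : orderOf x ∣ Nat.card (fittingSubgroup S) := by
        have h5 := orderOf_dvd_natCard (⟨x, hxF⟩ : fittingSubgroup S)
        rwa [← Subgroup.orderOf_coe] at h5
      have hc : Nat.Coprime (2 ^ k) (Nat.card (fittingSubgroup S)) :=
        Nat.Coprime.pow_left k (Nat.coprime_two_left.mpr hF)
      have h6 : x = 1 := orderOf_eq_one_iff.mp (Nat.eq_one_of_dvd_coprimes hc h3 h4)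
      rw [h6, mul_one, one_mul]
    · exact hall r hr hr2 x hx
  have h2 : fittingSubgroup S ≤ Subgroup.centralizer {t} := by
    rw [fittingSubgroup_eq_iSup_primeFactors]
    refine iSup_le fun r => ?_
    intro x hx
    rw [Subgroup.mem_centralizer_singleton_iff]
    exact (h1 r (Nat.prime_of_mem_primeFactors r.2) x hx).symm
  have h3 : t ∈ Subgroup.centralizer (fittingSubgroup S : Set S) := mem_centralizer_iff_le.mpr h2
  exact ht1 (eq_one_of_mem_fitting hF I hI2 htI (centralizer_fittingSubgroup_le h3))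

include hF hIc hI2 in
theorem step (n : ℕ) (l : List (Subgroup S)) (hl : Good I n l) (hlen : l.length < n) :
    ∃ B : Subgroup S, Good I n (B :: l) := by
  obtain ⟨hl1, hl2, hl3, hl4⟩ := hl
  -- a nonidentity element of the kernel
  have hKne : (I ⊓ Subgroup.centralizer (J l : Set S) : Subgroup S) ≠ ⊥ := by
    intro h
    rw [h, Subgroup.card_bot, one_mul] at hl4
    have h1 := Nat.pow_right_injective (le_refl 2) hl4
    omega
  obtain ⟨⟨t, htK⟩, ht1⟩ := (Subgroup.ne_bot_iff_exists_ne_one).mp hKne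
  have ht1' : t ≠ 1 := fun h => ht1 (Subtype.ext h)
  have htI : t ∈ I := htK.1
  have htJ : ∀ a ∈ J l, a * t = t * a := Subgroup.mem_centralizer_iff.mp htK.2
  obtain ⟨r, hr, hr2, x, hxR, hxt⟩ := exists_pCore_not_centralized hF I hI2 htI ht1'
  have hrf : Fact r.Prime := ⟨hr⟩
  have hRn : (pCore r S).Normal := pCore_normal (G := S) r
  have hRp : IsPGroup r (pCore r S) := pCore_isPGroup (G := S) r
  -- `I` normalizes `J l`
  have hIJ : ∀ s ∈ I, ∀ a ∈ J l, s * a * s⁻¹ ∈ J l := by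
    intro s hs
    have h1 : J l ≤ (J l).comap (MulAut.conj s).toMonoidHom := by
      rw [J_le_iff]
      intro A hA a ha
      obtain ⟨q, -, -, -, hIA⟩ := hl1 A hA
      rw [Subgroup.mem_comap]
      change s * a * s⁻¹ ∈ J l
      exact le_J hA ((Subgroup.mem_normalizer_iff.mp (hIA hs) a).mp ha)
    intro a ha
    exact h1 ha
  -- Thompson's lemma
  obtain ⟨P, hPdef⟩ : ∃ P : Subgroup S, P = J l ⊓ pCore r S := ⟨_, rfl⟩
  have hPR : P ≤ pCore r S := by rw [hPdef]; exact inf_le_right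
  have hPJ : P ≤ J l := by rw [hPdef]; exact inf_le_left
  have hPp : IsPGroup r P := hRp.to_le hPR
  have hIP : ∀ s ∈ I, ∀ a ∈ P, s * a * s⁻¹ ∈ P := by
    intro s hs a ha
    rw [hPdef] at ha ⊢
    exact ⟨hIJ s hs a ha.1, hRn.conj_mem a ha.2 s⟩
  have hto : orderOf t = 2 := orderOf_eq_prime (by rw [pow_two]; exact hI2 t htI) ht1'
  have hQ : (Nat.card (Subgroup.zpowers t)).Coprime r := by
    rw [Nat.card_zpowers, hto]
    exact (Nat.coprime_primes Nat.prime_two hr).mpr (Ne.symm hr2)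
  have hPQ : P ≤ Subgroup.centralizer (Subgroup.zpowers t : Set S) := by
    intro a ha
    rw [Subgroup.mem_centralizer_iff]
    intro q hq
    obtain ⟨i, rfl⟩ := Subgroup.mem_zpowers_iff.mp hq
    have h1 : Commute a t := htJ a (hPJ ha)
    exact (h1.zpow_right i).symm
  have hex : ∃ y ∈ pCore r S ⊓ Subgroup.centralizer (P : Set S), t * y ≠ y * t := by
    by_contra hall
    push Not at hall
    have hC : pCore r S ⊓ Subgroup.centralizer (P : Set S) ≤
        Subgroup.centralizer (Subgroup.zpowers t : Set S) := by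
      intro y hy
      rw [Subgroup.mem_centralizer_iff]
      intro q hq
      obtain ⟨i, rfl⟩ := Subgroup.mem_zpowers_iff.mp hq
      have h1 : Commute t y := hall y hy
      exact h1.zpow_left i
    have hN1 : P ≤ Subgroup.normalizer (pCore r S : Set S) := by
      rw [Subgroup.normalizer_eq_top]; exact le_top
    have hN2 : Subgroup.zpowers t ≤ Subgroup.normalizer (pCore r S : Set S) := by
      rw [Subgroup.normalizer_eq_top]; exact le_top
    have h2 := thompson_PxQ r P (Subgroup.zpowers t) hPp hQ hPQ (Nat.card (pCore r S))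
      (pCore r S) rfl hRp hN1 hN2 hC
    have h3 := h2 (Subgroup.mem_zpowers t)
    exact hxt (Subgroup.mem_centralizer_iff.mp h3 x hxR).symm
  obtain ⟨y, hyU, hyt⟩ := hex
  obtain ⟨U₁, hU₁def⟩ : ∃ U₁ : Subgroup S,
      U₁ = pCore r S ⊓ Subgroup.centralizer (P : Set S) := ⟨_, rfl⟩
  have hU₁R : U₁ ≤ pCore r S := by rw [hU₁def]; exact inf_le_left
  have hU₁C : ∀ u ∈ U₁, ∀ a ∈ P, a * u = u * a := by
    intro u hu a ha
    rw [hU₁def] at hu
    exact Subgroup.mem_centralizer_iff.mp hu.2 a ha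
  have hIU₁ : I ≤ Subgroup.normalizer (U₁ : Set S) := by
    apply le_normalizer_of_conj_mem
    intro s hs u hu
    have hu' := hu
    rw [hU₁def] at hu' ⊢
    have hcen : s * u * s⁻¹ ∈ Subgroup.centralizer (P : Set S) := by
      rw [Subgroup.mem_centralizer_iff]
      intro a ha
      have h1 : s⁻¹ * a * s ∈ P := by
        have h2 := hIP s⁻¹ (I.inv_mem hs) a ha
        rwa [inv_inv] at h2
      have h3 := hU₁C u hu _ h1
      calc a * (s * u * s⁻¹) = s * ((s⁻¹ * a * s) * u) * s⁻¹ := by group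
        _ = s * (u * (s⁻¹ * a * s)) * s⁻¹ := by rw [h3]
        _ = s * u * s⁻¹ * a := by group
    exact ⟨hRn.conj_mem u hu'.1 s, hcen⟩
  have hU₁p : IsPGroup r U₁ := hRp.to_le hU₁R
  obtain ⟨B, hBU, hBr, hIB, hBpm, hBt⟩ := exists_inverted_subgroup r hr2 I U₁ hIc hI2 hIU₁ hU₁p t
    htI ⟨y, by rw [hU₁def]; exact hyU, hyt⟩
  -- elements of `B` squaring to one are trivial
  have hBsq : ∀ b ∈ B, b * b = 1 → b = 1 := by
    intro b hb hbb
    have h1 : orderOf b ∣ 2 := orderOf_dvd_of_pow_eq_one (by rw [pow_two]; exact hbb)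
    have h2 : orderOf b ∣ r := by
      have h3 := orderOf_dvd_natCard (⟨b, hb⟩ : B)
      rwa [← Subgroup.orderOf_coe, hBr] at h3
    have hc : Nat.Coprime 2 r := (Nat.coprime_primes Nat.prime_two hr).mpr (Ne.symm hr2)
    exact orderOf_eq_one_iff.mp (Nat.eq_one_of_dvd_coprimes hc h1 h2)
  -- `B` commutes with the earlier subgroups
  have hBA : ∀ A ∈ l, ∀ b ∈ B, ∀ a ∈ A, b * a = a * b := by
    intro A hA b hb a ha
    obtain ⟨q, hq, hAq, hAle, -⟩ := hl1 A hA
    by_cases hqr : q = r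
    · have haP : a ∈ P := by
        rw [hPdef]
        exact ⟨le_J hA ha, hqr ▸ hAle ha⟩
      exact (hU₁C b (hBU hb) a haP).symm
    · exact (pCore_commute hq hr hqr (hAle ha) (hU₁R (hBU hb))).symm
  have hBJ : ∀ b ∈ B, ∀ a ∈ J l, b * a = a * b := by
    intro b hb
    have h1 : J l ≤ Subgroup.centralizer {b} := by
      rw [J_le_iff]
      intro A hA a ha
      rw [Subgroup.mem_centralizer_singleton_iff]
      exact (hBA A hA b hb a ha).symm
    intro a ha
    exact (Subgroup.mem_centralizer_singleton_iff.mp (h1 ha)).symm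
  have hdisj : B ⊓ J l = ⊥ := by
    rw [eq_bot_iff]
    rintro b ⟨hb1, hb2⟩
    rw [Subgroup.mem_bot]
    apply hBsq b hb1
    have h1 := hBt b hb1
    have h2 := htJ b hb2
    -- t * b * t⁻¹ = b⁻¹ and b * t = t * b
    rw [← h2, mul_assoc, mul_inv_cancel, mul_one] at h1
    calc b * b = b * b⁻¹ := by rw [← h1]
      _ = 1 := mul_inv_cancel b
  refine ⟨B, ?_, ?_, ?_, ?_⟩
  · intro A hA
    rcases List.mem_cons.mp hA with rfl | hA
    · exact ⟨r, hr, hBr, hBU.trans hU₁R, hIB⟩
    · exact hl1 A hA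
  · rw [List.pairwise_cons]
    exact ⟨fun A hA b hb a ha => hBA A hA b hb a ha, hl2⟩
  · change Nat.card (B ⊔ J l : Subgroup S) = _
    rw [card_sup_of_commute_disjoint B (J l) hBJ hdisj, hl3, List.map_cons, List.prod_cons]
  · -- the kernel halves
    obtain ⟨K, hKdef⟩ : ∃ K : Subgroup S, K = I ⊓ Subgroup.centralizer (J l : Set S) := ⟨_, rfl⟩
    obtain ⟨K', hK'def⟩ : ∃ K' : Subgroup S,
        K' = I ⊓ Subgroup.centralizer ((B ⊔ J l : Subgroup S) : Set S) := ⟨_, rfl⟩
    have hK'mem : ∀ s, s ∈ K' ↔ s ∈ K ∧ ∀ b ∈ B, s * b = b * s := by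
      intro s
      rw [hK'def, hKdef, Subgroup.mem_inf, Subgroup.mem_inf, mem_centralizer_iff_le,
        mem_centralizer_iff_le, sup_le_iff]
      constructor
      · rintro ⟨h1, h2, h3⟩
        refine ⟨⟨h1, h3⟩, fun b hb => ?_⟩
        exact (Subgroup.mem_centralizer_singleton_iff.mp (h2 hb)).symm
      · rintro ⟨⟨h1, h3⟩, h2⟩
        refine ⟨h1, fun b hb => ?_, h3⟩
        rw [Subgroup.mem_centralizer_singleton_iff]
        exact (h2 b hb).symm
    have hK'K : K' ≤ K := fun s hs => ((hK'mem s).mp hs).1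
    have hKI : K ≤ I := by rw [hKdef]; exact inf_le_left
    have htK' : t ∈ K := by rw [hKdef]; exact htK
    -- a nonidentity element of `B`
    have hBnt : ∃ b ∈ B, b ≠ 1 := by
      have h1 : 1 < Nat.card B := by rw [hBr]; exact hr.one_lt
      have hnt : Nontrivial B := Finite.one_lt_card_iff_nontrivial.mp h1
      obtain ⟨b, hb⟩ := exists_ne (1 : B)
      exact ⟨b, b.2, fun h => hb (Subtype.ext h)⟩
    obtain ⟨b₀, hb₀, hb₀1⟩ := hBnt
    have htB : ¬ ∀ b ∈ B, t * b = b * t := by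
      intro h
      apply hb₀1
      apply hBsq b₀ hb₀
      have h1 := hBt b₀ hb₀
      rw [h b₀ hb₀, mul_assoc, mul_inv_cancel, mul_one] at h1
      calc b₀ * b₀ = b₀ * b₀⁻¹ := by rw [← h1]
        _ = 1 := mul_inv_cancel b₀
    have hidx : K'.relIndex K = 2 := by
      change (K'.subgroupOf K).index = 2
      rw [Subgroup.index_eq_two_iff]
      refine ⟨⟨t, htK'⟩, fun s => ?_⟩
      have hsK : (s : S) ∈ K := s.2
      have hsI : (s : S) ∈ I := hKI s.2
      by_cases hs : ∀ b ∈ B, (s : S) * b = b * s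
      · right
        constructor
        · rw [Subgroup.mem_subgroupOf, hK'mem]
          exact ⟨hsK, hs⟩
        · rw [Subgroup.mem_subgroupOf, hK'mem]
          rintro ⟨-, h2⟩
          apply htB
          intro b hb
          have h3 := h2 b hb
          have h4 : ((s * ⟨t, htK'⟩ : K) : S) = (s : S) * t := rfl
          rw [h4] at h3
          -- s t b = b s t, s b = b s
          have h5 := hs b hb
          have h6 : (s : S) * (t * b) = (s : S) * (b * t) := by
            calc (s : S) * (t * b) = (s : S) * t * b := by rw [mul_assoc]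
              _ = b * ((s : S) * t) := h3
              _ = (b * (s : S)) * t := by rw [mul_assoc]
              _ = ((s : S) * b) * t := by rw [h5]
              _ = (s : S) * (b * t) := by rw [mul_assoc]
          exact mul_left_cancel h6
      · left
        have hsinv : ∀ b ∈ B, (s : S) * b * (s : S)⁻¹ = b⁻¹ := by
          rcases hBpm s hsI with h | h
          · exact absurd h hs
          · exact h
        constructor
        · rw [Subgroup.mem_subgroupOf, hK'mem]
          refine ⟨(s * ⟨t, htK'⟩ : K).2, ?_⟩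
          intro b hb
          have h4 : ((s * ⟨t, htK'⟩ : K) : S) = (s : S) * t := rfl
          rw [h4]
          have h5 := hBt b hb
          have h6 := hsinv b⁻¹ (B.inv_mem hb)
          rw [inv_inv] at h6
          -- s t b (s t)⁻¹ = s (t b t⁻¹) s⁻¹ = s b⁻¹ s⁻¹ = b
          have h7 : (s : S) * t * b * ((s : S) * t)⁻¹ = b := by
            calc (s : S) * t * b * ((s : S) * t)⁻¹ = (s : S) * (t * b * t⁻¹) * (s : S)⁻¹ := by group
              _ = (s : S) * b⁻¹ * (s : S)⁻¹ := by rw [h5]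
              _ = b := h6
          exact mul_inv_eq_iff_eq_mul.mp h7
        · rw [Subgroup.mem_subgroupOf, hK'mem]
          rintro ⟨-, h2⟩
          exact hs h2
    have hcard : Nat.card K' * 2 = Nat.card K := by
      rw [← hidx]
      exact card_mul_relIndex_of_le hK'K
    change Nat.card (I ⊓ Subgroup.centralizer ((B ⊔ J l : Subgroup S) : Set S) : Subgroup S) *
      2 ^ (l.length + 1) = 2 ^ n
    rw [← hK'def, pow_succ, ← hl4, ← hKdef, ← hcard]
    ring

end Step

section Final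

variable [Finite S] [Group.IsSolvable S]

theorem exists_list (hF : Odd (Nat.card (fittingSubgroup S)))
    (I : Subgroup S) (hIc : ∀ a ∈ I, ∀ b ∈ I, a * b = b * a) (hI2 : ∀ a ∈ I, a * a = 1)
    (n : ℕ) (hIn : Nat.card I = 2 ^ n) :
    ∀ k ≤ n, ∃ l : List (Subgroup S), l.length = k ∧ Good I n l := by
  intro k
  induction k with
  | zero =>
    intro _
    refine ⟨[], rfl, ?_, List.Pairwise.nil, ?_, ?_⟩
    · intro A hA
      exact absurd hA List.not_mem_nil
    · change Nat.card (⊥ : Subgroup S) = _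
      rw [Subgroup.card_bot]
      rfl
    · have h1 : I ⊓ Subgroup.centralizer ((⊥ : Subgroup S) : Set S) = I := by
        apply inf_eq_left.mpr
        intro x _
        rw [Subgroup.mem_centralizer_iff]
        intro y hy
        have hy1 : y = 1 := Subgroup.mem_bot.mp hy
        rw [hy1, mul_one, one_mul]
      change Nat.card (I ⊓ Subgroup.centralizer ((⊥ : Subgroup S) : Set S) : Subgroup S) * 2 ^ 0
        = 2 ^ n
      rw [h1, pow_zero, mul_one, hIn]
  | succ k ih =>
    intro hk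
    obtain ⟨l, hlen, hl⟩ := ih (Nat.le_of_succ_le hk)
    obtain ⟨B, hB⟩ := step hF I hIc hI2 n l hl (by omega)
    exact ⟨B :: l, by rw [List.length_cons, hlen], hB⟩

end Final

end Cfsg.Agent.S4408

namespace Cfsg.Agent.S4408

open Cfsg.Agent.Lib.Helper1

/-- Let S be a finite solvable group whose Fitting subgroup F(S) has odd order, and let I be an elementary abelian 2-subgroup of S of order 2ⁿ with n ≥ 1. Then F(S) contains subgroups A₁, …, Aₙ of prime order, each normalized by I, pairwise commuting and generating a subgroup A of order |A₁|⋯|Aₙ| (their internal direct product), such that no non-identity element of I centralizes A. -/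
theorem result {S : Type*} [Group S] [Finite S]
    [Group.IsSolvable S] (hF : Odd (Nat.card ↥(Cfsg.fittingSubgroup S)))
    (I : Subgroup S) (hI : Cfsg.IsElementaryAbelian 2 I) (n : ℕ) (hn : 1 ≤ n) (hIn : Nat.card ↥I = 2 ^ n) :
    ∃ f : Fin n → Subgroup S, (∀ i, (Nat.card ↥(f i)).Prime) ∧ (∀ i, f i ≤ Cfsg.fittingSubgroup S) ∧
      (∀ i, I ≤ Subgroup.normalizer ((f i) : Set S)) ∧ (∀ i j, i ≠ j → ∀ a ∈ f i, ∀ b ∈ f j, a * b = b * a) ∧
      Nat.card ↥(⨆ i, f i) = ∏ i, Nat.card ↥(f i) ∧ I ⊓ Subgroup.centralizer ((⨆ i, f i : Subgroup S) : Set S) = ⊥ := by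
  obtain ⟨hIcomm, hIexp⟩ := hI
  have hIc : ∀ a ∈ I, ∀ b ∈ I, a * b = b * a := by
    intro a ha b hb
    exact congrArg Subtype.val (hIcomm.is_comm.comm ⟨a, ha⟩ ⟨b, hb⟩)
  have hI2 : ∀ a ∈ I, a * a = 1 := fun a ha => by rw [← pow_two]; exact hIexp a ha
  obtain ⟨l, hlen, hl1, hl2, hl3, hl4⟩ := exists_list hF I hIc hI2 n hIn n le_rfl
  subst hlen
  refine ⟨fun i => l[i.1], ?_, ?_, ?_, ?_, ?_, ?_⟩
  · intro i
    obtain ⟨q, hq, hAq, -, -⟩ := hl1 _ (List.getElem_mem i.2)
    change (Nat.card ↥(l[i.1])).Prime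
    rw [hAq]
    exact hq
  · intro i
    obtain ⟨q, hq, -, hle, -⟩ := hl1 _ (List.getElem_mem i.2)
    have hqf : Fact q.Prime := ⟨hq⟩
    exact hle.trans (pCore_le_fittingSubgroup q)
  · intro i
    obtain ⟨q, -, -, -, hIN⟩ := hl1 _ (List.getElem_mem i.2)
    exact hIN
  · intro i j hij a ha b hb
    rw [List.pairwise_iff_getElem] at hl2
    rcases lt_or_gt_of_ne (Fin.val_ne_of_ne hij) with h | h
    · exact hl2 i.1 j.1 i.2 j.2 h a ha b hb
    · exact (hl2 j.1 i.1 j.2 i.2 h b hb a ha).symm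
  · change Nat.card ↥(⨆ i : Fin l.length, l[i.1]) = ∏ i : Fin l.length, Nat.card ↥(l[i.1])
    rw [iSup_getElem_eq_J]
    exact hl3.trans (Fin.prod_univ_fun_getElem l (fun A : Subgroup S => Nat.card A)).symm
  · change I ⊓ Subgroup.centralizer ((⨆ i : Fin l.length, l[i.1] : Subgroup S) : Set S) = ⊥
    rw [iSup_getElem_eq_J]
    have h1 : Nat.card (I ⊓ Subgroup.centralizer (J l : Set S) : Subgroup S) = 1 := by
      have hpos : 0 < 2 ^ l.length := by positivity
      exact Nat.eq_of_mul_eq_mul_right hpos (by rw [one_mul]; exact hl4)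
    exact Subgroup.card_eq_one.mp h1

end Cfsg.Agent.S4408
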