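import Mathlib
import Cfsg.Statements.S4410
import Cfsg.Agent.Lib.Helper1.Fitting
import Cfsg.Agent.Lib.Helper1.BaerSuzuki
import Cfsg.Agent.Lib.Helper1.Cores

set_option autoImplicit false
open Cfsg

namespace Cfsg.Agent.S4410

section tv

variable {V : Type*} [AddCommGroup V] [Module (ZMod 2) V]

/-- `A` is the transvection `v ↦ v + α v • a`, with `α a = 0`. -/
def IsTv (A : V ≃ₗ[ZMod 2] V) (α : V →ₗ[ZMod 2] ZMod 2) (a : V) : Prop :=
  α a = 0 ∧ ∀ v, A v = v + α v • a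

theorem two_fix (L R w : V) (h : L = R + (2 : ZMod 2) • w) : L = R := by
  have h2 : (2 : ZMod 2) = 0 := by decide
  rw [h, h2, zero_smul, add_zero]

theorem tv_sq {A : V ≃ₗ[ZMod 2] V} {α : V →ₗ[ZMod 2] ZMod 2} {a : V} (h : IsTv A α a) :
    A * A = 1 := by
  apply LinearEquiv.ext
  intro v
  rw [LinearEquiv.mul_apply, h.2 v, h.2 (v + α v • a), map_add, map_smul,
    h.1, smul_zero, add_zero, add_assoc, ZModModule.add_self, add_zero]
  rfl

theorem tv_conj {A : V ≃ₗ[ZMod 2] V} {α : V →ₗ[ZMod 2] ZMod 2} {a : V} (h : IsTv A α a)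
    (g : V ≃ₗ[ZMod 2] V) :
    IsTv (g * A * g⁻¹) (α ∘ₗ (g⁻¹ : V ≃ₗ[ZMod 2] V).toLinearMap) (g a) := by
  have h1 : ∀ w, g⁻¹ (g w) = w := fun w => by
    rw [← LinearEquiv.mul_apply, inv_mul_cancel]; rfl
  have h2 : ∀ w, g (g⁻¹ w) = w := fun w => by
    rw [← LinearEquiv.mul_apply, mul_inv_cancel]; rfl
  refine ⟨?_, fun v => ?_⟩
  · rw [LinearMap.comp_apply, LinearEquiv.coe_coe, h1, h.1]
  · rw [LinearEquiv.mul_apply, LinearEquiv.mul_apply, h.2, map_add, map_smul, h2,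
      LinearMap.comp_apply, LinearEquiv.coe_coe]

theorem tv_eq' {A : V ≃ₗ[ZMod 2] V} {α β : V →ₗ[ZMod 2] ZMod 2} {a b : V}
    (h1 : IsTv A α a) (h2 : IsTv A β b) (v : V) (hα : α v = 1) (ha : a ≠ 0) : a = b := by
  have e := h1.2 v
  rw [h2.2 v, hα, one_smul] at e
  have e2 : β v • b = a := add_left_cancel e
  have h01 : β v = 0 ∨ β v = 1 := by
    generalize β v = t
    revert t
    decide
  rcases h01 with h | h
  · rw [h, zero_smul] at e2; exact absurd e2.symm ha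
  · rw [h, one_smul] at e2; exact e2.symm

theorem tv_mul_apply {A B : V ≃ₗ[ZMod 2] V} {α β : V →ₗ[ZMod 2] ZMod 2} {a b : V}
    (hA : IsTv A α a) (hB : IsTv B β b) (v : V) :
    (A * B) v = v + β v • b + (α v + β v * α b) • a := by
  rw [LinearEquiv.mul_apply, hB.2 v, hA.2, map_add, map_smul, smul_eq_mul]

theorem tv_mul_sq_left {A B : V ≃ₗ[ZMod 2] V} {α β : V →ₗ[ZMod 2] ZMod 2} {a b : V}
    (hA : IsTv A α a) (hB : IsTv B β b) (h0 : α b = 0) :
    IsTv ((A * B) * (A * B)) (β a • α) b := by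
  refine ⟨?_, fun v => ?_⟩
  · rw [LinearMap.smul_apply, h0, smul_zero]
  · rw [LinearEquiv.mul_apply, tv_mul_apply hA hB v, tv_mul_apply hA hB]
    simp only [map_add, map_smul, smul_eq_mul, LinearMap.smul_apply, hA.1, hB.1, h0, mul_zero,
      add_zero]
    apply two_fix _ _ (β v • b + α v • a)
    module

theorem tv_mul_sq_right {A B : V ≃ₗ[ZMod 2] V} {α β : V →ₗ[ZMod 2] ZMod 2} {a b : V}
    (hA : IsTv A α a) (hB : IsTv B β b) (h0 : β a = 0) :
    IsTv ((A * B) * (A * B)) (α b • β) a := by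
  refine ⟨?_, fun v => ?_⟩
  · rw [LinearMap.smul_apply, h0, smul_zero]
  · rw [LinearEquiv.mul_apply, tv_mul_apply hA hB v, tv_mul_apply hA hB]
    simp only [map_add, map_smul, smul_eq_mul, LinearMap.smul_apply, hA.1, hB.1, h0, mul_zero,
      add_zero]
    apply two_fix _ _ (β v • b + (α v + β v * α b) • a)
    module

theorem tv_mul_pow_four {A B : V ≃ₗ[ZMod 2] V} {α β : V →ₗ[ZMod 2] ZMod 2} {a b : V}
    (hA : IsTv A α a) (hB : IsTv B β b) (h : α b * β a = 0) : (A * B) ^ 4 = 1 := by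
  have h4 : (A * B) ^ 4 = ((A * B) * (A * B)) * ((A * B) * (A * B)) := by
    rw [show (4 : ℕ) = 2 * 2 from rfl, pow_mul, pow_two, pow_two]
  rw [h4]
  have hz : ∀ p q : ZMod 2, p * q = 0 → p = 0 ∨ q = 0 := by decide
  rcases hz _ _ h with h0 | h0
  · exact tv_sq (tv_mul_sq_left hA hB h0)
  · exact tv_sq (tv_mul_sq_right hA hB h0)

theorem key_lemma (P T : V ≃ₗ[ZMod 2] V) (hT : T = P * P)
    (φ : V →ₗ[ZMod 2] ZMod 2) (v₀ : V) (hTv : IsTv T φ v₀) (hv₀ : v₀ ≠ 0)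
    (K : Subgroup (V ≃ₗ[ZMod 2] V)) (hK4 : ∀ k ∈ K, k ^ 4 = 1 → k = 1)
    (hKP : ∀ k ∈ K, P * k * P⁻¹ ∈ K) (x : V ≃ₗ[ZMod 2] V) (hx : x ∈ K)
    (hxT : x * T ≠ T * x) : False := by
  have hz : ∀ p q : ZMod 2, p * q ≠ 0 → p = 1 ∧ q = 1 := by decide
  have hTT : T * T = 1 := tv_sq hTv
  have hTinv : T⁻¹ = T := inv_eq_of_mul_eq_one_right hTT
  have hPT : P * T * P⁻¹ = T := by rw [hT]; group
  have hKT : ∀ k ∈ K, T * k * T ∈ K := by
    intro k hk
    have e : T * k * T = P * (P * k * P⁻¹) * P⁻¹ := by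
      have e1 : T * k * T = T * k * T⁻¹ := by rw [hTinv]
      rw [e1, hT]; group
    rw [e]; exact hKP _ (hKP _ hk)
  -- the first conjugate
  have hT1 : IsTv (x * T * x⁻¹) (φ ∘ₗ (x⁻¹ : V ≃ₗ[ZMod 2] V).toLinearMap) (x v₀) :=
    tv_conj hTv x
  obtain ⟨T₁, hT₁def⟩ : ∃ T₁, T₁ = x * T * x⁻¹ := ⟨_, rfl⟩
  obtain ⟨φ₁, hφ₁def⟩ : ∃ φ₁, φ₁ = φ ∘ₗ (x⁻¹ : V ≃ₗ[ZMod 2] V).toLinearMap := ⟨_, rfl⟩
  obtain ⟨w₁, hw₁def⟩ : ∃ w₁, w₁ = x v₀ := ⟨_, rfl⟩
  rw [← hT₁def, ← hφ₁def, ← hw₁def] at hT1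
  have hy1K : T₁ * T ∈ K := by
    have e : T₁ * T = x * (T * x⁻¹ * T) := by rw [hT₁def]; group
    rw [e]; exact K.mul_mem hx (hKT _ (K.inv_mem hx))
  have hy1ne : T₁ * T ≠ 1 := by
    intro h
    apply hxT
    have h1 : T₁ = T := by
      have h2 := eq_inv_of_mul_eq_one_left h
      rw [hTinv] at h2; exact h2
    rw [hT₁def] at h1
    calc x * T = (x * T * x⁻¹) * x := by group
      _ = T * x := by rw [h1]
  have h11 : φ₁ v₀ = 1 ∧ φ w₁ = 1 := by
    apply hz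
    intro h0
    exact hy1ne (hK4 _ hy1K (tv_mul_pow_four hT1 hTv h0))
  have hTw1 : T w₁ = w₁ + v₀ := by rw [hTv.2 w₁, h11.2, one_smul]
  have hPv0 : P v₀ = v₀ := by
    have hc : IsTv (P * T * P⁻¹) (φ ∘ₗ (P⁻¹ : V ≃ₗ[ZMod 2] V).toLinearMap) (P v₀) :=
      tv_conj hTv P
    rw [hPT] at hc
    exact (tv_eq' hTv hc w₁ h11.2 hv₀).symm
  -- the second conjugate
  have hT2 : IsTv (P * T₁ * P⁻¹) (φ₁ ∘ₗ (P⁻¹ : V ≃ₗ[ZMod 2] V).toLinearMap) (P w₁) :=
    tv_conj hT1 P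
  obtain ⟨T₂, hT₂def⟩ : ∃ T₂, T₂ = P * T₁ * P⁻¹ := ⟨_, rfl⟩
  obtain ⟨φ₂, hφ₂def⟩ : ∃ φ₂, φ₂ = φ₁ ∘ₗ (P⁻¹ : V ≃ₗ[ZMod 2] V).toLinearMap := ⟨_, rfl⟩
  obtain ⟨w₂, hw₂def⟩ : ∃ w₂, w₂ = P w₁ := ⟨_, rfl⟩
  rw [← hT₂def, ← hφ₂def, ← hw₂def] at hT2
  have he2 : T₂ * T = P * (T₁ * T) * P⁻¹ := by rw [hT₂def, hT]; group
  have hy2K : T₂ * T ∈ K := by
    rw [he2]; exact hKP _ hy1K
  have hy2ne : T₂ * T ≠ 1 := by
    intro h
    apply hy1ne
    rw [he2] at h
    have e3 : T₁ * T = P⁻¹ * (P * (T₁ * T) * P⁻¹) * P := by group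
    rw [e3, h]; group
  have h22 : φ₂ v₀ = 1 ∧ φ w₂ = 1 := by
    apply hz
    intro h0
    exact hy2ne (hK4 _ hy2K (tv_mul_pow_four hT2 hTv h0))
  have hw1ne : w₁ ≠ 0 := by
    intro h
    have h3 := h11.2
    rw [h, map_zero] at h3
    exact absurd h3 (by decide)
  have hT2inv : T₂⁻¹ = T₂ := inv_eq_of_mul_eq_one_right (tv_sq hT2)
  have hPP : P (P w₁) = w₁ := by
    by_cases hc : φ₁ w₂ * φ₂ w₁ = 0
    · have h4 : (T₁ * T₂) ^ 4 = 1 := tv_mul_pow_four hT1 hT2 hc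
      have hmem : T₁ * T₂ ∈ K := by
        have e : T₁ * T₂ = (T₁ * T) * (T₂ * T)⁻¹ := by
          rw [mul_inv_rev, hTinv, hT2inv, mul_assoc T₁ T, ← mul_assoc T T, hTT, one_mul]
        rw [e]; exact K.mul_mem hy1K (K.inv_mem hy2K)
      have h1 : T₁ * T₂ = 1 := hK4 _ hmem h4
      have h12 : T₁ = T₂ := by
        have h2 := eq_inv_of_mul_eq_one_left h1
        rw [hT2inv] at h2; exact h2
      rw [← h12] at hT2
      have hww : w₁ = w₂ := tv_eq' hT1 hT2 v₀ h11.1 hw1ne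
      have hPw : P w₁ = w₁ := by rw [← hw₂def]; exact hww.symm
      rw [hPw, hPw]
    · obtain ⟨hb1, hb2⟩ := hz _ _ hc
      have hs : IsTv (T * T₂ * T⁻¹) (φ₂ ∘ₗ (T⁻¹ : V ≃ₗ[ZMod 2] V).toLinearMap) (T w₂) :=
        tv_conj hT2 T
      have hTw2 : T w₂ = w₂ + v₀ := by rw [hTv.2 w₂, h22.2, one_smul]
      have hcond : φ₁ (T w₂) * (φ₂ ∘ₗ (T⁻¹ : V ≃ₗ[ZMod 2] V).toLinearMap) w₁ = 0 := by
        rw [hTw2, map_add, hb1, h11.1]
        have h110 : (1 : ZMod 2) + 1 = 0 := by decide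
        rw [h110, zero_mul]
      have h4 : (T₁ * (T * T₂ * T⁻¹)) ^ 4 = 1 := tv_mul_pow_four hT1 hs hcond
      have hmem : T₁ * (T * T₂ * T⁻¹) ∈ K := by
        have e : T₁ * (T * T₂ * T⁻¹) = (T₁ * T) * (T₂ * T) := by rw [hTinv]; group
        rw [e]; exact K.mul_mem hy1K hy2K
      have h1 : T₁ * (T * T₂ * T⁻¹) = 1 := hK4 _ hmem h4
      have h12 : T₁ = T * T₂ * T⁻¹ := by
        have h2 := eq_inv_of_mul_eq_one_left h1
        rw [inv_eq_of_mul_eq_one_right (tv_sq hs)] at h2; exact h2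
      rw [← h12] at hs
      have hww : w₁ = T w₂ := tv_eq' hT1 hs v₀ h11.1 hw1ne
      rw [hTw2] at hww
      have hPw : P w₁ = w₁ + v₀ := by
        rw [← hw₂def, hww, add_assoc, ZModModule.add_self, add_zero]
      rw [hPw, map_add, hPw, hPv0, add_assoc, ZModModule.add_self, add_zero]
  have hTw : T w₁ = w₁ := by rw [hT, LinearEquiv.mul_apply, hPP]
  rw [hTw1] at hTw
  have hfin : w₁ + v₀ = w₁ + 0 := by rw [add_zero]; exact hTw
  exact hv₀ (add_left_cancel hfin)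

end tv

theorem isPGroup_zpowers_of_pow_four {G : Type*} [Group G] (x : G) (hx : x ^ 4 = 1) :
    IsPGroup 2 (Subgroup.zpowers x) := by
  rintro ⟨g, hg⟩
  obtain ⟨n, rfl⟩ := Subgroup.mem_zpowers_iff.mp hg
  refine ⟨2, ?_⟩
  apply Subtype.ext
  have h4 : (x ^ n) ^ 4 = 1 := by
    rw [← zpow_natCast, ← zpow_mul, mul_comm, zpow_mul, zpow_natCast, hx, one_zpow]
  simpa using h4

theorem group_part {G : Type*} [Group G] [Finite G] (S : Subgroup G)
    (hS : Group.IsSolvable ↥S) (hO2 : Cfsg.pCore 2 ↥S = ⊥) (P : G) (hPS : P ∈ S)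
    (hP4 : orderOf P = 4) :
    ∃ K : Subgroup G, (∀ k ∈ K, k ^ 4 = 1 → k = 1) ∧ (∀ k ∈ K, P * k * P⁻¹ ∈ K) ∧
      ∃ x ∈ K, x * (P * P) ≠ (P * P) * x := by
  haveI := hS
  haveI : Fact (Nat.Prime 2) := ⟨Nat.prime_two⟩
  have hFn : (fittingSubgroup ↥S).Normal := Lib.Helper1.fittingSubgroup_normal
  have hFnil : Group.IsNilpotent (fittingSubgroup ↥S) := Lib.Helper1.fittingSubgroup_isNilpotent
  have hCF := Lib.Helper1.centralizer_fittingSubgroup_le (G := ↥S)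
  have hF4 : ∀ f ∈ fittingSubgroup ↥S, f ^ 4 = 1 → f = 1 := by
    intro f hf hf4
    have hsub : Group.conjugatesOfSet {f} ⊆ (fittingSubgroup ↥S : Set ↥S) :=
      Group.conjugatesOfSet_subset (by
        intro y hy
        rw [Set.mem_singleton_iff] at hy
        rw [hy]; exact hf)
    have hX : ∀ y ∈ Group.conjugatesOfSet {f}, IsPGroup 2 (Subgroup.zpowers y) := by
      intro y hy
      rw [Group.mem_conjugatesOfSet_iff] at hy
      obtain ⟨b, hb, hby⟩ := hy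
      rw [Set.mem_singleton_iff] at hb
      subst hb
      obtain ⟨c, rfl⟩ := isConj_iff.mp hby
      apply isPGroup_zpowers_of_pow_four
      rw [conj_pow, hf4, mul_one, mul_inv_cancel]
    have hM : IsPGroup 2 (Subgroup.normalClosure {f}) :=
      Lib.Helper1.isPGroup_closure_of_isNilpotent _ hFnil _ hsub hX
    have hle : Subgroup.normalClosure {f} ≤ pCore 2 ↥S :=
      Lib.Helper1.le_pCore Subgroup.normalClosure_normal hM
    rw [hO2] at hle
    have hfb := hle (Subgroup.subset_normalClosure (Set.mem_singleton f))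
    exact Subgroup.mem_bot.mp hfb
  refine ⟨(fittingSubgroup ↥S).map S.subtype, ?_, ?_, ?_⟩
  · rintro k ⟨f, hf, rfl⟩ hk4
    have hf4 : f ^ 4 = 1 := by
      apply Subtype.ext
      simpa using hk4
    rw [hF4 f hf hf4, map_one]
  · rintro k ⟨f, hf, rfl⟩
    exact ⟨⟨P, hPS⟩ * f * (⟨P, hPS⟩ : ↥S)⁻¹, hFn.conj_mem f hf ⟨P, hPS⟩, by simp⟩
  · by_contra hno
    push Not at hno
    have hcent : (⟨P, hPS⟩ * ⟨P, hPS⟩ : ↥S) ∈
        Subgroup.centralizer (fittingSubgroup ↥S : Set ↥S) := by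
      rw [Subgroup.mem_centralizer_iff]
      intro f hf
      apply Subtype.ext
      have h1 := hno (S.subtype f) ⟨f, hf, rfl⟩
      simpa using h1
    have hmem : (⟨P, hPS⟩ * ⟨P, hPS⟩ : ↥S) ∈ fittingSubgroup ↥S := hCF hcent
    have hP44 : P ^ 4 = 1 := by rw [← hP4]; exact pow_orderOf_eq_one P
    have hpp4 : (⟨P, hPS⟩ * ⟨P, hPS⟩ : ↥S) ^ 4 = 1 := by
      apply Subtype.ext
      simp only [Subgroup.coe_pow, Subgroup.coe_mul, Subgroup.coe_one]
      rw [← pow_two, ← pow_mul, show 2 * 4 = 4 * 2 from rfl, pow_mul, hP44, one_pow]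
    have h1 : (⟨P, hPS⟩ * ⟨P, hPS⟩ : ↥S) = 1 := hF4 _ hmem hpp4
    have hP2 : P ^ 2 = 1 := by
      have h2 := congrArg Subtype.val h1
      simpa [pow_two] using h2
    have hdvd := orderOf_dvd_of_pow_eq_one hP2
    rw [hP4] at hdvd
    exact absurd hdvd (by decide)

/-- Let V be a finite-dimensional vector space over the field with two elements and S a solvable group of linear automorphisms of V with O₂(S) = 1. If P ∈ S has order 4 and (P − 1)³ = 0 on V, then the image of (P − 1)² has at least 4 elements; equivalently, in the decomposition of V into indecomposable modules for the cyclic group generated by P, at least two summands have dimension 3. -/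
theorem result
    {V : Type*} [AddCommGroup V] [Module (ZMod 2) V] [Finite V]
    (S : Subgroup (V ≃ₗ[ZMod 2] V)) (hS : Group.IsSolvable ↥S) (hO2 : Cfsg.pCore 2 ↥S = ⊥)
    (P : V ≃ₗ[ZMod 2] V) (hPS : P ∈ S) (hP4 : orderOf P = 4)
    (hcub : ((P : V →ₗ[ZMod 2] V) - LinearMap.id) ^ 3 = 0) :
    4 ≤ Nat.card ↥(LinearMap.range (((P : V →ₗ[ZMod 2] V) - LinearMap.id) ^ 2)) := by
  classical
  haveI : Finite (V ≃ₗ[ZMod 2] V) :=
    Finite.of_injective (fun f => (f : V → V)) DFunLike.coe_injective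
  obtain ⟨K, hK4, hKP, x, hxK, hxT⟩ := group_part S hS hO2 P hPS hP4
  obtain ⟨N, hNdef⟩ : ∃ N : V →ₗ[ZMod 2] V, N = (P : V →ₗ[ZMod 2] V) - LinearMap.id :=
    ⟨_, rfl⟩
  rw [← hNdef] at hcub ⊢
  have hN : ∀ w, N w = P w + w := by
    intro w
    rw [hNdef, LinearMap.sub_apply, LinearMap.id_apply, LinearEquiv.coe_coe,
      ZModModule.sub_eq_add]
  have hN2 : ∀ v, (N ^ 2) v = P (P v) + v := by
    intro v
    rw [pow_two, Module.End.mul_apply, hN, hN, map_add, add_assoc, ← add_assoc (P v),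
      ZModModule.add_self, zero_add]
  have hN3 : ∀ v, N ((N ^ 2) v) = 0 := by
    intro v
    have h1 := LinearMap.congr_fun hcub v
    rw [pow_succ', Module.End.mul_apply] at h1
    simpa using h1
  by_contra hlt
  push Not at hlt
  have hR_fin : Module.finrank (ZMod 2) (LinearMap.range (N ^ 2)) < 2 := by
    by_contra h
    push Not at h
    have hc : Nat.card (LinearMap.range (N ^ 2)) =
        2 ^ Module.finrank (ZMod 2) (LinearMap.range (N ^ 2)) := by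
      rw [Module.natCard_eq_pow_finrank (K := ZMod 2), Nat.card_zmod]
    have h5 : 2 ^ 2 ≤ 2 ^ Module.finrank (ZMod 2) (LinearMap.range (N ^ 2)) :=
      Nat.pow_le_pow_right (by norm_num) h
    omega
  have hex : ∃ v, (N ^ 2) v ≠ 0 := by
    by_contra hall
    push Not at hall
    apply hxT
    have hPP1 : P * P = 1 := by
      apply LinearEquiv.ext
      intro v
      have h1 := hN2 v
      rw [hall v] at h1
      rw [LinearEquiv.mul_apply]
      have h2 : P (P v) + v + v = P (P v) := by rw [add_assoc, ZModModule.add_self, add_zero]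
      rw [← h1, zero_add] at h2
      exact h2.symm
    rw [hPP1, mul_one, one_mul]
  obtain ⟨u, hu⟩ := hex
  have hpos : 0 < Module.finrank (ZMod 2) (LinearMap.range (N ^ 2)) := by
    rw [Module.finrank_pos_iff_exists_ne_zero]
    exact ⟨⟨(N ^ 2) u, LinearMap.mem_range_self _ u⟩, fun h => hu (congrArg Subtype.val h)⟩
  have hfin1 : Module.finrank (ZMod 2) (LinearMap.range (N ^ 2)) = 1 := by omega
  obtain ⟨r₀, hr₀ne, hr₀⟩ :=
    (finrank_eq_one_iff' (K := ZMod 2) (V := LinearMap.range (N ^ 2))).mp hfin1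
  rcases r₀ with ⟨v₀, hv₀R⟩
  have hv₀ : v₀ ≠ 0 := fun h => hr₀ne (Subtype.ext h)
  have hspan : ∀ v, (N ^ 2) v ∈ Submodule.span (ZMod 2) {v₀} := by
    intro v
    obtain ⟨c, hc⟩ := hr₀ ⟨(N ^ 2) v, LinearMap.mem_range_self _ v⟩
    have h1 : c • v₀ = (N ^ 2) v := congrArg Subtype.val hc
    rw [← h1]
    exact Submodule.smul_mem _ _ (Submodule.mem_span_singleton_self v₀)
  obtain ⟨φ, hφ⟩ : ∃ φ : V →ₗ[ZMod 2] ZMod 2, ∀ v, (N ^ 2) v = φ v • v₀ := by
    refine ⟨(LinearEquiv.coord (ZMod 2) V v₀ hv₀).toLinearMap ∘ₗ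
      (LinearMap.codRestrict _ (N ^ 2) hspan), fun v => ?_⟩
    have h1 := LinearEquiv.coord_apply_smul (ZMod 2) V v₀ hv₀
      (LinearMap.codRestrict _ (N ^ 2) hspan v)
    exact h1.symm
  have hPPv : ∀ v, (P * P) v = v + φ v • v₀ := by
    intro v
    rw [LinearEquiv.mul_apply, ← hφ v, hN2 v, add_comm, add_assoc, ZModModule.add_self,
      add_zero]
  have hNv₀ : N v₀ = 0 := by
    obtain ⟨u', hu'⟩ := LinearMap.mem_range.mp hv₀R
    rw [← hu']; exact hN3 u'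
  have hPv₀ : P v₀ = v₀ := by
    have h1 := hN v₀
    rw [hNv₀] at h1
    have h2 : P v₀ + v₀ + v₀ = P v₀ := by rw [add_assoc, ZModModule.add_self, add_zero]
    rw [← h1, zero_add] at h2
    exact h2.symm
  have hφv₀ : φ v₀ = 0 := by
    have h1 := hφ v₀
    rw [hN2, hPv₀, hPv₀, ZModModule.add_self] at h1
    have h01 : φ v₀ = 0 ∨ φ v₀ = 1 := by
      generalize φ v₀ = t
      revert t
      decide
    rcases h01 with h | h
    · exact h
    · rw [h, one_smul] at h1; exact absurd h1.symm hv₀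
  exact key_lemma P (P * P) rfl φ v₀ ⟨hφv₀, hPPv⟩ hv₀ K hK4 hKP x hxK hxT

end Cfsg.Agent.S4410
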