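import Cfsg.Statements.S4412
import Mathlib
import Cfsg.Agent.Lib.Helper10.UniqueOrderP

set_option autoImplicit false
open Cfsg

namespace Cfsg.Agent.S4412

open Subgroup

section GroupLemmas

variable {P : Type*} [Group P]

/-- fixed points of an automorphism -/
def fixS (T : MulAut P) : Subgroup P where
  carrier := {x | T x = x}
  mul_mem' := by
    intro a b ha hb
    simp only [Set.mem_setOf_eq] at *
    rw [map_mul, ha, hb]
  one_mem' := map_one T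
  inv_mem' := by
    intro a ha
    simp only [Set.mem_setOf_eq] at *
    rw [map_inv, ha]

theorem mem_fixS {T : MulAut P} {x : P} : x ∈ fixS T ↔ T x = x := Iff.rfl

variable [Finite P]

/-- square root in odd order group -/
noncomputable def sq (x : P) : P := x ^ ((Nat.card P + 1) / 2)

theorem sq_mul_sq (hodd : Odd (Nat.card P)) (x : P) : sq x * sq x = x := by
  unfold sq
  rw [← pow_add]
  obtain ⟨k, hk⟩ := hodd
  have : (Nat.card P + 1) / 2 + (Nat.card P + 1) / 2 = Nat.card P + 1 := by omega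
  rw [this, pow_succ, pow_card_eq_one', one_mul]

theorem map_sq (T : MulAut P) (x : P) : T (sq x) = sq (T x) := map_pow T x _

theorem sq_inv (x : P) : sq x⁻¹ = (sq x)⁻¹ := inv_pow x _

theorem sq_mem (Q : Subgroup P) {x : P} (hx : x ∈ Q) : sq x ∈ Q := Q.pow_mem hx _

theorem eq_one_of_mul_self (hodd : Odd (Nat.card P)) {x : P} (h : x * x = 1) : x = 1 := by
  have h2 : x ^ 2 = 1 := by rw [pow_two]; exact h
  have hd1 := orderOf_dvd_of_pow_eq_one h2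
  have hd2 := orderOf_dvd_natCard x
  have hg : Nat.gcd 2 (Nat.card P) = 1 := by
    have := Nat.Coprime.symm (Odd.coprime_two_right hodd)
    exact this
  have := Nat.dvd_gcd hd1 hd2
  rw [hg] at this
  exact orderOf_eq_one_iff.mp (Nat.dvd_one.mp this)

theorem decomp (hodd : Odd (Nat.card P)) (T : MulAut P) (hT : ∀ x, T (T x) = x) (x : P) :
    ∃ c s : P, x = c * s ∧ T c = c ∧ T s = s⁻¹ ∧
      ∀ Q : Subgroup P, x ∈ Q → T x ∈ Q → c ∈ Q ∧ s ∈ Q := by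
  obtain ⟨u, hu⟩ : ∃ u, u = (T x)⁻¹ * x := ⟨_, rfl⟩
  have hTu : T u = u⁻¹ := by
    rw [hu, map_mul, map_inv, hT]; group
  obtain ⟨s, hs⟩ : ∃ s, s = sq u := ⟨_, rfl⟩
  have hTs : T s = s⁻¹ := by rw [hs, map_sq, hTu, sq_inv]
  have hss : s * s = u := by rw [hs]; exact sq_mul_sq hodd u
  refine ⟨x * s⁻¹, s, by group, ?_, hTs, ?_⟩
  · rw [map_mul, map_inv, hTs, inv_inv]
    have h1 : (T x)⁻¹ * x = s * s := by rw [hss, hu]
    calc T x * s = T x * (s * s) * s⁻¹ := by group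
      _ = T x * ((T x)⁻¹ * x) * s⁻¹ := by rw [h1]
      _ = x * s⁻¹ := by group
  · intro Q hxQ hTxQ
    have huQ : u ∈ Q := by rw [hu]; exact Q.mul_mem (Q.inv_mem hTxQ) hxQ
    have hsQ : s ∈ Q := by rw [hs]; exact sq_mem Q huQ
    exact ⟨Q.mul_mem hxQ (Q.inv_mem hsQ), hsQ⟩

/-- generation by fixed points of a four-group acting on an odd order group -/
theorem gen4 (hodd : Odd (Nat.card P)) (a b : MulAut P) (ha : ∀ x, a (a x) = x)
    (hb : ∀ x, b (b x) = x) (hab : ∀ x, a (b x) = b (a x)) (Q : Subgroup P)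
    (hQa : ∀ x ∈ Q, a x ∈ Q) (hQb : ∀ x ∈ Q, b x ∈ Q) :
    Q ≤ (Q ⊓ fixS a) ⊔ (Q ⊓ fixS b) ⊔ (Q ⊓ fixS (a * b)) := by
  intro x hx
  obtain ⟨c, s, hxcs, hc, hs, hmem⟩ := decomp hodd a ha x
  obtain ⟨hcQ, hsQ⟩ := hmem Q hx (hQa x hx)
  obtain ⟨u, hu⟩ : ∃ u, u = (b s)⁻¹ * s := ⟨_, rfl⟩
  have huQ : u ∈ Q := by rw [hu]; exact Q.mul_mem (Q.inv_mem (hQb s hsQ)) hsQ
  have hbu : b u = u⁻¹ := by rw [hu, map_mul, map_inv, hb]; group
  have hau : a u = s * u⁻¹ * s⁻¹ := by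
    rw [hu, map_mul, map_inv, hab, hs, map_inv]; group
  obtain ⟨s', hs'⟩ : ∃ s', s' = sq u := ⟨_, rfl⟩
  have hs'Q : s' ∈ Q := by rw [hs']; exact sq_mem Q huQ
  have hss' : s' * s' = u := by rw [hs']; exact sq_mul_sq hodd u
  have hbs' : b s' = s'⁻¹ := by rw [hs', map_sq, hbu, sq_inv]
  have has' : a s' = s * s'⁻¹ * s⁻¹ := by
    rw [hs', map_sq, hau]
    unfold sq
    rw [conj_pow, inv_pow]
  obtain ⟨c', hc'⟩ : ∃ c', c' = s * s'⁻¹ := ⟨_, rfl⟩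
  have hc'Q : c' ∈ Q := by rw [hc']; exact Q.mul_mem hsQ (Q.inv_mem hs'Q)
  have hbc' : b c' = c' := by
    rw [hc', map_mul, map_inv, hbs', inv_inv]
    have h1 : s' * s' = (b s)⁻¹ * s := by rw [hss', hu]
    calc b s * s' = b s * (s' * s') * s'⁻¹ := by group
      _ = b s * ((b s)⁻¹ * s) * s'⁻¹ := by rw [h1]
      _ = s * s'⁻¹ := by group
  have hac' : a c' = c'⁻¹ := by
    rw [hc', map_mul, map_inv, has', hs]; group
  obtain ⟨w, hw⟩ : ∃ w, w = sq c' := ⟨_, rfl⟩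
  have hwQ : w ∈ Q := by rw [hw]; exact sq_mem Q hc'Q
  have hww : w * w = c' := by rw [hw]; exact sq_mul_sq hodd c'
  have hbw : b w = w := by rw [hw, map_sq, hbc']
  have haw : a w = w⁻¹ := by rw [hw, map_sq, hac', sq_inv]
  have hs_eq : s = w * w * s' := by rw [hww, hc']; group
  obtain ⟨z, hz⟩ : ∃ z, z = w * s' * w⁻¹ := ⟨_, rfl⟩
  have hzQ : z ∈ Q := by rw [hz]; exact Q.mul_mem (Q.mul_mem hwQ hs'Q) (Q.inv_mem hwQ)
  have habz : (a * b) z = z := by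
    have e1 : b z = w * s'⁻¹ * w⁻¹ := by rw [hz, map_mul, map_mul, map_inv, hbw, hbs']
    have e2 : a (b z) = w⁻¹ * (s * s'⁻¹ * s⁻¹)⁻¹ * w := by
      rw [e1, map_mul, map_mul, map_inv, map_inv, haw, has', inv_inv]
    rw [MulAut.mul_apply, e2, hz, hs_eq]
    group
  have hx_eq : x = c * (c' * (w⁻¹ * z * w)) := by
    rw [hxcs, hz, hc']; group
  rw [hx_eq]
  have m1 : c ∈ (Q ⊓ fixS a) ⊔ (Q ⊓ fixS b) ⊔ (Q ⊓ fixS (a * b)) :=
    mem_sup_left (mem_sup_left ⟨hcQ, hc⟩)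
  have m2 : c' ∈ (Q ⊓ fixS a) ⊔ (Q ⊓ fixS b) ⊔ (Q ⊓ fixS (a * b)) :=
    mem_sup_left (mem_sup_right ⟨hc'Q, hbc'⟩)
  have m3 : w ∈ (Q ⊓ fixS a) ⊔ (Q ⊓ fixS b) ⊔ (Q ⊓ fixS (a * b)) :=
    mem_sup_left (mem_sup_right ⟨hwQ, hbw⟩)
  have m4 : z ∈ (Q ⊓ fixS a) ⊔ (Q ⊓ fixS b) ⊔ (Q ⊓ fixS (a * b)) :=
    mem_sup_right ⟨hzQ, habz⟩
  exact mul_mem m1 (mul_mem m2 (mul_mem (mul_mem (inv_mem m3) m4) m3))

/-- an involution without fixed points on an invariant subgroup inverts it -/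
theorem inverts_of_fpf (hodd : Odd (Nat.card P)) (T : MulAut P) (hT : ∀ x, T (T x) = x)
    (Q : Subgroup P) (hQT : ∀ x ∈ Q, T x ∈ Q) (h : ∀ x ∈ Q, T x = x → x = 1) :
    ∀ x ∈ Q, T x = x⁻¹ := by
  intro x hx
  obtain ⟨c, s, hxcs, hc, hs, hmem⟩ := decomp hodd T hT x
  obtain ⟨hcQ, hsQ⟩ := hmem Q hx (hQT x hx)
  have hc1 : c = 1 := h c hcQ hc
  rw [hxcs, hc1, one_mul]
  exact hs

theorem comm_of_inverts (T : MulAut P) (Q : Subgroup P) (h : ∀ x ∈ Q, T x = x⁻¹) :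
    ∀ x ∈ Q, ∀ y ∈ Q, x * y = y * x := by
  intro x hx y hy
  have h1 := h (x * y) (Q.mul_mem hx hy)
  rw [map_mul, h x hx, h y hy, mul_inv_rev] at h1
  have h2 := congrArg (fun t => t⁻¹) h1
  simp only [mul_inv_rev, inv_inv] at h2
  exact h2.symm

end GroupLemmas

section Cyclic

variable {P : Type*} [Group P] [Finite P]

abbrev Cyc (T : MulAut P) : Prop := ∃ g : P, ∀ x : P, (T x = x ↔ x ∈ Subgroup.zpowers g)

theorem invol_of_sq {T : MulAut P} (h : T * T = 1) (x : P) : T (T x) = x := by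
  have := congrArg (fun f : MulAut P => f x) h
  simpa using this

theorem comm_apply_of {S T : MulAut P} (h : S * T = T * S) (x : P) : S (T x) = T (S x) := by
  have := congrArg (fun f : MulAut P => f x) h
  simpa using this

theorem not_cyc_of_two {p : ℕ} [Fact p.Prime] (hP : IsPGroup p P) (T S S' : MulAut P) (x x' : P)
    (hx : T x = x) (hx' : T x' = x') (h1 : S x' = x') (h2 : S x ≠ x) (h3 : S' x = x)
    (h4 : S' x' ≠ x') : ¬ Cyc T := by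
  rintro ⟨g, hg⟩
  have m1 : x ∈ zpowers g := (hg x).mp hx
  have m2 : x' ∈ zpowers g := (hg x').mp hx'
  rcases Cfsg.Agent.Lib.Helper10.mem_zpowers_or_mem_zpowers hP g x x' m1 m2 with h | h
  · obtain ⟨k, hk⟩ := mem_zpowers_iff.mp h
    apply h2
    rw [← hk, map_zpow, h1]
  · obtain ⟨k, hk⟩ := mem_zpowers_iff.mp h
    apply h4
    rw [← hk, map_zpow, h3]

theorem fixed_of_cyc {p : ℕ} [Fact p.Prime] (hP : IsPGroup p P) (T : MulAut P) (hT : Cyc T)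
    (x₀ : P) (hx₀ : T x₀ = x₀) (S S' : MulAut P) (hS' : S' x₀ ≠ x₀) (hS : S x₀ = x₀) :
    ∀ x, T x = x → S' x = x → S x = x := by
  intro x hx hS'x
  obtain ⟨g, hg⟩ := hT
  have m1 : x ∈ zpowers g := (hg x).mp hx
  have m2 : x₀ ∈ zpowers g := (hg x₀).mp hx₀
  rcases Cfsg.Agent.Lib.Helper10.mem_zpowers_or_mem_zpowers hP g x x₀ m1 m2 with h | h
  · obtain ⟨k, hk⟩ := mem_zpowers_iff.mp h
    rw [← hk, map_zpow, hS]
  · obtain ⟨k, hk⟩ := mem_zpowers_iff.mp h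
    exfalso; apply hS'
    rw [← hk, map_zpow, hS'x]

theorem cyc_inv {p : ℕ} [Fact p.Prime] (hP : IsPGroup p P) (hodd : Odd (Nat.card P))
    (T : MulAut P) (hT : ∀ x, T (T x) = x) (g : P) (A : Subgroup P) (hA : A ≤ zpowers g)
    (hAT : ∀ x ∈ A, T x ∈ A) :
    (∀ x ∈ A, T x = x) ∨ (∀ x ∈ A, T x = x⁻¹) := by
  haveI : IsCyclic ↥A := Subgroup.isCyclic_of_le hA
  obtain ⟨y, hy⟩ := (Subgroup.isCyclic_iff_exists_zpowers_eq_top A).mp inferInstance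
  have hyA : y ∈ A := by rw [← hy]; exact mem_zpowers y
  obtain ⟨c, s, hycs, hc, hs, hmem⟩ := decomp hodd T hT y
  obtain ⟨hcA, hsA⟩ := hmem A hyA (hAT y hyA)
  rcases Cfsg.Agent.Lib.Helper10.mem_zpowers_or_mem_zpowers hP g c s (hA hcA) (hA hsA) with h | h
  · right
    obtain ⟨k, hk⟩ := mem_zpowers_iff.mp h
    have hc_inv : T c = c⁻¹ := by rw [← hk, map_zpow, hs, inv_zpow]
    have hc1 : c = 1 :=
      eq_one_of_mul_self hodd (mul_eq_one_iff_eq_inv.mpr (hc.symm.trans hc_inv))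
    have hys : y = s := by rw [hycs, hc1, one_mul]
    intro x hx
    rw [← hy] at hx
    obtain ⟨j, hj⟩ := mem_zpowers_iff.mp hx
    rw [← hj, map_zpow, hys, hs, inv_zpow]
  · left
    obtain ⟨k, hk⟩ := mem_zpowers_iff.mp h
    have hs_fix : T s = s := by rw [← hk, map_zpow, hc]
    have hs1 : s = 1 :=
      eq_one_of_mul_self hodd (mul_eq_one_iff_eq_inv.mpr (hs_fix.symm.trans hs))
    have hyc : y = c := by rw [hycs, hs1, mul_one]
    intro x hx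
    rw [← hy] at hx
    obtain ⟨j, hj⟩ := mem_zpowers_iff.mp hx
    rw [← hj, map_zpow, hyc, hc]

end Cyclic

section TwoGen

variable {P : Type*} [Group P] [Finite P]

theorem sq_inj (hodd : Odd (Nat.card P)) (hcommP : ∀ x y : P, x * y = y * x) {u u' : P}
    (h : u * u = u' * u') : u = u' := by
  have h1 : (u * u'⁻¹) * (u * u'⁻¹) = 1 := by
    calc (u * u'⁻¹) * (u * u'⁻¹) = u * (u'⁻¹ * u) * u'⁻¹ := by group
      _ = u * (u * u'⁻¹) * u'⁻¹ := by rw [hcommP u'⁻¹ u]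
      _ = (u * u) * (u' * u')⁻¹ := by group
      _ = 1 := by rw [h]; group
  have h2 := eq_one_of_mul_self hodd h1
  exact mul_inv_eq_one.mp h2

theorem pow_eq_one_of_mem_zpowers {p : ℕ} {z u : P} (o : orderOf z = p) (hu : u ∈ zpowers z) :
    u ^ p = 1 := by
  obtain ⟨k, rfl⟩ := mem_zpowers_iff.mp hu
  rw [← zpow_natCast, ← zpow_mul, mul_comm, zpow_mul, zpow_natCast, ← o, pow_orderOf_eq_one,
    one_zpow]

theorem not_two_gen (p : ℕ) [hp : Fact p.Prime] (hodd : Odd (Nat.card P))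
    (hcommP : ∀ x y : P, x * y = y * x)
    (e₁ e₂ : MulAut P) (z₁ z₂ z₃ : P) (o1 : orderOf z₁ = p) (o2 : orderOf z₂ = p)
    (o3 : orderOf z₃ = p)
    (a11 : e₁ z₁ = z₁⁻¹) (a12 : e₁ z₂ = z₂) (a13 : e₁ z₃ = z₃)
    (a22 : e₂ z₂ = z₂⁻¹) (a23 : e₂ z₃ = z₃) :
    ¬ ∃ a b : P, closure {a, b} = ⊤ := by
  rintro ⟨a, b, hab⟩
  -- the p-power endomorphism
  let φ : P →* P := MonoidHom.mk' (fun x => x ^ p) (fun x y => Commute.mul_pow (hcommP x y) p)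
  have hφ : ∀ x, φ x = x ^ p := fun x => rfl
  have hKR : Nat.card φ.ker * Nat.card φ.range = Nat.card P := by
    rw [← Subgroup.index_ker]
    exact Subgroup.card_mul_index φ.ker
  -- lower bound for the kernel
  have hK : p * (p * p) ≤ Nat.card φ.ker := by
    have e1u : ∀ u ∈ zpowers z₁, e₁ u = u⁻¹ := by
      intro u hu
      obtain ⟨k, rfl⟩ := mem_zpowers_iff.mp hu
      rw [map_zpow, a11, inv_zpow]
    have e1v : ∀ u ∈ zpowers z₂, e₁ u = u := by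
      intro u hu
      obtain ⟨k, rfl⟩ := mem_zpowers_iff.mp hu
      rw [map_zpow, a12]
    have e1w : ∀ u ∈ zpowers z₃, e₁ u = u := by
      intro u hu
      obtain ⟨k, rfl⟩ := mem_zpowers_iff.mp hu
      rw [map_zpow, a13]
    have e2v : ∀ u ∈ zpowers z₂, e₂ u = u⁻¹ := by
      intro u hu
      obtain ⟨k, rfl⟩ := mem_zpowers_iff.mp hu
      rw [map_zpow, a22, inv_zpow]
    have e2w : ∀ u ∈ zpowers z₃, e₂ u = u := by
      intro u hu
      obtain ⟨k, rfl⟩ := mem_zpowers_iff.mp hu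
      rw [map_zpow, a23]
    let G : ↥(zpowers z₁) × ↥(zpowers z₂) × ↥(zpowers z₃) → ↥φ.ker := fun t =>
      ⟨(t.1 : P) * (t.2.1 : P) * (t.2.2 : P), by
        rw [MonoidHom.mem_ker, map_mul, map_mul, hφ, hφ, hφ,
          pow_eq_one_of_mem_zpowers o1 t.1.2, pow_eq_one_of_mem_zpowers o2 t.2.1.2,
          pow_eq_one_of_mem_zpowers o3 t.2.2.2, one_mul, one_mul]⟩
    have hG : Function.Injective G := by
      rintro ⟨⟨u, hu⟩, ⟨v, hv⟩, ⟨w, hw⟩⟩ ⟨⟨u', hu'⟩, ⟨v', hv'⟩, ⟨w', hw'⟩⟩ h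
      have h0 : u * v * w = u' * v' * w' := congrArg (fun t : ↥φ.ker => (t : P)) h
      have h1 : e₁ (u * v * w) = e₁ (u' * v' * w') := congrArg e₁ h0
      rw [map_mul, map_mul, map_mul, map_mul, e1u u hu, e1v v hv, e1w w hw, e1u u' hu',
        e1v v' hv', e1w w' hw'] at h1
      have huu : u * u = u' * u' := by
        calc u * u = (u * v * w) * (u⁻¹ * v * w)⁻¹ := by group
          _ = (u' * v' * w') * (u'⁻¹ * v' * w')⁻¹ := by rw [h0, h1]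
          _ = u' * u' := by group
      have hu_eq : u = u' := sq_inj hodd hcommP huu
      subst hu_eq
      have h0' : v * w = v' * w' := by
        have := congrArg (fun t => u⁻¹ * t) h0
        simpa [mul_assoc] using this
      have h2 : e₂ (v * w) = e₂ (v' * w') := congrArg e₂ h0'
      rw [map_mul, map_mul, e2v v hv, e2w w hw, e2v v' hv', e2w w' hw'] at h2
      have hvv : v * v = v' * v' := by
        calc v * v = (v * w) * (v⁻¹ * w)⁻¹ := by group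
          _ = (v' * w') * (v'⁻¹ * w')⁻¹ := by rw [h0', h2]
          _ = v' * v' := by group
      have hv_eq : v = v' := sq_inj hodd hcommP hvv
      subst hv_eq
      have hw_eq : w = w' := mul_left_cancel h0'
      subst hw_eq
      rfl
    have := Nat.card_le_card_of_injective G hG
    rw [Nat.card_prod, Nat.card_prod, Nat.card_zpowers, Nat.card_zpowers, Nat.card_zpowers, o1, o2,
      o3] at this
    exact this
  -- upper bound for the index of the image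
  have hrep : ∀ x ∈ closure ({a, b} : Set P), ∃ m n : ℤ, x = a ^ m * b ^ n := by
    intro x hx
    induction hx using closure_induction with
    | mem y hy =>
      rcases hy with rfl | hy
      · exact ⟨1, 0, by simp⟩
      · rw [Set.mem_singleton_iff] at hy
        subst hy
        exact ⟨0, 1, by simp⟩
    | one => exact ⟨0, 0, by simp⟩
    | mul y z _ _ ihy ihz =>
      obtain ⟨m, n, rfl⟩ := ihy
      obtain ⟨m', n', rfl⟩ := ihz
      refine ⟨m + m', n + n', ?_⟩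
      rw [zpow_add, zpow_add]
      calc a ^ m * b ^ n * (a ^ m' * b ^ n') = a ^ m * (b ^ n * a ^ m') * b ^ n' := by group
        _ = a ^ m * (a ^ m' * b ^ n) * b ^ n' := by rw [hcommP (b ^ n) (a ^ m')]
        _ = a ^ m * a ^ m' * (b ^ n * b ^ n') := by group
    | inv y _ ih =>
      obtain ⟨m, n, rfl⟩ := ih
      refine ⟨-m, -n, ?_⟩
      rw [mul_inv_rev, zpow_neg, zpow_neg]
      exact hcommP _ _
  have hp0 : (0 : ℤ) < p := by exact_mod_cast hp.out.pos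
  have hsplit : ∀ (c : P) (m : ℤ), ∃ i : ℕ, i < p ∧ ∃ d : P, c ^ m = c ^ i * d ^ p := by
    intro c m
    refine ⟨(m % p).toNat, ?_, c ^ (m / p), ?_⟩
    · have h1 : m % p < p := Int.emod_lt_of_pos m hp0
      have h2 : 0 ≤ m % p := Int.emod_nonneg m hp0.ne'
      omega
    · have h2 : 0 ≤ m % p := Int.emod_nonneg m hp0.ne'
      have h3 : ((m % p).toNat : ℤ) = m % p := Int.toNat_of_nonneg h2
      calc c ^ m = c ^ (m % p + p * (m / p)) := by rw [Int.emod_add_mul_ediv]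
        _ = c ^ (m % p) * c ^ ((p : ℤ) * (m / p)) := by rw [zpow_add]
        _ = c ^ (((m % p).toNat : ℤ)) * (c ^ (m / p)) ^ (p : ℤ) := by rw [h3, zpow_mul']
        _ = c ^ (m % p).toNat * (c ^ (m / p)) ^ p := by rw [zpow_natCast, zpow_natCast]
  have hR : Nat.card P ≤ p * (p * Nat.card φ.range) := by
    let F : Fin p × Fin p × ↥φ.range → P := fun t => a ^ (t.1 : ℕ) * b ^ (t.2.1 : ℕ) * (t.2.2 : P)
    have hF : Function.Surjective F := by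
      intro x
      have hx : x ∈ closure ({a, b} : Set P) := by rw [hab]; exact mem_top x
      obtain ⟨m, n, rfl⟩ := hrep x hx
      obtain ⟨i, hi, d, hd⟩ := hsplit a m
      obtain ⟨j, hj, d', hd'⟩ := hsplit b n
      refine ⟨(⟨i, hi⟩, ⟨j, hj⟩, ⟨φ (d * d'), MonoidHom.mem_range.mpr ⟨_, rfl⟩⟩), ?_⟩
      show a ^ i * b ^ j * φ (d * d') = a ^ m * b ^ n
      rw [hd, hd', map_mul, hφ, hφ]
      calc a ^ i * b ^ j * (d ^ p * d' ^ p) = a ^ i * (b ^ j * d ^ p) * d' ^ p := by group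
        _ = a ^ i * (d ^ p * b ^ j) * d' ^ p := by rw [hcommP (b ^ j) (d ^ p)]
        _ = a ^ i * d ^ p * (b ^ j * d' ^ p) := by group
    have := Nat.card_le_card_of_surjective F hF
    rw [Nat.card_prod, Nat.card_prod, Nat.card_fin] at this
    exact this
  have hRpos : 0 < Nat.card φ.range := Nat.card_pos
  have h1 : p * (p * p) * Nat.card φ.range ≤ p * (p * Nat.card φ.range) :=
    calc p * (p * p) * Nat.card φ.range ≤ Nat.card φ.ker * Nat.card φ.range :=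
          Nat.mul_le_mul_right _ hK
      _ = Nat.card P := hKR
      _ ≤ p * (p * Nat.card φ.range) := hR
  have h2 : 2 ≤ p := hp.out.two_le
  have h3 : 0 < p * (p * Nat.card φ.range) := by positivity
  have h4 : p * (p * p) * Nat.card φ.range = p * (p * (p * Nat.card φ.range)) := by ring
  have h4' : p * (p * p) * Nat.card φ.range = (p * (p * Nat.card φ.range)) * p := by ring
  rw [h4'] at h1
  have h5 : (p * (p * Nat.card φ.range)) * p ≤ (p * (p * Nat.card φ.range)) * 1 := by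
    rw [mul_one]; exact h1
  have := Nat.le_of_mul_le_mul_left h5 h3
  omega

end TwoGen

section Main

variable {P : Type*} [Group P] [Finite P]

theorem main_of_adapted (p : ℕ) (hp : p.Prime) (hp2 : p ≠ 2) (hP : IsPGroup p P)
    (I : Subgroup (MulAut P)) (hcomm : ∀ x ∈ I, ∀ y ∈ I, x * y = y * x)
    (hsq : ∀ x ∈ I, x * x = 1)
    (I₀ : Subgroup (MulAut P)) (hI₀ : I₀ < I)
    (hdisj : ∀ T ∈ I₀, T ≠ 1 → Cyc T)
    (hprod : ∀ T ∈ I, ∀ T' ∈ I, T ≠ 1 → T' ≠ 1 → ¬ Cyc T → ¬ Cyc T' → T * T' ∈ I₀)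
    (e₁ e₂ e₃ : MulAut P) (h₁ : e₁ ∈ I) (h₂ : e₂ ∈ I) (h₃ : e₃ ∈ I)
    (enum : ∀ S ∈ I, S = 1 ∨ S = e₁ ∨ S = e₂ ∨ S = e₃ ∨ S = e₁ * e₂ ∨ S = e₁ * e₃ ∨
      S = e₂ * e₃ ∨ S = e₁ * e₂ * e₃)
    (n1 : e₁ ≠ 1) (n2 : e₂ ≠ 1) (n3 : e₃ ≠ 1) (n12 : e₁ * e₂ ≠ 1) (n13 : e₁ * e₃ ≠ 1)
    (n23 : e₂ * e₃ ≠ 1)
    (hA₁ : ∃ x, e₂ x = x ∧ e₃ x = x ∧ e₁ x ≠ x) (hA₂ : ∃ x, e₁ x = x ∧ e₃ x = x ∧ e₂ x ≠ x)
    (hA₃ : ∃ x, e₁ x = x ∧ e₂ x = x ∧ e₃ x ≠ x) :
    IsMulCommutative P ∧ (∃ a b c : P, Subgroup.closure {a, b, c} = ⊤) ∧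
      (¬ ∃ a b : P, Subgroup.closure {a, b} = ⊤) ∧
      Nat.card {T : MulAut P // T ∈ I ∧ T ≠ 1 ∧ ¬ Cyc T} = 3 ∧
      Subgroup.closure {T : MulAut P | T ∈ I ∧ T ≠ 1 ∧ ¬ Cyc T} = I ∧
      (I₀ : Set (MulAut P)) = {S : MulAut P | ∃ T T' : MulAut P, T ∈ I ∧ T' ∈ I ∧ T ≠ 1 ∧
        T' ≠ 1 ∧ (¬ Cyc T) ∧ (¬ Cyc T') ∧ S = T * T'} := by
  haveI : Fact p.Prime := ⟨hp⟩
  have hodd : Odd (Nat.card P) := by
    obtain ⟨k, hk⟩ := IsPGroup.iff_card.mp hP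
    rw [hk]
    exact Odd.pow (hp.odd_of_ne_two hp2)
  obtain ⟨x₁, x₁2, x₁3, x₁1⟩ := hA₁
  obtain ⟨x₂, x₂1, x₂3, x₂2⟩ := hA₂
  obtain ⟨x₃, x₃1, x₃2, x₃3⟩ := hA₃
  have h12 : e₁ * e₂ ∈ I := I.mul_mem h₁ h₂
  have h13 : e₁ * e₃ ∈ I := I.mul_mem h₁ h₃
  have h23 : e₂ * e₃ ∈ I := I.mul_mem h₂ h₃
  have i1 : ∀ x, e₁ (e₁ x) = x := fun x => invol_of_sq (hsq e₁ h₁) x
  have i2 : ∀ x, e₂ (e₂ x) = x := fun x => invol_of_sq (hsq e₂ h₂) x
  have i3 : ∀ x, e₃ (e₃ x) = x := fun x => invol_of_sq (hsq e₃ h₃) x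
  have i12 : ∀ x, (e₁ * e₂) ((e₁ * e₂) x) = x := fun x => invol_of_sq (hsq _ h12) x
  have i13 : ∀ x, (e₁ * e₃) ((e₁ * e₃) x) = x := fun x => invol_of_sq (hsq _ h13) x
  have i23 : ∀ x, (e₂ * e₃) ((e₂ * e₃) x) = x := fun x => invol_of_sq (hsq _ h23) x
  have c12 : ∀ x, e₁ (e₂ x) = e₂ (e₁ x) := fun x => comm_apply_of (hcomm e₁ h₁ e₂ h₂) x
  have c13 : ∀ x, e₁ (e₃ x) = e₃ (e₁ x) := fun x => comm_apply_of (hcomm e₁ h₁ e₃ h₃) x
  have c23 : ∀ x, e₂ (e₃ x) = e₃ (e₂ x) := fun x => comm_apply_of (hcomm e₂ h₂ e₃ h₃) x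
  -- Step 1
  have nc1 : ¬ Cyc e₁ := not_cyc_of_two hP e₁ e₂ e₃ x₂ x₃ x₂1 x₃1 x₃2 x₂2 x₂3 x₃3
  have nc2 : ¬ Cyc e₂ := not_cyc_of_two hP e₂ e₁ e₃ x₁ x₃ x₁2 x₃2 x₃1 x₁1 x₁3 x₃3
  have nc3 : ¬ Cyc e₃ := not_cyc_of_two hP e₃ e₁ e₂ x₁ x₂ x₁3 x₂3 x₂1 x₁1 x₁2 x₂2
  have m12 : e₁ * e₂ ∈ I₀ := hprod e₁ h₁ e₂ h₂ n1 n2 nc1 nc2
  have m13 : e₁ * e₃ ∈ I₀ := hprod e₁ h₁ e₃ h₃ n1 n3 nc1 nc3
  have m23 : e₂ * e₃ ∈ I₀ := hprod e₂ h₂ e₃ h₃ n2 n3 nc2 nc3
  have cy12 : Cyc (e₁ * e₂) := hdisj _ m12 n12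
  have cy13 : Cyc (e₁ * e₃) := hdisj _ m13 n13
  have cy23 : Cyc (e₂ * e₃) := hdisj _ m23 n23
  -- products and fixed points
  have p12 : ∀ x, e₁ x = x → e₂ x = x → (e₁ * e₂) x = x := by
    intro x a b; rw [MulAut.mul_apply, b, a]
  have p13 : ∀ x, e₁ x = x → e₃ x = x → (e₁ * e₃) x = x := by
    intro x a b; rw [MulAut.mul_apply, b, a]
  have p23 : ∀ x, e₂ x = x → e₃ x = x → (e₂ * e₃) x = x := by
    intro x a b; rw [MulAut.mul_apply, b, a]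
  have f12 : ∀ x, (e₁ * e₂) x = x → e₁ x = x → e₂ x = x := by
    intro x h hx1
    rw [MulAut.mul_apply] at h
    have := congrArg e₁ h
    rw [i1, hx1] at this
    exact this
  have f13 : ∀ x, (e₁ * e₃) x = x → e₁ x = x → e₃ x = x := by
    intro x h hx1
    rw [MulAut.mul_apply] at h
    have := congrArg e₁ h
    rw [i1, hx1] at this
    exact this
  have f23 : ∀ x, (e₂ * e₃) x = x → e₂ x = x → e₃ x = x := by
    intro x h hx1
    rw [MulAut.mul_apply] at h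
    have := congrArg e₂ h
    rw [i2, hx1] at this
    exact this
  -- Step 5
  have b3 : ∀ x, e₃ x = x → (e₁ * e₂) x = x → e₁ x = x := fun x h3 h =>
    fixed_of_cyc hP (e₁ * e₂) cy12 x₃ (p12 x₃ x₃1 x₃2) e₁ e₃ x₃3 x₃1 x h h3
  have d : ∀ x, (e₁ * e₂) x = x → (e₁ * e₃) x = x → e₁ x = x := by
    intro x h h'
    have hS' : (e₁ * e₃) x₃ ≠ x₃ := by
      rw [MulAut.mul_apply, c13, x₃1]; exact x₃3
    exact fixed_of_cyc hP (e₁ * e₂) cy12 x₃ (p12 x₃ x₃1 x₃2) e₁ (e₁ * e₃) hS' x₃1 x h h'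
  have b2 : ∀ x, e₂ x = x → (e₁ * e₃) x = x → e₁ x = x := fun x h2 h =>
    fixed_of_cyc hP (e₁ * e₃) cy13 x₂ (p13 x₂ x₂1 x₂3) e₁ e₂ x₂2 x₂1 x h h2
  have b1 : ∀ x, e₁ x = x → (e₂ * e₃) x = x → e₂ x = x := fun x h1 h =>
    fixed_of_cyc hP (e₂ * e₃) cy23 x₁ (p23 x₁ x₁2 x₁3) e₂ e₁ x₁1 x₁2 x h h1
  -- Step 6
  have inv3 : ∀ x, e₁ x = x → e₂ x = x → e₃ x = x⁻¹ := by
    obtain ⟨g₃, hg₃⟩ := cy12
    have hA : fixS e₁ ⊓ fixS e₂ ≤ zpowers g₃ := by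
      rintro x ⟨hx1, hx2⟩
      exact (hg₃ x).mp (p12 x hx1 hx2)
    have hAT : ∀ x ∈ fixS e₁ ⊓ fixS e₂, e₃ x ∈ fixS e₁ ⊓ fixS e₂ := by
      rintro x ⟨hx1, hx2⟩
      refine ⟨?_, ?_⟩
      · show e₁ (e₃ x) = e₃ x
        rw [c13, mem_fixS.mp hx1]
      · show e₂ (e₃ x) = e₃ x
        rw [c23, mem_fixS.mp hx2]
    rcases cyc_inv hP hodd e₃ i3 g₃ _ hA hAT with h | h
    · exact absurd (h x₃ ⟨x₃1, x₃2⟩) x₃3
    · intro x hx1 hx2; exact h x ⟨hx1, hx2⟩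
  have inv2 : ∀ x, e₁ x = x → e₃ x = x → e₂ x = x⁻¹ := by
    obtain ⟨g₂, hg₂⟩ := cy13
    have hA : fixS e₁ ⊓ fixS e₃ ≤ zpowers g₂ := by
      rintro x ⟨hx1, hx2⟩
      exact (hg₂ x).mp (p13 x hx1 hx2)
    have hAT : ∀ x ∈ fixS e₁ ⊓ fixS e₃, e₂ x ∈ fixS e₁ ⊓ fixS e₃ := by
      rintro x ⟨hx1, hx2⟩
      refine ⟨?_, ?_⟩
      · show e₁ (e₂ x) = e₂ x
        rw [c12, mem_fixS.mp hx1]
      · show e₃ (e₂ x) = e₂ x
        rw [← c23, mem_fixS.mp hx2]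
    rcases cyc_inv hP hodd e₂ i2 g₂ _ hA hAT with h | h
    · exact absurd (h x₂ ⟨x₂1, x₂3⟩) x₂2
    · intro x hx1 hx2; exact h x ⟨hx1, hx2⟩
  have inv1 : ∀ x, e₂ x = x → e₃ x = x → e₁ x = x⁻¹ := by
    obtain ⟨g₁, hg₁⟩ := cy23
    have hA : fixS e₂ ⊓ fixS e₃ ≤ zpowers g₁ := by
      rintro x ⟨hx1, hx2⟩
      exact (hg₁ x).mp (p23 x hx1 hx2)
    have hAT : ∀ x ∈ fixS e₂ ⊓ fixS e₃, e₁ x ∈ fixS e₂ ⊓ fixS e₃ := by
      rintro x ⟨hx1, hx2⟩
      refine ⟨?_, ?_⟩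
      · show e₂ (e₁ x) = e₁ x
        rw [← c12, mem_fixS.mp hx1]
      · show e₃ (e₁ x) = e₁ x
        rw [← c13, mem_fixS.mp hx2]
    rcases cyc_inv hP hodd e₁ i1 g₁ _ hA hAT with h | h
    · exact absurd (h x₁ ⟨x₁2, x₁3⟩) x₁1
    · intro x hx1 hx2; exact h x ⟨hx1, hx2⟩
  have pi : ∀ x, e₁ x = x → e₂ x = x → e₃ x = x → x = 1 := fun x a b c =>
    eq_one_of_mul_self hodd (mul_eq_one_iff_eq_inv.mpr (c.symm.trans (inv3 x a b)))
  -- Step 7
  have ab3 : ∀ x y, e₃ x = x → e₃ y = y → x * y = y * x := by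
    have hinv := inverts_of_fpf hodd (e₁ * e₂) i12 (fixS e₃)
      (by
        intro x hx
        show e₃ ((e₁ * e₂) x) = (e₁ * e₂) x
        rw [MulAut.mul_apply, ← c13, ← c23, mem_fixS.mp hx])
      (by
        intro x hx h
        have h1 := b3 x hx h
        exact pi x h1 (f12 x h h1) hx)
    intro x y hx hy
    exact comm_of_inverts (e₁ * e₂) (fixS e₃) hinv x hx y hy
  have ab1 : ∀ x y, e₁ x = x → e₁ y = y → x * y = y * x := by
    have hinv := inverts_of_fpf hodd (e₂ * e₃) i23 (fixS e₁)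
      (by
        intro x hx
        show e₁ ((e₂ * e₃) x) = (e₂ * e₃) x
        rw [MulAut.mul_apply, c12, c13, mem_fixS.mp hx])
      (by
        intro x hx h
        have h2 := b1 x hx h
        exact pi x hx h2 (f23 x h h2))
    intro x y hx hy
    exact comm_of_inverts (e₂ * e₃) (fixS e₁) hinv x hx y hy
  have ab2 : ∀ x y, e₂ x = x → e₂ y = y → x * y = y * x := by
    have hinv := inverts_of_fpf hodd (e₁ * e₃) i13 (fixS e₂)
      (by
        intro x hx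
        show e₂ ((e₁ * e₃) x) = (e₁ * e₃) x
        rw [MulAut.mul_apply, ← c12, c23, mem_fixS.mp hx])
      (by
        intro x hx h
        have h1 := b2 x hx h
        exact pi x h1 hx (f13 x h h1))
    intro x y hx hy
    exact comm_of_inverts (e₁ * e₃) (fixS e₂) hinv x hx y hy
  -- Step 8: generation
  have htop : ∀ x : P,
      x ∈ (fixS e₂ ⊓ fixS e₃) ⊔ (fixS e₁ ⊓ fixS e₃) ⊔ (fixS e₁ ⊓ fixS e₂) := by
    have hF1 : fixS e₁ ≤ (fixS e₂ ⊓ fixS e₃) ⊔ (fixS e₁ ⊓ fixS e₃) ⊔ (fixS e₁ ⊓ fixS e₂) := by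
      have := gen4 hodd e₂ e₃ i2 i3 c23 (fixS e₁)
        (by intro x hx; show e₁ (e₂ x) = e₂ x; rw [c12, mem_fixS.mp hx])
        (by intro x hx; show e₁ (e₃ x) = e₃ x; rw [c13, mem_fixS.mp hx])
      refine this.trans (sup_le (sup_le ?_ ?_) ?_)
      · exact le_sup_right
      · exact le_sup_of_le_left le_sup_right
      · rintro x ⟨hx1, hx23⟩
        have h2 := b1 x hx1 hx23
        have h3 := f23 x hx23 h2
        rw [pi x hx1 h2 h3]; exact one_mem _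
    have hF2 : fixS e₂ ≤ (fixS e₂ ⊓ fixS e₃) ⊔ (fixS e₁ ⊓ fixS e₃) ⊔ (fixS e₁ ⊓ fixS e₂) := by
      have := gen4 hodd e₁ e₃ i1 i3 c13 (fixS e₂)
        (by intro x hx; show e₂ (e₁ x) = e₁ x; rw [← c12, mem_fixS.mp hx])
        (by intro x hx; show e₂ (e₃ x) = e₃ x; rw [c23, mem_fixS.mp hx])
      refine this.trans (sup_le (sup_le ?_ ?_) ?_)
      · rintro x ⟨hx2, hx1⟩
        exact mem_sup_right ⟨hx1, hx2⟩
      · exact le_sup_of_le_left le_sup_left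
      · rintro x ⟨hx2, hx13⟩
        have h1 := b2 x hx2 hx13
        have h3 := f13 x hx13 h1
        rw [pi x h1 hx2 h3]; exact one_mem _
    have hF12 : fixS (e₁ * e₂) ≤
        (fixS e₂ ⊓ fixS e₃) ⊔ (fixS e₁ ⊓ fixS e₃) ⊔ (fixS e₁ ⊓ fixS e₂) := by
      have := gen4 hodd e₁ e₃ i1 i3 c13 (fixS (e₁ * e₂))
        (by
          intro x hx
          have hx' : e₁ (e₂ x) = x := hx
          show (e₁ * e₂) (e₁ x) = e₁ x
          rw [MulAut.mul_apply, ← c12, hx'])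
        (by
          intro x hx
          have hx' : e₁ (e₂ x) = x := hx
          show (e₁ * e₂) (e₃ x) = e₃ x
          rw [MulAut.mul_apply, c23, c13, hx'])
      refine this.trans (sup_le (sup_le ?_ ?_) ?_)
      · rintro x ⟨hx12, hx1⟩
        exact mem_sup_right ⟨hx1, f12 x hx12 hx1⟩
      · rintro x ⟨hx12, hx3⟩
        have h1 := b3 x hx3 hx12
        exact mem_sup_right ⟨h1, f12 x hx12 h1⟩
      · rintro x ⟨hx12, hx13⟩
        have h1 := d x hx12 hx13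
        exact mem_sup_right ⟨h1, f12 x hx12 h1⟩
    have g0 := gen4 hodd e₁ e₂ i1 i2 c12 ⊤ (fun _ _ => mem_top _) (fun _ _ => mem_top _)
    intro x
    have hx := g0 (mem_top x)
    have hle : (⊤ ⊓ fixS e₁) ⊔ (⊤ ⊓ fixS e₂) ⊔ (⊤ ⊓ fixS (e₁ * e₂)) ≤
        (fixS e₂ ⊓ fixS e₃) ⊔ (fixS e₁ ⊓ fixS e₃) ⊔ (fixS e₁ ⊓ fixS e₂) :=
      sup_le (sup_le (inf_le_right.trans hF1) (inf_le_right.trans hF2))
        (inf_le_right.trans hF12)
    exact hle hx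
  -- commutativity
  have hcommP : ∀ x y : P, x * y = y * x := by
    let S : Set P := {x | (e₂ x = x ∧ e₃ x = x) ∨ (e₁ x = x ∧ e₃ x = x) ∨ (e₁ x = x ∧ e₂ x = x)}
    have hpair : ∀ x ∈ S, ∀ y ∈ S, x * y = y * x := by
      rintro x (⟨a2, a3⟩ | ⟨a1, a3⟩ | ⟨a1, a2⟩) y (⟨b2, b3⟩ | ⟨b1, b3⟩ | ⟨b1, b2⟩)
      · exact ab3 x y a3 b3
      · exact ab3 x y a3 b3
      · exact ab2 x y a2 b2
      · exact ab3 x y a3 b3
      · exact ab3 x y a3 b3
      · exact ab1 x y a1 b1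
      · exact ab2 x y a2 b2
      · exact ab1 x y a1 b1
      · exact ab1 x y a1 b1
    have hcl : closure S = ⊤ := by
      rw [eq_top_iff]
      intro x _
      have hle : (fixS e₂ ⊓ fixS e₃) ⊔ (fixS e₁ ⊓ fixS e₃) ⊔ (fixS e₁ ⊓ fixS e₂) ≤ closure S := by
        refine sup_le (sup_le ?_ ?_) ?_
        · intro y hy; exact subset_closure (Or.inl ⟨hy.1, hy.2⟩)
        · intro y hy; exact subset_closure (Or.inr (Or.inl ⟨hy.1, hy.2⟩))
        · intro y hy; exact subset_closure (Or.inr (Or.inr ⟨hy.1, hy.2⟩))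
      exact hle (htop x)
    have h1 : closure S ≤ centralizer S :=
      (closure_le _).mpr (fun z hz => mem_centralizer_iff.mpr (fun h hh => hpair h hh z hz))
    have h2 : ∀ g : P, ∀ z ∈ S, z * g = g * z := by
      intro g z hz
      have : g ∈ centralizer S := h1 (by rw [hcl]; exact mem_top g)
      exact mem_centralizer_iff.mp this z hz
    have h3 : closure S ≤ center P :=
      (closure_le _).mpr (fun z hz => mem_center_iff.mpr (fun g => (h2 g z hz).symm))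
    intro x y
    have hy : y ∈ center P := h3 (by rw [hcl]; exact mem_top y)
    exact (mem_center_iff.mp hy x)
  -- three generators
  have gen3 : ∃ a b c : P, closure {a, b, c} = ⊤ := by
    obtain ⟨g₁, hg₁⟩ := cy23
    obtain ⟨g₂, hg₂⟩ := cy13
    obtain ⟨g₃, hg₃⟩ := cy12
    have hc1 : IsCyclic ↥(fixS e₂ ⊓ fixS e₃) :=
      Subgroup.isCyclic_of_le (H' := zpowers g₁) (fun x hx => (hg₁ x).mp (p23 x hx.1 hx.2))
    have hc2 : IsCyclic ↥(fixS e₁ ⊓ fixS e₃) :=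
      Subgroup.isCyclic_of_le (H' := zpowers g₂) (fun x hx => (hg₂ x).mp (p13 x hx.1 hx.2))
    have hc3 : IsCyclic ↥(fixS e₁ ⊓ fixS e₂) :=
      Subgroup.isCyclic_of_le (H' := zpowers g₃) (fun x hx => (hg₃ x).mp (p12 x hx.1 hx.2))
    obtain ⟨y₁, hy₁⟩ := (Subgroup.isCyclic_iff_exists_zpowers_eq_top _).mp hc1
    obtain ⟨y₂, hy₂⟩ := (Subgroup.isCyclic_iff_exists_zpowers_eq_top _).mp hc2
    obtain ⟨y₃, hy₃⟩ := (Subgroup.isCyclic_iff_exists_zpowers_eq_top _).mp hc3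
    refine ⟨y₁, y₂, y₃, ?_⟩
    rw [eq_top_iff]
    intro x _
    have hle : (fixS e₂ ⊓ fixS e₃) ⊔ (fixS e₁ ⊓ fixS e₃) ⊔ (fixS e₁ ⊓ fixS e₂) ≤
        closure {y₁, y₂, y₃} := by
      rw [← hy₁, ← hy₂, ← hy₃]
      refine sup_le (sup_le ?_ ?_) ?_ <;> exact zpowers_le.mpr (subset_closure (by simp))
    exact hle (htop x)
  -- elements of order p
  have hzex : ∀ x : P, x ≠ 1 → ∃ k : ℕ, orderOf (x ^ k) = p := by
    intro x hx
    obtain ⟨k, hk⟩ := IsPGroup.iff_orderOf.mp hP x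
    have hk0 : k ≠ 0 := by
      rintro rfl
      rw [pow_zero, orderOf_eq_one_iff] at hk
      exact hx hk
    refine ⟨orderOf x / p, orderOf_pow_orderOf_div (orderOf_pos x).ne' ?_⟩
    rw [hk]; exact dvd_pow_self p hk0
  have x₁ne : x₁ ≠ 1 := by rintro rfl; exact x₁1 (map_one e₁)
  have x₂ne : x₂ ≠ 1 := by rintro rfl; exact x₂2 (map_one e₂)
  have x₃ne : x₃ ≠ 1 := by rintro rfl; exact x₃3 (map_one e₃)
  obtain ⟨k₁, o1⟩ := hzex x₁ x₁ne
  obtain ⟨k₂, o2⟩ := hzex x₂ x₂ne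
  obtain ⟨k₃, o3⟩ := hzex x₃ x₃ne
  have not2 : ¬ ∃ a b : P, closure {a, b} = ⊤ := by
    refine not_two_gen p hodd hcommP e₁ e₂ (x₁ ^ k₁) (x₂ ^ k₂) (x₃ ^ k₃) o1 o2 o3 ?_ ?_ ?_ ?_ ?_
    · rw [map_pow, inv1 x₁ x₁2 x₁3, inv_pow]
    · rw [map_pow, x₂1]
    · rw [map_pow, x₃1]
    · rw [map_pow, inv2 x₂ x₂1 x₂3, inv_pow]
    · rw [map_pow, x₃2]
  -- e₁ e₂ e₃ inverts everything
  have inv123 : ∀ x : P, (e₁ * e₂ * e₃) x = x⁻¹ := by
    let K : Subgroup P :=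
      { carrier := {x | (e₁ * e₂ * e₃) x = x⁻¹}
        mul_mem' := by
          intro a b ha hb
          simp only [Set.mem_setOf_eq] at *
          rw [map_mul, ha, hb, mul_inv_rev]
          exact hcommP _ _
        one_mem' := by simp
        inv_mem' := by
          intro a ha
          simp only [Set.mem_setOf_eq] at *
          rw [map_inv, ha] }
    have hle : (fixS e₂ ⊓ fixS e₃) ⊔ (fixS e₁ ⊓ fixS e₃) ⊔ (fixS e₁ ⊓ fixS e₂) ≤ K := by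
      refine sup_le (sup_le ?_ ?_) ?_
      · rintro x ⟨hx2, hx3⟩
        show (e₁ * e₂ * e₃) x = x⁻¹
        rw [MulAut.mul_apply, MulAut.mul_apply, mem_fixS.mp hx3, mem_fixS.mp hx2]
        exact inv1 x hx2 hx3
      · rintro x ⟨hx1, hx3⟩
        show (e₁ * e₂ * e₃) x = x⁻¹
        rw [MulAut.mul_apply, MulAut.mul_apply, mem_fixS.mp hx3, inv2 x hx1 hx3, map_inv,
          mem_fixS.mp hx1]
      · rintro x ⟨hx1, hx2⟩
        show (e₁ * e₂ * e₃) x = x⁻¹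
        rw [MulAut.mul_apply, MulAut.mul_apply, inv3 x hx1 hx2, map_inv, map_inv,
          mem_fixS.mp hx2, mem_fixS.mp hx1]
    intro x
    exact hle (htop x)
  have cy123 : Cyc (e₁ * e₂ * e₃) := by
    refine ⟨1, fun x => ?_⟩
    rw [zpowers_one_eq_bot, mem_bot]
    constructor
    · intro h
      exact eq_one_of_mul_self hodd (mul_eq_one_iff_eq_inv.mpr (h.symm.trans (inv123 x)))
    · rintro rfl; exact map_one _
  -- characterization of the broad elements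
  have hchar : ∀ S : MulAut P, (S ∈ I ∧ S ≠ 1 ∧ ¬ Cyc S) ↔ (S = e₁ ∨ S = e₂ ∨ S = e₃) := by
    intro S
    constructor
    · rintro ⟨hS, hS1, hSc⟩
      rcases enum S hS with rfl | rfl | rfl | rfl | rfl | rfl | rfl | rfl
      · exact absurd rfl hS1
      · exact Or.inl rfl
      · exact Or.inr (Or.inl rfl)
      · exact Or.inr (Or.inr rfl)
      · exact absurd cy12 hSc
      · exact absurd cy13 hSc
      · exact absurd cy23 hSc
      · exact absurd cy123 hSc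
    · rintro (rfl | rfl | rfl)
      · exact ⟨h₁, n1, nc1⟩
      · exact ⟨h₂, n2, nc2⟩
      · exact ⟨h₃, n3, nc3⟩
  have hset : {T : MulAut P | T ∈ I ∧ T ≠ 1 ∧ ¬ Cyc T} = {e₁, e₂, e₃} := by
    ext S
    rw [Set.mem_setOf_eq, hchar S]
    simp
  have d12 : e₁ ≠ e₂ := by
    rintro rfl; exact n12 (hsq _ h₁)
  have d13 : e₁ ≠ e₃ := by
    rintro rfl; exact n13 (hsq _ h₁)
  have d23 : e₂ ≠ e₃ := by
    rintro rfl; exact n23 (hsq _ h₂)
  refine ⟨⟨⟨hcommP⟩⟩, gen3, not2, ?_, ?_, ?_⟩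
  · show Nat.card ↥{T : MulAut P | T ∈ I ∧ T ≠ 1 ∧ ¬ Cyc T} = 3
    rw [hset, Nat.card_coe_set_eq]
    exact Set.ncard_eq_three.mpr ⟨e₁, e₂, e₃, d12, d13, d23, rfl⟩
  · rw [hset]
    apply le_antisymm
    · rw [closure_le]
      intro S hS
      rcases hS with rfl | rfl | rfl
      · exact h₁
      · exact h₂
      · exact h₃
    · intro S hS
      have q1 : e₁ ∈ closure ({e₁, e₂, e₃} : Set (MulAut P)) := subset_closure (by simp)
      have q2 : e₂ ∈ closure ({e₁, e₂, e₃} : Set (MulAut P)) := subset_closure (by simp)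
      have q3 : e₃ ∈ closure ({e₁, e₂, e₃} : Set (MulAut P)) := subset_closure (by simp)
      rcases enum S hS with rfl | rfl | rfl | rfl | rfl | rfl | rfl | rfl
      · exact one_mem _
      · exact q1
      · exact q2
      · exact q3
      · exact mul_mem q1 q2
      · exact mul_mem q1 q3
      · exact mul_mem q2 q3
      · exact mul_mem (mul_mem q1 q2) q3
  · ext S
    simp only [SetLike.mem_coe, Set.mem_setOf_eq]
    constructor
    · intro hS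
      rcases enum S (hI₀.le hS) with rfl | rfl | rfl | rfl | rfl | rfl | rfl | rfl
      · exact ⟨e₁, e₁, h₁, h₁, n1, n1, nc1, nc1, (hsq _ h₁).symm⟩
      · exact absurd (hdisj _ hS n1) nc1
      · exact absurd (hdisj _ hS n2) nc2
      · exact absurd (hdisj _ hS n3) nc3
      · exact ⟨e₁, e₂, h₁, h₂, n1, n2, nc1, nc2, rfl⟩
      · exact ⟨e₁, e₃, h₁, h₃, n1, n3, nc1, nc3, rfl⟩
      · exact ⟨e₂, e₃, h₂, h₃, n2, n3, nc2, nc3, rfl⟩
      · exfalso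
        have h3' : e₃ ∈ I₀ := by
          have : e₃ = (e₁ * e₂) * (e₁ * e₂ * e₃) := by
            rw [← mul_assoc, hsq _ h12, one_mul]
          rw [this]
          exact I₀.mul_mem m12 hS
        exact nc3 (hdisj _ h3' n3)
    · rintro ⟨T, T', hT, hT', hT1, hT'1, hTc, hT'c, rfl⟩
      exact hprod T hT T' hT' hT1 hT'1 hTc hT'c

end Main


section Vec

abbrev V := ZMod 2 × ZMod 2 × ZMod 2

def dot (v w : V) : ZMod 2 := v.1 * w.1 + v.2.1 * w.2.1 + v.2.2 * w.2.2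

def cross (v w : V) : V :=
  (v.2.1 * w.2.2 + v.2.2 * w.2.1, v.2.2 * w.1 + v.1 * w.2.2, v.1 * w.2.1 + v.2.1 * w.1)

def det3 (u v w : V) : ZMod 2 := dot u (cross v w)

theorem z01 : ∀ z : ZMod 2, z = 0 ∨ z = 1 := by decide

theorem vadd_self : ∀ v : V, v + v = 0 := by decide

theorem vadd_eq_zero : ∀ u v : V, u + v = 0 → u = v := by decide

theorem vadd_cancel : ∀ ε v : V, ε + (ε + v) = v := by decide

set_option maxRecDepth 100000 in
theorem dot_add : ∀ u v w : V, dot (u + v) w = dot u w + dot v w := by decide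

set_option maxRecDepth 100000 in
theorem L1 : ∀ w : V, w ≠ 0 → ∃ v : V, v ≠ 0 ∧ dot v w = 0 := by decide

set_option maxRecDepth 100000 in
theorem L2 : ∀ w₁ w₂ : V, (w₁ ≠ 0 ∧ w₂ ≠ 0 ∧ w₁ ≠ w₂) →
    (cross w₁ w₂ ≠ 0 ∧ dot (cross w₁ w₂) w₁ = 0 ∧ dot (cross w₁ w₂) w₂ = 0 ∧
      dot w₁ (cross w₁ w₂) = 0 ∧ dot w₂ (cross w₁ w₂) = 0) := by decide

set_option maxRecDepth 100000 in
set_option synthInstance.maxHeartbeats 400000 in
set_option synthInstance.maxSize 2000 in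
theorem L3 : ∀ w₁ w₂ w₃ v : V, (w₁ ≠ 0 ∧ w₂ ≠ 0 ∧ w₁ ≠ w₂ ∧ v ≠ 0 ∧ dot v w₁ = 0 ∧ dot v w₂ = 0 ∧
    dot v w₃ = 1) → det3 w₁ w₂ w₃ = 1 := by decide

set_option maxRecDepth 100000 in
set_option synthInstance.maxHeartbeats 400000 in
set_option synthInstance.maxSize 2000 in
theorem L4 : ∀ w₁ w₂ w₃ : V, det3 w₁ w₂ w₃ = 1 →
    (dot (cross w₂ w₃) w₁ = 1 ∧ dot (cross w₂ w₃) w₂ = 0 ∧ dot (cross w₂ w₃) w₃ = 0 ∧
     dot (cross w₃ w₁) w₁ = 0 ∧ dot (cross w₃ w₁) w₂ = 1 ∧ dot (cross w₃ w₁) w₃ = 0 ∧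
     dot (cross w₁ w₂) w₁ = 0 ∧ dot (cross w₁ w₂) w₂ = 0 ∧ dot (cross w₁ w₂) w₃ = 1 ∧
     det3 (cross w₂ w₃) (cross w₃ w₁) (cross w₁ w₂) = 1) := by decide

set_option maxRecDepth 100000 in
set_option synthInstance.maxHeartbeats 400000 in
set_option synthInstance.maxSize 2000 in
theorem L5 : ∀ e₁ e₂ e₃ u : V, det3 e₁ e₂ e₃ = 1 →
    (u = 0 ∨ u = e₁ ∨ u = e₂ ∨ u = e₃ ∨ u = e₁ + e₂ ∨ u = e₁ + e₃ ∨ u = e₂ + e₃ ∨
      u = e₁ + e₂ + e₃) := by decide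

set_option maxRecDepth 100000 in
set_option synthInstance.maxHeartbeats 400000 in
set_option synthInstance.maxSize 2000 in
theorem L6 : ∀ e₁ e₂ e₃ : V, det3 e₁ e₂ e₃ = 1 →
    (e₁ ≠ 0 ∧ e₂ ≠ 0 ∧ e₃ ≠ 0 ∧ e₁ + e₂ ≠ 0 ∧ e₁ + e₃ ≠ 0 ∧ e₂ + e₃ ≠ 0 ∧ e₁ + e₂ + e₃ ≠ 0) := by
  decide

set_option maxRecDepth 100000 in
set_option synthInstance.maxHeartbeats 400000 in
set_option synthInstance.maxSize 2000 in
theorem L6' : ∀ u u₁ u₂ : V, det3 u u₁ u₂ = 1 →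
    (u ≠ 0 ∧ u₁ ≠ 0 ∧ u₂ ≠ 0 ∧ u₁ + u₂ ≠ 0 ∧ u ≠ u₁ ∧ u ≠ u₂ ∧ u ≠ u₁ + u₂) := by
  decide

set_option maxRecDepth 100000 in
set_option synthInstance.maxHeartbeats 400000 in
set_option synthInstance.maxSize 2000 in
theorem L7 : ∀ w e₂ e₃ u : V, (dot e₂ w = 0 ∧ dot e₃ w = 0 ∧ e₂ ≠ 0 ∧ e₃ ≠ 0 ∧ e₂ ≠ e₃ ∧ w ≠ 0 ∧
    dot u w = 0) → (u = 0 ∨ u = e₂ ∨ u = e₃ ∨ u = e₂ + e₃) := by decide

set_option maxRecDepth 100000 in
theorem L8 : ∀ u : V, u ≠ 0 → ∃ u₁ u₂ : V, det3 u u₁ u₂ = 1 := by decide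

end Vec

section Param

/-- a parametrization of an elementary abelian group of order 8 by `F₂³` -/
structure Param {G : Type*} [Group G] (I : Subgroup G) (T : V → G) : Prop where
  mem : ∀ v, T v ∈ I
  zero : T 0 = 1
  add : ∀ u v, T (u + v) = T u * T v
  inj : ∀ v, T v = 1 → v = 0
  surj : ∀ S ∈ I, ∃ v, T v = S

def pw {G : Type*} [Group G] (x : G) (i : ZMod 2) : G := if i = 0 then 1 else x

theorem pw_zero {G : Type*} [Group G] (x : G) : pw x 0 = 1 := if_pos rfl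

theorem pw_one {G : Type*} [Group G] (x : G) : pw x 1 = x := if_neg (by decide)

theorem pw_add {G : Type*} [Group G] {x : G} (hx : x * x = 1) (i j : ZMod 2) :
    pw x (i + j) = pw x i * pw x j := by
  have h11 : (1 + 1 : ZMod 2) = 0 := by decide
  rcases z01 i with rfl | rfl <;> rcases z01 j with rfl | rfl
  · rw [add_zero, pw_zero, one_mul]
  · rw [zero_add, pw_zero, one_mul]
  · rw [add_zero, pw_zero, mul_one]
  · rw [h11, pw_zero, pw_one, hx]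

def Tm {G : Type*} [Group G] (a b c : G) (v : V) : G := pw a v.1 * pw b v.2.1 * pw c v.2.2

theorem mul3_comm {G : Type*} [Group G] (A₁ A₂ B₁ B₂ C₁ C₂ : G) (h1 : A₂ * B₁ = B₁ * A₂)
    (h2 : A₂ * C₁ = C₁ * A₂) (h3 : B₂ * C₁ = C₁ * B₂) :
    (A₁ * A₂) * (B₁ * B₂) * (C₁ * C₂) = (A₁ * B₁ * C₁) * (A₂ * B₂ * C₂) := by
  have e1 : (A₁ * A₂) * (B₁ * B₂) = (A₁ * B₁) * (A₂ * B₂) :=
    Commute.mul_mul_mul_comm (show Commute A₂ B₁ from h1) A₁ B₂
  have e2 : Commute (A₂ * B₂) C₁ :=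
    Commute.mul_left (show Commute A₂ C₁ from h2) (show Commute B₂ C₁ from h3)
  rw [e1]
  exact Commute.mul_mul_mul_comm e2 (A₁ * B₁) C₂

theorem exists_param {G : Type*} [Group G] (I : Subgroup G)
    (hcomm : ∀ x ∈ I, ∀ y ∈ I, x * y = y * x) (hsq : ∀ x ∈ I, x * x = 1)
    (h8 : Nat.card ↥I = 8) : ∃ T : V → G, Param I T := by
  classical
  haveI : Finite ↥I := Nat.finite_of_card_ne_zero (by rw [h8]; norm_num)
  have bound : ∀ s : Finset G, (∀ x ∈ I, x ∈ s) → 8 ≤ s.card := by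
    intro s hs
    rw [← h8]
    have h1 : Nat.card ↥I = (I : Set G).ncard := rfl
    rw [h1, ← Set.ncard_coe_finset s]
    exact Set.ncard_le_ncard (fun x hx => hs x hx) s.finite_toSet
  obtain ⟨a, ha, ha1⟩ : ∃ a ∈ I, a ≠ 1 := by
    by_contra h
    push Not at h
    have := bound {1} (fun x hx => by rw [Finset.mem_singleton]; exact h x hx)
    simp at this
  obtain ⟨b, hb, hb1, hba⟩ : ∃ b ∈ I, b ≠ 1 ∧ b ≠ a := by
    by_contra h
    push Not at h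
    have := bound {1, a} (fun x hx => by
      simp only [Finset.mem_insert, Finset.mem_singleton]
      by_cases hx1 : x = 1
      · exact Or.inl hx1
      · exact Or.inr (h x hx hx1))
    have h2 := Finset.card_le_two (a := (1 : G)) (b := a)
    exact absurd (this.trans h2) (by norm_num)
  obtain ⟨c, hc, hc1, hca, hcb, hcab⟩ : ∃ c ∈ I, c ≠ 1 ∧ c ≠ a ∧ c ≠ b ∧ c ≠ a * b := by
    by_contra h
    push Not at h
    have := bound {1, a, b, a * b} (fun x hx => by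
      simp only [Finset.mem_insert, Finset.mem_singleton]
      by_cases hx1 : x = 1
      · exact Or.inl hx1
      by_cases hxa : x = a
      · exact Or.inr (Or.inl hxa)
      by_cases hxb : x = b
      · exact Or.inr (Or.inr (Or.inl hxb))
      · exact Or.inr (Or.inr (Or.inr (h x hx hx1 hxa hxb))))
    have h2 := Finset.card_le_four (a := (1 : G)) (b := a) (c := b) (d := a * b)
    exact absurd (this.trans h2) (by norm_num)
  have pwmem : ∀ x ∈ I, ∀ i, pw x i ∈ I := by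
    intro x hx i
    unfold pw
    split_ifs
    · exact I.one_mem
    · exact hx
  have hmem : ∀ v, Tm a b c v ∈ I := fun v =>
    I.mul_mem (I.mul_mem (pwmem a ha _) (pwmem b hb _)) (pwmem c hc _)
  have hzero : Tm a b c 0 = 1 := by
    show pw a 0 * pw b 0 * pw c 0 = 1
    rw [pw_zero, pw_zero, pw_zero, one_mul, one_mul]
  have hadd : ∀ u v, Tm a b c (u + v) = Tm a b c u * Tm a b c v := by
    intro u v
    show pw a (u.1 + v.1) * pw b (u.2.1 + v.2.1) * pw c (u.2.2 + v.2.2) =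
      (pw a u.1 * pw b u.2.1 * pw c u.2.2) * (pw a v.1 * pw b v.2.1 * pw c v.2.2)
    rw [pw_add (hsq a ha), pw_add (hsq b hb), pw_add (hsq c hc)]
    exact mul3_comm _ _ _ _ _ _ (hcomm _ (pwmem a ha _) _ (pwmem b hb _))
      (hcomm _ (pwmem a ha _) _ (pwmem c hc _)) (hcomm _ (pwmem b hb _) _ (pwmem c hc _))
  have key : ∀ x y : G, x * x = 1 → x * y = 1 → y = x := by
    intro x y hx hxy
    exact mul_left_cancel (hxy.trans hx.symm)
  have hinj : ∀ w, Tm a b c w = 1 → w = 0 := by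
    rintro ⟨i, j, k⟩ h
    change pw a i * pw b j * pw c k = 1 at h
    rcases z01 i with rfl | rfl <;> rcases z01 j with rfl | rfl <;> rcases z01 k with rfl | rfl <;>
      simp only [pw_zero, pw_one, one_mul, mul_one] at h
    · rfl
    · exact absurd h hc1
    · exact absurd h hb1
    · exact absurd (key b c (hsq b hb) h) hcb
    · exact absurd h ha1
    · exact absurd (key a c (hsq a ha) h) hca
    · exact absurd (key a b (hsq a ha) h) hba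
    · exact absurd (key (a * b) c (hsq _ (I.mul_mem ha hb)) h) hcab
  have hinj' : Function.Injective (Tm a b c) := by
    intro u v huv
    have h1 : Tm a b c (u + v) = 1 := by
      rw [hadd, huv, ← hadd, vadd_self, hzero]
    exact vadd_eq_zero u v (hinj _ h1)
  have hsurj : ∀ S ∈ I, ∃ v, Tm a b c v = S := by
    let f : V → ↥I := fun v => ⟨Tm a b c v, hmem v⟩
    have hf : Function.Injective f := fun u v h => hinj' (congrArg Subtype.val h)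
    have hcardV : Fintype.card V = 8 := by
      simp [Fintype.card_prod, ZMod.card]
    have hcard : Nat.card ↥I ≤ Nat.card V := by
      rw [h8, Nat.card_eq_fintype_card, hcardV]
    have hbij := hf.bijective_of_nat_card_le hcard
    intro S hS
    obtain ⟨v, hv⟩ := hbij.2 ⟨S, hS⟩
    exact ⟨v, congrArg Subtype.val hv⟩
  exact ⟨Tm a b c, ⟨hmem, hzero, hadd, hinj, hsurj⟩⟩

variable {P : Type*} [Group P] [Finite P] {I : Subgroup (MulAut P)} {T : V → MulAut P}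

theorem Param.sq {G : Type*} [Group G] {I : Subgroup G} {T : V → G} (hT : Param I T) (v : V) :
    T v * T v = 1 := by
  rw [← hT.add, vadd_self, hT.zero]

theorem Param.comm {G : Type*} [Group G] {I : Subgroup G} {T : V → G} (hT : Param I T) (u v : V) :
    T u * T v = T v * T u := by
  rw [← hT.add, ← hT.add, add_comm]

theorem Param.invol (hT : Param I T) (v : V) (x : P) : T v (T v x) = x :=
  invol_of_sq (hT.sq v) x

theorem Param.comm_apply (hT : Param I T) (u v : V) (x : P) : T u (T v x) = T v (T u x) :=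
  comm_apply_of (hT.comm u v) x

theorem Param.add_apply (hT : Param I T) (u v : V) (x : P) : T (u + v) x = T u (T v x) := by
  rw [hT.add]; rfl

theorem Param.zero_apply (hT : Param I T) (x : P) : T 0 x = x := by
  rw [hT.zero]; rfl

theorem two_le (hT : Param I T) (Q : Subgroup P)
    (hQ : ∀ w : V, w ≠ 0 → ∀ x, (∀ v, dot v w = 0 → T v x = x) → x ∈ Q)
    (e₂ e₃ : V) (h2 : e₂ ≠ 0) (h3 : e₃ ≠ 0) (h23 : e₂ ≠ e₃) (x : P)
    (hx2 : T e₂ x = x) (hx3 : T e₃ x = x) : x ∈ Q := by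
  obtain ⟨hw0, _, _, d2, d3⟩ := L2 e₂ e₃ ⟨h2, h3, h23⟩
  apply hQ (cross e₂ e₃) hw0 x
  intro v hv
  rcases L7 (cross e₂ e₃) e₂ e₃ v ⟨d2, d3, h2, h3, h23, hw0, hv⟩ with rfl | rfl | rfl | rfl
  · exact hT.zero_apply x
  · exact hx2
  · exact hx3
  · rw [hT.add_apply, hx3, hx2]

theorem F_le (hodd : Odd (Nat.card P)) (hT : Param I T) (Q : Subgroup P)
    (hQ : ∀ w : V, w ≠ 0 → ∀ x, (∀ v, dot v w = 0 → T v x = x) → x ∈ Q)
    (u : V) (hu : u ≠ 0) : fixS (T u) ≤ Q := by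
  obtain ⟨u₁, u₂, hdet⟩ := L8 u hu
  obtain ⟨_, hu₁, hu₂, hu₁₂, huu₁, huu₂, huu₁₂⟩ := L6' u u₁ u₂ hdet
  have := gen4 hodd (T u₁) (T u₂) (hT.invol u₁) (hT.invol u₂) (hT.comm_apply u₁ u₂) (fixS (T u))
    (by intro x hx; show T u (T u₁ x) = T u₁ x; rw [hT.comm_apply, mem_fixS.mp hx])
    (by intro x hx; show T u (T u₂ x) = T u₂ x; rw [hT.comm_apply, mem_fixS.mp hx])
  refine this.trans (sup_le (sup_le ?_ ?_) ?_)
  · rintro x ⟨h0, h1⟩
    exact two_le hT Q hQ u u₁ hu hu₁ huu₁ x h0 h1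
  · rintro x ⟨h0, h2⟩
    exact two_le hT Q hQ u u₂ hu hu₂ huu₂ x h0 h2
  · rintro x ⟨h0, h12⟩
    have h12' : T (u₁ + u₂) x = x := by rw [hT.add]; exact h12
    exact two_le hT Q hQ u (u₁ + u₂) hu hu₁₂ huu₁₂ x h0 h12'

theorem gen_hyp (hodd : Odd (Nat.card P)) (hT : Param I T) (Q : Subgroup P)
    (hQ : ∀ w : V, w ≠ 0 → ∀ x, (∀ v, dot v w = 0 → T v x = x) → x ∈ Q) : ∀ x, x ∈ Q := by
  have ha : ((1, 0, 0) : V) ≠ 0 := by decide
  have hb : ((0, 1, 0) : V) ≠ 0 := by decide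
  have hab : ((1, 0, 0) : V) + (0, 1, 0) ≠ 0 := by decide
  have g0 := gen4 hodd (T (1, 0, 0)) (T (0, 1, 0)) (hT.invol _) (hT.invol _)
    (hT.comm_apply _ _) ⊤ (fun _ _ => mem_top _) (fun _ _ => mem_top _)
  have h1 := F_le hodd hT Q hQ _ ha
  have h2 := F_le hodd hT Q hQ _ hb
  have h3 := F_le hodd hT Q hQ _ hab
  rw [hT.add] at h3
  have hle : (⊤ ⊓ fixS (T (1, 0, 0))) ⊔ (⊤ ⊓ fixS (T (0, 1, 0))) ⊔
      (⊤ ⊓ fixS (T (1, 0, 0) * T (0, 1, 0))) ≤ Q :=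
    sup_le (sup_le (inf_le_right.trans h1) (inf_le_right.trans h2)) (inf_le_right.trans h3)
  intro x
  exact hle (g0 (mem_top x))

theorem exists_supp (hodd : Odd (Nat.card P)) (hT : Param I T) (v : V) (hv : v ≠ 0) :
    ∃ w : V, ∃ x : P, (∀ u, dot u w = 0 → T u x = x) ∧ T v x ≠ x := by
  by_contra h
  push Not at h
  have hall : ∀ x, x ∈ fixS (T v) := gen_hyp hodd hT (fixS (T v)) (fun w _ x hx => h w x hx)
  have h1 : T v = 1 := by
    apply MulEquiv.ext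
    intro x
    rw [MulAut.one_apply]
    exact hall x
  exact hv (hT.inj v h1)

theorem dot_one_of_moves {w v : V} {x : P} (hx : ∀ u, dot u w = 0 → T u x = x)
    (hv : T v x ≠ x) : dot v w = 1 := by
  rcases z01 (dot v w) with h | h
  · exact absurd (hx v h) hv
  · exact h

theorem moves_of_dot_one (hT : Param I T) {w v ε : V} {x : P}
    (hx : ∀ u, dot u w = 0 → T u x = x) (hv : T v x ≠ x) (dε : dot ε w = 1) : T ε x ≠ x := by
  have dv : dot v w = 1 := dot_one_of_moves hx hv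
  intro h
  have d : dot (ε + v) w = 0 := by
    rw [dot_add, dε, dv]; decide
  have f : T (ε + v) x = x := hx _ d
  apply hv
  have e : T v = T ε * T (ε + v) := by
    rw [← hT.add, vadd_cancel]
  rw [e]
  show T ε (T (ε + v) x) = x
  rw [f, h]

theorem exists_adapted (hodd : Odd (Nat.card P)) (hT : Param I T) :
    ∃ ε₁ ε₂ ε₃ : V, det3 ε₁ ε₂ ε₃ = 1 ∧
      (∃ x, T ε₂ x = x ∧ T ε₃ x = x ∧ T ε₁ x ≠ x) ∧
      (∃ x, T ε₁ x = x ∧ T ε₃ x = x ∧ T ε₂ x ≠ x) ∧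
      (∃ x, T ε₁ x = x ∧ T ε₂ x = x ∧ T ε₃ x ≠ x) := by
  have v0 : ((1, 0, 0) : V) ≠ 0 := by decide
  obtain ⟨w₁, x₁, hx₁, hv₁⟩ := exists_supp hodd hT _ v0
  have d1 : dot (1, 0, 0) w₁ = 1 := dot_one_of_moves hx₁ hv₁
  have w₁0 : w₁ ≠ 0 := by
    rintro rfl
    exact absurd d1 (by decide)
  obtain ⟨v₁, v₁0, hv₁w₁⟩ := L1 w₁ w₁0
  obtain ⟨w₂, x₂, hx₂, hv₂⟩ := exists_supp hodd hT v₁ v₁0
  have d2 : dot v₁ w₂ = 1 := dot_one_of_moves hx₂ hv₂
  have w₁₂ : w₁ ≠ w₂ := by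
    rintro rfl
    rw [hv₁w₁] at d2
    exact absurd d2 (by decide)
  have w₂0 : w₂ ≠ 0 := by
    rintro rfl
    have : dot v₁ 0 = 0 := by
      show v₁.1 * 0 + v₁.2.1 * 0 + v₁.2.2 * 0 = 0
      simp
    rw [this] at d2
    exact absurd d2 (by decide)
  obtain ⟨c0, c1, c2, _, _⟩ := L2 w₁ w₂ ⟨w₁0, w₂0, w₁₂⟩
  obtain ⟨w₃, x₃, hx₃, hv₃⟩ := exists_supp hodd hT (cross w₁ w₂) c0
  have d3 : dot (cross w₁ w₂) w₃ = 1 := dot_one_of_moves hx₃ hv₃
  have hdet : det3 w₁ w₂ w₃ = 1 := L3 w₁ w₂ w₃ (cross w₁ w₂) ⟨w₁0, w₂0, w₁₂, c0, c1, c2, d3⟩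
  obtain ⟨a11, a12, a13, a21, a22, a23, a31, a32, a33, hd⟩ := L4 w₁ w₂ w₃ hdet
  refine ⟨cross w₂ w₃, cross w₃ w₁, cross w₁ w₂, hd, ?_, ?_, ?_⟩
  · exact ⟨x₁, hx₁ _ a21, hx₁ _ a31, moves_of_dot_one hT hx₁ hv₁ a11⟩
  · exact ⟨x₂, hx₂ _ a12, hx₂ _ a32, moves_of_dot_one hT hx₂ hv₂ a22⟩
  · exact ⟨x₃, hx₃ _ a13, hx₃ _ a23, moves_of_dot_one hT hx₃ hv₃ a33⟩

end Param

/-- Let p be an odd prime, P a finite p-group and I an elementary abelian subgroup of order 8 of Aut(P). Call T ∈ I, T ≠ 1, broad when its fixed-point subgroup C_P(T) is not cyclic. Suppose I has a proper subgroup I₀ containing no broad element such that the product of any two broad elements lies in I₀. Then P is abelian of rank exactly 3 (generated by three elements but not by two), there are exactly three broad elements and they generate I, and I₀ is exactly the set of products of two broad elements. -/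
theorem result
    {P : Type*} [Group P] [Finite P] (p : ℕ) (hp : p.Prime) (hp2 : p ≠ 2) (hP : IsPGroup p P)
    (I : Subgroup (MulAut P)) (hI : Cfsg.IsElementaryAbelian 2 I) (hI8 : Nat.card ↥I = 8)
    (I₀ : Subgroup (MulAut P)) (hI₀ : I₀ < I)
    (hdisj : ∀ T ∈ I₀, T ≠ 1 → ∃ g : P, ∀ x : P, (T x = x ↔ x ∈ Subgroup.zpowers g))
    (hprod : ∀ T ∈ I, ∀ T' ∈ I, T ≠ 1 → T' ≠ 1 → (¬ ∃ g : P, ∀ x : P, (T x = x ↔ x ∈ Subgroup.zpowers g)) →
      (¬ ∃ g : P, ∀ x : P, (T' x = x ↔ x ∈ Subgroup.zpowers g)) → T * T' ∈ I₀) :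
    IsMulCommutative P ∧ (∃ a b c : P, Subgroup.closure {a, b, c} = ⊤) ∧ (¬ ∃ a b : P, Subgroup.closure {a, b} = ⊤) ∧
      Nat.card {T : MulAut P // T ∈ I ∧ T ≠ 1 ∧ ¬ ∃ g : P, ∀ x : P, (T x = x ↔ x ∈ Subgroup.zpowers g)} = 3 ∧
      Subgroup.closure {T : MulAut P | T ∈ I ∧ T ≠ 1 ∧ ¬ ∃ g : P, ∀ x : P, (T x = x ↔ x ∈ Subgroup.zpowers g)} = I ∧
      (I₀ : Set (MulAut P)) = {S : MulAut P | ∃ T T' : MulAut P, T ∈ I ∧ T' ∈ I ∧ T ≠ 1 ∧ T' ≠ 1 ∧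
        (¬ ∃ g : P, ∀ x : P, (T x = x ↔ x ∈ Subgroup.zpowers g)) ∧ (¬ ∃ g : P, ∀ x : P, (T' x = x ↔ x ∈ Subgroup.zpowers g)) ∧ S = T * T'} := by
  haveI : Fact p.Prime := ⟨hp⟩
  have hodd : Odd (Nat.card P) := by
    obtain ⟨k, hk⟩ := IsPGroup.iff_card.mp hP
    rw [hk]
    exact Odd.pow (hp.odd_of_ne_two hp2)
  have hcomm : ∀ x ∈ I, ∀ y ∈ I, x * y = y * x := by
    intro x hx y hy
    have h := hI.1.is_comm.comm (⟨x, hx⟩ : ↥I) ⟨y, hy⟩
    exact congrArg Subtype.val h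
  have hsq : ∀ x ∈ I, x * x = 1 := by
    intro x hx
    rw [← pow_two]
    exact hI.2 x hx
  obtain ⟨T, hT⟩ := exists_param I hcomm hsq hI8
  obtain ⟨ε₁, ε₂, ε₃, hdet, hA₁, hA₂, hA₃⟩ := exists_adapted hodd hT
  obtain ⟨z1, z2, z3, z12, z13, z23, _⟩ := L6 ε₁ ε₂ ε₃ hdet
  have enum : ∀ S ∈ I, S = 1 ∨ S = T ε₁ ∨ S = T ε₂ ∨ S = T ε₃ ∨ S = T ε₁ * T ε₂ ∨
      S = T ε₁ * T ε₃ ∨ S = T ε₂ * T ε₃ ∨ S = T ε₁ * T ε₂ * T ε₃ := by
    intro S hS
    obtain ⟨u, rfl⟩ := hT.surj S hS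
    rcases L5 ε₁ ε₂ ε₃ u hdet with rfl | rfl | rfl | rfl | rfl | rfl | rfl | rfl
    · exact Or.inl hT.zero
    · exact Or.inr (Or.inl rfl)
    · exact Or.inr (Or.inr (Or.inl rfl))
    · exact Or.inr (Or.inr (Or.inr (Or.inl rfl)))
    · exact Or.inr (Or.inr (Or.inr (Or.inr (Or.inl (hT.add _ _)))))
    · exact Or.inr (Or.inr (Or.inr (Or.inr (Or.inr (Or.inl (hT.add _ _))))))
    · exact Or.inr (Or.inr (Or.inr (Or.inr (Or.inr (Or.inr (Or.inl (hT.add _ _)))))))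
    · refine Or.inr (Or.inr (Or.inr (Or.inr (Or.inr (Or.inr (Or.inr ?_))))))
      rw [hT.add, hT.add]
  have n1 : T ε₁ ≠ 1 := fun h => z1 (hT.inj _ h)
  have n2 : T ε₂ ≠ 1 := fun h => z2 (hT.inj _ h)
  have n3 : T ε₃ ≠ 1 := fun h => z3 (hT.inj _ h)
  have n12 : T ε₁ * T ε₂ ≠ 1 := by
    rw [← hT.add]; exact fun h => z12 (hT.inj _ h)
  have n13 : T ε₁ * T ε₃ ≠ 1 := by
    rw [← hT.add]; exact fun h => z13 (hT.inj _ h)
  have n23 : T ε₂ * T ε₃ ≠ 1 := by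
    rw [← hT.add]; exact fun h => z23 (hT.inj _ h)
  exact main_of_adapted p hp hp2 hP I hcomm hsq I₀ hI₀ hdisj hprod (T ε₁) (T ε₂) (T ε₃)
    (hT.mem _) (hT.mem _) (hT.mem _) enum n1 n2 n3 n12 n13 n23 hA₁ hA₂ hA₃

end Cfsg.Agent.S4412
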