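import Mathlib
import Cfsg.Statements.S4417
import Cfsg.Agent.S4010

set_option autoImplicit false
open Cfsg

namespace Cfsg.Agent.S4417

open Module
open Cfsg.Agent.S4010 (good_main apply_eq_of_mem_ker rep_mul_apply rep_inv_apply liftRep
  liftRep_eq_one)

section General

universe u v w

variable {K : Type u} [Field K]

/-- An irreducible subrepresentation. -/
def IsIrrSub {P : Type v} [Group P] {V : Type w} [AddCommGroup V] [Module K V]
    {ρ : Representation K P V} (S : Subrepresentation ρ) : Prop :=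
  S.toSubmodule ≠ ⊥ ∧ ∀ S' : Subrepresentation ρ, S'.toSubmodule ≤ S.toSubmodule →
    S'.toSubmodule = ⊥ ∨ S'.toSubmodule = S.toSubmodule

theorem derived_le_ker_of_irr_bound [IsAlgClosed K] {p : ℕ} [Fact p.Prime] (hpK : (p : K) ≠ 0)
    {P : Type v} [Group P] [Finite P] (hP : IsPGroup p P) {V : Type w} [AddCommGroup V]
    [Module K V] [FiniteDimensional K V] (ρ : Representation K P V) (m : ℕ)
    (hm : ∀ S : Subrepresentation ρ, IsIrrSub S → (∃ g : P, ∃ v ∈ S.toSubmodule, ρ g v ≠ v) →
      finrank K S.toSubmodule ≤ m) :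
    derivedSeries P (Nat.log 2 m + 1) ≤ MonoidHom.ker ρ := by
  classical
  haveI : NeZero (Nat.card P : K) := by
    obtain ⟨k, hk⟩ := (IsPGroup.iff_card).mp hP
    rw [hk, Nat.cast_pow]
    exact ⟨pow_ne_zero _ hpK⟩
  have key : ∀ k : ℕ, ∀ S : Subrepresentation ρ, finrank K S.toSubmodule = k →
      ∀ g ∈ derivedSeries P (Nat.log 2 m + 1), ∀ v ∈ S.toSubmodule, ρ g v = v := by
    intro k
    induction k using Nat.strong_induction_on with
    | _ k ih =>
    intro S hk g hg v hv
    by_cases hirr : IsIrrSub S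
    · by_cases hnt : ∃ g : P, ∃ v ∈ S.toSubmodule, ρ g v ≠ v
      · have h1 := hm S hirr hnt
        have h2 := good_main hpK _ _ P hP S.toRepresentation rfl
        have h3 : Nat.log 2 (finrank K S.toSubmodule) + 1 ≤ Nat.log 2 m + 1 := by
          have := Nat.log_mono_right (b := 2) h1
          omega
        exact apply_eq_of_mem_ker S (h2 (derivedSeries_antitone P h3 hg)) v hv
      · push Not at hnt
        exact hnt g v hv
    · by_cases hbot : S.toSubmodule = ⊥
      · rw [hbot, Submodule.mem_bot] at hv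
        rw [hv, map_zero]
      · have hex : ∃ S1 : Subrepresentation ρ, S1.toSubmodule ≤ S.toSubmodule ∧
            S1.toSubmodule ≠ ⊥ ∧ S1.toSubmodule ≠ S.toSubmodule := by
          by_contra hcon
          apply hirr
          refine ⟨hbot, fun S' hle => ?_⟩
          by_contra h2
          apply hcon
          exact ⟨S', hle, fun h => h2 (Or.inl h), fun h => h2 (Or.inr h)⟩
        obtain ⟨S1, hS1le, hS1bot, hS1ne⟩ := hex
        obtain ⟨C, hC⟩ := exists_isCompl S1
        have hinf0 : S1.toSubmodule ⊓ C.toSubmodule = ⊥ := by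
          rw [← Subrepresentation.toSubmodule_inf, hC.inf_eq_bot]; rfl
        have hsup0 : S1.toSubmodule ⊔ C.toSubmodule = ⊤ := by
          rw [← Subrepresentation.toSubmodule_sup, hC.sup_eq_top]; rfl
        have hS2 : (C ⊓ S).toSubmodule = C.toSubmodule ⊓ S.toSubmodule := rfl
        have hsup : S1.toSubmodule ⊔ (C ⊓ S).toSubmodule = S.toSubmodule := by
          rw [hS2, ← sup_inf_assoc_of_le _ hS1le, hsup0, top_inf_eq]
        have hlt1 : S1.toSubmodule < S.toSubmodule := lt_of_le_of_ne hS1le hS1ne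
        have hlt2 : (C ⊓ S).toSubmodule < S.toSubmodule := by
          refine lt_of_le_of_ne (by rw [hS2]; exact inf_le_right) ?_
          intro h
          apply hS1bot
          have h1 : S.toSubmodule ≤ C.toSubmodule := by
            rw [← h, hS2]; exact inf_le_left
          have h2 : S1.toSubmodule ≤ S1.toSubmodule ⊓ C.toSubmodule :=
            le_inf le_rfl (le_trans hS1le h1)
          rw [hinf0] at h2
          exact le_bot_iff.mp h2
        have hf1 := Submodule.finrank_lt_finrank_of_lt hlt1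
        have hf2 := Submodule.finrank_lt_finrank_of_lt hlt2
        rw [hk] at hf1 hf2
        have ih1 := ih _ hf1 S1 rfl g hg
        have ih2 := ih _ hf2 (C ⊓ S) rfl g hg
        rw [← hsup] at hv
        obtain ⟨x, hx, y, hy, rfl⟩ := Submodule.mem_sup.mp hv
        rw [map_add, ih1 x hx, ih2 y hy]
  intro g hg
  rw [MonoidHom.mem_ker]
  apply LinearMap.ext
  intro v
  exact key _ ⊤ rfl g hg v (show v ∈ (⊤ : Subrepresentation ρ).toSubmodule from Submodule.mem_top)

theorem exists_central_scalar [IsAlgClosed K] {p : ℕ} [Fact p.Prime] {P : Type v} [Group P]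
    [Finite P] (hP : IsPGroup p P) {V : Type w} [AddCommGroup V] [Module K V]
    [FiniteDimensional K V] (ρ : Representation K P V) (S : Subrepresentation ρ)
    (hS : IsIrrSub S) (hnt : ∃ g : P, ∃ v ∈ S.toSubmodule, ρ g v ≠ v) :
    ∃ z : P, ∃ ζ : K, ζ ≠ 1 ∧ ζ ^ p = 1 ∧ ∀ v ∈ S.toSubmodule, ρ z v = ζ • v := by
  classical
  obtain ⟨N, hN⟩ : ∃ N : Subgroup P, N = MonoidHom.ker S.toRepresentation := ⟨_, rfl⟩
  haveI hNn : N.Normal := by rw [hN]; exact MonoidHom.normal_ker _
  have hNmem : ∀ g : P, g ∈ N ↔ ∀ v ∈ S.toSubmodule, ρ g v = v := by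
    intro g
    constructor
    · intro hg
      rw [hN] at hg
      exact apply_eq_of_mem_ker S hg
    · intro h
      rw [hN, MonoidHom.mem_ker]
      apply LinearMap.ext
      intro w
      apply Subtype.ext
      exact h w.1 w.2
  obtain ⟨g0, v1, hv1, hg0⟩ := hnt
  have hg0N : g0 ∉ N := fun h => hg0 ((hNmem g0).mp h v1 hv1)
  haveI : Nontrivial (P ⧸ N) :=
    ⟨⟨(QuotientGroup.mk g0 : P ⧸ N), 1, fun h => hg0N ((QuotientGroup.eq_one_iff g0).mp h)⟩⟩
  have hQ : IsPGroup p (P ⧸ N) := hP.to_quotient N
  haveI := hQ.center_nontrivial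
  have hZ : IsPGroup p (Subgroup.center (P ⧸ N)) := hQ.to_subgroup _
  have hdvd : p ∣ Nat.card (Subgroup.center (P ⧸ N)) := by
    rcases hZ.card_eq_or_dvd with h | h
    · exfalso
      have := Finite.one_lt_card (α := Subgroup.center (P ⧸ N))
      omega
    · exact h
  obtain ⟨c, hc⟩ := exists_prime_orderOf_dvd_card' (G := Subgroup.center (P ⧸ N)) p hdvd
  obtain ⟨z, hz⟩ := QuotientGroup.mk_surjective (c : P ⧸ N)
  have hc1 : c ≠ 1 := by
    intro h
    rw [h, orderOf_one] at hc
    exact (Fact.out : p.Prime).one_lt.ne hc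
  have hzN : z ∉ N := by
    intro h
    apply hc1
    apply Subtype.ext
    rw [← hz]
    exact (QuotientGroup.eq_one_iff z).mpr h
  have hzp : z ^ p ∈ N := by
    rw [← QuotientGroup.eq_one_iff, QuotientGroup.mk_pow, hz]
    have h1 : c ^ p = 1 := by rw [← hc]; exact pow_orderOf_eq_one c
    have h2 := congrArg Subtype.val h1
    simpa using h2
  have hcomm : ∀ g : P, z * g * z⁻¹ * g⁻¹ ∈ N := by
    intro g
    rw [← QuotientGroup.eq_one_iff]
    have h1 : (QuotientGroup.mk g : P ⧸ N) * (c : P ⧸ N)
        = (c : P ⧸ N) * (QuotientGroup.mk g : P ⧸ N) :=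
      Subgroup.mem_center_iff.mp c.2 _
    rw [← hz] at h1
    simp only [QuotientGroup.mk_mul, QuotientGroup.mk_inv]
    rw [← h1]
    group
  have hcv : ∀ g : P, ∀ v ∈ S.toSubmodule, ρ z (ρ g v) = ρ g (ρ z v) := by
    intro g v hv
    have h1 : ρ (g * z) v ∈ S.toSubmodule := S.apply_mem_toSubmodule _ hv
    have h2 := (hNmem _).mp (hcomm g) _ h1
    rw [← rep_mul_apply ρ] at h2
    have h3 : z * g * z⁻¹ * g⁻¹ * (g * z) = z * g := by group
    rw [h3] at h2
    rw [← rep_mul_apply ρ, ← rep_mul_apply ρ, h2]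
  haveI : Nontrivial S.toSubmodule := Submodule.nontrivial_iff_ne_bot.mpr hS.1
  obtain ⟨ζ, hζ⟩ := Module.End.exists_eigenvalue (S.toRepresentation z)
  obtain ⟨w, hw⟩ := hζ.exists_hasEigenvector
  have hw1 : ρ z (w : V) = ζ • (w : V) := congrArg Subtype.val hw.apply_eq_smul
  have hw0 : (w : V) ≠ 0 := fun h => hw.2 (Subtype.ext h)
  let S' : Subrepresentation ρ :=
    { toSubmodule := S.toSubmodule ⊓ Module.End.eigenspace (ρ z) ζ
      apply_mem_toSubmodule := by
        intro g v hv
        obtain ⟨hv1, hv2⟩ := Submodule.mem_inf.mp hv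
        refine Submodule.mem_inf.mpr ⟨S.apply_mem_toSubmodule g hv1, ?_⟩
        rw [Module.End.mem_eigenspace_iff] at hv2 ⊢
        rw [hcv g v hv1, hv2, map_smul] }
  have hS'le : S'.toSubmodule ≤ S.toSubmodule := inf_le_left
  have hS'ne : S'.toSubmodule ≠ ⊥ := by
    intro h
    have h1 : (w : V) ∈ S'.toSubmodule :=
      Submodule.mem_inf.mpr ⟨w.2, Module.End.mem_eigenspace_iff.mpr hw1⟩
    rw [h, Submodule.mem_bot] at h1
    exact hw0 h1
  have hS'eq : S'.toSubmodule = S.toSubmodule := (hS.2 S' hS'le).resolve_left hS'ne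
  have hscal : ∀ v ∈ S.toSubmodule, ρ z v = ζ • v := by
    intro v hv
    have h1 : v ∈ S'.toSubmodule := by rw [hS'eq]; exact hv
    exact Module.End.mem_eigenspace_iff.mp (Submodule.mem_inf.mp h1).2
  refine ⟨z, ζ, ?_, ?_, hscal⟩
  · intro h
    apply hzN
    rw [hNmem]
    intro v hv
    rw [hscal v hv, h, one_smul]
  · have hpow : ∀ k : ℕ, ∀ v ∈ S.toSubmodule, ρ (z ^ k) v = ζ ^ k • v := by
      intro k
      induction k with
      | zero => intro v _; simp
      | succ k ih =>
        intro v hv
        rw [pow_succ, rep_mul_apply, hscal v hv, map_smul, ih v hv, smul_smul, pow_succ,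
          mul_comm]
    have h1 := (hNmem _).mp hzp w w.2
    rw [hpow p w w.2] at h1
    have h2 : (ζ ^ p - 1) • (w : V) = 0 := by rw [sub_smul, one_smul, h1, sub_self]
    rcases smul_eq_zero.mp h2 with h | h
    · exact sub_eq_zero.mp h
    · exact absurd h hw0

theorem card_mul_le_finrank {V : Type w} [AddCommGroup V] [Module K V] [FiniteDimensional K V]
    (T : Module.End K V) (d : ℕ) (s : Finset K)
    (hs : ∀ μ ∈ s, d ≤ finrank K (Module.End.eigenspace T μ)) : s.card * d ≤ finrank K V := by
  classical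
  have key : ∀ s : Finset K, (∀ μ ∈ s, d ≤ finrank K (Module.End.eigenspace T μ)) →
      s.card * d ≤ finrank K (⨆ μ ∈ s, Module.End.eigenspace T μ : Submodule K V) := by
    intro s
    induction s using Finset.induction_on with
    | empty => intro _; simp
    | insert a s ha ih =>
      intro hs
      have ih' := ih (fun μ hμ => hs μ (Finset.mem_insert_of_mem hμ))
      have hda := hs a (Finset.mem_insert_self a s)
      rw [Finset.iSup_insert, Finset.card_insert_of_notMem ha]
      have hdisj : Disjoint (Module.End.eigenspace T a)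
          (⨆ μ ∈ s, Module.End.eigenspace T μ) := by
        refine ((Module.End.eigenspaces_iSupIndep T) a).mono_right ?_
        refine iSup₂_le (fun μ hμ => ?_)
        refine le_iSup₂_of_le μ ?_ le_rfl
        rintro rfl
        exact ha hμ
      have hsum := Submodule.finrank_sup_add_finrank_inf_eq (Module.End.eigenspace T a)
        (⨆ μ ∈ s, Module.End.eigenspace T μ)
      rw [disjoint_iff.mp hdisj, finrank_bot, add_zero] at hsum
      rw [hsum]
      have e1 : (s.card + 1) * d = d + s.card * d := by ring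
      rw [e1]
      exact Nat.add_le_add hda ih'
  exact le_trans (key s hs) (Submodule.finrank_le _)

end General

/-! ### The Frobenius twist of eigenspaces -/

theorem finrank_eigenspace_frob {F : Type*} [Field F] [Fintype F] {Fb : Type*} [Field Fb]
    [Algebra F Fb] [Algebra.IsAlgebraic F Fb] {n : ℕ} (M : Matrix (Fin n) (Fin n) F) (μ : Fb) :
    finrank Fb (Module.End.eigenspace (Matrix.toLin' (M.map (algebraMap F Fb))) μ)
      ≤ finrank Fb (Module.End.eigenspace (Matrix.toLin' (M.map (algebraMap F Fb)))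
          (μ ^ Fintype.card F)) := by
  classical
  obtain ⟨T, hT⟩ : ∃ T : (Fin n → Fb) →ₗ[Fb] (Fin n → Fb),
      T = Matrix.toLin' (M.map (algebraMap F Fb)) := ⟨_, rfl⟩
  rw [← hT]
  let φ := FiniteField.frobeniusAlgEquivOfAlgebraic F Fb
  have hφ : ∀ x : Fb, φ x = x ^ Fintype.card F :=
    fun x => congrFun (FiniteField.coe_frobeniusAlgEquivOfAlgebraic F Fb) x
  have key : ∀ v : Fin n → Fb, T v = μ • v →
      T (fun i => φ (v i)) = (μ ^ Fintype.card F) • (fun i => φ (v i)) := by
    intro v hv
    ext i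
    have h1 := congrFun hv i
    rw [hT, Matrix.toLin'_apply] at h1 ⊢
    simp only [Matrix.mulVec, dotProduct, Matrix.map_apply, Pi.smul_apply, smul_eq_mul] at h1 ⊢
    have h2 := congrArg φ h1
    rw [map_sum, map_mul, hφ μ] at h2
    rw [← h2]
    apply Finset.sum_congr rfl
    intro k _
    rw [map_mul, AlgEquiv.commutes]
  let j : ↥(Module.End.eigenspace T μ) →+ ↥(Module.End.eigenspace T (μ ^ Fintype.card F)) :=
    { toFun := fun v => ⟨fun i => φ (v.1 i),
        Module.End.mem_eigenspace_iff.mpr (key v.1 (Module.End.mem_eigenspace_iff.mp v.2))⟩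
      map_zero' := by
        apply Subtype.ext
        funext i
        simp
      map_add' := by
        intro v w
        apply Subtype.ext
        funext i
        simp }
  have hj : Function.Injective j := by
    intro v w hvw
    apply Subtype.ext
    funext i
    have h1 := congrArg Subtype.val hvw
    have h2 := congrFun h1 i
    exact φ.injective h2
  have hc : ∀ (r : Fb) (m : ↥(Module.End.eigenspace T μ)), j (r • m) = φ r • j m := by
    intro r m
    apply Subtype.ext
    funext i
    simp [j]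
  have hrank := rank_le_of_surjective_injective (⇑φ) j φ.surjective hj hc
  exact Module.finrank_le_finrank_of_rank_le_rank (by simpa using hrank)
    (Module.rank_lt_aleph0 _ _)

theorem irr_dim_bound {F : Type*} [Field F] [Fintype F] {p : ℕ} [Fact p.Prime] {n : ℕ}
    (P : Subgroup (GL (Fin n) F)) (hP : IsPGroup p P)
    (S : Subrepresentation (liftRep (AlgebraicClosure F) P.subtype)) (hS : IsIrrSub S)
    (hnt : ∃ g : P, ∃ v ∈ S.toSubmodule, liftRep (AlgebraicClosure F) P.subtype g v ≠ v) :
    orderOf ((Fintype.card F : ℕ) : ZMod p) * finrank (AlgebraicClosure F) S.toSubmodule ≤ n := by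
  classical
  obtain ⟨z, ζ, hζ1, hζp, hscal⟩ := exists_central_scalar hP _ S hS hnt
  obtain ⟨M, hM⟩ : ∃ M : Matrix (Fin n) (Fin n) F, M = ((z : GL (Fin n) F) : Matrix _ _ F) :=
    ⟨_, rfl⟩
  have hTz : liftRep (AlgebraicClosure F) P.subtype z
      = Matrix.toLin' (M.map (algebraMap F (AlgebraicClosure F))) := by
    rw [hM]; rfl
  rw [hTz] at hscal
  obtain ⟨T, hT⟩ : ∃ T : (Fin n → AlgebraicClosure F) →ₗ[AlgebraicClosure F]
      (Fin n → AlgebraicClosure F),
      T = Matrix.toLin' (M.map (algebraMap F (AlgebraicClosure F))) := ⟨_, rfl⟩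
  rw [← hT] at hscal
  have hle0 : finrank (AlgebraicClosure F) S.toSubmodule
      ≤ finrank (AlgebraicClosure F) (Module.End.eigenspace T ζ) :=
    Submodule.finrank_mono (fun v hv => Module.End.mem_eigenspace_iff.mpr (hscal v hv))
  have hlej : ∀ j : ℕ, finrank (AlgebraicClosure F) S.toSubmodule
      ≤ finrank (AlgebraicClosure F) (Module.End.eigenspace T (ζ ^ (Fintype.card F ^ j))) := by
    intro j
    induction j with
    | zero => rw [pow_zero, pow_one]; exact hle0
    | succ j ih =>
      have h1 := finrank_eigenspace_frob (Fb := AlgebraicClosure F) M (ζ ^ (Fintype.card F ^ j))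
      rw [← hT, ← pow_mul, ← pow_succ] at h1
      exact le_trans ih h1
  have hord : orderOf ζ = p := orderOf_eq_prime hζp hζ1
  have hfin : IsOfFinOrder ζ :=
    isOfFinOrder_iff_pow_eq_one.mpr ⟨p, (Fact.out : p.Prime).pos, hζp⟩
  have hinj : Set.InjOn (fun j : ℕ => ζ ^ (Fintype.card F ^ j))
      (Finset.range (orderOf ((Fintype.card F : ℕ) : ZMod p)) : Set ℕ) := by
    intro i hi j hj hij
    have hij' : ζ ^ (Fintype.card F ^ i) = ζ ^ (Fintype.card F ^ j) := hij
    have h1 : Fintype.card F ^ i ≡ Fintype.card F ^ j [MOD p] := by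
      have := hfin.pow_eq_pow_iff_modEq.mp hij'
      rwa [hord] at this
    have h2 : ((Fintype.card F : ℕ) : ZMod p) ^ i = ((Fintype.card F : ℕ) : ZMod p) ^ j := by
      have := (ZMod.natCast_eq_natCast_iff _ _ _).mpr h1
      simpa [Nat.cast_pow] using this
    exact pow_injOn_Iio_orderOf (Finset.mem_range.mp (Finset.mem_coe.mp hi))
      (Finset.mem_range.mp (Finset.mem_coe.mp hj)) h2
  have hcard : ((Finset.range (orderOf ((Fintype.card F : ℕ) : ZMod p))).image
      (fun j : ℕ => ζ ^ (Fintype.card F ^ j))).card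
        = orderOf ((Fintype.card F : ℕ) : ZMod p) := by
    rw [Finset.card_image_of_injOn hinj, Finset.card_range]
  have hmain := card_mul_le_finrank T (finrank (AlgebraicClosure F) S.toSubmodule)
    ((Finset.range (orderOf ((Fintype.card F : ℕ) : ZMod p))).image
      (fun j : ℕ => ζ ^ (Fintype.card F ^ j))) (by
      intro μ hμ
      obtain ⟨j, _, rfl⟩ := Finset.mem_image.mp hμ
      exact hlej j)
  rw [hcard, Module.finrank_fin_fun] at hmain
  exact hmain

/-- Let F be a field with q elements, p a prime not dividing q, and e the multiplicative order of q modulo p; assume e ≤ n. Then every p-subgroup of GL_n(F) has derived length at most ⌊log₂(n/e)⌋ + 1: that term of its derived series is trivial (n/e is the integer quotient). -/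
theorem result {F : Type*} [Field F] [Fintype F] (q : ℕ) (hF : Fintype.card F = q) (p : ℕ) [Fact p.Prime] (hpq : ¬ p ∣ q) (n e : ℕ) (he : e = orderOf (q : ZMod p)) (hen : e ≤ n) (P : Subgroup (GL (Fin n) F)) (hP : IsPGroup p P) : derivedSeries ↥P (Nat.log 2 (n / e) + 1) = ⊥ := by
  classical
  subst hF
  have hq0 : ((Fintype.card F : ℕ) : ZMod p) ≠ 0 := by
    rw [Ne, ZMod.natCast_eq_zero_iff]
    exact hpq
  have hepos : 0 < e := by
    rw [he]
    apply orderOf_pos_iff.mpr
    exact isOfFinOrder_iff_pow_eq_one.mpr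
      ⟨p - 1, Nat.sub_pos_of_lt (Fact.out : p.Prime).one_lt, ZMod.pow_card_sub_one_eq_one hq0⟩
  have hpFb : (p : AlgebraicClosure F) ≠ 0 := by
    intro h
    apply hpq
    have h1 : (p : F) = 0 := by
      apply (algebraMap F (AlgebraicClosure F)).injective
      rw [map_natCast, map_zero]; exact h
    obtain ⟨r, hr⟩ := CharP.exists F
    haveI := hr
    obtain ⟨k, hrp, hk⟩ := FiniteField.card F r
    have h2 : r ∣ p := (CharP.cast_eq_zero_iff F r p).mp h1
    have h3 : r = p := (Nat.prime_dvd_prime_iff_eq hrp (Fact.out)).mp h2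
    rw [hk, h3]
    exact dvd_pow_self p k.ne_zero
  have hmain := derived_le_ker_of_irr_bound hpFb hP
    (liftRep (AlgebraicClosure F) P.subtype) (n / e) (by
      intro S hS hnt
      have h1 := irr_dim_bound P hP S hS hnt
      rw [← he] at h1
      exact (Nat.le_div_iff_mul_le hepos).mpr (by rw [mul_comm]; exact h1))
  rw [eq_bot_iff]
  intro g hg
  rw [Subgroup.mem_bot]
  exact liftRep_eq_one _ P.subtype Subtype.coe_injective g (MonoidHom.mem_ker.mp (hmain hg))

end Cfsg.Agent.S4417
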