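import Cfsg.Statements.S4419
import Cfsg.Agent.Lib.Helper1.Frattini
import Cfsg.Agent.Lib.Helper1.Cores
import Cfsg.Agent.Lib.Helper10.PComponent
import Cfsg.Agent.Lib.Helper13.Frobenius
import Cfsg.Agent.Lib.Helper22.Supplement

set_option autoImplicit false
open Cfsg

namespace Cfsg.Agent.S4419

open Subgroup MulAction
open Cfsg.Agent.Lib.Helper1 Cfsg.Agent.Lib.Helper13

section aux

variable {G : Type*} [Group G] [Finite G]

theorem card_modEq_card_centralizer (U : Subgroup G) (g : G)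
    (hg : g ∈ normalizer (U : Set G)) {r : ℕ} [Fact r.Prime] {e : ℕ} (hge : g ^ r ^ e = 1) :
    Nat.card U ≡ Nat.card ↥(U ⊓ Subgroup.centralizer {g}) [MOD r] := by
  set g' : normalizer (U : Set G) := ⟨g, hg⟩ with hg'
  set A : Subgroup (normalizer (U : Set G)) := zpowers g' with hA
  have hAr : IsPGroup r A := by
    apply IsPGroup.of_card (n := (Nat.factorization (orderOf g') r))
    rw [Nat.card_zpowers]
    have h1 : orderOf g' ∣ r ^ e := by
      apply orderOf_dvd_of_pow_eq_one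
      apply Subtype.ext
      simpa using hge
    obtain ⟨k, hk, hk2⟩ := (Nat.dvd_prime_pow (Fact.out : r.Prime)).1 h1
    rw [hk2]
    simp [(Fact.out : r.Prime).factorization_self]
  have h1 := hAr.card_modEq_card_fixedPoints U
  have h2 : Nat.card (fixedPoints A U) = Nat.card ↥(U ⊓ Subgroup.centralizer {g}) := by
    apply Nat.card_congr
    refine ⟨fun x => ⟨(x.1 : G), x.1.2, ?_⟩, fun y => ⟨⟨y.1, y.2.1⟩, ?_⟩, ?_, ?_⟩
    · show ((x.1 : U) : G) ∈ centralizer {g}
      rw [mem_centralizer_iff]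
      intro h hh
      rw [Set.mem_singleton_iff] at hh
      subst hh
      have := x.2 ⟨g', mem_zpowers g'⟩
      have h3 := congrArg Subtype.val this
      change h * (x.1 : G) * h⁻¹ = (x.1 : G) at h3
      calc h * (x.1 : G) = h * (x.1 : G) * h⁻¹ * h := by group
        _ = (x.1 : G) * h := by rw [h3]
    · rintro ⟨n, hn⟩
      obtain ⟨k, rfl⟩ := mem_zpowers_iff.mp hn
      apply Subtype.ext
      show ((g' ^ k : normalizer (U : Set G)) : G) * (y : G) * ((g' ^ k : normalizer (U : Set G)) : G)⁻¹ = (y : G)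
      have hy : (y : G) ∈ centralizer {g} := y.2.2
      rw [mem_centralizer_iff] at hy
      have hc : Commute g (y : G) := hy g (Set.mem_singleton g)
      rw [Subgroup.coe_zpow]
      show g ^ k * (y : G) * (g ^ k)⁻¹ = (y : G)
      rw [(hc.zpow_left k).eq]; group
    · intro x; rfl
    · intro y; rfl
  rw [← h2]; exact h1

theorem exists_two_gen {W : Type*} [Group W] (N : Subgroup W) [N.Normal] (hN : IsCyclic N)
    (hQ : IsCyclic (W ⧸ N)) (U : Subgroup W) :
    ∃ a ∈ U, ∃ b ∈ U, ∀ u ∈ U, ∃ i j : ℤ, u = b ^ j * a ^ i := by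
  have h1 : IsCyclic ↥((U ⊓ N).subgroupOf N) := Subgroup.isCyclic _
  obtain ⟨⟨a', ha'⟩, hgen⟩ := h1.exists_generator
  have haUN : (a' : W) ∈ U ⊓ N := mem_subgroupOf.mp ha'
  have h2 : IsCyclic ↥(U.map (QuotientGroup.mk' N)) := Subgroup.isCyclic _
  obtain ⟨⟨b', hb'⟩, hgen2⟩ := h2.exists_generator
  obtain ⟨b, hbU, rfl⟩ := hb'
  refine ⟨(a' : W), haUN.1, b, hbU, ?_⟩
  intro u hu
  have hu' : QuotientGroup.mk' N u ∈ U.map (QuotientGroup.mk' N) := mem_map_of_mem _ hu
  obtain ⟨j, hj⟩ := mem_zpowers_iff.mp (hgen2 ⟨_, hu'⟩)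
  have hj' : (QuotientGroup.mk' N b) ^ j = QuotientGroup.mk' N u := by
    have := congrArg Subtype.val hj
    simpa using this
  have h3 : (b ^ j)⁻¹ * u ∈ N := by
    rw [← QuotientGroup.eq]
    rw [← map_zpow] at hj'
    exact hj'
  have h4 : (b ^ j)⁻¹ * u ∈ U ⊓ N :=
    ⟨U.mul_mem (U.inv_mem (U.zpow_mem hbU j)) hu, h3⟩
  obtain ⟨i, hi⟩ := mem_zpowers_iff.mp (hgen ⟨⟨(b ^ j)⁻¹ * u, h3⟩, mem_subgroupOf.mpr h4⟩)
  have hi' : (a' : W) ^ i = (b ^ j)⁻¹ * u := by
    have := congrArg (fun z => ((z : N) : W)) (congrArg Subtype.val hi)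
    simpa using this
  refine ⟨i, j, ?_⟩
  rw [hi']; group

theorem frattini_index_le {p : ℕ} [Fact p.Prime] {U : Type*} [Group U] [Finite U]
    (hU : IsPGroup p U) (a b : U) (hab : ∀ u : U, ∃ i j : ℤ, u = b ^ j * a ^ i) :
    (frattini U).index ≤ p ^ 2 := by
  have hp : p.Prime := Fact.out
  set f : Fin p × Fin p → U ⧸ frattini U := fun ij =>
    (QuotientGroup.mk' (frattini U) b) ^ (ij.2 : ℕ) * (QuotientGroup.mk' (frattini U) a) ^ (ij.1 : ℕ)
    with hf
  have hpowa : (QuotientGroup.mk' (frattini U) a) ^ (p : ℤ) = 1 := by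
    rw [zpow_natCast, ← map_pow]
    exact (QuotientGroup.eq_one_iff _).mpr (IsPGroup.pow_mem_frattini hU a)
  have hpowb : (QuotientGroup.mk' (frattini U) b) ^ (p : ℤ) = 1 := by
    rw [zpow_natCast, ← map_pow]
    exact (QuotientGroup.eq_one_iff _).mpr (IsPGroup.pow_mem_frattini hU b)
  have hsurj : Function.Surjective f := by
    intro q
    obtain ⟨u, rfl⟩ := QuotientGroup.mk'_surjective _ q
    obtain ⟨i, j, rfl⟩ := hab u
    have hpz : (p : ℤ) ≠ 0 := by exact_mod_cast hp.ne_zero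
    have hi0 : 0 ≤ i % (p : ℤ) := Int.emod_nonneg _ hpz
    have hj0 : 0 ≤ j % (p : ℤ) := Int.emod_nonneg _ hpz
    have hi1 : i % (p : ℤ) < p := Int.emod_lt_of_pos _ (by exact_mod_cast hp.pos)
    have hj1 : j % (p : ℤ) < p := Int.emod_lt_of_pos _ (by exact_mod_cast hp.pos)
    refine ⟨(⟨(i % (p : ℤ)).toNat, by omega⟩, ⟨(j % (p : ℤ)).toNat, by omega⟩), ?_⟩
    simp only [hf]
    rw [map_mul, map_zpow, map_zpow, zpow_eq_zpow_emod i hpowa, zpow_eq_zpow_emod j hpowb,
      ← zpow_natCast, ← zpow_natCast, Int.toNat_of_nonneg hi0, Int.toNat_of_nonneg hj0]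
  have := Nat.card_le_card_of_surjective f hsurj
  rw [Subgroup.index_eq_card]
  calc Nat.card (U ⧸ frattini U) ≤ Nat.card (Fin p × Fin p) := this
    _ = p ^ 2 := by simp [sq]

theorem frattini_index_le_of_metacyclic {p : ℕ} [Fact p.Prime] (S : Subgroup G) (hS : IsPGroup p S)
    (hmeta : Cfsg.IsMetacyclic ↥S) (U : Subgroup G) (hUS : U ≤ S) :
    (frattini ↥U).index ≤ p ^ 2 := by
  obtain ⟨N, hNn, hN, hQ⟩ := hmeta
  obtain ⟨a', ha', b', hb', hgen⟩ := exists_two_gen N hN hQ (U.subgroupOf S)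
  have hUp : IsPGroup p U := hS.to_le hUS
  refine frattini_index_le hUp ⟨a'.1, mem_subgroupOf.mp ha'⟩ ⟨b'.1, mem_subgroupOf.mp hb'⟩ ?_
  intro u
  obtain ⟨i, j, hij⟩ := hgen ⟨u.1, hUS u.2⟩ (mem_subgroupOf.mpr u.2)
  refine ⟨i, j, ?_⟩
  apply Subtype.ext
  have := congrArg Subtype.val hij
  simpa using this

theorem sq_sub_one_eq (p : ℕ) (h : 1 ≤ p) : p ^ 2 - 1 = (p - 1) * (p + 1) := by
  obtain ⟨q, rfl⟩ : ∃ q, p = q + 1 := ⟨p - 1, by omega⟩
  rw [Nat.add_sub_cancel]
  have : (q + 1) ^ 2 = q * (q + 1 + 1) + 1 := by ring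
  rw [this, Nat.add_sub_cancel]

theorem r_element_centralizes {p : ℕ} [Fact p.Prime] (S : Subgroup G) (hS : IsPGroup p S)
    (hmeta : Cfsg.IsMetacyclic ↥S) {r : ℕ} [Fact r.Prime] (hrp : r ≠ p) (hr : ¬ r ∣ p ^ 2 - 1) :
    ∀ n : ℕ, ∀ U : Subgroup G, U ≤ S → Nat.card U = n → ∀ g ∈ normalizer (U : Set G),
      ∀ e : ℕ, g ^ r ^ e = 1 → g ∈ centralizer (U : Set G) := by
  have hp : p.Prime := Fact.out
  have hrr : r.Prime := Fact.out
  intro n
  induction n using Nat.strong_induction_on with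
  | _ n ih =>
    intro U hUS hcard g hg e hge
    have hUp : IsPGroup p U := hS.to_le hUS
    by_cases hUbot : U = ⊥
    · subst hUbot
      rw [mem_centralizer_iff]
      intro y hy
      rw [SetLike.mem_coe, mem_bot] at hy
      subst hy; simp
    set Φ' : Subgroup G := (frattini ↥U).map U.subtype with hΦ'
    have hΦU : Φ' ≤ U := map_subtype_le _
    have hΦcard : Nat.card Φ' = Nat.card (frattini ↥U) :=
      card_map_of_injective U.subtype_injective
    have hidx := frattini_index_le_of_metacyclic S hS hmeta U hUS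
    have hmul : Nat.card (frattini ↥U) * (frattini ↥U).index = Nat.card U := card_mul_index _
    -- p divides the index of the Frattini subgroup
    have hpU : p ∣ Nat.card U := by
      obtain ⟨k, hk⟩ := hUp.exists_card_eq
      rcases k with _ | k
      · exfalso
        apply hUbot
        rw [pow_zero] at hk
        exact card_eq_one.mp hk
      · rw [hk, pow_succ]; exact dvd_mul_left _ _
    have hpidx : p ∣ (frattini ↥U).index := prime_dvd_index_frattini p hp hpU
    have hidx2 : 2 ≤ (frattini ↥U).index := le_trans hp.two_le (Nat.le_of_dvd (Nat.pos_of_ne_zero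
      (frattini ↥U).index_ne_zero_of_finite) hpidx)
    have hFpos : 0 < Nat.card (frattini ↥U) := Nat.card_pos
    have hlt : Nat.card Φ' < n := by
      rw [hΦcard, ← hcard, ← hmul]
      nlinarith
    have hgΦ : g ∈ normalizer (Φ' : Set G) :=
      normalizer_le_normalizer_map_of_characteristic U (frattini ↥U) hg
    have hgC := ih _ hlt Φ' (hΦU.trans hUS) rfl g hgΦ e hge
    set C : Subgroup G := U ⊓ centralizer {g} with hC
    have hΦC : Φ' ≤ C := by
      intro x hx
      refine ⟨hΦU hx, ?_⟩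
      show x ∈ centralizer {g}
      rw [mem_centralizer_iff] at hgC ⊢
      intro h hh
      rw [Set.mem_singleton_iff] at hh
      subst hh
      exact (hgC x hx).symm
    have hCU : C ≤ U := inf_le_left
    obtain ⟨m, hm⟩ := card_dvd_of_le hΦC
    obtain ⟨t, ht⟩ := card_dvd_of_le hCU
    have hmpos : 0 < m := by
      rcases Nat.eq_zero_or_pos m with h0 | h0
      · exfalso; rw [h0, mul_zero] at hm
        have : 0 < Nat.card C := Nat.card_pos
        omega
      · exact h0
    have htI : m * t = (frattini ↥U).index := by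
      have h1 : Nat.card (frattini ↥U) * (m * t) = Nat.card (frattini ↥U) * (frattini ↥U).index := by
        rw [hmul, ht, hm, hΦcard]; ring
      exact Nat.eq_of_mul_eq_mul_left hFpos h1
    have htle : t ≤ p ^ 2 := by
      calc t ≤ m * t := Nat.le_mul_of_pos_left t hmpos
        _ = _ := htI
        _ ≤ p ^ 2 := hidx
    have htdvd : t ∣ Nat.card U := ⟨Nat.card C, by rw [ht, mul_comm]⟩
    obtain ⟨kU, hkU⟩ := hUp.exists_card_eq
    rw [hkU] at htdvd
    obtain ⟨k, hk1, hk2⟩ := (Nat.dvd_prime_pow hp).1 htdvd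
    have hk2' : k ≤ 2 := by
      rw [hk2] at htle
      exact (Nat.pow_le_pow_iff_right hp.one_lt).mp htle
    have hmod := card_modEq_card_centralizer U g hg hge
    rw [← hC, ht, hk2] at hmod
    -- r ∣ card C * (p^k - 1)
    have hdvd : r ∣ Nat.card C * (p ^ k - 1) := by
      have h1 : Nat.card C ≤ Nat.card C * p ^ k := Nat.le_mul_of_pos_right _ (pow_pos hp.pos k)
      have h2 := (Nat.modEq_iff_dvd' h1).mp hmod.symm
      have h3 : Nat.card C * p ^ k - Nat.card C = Nat.card C * (p ^ k - 1) := by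
        rw [Nat.mul_sub, mul_one]
      rwa [h3] at h2
    have hCp : IsPGroup p C := hUp.to_le hCU
    obtain ⟨kC, hkC⟩ := hCp.exists_card_eq
    have hrC : ¬ r ∣ Nat.card C := by
      rw [hkC]
      intro h
      exact hrp ((Nat.prime_dvd_prime_iff_eq hrr hp).mp (hrr.dvd_of_dvd_pow h))
    have hdvd2 : r ∣ p ^ k - 1 := (hrr.dvd_mul.mp hdvd).resolve_left hrC
    have hk0 : k = 0 := by
      by_contra hk0
      have hk12 : k = 1 ∨ k = 2 := by omega
      rcases hk12 with rfl | rfl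
      · apply hr
        have : p ^ 2 - 1 = (p ^ 1 - 1) * (p + 1) := by
          rw [pow_one]; exact sq_sub_one_eq p hp.one_lt.le
        rw [this]
        exact dvd_mul_of_dvd_left hdvd2 _
      · exact hr hdvd2
    rw [hk0, pow_zero] at hk2
    rw [hk2, mul_one] at ht
    have hCeq : C = U := eq_of_le_of_card_ge hCU (le_of_eq ht)
    rw [mem_centralizer_iff]
    intro y hy
    have hyC : y ∈ C := by rw [hCeq]; exact hy
    have : y ∈ centralizer {g} := hyC.2
    rw [mem_centralizer_iff] at this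
    exact (this g (Set.mem_singleton g)).symm

/-- `r`-elements for primes `r ∣ p² - 1` lie in `O_{p'}(G)` under the hypothesis, hence centralize every
`p`-subgroup they normalize. -/
theorem r_element_centralizes' {p : ℕ} [Fact p.Prime]
    (hcop : Nat.Coprime (Nat.card (G ⧸ Cfsg.pPrimePCore p G)) (p ^ 2 - 1))
    {r : ℕ} [Fact r.Prime] (hrp : r ≠ p) (hr : r ∣ p ^ 2 - 1) (U : Subgroup G) (hU : IsPGroup p U)
    (g : G) (hg : g ∈ normalizer (U : Set G)) (e : ℕ) (hge : g ^ r ^ e = 1) :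
    g ∈ centralizer (U : Set G) := by
  have hp : p.Prime := Fact.out
  have hrr : r.Prime := Fact.out
  have hrM : ¬ r ∣ (Cfsg.pPrimePCore p G).index := by
    rw [Subgroup.index_eq_card]
    intro h
    have := Nat.dvd_gcd h hr
    rw [Nat.Coprime.gcd_eq_one hcop] at this
    exact hrr.one_lt.ne' (Nat.dvd_one.mp this)
  have hgM : g ∈ Cfsg.pPrimePCore p G :=
    Cfsg.Agent.Lib.Helper22.mem_normal_of_pow_prime_pow_eq_one _ hrr hrM g e hge
  rw [Cfsg.Agent.Lib.Helper10.mem_pPrimePCore_iff] at hgM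
  have hgK : g ∈ Cfsg.pPrimeCore p G := by
    rw [← QuotientGroup.eq_one_iff]
    obtain ⟨k, hk⟩ := (Cfsg.Agent.Lib.Helper1.pCore_isPGroup (G := G ⧸ Cfsg.pPrimeCore p G) p)
      ⟨_, hgM⟩
    have hk' : ((g : G ⧸ Cfsg.pPrimeCore p G)) ^ p ^ k = 1 := by
      have := congrArg Subtype.val hk
      simpa using this
    have h1 : orderOf (g : G ⧸ Cfsg.pPrimeCore p G) ∣ p ^ k := orderOf_dvd_of_pow_eq_one hk'
    have h2 : orderOf (g : G ⧸ Cfsg.pPrimeCore p G) ∣ r ^ e := by
      apply orderOf_dvd_of_pow_eq_one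
      rw [← QuotientGroup.mk_pow, hge]; rfl
    have h3 : Nat.Coprime (p ^ k) (r ^ e) :=
      Nat.Coprime.pow _ _ ((Nat.coprime_primes hp hrr).mpr (Ne.symm hrp))
    exact orderOf_eq_one_iff.mp (Nat.eq_one_of_dvd_coprimes h3 h1 h2)
  have hKcop : (Nat.card (Cfsg.pPrimeCore p G)).Coprime p :=
    Cfsg.Agent.Lib.Helper1.pPrimeCore_coprime p
  have hdisj : U ⊓ Cfsg.pPrimeCore p G = ⊥ := by
    refine (Subgroup.disjoint_of_coprime_natCard ?_).eq_bot
    obtain ⟨k, hk⟩ := hU.exists_card_eq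
    rw [hk]
    exact Nat.Coprime.pow_left k hKcop.symm
  rw [mem_centralizer_iff]
  intro y hy
  have hc1 : g * y * g⁻¹ * y⁻¹ ∈ U :=
    U.mul_mem ((mem_normalizer_iff.mp hg y).mp hy) (U.inv_mem hy)
  have hc2 : g * y * g⁻¹ * y⁻¹ ∈ Cfsg.pPrimeCore p G := by
    have hn : (Cfsg.pPrimeCore p G).Normal := Cfsg.pPrimeCore_normal p G
    have h1 : y * g⁻¹ * y⁻¹ ∈ Cfsg.pPrimeCore p G := hn.conj_mem _ (inv_mem hgK) y
    have : g * y * g⁻¹ * y⁻¹ = g * (y * g⁻¹ * y⁻¹) := by group
    rw [this]; exact mul_mem hgK h1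
  have hc : g * y * g⁻¹ * y⁻¹ ∈ U ⊓ Cfsg.pPrimeCore p G := ⟨hc1, hc2⟩
  rw [hdisj, mem_bot] at hc
  calc y * g = (g * y * g⁻¹ * y⁻¹)⁻¹ * (g * y) := by group
    _ = g * y := by rw [hc]; group

/-- reduction of a `p'`-element to its primary parts -/
theorem mem_of_primary_parts (C N : Subgroup G) (p : ℕ)
    (hprim : ∀ (r : ℕ) [Fact r.Prime], r ≠ p → ∀ g' ∈ N, ∀ e : ℕ, g' ^ r ^ e = 1 → g' ∈ C) :
    ∀ n : ℕ, ∀ g ∈ N, orderOf g = n → Nat.Coprime n p → g ∈ C := by
  intro n
  induction n using Nat.strong_induction_on with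
  | _ n ih =>
    intro g hgN hord hcop
    by_cases hn1 : n = 1
    · rw [hn1, orderOf_eq_one_iff] at hord
      rw [hord]; exact C.one_mem
    have hn0 : n ≠ 0 := by rw [← hord]; exact (orderOf_pos g).ne'
    set r := n.minFac with hr
    have hrr : r.Prime := Nat.minFac_prime hn1
    have : Fact r.Prime := ⟨hrr⟩
    have hrn : r ∣ n := Nat.minFac_dvd n
    have hrp : r ≠ p := by
      intro h
      rw [h] at hrn hrr
      have := Nat.dvd_gcd hrn (dvd_refl p)
      rw [Nat.Coprime.gcd_eq_one hcop] at this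
      exact hrr.one_lt.ne' (Nat.dvd_one.mp this)
    obtain ⟨e, m, hm, hnm⟩ := Nat.exists_eq_pow_mul_and_not_dvd hn0 r hrr.ne_one
    have he : e ≠ 0 := by
      intro he
      rw [he, pow_zero, one_mul] at hnm
      rw [← hnm] at hm
      exact hm hrn
    have hmpos : 0 < m := by
      rcases Nat.eq_zero_or_pos m with h0 | h0
      · exfalso; rw [h0, mul_zero] at hnm; exact hn0 hnm
      · exact h0
    have hmlt : m < n := by
      rw [hnm]
      have : 2 ≤ r ^ e := le_trans hrr.two_le (Nat.le_self_pow he r)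
      nlinarith
    have h1ord : orderOf (g ^ r ^ e) = m := by
      rw [orderOf_pow_of_dvd (pow_ne_zero e hrr.ne_zero)
        (by rw [hord, hnm]; exact dvd_mul_right _ _), hord, hnm]
      exact Nat.mul_div_cancel_left m (pow_pos hrr.pos e)
    have hmcop : Nat.Coprime m p :=
      Nat.Coprime.coprime_dvd_left (by rw [hnm]; exact dvd_mul_left _ _) hcop
    have hg1 : g ^ r ^ e ∈ C := ih m hmlt _ (N.pow_mem hgN _) h1ord hmcop
    have hg2 : g ^ m ∈ C := by
      apply hprim r hrp _ (N.pow_mem hgN _) e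
      rw [← pow_mul, mul_comm, ← hnm, ← hord, pow_orderOf_eq_one]
    have hcop2 : IsCoprime ((r ^ e : ℕ) : ℤ) (m : ℤ) := by
      rw [Nat.isCoprime_iff_coprime]
      exact Nat.Coprime.pow_left e ((Nat.Prime.coprime_iff_not_dvd hrr).mpr hm)
    obtain ⟨u, v, huv⟩ := hcop2
    have hsplit : g = (g ^ r ^ e) ^ u * (g ^ m) ^ v := by
      rw [← zpow_natCast, ← zpow_natCast, ← zpow_mul, ← zpow_mul, ← zpow_add]
      have : ((r ^ e : ℕ) : ℤ) * u + (m : ℤ) * v = 1 := by linarith
      rw [this, zpow_one]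
    rw [hsplit]
    exact C.mul_mem (C.zpow_mem hg1 u) (C.zpow_mem hg2 v)

end aux

/-- Let p be a prime and G a finite group whose Sylow p-subgroups are metacyclic (a cyclic normal subgroup with cyclic quotient). Then G has a normal p-complement if and only if the order of G/O_{p′,p}(G) is coprime to p² − 1. -/
theorem result {G : Type*} [Group G] [Finite G] (p : ℕ) [Fact p.Prime] (S : Sylow p G) (hS : Cfsg.IsMetacyclic ↥(S : Subgroup G)) : Cfsg.HasNormalPComplement p G ↔ Nat.Coprime (Nat.card (G ⧸ Cfsg.pPrimePCore p G)) (p ^ 2 - 1) := by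
  have hp : p.Prime := Fact.out
  constructor
  · rintro ⟨P, N, hNn, hN⟩
    obtain ⟨hNcop, k, hk⟩ := coprime_and_index_of_isComplement' N P hN
    have hNK : N ≤ Cfsg.pPrimeCore p G := Cfsg.Agent.Lib.Helper1.le_pPrimeCore hNn hNcop
    have hKidx : (Cfsg.pPrimeCore p G).index ∣ p ^ k := by
      rw [← hk]; exact Subgroup.index_dvd_of_le hNK
    obtain ⟨j, -, hj⟩ := (Nat.dvd_prime_pow hp).1 hKidx
    have hQ : IsPGroup p (G ⧸ Cfsg.pPrimeCore p G) := by
      apply IsPGroup.of_card (n := j)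
      rw [← Subgroup.index_eq_card, hj]
    have htop : Cfsg.pCore p (G ⧸ Cfsg.pPrimeCore p G) = ⊤ := by
      rw [eq_top_iff]
      exact Cfsg.Agent.Lib.Helper1.le_pCore inferInstance (hQ.to_subgroup ⊤)
    have hM : Cfsg.pPrimePCore p G = ⊤ := by
      unfold Cfsg.pPrimePCore
      rw [htop, Subgroup.comap_top]
    rw [← Subgroup.index_eq_card, hM, Subgroup.index_top]
    exact Nat.coprime_one_left _
  · intro hcop
    have hLC : LocalCentral p G := by
      apply localCentral_of_sylow S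
      intro U hUS g hg hgcop
      refine mem_of_primary_parts (centralizer (U : Set G)) (normalizer (U : Set G)) p ?_ _ g hg rfl
        hgcop
      intro r _ hrp g' hg' e hge
      by_cases hr : r ∣ p ^ 2 - 1
      · exact r_element_centralizes' hcop hrp hr U (S.isPGroup'.to_le hUS) g' hg' e hge
      · exact r_element_centralizes (S : Subgroup G) S.isPGroup' hS hrp hr _ U hUS rfl g' hg' e hge
    obtain ⟨K, hKn, hK⟩ := exists_normal_complement_of_localCentral hLC S
    exact ⟨S, K, hKn, hK⟩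

end Cfsg.Agent.S4419
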