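import Cfsg.Statements.S4420

set_option autoImplicit false
open Cfsg

namespace Cfsg.Agent.S4420

variable {H : Type*} [Group H]

theorem comm_of_sq (h : ∀ x : H, x ^ 2 = 1) (x y : H) : x * y = y * x := by
  have hx := h x
  have hy := h y
  have hxy := h (x * y)
  have ix : x⁻¹ = x := by rw [inv_eq_iff_mul_eq_one, ← pow_two, hx]
  have iy : y⁻¹ = y := by rw [inv_eq_iff_mul_eq_one, ← pow_two, hy]
  have ixy : (x * y)⁻¹ = x * y := by rw [inv_eq_iff_mul_eq_one, ← pow_two, hxy]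
  rw [mul_inv_rev, ix, iy] at ixy
  exact ixy.symm

theorem inv_self_of_sq {x : H} (h : x ^ 2 = 1) : x⁻¹ = x := by
  rw [inv_eq_iff_mul_eq_one, ← pow_two, h]

theorem inverts (A : Subgroup H) (hD : ∀ x : H, x ∉ A → x ^ 2 = 1) (t : H) (ht : t ∉ A)
    (a : H) (ha : a ∈ A) : t * a * t⁻¹ = a⁻¹ := by
  have hta : t * a ∉ A := fun h => ht (by simpa using A.mul_mem h (A.inv_mem ha))
  have h1 := hD _ hta
  have h2 := inv_self_of_sq (hD t ht)
  rw [h2]
  rw [pow_two] at h1
  -- t a t a = 1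
  calc t * a * t = t * a * t * a * a⁻¹ := by group
    _ = (t * a * (t * a)) * a⁻¹ := by group
    _ = a⁻¹ := by rw [h1, one_mul]

theorem all_sq (A : Subgroup H) (hD : ∀ x : H, x ∉ A → x ^ 2 = 1) (s s' : H) (hs : s ∉ A)
    (hs' : s' ∉ A) (hss : s * s' ∉ A) : ∀ x : H, x ^ 2 = 1 := by
  intro x
  by_cases hx : x ∈ A
  · have h1 := inverts A hD s hs x hx
    have h2 := inverts A hD s' hs' x hx
    have h3 := inverts A hD (s * s') hss x hx
    have : (s * s') * x * (s * s')⁻¹ = s * (s' * x * s'⁻¹) * s⁻¹ := by group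
    rw [this, h2] at h3
    have h4 := inverts A hD s hs x⁻¹ (A.inv_mem hx)
    rw [h4, inv_inv] at h3
    rw [pow_two]
    calc x * x = x * x⁻¹ := by rw [← h3]
      _ = 1 := mul_inv_cancel x
  · exact hD x hx

theorem exists_index_two [Finite H] [Nontrivial H] (h : ∀ x : H, x ^ 2 = 1) :
    ∃ B : Subgroup H, B.index = 2 := by
  haveI : Fact (Nat.Prime 2) := ⟨Nat.prime_two⟩
  have hp : IsPGroup 2 H := fun g => ⟨1, by simpa using h g⟩
  obtain ⟨n, hn⟩ := IsPGroup.iff_card.mp hp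
  have hn0 : n ≠ 0 := by
    rintro rfl
    have : 1 < Nat.card H := Finite.one_lt_card
    omega
  obtain ⟨k, rfl⟩ : ∃ k, n = k + 1 := ⟨n - 1, by omega⟩
  obtain ⟨K, hK⟩ := Sylow.exists_subgroup_card_pow_prime (G := H) 2 (n := k)
    (by rw [hn]; exact pow_dvd_pow 2 (by omega))
  refine ⟨K, ?_⟩
  have := K.card_mul_index
  rw [hK, hn, pow_succ] at this
  exact Nat.eq_of_mul_eq_mul_left (by positivity) this

theorem result {H : Type*} [Group H] [Finite H] (A : Subgroup H) (hA : A ≠ ⊤) (hD : ∀ x : H, x ∉ A → x ^ 2 = 1) :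
    ∃ B : Subgroup H, B.Normal ∧ IsMulCommutative ↥B ∧ B.index = 2 ∧
      (∀ x : H, x ∉ B → x ^ 2 = 1 ∧ ∀ b ∈ B, x * b * x⁻¹ = b⁻¹) ∧
      (¬ (IsMulCommutative H ∧ ∀ x : H, x ^ 2 = 1) →
        ∀ B' : Subgroup H, B'.Normal → IsMulCommutative ↥B' → B'.index = 2 →
          (∀ x : H, x ∉ B' → x ^ 2 = 1 ∧ ∀ b ∈ B', x * b * x⁻¹ = b⁻¹) → B' = B) := by
  obtain ⟨t, ht⟩ : ∃ t : H, t ∉ A := by
    by_contra hcon
    push Not at hcon
    exact hA (eq_top_iff.mpr fun x _ => hcon x)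
  by_cases hE : ∀ x : H, x ^ 2 = 1
  · -- elementary abelian case
    haveI : Nontrivial H := ⟨⟨t, 1, fun h => ht (h ▸ A.one_mem)⟩⟩
    obtain ⟨B, hB⟩ := exists_index_two hE
    refine ⟨B, Subgroup.normal_of_index_eq_two hB, ⟨⟨fun a b => ?_⟩⟩, hB, ?_, ?_⟩
    · exact Subtype.ext (comm_of_sq hE a b)
    · intro x _
      refine ⟨hE x, fun b _ => ?_⟩
      rw [comm_of_sq hE x b, mul_inv_cancel_right, inv_self_of_sq (hE b)]
    · intro hne
      exact absurd ⟨⟨⟨fun a b => comm_of_sq hE a b⟩⟩, hE⟩ hne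
  · -- A has index 2
    have hprod : ∀ s s' : H, s ∉ A → s' ∉ A → s * s' ∈ A := by
      intro s s' hs hs'
      by_contra hss
      exact hE (all_sq A hD s s' hs hs' hss)
    have hidx : A.index = 2 := by
      rw [Subgroup.index_eq_two_iff]
      refine ⟨t, fun b => ?_⟩
      by_cases hb : b ∈ A
      · right
        refine ⟨hb, fun hbt => ht ?_⟩
        simpa using A.mul_mem (A.inv_mem hb) hbt
      · left
        exact ⟨hprod b t hb ht, hb⟩
    have hcomm : ∀ a b : H, a ∈ A → b ∈ A → a * b = b * a := by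
      intro a b ha hb
      have h1 := inverts A hD t ht a ha
      have h2 := inverts A hD t ht b hb
      have h3 := inverts A hD t ht (a * b) (A.mul_mem ha hb)
      have : t * (a * b) * t⁻¹ = (t * a * t⁻¹) * (t * b * t⁻¹) := by group
      rw [this, h1, h2, mul_inv_rev] at h3
      have := congrArg (fun z => z⁻¹) h3
      simpa using this.symm
    refine ⟨A, Subgroup.normal_of_index_eq_two hidx, ⟨⟨fun a b => ?_⟩⟩, hidx, ?_, ?_⟩
    · exact Subtype.ext (hcomm a b a.2 b.2)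
    · intro x hx
      exact ⟨hD x hx, fun b hb => inverts A hD x hx b hb⟩
    · intro _ B' _ _ hB'idx hB'
      by_contra hne
      -- B' not ≤ A
      have hcardA := A.card_mul_index
      have hcardB := B'.card_mul_index
      rw [hidx] at hcardA
      rw [hB'idx] at hcardB
      have hcard : Nat.card A = Nat.card B' := by omega
      have h1 : ¬ B' ≤ A := fun hle =>
        hne (Subgroup.eq_of_le_of_card_ge hle hcard.le)
      have h2 : ¬ A ≤ B' := fun hle =>
        hne (Subgroup.eq_of_le_of_card_ge hle hcard.ge).symm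
      obtain ⟨x, hxB, hxA⟩ := SetLike.not_le_iff_exists.mp h1
      obtain ⟨y, hyA, hyB⟩ := SetLike.not_le_iff_exists.mp h2
      have hD' : ∀ z : H, z ∉ A ⊓ B' → z ^ 2 = 1 := by
        intro z hz
        by_cases hzA : z ∈ A
        · exact (hB' z (fun hzB => hz ⟨hzA, hzB⟩)).1
        · exact hD z hzA
      apply hE
      refine all_sq (A ⊓ B') hD' x y (fun h => hxA h.1) (fun h => hyB h.2) (fun h => hxA ?_)
      simpa using A.mul_mem h.1 (A.inv_mem hyA)

end Cfsg.Agent.S4420
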