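import Cfsg.Statements.S4421

set_option autoImplicit false
open Cfsg

namespace Cfsg.Agent.S4421

theorem mem_map_conj_iff {G : Type*} [Group G] (A : Subgroup G) (g x : G) :
    x ∈ A.map (MulAut.conj g).toMonoidHom ↔ g⁻¹ * x * g ∈ A := by
  constructor
  · rintro ⟨a, ha, rfl⟩
    simpa [MulAut.conj_apply, mul_assoc] using ha
  · intro h
    exact ⟨g⁻¹ * x * g, h, by simp [MulAut.conj_apply, mul_assoc]⟩

theorem result {G : Type*} [Group G] [Finite G] (A S H : Subgroup G)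
    (hAS : A ≤ S) (hSH : S ≤ H)
    (h1 : ∀ g : G, A.map (MulAut.conj g).toMonoidHom ≤ S → ∃ s ∈ S, A.map (MulAut.conj g).toMonoidHom = A.map (MulAut.conj s).toMonoidHom)
    (h2 : ∀ g : G, S.map (MulAut.conj g).toMonoidHom ≤ H → ∃ y ∈ H, S.map (MulAut.conj g).toMonoidHom = S.map (MulAut.conj y).toMonoidHom)
    (h3 : ∀ x ∈ Subgroup.normalizer (A : Set G), S.map (MulAut.conj x).toMonoidHom ≤ H) :
    ∀ x ∈ Subgroup.normalizer (A : Set G), ∃ y ∈ H ⊓ Subgroup.normalizer (A : Set G),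
      ∃ z ∈ Subgroup.normalizer (S : Set G) ⊓ Subgroup.normalizer (A : Set G), x = y * z := by
  intro x hx
  obtain ⟨y, hyH, hy⟩ := h2 x (h3 x hx)
  -- y⁻¹ * x normalizes S
  have hyx : ∀ t : G, t ∈ S ↔ (y⁻¹ * x) * t * (y⁻¹ * x)⁻¹ ∈ S := by
    intro t
    have e := SetLike.ext_iff.mp hy (x * t * x⁻¹)
    rw [mem_map_conj_iff, mem_map_conj_iff] at e
    have e1 : x⁻¹ * (x * t * x⁻¹) * x = t := by group
    have e2 : y⁻¹ * (x * t * x⁻¹) * y = (y⁻¹ * x) * t * (y⁻¹ * x)⁻¹ := by group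
    rw [e1, e2] at e
    exact e
  -- conj y⁻¹ A ≤ S
  have hAy : A.map (MulAut.conj y⁻¹).toMonoidHom ≤ S := by
    intro t ht
    rw [mem_map_conj_iff] at ht
    -- y * t * y⁻¹ ∈ A, hence = x a x⁻¹ for a ∈ A
    rw [inv_inv] at ht
    have hxA := (Subgroup.mem_normalizer_iff''.mp hx (y * t * y⁻¹)).mp ht
    have hxS : x⁻¹ * (y * t * y⁻¹) * x ∈ S := hAS hxA
    have := (hyx (x⁻¹ * (y * t * y⁻¹) * x)).mp hxS
    have e : y⁻¹ * x * (x⁻¹ * (y * t * y⁻¹) * x) * (y⁻¹ * x)⁻¹ = t := by group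
    rwa [e] at this
  obtain ⟨s, hsS, hs⟩ := h1 y⁻¹ hAy
  -- y * s normalizes A
  have hysA : y * s ∈ Subgroup.normalizer (A : Set G) := by
    rw [Subgroup.mem_normalizer_iff'']
    intro t
    have e := SetLike.ext_iff.mp hs (y⁻¹ * t * y)
    rw [mem_map_conj_iff, mem_map_conj_iff] at e
    have e1 : y⁻¹⁻¹ * (y⁻¹ * t * y) * y⁻¹ = t := by group
    have e2 : s⁻¹ * (y⁻¹ * t * y) * s = (y * s)⁻¹ * t * (y * s) := by group
    rw [e1, e2] at e
    exact e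
  refine ⟨y * s, ⟨H.mul_mem hyH (hSH hsS), hysA⟩, (y * s)⁻¹ * x, ⟨?_, ?_⟩, by group⟩
  · -- normalizes S
    have h1' : y⁻¹ * x ∈ Subgroup.normalizer (S : Set G) := Subgroup.mem_normalizer_iff.mpr hyx
    have h2' : s⁻¹ ∈ Subgroup.normalizer (S : Set G) :=
      Subgroup.le_normalizer (S.inv_mem hsS)
    have : (y * s)⁻¹ * x = s⁻¹ * (y⁻¹ * x) := by group
    rw [this]
    exact Subgroup.mul_mem _ h2' h1'
  · exact Subgroup.mul_mem _ (Subgroup.inv_mem _ hysA) hx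

end Cfsg.Agent.S4421
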