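import Cfsg.Statements.S4422

set_option autoImplicit false
open Cfsg

namespace Cfsg.Agent.S4422

/-- A prime dividing `q^e - 1` and coprime to all `q^i - 1`, `1 ≤ i < e`, is `≡ 1 (mod e)`. -/
theorem prime_case (q e p : ℕ) (hq : 2 ≤ q) (he : 1 ≤ e) (hp : p.Prime)
    (hm : p ∣ q ^ e - 1) (hcop : ∀ i : ℕ, 1 ≤ i → i < e → Nat.Coprime p (q ^ i - 1)) :
    p % e = 1 % e := by
  haveI := Fact.mk hp
  have hqe : 1 ≤ q ^ e := Nat.one_le_pow _ _ (by omega)
  have h1 : ((q : ZMod p)) ^ e = 1 := by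
    have : ((q ^ e - 1 : ℕ) : ZMod p) = 0 := (ZMod.natCast_eq_zero_iff _ _).mpr hm
    rw [Nat.cast_sub hqe] at this
    push_cast at this
    exact sub_eq_zero.mp this
  have hq0 : (q : ZMod p) ≠ 0 := by
    intro h
    rw [h, zero_pow (by omega)] at h1
    exact zero_ne_one h1
  have hd : orderOf (q : ZMod p) ∣ e := orderOf_dvd_of_pow_eq_one h1
  have hd1 : 1 ≤ orderOf (q : ZMod p) := by
    have := orderOf_pos_iff.mpr (isOfFinOrder_iff_pow_eq_one.mpr ⟨e, by omega, h1⟩)
    omega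
  have hde : orderOf (q : ZMod p) = e := by
    by_contra hne
    have hlt : orderOf (q : ZMod p) < e := lt_of_le_of_ne (Nat.le_of_dvd (by omega) hd) hne
    have hc := hcop _ hd1 hlt
    have hdvd : p ∣ q ^ orderOf (q : ZMod p) - 1 := by
      rw [← ZMod.natCast_eq_zero_iff]
      rw [Nat.cast_sub (Nat.one_le_pow _ _ (by omega))]
      push_cast
      rw [pow_orderOf_eq_one, sub_self]
    have := Nat.dvd_gcd (dvd_refl p) hdvd
    rw [Nat.Coprime] at hc
    rw [hc] at this
    exact hp.one_lt.ne' (Nat.dvd_one.mp this)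
  have hfer : (q : ZMod p) ^ (p - 1) = 1 := ZMod.pow_card_sub_one_eq_one hq0
  have hdvd : e ∣ p - 1 := hde ▸ orderOf_dvd_of_pow_eq_one hfer
  have : p = (p - 1) + 1 := by have := hp.one_lt; omega
  rw [this, Nat.add_mod, Nat.mod_eq_zero_of_dvd hdvd, zero_add, Nat.mod_mod]

theorem result (q e m : ℕ) (hq : 2 ≤ q) (he : 1 ≤ e)
    (hm : m ∣ q ^ e - 1) (hcop : ∀ i : ℕ, 1 ≤ i → i < e → Nat.Coprime m (q ^ i - 1)) :
    m % e = 1 % e := by
  induction m using Nat.strong_induction_on with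
  | _ m ih =>
    have hqe : 2 ≤ q ^ e := by
      calc 2 ≤ q := hq
        _ = q ^ 1 := (pow_one q).symm
        _ ≤ q ^ e := Nat.pow_le_pow_right (by omega) he
    have hm0 : m ≠ 0 := by
      rintro rfl
      have := Nat.eq_zero_of_zero_dvd hm
      omega
    by_cases hm1 : m = 1
    · rw [hm1]
    · obtain ⟨p, hp, k, rfl⟩ : ∃ p : ℕ, p.Prime ∧ ∃ k, m = p * k := by
        obtain ⟨p, hp, hpm⟩ := Nat.exists_prime_and_dvd hm1
        exact ⟨p, hp, hpm⟩
      have hk0 : k ≠ 0 := by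
        rintro rfl
        exact hm0 (by simp)
      have hklt : k < p * k := by
        have := hp.one_lt
        nlinarith [Nat.pos_of_ne_zero hk0]
      have hk := ih k hklt ((Dvd.intro_left p rfl).trans hm)
        (fun i hi hie => Nat.Coprime.coprime_dvd_left (Dvd.intro_left p rfl) (hcop i hi hie))
      have hpp := prime_case q e p hq he hp ((Dvd.intro k rfl).trans hm)
        (fun i hi hie => Nat.Coprime.coprime_dvd_left (Dvd.intro k rfl) (hcop i hi hie))
      rw [Nat.mul_mod, hpp, hk, ← Nat.mul_mod]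

end Cfsg.Agent.S4422
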