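-- Statement S4423.
import Cfsg.Statements.S4423
import Cfsg.Agent.S4422
import Cfsg.Agent.Lib.Helper29.CycloCST

set_option autoImplicit false
open Cfsg

namespace Cfsg.Agent.S4423

open Cfsg.Agent.S2904 Cfsg.Agent.Helper29.CycloCST Cfsg.Agent.Helper29.CycloEval

theorem mem13_of_II {q e : ℕ} {N : ℤ}
    (h : (q, e, N) ∈ ([(2, 3, 7), (2, 4, 5), (2, 6, 3), (3, 6, 7), (4, 6, 13), (2, 8, 17),
      (2, 10, 11), (2, 12, 13)] : List (ℕ × ℕ × ℤ))) :
    (q, e) ∈ [(2, 6), (2, 4), (2, 10), (2, 12), (2, 18), (3, 4), (3, 6), (5, 6), (2, 3), (2, 8),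
      (2, 20), (4, 3), (4, 6)] := by
  simp only [List.mem_cons, Prod.mk.injEq, List.not_mem_nil, or_false] at h
  rcases h with ⟨rfl, rfl, _⟩ | ⟨rfl, rfl, _⟩ | ⟨rfl, rfl, _⟩ | ⟨rfl, rfl, _⟩ | ⟨rfl, rfl, _⟩ |
    ⟨rfl, rfl, _⟩ | ⟨rfl, rfl, _⟩ | ⟨rfl, rfl, _⟩ <;> decide

theorem mem13_of_I {q e : ℕ} {N : ℤ}
    (h : (q, e, N) ∈ ([(4, 3, 21), (3, 4, 10), (2, 6, 3), (5, 6, 21), (2, 18, 57),
      (2, 20, 205)] : List (ℕ × ℕ × ℤ))) :
    (q, e) ∈ [(2, 6), (2, 4), (2, 10), (2, 12), (2, 18), (3, 4), (3, 6), (5, 6), (2, 3), (2, 8),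
      (2, 20), (4, 3), (4, 6)] := by
  simp only [List.mem_cons, Prod.mk.injEq, List.not_mem_nil, or_false] at h
  rcases h with ⟨rfl, rfl, _⟩ | ⟨rfl, rfl, _⟩ | ⟨rfl, rfl, _⟩ | ⟨rfl, rfl, _⟩ | ⟨rfl, rfl, _⟩ |
    ⟨rfl, rfl, _⟩ <;> decide

theorem small_cases (q e m : ℕ) (hq : 2 ≤ q) (he : 3 ≤ e) (hm : m ∣ q ^ e - 1)
    (hcop : ∀ i : ℕ, 1 ≤ i → i < e → Nat.Coprime m (q ^ i - 1)) (hlt : m < 3 * e + 1) :
    m = 1 ∨ m = e + 1 ∨ m = 2 * e + 1 := by
  have hmod := Cfsg.Agent.S4422.result q e m hq (by omega) hm hcop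
  rw [Nat.mod_eq_of_lt (by omega : 1 < e)] at hmod
  have hdm := Nat.div_add_mod m e
  obtain ⟨k, hk⟩ : ∃ k, k = m / e := ⟨_, rfl⟩
  rw [← hk, hmod] at hdm
  have hk2 : k ≤ 2 := by
    by_contra hcon
    push Not at hcon
    have : e * 3 ≤ e * k := Nat.mul_le_mul_left _ hcon
    omega
  interval_cases k
  · left; omega
  · right; left; omega
  · right; right; omega

theorem part1 (q e : ℕ) (hq : 2 ≤ q) (he : 3 ≤ e)
    (hnot : (q, e) ∉ [(2, 6), (2, 4), (2, 10), (2, 12), (2, 18), (3, 4), (3, 6), (5, 6), (2, 3),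
      (2, 8), (2, 20), (4, 3), (4, 6)]) :
    ∃ m : ℕ, m ∣ q ^ e - 1 ∧ (∀ i : ℕ, 1 ≤ i → i < e → Nat.Coprime m (q ^ i - 1)) ∧
      3 * e + 1 ≤ m := by
  have hΦpos := Phi_pos e q (by omega)
  obtain ⟨N0, hN0⟩ : ∃ N0 : ℕ, (N0 : ℤ) = Phi e q :=
    ⟨(Phi e q).natAbs, Int.natAbs_of_nonneg hΦpos.le⟩
  have hqe : 1 ≤ q ^ e := Nat.one_le_pow _ _ (by omega)
  have hN0dvd : N0 ∣ q ^ e - 1 := by
    have h := Phi_dvd e q
    rw [← hN0] at h
    have hc : ((q ^ e - 1 : ℕ) : ℤ) = (q : ℤ) ^ e - 1 := by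
      rw [Nat.cast_sub hqe]; push_cast; ring
    rw [← hc] at h
    exact Int.natCast_dvd_natCast.1 h
  have main : ∀ m : ℕ, m ∣ N0 →
      (∀ l : ℕ, l.Prime → l ∣ m → orderOf ((q : ℕ) : ZMod l) = e) →
      (m ∣ q ^ e - 1 ∧ (∀ i : ℕ, 1 ≤ i → i < e → Nat.Coprime m (q ^ i - 1))) := by
    intro m hmN hprim
    refine ⟨hmN.trans hN0dvd, fun i hi hie => Nat.coprime_of_dvd (fun l hl hlm hli => ?_)⟩
    have := (primitive_facts q e l (by omega) (by omega) hl (hprim l hl hlm)).2.1 i (by omega) hie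
    exact this hli
  rcases prim_or_struct q e (by omega) he with
    hA | ⟨r, e', s, hr, hrN, hrsq, hnes, her, hepos, hedvd, hB⟩
  · obtain ⟨h1, h2⟩ := main N0 dvd_rfl
      (fun l hl hlN => hA l hl (by rw [← hN0]; exact_mod_cast hlN))
    by_contra hcon
    have hlt : N0 < 3 * e + 1 := by
      by_contra h
      exact hcon ⟨N0, h1, h2, by omega⟩
    have h3 := small_cases q e N0 hq he h1 h2 hlt
    have hle : Phi e q ≤ 2 * (e : ℤ) + 1 := by
      rw [← hN0]
      rcases h3 with h | h | h <;> (rw [h]; push_cast; linarith)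
    exact hnot (mem13_of_II (M_II q e hq he hle))
  · obtain ⟨M, hM⟩ := hrN
    have hr0 : (0 : ℤ) < r := by exact_mod_cast hr.pos
    have hMpos : 0 < M := by
      by_contra hle
      push Not at hle
      have : (r : ℤ) * M ≤ 0 := mul_nonpos_of_nonneg_of_nonpos hr0.le hle
      linarith
    obtain ⟨M0, hM0⟩ : ∃ M0 : ℕ, (M0 : ℤ) = M := ⟨M.natAbs, Int.natAbs_of_nonneg hMpos.le⟩
    have hN0M : N0 = r * M0 := by
      have : (N0 : ℤ) = ((r * M0 : ℕ) : ℤ) := by rw [hN0, hM]; push_cast; rw [hM0]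
      exact_mod_cast this
    have hrM0 : ¬ r ∣ M0 := by
      rintro ⟨c, hc⟩
      apply hrsq
      rw [hM, ← hM0, hc]; push_cast; exact ⟨c, by ring⟩
    have hprimM : ∀ l : ℕ, l.Prime → l ∣ M0 → orderOf ((q : ℕ) : ZMod l) = e := by
      intro l hl hlM
      have hlr : l ≠ r := by rintro rfl; exact hrM0 hlM
      have hlN : (l : ℤ) ∣ Phi e q := by
        rw [← hN0]
        exact_mod_cast (hlM.trans ⟨r, by rw [hN0M]; ring⟩)
      exact hB l hl hlN hlr
    obtain ⟨h1, h2⟩ := main M0 ⟨r, by rw [hN0M]; ring⟩ hprimM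
    by_contra hcon
    have hlt : M0 < 3 * e + 1 := by
      by_contra h
      exact hcon ⟨M0, h1, h2, by omega⟩
    have h3 := small_cases q e M0 hq he h1 h2 hlt
    have hΦ : Phi e q = (r : ℤ) * (M0 : ℤ) := by rw [hM, hM0]
    have hle : Phi e q ≤ (r : ℤ) * (2 * (e : ℤ) + 1) := by
      rw [hΦ]
      apply mul_le_mul_of_nonneg_left _ hr0.le
      rcases h3 with h | h | h <;> (rw [h]; push_cast; linarith)
    exact hnot (mem13_of_I (M_I q e r e' s hq he hr hepos her hedvd hnes ⟨M, hM⟩ hle))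

theorem part2 (q e : ℕ)
    (hmem : (q, e) ∈ [(2, 6), (2, 4), (2, 10), (2, 12), (2, 18), (3, 4), (3, 6), (5, 6), (2, 3),
      (2, 8), (2, 20), (4, 3), (4, 6)]) :
    ∀ m : ℕ, m ∣ q ^ e - 1 → (∀ i : ℕ, 1 ≤ i → i < e → Nat.Coprime m (q ^ i - 1)) →
      m ≤ 2 * e + 1 := by
  simp only [List.mem_cons, Prod.mk.injEq, List.not_mem_nil, or_false] at hmem
  rcases hmem with ⟨rfl, rfl⟩ | ⟨rfl, rfl⟩ | ⟨rfl, rfl⟩ | ⟨rfl, rfl⟩ | ⟨rfl, rfl⟩ | ⟨rfl, rfl⟩ |
    ⟨rfl, rfl⟩ | ⟨rfl, rfl⟩ | ⟨rfl, rfl⟩ | ⟨rfl, rfl⟩ | ⟨rfl, rfl⟩ | ⟨rfl, rfl⟩ | ⟨rfl, rfl⟩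
  · -- (2,6)
    intro m hm hcop
    have c3 : Nat.Coprime m 7 := by
      have e0 : 2 ^ 3 - 1 = 7 := by norm_num
      rw [← e0]
      exact hcop 3 (by norm_num) (by norm_num)
    have c2 : Nat.Coprime m 3 := by
      have e0 : 2 ^ 2 - 1 = 3 := by norm_num
      rw [← e0]
      exact hcop 2 (by norm_num) (by norm_num)
    have cA : Nat.Coprime m 63 := by
      have h1 : Nat.Coprime m (7 * (3 * 3)) := (c3.mul_right (c2.mul_right c2))
      exact Nat.Coprime.coprime_dvd_right (by norm_num) h1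
    have h0 : m ∣ 63 * 1 := by
      have e0 : 2 ^ 6 - 1 = 63 * 1 := by norm_num
      rw [← e0]
      exact hm
    have h1 : m ∣ 1 := cA.dvd_of_dvd_mul_left h0
    have := Nat.le_of_dvd (by norm_num) h1
    omega
  · -- (2,4)
    intro m hm hcop
    have c2 : Nat.Coprime m 3 := by
      have e0 : 2 ^ 2 - 1 = 3 := by norm_num
      rw [← e0]
      exact hcop 2 (by norm_num) (by norm_num)
    have cA : Nat.Coprime m 3 := by
      have h1 : Nat.Coprime m 3 := c2
      exact Nat.Coprime.coprime_dvd_right (by norm_num) h1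
    have h0 : m ∣ 3 * 5 := by
      have e0 : 2 ^ 4 - 1 = 3 * 5 := by norm_num
      rw [← e0]
      exact hm
    have h1 : m ∣ 5 := cA.dvd_of_dvd_mul_left h0
    have := Nat.le_of_dvd (by norm_num) h1
    omega
  · -- (2,10)
    intro m hm hcop
    have c2 : Nat.Coprime m 3 := by
      have e0 : 2 ^ 2 - 1 = 3 := by norm_num
      rw [← e0]
      exact hcop 2 (by norm_num) (by norm_num)
    have c5 : Nat.Coprime m 31 := by
      have e0 : 2 ^ 5 - 1 = 31 := by norm_num
      rw [← e0]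
      exact hcop 5 (by norm_num) (by norm_num)
    have cA : Nat.Coprime m 93 := by
      have h1 : Nat.Coprime m (3 * 31) := (c2.mul_right c5)
      exact Nat.Coprime.coprime_dvd_right (by norm_num) h1
    have h0 : m ∣ 93 * 11 := by
      have e0 : 2 ^ 10 - 1 = 93 * 11 := by norm_num
      rw [← e0]
      exact hm
    have h1 : m ∣ 11 := cA.dvd_of_dvd_mul_left h0
    have := Nat.le_of_dvd (by norm_num) h1
    omega
  · -- (2,12)
    intro m hm hcop
    have c6 : Nat.Coprime m 63 := by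
      have e0 : 2 ^ 6 - 1 = 63 := by norm_num
      rw [← e0]
      exact hcop 6 (by norm_num) (by norm_num)
    have c4 : Nat.Coprime m 15 := by
      have e0 : 2 ^ 4 - 1 = 15 := by norm_num
      rw [← e0]
      exact hcop 4 (by norm_num) (by norm_num)
    have cA : Nat.Coprime m 315 := by
      have h1 : Nat.Coprime m (63 * 15) := (c6.mul_right c4)
      exact Nat.Coprime.coprime_dvd_right (by norm_num) h1
    have h0 : m ∣ 315 * 13 := by
      have e0 : 2 ^ 12 - 1 = 315 * 13 := by norm_num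
      rw [← e0]
      exact hm
    have h1 : m ∣ 13 := cA.dvd_of_dvd_mul_left h0
    have := Nat.le_of_dvd (by norm_num) h1
    omega
  · -- (2,18)
    intro m hm hcop
    have c9 : Nat.Coprime m 511 := by
      have e0 : 2 ^ 9 - 1 = 511 := by norm_num
      rw [← e0]
      exact hcop 9 (by norm_num) (by norm_num)
    have c6 : Nat.Coprime m 63 := by
      have e0 : 2 ^ 6 - 1 = 63 := by norm_num
      rw [← e0]
      exact hcop 6 (by norm_num) (by norm_num)
    have c2 : Nat.Coprime m 3 := by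
      have e0 : 2 ^ 2 - 1 = 3 := by norm_num
      rw [← e0]
      exact hcop 2 (by norm_num) (by norm_num)
    have cA : Nat.Coprime m 13797 := by
      have h1 : Nat.Coprime m (511 * (63 * 3)) := (c9.mul_right (c6.mul_right c2))
      exact Nat.Coprime.coprime_dvd_right (by norm_num) h1
    have h0 : m ∣ 13797 * 19 := by
      have e0 : 2 ^ 18 - 1 = 13797 * 19 := by norm_num
      rw [← e0]
      exact hm
    have h1 : m ∣ 19 := cA.dvd_of_dvd_mul_left h0
    have := Nat.le_of_dvd (by norm_num) h1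
    omega
  · -- (3,4)
    intro m hm hcop
    have c2 : Nat.Coprime m 8 := by
      have e0 : 3 ^ 2 - 1 = 8 := by norm_num
      rw [← e0]
      exact hcop 2 (by norm_num) (by norm_num)
    have cA : Nat.Coprime m 16 := by
      have h1 : Nat.Coprime m (8 * 8) := (c2.mul_right c2)
      exact Nat.Coprime.coprime_dvd_right (by norm_num) h1
    have h0 : m ∣ 16 * 5 := by
      have e0 : 3 ^ 4 - 1 = 16 * 5 := by norm_num
      rw [← e0]
      exact hm
    have h1 : m ∣ 5 := cA.dvd_of_dvd_mul_left h0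
    have := Nat.le_of_dvd (by norm_num) h1
    omega
  · -- (3,6)
    intro m hm hcop
    have c3 : Nat.Coprime m 26 := by
      have e0 : 3 ^ 3 - 1 = 26 := by norm_num
      rw [← e0]
      exact hcop 3 (by norm_num) (by norm_num)
    have c2 : Nat.Coprime m 8 := by
      have e0 : 3 ^ 2 - 1 = 8 := by norm_num
      rw [← e0]
      exact hcop 2 (by norm_num) (by norm_num)
    have cA : Nat.Coprime m 104 := by
      have h1 : Nat.Coprime m (26 * 8) := (c3.mul_right c2)
      exact Nat.Coprime.coprime_dvd_right (by norm_num) h1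
    have h0 : m ∣ 104 * 7 := by
      have e0 : 3 ^ 6 - 1 = 104 * 7 := by norm_num
      rw [← e0]
      exact hm
    have h1 : m ∣ 7 := cA.dvd_of_dvd_mul_left h0
    have := Nat.le_of_dvd (by norm_num) h1
    omega
  · -- (5,6)
    intro m hm hcop
    have c3 : Nat.Coprime m 124 := by
      have e0 : 5 ^ 3 - 1 = 124 := by norm_num
      rw [← e0]
      exact hcop 3 (by norm_num) (by norm_num)
    have c2 : Nat.Coprime m 24 := by
      have e0 : 5 ^ 2 - 1 = 24 := by norm_num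
      rw [← e0]
      exact hcop 2 (by norm_num) (by norm_num)
    have cA : Nat.Coprime m 2232 := by
      have h1 : Nat.Coprime m (124 * (24 * 24)) := (c3.mul_right (c2.mul_right c2))
      exact Nat.Coprime.coprime_dvd_right (by norm_num) h1
    have h0 : m ∣ 2232 * 7 := by
      have e0 : 5 ^ 6 - 1 = 2232 * 7 := by norm_num
      rw [← e0]
      exact hm
    have h1 : m ∣ 7 := cA.dvd_of_dvd_mul_left h0
    have := Nat.le_of_dvd (by norm_num) h1
    omega
  · -- (2,3)
    intro m hm hcop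
    have e0 : 2 ^ 3 - 1 = 7 := by norm_num
    rw [e0] at hm
    have := Nat.le_of_dvd (by norm_num) hm
    omega
  · -- (2,8)
    intro m hm hcop
    have c4 : Nat.Coprime m 15 := by
      have e0 : 2 ^ 4 - 1 = 15 := by norm_num
      rw [← e0]
      exact hcop 4 (by norm_num) (by norm_num)
    have cA : Nat.Coprime m 15 := by
      have h1 : Nat.Coprime m 15 := c4
      exact Nat.Coprime.coprime_dvd_right (by norm_num) h1
    have h0 : m ∣ 15 * 17 := by
      have e0 : 2 ^ 8 - 1 = 15 * 17 := by norm_num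
      rw [← e0]
      exact hm
    have h1 : m ∣ 17 := cA.dvd_of_dvd_mul_left h0
    have := Nat.le_of_dvd (by norm_num) h1
    omega
  · -- (2,20)
    intro m hm hcop
    have c10 : Nat.Coprime m 1023 := by
      have e0 : 2 ^ 10 - 1 = 1023 := by norm_num
      rw [← e0]
      exact hcop 10 (by norm_num) (by norm_num)
    have c4 : Nat.Coprime m 15 := by
      have e0 : 2 ^ 4 - 1 = 15 := by norm_num
      rw [← e0]
      exact hcop 4 (by norm_num) (by norm_num)
    have cA : Nat.Coprime m 25575 := by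
      have h1 : Nat.Coprime m (1023 * (15 * 15)) := (c10.mul_right (c4.mul_right c4))
      exact Nat.Coprime.coprime_dvd_right (by norm_num) h1
    have h0 : m ∣ 25575 * 41 := by
      have e0 : 2 ^ 20 - 1 = 25575 * 41 := by norm_num
      rw [← e0]
      exact hm
    have h1 : m ∣ 41 := cA.dvd_of_dvd_mul_left h0
    have := Nat.le_of_dvd (by norm_num) h1
    omega
  · -- (4,3)
    intro m hm hcop
    have c1 : Nat.Coprime m 3 := by
      have e0 : 4 ^ 1 - 1 = 3 := by norm_num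
      rw [← e0]
      exact hcop 1 (by norm_num) (by norm_num)
    have cA : Nat.Coprime m 9 := by
      have h1 : Nat.Coprime m (3 * 3) := (c1.mul_right c1)
      exact Nat.Coprime.coprime_dvd_right (by norm_num) h1
    have h0 : m ∣ 9 * 7 := by
      have e0 : 4 ^ 3 - 1 = 9 * 7 := by norm_num
      rw [← e0]
      exact hm
    have h1 : m ∣ 7 := cA.dvd_of_dvd_mul_left h0
    have := Nat.le_of_dvd (by norm_num) h1
    omega
  · -- (4,6)
    intro m hm hcop
    have c3 : Nat.Coprime m 63 := by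
      have e0 : 4 ^ 3 - 1 = 63 := by norm_num
      rw [← e0]
      exact hcop 3 (by norm_num) (by norm_num)
    have c2 : Nat.Coprime m 15 := by
      have e0 : 4 ^ 2 - 1 = 15 := by norm_num
      rw [← e0]
      exact hcop 2 (by norm_num) (by norm_num)
    have cA : Nat.Coprime m 315 := by
      have h1 : Nat.Coprime m (63 * 15) := (c3.mul_right c2)
      exact Nat.Coprime.coprime_dvd_right (by norm_num) h1
    have h0 : m ∣ 315 * 13 := by
      have e0 : 4 ^ 6 - 1 = 315 * 13 := by norm_num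
      rw [← e0]
      exact hm
    have h1 : m ∣ 13 := cA.dvd_of_dvd_mul_left h0
    have := Nat.le_of_dvd (by norm_num) h1
    omega

/-- Size of the primitive part of `q^e - 1`. For a prime power `q` and `e ≥ 3`, call a divisor of `q^e - 1` primitive when it is coprime to `q^i - 1` for every `1 ≤ i < e`; the primitive part is the largest primitive divisor. Apart from thirteen exceptional pairs, the primitive part is at least `3e + 1`: there is a primitive divisor `m ≥ 3e + 1` unless `(q, e)` is `(2, 6)` (where every primitive divisor is 1), one of `(2,4), (2,10), (2,12), (2,18), (3,4), (3,6), (5,6)` (where the primitive part is exactly `e + 1`), or one of `(2,3), (2,8), (2,20), (4,3), (4,6)` (where it is exactly `2e + 1`). The statement asserts the existence of a primitive divisor `m ≥ 3e + 1` outside the thirteen pairs, and that every primitive divisor is at most `2e + 1` for the thirteen pairs. -/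
theorem result (q e : ℕ) (hq : IsPrimePow q) (he : 3 ≤ e) :
    ((q, e) ∉ [(2, 6), (2, 4), (2, 10), (2, 12), (2, 18), (3, 4), (3, 6), (5, 6), (2, 3), (2, 8), (2, 20), (4, 3), (4, 6)] →
      ∃ m : ℕ, m ∣ q ^ e - 1 ∧ (∀ i : ℕ, 1 ≤ i → i < e → Nat.Coprime m (q ^ i - 1)) ∧ 3 * e + 1 ≤ m) ∧
    ((q, e) ∈ [(2, 6), (2, 4), (2, 10), (2, 12), (2, 18), (3, 4), (3, 6), (5, 6), (2, 3), (2, 8), (2, 20), (4, 3), (4, 6)] →
      ∀ m : ℕ, m ∣ q ^ e - 1 → (∀ i : ℕ, 1 ≤ i → i < e → Nat.Coprime m (q ^ i - 1)) → m ≤ 2 * e + 1) := by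
  exact ⟨fun hnot => part1 q e hq.two_le he hnot, fun hmem => part2 q e hmem⟩

end Cfsg.Agent.S4423
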