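import Cfsg.Statements.S4427
import Cfsg.Agent.Lib.Helper24.S4427Main

set_option autoImplicit false
open Cfsg

namespace Cfsg.Agent.S4427

theorem fact_q (p q r a b c : ℕ) (hp : p.Prime) (hq : q.Prime) (hr : r.Prime)
    (hpq : p ≠ q) (hqr : q ≠ r) : (p ^ a * q ^ b * r ^ c).factorization q = b := by
  rw [Nat.factorization_mul (mul_ne_zero (pow_ne_zero _ hp.ne_zero) (pow_ne_zero _ hq.ne_zero))
    (pow_ne_zero _ hr.ne_zero), Nat.factorization_mul (pow_ne_zero _ hp.ne_zero)
    (pow_ne_zero _ hq.ne_zero), Nat.factorization_pow, Nat.factorization_pow,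
    Nat.factorization_pow, hp.factorization, hq.factorization, hr.factorization]
  simp [Finsupp.single_apply, hpq, hqr.symm]

/-- Let G be a finite group of order p^a · q^b · r^c with p, q, r distinct primes, and suppose that G has exactly q^b · r^c elements of order not divisible by p. Then G has a normal p-complement: a normal subgroup of order q^b · r^c. -/
theorem result {G : Type*} [Group G] [Finite G] (p q r a b c : ℕ) (hp : p.Prime) (hq : q.Prime) (hr : r.Prime) (hpq : p ≠ q) (hpr : p ≠ r) (hqr : q ≠ r) (hG : Nat.card G = p ^ a * q ^ b * r ^ c) (hcount : Nat.card {g : G // ¬ p ∣ orderOf g} = q ^ b * r ^ c) : ∃ N : Subgroup G, N.Normal ∧ Nat.card N = q ^ b * r ^ c := by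
  haveI := Fintype.ofFinite G
  haveI : Fact p.Prime := ⟨hp⟩
  haveI : Fact q.Prime := ⟨hq⟩
  haveI : Fact r.Prime := ⟨hr⟩
  obtain ⟨Q⟩ : Nonempty (Sylow q G) := inferInstance
  obtain ⟨R⟩ : Nonempty (Sylow r G) := inferInstance
  have hQc : Nat.card (Q : Subgroup G) = q ^ b := by
    rw [Sylow.card_eq_multiplicity, hG, fact_q p q r a b c hp hq hr hpq hqr]
  have hRc : Nat.card (R : Subgroup G) = r ^ c := by
    rw [Sylow.card_eq_multiplicity, hG]
    have : p ^ a * q ^ b * r ^ c = p ^ a * r ^ c * q ^ b := by ring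
    rw [this, fact_q p r q a c b hp hr hq hpr hqr.symm]
  have hnd : ∀ {s : ℕ} (k : ℕ), s.Prime → p ≠ s → ¬ p ∣ s ^ k := by
    intro s k hs hps h
    exact hps ((Nat.prime_dvd_prime_iff_eq hp hs).mp (hp.dvd_of_dvd_pow h))
  obtain ⟨N, hN, hmem⟩ := Cfsg.Agent.Lib.Helper24.S4427.Asm.core p (Q : Subgroup G) (R : Subgroup G) a
    (by rw [hQc, hRc, hG, mul_assoc]) (by rw [hQc]; exact hnd b hq hpq)
    (by rw [hRc]; exact hnd c hr hpr)
    (by rw [hQc, hRc]; exact Nat.Coprime.pow _ _ ((Nat.coprime_primes hq hr).mpr hqr))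
    (by rw [hQc, hRc, hcount])
  refine ⟨N, hN, ?_⟩
  rw [← hcount]
  exact Nat.card_congr (Equiv.subtypeEquivRight hmem)

end Cfsg.Agent.S4427
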