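import Mathlib
import Cfsg.Statements.S4428
import Cfsg.Agent.Lib.Helper24.InducedDegree
import Cfsg.Agent.Lib.Helper7.CentralHom

set_option autoImplicit false
open Cfsg

namespace Cfsg.Agent.S4428

open Cfsg.Agent.Lib.Helper2 Cfsg.Agent.Lib.Helper24
open scoped ComplexConjugate

theorem broue_puig {G : Type*} [Group G] [Fintype G] {p : ℕ} [Fact p.Prime]
    {M : Ideal Cfsg.AlgInt} (hM : Cfsg.IsPModular p M) (C : Subgroup G) [Fintype C] (x : G)
    (hxC : x ∈ C) (hcent : ∀ c ∈ C, c * x = x * c) (hx : ∃ k : ℕ, orderOf x = p ^ k)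
    (B : Set (Cfsg.IrrCharacter G)) (χ : Cfsg.IrrCharacter G) (hχ : χ ∈ B)
    (h0 : Cfsg.blockHeight p B (χ : G → ℂ) = 0) (b : Set (Cfsg.IrrCharacter C))
    (hb : Cfsg.IsInducedBlock M C b B) :
    ∃ y : C, ¬ p ∣ orderOf y ∧
      Cfsg.blockPart b (fun c : C => (χ : G → ℂ) (x * (c : G))) y ≠ 0 := by
  classical
  haveI : Fintype (Cfsg.IrrCharacter C) := Fintype.ofFinite _
  obtain ⟨k, hk⟩ := hx
  -- the central element
  obtain ⟨xC, hxCdef⟩ : ∃ xC : C, xC = ⟨x, hxC⟩ := ⟨_, rfl⟩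
  have hxCcoe : (xC : G) = x := by rw [hxCdef]
  have hz : xC ∈ Subgroup.center C := by
    rw [Subgroup.mem_center_iff]
    intro c
    apply Subtype.ext
    rw [Subgroup.coe_mul, Subgroup.coe_mul, hxCcoe]
    exact hcent c c.2
  have hz' : xC⁻¹ ∈ Subgroup.center C := (Subgroup.center C).inv_mem hz
  have hpow : xC ^ (p ^ k) = 1 := by
    apply Subtype.ext
    rw [Subgroup.coe_pow, hxCcoe, Subgroup.coe_one, ← hk]
    exact pow_orderOf_eq_one x
  have h1 : ∀ ψ : Cfsg.IrrCharacter C, (ψ : C → ℂ) 1 ≠ 0 :=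
    fun ψ => IsIrrCharacter.apply_one_ne_zero ψ.2
  -- the scalars
  obtain ⟨ε, hε⟩ : ∃ ε : Cfsg.IrrCharacter C → ℂ,
      ∀ ψ : Cfsg.IrrCharacter C, ε ψ = (ψ : C → ℂ) xC / (ψ : C → ℂ) 1 := ⟨_, fun _ => rfl⟩
  have hmul : ∀ (ψ : Cfsg.IrrCharacter C) (c : C),
      (ψ : C → ℂ) (xC * c) = ε ψ * (ψ : C → ℂ) c := by
    intro ψ c
    have := Cfsg.Agent.Lib.Helper7.irr_mul_of_mem_center ψ hz c
    rw [hε, div_mul_eq_mul_div, ← this, mul_div_assoc, div_self (h1 ψ), mul_one]
  have hmul' : ∀ (ψ : Cfsg.IrrCharacter C) (c : C),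
      conj ((ψ : C → ℂ) (xC⁻¹ * c)) = ε ψ * conj ((ψ : C → ℂ) c) := by
    intro ψ c
    have := Cfsg.Agent.Lib.Helper7.irr_mul_of_mem_center ψ hz' c
    have e : (ψ : C → ℂ) (xC⁻¹ * c) = (ψ : C → ℂ) xC⁻¹ * (ψ : C → ℂ) c / (ψ : C → ℂ) 1 := by
      rw [← this, mul_div_assoc, div_self (h1 ψ), mul_one]
    rw [e, map_div₀, map_mul, IrrCharacter.apply_inv, Complex.conj_conj, hε,
      apply_one_eq_charDegree, Complex.conj_natCast]
    ring
  have hεpow : ∀ (ψ : Cfsg.IrrCharacter C) (n : ℕ),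
      (ψ : C → ℂ) (xC ^ n) = ε ψ ^ n * (ψ : C → ℂ) 1 := by
    intro ψ n
    induction n with
    | zero => rw [pow_zero, pow_zero, one_mul]
    | succ n ih => rw [pow_succ', hmul, ih, pow_succ', mul_assoc]
  have hε1 : ∀ ψ : Cfsg.IrrCharacter C, ε ψ ^ (p ^ k) = 1 := by
    intro ψ
    have := hεpow ψ (p ^ k)
    rw [hpow] at this
    have h2 : ε ψ ^ (p ^ k) * (ψ : C → ℂ) 1 = 1 * (ψ : C → ℂ) 1 := by
      rw [one_mul]
      exact this.symm
    exact mul_right_cancel₀ (h1 ψ) h2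
  have hεI : ∀ ψ : Cfsg.IrrCharacter C, Cfsg.MemLocalIdeal M (ε ψ - 1) :=
    fun ψ => memLocalIdeal_sub_one_of_pow_eq_one hM (hε1 ψ)
  -- multiplicities
  have hχC : Cfsg.IsCharacter C (fun c : C => (χ : G → ℂ) c) :=
    IsCharacter.restrict (IsIrrCharacter.isCharacter χ.2) C
  choose a ha using fun ψ : Cfsg.IrrCharacter C =>
    classInner_isCharacter_nat hχC (IsIrrCharacter.isCharacter ψ.2)
  -- inner products of the translated function
  have hF : ∀ ψ : Cfsg.IrrCharacter C,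
      Cfsg.classInner (fun c : C => (χ : G → ℂ) (x * (c : G))) (ψ : C → ℂ)
        = ε ψ * (a ψ : ℂ) := by
    intro ψ
    rw [← ha ψ, classInner_def, classInner_def]
    have e : ∑ c : C, (fun c : C => (χ : G → ℂ) (x * (c : G))) c * conj ((ψ : C → ℂ) c)
        = ∑ c : C, (χ : G → ℂ) c * conj ((ψ : C → ℂ) (xC⁻¹ * c)) := by
      symm
      apply Fintype.sum_equiv (Equiv.mulLeft xC⁻¹)
      intro c
      show (χ : G → ℂ) (c : G) * conj ((ψ : C → ℂ) (xC⁻¹ * c))
        = (χ : G → ℂ) (x * ((xC⁻¹ * c : C) : G)) * conj ((ψ : C → ℂ) (xC⁻¹ * c))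
      congr 2
      rw [Subgroup.coe_mul, Subgroup.coe_inv, hxCcoe, mul_inv_cancel_left]
    rw [e, Finset.sum_congr rfl (fun c _ => by rw [hmul' ψ c])]
    rw [Finset.mul_sum, Finset.mul_sum, Finset.mul_sum]
    apply Finset.sum_congr rfl
    intro c _
    ring
  by_contra hcon
  push Not at hcon
  obtain ⟨ψ₀, hψ₀⟩ := isPBlock_nonempty hM hb.1
  -- the block part on `p`-regular elements
  obtain ⟨F, hFdef⟩ : ∃ F : C → ℂ, F = fun c : C => (χ : G → ℂ) (x * (c : G)) := ⟨_, rfl⟩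
  rw [← hFdef] at hcon hF
  have key : ∀ y : C, Cfsg.pRegularPart p (Cfsg.blockPart b F) y
      = ∑ ψ : Cfsg.IrrCharacter C,
          if ψ ∈ b then (ε ψ * (a ψ : ℂ)) * Cfsg.pRegularPart p (ψ : C → ℂ) y else 0 := by
    intro y
    by_cases hy : p ∣ orderOf y
    · rw [pRegularPart_of_singular _ hy]
      symm
      apply Finset.sum_eq_zero
      intro ψ _
      rw [pRegularPart_of_singular _ hy, mul_zero, ite_self]
    · rw [pRegularPart_of_regular _ hy, blockPart_apply, finsum_mem_eq_sum_ite]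
      apply Finset.sum_congr rfl
      intro ψ _
      rw [pRegularPart_of_regular _ hy, hF ψ]
  have hzero : ∀ y : C, Cfsg.pRegularPart p (Cfsg.blockPart b F) y = 0 := by
    intro y
    by_cases hy : p ∣ orderOf y
    · exact pRegularPart_of_singular _ hy
    · rw [pRegularPart_of_regular _ hy]
      exact hcon y hy
  have hT : ∑ ψ : Cfsg.IrrCharacter C, (if ψ ∈ b then (ε ψ * (a ψ : ℂ))
      * Cfsg.classInner (Cfsg.pRegularPart p (ψ : C → ℂ)) (ψ₀ : C → ℂ) else 0) = 0 := by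
    have h2 : Cfsg.classInner (Cfsg.pRegularPart p (Cfsg.blockPart b F)) (ψ₀ : C → ℂ) = 0 := by
      rw [classInner_def]
      have : ∀ y : C, Cfsg.pRegularPart p (Cfsg.blockPart b F) y * conj ((ψ₀ : C → ℂ) y) = 0 := by
        intro y
        rw [hzero y, zero_mul]
      rw [Finset.sum_congr rfl (fun y _ => this y), Finset.sum_const_zero, mul_zero]
    have h3 : ∀ y : C, Cfsg.pRegularPart p (Cfsg.blockPart b F) y * conj ((ψ₀ : C → ℂ) y)
        = ∑ ψ : Cfsg.IrrCharacter C, if ψ ∈ b then (ε ψ * (a ψ : ℂ))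
          * (Cfsg.pRegularPart p (ψ : C → ℂ) y * conj ((ψ₀ : C → ℂ) y)) else 0 := by
      intro y
      rw [key y, Finset.sum_mul]
      apply Finset.sum_congr rfl
      intro ψ _
      split_ifs
      · ring
      · rw [zero_mul]
    have h4 : Cfsg.classInner (Cfsg.pRegularPart p (Cfsg.blockPart b F)) (ψ₀ : C → ℂ)
        = ∑ ψ : Cfsg.IrrCharacter C, (if ψ ∈ b then (ε ψ * (a ψ : ℂ))
          * Cfsg.classInner (Cfsg.pRegularPart p (ψ : C → ℂ)) (ψ₀ : C → ℂ) else 0) := by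
      rw [classInner_def, Finset.sum_congr rfl (fun y _ => h3 y), Finset.sum_comm,
        Finset.mul_sum]
      apply Finset.sum_congr rfl
      intro ψ _
      by_cases hψ : ψ ∈ b
      · simp only [if_pos hψ]
        rw [classInner_def, ← Finset.mul_sum]
        ring
      · simp only [if_neg hψ, Finset.sum_const_zero, mul_zero]
    rw [← h4, h2]
  -- the contributions in `C`
  have hW : ∀ ψ : Cfsg.IrrCharacter C, (p : ℂ) ^ (Nat.card C).factorization p
      * Cfsg.classInner (Cfsg.pRegularPart p (ψ : C → ℂ)) (ψ₀ : C → ℂ)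
      = (ψ₀ : C → ℂ) 1 * contribR p (ψ : C → ℂ) (ψ₀ : C → ℂ) :=
    fun ψ => pow_mul_classInner_eq ψ ψ₀
  have hT' : ∑ ψ : Cfsg.IrrCharacter C, (if ψ ∈ b then (ε ψ * (a ψ : ℂ))
      * contribR p (ψ : C → ℂ) (ψ₀ : C → ℂ) else 0) = 0 := by
    have h2 : (ψ₀ : C → ℂ) 1 * ∑ ψ : Cfsg.IrrCharacter C, (if ψ ∈ b then (ε ψ * (a ψ : ℂ))
        * contribR p (ψ : C → ℂ) (ψ₀ : C → ℂ) else 0)
        = (p : ℂ) ^ (Nat.card C).factorization p
          * ∑ ψ : Cfsg.IrrCharacter C, (if ψ ∈ b then (ε ψ * (a ψ : ℂ))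
            * Cfsg.classInner (Cfsg.pRegularPart p (ψ : C → ℂ)) (ψ₀ : C → ℂ) else 0) := by
      rw [Finset.mul_sum, Finset.mul_sum]
      apply Finset.sum_congr rfl
      intro ψ _
      split_ifs
      · rw [mul_left_comm, ← hW ψ]
        ring
      · rw [mul_zero, mul_zero]
    rw [hT, mul_zero] at h2
    rcases mul_eq_zero.mp h2 with h | h
    · exact absurd h (h1 ψ₀)
    · exact h
  -- the expansion of the restriction of `χ`
  have hexp : Cfsg.classInner (Cfsg.pRegularPart p (fun c : C => (χ : G → ℂ) c)) (ψ₀ : C → ℂ)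
      = ∑ ψ : Cfsg.IrrCharacter C, if ψ ∈ b then (a ψ : ℂ)
          * Cfsg.classInner (Cfsg.pRegularPart p (ψ : C → ℂ)) (ψ₀ : C → ℂ) else 0 := by
    have h2 := classFunction_expansion (fun c : C => (χ : G → ℂ) c)
      (IsCharacter.isClassFunction hχC)
    have h3 : Cfsg.pRegularPart p (fun c : C => (χ : G → ℂ) c)
        = ∑ ψ : Cfsg.IrrCharacter C, (a ψ : ℂ) • Cfsg.pRegularPart p (ψ : C → ℂ) := by
      have h4 : pRegLin p C (fun c : C => (χ : G → ℂ) c)
          = Cfsg.pRegularPart p (fun c : C => (χ : G → ℂ) c) := rfl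
      rw [← h4]
      conv_lhs => rw [h2]
      rw [map_sum]
      apply Finset.sum_congr rfl
      intro ψ _
      rw [map_smul, ha ψ]
      rfl
    rw [h3, classInner_sum_left]
    apply Finset.sum_congr rfl
    intro ψ _
    rw [classInner_smul_left]
    by_cases hψ : ψ ∈ b
    · rw [if_pos hψ]
    · rw [if_neg hψ, classInner_pRegularPart_symm ψ ψ₀,
        classInner_pRegularPart_eq_zero hM b hb.1 ψ₀ ψ hψ₀ hψ, mul_zero]
  -- the contradiction with `induced_contrib`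
  apply (induced_contrib C hM b B hb χ ψ₀ hψ₀).2 hχ h0
  have hE : Cfsg.classInner (fun h : C => if p ∣ orderOf h then (0 : ℂ)
        else ((p ^ (Nat.card C).factorization p : ℕ) : ℂ) * (χ : G → ℂ) h) (ψ₀ : C → ℂ)
        / (ψ₀ : C → ℂ) 1
      = ∑ ψ : Cfsg.IrrCharacter C, if ψ ∈ b then (a ψ : ℂ)
          * contribR p (ψ : C → ℂ) (ψ₀ : C → ℂ) else 0 := by
    rw [ite_singular_eq_smul p _ (fun h : C => (χ : G → ℂ) h), classInner_smul_left, hexp,
      Nat.cast_pow, Finset.mul_sum, Finset.sum_div]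
    apply Finset.sum_congr rfl
    intro ψ _
    split_ifs
    · rw [mul_left_comm, hW ψ]
      have hne := h1 ψ₀
      field_simp
    · rw [mul_zero, zero_div]
  rw [hE]
  have hdiff : ∑ ψ : Cfsg.IrrCharacter C, (if ψ ∈ b then (a ψ : ℂ)
        * contribR p (ψ : C → ℂ) (ψ₀ : C → ℂ) else 0)
      = ∑ ψ : Cfsg.IrrCharacter C, (if ψ ∈ b then (-(ε ψ - 1)) * ((a ψ : ℂ)
        * contribR p (ψ : C → ℂ) (ψ₀ : C → ℂ)) else 0) := by
    have h2 : ∑ ψ : Cfsg.IrrCharacter C, (if ψ ∈ b then (a ψ : ℂ)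
        * contribR p (ψ : C → ℂ) (ψ₀ : C → ℂ) else 0)
        = ∑ ψ : Cfsg.IrrCharacter C, (if ψ ∈ b then (a ψ : ℂ)
          * contribR p (ψ : C → ℂ) (ψ₀ : C → ℂ) else 0)
          - ∑ ψ : Cfsg.IrrCharacter C, (if ψ ∈ b then (ε ψ * (a ψ : ℂ))
            * contribR p (ψ : C → ℂ) (ψ₀ : C → ℂ) else 0) := by
      rw [hT', sub_zero]
    rw [h2, ← Finset.sum_sub_distrib]
    apply Finset.sum_congr rfl
    intro ψ _
    split_ifs
    · ring
    · rw [sub_zero]
  rw [hdiff]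
  apply memLocalIdeal_sum hM
  intro ψ _
  split_ifs
  · exact memLocalIdeal_mul_right hM (memLocalIdeal_neg (hεI ψ))
      (memLocalRing_mul hM (memLocalRing_natCast hM _) (contribR_memLocalRing hM ψ ψ₀))
  · exact memLocalIdeal_zero hM

/-- Let χ be an irreducible character of height zero in the p-block B of the finite group G (relative to a maximal ideal M of the algebraic integers containing p). Let x be a p-element of G with centralizer C, and let b be a block of C that induces B. Form the class function ϑ(c) = χ(x c) on C and its b-part (the sum over ψ ∈ b of the inner product of ϑ with ψ, times ψ). Then the b-part of ϑ does not vanish identically on the p-regular elements of C. (Compare the second main Theorem, which gives vanishing when b does not induce B.) -/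
theorem result {G : Type*} [Group G] [Finite G] (p : ℕ) [Fact p.Prime] (M : Ideal Cfsg.AlgInt) (hM : Cfsg.IsPModular p M) (B : Set (Cfsg.IrrCharacter G)) (hB : Cfsg.IsPBlock M B) (χ : Cfsg.IrrCharacter G) (hχ : χ ∈ B) (h0 : Cfsg.blockHeight p B (χ : G → ℂ) = 0) (x : G) (hx : ∃ k : ℕ, orderOf x = p ^ k) (b : Set (Cfsg.IrrCharacter (Subgroup.centralizer ({x} : Set G)))) (hb : Cfsg.IsInducedBlock M (Subgroup.centralizer ({x} : Set G)) b B) : ∃ y : Subgroup.centralizer ({x} : Set G), ¬ p ∣ orderOf y ∧ Cfsg.blockPart b (fun c : Subgroup.centralizer ({x} : Set G) => (χ : G → ℂ) (x * (c : G))) y ≠ 0 := by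
  classical
  letI : Fintype G := Fintype.ofFinite G
  haveI : Fintype (Subgroup.centralizer ({x} : Set G)) := Fintype.ofFinite _
  apply broue_puig hM (Subgroup.centralizer ({x} : Set G)) x ?_ ?_ hx B χ hχ h0 b hb
  · rw [Subgroup.mem_centralizer_iff]
    intro y hy
    rw [Set.mem_singleton_iff.mp hy]
  · intro c hc
    rw [Subgroup.mem_centralizer_iff] at hc
    exact (hc x (Set.mem_singleton x)).symm

end Cfsg.Agent.S4428
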