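-- Statement S4429 (row 4429): character degrees of a simple group of order 7920.
import Cfsg.Statements.S4429
import Cfsg.Agent.Lib.Helper11.M11H

set_option autoImplicit false
open Cfsg

namespace Cfsg.Agent.S4429

open Cfsg.Agent.Lib.Helper11.M11

/-- Let G be a simple group of order 7920. Then G has exactly ten irreducible complex characters, and their degrees, listed with multiplicity, are 1, 10, 10, 10, 11, 16, 16, 44, 45, 55: for every natural number n, the number of irreducible characters of degree n is 1 if n ∈ {1, 11, 44, 45, 55}, 3 if n = 10, 2 if n = 16, and 0 otherwise. -/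
theorem result {G : Type*} [Group G] [Finite G] [IsSimpleGroup G] (hG : Nat.card G = 7920) : Nat.card (Cfsg.IrrCharacter G) = 10 ∧ ∀ n : ℕ, Nat.card {χ : Cfsg.IrrCharacter G // Cfsg.charDegree (χ : G → ℂ) = n} = (if n = 1 ∨ n = 11 ∨ n = 44 ∨ n = 45 ∨ n = 55 then 1 else if n = 10 then 3 else if n = 16 then 2 else 0) := by
  classical
  haveI : Fintype (Cfsg.IrrCharacter G) := Fintype.ofFinite _
  obtain ⟨d, hd, -, hval⟩ := char_multiset' (G := G) hG
  have hdeg : ∀ χ : Cfsg.IrrCharacter G, Cfsg.charDegree (χ : G → ℂ) = d χ := by
    intro χ
    unfold Cfsg.charDegree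
    rw [hd χ]
    simp
  constructor
  · rw [Nat.card_eq_fintype_card, ← Finset.card_univ, ← Finset.card_val,
      ← Multiset.card_map d, hval]
    rfl
  · intro n
    have h1 : Nat.card {χ : Cfsg.IrrCharacter G // Cfsg.charDegree (χ : G → ℂ) = n}
        = Multiset.count n ((Finset.univ : Finset (Cfsg.IrrCharacter G)).val.map d) := by
      rw [Nat.card_eq_fintype_card, Fintype.card_subtype, Multiset.count_map]
      rw [← Finset.card_val, Finset.filter_val]
      congr 1
      apply Multiset.filter_congr
      intro χ _
      rw [hdeg χ]
      exact eq_comm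
    rw [h1, hval]
    simp only [Multiset.insert_eq_cons, Multiset.count_cons, Multiset.count_singleton]
    by_cases h1 : n = 1
    · subst h1; simp
    by_cases h10 : n = 10
    · subst h10; simp
    by_cases h11 : n = 11
    · subst h11; simp
    by_cases h16 : n = 16
    · subst h16; simp
    by_cases h44 : n = 44
    · subst h44; simp
    by_cases h45 : n = 45
    · subst h45; simp
    by_cases h55 : n = 55
    · subst h55; simp
    simp [h1, h10, h11, h16, h44, h45, h55]

end Cfsg.Agent.S4429
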