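import Mathlib
import Cfsg.Statements.S4433
import Cfsg.Agent.Lib.Helper24.Knorr
import Cfsg.Agent.Lib.Helper7.MinMax
import Cfsg.Agent.Lib.Helper25.Kernel

set_option autoImplicit false
open Cfsg

namespace Cfsg.Agent.S4433

open Cfsg.Agent.Lib.Helper2 Cfsg.Agent.Lib.Helper24
open scoped ComplexConjugate

/-- Let N be a normal subgroup of the finite group G and write Ḡ = G/N; fix a maximal ideal M of the algebraic integers containing p. Let B̄ be a block of Ḡ contained in the block B of G, in the sense that the inflation of every member of B̄ lies in B, and let D̄ be a defect group of B̄. Then B has a defect group P whose image in Ḡ contains D̄. -/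
theorem result {G : Type*} [Group G] [Finite G] (p : ℕ) [Fact p.Prime] (M : Ideal Cfsg.AlgInt) (hM : Cfsg.IsPModular p M) (N : Subgroup G) [N.Normal] (Bbar : Set (Cfsg.IrrCharacter (G ⧸ N))) (hBbar : Cfsg.IsPBlock M Bbar) (B : Set (Cfsg.IrrCharacter G)) (hB : Cfsg.IsPBlock M B) (hsub : ∀ χ ∈ Bbar, ∀ ψ : Cfsg.IrrCharacter G, (ψ : G → ℂ) = (χ : G ⧸ N → ℂ) ∘ QuotientGroup.mk → ψ ∈ B) (Dbar : Subgroup (G ⧸ N)) (hDbar : Cfsg.IsDefectGroup p M Bbar Dbar) : ∃ P : Subgroup G, Cfsg.IsDefectGroup p M B P ∧ Dbar ≤ P.map (QuotientGroup.mk' N) := by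
  classical
  haveI : Fintype G := Fintype.ofFinite G
  haveI : Fintype (G ⧸ N) := Fintype.ofFinite _
  obtain ⟨χb, hχb⟩ := isPBlock_nonempty hM hBbar
  have hirr : Cfsg.IsIrrCharacter G (fun g : G => (χb : G ⧸ N → ℂ) (g : G ⧸ N)) :=
    Cfsg.Agent.Lib.Helper25.isIrrCharacter_inflation N χb.2
  have hχB : (⟨_, hirr⟩ : Cfsg.IrrCharacter G) ∈ B := hsub χb hχb ⟨_, hirr⟩ rfl
  obtain ⟨D₀, hD₀⟩ := exists_isDefectGroup hM B hB
  have hD₀' := hD₀
  obtain ⟨x, hx, P₀, rfl⟩ := hD₀
  have hunit := hx.2.2 _ hχB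
  -- the centralizers
  have hπs : Function.Surjective (QuotientGroup.mk' N) := QuotientGroup.mk'_surjective N
  have hCle : Subgroup.centralizer ({x} : Set G) ≤
      (Subgroup.centralizer ({(QuotientGroup.mk' N) x} : Set (G ⧸ N))).comap
        (QuotientGroup.mk' N) := by
    intro c hc
    rw [Subgroup.mem_comap, Subgroup.mem_centralizer_iff]
    intro z hz
    rw [Set.mem_singleton_iff] at hz
    subst hz
    have h1 := Subgroup.mem_centralizer_iff.mp hc x (Set.mem_singleton x)
    rw [← map_mul, ← map_mul, h1]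
  have hidx : (Subgroup.centralizer ({x} : Set G)).index =
      (Subgroup.centralizer ({x} : Set G)).relIndex
        ((Subgroup.centralizer ({(QuotientGroup.mk' N) x} : Set (G ⧸ N))).comap
          (QuotientGroup.mk' N)) *
      (Subgroup.centralizer ({(QuotientGroup.mk' N) x} : Set (G ⧸ N))).index := by
    rw [← Subgroup.index_comap_of_surjective _ hπs]
    exact (Subgroup.relIndex_mul_index hCle).symm
  have hcc : Cfsg.centralChar ((⟨_, hirr⟩ : Cfsg.IrrCharacter G) : G → ℂ) x =
      (((Subgroup.centralizer ({x} : Set G)).relIndex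
        ((Subgroup.centralizer ({(QuotientGroup.mk' N) x} : Set (G ⧸ N))).comap
          (QuotientGroup.mk' N)) : ℕ) : ℂ) *
      Cfsg.centralChar (χb : G ⧸ N → ℂ) ((QuotientGroup.mk' N) x) := by
    unfold Cfsg.centralChar
    rw [hidx]
    show _ * (χb : G ⧸ N → ℂ) ((x : G ⧸ N)) / (χb : G ⧸ N → ℂ) (((1 : G) : G ⧸ N)) = _
    rw [QuotientGroup.mk_one]
    push_cast
    simp only [QuotientGroup.mk'_apply]
    ring
  have hpt : ¬ p ∣ (Subgroup.centralizer ({x} : Set G)).relIndex
        ((Subgroup.centralizer ({(QuotientGroup.mk' N) x} : Set (G ⧸ N))).comap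
          (QuotientGroup.mk' N)) := by
    intro hdvd
    apply hunit
    rw [hcc]
    exact memLocalIdeal_mul_right hM ((memLocalIdeal_natCast_iff hM _).mpr hdvd)
      (centralChar_memLocalRing hM χb _)
  have hunitb : ¬ Cfsg.MemLocalIdeal M
      (Cfsg.centralChar (χb : G ⧸ N → ℂ) ((QuotientGroup.mk' N) x)) := by
    intro hmem
    apply hunit
    rw [hcc]
    exact memLocalIdeal_mul_left hM (memLocalRing_natCast hM _) hmem
  -- cardinalities
  have hcardCt : Nat.card (Subgroup.centralizer ({x} : Set G)) *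
      (Subgroup.centralizer ({x} : Set G)).relIndex
        ((Subgroup.centralizer ({(QuotientGroup.mk' N) x} : Set (G ⧸ N))).comap
          (QuotientGroup.mk' N)) =
      Nat.card ((Subgroup.centralizer ({(QuotientGroup.mk' N) x} : Set (G ⧸ N))).comap
          (QuotientGroup.mk' N)) := by
    have h := Subgroup.relIndex_mul_relIndex (⊥ : Subgroup G) _ _ bot_le hCle
    rwa [Subgroup.relIndex_bot_left, Subgroup.relIndex_bot_left] at h
  have hfac : (Nat.card ((Subgroup.centralizer ({(QuotientGroup.mk' N) x} :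
      Set (G ⧸ N))).comap (QuotientGroup.mk' N))).factorization p =
      (Nat.card (Subgroup.centralizer ({x} : Set G))).factorization p := by
    rw [← hcardCt, Nat.factorization_mul Nat.card_pos.ne'
      (fun h0 => hpt (by rw [h0]; exact dvd_zero p))]
    rw [Finsupp.add_apply, Nat.factorization_eq_zero_of_not_dvd hpt, add_zero]
  have hP₁le : (P₀ : Subgroup (Subgroup.centralizer ({x} : Set G))).map
      (Subgroup.centralizer ({x} : Set G)).subtype ≤
      (Subgroup.centralizer ({(QuotientGroup.mk' N) x} : Set (G ⧸ N))).comap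
          (QuotientGroup.mk' N) := by
    rintro _ ⟨u, _, rfl⟩
    exact hCle u.2
  have hcardP₁ : Nat.card ((P₀ : Subgroup (Subgroup.centralizer ({x} : Set G))).map
      (Subgroup.centralizer ({x} : Set G)).subtype) =
      p ^ (Nat.card (Subgroup.centralizer ({x} : Set G))).factorization p := by
    rw [Subgroup.card_map_of_injective (Subgroup.subtype_injective _)]
    exact P₀.card_eq_multiplicity
  have hcardP₂ : Nat.card (((P₀ : Subgroup (Subgroup.centralizer ({x} : Set G))).map
      (Subgroup.centralizer ({x} : Set G)).subtype).subgroupOf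
      ((Subgroup.centralizer ({(QuotientGroup.mk' N) x} : Set (G ⧸ N))).comap
          (QuotientGroup.mk' N))) =
      p ^ (Nat.card ((Subgroup.centralizer ({(QuotientGroup.mk' N) x} :
      Set (G ⧸ N))).comap (QuotientGroup.mk' N))).factorization p := by
    rw [hfac, ← hcardP₁]
    exact Nat.card_congr (Subgroup.subgroupOfEquivOfLe hP₁le).toEquiv
  have hf : Function.Surjective ((QuotientGroup.mk' N).subgroupComap
      (Subgroup.centralizer ({(QuotientGroup.mk' N) x} : Set (G ⧸ N)))) :=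
    MonoidHom.subgroupComap_surjective_of_surjective _ _ hπs
  -- the image Sylow subgroup
  have hQb : ∃ Qb : Sylow p (Subgroup.centralizer ({(QuotientGroup.mk' N) x} : Set (G ⧸ N))),
      (Qb : Subgroup (Subgroup.centralizer ({(QuotientGroup.mk' N) x} : Set (G ⧸ N)))).map
        (Subgroup.centralizer ({(QuotientGroup.mk' N) x} : Set (G ⧸ N))).subtype ≤
      ((P₀ : Subgroup (Subgroup.centralizer ({x} : Set G))).map
        (Subgroup.centralizer ({x} : Set G)).subtype).map (QuotientGroup.mk' N) := by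
    refine ⟨(Sylow.ofCard _ hcardP₂).mapSurjective hf, ?_⟩
    rw [Sylow.coe_mapSurjective, Sylow.coe_ofCard]
    rintro _ ⟨_, ⟨u, hu, rfl⟩, rfl⟩
    exact ⟨(u : G), Subgroup.mem_subgroupOf.mp hu, rfl⟩
  obtain ⟨Qb, hQbimg⟩ := hQb
  obtain ⟨gb, hgb, hle, hcard⟩ := exists_of_isDefectGroup hDbar
  have hmm := Cfsg.Agent.Lib.Helper7.minmax hM Bbar hBbar ((QuotientGroup.mk' N) x) gb Qb χb hχb
    hunitb hgb.2.1
  obtain ⟨ybar, hy⟩ := hmm.exists_le Dbar (IsPGroup.of_card hcard) hle
  obtain ⟨g, rfl⟩ := hπs ybar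
  refine ⟨_, isDefectGroup_map_conj hD₀' g, ?_⟩
  intro d hd
  obtain ⟨q, hq, rfl⟩ := hy hd
  obtain ⟨u, hu, rfl⟩ := hQbimg hq
  refine ⟨g * u * g⁻¹, ⟨u, hu, ?_⟩, ?_⟩
  · simp [MulAut.conj_apply]
  · simp [MulAut.conj_apply]

end Cfsg.Agent.S4433
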