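import Mathlib
import Cfsg.Statements.S4434
import Cfsg.Agent.Lib.Helper24.QuotientDefect
import Cfsg.Agent.Lib.Helper24.ConjPairs
import Cfsg.Agent.S4433

set_option autoImplicit false
open Cfsg

namespace Cfsg.Agent.S4434

open Cfsg.Agent.Lib.Helper2 Cfsg.Agent.Lib.Helper24
open scoped ComplexConjugate

/-- Let N be a normal p-subgroup of the finite group G and write Ḡ = G/N; fix a maximal ideal M of the algebraic integers containing p. Then every block B of G contains a block B̄ of Ḡ (the inflation of every member of B̄ lies in B) whose defect groups are exactly the images in Ḡ of the defect groups of B. -/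
theorem result {G : Type*} [Group G] [Finite G] (p : ℕ) [Fact p.Prime] (M : Ideal Cfsg.AlgInt) (hM : Cfsg.IsPModular p M) (N : Subgroup G) [N.Normal] (hN : IsPGroup p N) (B : Set (Cfsg.IrrCharacter G)) (hB : Cfsg.IsPBlock M B) : ∃ Bbar : Set (Cfsg.IrrCharacter (G ⧸ N)), Cfsg.IsPBlock M Bbar ∧ (∀ χ ∈ Bbar, ∀ ψ : Cfsg.IrrCharacter G, (ψ : G → ℂ) = (χ : G ⧸ N → ℂ) ∘ QuotientGroup.mk → ψ ∈ B) ∧ ∀ Dbar : Subgroup (G ⧸ N), Cfsg.IsDefectGroup p M Bbar Dbar ↔ ∃ P : Subgroup G, Cfsg.IsDefectGroup p M B P ∧ Dbar = P.map (QuotientGroup.mk' N) := by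
  classical
  haveI : Fintype G := Fintype.ofFinite G
  haveI : Fintype (G ⧸ N) := Fintype.ofFinite _
  obtain ⟨Bbar, hBbar, hinfl, P, D₁, hP, hD₁, hle⟩ := exists_quotient_block_ge N hM hN B hB
  have hsub : ∀ χ ∈ Bbar, ∀ ψ : Cfsg.IrrCharacter G,
      (ψ : G → ℂ) = (χ : G ⧸ N → ℂ) ∘ QuotientGroup.mk → ψ ∈ B := by
    intro χ hχ ψ hψ
    have : ψ = inflIrr N χ := Subtype.ext hψ
    rw [this]; exact hinfl χ hχ
  obtain ⟨P', hP', hle'⟩ := Cfsg.Agent.S4433.result p M hM N Bbar hBbar B hB hsub D₁ hD₁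
  obtain ⟨g, hg⟩ := isDefectGroup_conj hM B hB hP hP'
  have hmapconj : ∀ (R : Subgroup G) (g : G),
      (R.map (MulAut.conj g).toMonoidHom).map (QuotientGroup.mk' N)
        = (R.map (QuotientGroup.mk' N)).map
          (MulAut.conj ((QuotientGroup.mk' N) g)).toMonoidHom := by
    intro R g
    rw [Subgroup.map_map, Subgroup.map_map]
    congr 1
  have hcard : Nat.card (P'.map (QuotientGroup.mk' N)) = Nat.card (P.map (QuotientGroup.mk' N)) := by
    rw [hg, hmapconj, Subgroup.card_map_of_injective (MulEquiv.injective _)]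
  have hD₁eq : P.map (QuotientGroup.mk' N) = D₁ := by
    apply Subgroup.eq_of_le_of_card_ge hle
    rw [← hcard]
    exact Subgroup.card_le_of_le hle'
  refine ⟨Bbar, hBbar, hsub, ?_⟩
  intro Dbar
  constructor
  · intro hDbar
    obtain ⟨z, hz⟩ := isDefectGroup_conj hM Bbar hBbar hD₁ hDbar
    obtain ⟨w, rfl⟩ := QuotientGroup.mk_surjective z
    refine ⟨P.map (MulAut.conj w).toMonoidHom, isDefectGroup_map_conj hP w, ?_⟩
    rw [hz, ← hD₁eq, hmapconj]
    rfl
  · rintro ⟨P₂, hP₂, rfl⟩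
    obtain ⟨w, hw⟩ := isDefectGroup_conj hM B hB hP hP₂
    rw [hw, hmapconj, hD₁eq]
    exact isDefectGroup_map_conj hD₁ _

end Cfsg.Agent.S4434
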