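import Mathlib
import Cfsg.Statements.S4437
import Cfsg.Agent.Lib.Helper24.SupCentralizer

set_option autoImplicit false
open Cfsg
open Cfsg.Agent.Lib.Helper2 Cfsg.Agent.Lib.Helper7 Cfsg.Agent.Lib.Helper24

namespace Cfsg.Agent.S4437

/-- Let P be a p-subgroup of the finite group G, H = P·C_G(P), and b a block of H (relative to a maximal ideal M of the algebraic integers containing p) having P as a defect group; let B be the block of G induced by b. Let T be the stabilizer of b in N_G(P): the elements g of N_G(P) such that the g-conjugate of every member of b is again a member of b. Then B has defect group P if and only if p does not divide the index of H in T. -/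
theorem result {G : Type*} [Group G] [Fintype G] (p : ℕ) [Fact p.Prime] (M : Ideal Cfsg.AlgInt) (hM : Cfsg.IsPModular p M) (P : Subgroup G) (hP : IsPGroup p P) (H : Subgroup G) [Fintype H] (hH : H = P ⊔ Subgroup.centralizer (P : Set G)) (b : Set (Cfsg.IrrCharacter H)) (hb : Cfsg.IsPBlock M b) (hbP : Cfsg.IsDefectGroup p M b (P.subgroupOf H)) (B : Set (Cfsg.IrrCharacter G)) (hind : Cfsg.IsInducedBlock M H b B) (T : Subgroup G) (hT : ∀ g : G, g ∈ T ↔ (g ∈ Subgroup.normalizer (P : Set G) ∧ ∀ θ ∈ b, ∀ θ' : Cfsg.IrrCharacter H, (∀ h h' : H, (h' : G) = g * h * g⁻¹ → (θ' : H → ℂ) h' = (θ : H → ℂ) h) → θ' ∈ b)) : Cfsg.IsDefectGroup p M B P ↔ ¬ p ∣ H.relIndex T := by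
  classical
  have hPH : P ≤ H := hH ▸ le_sup_left
  have hCH : Subgroup.centralizer (P : Set G) ≤ H := hH ▸ le_sup_right
  have hHle : H ≤ P ⊔ Subgroup.centralizer (P : Set G) := le_of_eq hH
  obtain ⟨e', hmaxH⟩ := exists_isMaximalBrauerPair_of_isDefectGroup (G := H) hM b hb _ hbP
  have hpair := hmaxH.1
  obtain ⟨e, he⟩ : ∃ e, e = irrMap (centH H P hPH hCH) '' e' := ⟨_, rfl⟩
  have hBP : Cfsg.IsBrauerPairOf p M B P e :=
    he ▸ isBrauerPairOf_of_isInducedBlock hM H P hPH hCH b B hind e' hpair
  have hNH : ∀ g ∈ Subgroup.normalizer (P : Set G), g ∈ Subgroup.normalizer (H : Set G) := by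
    intro g hg
    rw [hH]
    exact normalizer_le_normalizer_sup_centralizer P hg
  -- `T` is the stabilizer of `(P, e)`
  have hTeq : T = stabSubgroup P e := by
    ext g
    rw [hT, mem_stabSubgroup]
    constructor
    · rintro ⟨hgN, hg⟩
      refine ⟨hgN, ?_⟩
      rw [he, ← stabilizesBlock_iff_of_le_sup hM H P hPH hCH hHle b e' hpair g hgN]
      have hgH := hNH g hgN
      rw [stabilizesBlock_iff]
      refine ⟨hgH, ?_⟩
      rintro _ ⟨θ, hθ, rfl⟩
      exact hg θ hθ _ (isConjCharOf_conjIrr H ⟨g, hgH⟩ θ)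
    · rintro ⟨hgN, hg⟩
      refine ⟨hgN, ?_⟩
      rw [he, ← stabilizesBlock_iff_of_le_sup hM H P hPH hCH hHle b e' hpair g hgN,
        stabilizesBlock_iff] at hg
      obtain ⟨hgH, hsub⟩ := hg
      intro θ hθ θ' hθ'
      have := eq_conjIrr_of_isConjCharOf H ⟨g, hgH⟩ θ θ' hθ'
      rw [this]
      exact hsub ⟨θ, hθ, rfl⟩
  subst hTeq
  have hHT : H ≤ stabSubgroup P e := by
    rw [hH]
    exact sup_le (le_stabSubgroup P e) (centralizer_le_stabSubgroup P e)
  constructor
  · intro hD
    have hmax := isMaximalBrauerPair_of_isDefectGroup hM B P e hBP hD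
    have hPT : P ≤ stabSubgroup P e := le_stabSubgroup P e
    have hP' : IsPGroup p (P.subgroupOf (stabSubgroup P e)) :=
      hP.comap_of_injective _ (Subgroup.subtype_injective _)
    obtain ⟨S, hS⟩ := hP'.exists_le_sylow
    have hS'p : IsPGroup p ((S : Subgroup (stabSubgroup P e)).map (stabSubgroup P e).subtype) :=
      S.2.map _
    have hPS' : P ≤ (S : Subgroup (stabSubgroup P e)).map (stabSubgroup P e).subtype := by
      intro x hx
      exact ⟨⟨x, hPT hx⟩, hS (Subgroup.mem_subgroupOf.mpr hx), rfl⟩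
    have hS'T : (S : Subgroup (stabSubgroup P e)).map (stabSubgroup P e).subtype
        ≤ stabSubgroup P e := Subgroup.map_subtype_le _
    have hS'H := le_sup_centralizer_of_isMaximalBrauerPair hM B P e hmax _ hS'p hPS' hS'T
    rw [← hH] at hS'H
    have hle : (S : Subgroup (stabSubgroup P e)) ≤ H.subgroupOf (stabSubgroup P e) := by
      intro s hs
      rw [Subgroup.mem_subgroupOf]
      exact hS'H ⟨s, hs, rfl⟩
    have hdvd : (H.subgroupOf (stabSubgroup P e)).index ∣ (S : Subgroup (stabSubgroup P e)).index :=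
      Subgroup.index_dvd_of_le hle
    intro hp
    exact S.not_dvd_index (dvd_trans hp hdvd)
  · intro hndvd
    have hmax : Cfsg.IsMaximalBrauerPair p M B P e := by
      apply isMaximalBrauerPair_of_forall_isNormalSubpair hM B P e hBP
      intro R g hns
      have hRp : IsPGroup p R := hns.2.1.1
      have hPR : P ≤ R := hns.2.2.1
      have hRN : R ≤ Subgroup.normalizer (P : Set G) := hns.2.2.2.1
      have hRT : R ≤ stabSubgroup P e :=
        fun x hx => (mem_stabSubgroup P e x).mpr ⟨hRN hx, hns.2.2.2.2.1 x hx⟩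
      have hRNH : R ≤ Subgroup.normalizer (H : Set G) := fun x hx => hNH x (hRN hx)
      have h1 : H.relIndex (R ⊔ H) = H.relIndex R :=
        Cfsg.Agent.S4682.relIndex_sup_of_le_normalizer R H hRNH
      have h2 : H.relIndex (R ⊔ H) ∣ H.relIndex (stabSubgroup P e) :=
        Dvd.intro _ (Subgroup.relIndex_mul_relIndex H (R ⊔ H) _ le_sup_right (sup_le hRT hHT))
      have h3 : H.relIndex R ∣ Nat.card R := Subgroup.relIndex_dvd_card _ _
      obtain ⟨n, hn⟩ := IsPGroup.iff_card.mp hRp
      rw [hn] at h3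
      obtain ⟨k, _, hk⟩ := (Nat.dvd_prime_pow Fact.out).mp h3
      have hk0 : k = 0 := by
        by_contra hne
        apply hndvd
        rw [h1, hk] at h2
        exact dvd_trans (dvd_pow_self p hne) h2
      rw [hk0, pow_zero] at hk
      have hRH : R ≤ H := Subgroup.relIndex_eq_one.mp hk
      have hCRH : Subgroup.centralizer (R : Set G) ≤ H :=
        (Subgroup.centralizer_le (SetLike.coe_subset_coe.mpr hPR)).trans hCH
      have hg : irrMap (centH H R hRH hCRH) '' (irrMap (centH H R hRH hCRH).symm '' g) = g :=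
        image_irrMap_image_symm _ g
      have hns' : Cfsg.IsNormalSubpair p M P (irrMap (centH H P hPH hCH) '' e') R
          (irrMap (centH H R hRH hCRH) '' (irrMap (centH H R hRH hCRH).symm '' g)) := by
        rw [hg, ← he]
        exact hns
      have hnsH := (isNormalSubpair_centH_iff H P R hPR hRH hCH e' _).mpr hns'
      have := eq_of_isNormalSubpair_of_isMaximalBrauerPair (G := H) hM b _ e' hmaxH _ _ hnsH
      exact eq_of_subgroupOf_eq H R P hRH hPH this
    exact isDefectGroup_of_isMaximalBrauerPair P e hM B hmax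

end Cfsg.Agent.S4437
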