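import Mathlib
import Cfsg.Statements.S4492
import Cfsg.Agent.Lib.Helper24.FongBlock
import Cfsg.Agent.S0629
import Cfsg.Agent.H5.PSolvable2
import Cfsg.Agent.H5.Cores
import Cfsg.Agent.Lib.Helper10.PComponent

set_option autoImplicit false
open Cfsg

namespace Cfsg.Agent.S4492

open Cfsg.Agent.Lib.Helper2 Cfsg.Agent.Lib.Helper24
open scoped ComplexConjugate

/-- Let G be a finite p-solvable group, N = O_{p'}(G) its largest normal subgroup of order prime to p, and θ an irreducible character of N invariant under conjugation by G; fix a maximal ideal M of the algebraic integers containing p. Then the irreducible characters of G lying over θ (those whose restriction to N contains θ) form a single p-block of G, and the defect groups of that block are exactly the Sylow p-subgroups of G. -/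
theorem result {G : Type*} [Group G] [Fintype G] (p : ℕ) [Fact p.Prime] (M : Ideal Cfsg.AlgInt) (hM : Cfsg.IsPModular p M) (hsolv : Cfsg.IsPSolvable p G) (N : Subgroup G) [hN : N.Normal] [Fintype N] (hNdef : N = Cfsg.pPrimeCore p G) (θ : Cfsg.IrrCharacter N) (hinv : ∀ (g : G) (n : N), (θ : N → ℂ) ⟨g * n * g⁻¹, hN.conj_mem n n.2 g⟩ = (θ : N → ℂ) n) : ∃ B : Set (Cfsg.IrrCharacter G), Cfsg.IsPBlock M B ∧ (∀ χ : Cfsg.IrrCharacter G, χ ∈ B ↔ Cfsg.classInner (fun n : N => (χ : G → ℂ) n) (θ : N → ℂ) ≠ 0) ∧ (∀ P : Sylow p G, Cfsg.IsDefectGroup p M B (P : Subgroup G)) ∧ ∀ D : Subgroup G, Cfsg.IsDefectGroup p M B D → ∃ P : Sylow p G, D = (P : Subgroup G) := by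
  classical
  have hp : p.Prime := Fact.out
  subst hNdef
  haveI hLn : (Cfsg.pPrimePCore p G).Normal := Cfsg.Agent.Lib.Helper10.pPrimePCore_normal p
  have hNL : Cfsg.pPrimeCore p G ≤ Cfsg.pPrimePCore p G :=
    Cfsg.Agent.Lib.Helper10.pPrimeCore_le_pPrimePCore p
  have hcop : (Nat.card (Cfsg.pPrimeCore p G)).Coprime p := Cfsg.H5.coprime_card_pPrimeCore p G
  have hp' : ¬ p ∣ Nat.card (Cfsg.pPrimeCore p G) := by
    intro h
    have := Nat.Coprime.eq_one_of_dvd hcop.symm h
    exact hp.one_lt.ne' this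
  -- the index of `N` in `L`
  have hker : (Cfsg.Agent.Lib.Helper10.pPrimePCoreHom p G).ker
      = (Cfsg.pPrimeCore p G).subgroupOf (Cfsg.pPrimePCore p G) := by
    ext x
    rw [MonoidHom.mem_ker, Subgroup.mem_subgroupOf]
    constructor
    · intro h
      have h1 := congrArg Subtype.val h
      rw [Cfsg.Agent.Lib.Helper10.pPrimePCoreHom_apply] at h1
      exact (QuotientGroup.eq_one_iff _).mp h1
    · intro h
      apply Subtype.ext
      rw [Cfsg.Agent.Lib.Helper10.pPrimePCoreHom_apply]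
      exact (QuotientGroup.eq_one_iff _).mpr h
  have hidx0 : ((Cfsg.pPrimeCore p G).subgroupOf (Cfsg.pPrimePCore p G)).index
      = Nat.card (Cfsg.pCore p (G ⧸ Cfsg.pPrimeCore p G)) := by
    rw [← hker, ← MonoidHom.comap_bot,
      Subgroup.index_comap_of_surjective _ (Cfsg.Agent.Lib.Helper10.pPrimePCoreHom_surjective p),
      Subgroup.index_bot]
  obtain ⟨k, hk0⟩ := (Cfsg.H5.pCore_isPGroup p (G ⧸ Cfsg.pPrimeCore p G)).exists_card_eq
  have hk : ((Cfsg.pPrimeCore p G).subgroupOf (Cfsg.pPrimePCore p G)).index = p ^ k := by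
    rw [hidx0, hk0]
  -- the order of `L`
  have hcardL : (Nat.card (Cfsg.pPrimePCore p G)).factorization p = k := by
    have h1 := Subgroup.card_mul_index
      ((Cfsg.pPrimeCore p G).subgroupOf (Cfsg.pPrimePCore p G))
    rw [hk, Nat.card_congr (Subgroup.subgroupOfEquivOfLe hNL).toEquiv] at h1
    rw [← h1, Nat.factorization_mul Nat.card_pos.ne' (pow_ne_zero _ hp.ne_zero),
      Nat.Prime.factorization_pow hp, Finsupp.add_apply,
      Nat.factorization_eq_zero_of_not_dvd hp']
    simp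
  have hHH : ∀ Q : Subgroup G, Q ≤ Cfsg.pPrimePCore p G → Nat.card Q = p ^ k →
      Subgroup.centralizer (Q : Set G) ≤ Cfsg.pPrimePCore p G := by
    intro Q hQL hQcard
    have hc : Nat.card (Q.subgroupOf (Cfsg.pPrimePCore p G))
        = p ^ (Nat.card (Cfsg.pPrimePCore p G)).factorization p := by
      rw [hcardL, Nat.card_congr (Subgroup.subgroupOfEquivOfLe hQL).toEquiv, hQcard]
    have hmap : ((Sylow.ofCard (Q.subgroupOf (Cfsg.pPrimePCore p G)) hc :
        Sylow p (Cfsg.pPrimePCore p G)) : Subgroup (Cfsg.pPrimePCore p G)).map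
        (Cfsg.pPrimePCore p G).subtype = Q := by
      rw [Sylow.coe_ofCard]
      exact Subgroup.map_subgroupOf_eq_of_le hQL
    have := Cfsg.Agent.S0629.key (Sylow.ofCard (Q.subgroupOf (Cfsg.pPrimePCore p G)) hc)
      (Cfsg.H5.isPSolvable_subgroup hsolv _)
    rw [hmap] at this
    exact this
  obtain ⟨B, hB, hmem, hdef⟩ := fong_block (Cfsg.pPrimeCore p G) (Cfsg.pPrimePCore p G) hM hNL hp'
    k hk hHH θ hinv
  refine ⟨B, hB, hmem, ?_, ?_⟩
  · intro P
    obtain ⟨D₀, hD₀⟩ := exists_isDefectGroup hM B hB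
    have hc0 : Nat.card D₀ = p ^ (Nat.card G).factorization p := by
      rw [Cfsg.Agent.Lib.Helper7.card_of_isDefectGroup hM B hB D₀ hD₀, hdef]
    obtain ⟨g, hg⟩ := MulAction.exists_smul_eq G (Sylow.ofCard D₀ hc0) P
    have h1 : (P : Subgroup G) = D₀.map (MulAut.conj g).toMonoidHom := by
      rw [← hg, Sylow.smul_def, Sylow.pointwise_smul_def, Subgroup.pointwise_smul_def]
      rfl
    rw [h1]
    exact isDefectGroup_map_conj hD₀ g
  · intro D hD
    have hc0 : Nat.card D = p ^ (Nat.card G).factorization p := by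
      rw [Cfsg.Agent.Lib.Helper7.card_of_isDefectGroup hM B hB D hD, hdef]
    exact ⟨Sylow.ofCard D hc0, rfl⟩

end Cfsg.Agent.S4492
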