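import Mathlib
import Cfsg.Statements.S4439
import Cfsg.Agent.Lib.Helper24.PSolvHeight
import Cfsg.Agent.Lib.Helper24.KnorrStab
import Cfsg.Agent.Lib.Helper24.ConjPairs
import Cfsg.Agent.Lib.Helper24.FongBlock
import Cfsg.Agent.S4492

set_option autoImplicit false
open Cfsg

namespace Cfsg.Agent.S4439

open Cfsg.Agent.Lib.Helper2 Cfsg.Agent.Lib.Helper7 Cfsg.Agent.Lib.Helper24

universe u

/-- the induction: Fong–Reynolds reduction to the case of an invariant character of `O_{p'}(G)`,
where the block is the set of characters over it and has the Sylow subgroups as defect groups -/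
theorem main (p : ℕ) [Fact p.Prime] (M : Ideal Cfsg.AlgInt) (hM : Cfsg.IsPModular p M) :
    ∀ (n : ℕ) (G : Type u) [Group G] [Fintype G], Nat.card G = n → Cfsg.IsPSolvable p G →
      ∀ (B : Set (Cfsg.IrrCharacter G)), Cfsg.IsPBlock M B → ∀ P : Subgroup G,
      Cfsg.IsDefectGroup p M B P → ∀ χ : Cfsg.IrrCharacter G, χ ∈ B →
      Cfsg.blockHeight p B (χ : G → ℂ) ≤ ((Subgroup.center P).index).factorization p := by
  intro n
  induction n using Nat.strong_induction_on with
  | _ n ih =>
    intro G _ _ hn hsolv B hB P hP χ hχ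
    classical
    have hp : p.Prime := Fact.out
    obtain ⟨K, hK⟩ : ∃ K : Subgroup G, K = Cfsg.pPrimeCore p G := ⟨_, rfl⟩
    haveI hKn : K.Normal := hK ▸ Cfsg.H5.pPrimeCore_normal p G
    haveI : Fintype K := Fintype.ofFinite _
    have hcopK : (Nat.card K).Coprime p := hK ▸ Cfsg.H5.coprime_card_pPrimeCore p G
    have hp' : ¬ p ∣ Nat.card K := by
      intro h
      exact hp.one_lt.ne' (Nat.Coprime.eq_one_of_dvd hcopK.symm h)
    have hχK : Cfsg.IsCharacter K (fun n : K => (χ : G → ℂ) n) :=
      IsCharacter.restrict (IsIrrCharacter.isCharacter χ.2) K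
    obtain ⟨θ, hθ⟩ := exists_constituent_of_isClassFunction (fun n : K => (χ : G → ℂ) n)
      (IsCharacter.isClassFunction hχK) (IsIrrCharacter.apply_one_ne_zero χ.2)
    have hb : Cfsg.IsPBlock M ({θ} : Set (Cfsg.IrrCharacter K)) :=
      ⟨θ, (blockOf_eq_singleton_of_not_dvd hM hp' θ).symm⟩
    obtain ⟨T, hTdef⟩ : ∃ T : Subgroup G, T = stabN K ({θ} : Set (Cfsg.IrrCharacter K)) :=
      ⟨_, rfl⟩
    have hT : IsBlockStab K T {θ} := hTdef ▸ isBlockStab_stabN K {θ}
    have hKT : K ≤ T := hTdef ▸ le_stabN K {θ}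
    haveI : Fintype T := Fintype.ofFinite _
    have hcov : ∃ χ' ∈ B, ∃ θ' ∈ ({θ} : Set (Cfsg.IrrCharacter K)),
        Cfsg.classInner (fun n : K => ((χ' : Cfsg.IrrCharacter G) : G → ℂ) n) (θ' : K → ℂ) ≠ 0 :=
      ⟨χ, hχ, θ, rfl, hθ⟩
    by_cases hTtop : T = ⊤
    · -- the invariant case
      have hinv : ∀ (g : G) (n : K),
          (θ : K → ℂ) ⟨g * n * g⁻¹, hKn.conj_mem n n.2 g⟩ = (θ : K → ℂ) n := by
        intro g n
        have hg : g ∈ T := hTtop ▸ Subgroup.mem_top g
        have h1 := hT.conj_mem hg (Set.mem_singleton θ)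
        rw [Set.mem_singleton_iff] at h1
        have h2 := congrArg (fun ψ : Cfsg.IrrCharacter K => (ψ : K → ℂ) n) h1
        exact h2
      obtain ⟨B₀, hB₀, hmem, -, hsyl⟩ := Cfsg.Agent.S4492.result p M hM hsolv K hK θ hinv
      have hχ0 : χ ∈ B₀ := (hmem χ).mpr hθ
      have hBB : B = B₀ := by
        rw [eq_blockOf_of_mem hM hB hχ, eq_blockOf_of_mem hM hB₀ hχ0]
      obtain ⟨S, rfl⟩ := hsyl P (hBB ▸ hP)
      have h1 := PSolvHeight.factorization_degree_le_index_center p hsolv K hK θ hinv χ hθ S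
      refine le_trans ?_ h1
      unfold Cfsg.blockHeight
      exact Nat.sub_le _ _
    · -- the inertia group is proper: Fong–Reynolds
      have hlt : Nat.card T < n := by
        rw [← hn, ← Subgroup.card_mul_index T]
        have hidx : T.index ≠ 1 := fun h => hTtop (Subgroup.index_eq_one.mp h)
        have hidx0 : T.index ≠ 0 := Subgroup.index_ne_zero_of_finite
        exact lt_mul_of_one_lt_right Nat.card_pos (by omega)
      obtain ⟨B', hB', hcov', hind⟩ := hT.fongReynolds_surjective hM hb hKT B hB hcov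
      obtain ⟨B₁, hB₁, -, -, hmem⟩ := hT.fongReynolds_induce hM hb hKT B' hB' hcov'
      have e₁ : B₁ = B := Cfsg.Agent.S0953.isInducedBlock_unique hM T B' B₁ B hB₁ hind
      rw [e₁] at hmem
      obtain ⟨ψ, hψ, hχψ⟩ := (hmem χ).mp hχ
      obtain ⟨hdef, hht⟩ := hT.fongReynolds_defect_height hM hb hKT B' hB' hcov' B hind
      obtain ⟨χ', hχ', hχ'eq, hheq⟩ := hht ψ hψ
      have hχχ' : χ' = χ := Subtype.ext (hχ'eq.trans hχψ.symm)
      rw [hχχ'] at hheq
      rw [hheq]
      obtain ⟨D, hD⟩ := exists_isDefectGroup hM B' hB'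
      have hD' := hdef D hD
      obtain ⟨x, hx⟩ := isDefectGroup_conj hM B hB hD' hP
      have hIH := ih (Nat.card T) hlt T rfl (Cfsg.H5.isPSolvable_subgroup hsolv T) B' hB' D hD
        ψ hψ
      refine le_trans hIH (le_of_eq ?_)
      subst hx
      have e1 : D ≃* D.map T.subtype :=
        Subgroup.equivMapOfInjective D T.subtype T.subtype_injective
      have e2 : D.map T.subtype ≃* (D.map T.subtype).map (MulAut.conj x).toMonoidHom :=
        Subgroup.equivMapOfInjective _ _ (MulAut.conj x).injective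
      rw [PSolvHeight.index_center_eq_of_mulEquiv (e1.trans e2)]

/-- Let G be a finite p-solvable group and B a p-block of G with defect group P (relative to a maximal ideal M of the algebraic integers containing p). Then the height of every irreducible character in B is at most the exponent of p in the index of the centre of P in P. -/
theorem result {G : Type*} [Group G] [Finite G] (p : ℕ) [Fact p.Prime] (M : Ideal Cfsg.AlgInt) (hM : Cfsg.IsPModular p M) (hsolv : Cfsg.IsPSolvable p G) (B : Set (Cfsg.IrrCharacter G)) (hB : Cfsg.IsPBlock M B) (P : Subgroup G) (hP : Cfsg.IsDefectGroup p M B P) (χ : Cfsg.IrrCharacter G) (hχ : χ ∈ B) : Cfsg.blockHeight p B (χ : G → ℂ) ≤ ((Subgroup.center P).index).factorization p := by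
  haveI : Fintype G := Fintype.ofFinite G
  exact main p M hM (Nat.card G) G rfl hsolv B hB P hP χ hχ

end Cfsg.Agent.S4439
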