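import Cfsg.Statements.S4444
import Cfsg.Agent.Lib.Helper2.GlaubermanPGroup

set_option autoImplicit false
open Cfsg

namespace Cfsg.Agent.S4444

/-- The Glauberman correspondence for a p-group of operators. Inside a finite group Γ let S normalise G with the orders of G and S coprime, S a p-group, and let C = G ⊓ C(S) be the fixed points. Call an irreducible character χ of G S-invariant when χ(s g s⁻¹) = χ(g) for s ∈ S, g ∈ G. Then: (i) for every S-invariant χ there is exactly one irreducible character β of C whose multiplicity [χ_C, β] in the restriction of χ is not divisible by p; (ii) that multiplicity is ≡ 1 or ≡ −1 (mod p); (iii) distinct S-invariant χ give distinct β; (iv) every irreducible character of C arises in this way. So χ ↦ β is a bijection from the S-invariant irreducible characters of G onto the irreducible characters of C. -/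
theorem result {Γ : Type*} [Group Γ] [Fintype Γ] (G S : Subgroup Γ) [Fintype G] (hnorm : ∀ s ∈ S, ∀ g ∈ G, s * g * s⁻¹ ∈ G) (hcop : (Nat.card G).Coprime (Nat.card S)) (p : ℕ) (hp : p.Prime) (hS : IsPGroup p S) (C : Subgroup Γ) [Fintype C] (hC : C = G ⊓ Subgroup.centralizer (S : Set Γ)) (hCG : C ≤ G) : (∀ χ : Cfsg.IrrCharacter G, (∀ s ∈ S, ∀ g g' : G, (g' : Γ) = s * g * s⁻¹ → (χ : G → ℂ) g' = (χ : G → ℂ) g) → ∃! β : Cfsg.IrrCharacter C, ∃ m : ℕ, Cfsg.classInner (fun c : C => (χ : G → ℂ) ⟨c, hCG c.2⟩) (β : C → ℂ) = (m : ℂ) ∧ ¬ p ∣ m) ∧ (∀ χ : Cfsg.IrrCharacter G, (∀ s ∈ S, ∀ g g' : G, (g' : Γ) = s * g * s⁻¹ → (χ : G → ℂ) g' = (χ : G → ℂ) g) → ∀ β : Cfsg.IrrCharacter C, ∀ m : ℕ, Cfsg.classInner (fun c : C => (χ : G → ℂ) ⟨c, hCG c.2⟩) (β : C → ℂ) = (m : ℂ) → ¬ p ∣ m → ((m : ℤ) ≡ 1 [ZMOD p] ∨ (m : ℤ) ≡ -1 [ZMOD p])) ∧ (∀ χ χ' : Cfsg.IrrCharacter G, (∀ s ∈ S, ∀ g g' : G,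 (g' : Γ) = s * g * s⁻¹ → (χ : G → ℂ) g' = (χ : G → ℂ) g) → (∀ s ∈ S, ∀ g g' : G, (g' : Γ) = s * g * s⁻¹ → (χ' : G → ℂ) g' = (χ' : G → ℂ) g) → ∀ β : Cfsg.IrrCharacter C, ∀ m m' : ℕ, Cfsg.classInner (fun c : C => (χ : G → ℂ) ⟨c, hCG c.2⟩) (β : C → ℂ) = (m : ℂ) → ¬ p ∣ m → Cfsg.classInner (fun c : C => (χ' : G → ℂ) ⟨c, hCG c.2⟩) (β : C → ℂ) = (m' : ℂ) → ¬ p ∣ m' → χ = χ') ∧ (∀ β : Cfsg.IrrCharacter C, ∃ χ : Cfsg.IrrCharacter G, (∀ s ∈ S, ∀ g g' : G, (g' : Γ) = s * g * s⁻¹ → (χ : G → ℂ) g' = (χ : G → ℂ) g) ∧ ∃ m : ℕ, Cfsg.classInner (fun c : C => (χ : G → ℂ) ⟨c, hCG c.2⟩) (β : C → ℂ) = (m : ℂ) ∧ ¬ p ∣ m) := by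
  classical
  have hnorm' : S ≤ Subgroup.normalizer (G : Set Γ) := by
    intro s hs
    apply Cfsg.Agent.Lib.Helper2.GlPG.mem_normalizer_of_conj_mem (hnorm s hs)
    intro g hg
    have := hnorm s⁻¹ (S.inv_mem hs) g hg
    rwa [inv_inv] at this
  have H := Cfsg.Agent.Lib.Helper2.GlPG.glP_pgroup hp (Nat.card S) S rfl hS G hnorm' hcop C hC hCG
  have hci : ∀ (χ : Cfsg.IrrCharacter G) (β : Cfsg.IrrCharacter C),
      Cfsg.classInner (fun c : C => (χ : G → ℂ) ⟨c, hCG c.2⟩) (β : C → ℂ)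
        = Cfsg.Agent.Lib.Helper2.GlPG.cinn (Cfsg.Agent.Lib.Helper2.GlPG.res hCG (χ : G → ℂ))
          (β : C → ℂ) := by
    intro χ β
    rw [Cfsg.Agent.Lib.Helper2.GlPG.cinn_eq]
    rfl
  refine ⟨?_, ?_, ?_, ?_⟩
  · intro χ hinv
    obtain ⟨β₀, ε, hε, h⟩ := H.ex χ hinv
    refine ⟨β₀, ?_, ?_⟩
    · obtain ⟨m, hm, hcong⟩ := h β₀
      rw [if_pos rfl] at hcong
      exact ⟨m, (hci χ β₀).trans hm,
        Cfsg.Agent.Lib.Helper2.GlPG.not_dvd_of_modEq_unit hp hε hcong⟩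
    · rintro β ⟨m, hm, hpm⟩
      exact Cfsg.Agent.Lib.Helper2.GlPG.eq_of_not_dvd h ((hci χ β).symm.trans hm) hpm
  · intro χ hinv β m hm hpm
    obtain ⟨β₀, ε, hε, h⟩ := H.ex χ hinv
    have hm' := (hci χ β).symm.trans hm
    have hβ : β = β₀ := Cfsg.Agent.Lib.Helper2.GlPG.eq_of_not_dvd h hm' hpm
    rw [hβ] at hm'
    have hcong := Cfsg.Agent.Lib.Helper2.GlPG.modEq_of_not_dvd h hm'
    rcases hε with rfl | rfl
    · exact Or.inl hcong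
    · exact Or.inr hcong
  · intro χ χ' hinv hinv' β m m' hm hpm hm' hpm'
    exact H.inj χ χ' hinv hinv' β m m' ((hci χ β).symm.trans hm) hpm
      ((hci χ' β).symm.trans hm') hpm'
  · intro β
    obtain ⟨χ, hinv, m, hm, hpm⟩ := H.surj β
    exact ⟨χ, hinv, m, (hci χ β).trans hm, hpm⟩

end Cfsg.Agent.S4444
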