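import Cfsg.Statements.S4445
import Cfsg.Agent.Lib.Helper2.GlaubermanSolvable

set_option autoImplicit false
open Cfsg

namespace Cfsg.Agent.S4445

/-- Inside a finite group Γ let the solvable subgroup S normalise G with the orders of G and S coprime. Then the number of S-invariant irreducible characters of G (χ(s g s⁻¹) = χ(g) for all s ∈ S, g ∈ G) equals the number of conjugacy classes of G mapped to themselves by conjugation by every element of S. -/
theorem result {Γ : Type*} [Group Γ] [Fintype Γ] (G S : Subgroup Γ) [Fintype G] (hnorm : ∀ s ∈ S, ∀ g ∈ G, s * g * s⁻¹ ∈ G) (hcop : (Nat.card G).Coprime (Nat.card S)) (hsolv : Group.IsSolvable S) : Nat.card {χ : Cfsg.IrrCharacter G // (∀ s ∈ S, ∀ g g' : G, (g' : Γ) = s * g * s⁻¹ → (χ : G → ℂ) g' = (χ : G → ℂ) g)} = Nat.card {K : ConjClasses G // ∀ s ∈ S, ∀ g g' : G, (g' : Γ) = s * g * s⁻¹ → ConjClasses.mk g = K → ConjClasses.mk g' = K} := by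
  classical
  have hnorm' : S ≤ Subgroup.normalizer (G : Set Γ) := by
    intro s hs
    apply Cfsg.Agent.Lib.Helper2.GlPG.mem_normalizer_of_conj_mem (hnorm s hs)
    intro g hg
    have := hnorm s⁻¹ (inv_mem hs) g hg
    rwa [inv_inv] at this
  obtain ⟨π, hπ⟩ := Cfsg.Agent.Lib.Helper2.GlSolv.glS_solvable (Nat.card S) S rfl hsolv G hnorm'
    hcop _ rfl
  haveI : Fintype ↥(G ⊓ Subgroup.centralizer (S : Set Γ)) := Fintype.ofFinite _
  rw [Cfsg.Agent.Lib.Helper2.GlSolv.card_inv_classes S G _ hnorm' hcop.symm hsolv rfl,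
    ← Cfsg.Agent.Lib.Helper2.card_irrCharacter]
  exact Cfsg.Agent.Lib.Helper2.GlSolv.card_inv_irr hπ

end Cfsg.Agent.S4445
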