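import Cfsg.Statements.S4446
import Cfsg.Agent.Lib.Helper2.GlaubermanCyclic

set_option autoImplicit false
open Cfsg

namespace Cfsg.Agent.S4446

/-- Let the finite group Γ be generated by a normal subgroup G and a cyclic subgroup S of coprime orders, C = G ⊓ C(S), and let χ be an S-invariant irreducible character of G with canonical extension χ̂ to Γ (the extension whose determinantal order is coprime to the order of S). Then there are exactly one irreducible character β of C and one sign ε such that χ̂(c s) = ε β(c) for every c ∈ C and every generator s of S; this β is a constituent of the restriction of χ to C; distinct S-invariant χ give distinct β; and every irreducible character of C arises in this way. -/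
theorem result {Γ : Type*} [Group Γ] [Fintype Γ] (G S : Subgroup Γ) [Fintype G] (hnorm : ∀ s ∈ S, ∀ g ∈ G, s * g * s⁻¹ ∈ G) (hcop : (Nat.card G).Coprime (Nat.card S)) (htop : G ⊔ S = ⊤) (hcyc : IsCyclic S) (C : Subgroup Γ) [Fintype C] (hC : C = G ⊓ Subgroup.centralizer (S : Set Γ)) (hCG : C ≤ G) : (∀ (χ : Cfsg.IrrCharacter G) (χh : Cfsg.IrrCharacter Γ), (∀ s ∈ S, ∀ g g' : G, (g' : Γ) = s * g * s⁻¹ → (χ : G → ℂ) g' = (χ : G → ℂ) g) → (∀ g : G, (χh : Γ → ℂ) g = (χ : G → ℂ) g) → (Cfsg.detOrder (χh : Γ → ℂ)).Coprime (Nat.card S) → (∃! βε : Cfsg.IrrCharacter C × ℤ, (βε.2 = 1 ∨ βε.2 = -1) ∧ ∀ c : C, ∀ s : Γ, Subgroup.zpowers s = S → (χh : Γ → ℂ) ((c : Γ) * s) = (βε.2 : ℂ) * (βε.1 : C → ℂ) c) ∧ ∀ β : Cfsg.IrrCharacter C, ∀ ε : ℤ, (ε = 1 ∨ ε = -1) → (∀ c : C, ∀ s : Γ, Subgroup.zpowers s = S → (χh : Γ → ℂ) ((c : Γ) * s) = (ε : ℂ) * (β : C → ℂ) c) → Cfsg.classInner (fun c : C => (χ : G →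 ℂ) ⟨c, hCG c.2⟩) (β : C → ℂ) ≠ 0) ∧ (∀ (χ χ' : Cfsg.IrrCharacter G) (χh χh' : Cfsg.IrrCharacter Γ), (∀ s ∈ S, ∀ g g' : G, (g' : Γ) = s * g * s⁻¹ → (χ : G → ℂ) g' = (χ : G → ℂ) g) → (∀ s ∈ S, ∀ g g' : G, (g' : Γ) = s * g * s⁻¹ → (χ' : G → ℂ) g' = (χ' : G → ℂ) g) → (∀ g : G, (χh : Γ → ℂ) g = (χ : G → ℂ) g) → (∀ g : G, (χh' : Γ → ℂ) g = (χ' : G → ℂ) g) → (Cfsg.detOrder (χh : Γ → ℂ)).Coprime (Nat.card S) → (Cfsg.detOrder (χh' : Γ → ℂ)).Coprime (Nat.card S) → ∀ β : Cfsg.IrrCharacter C, ∀ ε ε' : ℤ, (ε = 1 ∨ ε = -1) → (ε' = 1 ∨ ε' = -1) → (∀ c : C, ∀ s : Γ, Subgroup.zpowers s = S → (χh : Γ → ℂ) ((c : Γ) * s) = (ε : ℂ) * (β : C → ℂ) c) → (∀ c : C, ∀ s : Γ, Subgroup.zpowers s = S → (χh' : Γ → ℂ) ((c : Γ) * s) = (ε' : ℂ) * (β : C → ℂ) c) → χ = χ') ∧ (∀ β : Cfsg.IrrCharacter C, ∃ (χ : Cfsg.IrrCharacter G) (χh : Cfsg.IrrCharacter Γ) (ε : ℤ), (∀ s ∈ S, ∀ g g' : G, (g' : Γ) = s * g * s⁻¹ → (χ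 : G → ℂ) g' = (χ : G → ℂ) g) ∧ (∀ g : G, (χh : Γ → ℂ) g = (χ : G → ℂ) g) ∧ (Cfsg.detOrder (χh : Γ → ℂ)).Coprime (Nat.card S) ∧ (ε = 1 ∨ ε = -1) ∧ ∀ c : C, ∀ s : Γ, Subgroup.zpowers s = S → (χh : Γ → ℂ) ((c : Γ) * s) = (ε : ℂ) * (β : C → ℂ) c) := by
  classical
  open Cfsg.Agent.Lib Cfsg.Agent.Lib.Helper2 Cfsg.Agent.Lib.Helper2.GlCyc in
  haveI hGn : G.Normal := normal_of_sup_eq_top G S hnorm htop
  obtain ⟨s₀', hs₀'⟩ := hcyc.exists_generator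
  set s₀ : Γ := (s₀' : Γ) with hs₀
  have hzp : Subgroup.zpowers s₀ = S := by
    ext x
    constructor
    · intro hx
      obtain ⟨i, rfl⟩ := Subgroup.mem_zpowers_iff.1 hx
      exact S.zpow_mem s₀'.2 i
    · intro hx
      obtain ⟨i, hi⟩ := Subgroup.mem_zpowers_iff.1 (hs₀' ⟨x, hx⟩)
      rw [Subgroup.mem_zpowers_iff]
      refine ⟨i, ?_⟩
      have := congrArg Subtype.val hi
      rw [Subgroup.coe_zpow] at this
      exact this
  have hcardS : Nat.card S = orderOf s₀ := by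
    rw [← hzp]
    exact Nat.card_zpowers s₀
  have D : CycData G s₀ := cycData_of_sup_eq_top G s₀ (by rw [hzp]; exact htop)
    (by rw [← hcardS]; exact hcop)
  have hC' : C = Cs G s₀ := by
    rw [hC, ← hzp, centralizer_zpowers]
  subst hC'
  -- values at an arbitrary generator
  have hgenval : ∀ (χh : Γ → ℂ), Cfsg.IsIrrCharacter Γ χh →
      Cfsg.IsIrrCharacter G (fun g : G => χh g) → (Cfsg.detOrder χh).Coprime (orderOf s₀) →
      ∀ (c : Cs G s₀) (s : Γ), Subgroup.zpowers s = S → χh ((c : Γ) * s) = χh ((c : Γ) * s₀) := by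
    intro χh hχh hres hdet c s hs
    obtain ⟨j, hj, rfl⟩ := exists_pow_of_zpowers_eq (hs.trans hzp.symm)
    exact canon_gen_invariant D hχh hres hdet c.2 j hj
  have hresof : ∀ (χ : Cfsg.IrrCharacter G) (χh : Cfsg.IrrCharacter Γ),
      (∀ g : G, (χh : Γ → ℂ) g = (χ : G → ℂ) g) →
      Cfsg.IsIrrCharacter G (fun g : G => (χh : Γ → ℂ) g) := by
    intro χ χh hext
    have : (fun g : G => (χh : Γ → ℂ) g) = (χ : G → ℂ) := funext hext
    rw [this]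
    exact χ.2
  refine ⟨?_, ?_, ?_⟩
  · intro χ χh hinvχ hext hdet
    have hres := hresof χ χh hext
    have hdet' : (Cfsg.detOrder (χh : Γ → ℂ)).Coprime (orderOf s₀) := by
      rw [← hcardS]
      exact hdet
    obtain ⟨β₀, ε₀, hε₀, hval, hne⟩ := exists_beta D χh.2 hres hdet'
    have key : ∀ c : Cs G s₀, ∀ s : Γ, Subgroup.zpowers s = S →
        (χh : Γ → ℂ) ((c : Γ) * s) = (ε₀ : ℂ) * (β₀ : Cs G s₀ → ℂ) c := by
      intro c s hs
      rw [hgenval χh χh.2 hres hdet' c s hs]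
      exact hval c
    have huniq : ∀ (β : Cfsg.IrrCharacter (Cs G s₀)) (ε : ℤ), (ε = 1 ∨ ε = -1) →
        (∀ c : Cs G s₀, ∀ s : Γ, Subgroup.zpowers s = S →
          (χh : Γ → ℂ) ((c : Γ) * s) = (ε : ℂ) * (β : Cs G s₀ → ℂ) c) → β = β₀ ∧ ε = ε₀ := by
      intro β ε hε hy
      have h1 : ∀ c : Cs G s₀, (ε : ℂ) * (β : Cs G s₀ → ℂ) c = (ε₀ : ℂ) * (β₀ : Cs G s₀ → ℂ) c :=
        fun c => (hy c s₀ hzp).symm.trans (hval c)
      obtain ⟨n, hn, hn1⟩ := IsIrrCharacter.apply_one β.2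
      obtain ⟨n₀, hn₀, hn₀1⟩ := IsIrrCharacter.apply_one β₀.2
      have h2 := h1 1
      rw [hn1, hn₀1] at h2
      have h3 : ε * (n : ℤ) = ε₀ * (n₀ : ℤ) := by exact_mod_cast h2
      have hεε : ε = ε₀ := by
        rcases hε with rfl | rfl <;> rcases hε₀ with rfl | rfl <;> first | rfl | (exfalso; omega)
      refine ⟨?_, hεε⟩
      apply Subtype.ext
      funext c
      have h4 := h1 c
      rw [hεε] at h4
      have hε0 : (ε₀ : ℂ) ≠ 0 := by rcases hε₀ with rfl | rfl <;> norm_num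
      exact mul_left_cancel₀ hε0 h4
    have hfun : (fun c : Cs G s₀ => (χ : G → ℂ) ⟨c, hCG c.2⟩)
        = fun c : Cs G s₀ => (χh : Γ → ℂ) (c : Γ) :=
      funext (fun c => (hext ⟨c, hCG c.2⟩).symm)
    refine ⟨⟨(β₀, ε₀), ⟨hε₀, key⟩, ?_⟩, ?_⟩
    · rintro ⟨β, ε⟩ ⟨hε, hy⟩
      obtain ⟨h1, h2⟩ := huniq β ε hε hy
      show (β, ε) = (β₀, ε₀)
      rw [h1, h2]
    · intro β ε hε hy
      obtain ⟨h1, _⟩ := huniq β ε hε hy
      rw [h1, hfun]
      exact hne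
  · intro χ χ' χh χh' _ _ hext hext' _ _ β ε ε' hε hε' h h'
    have h1 := beta_injective D χh.2 χh'.2 β.2 hε hε' (fun c => h c s₀ hzp)
      (fun c => h' c s₀ hzp)
    apply Subtype.ext
    funext g
    rw [← hext g, ← hext' g]
    exact congrFun h1 g
  · intro β
    obtain ⟨χh, ε, hχh, hres, hdet, hε, hval⟩ := exists_chi D β
    refine ⟨⟨fun g : G => χh g, hres⟩, ⟨χh, hχh⟩, ε, ?_, fun g => rfl, ?_, hε, ?_⟩
    · intro s _ g g' hg'
      show χh (g' : Γ) = χh (g : Γ)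
      rw [hg']
      exact Helper25.isClassFunction_of_char (Helper25.isCharacter_of_irr hχh) _ _
    · show (Cfsg.detOrder χh).Coprime (Nat.card S)
      rw [hcardS]
      exact hdet
    · intro c s hs
      show χh ((c : Γ) * s) = _
      rw [hgenval χh hχh hres hdet c s hs]
      exact hval c

end Cfsg.Agent.S4446
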