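import Cfsg.Statements.S4448
import Cfsg.Agent.Lib.Helper2.InvariantOver

set_option autoImplicit false
open Cfsg

namespace Cfsg.Agent.S4448

/-- Inside a finite group Γ let S normalise G and also normalise a normal subgroup N of G, with the order of S coprime to the index of N in G and G/N solvable. Then for every S-invariant irreducible character ϑ of N, the induced character ϑ^G has an S-invariant irreducible constituent. -/
theorem result {Γ : Type*} [Group Γ] [Fintype Γ] (G S N : Subgroup Γ) [Fintype G] [Fintype N] (hnorm : ∀ s ∈ S, ∀ g ∈ G, s * g * s⁻¹ ∈ G) (hNG : N ≤ G) [hNn : (N.subgroupOf G).Normal] (hNS : ∀ s ∈ S, ∀ n ∈ N, s * n * s⁻¹ ∈ N) (hcop : (N.relIndex G).Coprime (Nat.card S)) (hsolv : Group.IsSolvable (G ⧸ N.subgroupOf G)) (θ : Cfsg.IrrCharacter N) (hinv : (∀ s ∈ S, ∀ g g' : N, (g' : Γ) = s * g * s⁻¹ → (θ : N → ℂ) g' = (θ : N → ℂ) g)) : ∃ χ : Cfsg.IrrCharacter G, Cfsg.classInner (fun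 n : N => (χ : G → ℂ) ⟨n, hNG n.2⟩) (θ : N → ℂ) ≠ 0 ∧ (∀ s ∈ S, ∀ g g' : G, (g' : Γ) = s * g * s⁻¹ → (χ : G → ℂ) g' = (χ : G → ℂ) g) := by
  classical
  open Cfsg.Agent.Lib Cfsg.Agent.Lib.Helper2 Cfsg.Agent.Lib.Helper2.GlPG
    Cfsg.Agent.Lib.Helper2.Rel Cfsg.Agent.Lib.Helper2.InvOver in
  have hSG : S ≤ Subgroup.normalizer (G : Set Γ) := le_normalizer_of_conj hnorm
  have hSN : S ≤ Subgroup.normalizer (N : Set Γ) := le_normalizer_of_conj hNS
  have hGN : G ≤ Subgroup.normalizer (N : Set Γ) :=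
    (Subgroup.normal_subgroupOf_iff_le_normalizer hNG).1 hNn
  obtain ⟨χ, hχ, hχS⟩ := exists_inv_over (N.relIndex G) G N S rfl hNG hGN hSG hSN hcop
    ⟨hNn, hsolv⟩ θ hinv
  refine ⟨χ, ?_, hχS⟩
  rw [← cinn_eq]
  exact hχ

end Cfsg.Agent.S4448
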