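import Cfsg.Statements.S4450
import Cfsg.Agent.Lib.Helper24.TripleIso
import Cfsg.Agent.Lib.Helper2.CentralExt

set_option autoImplicit false
open Cfsg

namespace Cfsg.Agent.S4450

open Cfsg.Agent.Lib Cfsg.Agent.Lib.Helper2 Cfsg.Agent.Lib.Helper2.GlPG
  Cfsg.Agent.Lib.Helper2.CentralExt Cfsg.Agent.Lib.Helper24

/-- Let N ≤ G be normal subgroups of the finite group Γ with the index of G in Γ coprime to the index of N in G, and Γ/G or G/N solvable. Then for every irreducible character ϑ of N invariant under conjugation by Γ, the induced character ϑ^G has an irreducible constituent invariant under conjugation by Γ. -/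
theorem result {Γ : Type*} [Group Γ] [Fintype Γ] (G N : Subgroup Γ) [hG : G.Normal] [hN : N.Normal] [Fintype G] [Fintype N] (hNG : N ≤ G) (hcop : (G.index).Coprime (N.relIndex G)) (hsolv : Group.IsSolvable (Γ ⧸ G) ∨ Group.IsSolvable (G ⧸ N.subgroupOf G)) (θ : Cfsg.IrrCharacter N) (hinv : ∀ (x : Γ) (n : N), (θ : N → ℂ) ⟨x * n * x⁻¹, hN.conj_mem n n.2 x⟩ = (θ : N → ℂ) n) : ∃ χ : Cfsg.IrrCharacter G, Cfsg.classInner (fun n : N => (χ : G → ℂ) ⟨n, hNG n.2⟩) (θ : N → ℂ) ≠ 0 ∧ ∀ (x : Γ) (g : G), (χ : G → ℂ) ⟨x * g * x⁻¹, hG.conj_mem g g.2 x⟩ = (χ : G → ℂ) g := by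
  classical
  obtain ⟨d, ρ, hρ, hθρ⟩ := θ.2
  haveI hfin : Finite (hatG N ρ) := finite_hatG N ρ hρ
  haveI : Fintype (hatG N ρ) := Fintype.ofFinite _
  have hinv' : ∀ (g : Γ) (n : N), ρ.character (MulAut.conjNormal g n) = ρ.character n := by
    intro g n
    rw [hθρ]
    have h1 : (MulAut.conjNormal g n : N) = ⟨g * n * g⁻¹, hN.conj_mem n n.2 g⟩ :=
      Subtype.ext (MulAut.conjNormal_apply g n)
    rw [h1]
    exact hinv g n
  have hsurj := proj_surjective N ρ hρ hinv'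
  have hτ : IsCharacter (hatG N ρ) (rep N ρ).character := ⟨d, rep N ρ, rfl⟩
  have hdec : ∀ x : hatG N ρ, proj N ρ x ∈ N → ∃ y ∈ (incl N ρ).range,
      ∃ z ∈ Subgroup.center (hatG N ρ), x = y * z := by
    intro x hx
    obtain ⟨n, z, hz, rfl⟩ := exists_incl_mul_central N ρ hρ x hx
    exact ⟨incl N ρ n, ⟨n, rfl⟩, z, hz, rfl⟩
  have hτθ : ∀ n : N, (rep N ρ).character (incl N ρ n) = (θ : N → ℂ) n := by
    intro n
    rw [← hθρ]
    show LinearMap.trace ℂ _ (rep N ρ (incl N ρ n)) = LinearMap.trace ℂ _ (ρ n)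
    rw [rep_incl]
  obtain ⟨χ, hχθ, hχinv⟩ := TripleIso.triple_main G N hNG hcop hsolv (proj N ρ) hsurj
    (incl N ρ).range (incl N ρ) (fun n => proj_incl N ρ n) (fun y => MonoidHom.mem_range)
    hdec (rep N ρ).character hτ θ hτθ
  refine ⟨χ, ?_, ?_⟩
  · rw [cinn_eq] at hχθ
    exact hχθ
  · intro x g
    exact hχinv x g ⟨x * g * x⁻¹, hG.conj_mem g g.2 x⟩ rfl

end Cfsg.Agent.S4450
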