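import Cfsg.Statements.S4451
import Cfsg.Agent.Lib.Helper2.GlaubermanFrobenius

set_option autoImplicit false
open Cfsg

namespace Cfsg.Agent.S4451

/-- Let the finite group Γ be generated by a normal subgroup G and a cyclic subgroup S of coprime orders such that every non-identity element of S has the same centraliser C = G ⊓ C(S) in G. Let χ be an S-invariant irreducible character of G, χ̂ its canonical extension to Γ (determinantal order coprime to the order of S), and β the irreducible character of C with χ̂(c s) = ε₀ β(c) for c ∈ C and generators s of S (ε₀ = ±1). Then there are a sign ε = ±1, which may differ from ε₀, and a linear character μ of S with μ² = 1, such that: (a) χ̂(c x) = ε β(c) μ(x) for all c ∈ C and all x ∈ S other than 1; (b) the restriction of χ to C equals |S|·ϑ + ε β for some character ϑ of C or ϑ = 0; (c) |S| divides χ(1) − ε β(1). -/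
theorem result {Γ : Type*} [Group Γ] [Fintype Γ] (G S : Subgroup Γ) [Fintype G] (hnorm : ∀ s ∈ S, ∀ g ∈ G, s * g * s⁻¹ ∈ G) (hcop : (Nat.card G).Coprime (Nat.card S)) (htop : G ⊔ S = ⊤) (hcyc : IsCyclic S) (C : Subgroup Γ) [Fintype C] (hC : C = G ⊓ Subgroup.centralizer (S : Set Γ)) (hCG : C ≤ G) (hfpf : ∀ x ∈ S, x ≠ 1 → G ⊓ Subgroup.centralizer ({x} : Set Γ) = C) (χ : Cfsg.IrrCharacter G) (hinv : (∀ s ∈ S, ∀ g g' : G, (g' : Γ) = s * g * s⁻¹ → (χ : G → ℂ) g' = (χ : G → ℂ) g)) (χh : Cfsg.IrrCharacter Γ) (hext : (∀ g : G, (χh : Γ → ℂ) g = (χ : G → ℂ) g)) (hdet : (Cfsg.detOrder (χh : Γ → ℂ)).Coprime (Nat.card S)) (β : Cfsg.IrrCharacter C) (ε₀ : ℤ) (hε₀ : ε₀ = 1 ∨ ε₀ = -1) (hβ : ∀ c : C, ∀ s : Γ, Subgroup.zpowers s = S → (χh : Γ → ℂ) ((c : Γ) * s) = (ε₀ : ℂ) * (β : C → ℂ) c) : ∃ ε : ℤ, (ε = 1 ∨ ε = -1) ∧ (∃ μ : S → ℂ, Cfsg.IsCharacter S μ ∧ μ 1 = 1 ∧ (∀ x : S, μ x * μ x = 1) ∧ ∀ c :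 C, ∀ x : S, x ≠ 1 → (χh : Γ → ℂ) ((c : Γ) * x) = (ε : ℂ) * (β : C → ℂ) c * μ x) ∧ (∃ ϑ : C → ℂ, Cfsg.IsCharacter C ϑ ∧ (fun c : C => (χ : G → ℂ) ⟨c, hCG c.2⟩) = fun c => (Nat.card S : ℂ) * ϑ c + (ε : ℂ) * (β : C → ℂ) c) ∧ (Nat.card S : ℤ) ∣ (Cfsg.charDegree (χ : G → ℂ) : ℤ) - ε * (Cfsg.charDegree (β : C → ℂ) : ℤ) := by
  classical
  open Cfsg.Agent.Lib Cfsg.Agent.Lib.Helper2 Cfsg.Agent.Lib.Helper2.GlCyc
    Cfsg.Agent.Lib.Helper2.GlFrob in
  haveI hGn : G.Normal := normal_of_sup_eq_top G S hnorm htop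
  obtain ⟨s₀, hs₀S, hzp⟩ : ∃ s₀ : Γ, s₀ ∈ S ∧ Subgroup.zpowers s₀ = S := by
    obtain ⟨s₀', hs₀'⟩ := hcyc.exists_generator
    refine ⟨(s₀' : Γ), s₀'.2, ?_⟩
    ext x
    constructor
    · intro hx
      obtain ⟨i, rfl⟩ := Subgroup.mem_zpowers_iff.1 hx
      exact S.zpow_mem s₀'.2 i
    · intro hx
      obtain ⟨i, hi⟩ := Subgroup.mem_zpowers_iff.1 (hs₀' ⟨x, hx⟩)
      rw [Subgroup.mem_zpowers_iff]
      refine ⟨i, ?_⟩
      have := congrArg Subtype.val hi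
      rw [Subgroup.coe_zpow] at this
      exact this
  subst hzp
  have hcardS : Nat.card (Subgroup.zpowers s₀) = orderOf s₀ := Nat.card_zpowers s₀
  have D : CycData G s₀ := cycData_of_sup_eq_top G s₀ htop (by rw [← hcardS]; exact hcop)
  have hC' : C = Cs G s₀ := by
    rw [hC, centralizer_zpowers]
  subst hC'
  have hres : Cfsg.IsIrrCharacter G (fun g : G => (χh : Γ → ℂ) g) := by
    have : (fun g : G => (χh : Γ → ℂ) g) = (χ : G → ℂ) := funext hext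
    rw [this]
    exact χ.2
  have hχC : ∀ c : Cs G s₀, (χ : G → ℂ) ⟨c, hCG c.2⟩ = (χh : Γ → ℂ) (c : Γ) :=
    fun c => (hext ⟨c, hCG c.2⟩).symm
  have hdeg : ∀ (ε : ℤ) (ϑ : Cs G s₀ → ℂ), Cfsg.IsCharacter (Cs G s₀) ϑ →
      ((fun c : Cs G s₀ => (χ : G → ℂ) ⟨c, hCG c.2⟩) = fun c =>
        (Nat.card (Subgroup.zpowers s₀) : ℂ) * ϑ c + (ε : ℂ) * (β : Cs G s₀ → ℂ) c) →
      (Nat.card (Subgroup.zpowers s₀) : ℤ) ∣ (Cfsg.charDegree (χ : G → ℂ) : ℤ) -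
        ε * (Cfsg.charDegree (β : Cs G s₀ → ℂ) : ℤ) := by
    intro ε ϑ hϑ heq
    obtain ⟨kϑ, hkϑ⟩ := IsCharacter.apply_one hϑ
    have h1 : (χ : G → ℂ) ⟨((1 : Cs G s₀) : Γ), hCG (1 : Cs G s₀).2⟩ =
        (Nat.card (Subgroup.zpowers s₀) : ℂ) * ϑ 1 + (ε : ℂ) * (β : Cs G s₀ → ℂ) 1 :=
      congrFun heq 1
    have h2 : (χ : G → ℂ) ⟨((1 : Cs G s₀) : Γ), hCG (1 : Cs G s₀).2⟩ = (χ : G → ℂ) 1 := rfl
    rw [h2, Helper25.char_one_eq_charDegree (Helper25.isCharacter_of_irr χ.2), hkϑ,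
      Helper25.char_one_eq_charDegree (Helper25.isCharacter_of_irr β.2)] at h1
    refine ⟨(kϑ : ℤ), ?_⟩
    have h3 : ((Cfsg.charDegree (χ : G → ℂ) : ℤ) : ℂ) =
        (((Nat.card (Subgroup.zpowers s₀) : ℤ) * (kϑ : ℤ) +
          ε * (Cfsg.charDegree (β : Cs G s₀ → ℂ) : ℤ) : ℤ) : ℂ) := by
      push_cast
      exact h1
    have h4 : (Cfsg.charDegree (χ : G → ℂ) : ℤ) = (Nat.card (Subgroup.zpowers s₀) : ℤ) * (kϑ : ℤ) +
          ε * (Cfsg.charDegree (β : Cs G s₀ → ℂ) : ℤ) := by exact_mod_cast h3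
    rw [h4]
    ring
  rcases Nat.lt_or_ge (orderOf s₀) 2 with hlt | hge
  · -- trivial group of operators
    have ho1 : orderOf s₀ = 1 := by
      have := orderOf_pos s₀
      omega
    have hs1 : s₀ = 1 := orderOf_eq_one_iff.1 ho1
    have hall : ∀ x : Subgroup.zpowers s₀, x = 1 := by
      intro x
      obtain ⟨i, hi⟩ := Subgroup.mem_zpowers_iff.1 x.2
      have hx1 : (x : Γ) = 1 := by rw [← hi, hs1, one_zpow]
      exact Subtype.ext hx1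
    have hϑ0 : Cfsg.IsCharacter (Cs G s₀) (fun _ => (0 : ℂ)) := by
      apply isCharacter_of_classInner_nat _ (fun g h => rfl)
      intro β'
      refine ⟨0, ?_⟩
      rw [classInner_def]
      simp
    have heq0 : (fun c : Cs G s₀ => (χ : G → ℂ) ⟨c, hCG c.2⟩) = fun c =>
        (Nat.card (Subgroup.zpowers s₀) : ℂ) * (fun _ => (0 : ℂ)) c +
          (ε₀ : ℂ) * (β : Cs G s₀ → ℂ) c := by
      funext c
      rw [hχC c, mul_zero, zero_add]
      have := hβ c s₀ rfl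
      have h1 : (c : Γ) * s₀ = (c : Γ) := by
        generalize (c : Γ) = cc
        rw [hs1, mul_one]
      rw [h1] at this
      exact this
    refine ⟨ε₀, hε₀, ⟨fun _ => 1, ?_, rfl, fun x => by rw [mul_one], ?_⟩,
      ⟨fun _ => 0, hϑ0, heq0⟩, hdeg ε₀ _ hϑ0 heq0⟩
    · exact Helper25.isCharacter_of_irr Helper25.isIrrCharacter_one
    · intro c x hx
      exact absurd (hall x) hx
  · obtain ⟨ε, l₀, hε, hsq, hval, hmult⟩ := frobenius_values D hge hfpf χh.2 hres β ε₀ hε₀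
      (fun c => hβ c s₀ rfl)
    have hn0 : (Nat.card (Subgroup.zpowers s₀) : ℂ) ≠ 0 := by
      rw [hcardS]
      have : orderOf s₀ ≠ 0 := by omega
      exact_mod_cast this
    have hcfχ : Cfsg.IsClassFunction (Cs G s₀) (fun c : Cs G s₀ => (χ : G → ℂ) ⟨c, hCG c.2⟩) := by
      intro g h
      exact Helper25.isClassFunction_of_char (Helper25.isCharacter_of_irr χ.2)
        ⟨g, hCG g.2⟩ ⟨h, hCG h.2⟩
    have hcfβ : Cfsg.IsClassFunction (Cs G s₀) (β : Cs G s₀ → ℂ) :=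
      Helper25.isClassFunction_of_char (Helper25.isCharacter_of_irr β.2)
    have hϑdef : (fun c : Cs G s₀ => (Nat.card (Subgroup.zpowers s₀) : ℂ)⁻¹ *
        ((χ : G → ℂ) ⟨c, hCG c.2⟩ - (ε : ℂ) * (β : Cs G s₀ → ℂ) c)) =
        (Nat.card (Subgroup.zpowers s₀) : ℂ)⁻¹ • ((fun c : Cs G s₀ => (χ : G → ℂ) ⟨c, hCG c.2⟩) -
          (ε : ℂ) • (β : Cs G s₀ → ℂ)) := by
      funext c
      rfl
    have hϑ : Cfsg.IsCharacter (Cs G s₀) (fun c : Cs G s₀ =>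
        (Nat.card (Subgroup.zpowers s₀) : ℂ)⁻¹ *
          ((χ : G → ℂ) ⟨c, hCG c.2⟩ - (ε : ℂ) * (β : Cs G s₀ → ℂ) c)) := by
      rw [hϑdef]
      apply isCharacter_of_classInner_nat _
        (isClassFunction_smul _ (isClassFunction_sub hcfχ (isClassFunction_smul _ hcfβ)))
      intro β'
      obtain ⟨k, hk⟩ := hmult β'
      refine ⟨k, ?_⟩
      have hfun : (fun c : Cs G s₀ => (χ : G → ℂ) ⟨c, hCG c.2⟩) =
          fun c : Cs G s₀ => (χh : Γ → ℂ) (c : Γ) := funext hχC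
      rw [classInner_smul_left, classInner_sub_left, classInner_smul_left, hfun, hk,
        Helper25.irr_classInner β.2 β'.2, hcardS]
      by_cases hb : β' = β
      · rw [if_pos hb, if_pos (by rw [hb]), mul_one, add_sub_cancel_right, ← hcardS,
          inv_mul_cancel_left₀ hn0]
      · rw [if_neg hb, if_neg (fun h => hb (Subtype.ext h.symm)), mul_zero, sub_zero, add_zero,
          ← hcardS, inv_mul_cancel_left₀ hn0]
    have heq : (fun c : Cs G s₀ => (χ : G → ℂ) ⟨c, hCG c.2⟩) = fun c =>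
        (Nat.card (Subgroup.zpowers s₀) : ℂ) * ((fun c : Cs G s₀ =>
          (Nat.card (Subgroup.zpowers s₀) : ℂ)⁻¹ *
            ((χ : G → ℂ) ⟨c, hCG c.2⟩ - (ε : ℂ) * (β : Cs G s₀ → ℂ) c)) c) +
          (ε : ℂ) * (β : Cs G s₀ → ℂ) c := by
      funext c
      show _ = (Nat.card (Subgroup.zpowers s₀) : ℂ) * ((Nat.card (Subgroup.zpowers s₀) : ℂ)⁻¹ *
            ((χ : G → ℂ) ⟨c, hCG c.2⟩ - (ε : ℂ) * (β : Cs G s₀ → ℂ) c)) + _
      rw [mul_inv_cancel_left₀ hn0, sub_add_cancel]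
    refine ⟨ε, hε, ⟨fun x => ((l₀ x : ℂˣ) : ℂ), ?_, ?_, hsq, hval⟩, ⟨_, hϑ, heq⟩, hdeg ε _ hϑ heq⟩
    · exact Helper25.isCharacter_of_irr (Helper25.isIrrCharacter_of_hom l₀)
    · show ((l₀ 1 : ℂˣ) : ℂ) = 1
      rw [map_one, Units.val_one]

end Cfsg.Agent.S4451
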