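import Cfsg.Statements.S4459
import Cfsg.Agent.Lib.Helper2.DegPMain

set_option autoImplicit false
open Cfsg

namespace Cfsg.Agent.S4459

/-- Let G be a non-abelian finite group and p a prime. Then the irreducible character degrees of G are exactly 1 and p if and only if either G has an abelian normal subgroup of index p or the centre of G has index p³. -/
theorem result {G : Type*} [Group G] [Finite G] (hG : ∃ a b : G, a * b ≠ b * a) (p : ℕ) (hp : p.Prime) : ((∀ χ : Cfsg.IrrCharacter G, Cfsg.charDegree (χ : G → ℂ) = 1 ∨ Cfsg.charDegree (χ : G → ℂ) = p) ∧ ∃ χ : Cfsg.IrrCharacter G, Cfsg.charDegree (χ : G → ℂ) = p) ↔ ((∃ A : Subgroup G, A.Normal ∧ (∀ a ∈ A, ∀ b ∈ A, a * b = b * a) ∧ A.index = p) ∨ (Subgroup.center G).index = p ^ 3) := by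
  classical
  constructor
  · rintro ⟨hcd, hex⟩
    rcases Cfsg.Agent.Lib.Helper2.TwoDeg.main p hcd hex hp.one_lt.ne' with
      hA | ⟨p', e, hp', hpe, P, A₀, hPn, hA₀n, hPp, hA₀c, hinf, hsup⟩
    · left; exact hA
    · obtain ⟨hpp, -⟩ := (Nat.Prime.pow_eq_iff hp).mp hpe.symm
      rw [hpp] at hPp
      exact Cfsg.Agent.Lib.Helper2.DegP.reduce_direct p hp hcd hG P A₀ hPn hA₀n hPp hA₀c hinf hsup
  · rintro (⟨A, hAn, hAc, hidx⟩ | hZ)
    · haveI := hAn
      have hcd : ∀ χ : Cfsg.IrrCharacter G, Cfsg.charDegree (χ : G → ℂ) = 1 ∨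
          Cfsg.charDegree (χ : G → ℂ) = p := by
        intro χ
        obtain ⟨d, hd, hdvd⟩ := Cfsg.Agent.Lib.Helper2.ito_aux (Nat.card G) G rfl
          (χ : G → ℂ) χ.2 A hAc
        rw [hidx] at hdvd
        rw [Cfsg.Agent.Lib.Helper2.ThompsonDeg.charDegree_eq hd]
        exact (Nat.dvd_prime hp).mp hdvd
      refine ⟨hcd, ?_⟩
      by_contra hcon
      push Not at hcon
      obtain ⟨a, b, hab⟩ := hG
      apply hab
      have hall : ∀ χ : Cfsg.IrrCharacter G, (χ : G → ℂ) 1 = 1 := by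
        intro χ
        rw [Cfsg.Agent.Lib.Helper2.TwoDeg.apply_one_eq_charDegree,
          (hcd χ).resolve_right (hcon χ)]
        simp
      exact Cfsg.Agent.Lib.Helper2.comm_iff_forall_irr_degree_one.mpr hall a b
    · have hZc : ∀ a ∈ Subgroup.center G, ∀ b ∈ Subgroup.center G, a * b = b * a :=
        fun a _ b hb => Subgroup.mem_center_iff.mp hb a
      have hcd : ∀ χ : Cfsg.IrrCharacter G, Cfsg.charDegree (χ : G → ℂ) = 1 ∨
          Cfsg.charDegree (χ : G → ℂ) = p := by
        intro χ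
        obtain ⟨d, hd, hdvd⟩ := Cfsg.Agent.Lib.Helper2.ito_aux (Nat.card G) G rfl
          (χ : G → ℂ) χ.2 (Subgroup.center G) hZc
        have hsq := Cfsg.Agent.Lib.Helper2.DegP.sq_le_index_center χ d hd
        rw [hZ] at hdvd hsq
        rw [Cfsg.Agent.Lib.Helper2.ThompsonDeg.charDegree_eq hd]
        obtain ⟨j, -, hj⟩ := (Nat.dvd_prime_pow hp).mp hdvd
        rw [hj, ← pow_mul] at hsq
        have hj2 : j * 2 ≤ 3 := (Nat.pow_le_pow_iff_right hp.one_lt).mp hsq
        have hj1 : j = 0 ∨ j = 1 := by omega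
        rcases hj1 with rfl | rfl
        · left; rw [hj, pow_zero]
        · right; rw [hj, pow_one]
      refine ⟨hcd, ?_⟩
      by_contra hcon
      push Not at hcon
      obtain ⟨a, b, hab⟩ := hG
      apply hab
      have hall : ∀ χ : Cfsg.IrrCharacter G, (χ : G → ℂ) 1 = 1 := by
        intro χ
        rw [Cfsg.Agent.Lib.Helper2.TwoDeg.apply_one_eq_charDegree,
          (hcd χ).resolve_right (hcon χ)]
        simp
      exact Cfsg.Agent.Lib.Helper2.comm_iff_forall_irr_degree_one.mpr hall a b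

end Cfsg.Agent.S4459
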