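import Mathlib
import Cfsg.Statements.S4464
import Cfsg.Agent.Lib.Helper20.TILattice
import Cfsg.Agent.Lib.Helper25.CharBasic
import Cfsg.Agent.Lib.Helper25.Ortho2
import Cfsg.Agent.Lib.Helper25.Kernel
import Cfsg.Agent.Lib.Helper25.Codegree
import Cfsg.Agent.Lib.Helper2.RelChar
import Cfsg.Agent.Lib.Helper2.Linear
import Cfsg.Agent.Lib.Helper24.FrobSchur

set_option autoImplicit false
set_option linter.style.haveILetI false
open Cfsg
open scoped ComplexConjugate Pointwise

namespace Cfsg.Agent.S4464

open Cfsg.Agent.Lib Cfsg.Agent.Lib.Helper2 Cfsg.Agent.Lib.Helper24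

universe u

/-- for a TI Sylow subgroup `P` and `H ≥ N_G(P)`, a nonprincipal irreducible character of degree
less than `|P|` sums to zero over `H` -/
theorem sum_subgroup_eq_zero {G : Type*} [Group G] [Fintype G] (p : ℕ) [Fact p.Prime]
    (P : Sylow p G)
    (hTI : ∀ g : G, g ∉ Subgroup.normalizer ((P : Subgroup G) : Set G) →
      (P : Subgroup G) ⊓ (MulAut.conj g • (P : Subgroup G)) = ⊥)
    (H : Subgroup G) [Fintype H] (hH : Subgroup.normalizer ((P : Subgroup G) : Set G) ≤ H)
    (χ : Cfsg.IrrCharacter G) (hne : χ ≠ trivIrr G)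
    (hdeg : Cfsg.charDegree (χ : G → ℂ) < Nat.card (P : Subgroup G)) :
    ∑ h : H, (χ : G → ℂ) h = 0 := by
  classical
  obtain ⟨n, ρ, hirr, hρ⟩ := χ.2
  have hn : Cfsg.charDegree (χ : G → ℂ) = n := by rw [← hρ, Helper25.charDegree_rep]
  haveI : Invertible (Nat.card G : ℂ) :=
    invertibleOfNonzero (by exact_mod_cast (Nat.card_pos (α := G)).ne')
  haveI : Invertible (Nat.card H : ℂ) :=
    invertibleOfNonzero (by exact_mod_cast (Nat.card_pos (α := H)).ne')
  have hinvG : Representation.invariants ρ = ⊥ := by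
    have h1 := Representation.card_inv_mul_sum_char_eq_finrank ρ
    have h2 : Cfsg.classInner (χ : G → ℂ) (trivIrr G : G → ℂ) = 0 :=
      classInner_irrCharacter_ne hne
    rw [classInner_def] at h2
    have h3 : ∑ g : G, (χ : G → ℂ) g * conj ((trivIrr G : G → ℂ) g)
        = ∑ g : G, ρ.character g := by
      apply Finset.sum_congr rfl
      intro g _
      rw [trivIrr_apply, map_one, mul_one, hρ]
    rw [h3] at h2
    rw [h2] at h1
    have h4 : Module.finrank ℂ (Representation.invariants ρ) = 0 := by exact_mod_cast h1.symm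
    exact Submodule.finrank_eq_zero.1 h4
  obtain ⟨ρH, hρH⟩ : ∃ ρH : Representation ℂ H (Fin n → ℂ), ∀ h : H, ρH h = ρ (h : G) :=
    ⟨ρ.comp H.subtype, fun h => rfl⟩
  have hinvH : Representation.invariants ρH = ⊥ := by
    rw [eq_bot_iff]
    intro w hw
    rw [Representation.mem_invariants] at hw
    rw [Submodule.mem_bot]
    apply Cfsg.Agent.Lib.Helper20.TILattice.fixed_eq_zero p P hTI H hH ρ w
    · intro h hh
      have := hw ⟨h, hh⟩
      rw [hρH] at this
      exact this
    · have hmem : ∑ g : G, ρ g w ∈ Representation.invariants ρ := by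
        rw [Representation.mem_invariants]
        intro g
        rw [map_sum, ← Equiv.sum_comp (Equiv.mulLeft g) (fun g' => ρ g' w)]
        apply Finset.sum_congr rfl
        intro g' _
        rw [Equiv.coe_mulLeft, map_mul]
        rfl
      rw [hinvG] at hmem
      exact (Submodule.mem_bot ℂ).1 hmem
    · have h1 := Submodule.finrank_le (Submodule.span ℂ (Set.range fun g : G => ρ g w))
      rw [Module.finrank_fin_fun] at h1
      omega
  have h1 := Representation.card_inv_mul_sum_char_eq_finrank ρH
  rw [hinvH, finrank_bot] at h1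
  have hH0 : (Nat.card H : ℂ)⁻¹ ≠ 0 :=
    inv_ne_zero (by exact_mod_cast (Nat.card_pos (α := H)).ne')
  have h2 : ∑ h : H, ρH.character h = 0 := by
    rcases mul_eq_zero.1 (by exact_mod_cast h1) with h | h
    · exact absurd h hH0
    · exact h
  rw [← h2]
  apply Finset.sum_congr rfl
  intro h _
  rw [← hρ]
  unfold Representation.character
  rw [hρH]

/-- a normal `p`-subgroup of index prime to `p` contains every `p`-subgroup -/
theorem le_of_normal_sylow {G : Type*} [Group G] [Finite G] {p : ℕ} [Fact p.Prime]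
    {S : Subgroup G} (hSn : S.Normal) (hS : IsPGroup p S) (hidx : ¬ p ∣ S.index)
    {Q : Subgroup G} (hQ : IsPGroup p Q) : Q ≤ S := by
  obtain ⟨P', hP'⟩ := hQ.exists_le_sylow
  have hSy : ((hS.toSylow hidx : Sylow p G) : Subgroup G) = S := rfl
  haveI : ((hS.toSylow hidx : Sylow p G) : Subgroup G).Normal := by rw [hSy]; exact hSn
  haveI := Sylow.unique_of_normal (hS.toSylow hidx) (by rw [hSy]; exact hSn)
  have : P' = hS.toSylow hidx := Subsingleton.elim _ _
  rw [this] at hP'
  exact hP'

theorem degree_lt_subgroup {G : Type*} [Group G] [Finite G] (p : ℕ)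
    (hb : ∀ χ : Cfsg.IrrCharacter G, Cfsg.charDegree (χ : G → ℂ) < p) (H : Subgroup G)
    (ψ : Cfsg.IrrCharacter H) : Cfsg.charDegree (ψ : H → ℂ) < p := by
  classical
  haveI : Fintype G := Fintype.ofFinite G
  haveI : Fintype H := Fintype.ofFinite _
  obtain ⟨χ, hχ⟩ := Rel.exists_irr_over' H ψ
  have hres : Cfsg.IsCharacter H (fun h : H => (χ : G → ℂ) h) :=
    IsCharacter.comp (Helper25.isCharacter_of_irr χ.2) H.subtype
  obtain ⟨Ψ, hΨ, heq⟩ := exists_add_of_classInner_ne_zero hres ψ hχ
  have h1 := congrFun heq 1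
  have e1 := Helper25.char_one_eq_charDegree (Helper25.isCharacter_of_irr χ.2)
  have e2 := Helper25.char_one_eq_charDegree (Helper25.isCharacter_of_irr ψ.2)
  have e3 := Helper25.char_one_eq_charDegree hΨ
  rw [Pi.add_apply, e2, e3] at h1
  have h2 : (χ : G → ℂ) ((1 : H) : G) = (Cfsg.charDegree (χ : G → ℂ) : ℂ) := by
    rw [Subgroup.coe_one, e1]
  have h3 : ((Cfsg.charDegree (χ : G → ℂ) : ℕ) : ℂ)
      = ((Cfsg.charDegree (ψ : H → ℂ) + Cfsg.charDegree Ψ : ℕ) : ℂ) := by
    rw [← h2]
    push_cast
    exact h1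
  have h4 : Cfsg.charDegree (χ : G → ℂ) = Cfsg.charDegree (ψ : H → ℂ) + Cfsg.charDegree Ψ := by
    exact_mod_cast h3
  have := hb χ
  omega

theorem degree_lt_quotient {G : Type u} [Group G] [Finite G] (p : ℕ)
    (hb : ∀ χ : Cfsg.IrrCharacter G, Cfsg.charDegree (χ : G → ℂ) < p) (D : Subgroup G)
    [D.Normal] (ψ : Cfsg.IrrCharacter (G ⧸ D)) : Cfsg.charDegree (ψ : G ⧸ D → ℂ) < p := by
  have hirr := Helper25.isIrrCharacter_inflation D ψ.2
  have h1 := hb ⟨_, hirr⟩
  have e1 := Helper25.char_one_eq_charDegree (Helper25.isCharacter_of_irr hirr)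
  have e2 := Helper25.char_one_eq_charDegree (Helper25.isCharacter_of_irr ψ.2)
  have e3 : ((Cfsg.charDegree (fun g : G => (ψ : G ⧸ D → ℂ) (g : G ⧸ D)) : ℕ) : ℂ)
      = ((Cfsg.charDegree (ψ : G ⧸ D → ℂ) : ℕ) : ℂ) := by
    rw [← e1, ← e2]
    rfl
  have e4 : Cfsg.charDegree (fun g : G => (ψ : G ⧸ D → ℂ) (g : G ⧸ D))
      = Cfsg.charDegree (ψ : G ⧸ D → ℂ) := by exact_mod_cast e3
  rw [← e4]
  exact h1

theorem main (p : ℕ) (hp : p.Prime) : ∀ (n : ℕ) (G : Type u) [Group G] [Finite G],
    Nat.card G = n → (∀ χ : Cfsg.IrrCharacter G, Cfsg.charDegree (χ : G → ℂ) < p) →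
    ∃ P : Subgroup G, P.Normal ∧ (∀ x ∈ P, ∀ y ∈ P, x * y = y * x) ∧ IsPGroup p P ∧
      ¬ p ∣ P.index := by
  intro n
  induction n using Nat.strong_induction_on with
  | _ n ih =>
  intro G _ _ hn hb
  haveI : Fact p.Prime := ⟨hp⟩
  classical
  haveI : Fintype G := Fintype.ofFinite G
  obtain ⟨P⟩ : Nonempty (Sylow p G) := inferInstance
  -- P is abelian
  have hPab' : ∀ a b : (P : Subgroup G), a * b = b * a := by
    rw [comm_iff_forall_irr_degree_one]
    intro ψ
    have h1 := degree_lt_subgroup p hb (P : Subgroup G) ψ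
    have h2 := Helper25.charDegree_dvd_card ψ.2
    obtain ⟨k, hk⟩ := IsPGroup.iff_card.1 P.isPGroup'
    rw [hk] at h2
    obtain ⟨j, -, hj⟩ := (Nat.dvd_prime_pow hp).1 h2
    have hj0 : j = 0 := by
      by_contra hne
      have : p ≤ p ^ j := Nat.le_self_pow hne p
      omega
    rw [Helper25.char_one_eq_charDegree (Helper25.isCharacter_of_irr ψ.2), hj, hj0, pow_zero]
    simp
  have hPab : ∀ x ∈ (P : Subgroup G), ∀ y ∈ (P : Subgroup G), x * y = y * x := by
    intro x hx y hy
    exact congrArg Subtype.val (hPab' ⟨x, hx⟩ ⟨y, hy⟩)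
  by_cases hnorm : (P : Subgroup G).Normal
  · exact ⟨P, hnorm, hPab, P.isPGroup', P.not_dvd_index⟩
  · exfalso
    by_cases hTI : ∀ g : G, g ∉ Subgroup.normalizer ((P : Subgroup G) : Set G) →
        (P : Subgroup G) ⊓ (MulAut.conj g • (P : Subgroup G)) = ⊥
    · -- TI case
      haveI : Fintype (Cfsg.IrrCharacter G) := Fintype.ofFinite _
      have hPne : (P : Subgroup G) ≠ ⊥ := by
        intro h
        apply hnorm
        rw [h]
        infer_instance
      have hPcard : p ≤ Nat.card (P : Subgroup G) := by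
        obtain ⟨k, hk⟩ := IsPGroup.iff_card.1 P.isPGroup'
        rw [hk]
        have hk0 : k ≠ 0 := by
          rintro rfl
          rw [pow_zero] at hk
          exact hPne ((P : Subgroup G).card_eq_one.1 hk)
        exact Nat.le_self_pow hk0 p
      haveI : Fintype (Subgroup.normalizer ((P : Subgroup G) : Set G)) := Fintype.ofFinite _
      have hK : ∀ χ : Cfsg.IrrCharacter G, χ ≠ trivIrr G →
          ∑ h : Subgroup.normalizer ((P : Subgroup G) : Set G), (χ : G → ℂ) h = 0 := by
        intro χ hχ
        exact sum_subgroup_eq_zero p P hTI _ le_rfl χ hχ (lt_of_lt_of_le (hb χ) hPcard)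
      have hsum : ∑ h : Subgroup.normalizer ((P : Subgroup G) : Set G),
          ∑ χ : Cfsg.IrrCharacter G, (χ : G → ℂ) 1 * (χ : G → ℂ) h = (Nat.card G : ℂ) := by
        rw [← Finset.add_sum_erase _ _ (Finset.mem_univ (1 : Subgroup.normalizer
          ((P : Subgroup G) : Set G)))]
        have h1 : ∀ h ∈ (Finset.univ : Finset (Subgroup.normalizer
            ((P : Subgroup G) : Set G))).erase 1,
            ∑ χ : Cfsg.IrrCharacter G, (χ : G → ℂ) 1 * (χ : G → ℂ) h = 0 := by
          intro h hh
          apply Helper25.sum_degree_mul_char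
          intro h1
          exact (Finset.mem_erase.1 hh).1 (Subtype.ext h1)
        rw [Finset.sum_eq_zero h1, add_zero]
        exact Helper25.sum_degree_sq
      rw [Finset.sum_comm] at hsum
      have hterm : ∀ χ ∈ (Finset.univ : Finset (Cfsg.IrrCharacter G)).erase (trivIrr G),
          ∑ h : Subgroup.normalizer ((P : Subgroup G) : Set G),
            (χ : G → ℂ) 1 * (χ : G → ℂ) h = 0 := by
        intro χ hχ
        rw [← Finset.mul_sum, hK χ (Finset.mem_erase.1 hχ).1, mul_zero]
      rw [← Finset.add_sum_erase _ _ (Finset.mem_univ (trivIrr G)), Finset.sum_eq_zero hterm,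
        add_zero] at hsum
      simp only [trivIrr_apply, mul_one, Finset.sum_const, Finset.card_univ, nsmul_eq_mul] at hsum
      have hcard : Nat.card (Subgroup.normalizer ((P : Subgroup G) : Set G)) = Nat.card G := by
        rw [Nat.card_eq_fintype_card (α := Subgroup.normalizer ((P : Subgroup G) : Set G))]
        exact_mod_cast hsum
      apply hnorm
      rw [← Subgroup.normalizer_eq_top_iff]
      exact (Subgroup.card_eq_iff_eq_top _).1 hcard
    · push Not at hTI
      obtain ⟨g, hg, hD⟩ := hTI
      obtain ⟨Q, hQdef⟩ : ∃ Q : Sylow p G, Q = g • P := ⟨_, rfl⟩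
      have hQcoe : (Q : Subgroup G) = MulAut.conj g • (P : Subgroup G) := by
        rw [hQdef]
        rfl
      rw [← hQcoe] at hD
      have hPQ : Q ≠ P := by
        intro h
        apply hg
        exact Sylow.smul_eq_iff_mem_normalizer.1 (by rw [← hQdef, h])
      have hQab : ∀ x ∈ (Q : Subgroup G), ∀ y ∈ (Q : Subgroup G), x * y = y * x := by
        intro x hx y hy
        rw [hQcoe, Subgroup.mem_pointwise_smul_iff_inv_smul_mem] at hx hy
        have := hPab _ hx _ hy
        simp only [MulAut.smul_def, MulAut.inv_apply, MulAut.conj_symm_apply] at this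
        have h2 : g * (g⁻¹ * x * g * (g⁻¹ * y * g)) * g⁻¹
            = g * (g⁻¹ * y * g * (g⁻¹ * x * g)) * g⁻¹ := by rw [this]
        calc x * y = g * (g⁻¹ * x * g * (g⁻¹ * y * g)) * g⁻¹ := by group
          _ = g * (g⁻¹ * y * g * (g⁻¹ * x * g)) * g⁻¹ := h2
          _ = y * x := by group
      obtain ⟨D, hDdef⟩ : ∃ D : Subgroup G, D = (P : Subgroup G) ⊓ (Q : Subgroup G) := ⟨_, rfl⟩
      rw [← hDdef] at hD
      have hDP : D ≤ (P : Subgroup G) := by rw [hDdef]; exact inf_le_left
      have hDQ : D ≤ (Q : Subgroup G) := by rw [hDdef]; exact inf_le_right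
      have hPL : (P : Subgroup G) ≤ Subgroup.normalizer (D : Set G) := by
        intro x hx
        rw [Subgroup.mem_normalizer_iff]
        intro d
        constructor
        · intro hd
          have : x * d * x⁻¹ = d := by
            rw [hPab x hx d (hDP hd), mul_inv_cancel_right]
          rw [this]; exact hd
        · intro hd
          have h1 : x * d * x⁻¹ ∈ (P : Subgroup G) := hDP hd
          have h2 : d ∈ (P : Subgroup G) := by
            have := (P : Subgroup G).mul_mem ((P : Subgroup G).mul_mem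
              ((P : Subgroup G).inv_mem hx) h1) hx
            have e : x⁻¹ * (x * d * x⁻¹) * x = d := by group
            rwa [e] at this
          have : x * d * x⁻¹ = d := by
            rw [hPab x hx d h2, mul_inv_cancel_right]
          rwa [this] at hd
      have hQL : (Q : Subgroup G) ≤ Subgroup.normalizer (D : Set G) := by
        intro x hx
        rw [Subgroup.mem_normalizer_iff]
        intro d
        constructor
        · intro hd
          have : x * d * x⁻¹ = d := by
            rw [hQab x hx d (hDQ hd), mul_inv_cancel_right]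
          rw [this]; exact hd
        · intro hd
          have h1 : x * d * x⁻¹ ∈ (Q : Subgroup G) := hDQ hd
          have h2 : d ∈ (Q : Subgroup G) := by
            have := (Q : Subgroup G).mul_mem ((Q : Subgroup G).mul_mem
              ((Q : Subgroup G).inv_mem hx) h1) hx
            have e : x⁻¹ * (x * d * x⁻¹) * x = d := by group
            rwa [e] at this
          have : x * d * x⁻¹ = d := by
            rw [hQab x hx d h2, mul_inv_cancel_right]
          rwa [this] at hd
      by_cases hL : Subgroup.normalizer (D : Set G) = ⊤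
      · -- D is normal: pass to the quotient
        haveI hDn : D.Normal := Subgroup.normalizer_eq_top_iff.1 hL
        have hlt : Nat.card (G ⧸ D) < n := by
          rw [← hn, ← Subgroup.index_eq_card, ← Subgroup.index_mul_card D]
          have h1 : 1 < Nat.card D := by
            rw [Nat.one_lt_iff_ne_zero_and_ne_one]
            exact ⟨Nat.card_pos.ne', fun h => hD (D.card_eq_one.1 h)⟩
          have h2 : 0 < D.index := Nat.pos_of_ne_zero (Subgroup.index_ne_zero_of_finite)
          nlinarith
        obtain ⟨Sb, hSbn, -, hSbp, hSbi⟩ := ih _ hlt (G ⧸ D) rfl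
          (degree_lt_quotient p hb D)
        obtain ⟨S, hSdef⟩ : ∃ S : Subgroup G, S = Sb.comap (QuotientGroup.mk' D) := ⟨_, rfl⟩
        have hSn : S.Normal := by rw [hSdef]; exact hSbn.comap _
        have hSp : IsPGroup p S := by
          rw [hSdef]
          apply hSbp.comap_of_ker_isPGroup
          rw [QuotientGroup.ker_mk']
          exact P.isPGroup'.to_le hDP
        have hSi : ¬ p ∣ S.index := by
          rw [hSdef, Subgroup.index_comap_of_surjective _ (QuotientGroup.mk'_surjective D)]
          exact hSbi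
        have hPS : (P : Subgroup G) ≤ S := le_of_normal_sylow hSn hSp hSi P.isPGroup'
        have hSP : S = (P : Subgroup G) := P.is_maximal' hSp hPS
        apply hnorm
        rw [← hSP]
        exact hSn
      · -- the normalizer of D is proper
        obtain ⟨L, hLdef⟩ : ∃ L : Subgroup G, L = Subgroup.normalizer (D : Set G) := ⟨_, rfl⟩
        rw [← hLdef] at hL hPL hQL
        have hlt : Nat.card L < n := by
          rw [← hn]
          exact lt_of_le_of_ne (Subgroup.card_le_card_group L)
            (fun h => hL ((Subgroup.card_eq_iff_eq_top _).1 h))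
        obtain ⟨S, hSn, -, hSp, hSi⟩ := ih _ hlt L rfl (degree_lt_subgroup p hb L)
        have hP' : (P : Subgroup G).subgroupOf L ≤ S :=
          le_of_normal_sylow hSn hSp hSi P.isPGroup'.comap_subtype
        have hQ' : (Q : Subgroup G).subgroupOf L ≤ S :=
          le_of_normal_sylow hSn hSp hSi Q.isPGroup'.comap_subtype
        have hS'p : IsPGroup p (S.map L.subtype) := hSp.map _
        have hPS : (P : Subgroup G) ≤ S.map L.subtype := by
          intro x hx
          exact ⟨⟨x, hPL hx⟩, hP' (Subgroup.mem_subgroupOf.2 hx), rfl⟩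
        have hQS : (Q : Subgroup G) ≤ S.map L.subtype := by
          intro x hx
          exact ⟨⟨x, hQL hx⟩, hQ' (Subgroup.mem_subgroupOf.2 hx), rfl⟩
        have e1 : S.map L.subtype = P := P.is_maximal' hS'p hPS
        have e2 : S.map L.subtype = Q := Q.is_maximal' hS'p hQS
        exact hPQ (Sylow.ext (e2.symm.trans e1))

/-- If every irreducible character degree of G is less than the prime p, then G has a normal abelian Sylow p-subgroup. -/
theorem result {G : Type*} [Group G] [Finite G] (p : ℕ) (hp : p.Prime) (hb : ∀ χ : Cfsg.IrrCharacter G, Cfsg.charDegree (χ : G → ℂ) < p) : ∃ P : Subgroup G, P.Normal ∧ (∀ x ∈ P, ∀ y ∈ P, x * y = y * x) ∧ IsPGroup p P ∧ ¬ p ∣ P.index :=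
  main p hp _ G rfl hb

end Cfsg.Agent.S4464
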