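import Cfsg.Statements.S4467
import Cfsg.Agent.Lib.Helper24.WinterImprim
import Cfsg.Agent.Lib.Helper24.WinterQPMain

set_option autoImplicit false
open Cfsg

namespace Cfsg.Agent.S4467

open Cfsg.Agent.Lib.Helper24.Winter

universe u

/-- Winter's theorem, by induction on the group order -/
theorem winter_aux (p : ℕ) (hp : p.Prime) : ∀ (N : ℕ) (G : Type u) [Group G] [Finite G],
    Nat.card G = N → Group.IsSolvable G →
    ∀ χ : Cfsg.IrrCharacter G, (∀ g : G, (χ : G → ℂ) g = (χ : G → ℂ) 1 → g = 1) →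
    ∀ P : Sylow p G, ¬ (P : Subgroup G).Normal → Good p (Cfsg.charDegree (χ : G → ℂ)) := by
  intro N
  induction N using Nat.strong_induction_on with
  | _ N ih =>
    intro G _ _ hN hsolv χ hfaith P hP
    classical
    haveI : Fintype G := Fintype.ofFinite G
    have IH : WinterIH.{u} p (Nat.card G) := by
      intro G' _ _ hlt hs χ' hf' P' hP'
      exact ih (Nat.card G') (hN ▸ hlt) G' rfl hs χ' hf' P' hP'
    by_cases h : ∃ (M : Subgroup G) (_ : M.Normal) (_ : Fintype M) (θ : Cfsg.IrrCharacter M),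
        Cfsg.classInner (fun m : M => (χ : G → ℂ) m) (θ : M → ℂ) ≠ 0 ∧ stab M θ ≠ ⊤
    · obtain ⟨M, hM, hF, θ, hθ, hT⟩ := h
      exact good_of_stab_ne_top hsolv hp χ hfaith P hP M θ hθ hT IH
    · push Not at h
      exact good_of_qp hsolv hp χ hfaith P hP (fun M hM hF θ hθ => h M hM hF θ hθ)

/-- Let the finite solvable group G have a faithful irreducible character of degree n, and suppose that for the prime p a Sylow p-subgroup of G is not normal. Then n is divisible by a prime power q > 1 with q congruent to −1, 0 or 1 modulo p. -/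
theorem result {G : Type*} [Group G] [Finite G] (χ : Cfsg.IrrCharacter G) (hfaith : ∀ g : G, (χ : G → ℂ) g = (χ : G → ℂ) 1 → g = 1) (n : ℕ) (hn : Cfsg.charDegree (χ : G → ℂ) = n) (hsolv : Group.IsSolvable G) (p : ℕ) (hp : p.Prime) (P : Sylow p G) (hP : ¬ (P : Subgroup G).Normal) : ∃ q : ℕ, IsPrimePow q ∧ q ∣ n ∧ ((q : ℤ) ≡ -1 [ZMOD p] ∨ (q : ℤ) ≡ 0 [ZMOD p] ∨ (q : ℤ) ≡ 1 [ZMOD p]) := by
  have h := winter_aux p hp (Nat.card G) G rfl hsolv χ hfaith P hP
  rw [hn] at h
  exact h

end Cfsg.Agent.S4467
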