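import Cfsg.Statements.S4468
import Cfsg.Agent.Lib.Helper23.HHGroup
import Cfsg.Agent.Lib.Helper23.HHPSolv
import Cfsg.Agent.Lib.Helper23.BlichComm
import Cfsg.Agent.Lib.Helper2.CharBasic

set_option autoImplicit false
open Cfsg

namespace Cfsg.Agent.S4468

/-- Let the finite p-solvable group G have a faithful character χ of degree n ≤ p − 1 and suppose that a Sylow p-subgroup of G is not normal. Then n = p − 1, n is a power of 2, and χ is irreducible. -/
theorem result {G : Type*} [Group G] [Finite G] (χ : G → ℂ) (hχ : Cfsg.IsCharacter G χ) (hfaith : ∀ g : G, χ g = χ 1 → g = 1) (n : ℕ) (hn : Cfsg.charDegree χ = n) (p : ℕ) (hp : p.Prime) (hsolv : Cfsg.IsPSolvable p G) (hnp : n + 1 ≤ p) (P : Sylow p G) (hP : ¬ (P : Subgroup G).Normal) : n + 1 = p ∧ (∃ k : ℕ, n = 2 ^ k) ∧ Cfsg.IsIrrCharacter G χ := by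
  obtain ⟨m, ρ, rfl⟩ := hχ
  have hm : n = m := by
    rw [← hn]
    unfold Cfsg.charDegree
    rw [Representation.char_one, Module.finrank_fin_fun, Complex.natCast_re, Nat.floor_natCast]
  subst hm
  have hinj : Function.Injective ρ := by
    intro g h hgh
    have h1 : ρ (g⁻¹ * h) = 1 := by
      rw [map_mul, ← hgh, ← map_mul, inv_mul_cancel, map_one]
    have h2 : g⁻¹ * h = 1 := by
      apply hfaith
      unfold Representation.character
      rw [h1, map_one ρ]
    exact inv_mul_eq_one.mp h2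
  haveI : Fact p.Prime := ⟨hp⟩
  have hfin : Module.finrank ℂ (Fin n → ℂ) = n := Module.finrank_fin_fun ℂ
  have hab : ∀ a ∈ (P : Subgroup G), ∀ b ∈ (P : Subgroup G), a * b = b * a := by
    intro a ha b hb
    obtain ⟨ρP, hρPdef⟩ : ∃ ρP : Representation ℂ (P : Subgroup G) (Fin n → ℂ),
        ρP = MonoidHom.comp ρ (P : Subgroup G).subtype := ⟨_, rfl⟩
    have hρP : Function.Injective ρP := by
      rw [hρPdef, MonoidHom.coe_comp]
      exact hinj.comp (P : Subgroup G).subtype_injective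
    have hq : ∀ q : ℕ, q.Prime → q ∣ Nat.card (P : Subgroup G) →
        Module.finrank ℂ (Fin n → ℂ) < q := by
      intro q hq hqd
      obtain ⟨k, hk⟩ := IsPGroup.iff_card.mp P.isPGroup'
      rw [hk] at hqd
      have h1 := (Nat.prime_dvd_prime_iff_eq hq hp).mp (hq.dvd_of_dvd_pow hqd)
      rw [hfin, h1]
      omega
    have h1 := Cfsg.Agent.Lib.Helper23.Blich.comm_of_forall_prime_gt ρP hρP hq ⟨a, ha⟩ ⟨b, hb⟩
    exact congrArg Subtype.val h1
  obtain ⟨y, hy, x, hx, hyx⟩ :=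
    Cfsg.Agent.Lib.Helper23.HH.exists_not_commute_pPrimeCore hsolv P hab hP
  obtain ⟨a, hya⟩ : ∃ a : ℕ, y ^ (p ^ a) = 1 := by
    obtain ⟨a, ha⟩ := P.isPGroup' ⟨y, hy⟩
    refine ⟨a, ?_⟩
    have h1 := congrArg Subtype.val ha
    simpa using h1
  have hXcop : ¬ p ∣ Nat.card (pPrimeCore p G) := by
    have h1 := Cfsg.H5.coprime_card_pPrimeCore p G
    exact (Nat.Prime.coprime_iff_not_dvd hp).mp h1.symm
  have hXn : (pPrimeCore p G).Normal := inferInstance
  obtain ⟨h1, h2, h3⟩ := Cfsg.Agent.Lib.Helper23.HH.hh_lite ρ hinj hfin (by omega)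
    (pPrimeCore p G) hXcop y a hya (fun x hx => hXn.conj_mem x hx y) ⟨x, hx, hyx⟩
  refine ⟨h1, h2, ?_⟩
  haveI := h3
  exact Cfsg.Agent.Lib.Helper2.isIrrCharacter_of_rep ρ

end Cfsg.Agent.S4468
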