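import Cfsg.Statements.S4472
import Cfsg.Agent.Lib.Helper24.SchurBound3
import Cfsg.Agent.Lib.Helper24.PSolvDual
import Cfsg.Agent.Lib.Helper23.PNilMax
import Cfsg.Agent.Lib.Helper1.Hall

set_option autoImplicit false
set_option linter.unusedSectionVars false
set_option linter.style.haveILetI false
set_option linter.unusedVariables false
open Cfsg

namespace Cfsg.Agent.S4472

open Cfsg.H5

theorem pCore_quotient_bot {G : Type*} [Group G] [Finite G] (p : ℕ) [Fact p.Prime] :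
    Cfsg.pCore p (G ⧸ Cfsg.pCore p G) = ⊥ := by
  haveI hQn : (Cfsg.pCore p G).Normal := pCore_normal p G
  have hT : IsPGroup p ((Cfsg.pCore p (G ⧸ Cfsg.pCore p G)).comap
      (QuotientGroup.mk' (Cfsg.pCore p G))) := by
    apply (pCore_isPGroup p _).comap_of_ker_isPGroup
    rw [QuotientGroup.ker_mk']
    exact pCore_isPGroup p G
  haveI : (Cfsg.pCore p (G ⧸ Cfsg.pCore p G)).Normal := pCore_normal p _
  have hTn : ((Cfsg.pCore p (G ⧸ Cfsg.pCore p G)).comap
      (QuotientGroup.mk' (Cfsg.pCore p G))).Normal := inferInstance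
  have hle := le_pCore hTn hT
  rw [eq_bot_iff]
  have h1 := Subgroup.map_mono (f := QuotientGroup.mk' (Cfsg.pCore p G)) hle
  rw [Subgroup.map_comap_eq_self_of_surjective (QuotientGroup.mk'_surjective _),
    QuotientGroup.map_mk'_self] at h1
  exact h1

/-- Let the finite p-solvable group G have a faithful character of degree n, and let p^a be the index of O_p(G) in a Sylow p-subgroup of G (the p-part of [G : O_p(G)]). Then a ≤ Σ_{i ≥ 0} ⌊n / ((p − 1) p^i)⌋ (a finite sum; the terms vanish for p^i > n). -/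
theorem result {G : Type*} [Group G] [Finite G] (χ : G → ℂ) (hχ : Cfsg.IsCharacter G χ) (hfaith : ∀ g : G, χ g = χ 1 → g = 1) (n : ℕ) (hn : Cfsg.charDegree χ = n) (p : ℕ) (hp : p.Prime) (hsolv : Cfsg.IsPSolvable p G) : ((Cfsg.pCore p G).index).factorization p ≤ ∑ i ∈ Finset.range (n + 1), n / ((p - 1) * p ^ i) := by
  classical
  haveI : Fact p.Prime := ⟨hp⟩
  obtain ⟨Q, hQ⟩ : ∃ Q : Subgroup G, Q = Cfsg.pCore p G := ⟨_, rfl⟩
  haveI hQn : Q.Normal := by
    rw [hQ]
    exact pCore_normal p G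
  have hQp : IsPGroup p Q := by
    rw [hQ]
    exact pCore_isPGroup p G
  rw [← hQ]
  have hsolvq : Cfsg.IsPSolvable p (G ⧸ Q) := isPSolvable_quotient Q hsolv
  have hObar : Cfsg.pCore p (G ⧸ Q) = ⊥ := by
    subst hQ
    exact pCore_quotient_bot p
  have hHH := Cfsg.Agent.Lib.Helper24.PSolvDual.centralizer_pPrimeCore_le_of_isPSolvable hsolvq hObar
  obtain ⟨Rb, hRb⟩ : ∃ Rb : Subgroup (G ⧸ Q), Rb = Cfsg.pPrimeCore p (G ⧸ Q) := ⟨_, rfl⟩
  rw [← hRb] at hHH
  haveI hRbn : Rb.Normal := by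
    rw [hRb]
    exact pPrimeCore_normal p _
  have hRbc : (Nat.card Rb).Coprime p := by
    rw [hRb]
    exact coprime_card_pPrimeCore p _
  obtain ⟨L, hL⟩ : ∃ L : Subgroup G, L = Rb.comap (QuotientGroup.mk' Q) := ⟨_, rfl⟩
  haveI hLn : L.Normal := by
    rw [hL]
    infer_instance
  have hQL : Q ≤ L := by
    rw [hL]
    conv_lhs => rw [← QuotientGroup.ker_mk' Q]
    exact MonoidHom.ker_le_comap _ _
  have hLmap : L.map (QuotientGroup.mk' Q) = Rb := by
    rw [hL]
    exact Subgroup.map_comap_eq_self_of_surjective (QuotientGroup.mk'_surjective Q) Rb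
  have hrel : Q.relIndex L = Nat.card Rb := by
    rw [← card_map_mk', hLmap]
  have hsolQ : Group.IsSolvable Q := by
    haveI := hQp.isNilpotent
    infer_instance
  obtain ⟨a, ha⟩ := hQp.exists_card_eq
  have hcopQ : (Nat.card Q).Coprime (Q.relIndex L) := by
    rw [hrel, ha]
    exact (Nat.Coprime.pow_right a hRbc).symm
  obtain ⟨K, hKL, hQK, hQKsup, hKcard, hfrat⟩ :=
    Cfsg.Agent.Lib.Helper23.PNilMax.exists_complement_frattini Q L hQL hcopQ hsolQ
  have hKp : (Nat.card K).Coprime p := by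
    rw [hKcard, hrel]
    exact hRbc
  have hKmap : K.map (QuotientGroup.mk' Q) = Rb := by
    rw [← hLmap, ← hQKsup, Subgroup.map_sup, QuotientGroup.map_mk'_self, bot_sup_eq]
  -- the normalizer of `K` covers `G / Q`
  obtain ⟨M, hM⟩ : ∃ M : Subgroup G, M = Subgroup.normalizer (K : Set G) := ⟨_, rfl⟩
  obtain ⟨ψ, hψ⟩ : ∃ ψ : ↥M →* G ⧸ Q, ψ = (QuotientGroup.mk' Q).comp M.subtype := ⟨_, rfl⟩
  have hψs : Function.Surjective ψ := by
    intro q
    obtain ⟨g, rfl⟩ := QuotientGroup.mk_surjective q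
    obtain ⟨x, hx, hxg⟩ := hfrat g
    rw [← hM] at hxg
    refine ⟨⟨x⁻¹ * g, hxg⟩, ?_⟩
    rw [hψ]
    show ((x⁻¹ * g : G) : G ⧸ Q) = (g : G ⧸ Q)
    rw [QuotientGroup.mk_mul, QuotientGroup.mk_inv, (QuotientGroup.eq_one_iff x).2 hx, inv_one,
      one_mul]
  obtain ⟨P₁⟩ : Nonempty (Sylow p ↥M) := inferInstance
  obtain ⟨P, hPdef⟩ : ∃ P : Subgroup G, P = (P₁ : Subgroup ↥M).map M.subtype := ⟨_, rfl⟩
  have hPp : IsPGroup p P := by
    rw [hPdef]
    exact P₁.2.map _
  have hPM : P ≤ Subgroup.normalizer (K : Set G) := by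
    rw [hPdef, ← hM]
    exact Subgroup.map_subtype_le _
  have hPmap : P.map (QuotientGroup.mk' Q) = (P₁ : Subgroup ↥M).map ψ := by
    rw [hPdef, hψ, Subgroup.map_map]
  have hcardimg : Nat.card (P.map (QuotientGroup.mk' Q))
      = p ^ (Nat.card (G ⧸ Q)).factorization p := by
    rw [hPmap, ← Sylow.coe_mapSurjective hψs P₁]
    exact Sylow.card_eq_multiplicity _
  have hcardP : p ^ (Nat.card (G ⧸ Q)).factorization p * Nat.card (P ⊓ Q : Subgroup G)
      = Nat.card P := by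
    have := Cfsg.Agent.Lib.Helper1.card_map_mul_card_inf_ker (QuotientGroup.mk' Q) P
    rw [QuotientGroup.ker_mk', hcardimg] at this
    exact this
  -- centralizing elements of `P` lie in `Q`
  have hC : ∀ u ∈ P, (∀ k ∈ K, u * k = k * u) → u ∈ Q := by
    intro u hu hcomm
    have hcen : ((u : G) : G ⧸ Q) ∈ Subgroup.centralizer (Rb : Set (G ⧸ Q)) := by
      rw [Subgroup.mem_centralizer_iff]
      intro r hr
      rw [SetLike.mem_coe, ← hKmap] at hr
      obtain ⟨k, hk, rfl⟩ := hr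
      show ((k : G) : G ⧸ Q) * ((u : G) : G ⧸ Q) = ((u : G) : G ⧸ Q) * ((k : G) : G ⧸ Q)
      rw [← QuotientGroup.mk_mul, ← QuotientGroup.mk_mul, hcomm k hk]
    have hmemR : ((u : G) : G ⧸ Q) ∈ Rb := hHH hcen
    obtain ⟨j, hj⟩ := hPp ⟨u, hu⟩
    have huj : u ^ p ^ j = 1 := congrArg Subtype.val hj
    have hord1 : orderOf ((u : G) : G ⧸ Q) ∣ p ^ j := by
      apply orderOf_dvd_of_pow_eq_one
      rw [← QuotientGroup.mk_pow, huj]
      rfl
    have hord2 : orderOf ((u : G) : G ⧸ Q) ∣ Nat.card Rb :=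
      Subgroup.orderOf_dvd_natCard Rb hmemR
    have hcop2 : (orderOf ((u : G) : G ⧸ Q)).Coprime (Nat.card Rb) :=
      Nat.Coprime.coprime_dvd_left hord1 (Nat.Coprime.pow_left j hRbc.symm)
    have hord : orderOf ((u : G) : G ⧸ Q) = 1 := Nat.Coprime.eq_one_of_dvd hcop2 hord2
    rw [orderOf_eq_one_iff] at hord
    exact (QuotientGroup.eq_one_iff u).1 hord
  have hmain := Cfsg.Agent.Lib.Helper24.schur_bound_normalizer p hp K P hKp hPp hPM χ hχ
    (fun k _ hk => hfaith k hk) Q hC n hn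
  rw [Subgroup.index_eq_card]
  have hne : Nat.card (P ⊓ Q : Subgroup G) ≠ 0 := Nat.card_pos.ne'
  rw [← hcardP, Nat.factorization_mul (pow_ne_zero _ hp.ne_zero) hne,
    Nat.Prime.factorization_pow hp] at hmain
  simp only [Finsupp.coe_add, Pi.add_apply, Finsupp.single_eq_same] at hmain
  omega

end Cfsg.Agent.S4472
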