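import Cfsg.Statements.S4473
import Cfsg.Agent.Lib.Helper23.PrimTwoMain

set_option autoImplicit false
open Cfsg

namespace Cfsg.Agent.S4473

/-- Let the finite group G have a faithful irreducible character χ of degree 2 that is primitive: χ is not induced from a character of any proper subgroup. Then the centre of G has index 12, 24 or 60. -/
theorem result {G : Type*} [Group G] [Fintype G] (χ : Cfsg.IrrCharacter G) (hfaith : ∀ g : G, (χ : G → ℂ) g = (χ : G → ℂ) 1 → g = 1) (h2 : Cfsg.charDegree (χ : G → ℂ) = 2) (hprim : ∀ H : Subgroup G, H ≠ ⊤ → ∀ θ : H → ℂ, Cfsg.IsCharacter H θ → (χ : G → ℂ) ≠ Cfsg.indFun H θ) : (Subgroup.center G).index = 12 ∨ (Subgroup.center G).index = 24 ∨ (Subgroup.center G).index = 60 := by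
  obtain ⟨χf, hχ⟩ := χ
  obtain ⟨m, ρ, hirr, rfl⟩ := hχ
  have hm : m = 2 := by
    rw [← h2]
    show m = Cfsg.charDegree ρ.character
    unfold Cfsg.charDegree
    rw [Representation.char_one, Module.finrank_fin_fun, Complex.natCast_re, Nat.floor_natCast]
  subst hm
  have hinj : Function.Injective ρ := by
    intro g h hgh
    have h1 : ρ (g⁻¹ * h) = 1 := by
      rw [map_mul, ← hgh, ← map_mul, inv_mul_cancel, map_one]
    have h3 : g⁻¹ * h = 1 := by
      apply hfaith
      show ρ.character (g⁻¹ * h) = ρ.character 1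
      unfold Representation.character
      rw [h1, map_one ρ]
    exact inv_mul_eq_one.mp h3
  haveI := hirr
  exact Cfsg.Agent.Lib.Helper23.PrimTwo.index_center_of_rep ρ hinj hprim

end Cfsg.Agent.S4473
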