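import Mathlib
import Cfsg.Prelude.Def_Blocks
import Cfsg.Agent.Lib.Helper24.FrobSchur
import Cfsg.Agent.Lib.Helper25.CharBasic

set_option autoImplicit false

namespace Cfsg

namespace Agent.S4476

open Cfsg.Agent.Lib.Helper24
open scoped ComplexConjugate

section

variable {G : Type*} [Group G] [Fintype G]

theorem exists_involution (heven : Even (Nat.card G)) : ∃ x : G, orderOf x = 2 := by
  haveI : Fact (Nat.Prime 2) := ⟨Nat.prime_two⟩
  have h2 : 2 ∣ Fintype.card G := by
    rw [← Nat.card_eq_fintype_card]; exact even_iff_two_dvd.mp heven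
  exact exists_prime_orderOf_dvd_card 2 h2

theorem card_sq_eq_one [DecidableEq G] :
    (Finset.univ.filter (fun s : G => s * s = 1)).card
      = 1 + Nat.card {x : G // orderOf x = 2} := by
  classical
  rw [Nat.card_eq_fintype_card, Fintype.card_subtype]
  have : Finset.univ.filter (fun s : G => s * s = 1)
      = insert 1 (Finset.univ.filter (fun s : G => orderOf s = 2)) := by
    ext s
    simp only [Finset.mem_filter, Finset.mem_univ, true_and, Finset.mem_insert]
    haveI : Fact (Nat.Prime 2) := ⟨Nat.prime_two⟩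
    rw [orderOf_eq_prime_iff, pow_two]
    constructor
    · intro h
      by_cases h1 : s = 1
      · exact Or.inl h1
      · exact Or.inr ⟨h, h1⟩
    · rintro (h | h)
      · rw [h, one_mul]
      · exact h.1
  rw [this, Finset.card_insert_of_notMem, add_comm]
  simp

open Classical in
theorem core (t : ℕ) (ht : Nat.card {x : G // orderOf x = 2} = t) :
    ∃ R : Finset (Cfsg.IrrCharacter G),
      (∀ χ ∈ R, (χ : G → ℂ) ≠ (fun _ => 1) ∧ ∀ g : G, ((χ : G → ℂ) g).im = 0) ∧
      (t : ℚ) ≤ ∑ χ ∈ R, (Cfsg.charDegree (χ : G → ℂ) : ℚ) ∧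
      ∑ χ ∈ R, (Cfsg.charDegree (χ : G → ℂ) : ℚ) ^ 2 ≤ (Nat.card G : ℚ) - 1 ∧
      (R.card : ℚ) + 1 = (Nat.card G : ℚ)⁻¹ * ∑ g : G,
        if IsConj g g⁻¹ then (Nat.card (Subgroup.centralizer ({g} : Set G)) : ℚ) else 0 := by
  classical
  haveI : Fintype (Cfsg.IrrCharacter G) := Fintype.ofFinite _
  choose ε hε1 hε2 hε3 using irr_fsIndicator (G := G)
  set d : Cfsg.IrrCharacter G → ℕ := fun χ => Cfsg.charDegree (χ : G → ℂ) with hd_def
  have hd : ∀ χ : Cfsg.IrrCharacter G, (χ : G → ℂ) 1 = (d χ : ℂ) := fun χ =>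
    Cfsg.Agent.Lib.Helper25.char_one_eq_charDegree
      (Cfsg.Agent.Lib.Helper25.isCharacter_of_irr χ.2)
  have hGne : (Nat.card G : ℂ) ≠ 0 := Cfsg.Agent.Lib.Helper2.card_ne_zero_complex
  -- the counting identity
  have hsum : ∑ χ : Cfsg.IrrCharacter G, (d χ : ℤ) * ε χ = 1 + (t : ℤ) := by
    have h1 := sum_fs_degree (G := G)
    have h0 := card_sq_eq_one (G := G)
    rw [h0, ht] at h1
    have h2 : ((∑ χ : Cfsg.IrrCharacter G, (d χ : ℤ) * ε χ : ℤ) : ℂ) = ((1 + (t : ℤ) : ℤ) : ℂ) := by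
      push_cast
      rw [← Nat.cast_one (R := ℂ), ← Nat.cast_add, ← h1]
      apply Finset.sum_congr rfl; intro χ _
      rw [hd, hε2]
    exact_mod_cast h2
  have hεtriv : ε (trivIrr G) = 1 := by
    have h1 := hε2 (trivIrr G)
    simp only [trivIrr_apply, Finset.sum_const, Finset.card_univ, nsmul_eq_mul, mul_one] at h1
    rw [← Nat.card_eq_fintype_card, inv_mul_cancel₀ hGne] at h1
    exact_mod_cast h1
  have hdtriv : d (trivIrr G) = 1 := by
    have h1 := hd (trivIrr G)
    rw [trivIrr_apply] at h1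
    exact_mod_cast h1.symm
  set R : Finset (Cfsg.IrrCharacter G) := Finset.univ.filter
    (fun χ => χ ≠ trivIrr G ∧ ∀ g : G, ((χ : G → ℂ) g).im = 0) with hR
  have hRsub : R ⊆ Finset.univ.erase (trivIrr G) := by
    intro χ hχ
    rw [hR, Finset.mem_filter] at hχ
    exact Finset.mem_erase.mpr ⟨hχ.2.1, Finset.mem_univ _⟩
  refine ⟨R, ?_, ?_, ?_, ?_⟩
  · intro χ hχ
    rw [hR, Finset.mem_filter] at hχ
    refine ⟨?_, hχ.2.2⟩
    intro h
    apply hχ.2.1
    exact Subtype.ext h
  · have h1 := Finset.add_sum_erase Finset.univ (fun χ => (d χ : ℤ) * ε χ)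
      (Finset.mem_univ (trivIrr G))
    rw [hsum] at h1
    simp only [hεtriv, hdtriv, Nat.cast_one, mul_one] at h1
    have h2 : ∑ χ ∈ Finset.univ.erase (trivIrr G), (d χ : ℤ) * ε χ = (t : ℤ) := by linarith
    have h3 : ∑ χ ∈ R, (d χ : ℤ) * ε χ = ∑ χ ∈ Finset.univ.erase (trivIrr G), (d χ : ℤ) * ε χ := by
      apply Finset.sum_subset hRsub
      intro χ hχ hχR
      have : ε χ = 0 := by
        by_contra hne
        apply hχR
        rw [hR, Finset.mem_filter]
        exact ⟨Finset.mem_univ _, (Finset.mem_erase.mp hχ).1, hε3 χ hne⟩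
      rw [this, mul_zero]
    have h4 : ∑ χ ∈ R, (d χ : ℤ) * ε χ ≤ ∑ χ ∈ R, (d χ : ℤ) := by
      apply Finset.sum_le_sum; intro χ _
      have : ε χ ≤ 1 := (abs_le.mp (hε1 χ)).2
      nlinarith [Int.natCast_nonneg (d χ)]
    have h5 : (t : ℤ) ≤ ∑ χ ∈ R, (d χ : ℤ) := by rw [← h2, ← h3]; exact h4
    have h6 : ((t : ℤ) : ℚ) ≤ ((∑ χ ∈ R, (d χ : ℤ) : ℤ) : ℚ) := by exact_mod_cast h5
    push_cast at h6
    exact h6
  · have h1 : ∑ χ : Cfsg.IrrCharacter G, (d χ : ℚ) ^ 2 = (Nat.card G : ℚ) := by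
      have h2 := Cfsg.Agent.Lib.Helper2.sum_irr_degree_sq (G := G)
      have h3 : ((∑ χ : Cfsg.IrrCharacter G, (d χ : ℚ) ^ 2 : ℚ) : ℂ) = ((Nat.card G : ℚ) : ℂ) := by
        push_cast
        rw [← h2]
        apply Finset.sum_congr rfl; intro χ _
        rw [hd]
      exact_mod_cast h3
    have h2 := Finset.add_sum_erase Finset.univ (fun χ => (d χ : ℚ) ^ 2)
      (Finset.mem_univ (trivIrr G))
    rw [h1] at h2
    simp only [hdtriv, Nat.cast_one, one_pow] at h2
    have h3 : ∑ χ ∈ R, (d χ : ℚ) ^ 2 ≤ ∑ χ ∈ Finset.univ.erase (trivIrr G), (d χ : ℚ) ^ 2 := by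
      apply Finset.sum_le_sum_of_subset_of_nonneg hRsub
      intro χ _ _; positivity
    linarith
  · have h1 := card_real_irr (G := G)
    have h2 : Finset.univ.filter
        (fun χ : Cfsg.IrrCharacter G => ∀ g : G, ((χ : G → ℂ) g).im = 0)
        = insert (trivIrr G) R := by
      ext χ
      simp only [hR, Finset.mem_filter, Finset.mem_univ, true_and, Finset.mem_insert]
      constructor
      · intro h
        by_cases h1 : χ = trivIrr G
        · exact Or.inl h1
        · exact Or.inr ⟨h1, h⟩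
      · rintro (h | h)
        · rw [h]; intro g; rw [trivIrr_apply]; simp
        · exact h.2
    have h3 : trivIrr G ∉ R := by
      rw [hR, Finset.mem_filter]; intro h; exact h.2.1 rfl
    rw [h2, Finset.card_insert_of_notMem h3] at h1
    have h4 : (((R.card : ℚ) + 1 : ℚ) : ℂ) = (((Nat.card G : ℚ)⁻¹ * ∑ g : G,
        if IsConj g g⁻¹ then (Nat.card (Subgroup.centralizer ({g} : Set G)) : ℚ) else 0 : ℚ) : ℂ) := by
      push_cast
      push_cast at h1
      rw [h1]
      congr 1
      apply Finset.sum_congr rfl; intro g _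
      split_ifs <;> simp
    exact_mod_cast h4

end

theorem result {G : Type*} [Group G] [Fintype G] (heven : Even (Nat.card G)) (t : ℕ) (ht : Nat.card {x : G // orderOf x = 2} = t) : (∃ x : G, x ≠ 1 ∧ ((Subgroup.centralizer ({x} : Set G)).index : ℚ) ≤ (((Nat.card G : ℚ) - 1) / t) ^ 2) ∧ ∃ χ : Cfsg.IrrCharacter G, (χ : G → ℂ) ≠ (fun _ => 1) ∧ (∀ g : G, ((χ : G → ℂ) g).im = 0) ∧ (Cfsg.charDegree (χ : G → ℂ) : ℚ) ≤ ((Nat.card G : ℚ) - 1) / t := by
  classical
  obtain ⟨R, hR1, hR2, hR3, hR4⟩ := core t ht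
  obtain ⟨x0, hx0⟩ := exists_involution heven
  have ht1 : 1 ≤ t := by
    rw [← ht]
    haveI : Nonempty {x : G // orderOf x = 2} := ⟨⟨x0, hx0⟩⟩
    exact Nat.card_pos
  have hg2 : 2 ≤ Nat.card G := by
    have hpos : 0 < Nat.card G := Nat.card_pos
    obtain ⟨k, hk⟩ := heven
    omega
  have hx01 : x0 ≠ 1 := by
    intro h; rw [h, orderOf_one] at hx0; omega
  have htq : (1 : ℚ) ≤ (t : ℚ) := by exact_mod_cast ht1
  have hgq : (2 : ℚ) ≤ (Nat.card G : ℚ) := by exact_mod_cast hg2
  set g : ℚ := (Nat.card G : ℚ) with hg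
  set α : ℚ := (g - 1) / t with hα
  have hαpos : 0 < α := by
    apply div_pos <;> linarith
  have hαt : α * t = g - 1 := by
    rw [hα]; field_simp
  have hsumpos : 0 < ∑ χ ∈ R, (Cfsg.charDegree (χ : G → ℂ) : ℚ) := by linarith
  constructor
  · by_contra hcon
    push Not at hcon
    -- bound on the number of real characters
    have hc1 : ∀ x : G, (Nat.card (Subgroup.centralizer ({x} : Set G)) : ℚ)
        * ((Subgroup.centralizer ({x} : Set G)).index : ℚ) = g := by
      intro x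
      have := Subgroup.card_mul_index (Subgroup.centralizer ({x} : Set G))
      rw [hg]
      exact_mod_cast this
    have hc2 : ∀ x : G, x ≠ 1 →
        (Nat.card (Subgroup.centralizer ({x} : Set G)) : ℚ) < g / α ^ 2 := by
      intro x hx
      have h1 := hcon x hx
      have h2 := hc1 x
      have hcpos : (0 : ℚ) < (Nat.card (Subgroup.centralizer ({x} : Set G)) : ℚ) := by
        exact_mod_cast Nat.card_pos
      rw [lt_div_iff₀ (by positivity)]
      calc (Nat.card (Subgroup.centralizer ({x} : Set G)) : ℚ) * α ^ 2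
          < (Nat.card (Subgroup.centralizer ({x} : Set G)) : ℚ)
            * ((Subgroup.centralizer ({x} : Set G)).index : ℚ) := by
            apply mul_lt_mul_of_pos_left h1 hcpos
        _ = g := h2
    have hS : (∑ x : G, if IsConj x x⁻¹ then
          (Nat.card (Subgroup.centralizer ({x} : Set G)) : ℚ) else 0)
        < g + (g - 1) * (g / α ^ 2) := by
      rw [← Finset.add_sum_erase Finset.univ _ (Finset.mem_univ (1 : G))]
      have h1 : (if IsConj (1 : G) (1 : G)⁻¹ then
          (Nat.card (Subgroup.centralizer ({(1 : G)} : Set G)) : ℚ) else 0) ≤ g := by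
        split_ifs
        · rw [hg]
          exact_mod_cast Nat.card_le_card_of_injective _ Subtype.val_injective
        · linarith
      have h2 : (∑ x ∈ Finset.univ.erase (1 : G), if IsConj x x⁻¹ then
          (Nat.card (Subgroup.centralizer ({x} : Set G)) : ℚ) else 0)
          < ∑ x ∈ Finset.univ.erase (1 : G), g / α ^ 2 := by
        apply Finset.sum_lt_sum_of_nonempty
        · exact ⟨x0, Finset.mem_erase.mpr ⟨hx01, Finset.mem_univ _⟩⟩
        · intro x hx
          have hx1 : x ≠ 1 := (Finset.mem_erase.mp hx).1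
          split_ifs
          · exact hc2 x hx1
          · positivity
      rw [Finset.sum_const, Finset.card_erase_of_mem (Finset.mem_univ _), Finset.card_univ,
        ← Nat.card_eq_fintype_card, nsmul_eq_mul, Nat.cast_sub (by omega), Nat.cast_one] at h2
      linarith
    have hr : (R.card : ℚ) < (g - 1) / α ^ 2 := by
      have hgpos : (0 : ℚ) < g := by linarith
      have h1 : (R.card : ℚ) + 1 < g⁻¹ * (g + (g - 1) * (g / α ^ 2)) := by
        rw [hR4]
        exact mul_lt_mul_of_pos_left hS (inv_pos.mpr hgpos)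
      have h2 : g⁻¹ * (g + (g - 1) * (g / α ^ 2)) = 1 + (g - 1) / α ^ 2 := by
        field_simp
      linarith
    -- Cauchy–Schwarz
    have hcs := sq_sum_le_card_mul_sum_sq (s := R)
      (f := fun χ => (Cfsg.charDegree (χ : G → ℂ) : ℚ))
    have h1 : (t : ℚ) ^ 2 ≤ (R.card : ℚ) * (g - 1) := by
      calc (t : ℚ) ^ 2 ≤ (∑ χ ∈ R, (Cfsg.charDegree (χ : G → ℂ) : ℚ)) ^ 2 := by
            apply pow_le_pow_left₀ (by linarith) hR2
        _ ≤ (R.card : ℚ) * ∑ χ ∈ R, (Cfsg.charDegree (χ : G → ℂ) : ℚ) ^ 2 := hcs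
        _ ≤ (R.card : ℚ) * (g - 1) := by
            apply mul_le_mul_of_nonneg_left hR3 (Nat.cast_nonneg _)
    have h2 : (R.card : ℚ) * (g - 1) < (t : ℚ) ^ 2 := by
      have hg1 : (0 : ℚ) < g - 1 := by linarith
      calc (R.card : ℚ) * (g - 1) < (g - 1) / α ^ 2 * (g - 1) :=
            mul_lt_mul_of_pos_right hr hg1
        _ = (t : ℚ) ^ 2 := by
            rw [← hαt]
            field_simp
    linarith
  · by_contra hcon
    push Not at hcon
    have hne : R.Nonempty := by
      by_contra h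
      rw [Finset.not_nonempty_iff_eq_empty] at h
      rw [h, Finset.sum_empty] at hsumpos
      exact lt_irrefl _ hsumpos
    have h1 : ∑ χ ∈ R, α * (Cfsg.charDegree (χ : G → ℂ) : ℚ)
        < ∑ χ ∈ R, (Cfsg.charDegree (χ : G → ℂ) : ℚ) ^ 2 := by
      apply Finset.sum_lt_sum_of_nonempty hne
      intro χ hχ
      have h2 := hcon χ (hR1 χ hχ).1 (hR1 χ hχ).2
      have h3 : (0 : ℚ) < (Cfsg.charDegree (χ : G → ℂ) : ℚ) := by linarith
      rw [pow_two]
      exact mul_lt_mul_of_pos_right h2 h3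
    rw [← Finset.mul_sum] at h1
    have h2 : α * (t : ℚ) ≤ α * ∑ χ ∈ R, (Cfsg.charDegree (χ : G → ℂ) : ℚ) :=
      mul_le_mul_of_nonneg_left hR2 hαpos.le
    rw [hαt] at h2
    linarith

end Agent.S4476

end Cfsg
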