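import Mathlib
import Cfsg.Statements.S4478
import Cfsg.Agent.S0914
import Cfsg.Agent.Lib.Helper24.BlockOrtho
import Cfsg.Agent.Lib.Helper25.EvenDegree
import Cfsg.Agent.Lib.Helper25.Codegree
import Cfsg.Agent.Lib.Helper25.CharBasic
import Cfsg.Agent.Lib.Helper25.Linear
import Cfsg.Agent.Lib.Helper25.InvertSylow
import Cfsg.Agent.Lib.Helper2.Linear
import Cfsg.Agent.Lib.Helper2.BrauerFowler

set_option autoImplicit false
open Cfsg

namespace Cfsg.Agent.S4478

open Cfsg.Agent.Lib.Helper2 Cfsg.Agent.Lib.Helper24 Cfsg.Agent.Lib.Helper25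
open scoped ComplexConjugate

/-- if the full `p`-part of `|G|` divides `x` and `x * i = |G|`, then `p ∤ i` -/
theorem not_dvd_of_full {n x i p : ℕ} (hp : p.Prime) (hn : n ≠ 0)
    (h : p ^ n.factorization p ∣ x) (hxi : x * i = n) : ¬ p ∣ i := by
  intro hpi
  have hdiv : p ^ (n.factorization p + 1) ∣ x * i := by
    rw [pow_succ]
    exact Nat.mul_dvd_mul h hpi
  rw [hxi] at hdiv
  exact Nat.pow_succ_factorization_not_dvd hn hp hdiv

/-- an irreducible character whose degree is divisible by the full `p`-part of `|G|` vanishes on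
`p`-singular elements -/
theorem vanish_of_full_ppart {G : Type*} [Group G] [Finite G] (p : ℕ) [Fact p.Prime]
    (χ : Cfsg.IrrCharacter G)
    (h : p ^ (Nat.card G).factorization p ∣ Cfsg.charDegree (χ : G → ℂ)) (y : G)
    (hy : p ∣ orderOf y) : (χ : G → ℂ) y = 0 := by
  have hp : p.Prime := Fact.out
  have : Fintype G := Fintype.ofFinite G
  obtain ⟨M, hM⟩ := exists_isPModular p hp
  have hdvd : Cfsg.charDegree (χ : G → ℂ) ∣ Nat.card G := charDegree_dvd_card χ.2
  have hdef : ¬ p ∣ Nat.card G / Cfsg.charDegree (χ : G → ℂ) := by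
    apply not_dvd_of_full hp Nat.card_pos.ne' h
    exact Nat.mul_div_cancel' hdvd
  have hblock := (Cfsg.Agent.S0914.result p M hM χ).mp hdef
  have hw := weak_block_orthogonality hM (Cfsg.blockOf M (χ : G → ℂ)) ⟨χ, rfl⟩ 1 y
    (by rw [orderOf_one]; exact hp.one_lt.ne' ∘ Nat.dvd_one.mp) hy
  rw [hblock, finsum_mem_singleton] at hw
  have h1 : (χ : G → ℂ) 1 ≠ 0 := irr_one_ne_zero χ.2
  rcases mul_eq_zero.mp hw with h0 | h0
  · exact absurd h0 h1
  · simpa using h0

/-- `g ^ (o + 1) = g` for `o` the order of `g` -/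
theorem pow_orderOf_succ {G : Type*} [Group G] (g : G) : g ^ (orderOf g + 1) = g := by
  rw [pow_succ, pow_orderOf_eq_one, one_mul]

/-- squaring preserves odd orders -/
theorem orderOf_sq_of_odd {G : Type*} [Group G] (g : G) (h : Odd (orderOf g)) :
    orderOf (g * g) = orderOf g := by
  rw [← pow_two]
  exact (Nat.Coprime.orderOf_pow (Nat.Coprime.symm (Nat.coprime_two_left.mpr h)))

/-- squaring is injective on elements of odd order -/
theorem sq_injOn_odd {G : Type*} [Group G] (g h : G) (hg : Odd (orderOf g))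
    (hh : Odd (orderOf h)) (hgh : g * g = h * h) : g = h := by
  have ho : orderOf g = orderOf h := by
    rw [← orderOf_sq_of_odd g hg, ← orderOf_sq_of_odd h hh, hgh]
  obtain ⟨k, hk⟩ := hg
  have h1 : g = (g * g) ^ (k + 1) := by
    rw [← pow_two, ← pow_mul]
    have : 2 * (k + 1) = orderOf g + 1 := by omega
    rw [this, pow_orderOf_succ]
  have h2 : h = (h * h) ^ (k + 1) := by
    rw [← pow_two, ← pow_mul]
    have : 2 * (k + 1) = orderOf h + 1 := by omega
    rw [this, pow_orderOf_succ]
  rw [h1, h2, hgh]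

/-- Let G be a finite group of even order and χ an irreducible character of G whose degree x is divisible by the full power of 2 dividing the order of G and, for every odd prime p such that G has an element of order 2p, by the full power of p dividing the order of G. Then all involutions of G are conjugate, the centralizer of every involution has order exactly x with x coprime to its index, and the Frobenius–Schur indicator of χ equals 1. -/
theorem result {G : Type*} [Group G] [Fintype G] (heven : Even (Nat.card G)) (χ : Cfsg.IrrCharacter G) (h2 : 2 ^ (Nat.card G).factorization 2 ∣ Cfsg.charDegree (χ : G → ℂ)) (hp : ∀ p : ℕ, p.Prime → p ≠ 2 → (∃ g : G, orderOf g = 2 * p) → p ^ (Nat.card G).factorization p ∣ Cfsg.charDegree (χ : G → ℂ)) : (∀ s t : G, orderOf s = 2 → orderOf t = 2 → IsConj s t) ∧ (∀ s : G, orderOf s = 2 → Nat.card (Subgroup.centralizer ({s} : Set G)) = Cfsg.charDegree (χ : G → ℂ) ∧ (Nat.card (Subgroup.centralizer ({s} : Set G))).Coprime (Subgroup.centralizer ({s} : Set G)).index) ∧ (Nat.card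 G : ℂ)⁻¹ * ∑ g : G, (χ : G → ℂ) (g * g) = 1 := by
  classical
  set x := Cfsg.charDegree (χ : G → ℂ) with hx
  have hχchar := isCharacter_of_irr χ.2
  have hχ1 : (χ : G → ℂ) 1 = (x : ℂ) := char_one_eq_charDegree hχchar
  have hxpos : 0 < x := irr_degree_pos χ.2
  have hxdvd : x ∣ Nat.card G := charDegree_dvd_card χ.2
  have hGne : Nat.card G ≠ 0 := Nat.card_pos.ne'
  have h2G : 2 ∣ Nat.card G := heven.two_dvd
  -- vanishing
  have hvan2 : ∀ g : G, 2 ∣ orderOf g → (χ : G → ℂ) g = 0 := by
    intro g hg
    haveI : Fact (Nat.Prime 2) := ⟨Nat.prime_two⟩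
    exact vanish_of_full_ppart 2 χ h2 g hg
  have hvanp : ∀ p : ℕ, p.Prime → p ≠ 2 → (∃ g : G, orderOf g = 2 * p) →
      ∀ g : G, p ∣ orderOf g → (χ : G → ℂ) g = 0 := by
    intro p hpp hp2 hex g hg
    haveI : Fact p.Prime := ⟨hpp⟩
    exact vanish_of_full_ppart p χ (hp p hpp hp2 hex) g hg
  -- an odd prime dividing the order of an element commuting with an involution is relevant
  have hrel : ∀ s : G, orderOf s = 2 → ∀ c : G, c * s = s * c → ∀ p : ℕ, p.Prime → p ≠ 2 →
      p ∣ orderOf c → ∃ g : G, orderOf g = 2 * p := by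
    intro s hs c hcs p hpp hp2 hpc
    obtain ⟨k, hk⟩ := hpc
    have hcpos : 0 < orderOf c := orderOf_pos c
    have hk0 : k ≠ 0 := by
      rintro rfl
      rw [mul_zero] at hk
      omega
    have hck : orderOf (c ^ k) = p := by
      rw [orderOf_pow_of_dvd hk0 ⟨p, by rw [hk, mul_comm]⟩, hk, Nat.mul_div_cancel _ (Nat.pos_of_ne_zero hk0)]
    have hcomm : Commute s (c ^ k) := by
      have : Commute s c := hcs.symm
      exact this.pow_right k
    refine ⟨s * c ^ k, ?_⟩
    rw [hcomm.orderOf_mul_eq_mul_orderOf_of_coprime, hs, hck]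
    rw [hs, hck]
    exact (Nat.coprime_primes Nat.prime_two hpp).mpr (Ne.symm hp2)
  have hvanC : ∀ s : G, orderOf s = 2 → ∀ c : G, c * s = s * c → c ≠ 1 →
      (χ : G → ℂ) c = 0 := by
    intro s hs c hcs hc1
    by_cases h2c : 2 ∣ orderOf c
    · exact hvan2 c h2c
    · have hne1 : orderOf c ≠ 1 := fun h => hc1 (orderOf_eq_one_iff.mp h)
      obtain ⟨p, hpp, hpc⟩ := Nat.exists_prime_and_dvd hne1
      have hp2 : p ≠ 2 := fun h => h2c (h ▸ hpc)
      exact hvanp p hpp hp2 (hrel s hs c hcs p hpp hp2 hpc) c hpc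
  -- the centralizer of an involution has order dividing `x`
  have hCdvd : ∀ s : G, orderOf s = 2 →
      Nat.card (Subgroup.centralizer ({s} : Set G)) ∣ x := by
    intro s hs
    obtain ⟨k, hk⟩ := card_dvd_degree_of_vanish (Subgroup.centralizer ({s} : Set G))
      (χ : G → ℂ) hχchar (fun g hg hg1 =>
        hvanC s hs g (mem_centralizer_singleton.mp hg).symm hg1)
    rw [hχ1] at hk
    refine ⟨k, ?_⟩
    exact_mod_cast hk
  -- `χ` is not the principal character
  have hxeven : 2 ∣ x := by
    have h1 : 1 ≤ (Nat.card G).factorization 2 :=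
      (Nat.Prime.dvd_iff_one_le_factorization Nat.prime_two hGne).mp h2G
    exact dvd_trans (dvd_pow_self 2 (by omega)) h2
  have hsum0 : ∑ g : G, (χ : G → ℂ) g = 0 := by
    have hne : χ ≠ irrOne G := by
      intro h
      have h1 : (χ : G → ℂ) 1 = 1 := by rw [h]; rfl
      rw [hχ1] at h1
      have : x = 1 := by exact_mod_cast h1
      omega
    have h0 := classInner_irrCharacter_ne hne
    rw [classInner_def] at h0
    have h3 : ∑ g : G, (χ : G → ℂ) g * conj ((irrOne G : G → ℂ) g) = ∑ g : G, (χ : G → ℂ) g := by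
      apply Finset.sum_congr rfl
      intro g _
      have : (irrOne G : G → ℂ) g = 1 := rfl
      rw [this, map_one, mul_one]
    rw [h3] at h0
    rcases mul_eq_zero.mp h0 with h | h
    · exfalso
      have : (Nat.card G : ℂ) ≠ 0 := by exact_mod_cast hGne
      exact this (inv_eq_zero.mp h)
    · exact h
  -- the sum over squares
  set Inv : Finset G := Finset.univ.filter (fun g : G => orderOf g = 2) with hInv
  have hpoint : ∀ g : G, (χ : G → ℂ) (g * g) = (if orderOf g = 2 then (x : ℂ) else 0) +
      (if Odd (orderOf g) then (χ : G → ℂ) (g * g) else 0) := by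
    intro g
    by_cases h1 : orderOf g = 2
    · have hodd : ¬ Odd (orderOf g) := by rw [h1]; decide
      rw [if_pos h1, if_neg hodd, add_zero]
      have : g * g = 1 := by
        rw [← pow_two, ← h1, pow_orderOf_eq_one]
      rw [this, hχ1]
    · by_cases h3 : Odd (orderOf g)
      · rw [if_neg h1, if_pos h3, zero_add]
      · rw [if_neg h1, if_neg h3, add_zero]
        rw [Nat.not_odd_iff_even] at h3
        obtain ⟨m, hm⟩ := h3
        have hgpos : 0 < orderOf g := orderOf_pos g
        have hm0 : m ≠ 0 := by omega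
        have hm1 : m ≠ 1 := by omega
        have ht : orderOf (g ^ m) = 2 := by
          rw [orderOf_pow_of_dvd hm0 ⟨2, by omega⟩]
          have : orderOf g = 2 * m := by omega
          rw [this, Nat.mul_div_cancel _ (Nat.pos_of_ne_zero hm0)]
        apply hvanC (g ^ m) ht (g * g)
        · rw [← pow_two, ← pow_add, ← pow_add, add_comm]
        · intro hgg
          have hd : orderOf g ∣ 2 := orderOf_dvd_of_pow_eq_one (by rw [pow_two]; exact hgg)
          have := Nat.le_of_dvd (by norm_num) hd
          omega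
  have hodd_sum : ∑ g : G, (if Odd (orderOf g) then (χ : G → ℂ) (g * g) else 0) = 0 := by
    rw [← Finset.sum_filter]
    have hsub : ∀ F : G → ℂ, ∑ g ∈ Finset.univ.filter (fun g : G => Odd (orderOf g)), F g
        = ∑ g : {g : G // Odd (orderOf g)}, F g := by
      intro F
      apply Finset.sum_subtype
      intro g
      simp
    rw [hsub]
    let e : {g : G // Odd (orderOf g)} → {g : G // Odd (orderOf g)} :=
      fun g => ⟨(g : G) * g, by rw [orderOf_sq_of_odd _ g.2]; exact g.2⟩
    have hinj : Function.Injective e := by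
      intro g h hgh
      apply Subtype.ext
      exact sq_injOn_odd _ _ g.2 h.2 (congrArg Subtype.val hgh)
    have hbij : Function.Bijective e := Finite.injective_iff_bijective.mp hinj
    have h4 := Equiv.sum_comp (Equiv.ofBijective e hbij)
      (fun g : {g : G // Odd (orderOf g)} => (χ : G → ℂ) g)
    have h5 : ∑ g : {g : G // Odd (orderOf g)}, (χ : G → ℂ) ((g : G) * g)
        = ∑ g : {g : G // Odd (orderOf g)}, (χ : G → ℂ) g := h4
    rw [h5, ← hsub, Finset.sum_filter]
    have h6 : ∑ g : G, (if Odd (orderOf g) then (χ : G → ℂ) g else 0) = ∑ g : G, (χ : G → ℂ) g := by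
      apply Finset.sum_congr rfl
      intro g _
      by_cases h3 : Odd (orderOf g)
      · rw [if_pos h3]
      · rw [if_neg h3]
        rw [Nat.not_odd_iff_even] at h3
        exact (hvan2 g h3.two_dvd).symm
    rw [h6, hsum0]
  have hS : ∑ g : G, (χ : G → ℂ) (g * g) = (Inv.card : ℂ) * x := by
    rw [Finset.sum_congr rfl (fun g _ => hpoint g), Finset.sum_add_distrib, hodd_sum, add_zero,
      ← Finset.sum_filter, Finset.sum_const, nsmul_eq_mul]
  -- the indicator is `1`
  have hTpos : 0 < Inv.card := by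
    haveI : Fact (Nat.Prime 2) := ⟨Nat.prime_two⟩
    obtain ⟨s, hs⟩ := exists_prime_orderOf_dvd_card' 2 h2G
    exact Finset.card_pos.mpr ⟨s, by rw [hInv, Finset.mem_filter]; exact ⟨Finset.mem_univ _, hs⟩⟩
  have hGC : (Nat.card G : ℂ) ≠ 0 := by exact_mod_cast hGne
  have hνpos : (Nat.card G : ℂ)⁻¹ * ∑ g : G, (χ : G → ℂ) (g * g)
      = (((Inv.card * x : ℕ) : ℝ) / (Nat.card G : ℝ) : ℝ) := by
    rw [hS]
    push_cast
    field_simp
  have hν1 : (Nat.card G : ℂ)⁻¹ * ∑ g : G, (χ : G → ℂ) (g * g) = 1 := by
    have hpos : (0 : ℝ) < ((Inv.card * x : ℕ) : ℝ) / (Nat.card G : ℝ) := by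
      apply div_pos
      · exact_mod_cast Nat.mul_pos hTpos hxpos
      · exact_mod_cast Nat.card_pos
    obtain ⟨hc1, hc2⟩ := fs_cases χ
    by_cases hbar : barIrr χ = χ
    · rcases hc2 hbar with h | h
      · exact h
      · exfalso
        rw [hνpos] at h
        have : (((Inv.card * x : ℕ) : ℝ) / (Nat.card G : ℝ) : ℝ) = -1 := by exact_mod_cast h
        linarith
    · exfalso
      have h := hc1 hbar
      rw [hνpos] at h
      have : (((Inv.card * x : ℕ) : ℝ) / (Nat.card G : ℝ) : ℝ) = 0 := by exact_mod_cast h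
      linarith
  have hTx : Inv.card * x = Nat.card G := by
    rw [hS] at hν1
    have h6 : (Inv.card : ℂ) * x = (Nat.card G : ℂ) := by
      field_simp at hν1
      exact hν1
    exact_mod_cast h6
  -- class of an involution
  have hcls : ∀ s : G, orderOf s = 2 →
      Nat.card (Subgroup.centralizer ({s} : Set G)) = x ∧
        Finset.univ.filter (fun t : G => IsConj s t) = Inv := by
    intro s hs
    have h7 := card_centralizer_mul_card_conjFinset s
    have hsub : Finset.univ.filter (fun t : G => IsConj s t) ⊆ Inv := by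
      intro t ht
      rw [Finset.mem_filter] at ht
      rw [hInv, Finset.mem_filter]
      refine ⟨Finset.mem_univ _, ?_⟩
      obtain ⟨g, hg⟩ := isConj_iff.mp ht.2
      rw [← hg]
      have := (MulAut.conj g).orderOf_eq s
      rw [MulAut.conj_apply] at this
      rw [this, hs]
    have hle1 : (Finset.univ.filter (fun t : G => IsConj s t)).card ≤ Inv.card :=
      Finset.card_le_card hsub
    have hle2 : Nat.card (Subgroup.centralizer ({s} : Set G)) ≤ x :=
      Nat.le_of_dvd hxpos (hCdvd s hs)
    have hCpos : 0 < Nat.card (Subgroup.centralizer ({s} : Set G)) := Nat.card_pos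
    have hclpos : 0 < (Finset.univ.filter (fun t : G => IsConj s t)).card :=
      Finset.card_pos.mpr ⟨s, by rw [Finset.mem_filter]; exact ⟨Finset.mem_univ _, IsConj.refl s⟩⟩
    have hCeq : Nat.card (Subgroup.centralizer ({s} : Set G)) = x := by
      by_contra hne
      have hlt : Nat.card (Subgroup.centralizer ({s} : Set G)) < x := lt_of_le_of_ne hle2 hne
      have : Nat.card (Subgroup.centralizer ({s} : Set G)) *
          (Finset.univ.filter (fun t : G => IsConj s t)).card < x * Inv.card :=
        Nat.mul_lt_mul_of_lt_of_le hlt hle1 hTpos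
      rw [h7, mul_comm x, hTx] at this
      exact lt_irrefl _ this
    refine ⟨hCeq, ?_⟩
    apply Finset.eq_of_subset_of_card_le hsub
    rw [hCeq, ← hTx, mul_comm] at h7
    exact (Nat.eq_of_mul_eq_mul_right hxpos h7).ge
  refine ⟨?_, ?_, hν1⟩
  · intro s t hs ht
    have h8 := (hcls s hs).2
    have ht' : t ∈ Inv := by rw [hInv, Finset.mem_filter]; exact ⟨Finset.mem_univ _, ht⟩
    rw [← h8, Finset.mem_filter] at ht'
    exact ht'.2
  · intro s hs
    have hCeq := (hcls s hs).1
    refine ⟨hCeq, ?_⟩
    have hidx : x * (Subgroup.centralizer ({s} : Set G)).index = Nat.card G := by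
      rw [← hCeq]
      exact Subgroup.card_mul_index _
    apply Nat.coprime_of_dvd
    intro q hq hqC hqi
    by_cases hq2 : q = 2
    · subst hq2
      exact not_dvd_of_full Nat.prime_two hGne h2 hidx hqi
    · haveI : Fact q.Prime := ⟨hq⟩
      obtain ⟨c, hc⟩ := exists_prime_orderOf_dvd_card' (G := ↥(Subgroup.centralizer ({s} : Set G)))
        q hqC
      have hcG : orderOf (c : G) = q := by rw [Subgroup.orderOf_coe, hc]
      have hcomm : (c : G) * s = s * c := (mem_centralizer_singleton.mp c.2).symm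
      have hex := hrel s hs (c : G) hcomm q hq hq2 (by rw [hcG])
      exact not_dvd_of_full hq hGne (hp q hq hq2 hex) hidx hqi

end Cfsg.Agent.S4478
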