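import Cfsg.Statements.S4479
import Mathlib
import Cfsg.Agent.Lib.Helper7.OrderFormulaFour

set_option autoImplicit false
open Cfsg

namespace Cfsg.Agent.S4479

/-- An order formula from the principal 2-block. Let G be a finite group of order 4·g₀ with g₀ odd having no normal 2-complement (no normal subgroup of order g₀); let P be a Sylow 2-subgroup, J an involution of P, and fix a maximal ideal M of the algebraic integers containing 2. Suppose the principal 2-block consists of the principal character and three further distinct characters χ₁, χ₂, χ₃ of degrees x₁, x₂, x₃, with χ_i(J) = ε_i = ±1. Then, writing c(J) and c(P) for the orders of the centralizers of J and of P, the order of G equals 8·α·c(J)³/c(P)² with α = x₁x₂x₃ / ((x₁ + ε₁)(x₂ + ε₂)(x₃ + ε₃)). -/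
theorem result {G : Type*} [Group G] [Finite G] (M : Ideal Cfsg.AlgInt) (hM : Cfsg.IsPModular 2 M) (g₀ : ℕ) (hg₀ : Odd g₀) (hG : Nat.card G = 4 * g₀) (hnc : ¬ ∃ N : Subgroup G, N.Normal ∧ Nat.card N = g₀) (P : Sylow 2 G) (J : G) (hJ : J ∈ (P : Subgroup G)) (hJ2 : orderOf J = 2) (χ₁ χ₂ χ₃ : Cfsg.IrrCharacter G) (ε₁ ε₂ ε₃ : ℤ) (hB : Cfsg.principalBlock M G = {χ : Cfsg.IrrCharacter G | (χ : G → ℂ) = (fun _ => 1) ∨ χ = χ₁ ∨ χ = χ₂ ∨ χ = χ₃}) (hdist : (χ₁ : G → ℂ) ≠ (fun _ => 1) ∧ (χ₂ : G → ℂ) ≠ (fun _ => 1) ∧ (χ₃ : G → ℂ) ≠ (fun _ => 1) ∧ χ₁ ≠ χ₂ ∧ χ₁ ≠ χ₃ ∧ χ₂ ≠ χ₃) (hε : (ε₁ = 1 ∨ ε₁ = -1) ∧ (ε₂ = 1 ∨ ε₂ = -1) ∧ (ε₃ = 1 ∨ ε₃ = -1)) (hval : (χ₁ : G → ℂ) J = ε₁ ∧ (χ₂ : G → ℂ) J = ε₂ ∧ (χ₃ : G → ℂ) J = ε₃) : (Nat.card G : ℚ) = 8 * (((Cfsg.charDegree (χ₁ : G → ℂ) : ℚ) * Cfsg.charDegree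 (χ₂ : G → ℂ) * Cfsg.charDegree (χ₃ : G → ℂ)) / ((Cfsg.charDegree (χ₁ : G → ℂ) + ε₁) * (Cfsg.charDegree (χ₂ : G → ℂ) + ε₂) * (Cfsg.charDegree (χ₃ : G → ℂ) + ε₃))) * (Nat.card (Subgroup.centralizer ({J} : Set G)) : ℚ) ^ 3 / (Nat.card (Subgroup.centralizer ((P : Subgroup G) : Set G)) : ℚ) ^ 2 := by
  classical
  letI : Fintype G := Fintype.ofFinite G
  obtain ⟨hE1, hE2⟩ := Cfsg.Agent.Lib.Helper7.order_formula_four M hM g₀ hg₀ hG hnc P J hJ hJ2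
    χ₁ χ₂ χ₃ ε₁ ε₂ ε₃ hB hdist hε hval
  obtain ⟨x₁, hx₁⟩ : ∃ x₁ : ℚ, x₁ = (Cfsg.charDegree (χ₁ : G → ℂ) : ℚ) := ⟨_, rfl⟩
  obtain ⟨x₂, hx₂⟩ : ∃ x₂ : ℚ, x₂ = (Cfsg.charDegree (χ₂ : G → ℂ) : ℚ) := ⟨_, rfl⟩
  obtain ⟨x₃, hx₃⟩ : ∃ x₃ : ℚ, x₃ = (Cfsg.charDegree (χ₃ : G → ℂ) : ℚ) := ⟨_, rfl⟩
  obtain ⟨n, hn⟩ : ∃ n : ℚ, n = (Nat.card G : ℚ) := ⟨_, rfl⟩
  obtain ⟨cJ, hcJ⟩ : ∃ cJ : ℚ, cJ = (Nat.card (Subgroup.centralizer ({J} : Set G)) : ℚ) :=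
    ⟨_, rfl⟩
  obtain ⟨cP, hcP⟩ : ∃ cP : ℚ,
      cP = (Nat.card (Subgroup.centralizer ((P : Subgroup G) : Set G)) : ℚ) := ⟨_, rfl⟩
  obtain ⟨e₁, he₁⟩ : ∃ e₁ : ℚ, e₁ = (ε₁ : ℚ) := ⟨_, rfl⟩
  obtain ⟨e₂, he₂⟩ : ∃ e₂ : ℚ, e₂ = (ε₂ : ℚ) := ⟨_, rfl⟩
  obtain ⟨e₃, he₃⟩ : ∃ e₃ : ℚ, e₃ = (ε₃ : ℚ) := ⟨_, rfl⟩
  rw [← hx₁, ← hx₂, ← hx₃, ← hn, ← hcJ, ← hcP, ← he₁, ← he₂, ← he₃] at hE1
  rw [← hx₁, ← hx₂, ← hx₃, ← he₁, ← he₂, ← he₃] at hE2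
  rw [← hx₁, ← hx₂, ← hx₃, ← hn, ← hcJ, ← hcP, ← he₁, ← he₂, ← he₃]
  have hx₁0 : x₁ ≠ 0 := by
    rw [hx₁]; exact_mod_cast (Cfsg.Agent.Lib.Helper7.irr_charDegree_pos χ₁).ne'
  have hx₂0 : x₂ ≠ 0 := by
    rw [hx₂]; exact_mod_cast (Cfsg.Agent.Lib.Helper7.irr_charDegree_pos χ₂).ne'
  have hx₃0 : x₃ ≠ 0 := by
    rw [hx₃]; exact_mod_cast (Cfsg.Agent.Lib.Helper7.irr_charDegree_pos χ₃).ne'
  have hcJ0 : cJ ≠ 0 := by rw [hcJ]; exact_mod_cast Nat.card_pos.ne'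
  have hcP0 : cP ≠ 0 := by rw [hcP]; exact_mod_cast Nat.card_pos.ne'
  have hsq : ∀ ε : ℤ, (ε = 1 ∨ ε = -1) → (ε : ℚ) * (ε : ℚ) = 1 := by
    rintro ε (h | h) <;> rw [h] <;> norm_num
  have h1 : e₁ * e₁ = 1 := by rw [he₁]; exact hsq ε₁ hε.1
  have h2 : e₂ * e₂ = 1 := by rw [he₂]; exact hsq ε₂ hε.2.1
  have h3 : e₃ * e₃ = 1 := by rw [he₃]; exact hsq ε₃ hε.2.2
  -- the key identity
  have hD : (x₁ + e₁) * (x₂ + e₂) * (x₃ + e₃)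
      = (1 + e₁ / x₁ + e₂ / x₂ + e₃ / x₃) * (x₁ * x₂ * x₃) := by
    field_simp
    linear_combination (e₁ * e₂ * e₃) * hE2 - (e₁ * e₂ * x₃) * h3 - (e₁ * e₃ * x₂) * h2
      - (e₂ * e₃ * x₁) * h1
  have hA0 : (1 + e₁ / x₁ + e₂ / x₂ + e₃ / x₃) ≠ 0 := by
    intro h
    rw [h, mul_zero, zero_mul] at hE1
    exact (mul_ne_zero (by norm_num) (pow_ne_zero 3 hcJ0)) hE1.symm
  have hD0 : (x₁ + e₁) * (x₂ + e₂) * (x₃ + e₃) ≠ 0 := by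
    rw [hD]
    exact mul_ne_zero hA0 (mul_ne_zero (mul_ne_zero hx₁0 hx₂0) hx₃0)
  have hcP2 : cP ^ 2 ≠ 0 := pow_ne_zero 2 hcP0
  rw [eq_div_iff hcP2, mul_assoc 8, div_mul_eq_mul_div, mul_div_assoc', eq_div_iff hD0, hD]
  linear_combination (x₁ * x₂ * x₃) * hE1

end Cfsg.Agent.S4479
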