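import Cfsg.Statements.S4480
import Mathlib
import Cfsg.Agent.Lib.Helper7.OrderFormulaFour
import Cfsg.Agent.Lib.Helper25.FSBlock
import Cfsg.Agent.Lib.Helper25.Symplectic

set_option autoImplicit false
open Cfsg
open scoped ComplexConjugate

namespace Cfsg.Agent.S4480

open Cfsg.Agent.Lib.Helper24 Cfsg.Agent.Lib.Helper25 Cfsg.Agent.Lib.Helper25.FSBlock
open Cfsg.Agent.Lib.Helper25.Symplectic Cfsg.Agent.Lib.Helper7

/-- The arithmetic endgame. -/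
theorem arith (n cJ cP t k r : ℕ) (hk : n = k * cJ) (hr : cJ = r * cP) (hcJ : 0 < cJ)
    (hcP : 0 < cP) (hE : n * (t + 1) ^ 2 * cP ^ 2 = 4 * cJ ^ 3 * (t * (2 * t + 1))) :
    ∃ m : ℕ, 4 * cJ = m * cP * ((2 * t + 1) + 1) ∧
      8 * n = m ^ 3 * cP * ((2 * t + 1) ^ 3 - (2 * t + 1)) := by
  have hr0 : 0 < r := by
    rcases Nat.eq_zero_or_pos r with h | h
    · rw [h, zero_mul] at hr; omega
    · exact h
  -- `k (t+1)² = 4 r² t (2t+1)`
  have h1 : k * (t + 1) ^ 2 = 4 * r ^ 2 * (t * (2 * t + 1)) := by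
    have h2 : (cJ * cP ^ 2) * (k * (t + 1) ^ 2) = (cJ * cP ^ 2) * (4 * r ^ 2 * (t * (2 * t + 1))) := by
      have e1 : (cJ * cP ^ 2) * (k * (t + 1) ^ 2) = n * (t + 1) ^ 2 * cP ^ 2 := by
        rw [hk]; ring
      have e2 : (cJ * cP ^ 2) * (4 * r ^ 2 * (t * (2 * t + 1)))
          = 4 * cJ ^ 3 * (t * (2 * t + 1)) := by
        have : cJ ^ 3 = cJ * (r * cP) ^ 2 := by rw [← hr]; ring
        rw [this]; ring
      rw [e1, e2, hE]
    exact Nat.eq_of_mul_eq_mul_left (Nat.mul_pos hcJ (pow_pos hcP 2)) h2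
  have hcop : Nat.Coprime ((t + 1) ^ 2) (t * (2 * t + 1)) := by
    apply Nat.Coprime.pow_left
    apply Nat.Coprime.mul_right
    · have : Nat.Coprime t (t + 1) := by simp
      exact this.symm
    · have h : 2 * t + 1 = t + (t + 1) := by ring
      rw [h]
      simp
  have hdvd : (t + 1) ^ 2 ∣ (2 * r) ^ 2 := by
    have h2 : (t + 1) ^ 2 ∣ (2 * r) ^ 2 * (t * (2 * t + 1)) := by
      refine ⟨k, ?_⟩
      have : (2 * r) ^ 2 = 4 * r ^ 2 := by ring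
      rw [this, ← h1]; ring
    exact hcop.dvd_of_dvd_mul_right h2
  have hdvd' : (t + 1) ∣ 2 * r := (Nat.pow_dvd_pow_iff (by norm_num)).1 hdvd
  obtain ⟨m, hm⟩ := hdvd'
  refine ⟨m, ?_, ?_⟩
  · rw [hr]
    have : 4 * (r * cP) = 2 * (2 * r) * cP := by ring
    rw [this, hm]; ring
  · -- `2 n = m³ (t+1) cP t (2t+1)`
    have h3 : n * (t + 1) ^ 2 = 4 * r ^ 3 * cP * (t * (2 * t + 1)) := by
      have h4 : cP ^ 2 * (n * (t + 1) ^ 2) = cP ^ 2 * (4 * r ^ 3 * cP * (t * (2 * t + 1))) := by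
        have e1 : cP ^ 2 * (n * (t + 1) ^ 2) = n * (t + 1) ^ 2 * cP ^ 2 := by ring
        rw [e1, hE, hr]; ring
      exact Nat.eq_of_mul_eq_mul_left (pow_pos hcP 2) h4
    have h5 : (t + 1) ^ 2 * (2 * n) = (t + 1) ^ 2 * (m ^ 3 * (t + 1) * cP * (t * (2 * t + 1))) := by
      have e1 : (t + 1) ^ 2 * (2 * n) = 2 * (n * (t + 1) ^ 2) := by ring
      have e2 : (2 * r) ^ 3 = 8 * r ^ 3 := by ring
      have e3 : (t + 1) ^ 2 * (m ^ 3 * (t + 1) * cP * (t * (2 * t + 1)))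
          = ((t + 1) * m) ^ 3 * cP * (t * (2 * t + 1)) := by ring
      rw [e1, h3, e3, ← hm, e2]; ring
    have h6 : 2 * n = m ^ 3 * (t + 1) * cP * (t * (2 * t + 1)) :=
      Nat.eq_of_mul_eq_mul_left (pow_pos (Nat.succ_pos t) 2) h5
    have h7 : (2 * t + 1) ^ 3 = 4 * t * (t + 1) * (2 * t + 1) + (2 * t + 1) := by ring
    rw [h7, Nat.add_sub_cancel]
    have : 8 * n = 4 * (2 * n) := by ring
    rw [this, h6]; ring

theorem bar_ne_one {G : Type*} [Group G] [Fintype G] (χ : Cfsg.IrrCharacter G)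
    (h : (χ : G → ℂ) ≠ (fun _ => 1)) : (barIrr χ : G → ℂ) ≠ (fun _ => 1) := by
  intro h'
  apply h
  funext g
  have h1 := congrFun h' g
  rw [barIrr_apply] at h1
  have h2 := congrArg conj h1
  simpa using h2

/-- Same setting as the Klein-four order formula: G of order 4·g₀ (g₀ odd) with no normal 2-complement, P a Sylow 2-subgroup, J an involution of P, M over 2, principal 2-block {1, χ₁, χ₂, χ₃} with χ_i(J) = ε_i = ±1. Suppose ε₁ε₂ε₃ = −1 and ε₃ = −1, and put q = x₃ = χ₃(1). Then there is a natural number m with 4·c(J) = m·c(P)·(q + 1), and the order of G equals (m³·c(P)/4)·(q³ − q)/2, that is 8·#G = m³·c(P)·(q³ − q). -/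
theorem result {G : Type*} [Group G] [Finite G] (M : Ideal Cfsg.AlgInt) (hM : Cfsg.IsPModular 2 M) (g₀ : ℕ) (hg₀ : Odd g₀) (hG : Nat.card G = 4 * g₀) (hnc : ¬ ∃ N : Subgroup G, N.Normal ∧ Nat.card N = g₀) (P : Sylow 2 G) (J : G) (hJ : J ∈ (P : Subgroup G)) (hJ2 : orderOf J = 2) (χ₁ χ₂ χ₃ : Cfsg.IrrCharacter G) (ε₁ ε₂ ε₃ : ℤ) (hB : Cfsg.principalBlock M G = {χ : Cfsg.IrrCharacter G | (χ : G → ℂ) = (fun _ => 1) ∨ χ = χ₁ ∨ χ = χ₂ ∨ χ = χ₃}) (hdist : (χ₁ : G → ℂ) ≠ (fun _ => 1) ∧ (χ₂ : G → ℂ) ≠ (fun _ => 1) ∧ (χ₃ : G → ℂ) ≠ (fun _ => 1) ∧ χ₁ ≠ χ₂ ∧ χ₁ ≠ χ₃ ∧ χ₂ ≠ χ₃) (hε : (ε₁ = 1 ∨ ε₁ = -1) ∧ (ε₂ = 1 ∨ ε₂ = -1) ∧ (ε₃ = 1 ∨ ε₃ = -1)) (hval : (χ₁ : G → ℂ) J = ε₁ ∧ (χ₂ : G → ℂ) J = ε₂ ∧ (χ₃ : G → ℂ) J = ε₃) (hprod : ε₁ * ε₂ * ε₃ = -1) (hε₃ : ε₃ = -1) : ∃ m : ℕ, 4 * Nat.card (Subgroup.centralizer ({J} : Set G)) = m * Nat.card (Subgroup.centralizer ((P : Subgroup G) : Set G))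 * (Cfsg.charDegree (χ₃ : G → ℂ) + 1) ∧ 8 * Nat.card G = m ^ 3 * Nat.card (Subgroup.centralizer ((P : Subgroup G) : Set G)) * (Cfsg.charDegree (χ₃ : G → ℂ) ^ 3 - Cfsg.charDegree (χ₃ : G → ℂ)) := by
  classical
  letI : Fintype G := Fintype.ofFinite G
  haveI : Fintype (Cfsg.IrrCharacter G) := Fintype.ofFinite _
  haveI : Fact (Nat.Prime 2) := ⟨Nat.prime_two⟩
  obtain ⟨hE1, hE2⟩ := order_formula_four M hM g₀ hg₀ hG hnc P J hJ hJ2
    χ₁ χ₂ χ₃ ε₁ ε₂ ε₃ hB hdist hε hval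
  obtain ⟨hV, hN⟩ := kleinFour_of_card_four_mul g₀ hg₀ hG hnc P
  obtain ⟨x₁, hx₁⟩ : ∃ x₁ : ℕ, x₁ = Cfsg.charDegree (χ₁ : G → ℂ) := ⟨_, rfl⟩
  obtain ⟨x₂, hx₂⟩ : ∃ x₂ : ℕ, x₂ = Cfsg.charDegree (χ₂ : G → ℂ) := ⟨_, rfl⟩
  obtain ⟨x₃, hx₃⟩ : ∃ x₃ : ℕ, x₃ = Cfsg.charDegree (χ₃ : G → ℂ) := ⟨_, rfl⟩
  obtain ⟨n, hn⟩ : ∃ n : ℕ, n = Nat.card G := ⟨_, rfl⟩
  obtain ⟨cJ, hcJ⟩ : ∃ cJ : ℕ, cJ = Nat.card (Subgroup.centralizer ({J} : Set G)) := ⟨_, rfl⟩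
  obtain ⟨cP, hcP⟩ : ∃ cP : ℕ,
      cP = Nat.card (Subgroup.centralizer ((P : Subgroup G) : Set G)) := ⟨_, rfl⟩
  rw [← hx₁, ← hx₂, ← hx₃, ← hn, ← hcJ, ← hcP] at hE1
  rw [← hx₁, ← hx₂, ← hx₃] at hE2
  rw [← hx₃, ← hn, ← hcJ, ← hcP]
  have hx₁pos : 0 < x₁ := by rw [hx₁]; exact irr_charDegree_pos χ₁
  have hx₂pos : 0 < x₂ := by rw [hx₂]; exact irr_charDegree_pos χ₂
  have hx₃pos : 0 < x₃ := by rw [hx₃]; exact irr_charDegree_pos χ₃
  have hcJpos : 0 < cJ := by rw [hcJ]; exact Nat.card_pos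
  have hcPpos : 0 < cP := by rw [hcP]; exact Nat.card_pos
  obtain ⟨hv1, hv2, hv3⟩ := hval
  -- the signs
  have he12 : ε₁ = 1 ∧ ε₂ = 1 := by
    have hx₁q : (1 : ℚ) ≤ x₁ := by exact_mod_cast hx₁pos
    have hx₂q : (1 : ℚ) ≤ x₂ := by exact_mod_cast hx₂pos
    have hx₃q : (1 : ℚ) ≤ x₃ := by exact_mod_cast hx₃pos
    rcases hε.1 with h1 | h1 <;> rcases hε.2.1 with h2 | h2
    · exact ⟨h1, h2⟩
    · exfalso; rw [h1, h2, hε₃] at hprod; norm_num at hprod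
    · exfalso; rw [h1, h2, hε₃] at hprod; norm_num at hprod
    · exfalso
      rw [h1, h2, hε₃] at hE2
      push_cast at hE2
      linarith
  obtain ⟨he1, he2⟩ := he12
  rw [he1, he2, hε₃] at hE1 hE2
  rw [he1] at hv1
  rw [he2] at hv2
  rw [hε₃] at hv3
  have hq : x₃ = 1 + x₁ + x₂ := by
    have : (x₃ : ℚ) = 1 + x₁ + x₂ := by
      push_cast at hE2; linarith
    exact_mod_cast this
  -- class size of `J` is odd, so the degrees are odd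
  have hPleJ : (P : Subgroup G) ≤ Subgroup.centralizer ({J} : Set G) := by
    intro s hs
    rw [Subgroup.mem_centralizer_iff]
    intro y hy
    rw [Set.mem_singleton_iff] at hy
    rw [hy]
    exact kc_comm P hV hJ hs
  have hCPleJ : Subgroup.centralizer ((P : Subgroup G) : Set G)
      ≤ Subgroup.centralizer ({J} : Set G) := by
    apply Subgroup.centralizer_le
    intro y hy
    rw [Set.mem_singleton_iff] at hy
    rw [hy]; exact hJ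
  have h4dvd : 4 ∣ cJ := by
    rw [hcJ, ← hV.card_four]
    exact Subgroup.card_dvd_of_le hPleJ
  have hidx : cJ * (Subgroup.centralizer ({J} : Set G)).index = n := by
    rw [hcJ, hn]; exact Subgroup.card_mul_index _
  have hidx_odd : Odd (Subgroup.centralizer ({J} : Set G)).index := by
    obtain ⟨c, hc⟩ := h4dvd
    have : c * (Subgroup.centralizer ({J} : Set G)).index = g₀ := by
      have h1 : 4 * (c * (Subgroup.centralizer ({J} : Set G)).index) = 4 * g₀ := by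
        rw [← hG, ← hn, ← hidx, hc]; ring
      omega
    exact Odd.of_dvd_nat hg₀ ⟨c, by rw [← this]; ring⟩
  have hodd1 : Odd x₁ := by
    rw [hx₁]
    exact Odd.of_dvd_nat hidx_odd (charDegree_dvd_index_of_unit χ₁ J 1 (Or.inl rfl) hv1)
  have hodd2 : Odd x₂ := by
    rw [hx₂]
    exact Odd.of_dvd_nat hidx_odd (charDegree_dvd_index_of_unit χ₂ J 1 (Or.inl rfl) hv2)
  have hodd3 : Odd x₃ := by
    rw [hx₃]
    exact Odd.of_dvd_nat hidx_odd (charDegree_dvd_index_of_unit χ₃ J (-1) (Or.inr rfl) hv3)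
  -- Frobenius–Schur indicators
  obtain ⟨ν, hν⟩ : ∃ ν : Cfsg.IrrCharacter G → ℂ,
      ν = fun χ : Cfsg.IrrCharacter G =>
        (Nat.card G : ℂ)⁻¹ * ∑ s : G, (χ : G → ℂ) (s * s) := ⟨_, rfl⟩
  have hsum := sum_fs_mul_conj_eq_zero hM (Cfsg.principalBlock M G) isPBlock_principalBlock J
    (by rw [hJ2]) (not_two_dvd_orderOf_sq P hV)
  rw [finsum_mem_eq_sum_ite, sum_principalBlock_four M χ₁ χ₂ χ₃ hB hdist
    (fun χ => ((Nat.card G : ℂ)⁻¹ * ∑ s : G, (χ : G → ℂ) (s * s)) * conj ((χ : G → ℂ) J))] at hsum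
  have hνt : (Nat.card G : ℂ)⁻¹ * ∑ s : G, (trivIrr G : G → ℂ) (s * s) = 1 := by
    simp only [trivIrr_apply, Finset.sum_const, Finset.card_univ, nsmul_eq_mul, mul_one]
    rw [← Nat.card_eq_fintype_card]
    exact inv_mul_cancel₀ (by exact_mod_cast Nat.card_pos.ne')
  have hsum' : 1 + ν χ₁ + ν χ₂ - ν χ₃ = 0 := by
    rw [hν]
    simp only
    rw [← hsum, hνt, hv1, hv2, hv3, trivIrr_apply]
    simp
    ring
  have hfs : ∀ χ : Cfsg.IrrCharacter G, (barIrr χ ≠ χ → ν χ = 0) ∧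
      (barIrr χ = χ → (ν χ = 1 ∨ ν χ = -1)) := by
    intro χ
    rw [hν]
    exact fs_cases χ
  have hneg : ∀ χ : Cfsg.IrrCharacter G, Odd (Cfsg.charDegree (χ : G → ℂ)) → ν χ ≠ -1 := by
    intro χ hodd h
    rw [hν] at h
    have := even_degree_of_fs_neg_one χ h
    exact (Nat.not_even_iff_odd.2 hodd) this
  have hbar : ∀ χ : Cfsg.IrrCharacter G, χ ∈ Cfsg.principalBlock M G →
      (barIrr χ : G → ℂ) = (fun _ => 1) ∨ barIrr χ = χ₁ ∨ barIrr χ = χ₂ ∨ barIrr χ = χ₃ := by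
    intro χ hχ
    have := barIrr_mem_principalBlock χ hχ
    rw [hB] at this
    exact this
  have hmem1 : χ₁ ∈ Cfsg.principalBlock M G := by rw [hB]; right; left; rfl
  have hmem3 : χ₃ ∈ Cfsg.principalBlock M G := by rw [hB]; right; right; right; rfl
  obtain ⟨hd1, hd2, hd3, hd12, hd13, hd23⟩ := hdist
  -- `χ₃` is real
  have hreal3 : barIrr χ₃ = χ₃ := by
    by_contra hne
    rcases hbar χ₃ hmem3 with h | h | h | h
    · exact bar_ne_one χ₃ hd3 h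
    · have := charDegree_barIrr χ₃
      rw [h, ← hx₁, ← hx₃] at this
      omega
    · have := charDegree_barIrr χ₃
      rw [h, ← hx₂, ← hx₃] at this
      omega
    · exact hne h
  have hν3 : ν χ₃ = 1 := by
    rcases (hfs χ₃).2 hreal3 with h | h
    · exact h
    · exact absurd h (hneg χ₃ (by rw [← hx₃]; exact hodd3))
  -- `χ₁` is not real
  have hnreal1 : barIrr χ₁ ≠ χ₁ := by
    intro hre
    have hν1 : ν χ₁ = 1 := by
      rcases (hfs χ₁).2 hre with h | h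
      · exact h
      · exact absurd h (hneg χ₁ (by rw [← hx₁]; exact hodd1))
    have hν2 : ν χ₂ = -1 := by
      rw [hν1, hν3] at hsum'
      linear_combination hsum'
    exact hneg χ₂ (by rw [← hx₂]; exact hodd2) hν2
  have hbar1 : barIrr χ₁ = χ₂ := by
    rcases hbar χ₁ hmem1 with h | h | h | h
    · exact absurd h (bar_ne_one χ₁ hd1)
    · exact absurd h hnreal1
    · exact h
    · exfalso
      have h2 : χ₁ = χ₃ := by
        rw [← barIrr_barIrr χ₁, h, hreal3]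
      exact hd13 h2
  have hx12 : x₂ = x₁ := by
    have := charDegree_barIrr χ₁
    rw [hbar1, ← hx₁, ← hx₂] at this
    exact this
  have hq' : x₃ = 2 * x₁ + 1 := by rw [hq, hx12]; ring
  -- the arithmetic
  obtain ⟨r, hr⟩ : cP ∣ cJ := by
    rw [hcP, hcJ]; exact Subgroup.card_dvd_of_le hCPleJ
  have hE : n * (x₁ + 1) ^ 2 * cP ^ 2 = 4 * cJ ^ 3 * (x₁ * (2 * x₁ + 1)) := by
    have hx₁ne : (x₁ : ℚ) ≠ 0 := by exact_mod_cast hx₁pos.ne'
    have hx₃ne : (2 * (x₁ : ℚ) + 1) ≠ 0 := by positivity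
    rw [hx12, hq'] at hE1
    push_cast at hE1
    have : (n : ℚ) * ((x₁ : ℚ) + 1) ^ 2 * (cP : ℚ) ^ 2
        = 4 * (cJ : ℚ) ^ 3 * ((x₁ : ℚ) * (2 * (x₁ : ℚ) + 1)) := by
      have h0 : (n : ℚ) * (1 + 1 / (x₁ : ℚ) + 1 / (x₁ : ℚ) + -1 / (2 * (x₁ : ℚ) + 1)) * (cP : ℚ) ^ 2
          = 8 * (cJ : ℚ) ^ 3 := hE1
      field_simp at h0
      linear_combination h0 / 2
    exact_mod_cast this
  rw [hq']
  exact arith n cJ cP x₁ (Subgroup.centralizer ({J} : Set G)).index r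
    (by rw [← hidx]; ring) (by rw [hr]; ring) hcJpos hcPpos hE

end Cfsg.Agent.S4480
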