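import Cfsg.Statements.S4489
import Cfsg.Agent.Lib.Helper24.PGroupField

set_option autoImplicit false
set_option linter.style.haveILetI false
open Cfsg

namespace Cfsg.Agent.S4489

open Cfsg.Agent.Lib.Helper24

/-- Let P be a finite p-group of order p^a with a > 0, and χ a faithful irreducible character of P of degree f whose field of values ℚ(χ) has degree (p − 1)·p^t over ℚ. Then a ≤ (f − 1)/(p − 1) + (t + 1)·f; in integer form, (p − 1)·a ≤ (f − 1) + (p − 1)(t + 1)·f. -/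
theorem result {P : Type*} [Group P] [Finite P] (p a : ℕ) (hp : p.Prime) (ha : 0 < a) (hP : Nat.card P = p ^ a) (χ : Cfsg.IrrCharacter P) (hfaith : ∀ g : P, (χ : P → ℂ) g = (χ : P → ℂ) 1 → g = 1) (f t : ℕ) (hf : Cfsg.charDegree (χ : P → ℂ) = f) (hfield : Module.finrank ℚ (IntermediateField.adjoin ℚ (Set.range (χ : P → ℂ))) = (p - 1) * p ^ t) : (p - 1) * a ≤ (f - 1) + (p - 1) * (t + 1) * f := by
  haveI : Fact p.Prime := ⟨hp⟩
  haveI : NeZero (p ^ a) := ⟨pow_ne_zero _ hp.ne_zero⟩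
  have hχc := Cfsg.Agent.Lib.Helper25.isCharacter_of_irr χ.2
  have hbridge := GalTwist.totient_le_card_galStab_mul_finrank (p ^ a) (by rw [hP]) hχc
  rw [hfield, Nat.totient_prime_pow hp ha] at hbridge
  have hp1 : 0 < p - 1 := by have := hp.two_le; omega
  have hS : p ^ a ≤ (GalTwist.galStab (p ^ a) (χ : P → ℂ)).card * p ^ (t + 1) := by
    have h1 : p ^ (a - 1) * (p - 1)
        ≤ ((GalTwist.galStab (p ^ a) (χ : P → ℂ)).card * p ^ t) * (p - 1) := by
      calc p ^ (a - 1) * (p - 1)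
          ≤ (GalTwist.galStab (p ^ a) (χ : P → ℂ)).card * ((p - 1) * p ^ t) := hbridge
        _ = ((GalTwist.galStab (p ^ a) (χ : P → ℂ)).card * p ^ t) * (p - 1) := by ring
    have h2 := Nat.le_of_mul_le_mul_right h1 hp1
    obtain ⟨a', rfl⟩ := Nat.exists_eq_succ_of_ne_zero ha.ne'
    rw [Nat.succ_sub_one] at h2
    calc p ^ (a' + 1) = p ^ a' * p := pow_succ _ _
      _ ≤ ((GalTwist.galStab (p ^ (a' + 1)) (χ : P → ℂ)).card * p ^ t) * p :=
          Nat.mul_le_mul_right _ h2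
      _ = (GalTwist.galStab (p ^ (a' + 1)) (χ : P → ℂ)).card * p ^ (t + 1) := by ring
  have hNk : ∀ g : P, g ∈ (⊥ : Subgroup P) ↔ (χ : P → ℂ) g = (χ : P → ℂ) 1 := by
    intro g
    rw [Subgroup.mem_bot]
    constructor
    · intro h
      rw [h]
    · exact hfaith g
  have hidx : (⊥ : Subgroup P).index = p ^ a := by
    rw [Subgroup.index_bot, hP]
  have hmain := PGroupField.main p a ha a P hP le_rfl (χ : P → ℂ) χ.2 ⊥ hNk a t hidx hS
  rw [hf] at hmain
  exact hmain

end Cfsg.Agent.S4489
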