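import Mathlib
import Cfsg.Statements.S4490
import Cfsg.Agent.Lib.Helper24.SigmaStable

set_option autoImplicit false
open Cfsg

namespace Cfsg.Agent.S4490

open Cfsg.Agent.Lib.Helper2 Cfsg.Agent.Lib.Helper24
open scoped ComplexConjugate

/-- Let G be a finite group and M a maximal ideal of the algebraic integers containing 2. Every 2-block B of G whose defect groups are the Sylow 2-subgroups of G (a block of full defect) and which is not the principal block is different from its complex-conjugate block, the block formed by the complex conjugates of the members of B. -/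
theorem result {G : Type*} [Group G] [Finite G] (M : Ideal Cfsg.AlgInt) (hM : Cfsg.IsPModular 2 M) (B : Set (Cfsg.IrrCharacter G)) (hB : Cfsg.IsPBlock M B) (P : Sylow 2 G) (hfull : Cfsg.IsDefectGroup 2 M B (P : Subgroup G)) (hnp : B ≠ Cfsg.principalBlock M G) : {ψ : Cfsg.IrrCharacter G | ∃ χ ∈ B, (ψ : G → ℂ) = fun g => (starRingEnd ℂ) ((χ : G → ℂ) g)} ≠ B := by
  classical
  haveI : Fintype G := Fintype.ofFinite G
  haveI : Fact (Nat.Prime 2) := ⟨Nat.prime_two⟩
  intro hEq
  apply hnp
  have hcardpos : 0 < Nat.card G := Nat.card_pos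
  have hk₂ : ∀ g : G, g ^ (Nat.card G - 1) = g⁻¹ := by
    intro g
    have h1 : g ^ (Nat.card G - 1) * g = 1 := by
      rw [← pow_succ, Nat.sub_add_cancel hcardpos, pow_card_eq_one']
    exact eq_inv_of_mul_eq_one_left h1
  have hdef : Cfsg.blockDefect 2 B = (Nat.card G).factorization 2 := by
    have h1 := Cfsg.Agent.Lib.Helper7.card_of_isDefectGroup hM B hB (P : Subgroup G) hfull
    have h2 : Nat.card (P : Subgroup G) = 2 ^ (Nat.card G).factorization 2 :=
      Sylow.card_eq_multiplicity P
    rw [h1] at h2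
    exact Nat.pow_right_injective (le_refl 2) h2
  apply eq_principalBlock_of_sigma_stable hM (Nat.card G - 1) (fun g _ => hk₂ g) B hB hdef
  intro χ hχ
  have hχ' : χ ∈ {ψ : Cfsg.IrrCharacter G | ∃ χ ∈ B, (ψ : G → ℂ) = fun g => (starRingEnd ℂ) ((χ : G → ℂ) g)} := by
    rw [hEq]
    exact hχ
  obtain ⟨ψ, hψ, hval⟩ := hχ'
  refine ⟨ψ, hψ, fun g => ?_⟩
  rw [hk₂ g, IrrCharacter.apply_inv, hval]
  simp

end Cfsg.Agent.S4490
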