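import Mathlib
import Cfsg.Statements.S4496

set_option autoImplicit false
open Cfsg

namespace Cfsg.Agent.S4496

open scoped Pointwise commutatorElement

section
variable {G : Type*} [Group G] [Finite G]


/-- If `C_G(x) = ⟨x⟩` with `x` of prime order `p`, then `p` divides `|G|` exactly once. -/
theorem factorization_eq_one (p : ℕ) [Fact p.Prime] (x : G) (hx : orderOf x = p)
    (hC : Subgroup.centralizer ({x} : Set G) = Subgroup.zpowers x) :
    (Nat.card G).factorization p = 1 := by
  have hp : p.Prime := Fact.out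
  have hxp : IsPGroup p (Subgroup.zpowers x) :=
    IsPGroup.of_card (n := 1) (by rw [Nat.card_zpowers, hx, pow_one])
  obtain ⟨P, hP⟩ := hxp.exists_le_sylow
  have hxP : x ∈ (P : Subgroup G) := hP (Subgroup.mem_zpowers x)
  have hx1 : x ≠ 1 := by
    rintro rfl
    rw [orderOf_one] at hx
    exact hp.one_lt.ne hx
  haveI : Nontrivial (P : Subgroup G) := ⟨⟨⟨x, hxP⟩, 1, fun h => hx1 (congrArg Subtype.val h)⟩⟩
  haveI : Nontrivial (Subgroup.center (P : Subgroup G)) := P.isPGroup'.center_nontrivial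
  obtain ⟨⟨z, hzc⟩, hz1⟩ := exists_ne (1 : Subgroup.center (P : Subgroup G))
  have hz1' : (z : G) ≠ 1 := fun h => hz1 (Subtype.ext (Subtype.ext h))
  -- z commutes with x
  have hzx : (z : G) ∈ Subgroup.zpowers x := by
    rw [← hC, Subgroup.mem_centralizer_singleton_iff]
    have := Subgroup.mem_center_iff.mp hzc ⟨x, hxP⟩
    exact (congrArg Subtype.val this).symm
  -- zpowers z = zpowers x
  have hzz : Subgroup.zpowers (z : G) = Subgroup.zpowers x := by
    have hle : Subgroup.zpowers (z : G) ≤ Subgroup.zpowers x := by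
      rw [Subgroup.zpowers_le]; exact hzx
    apply Subgroup.eq_of_le_of_card_ge hle
    rw [Nat.card_zpowers, Nat.card_zpowers, hx]
    have hdvd : orderOf (z : G) ∣ p := by
      have := Subgroup.card_dvd_of_le hle
      rwa [Nat.card_zpowers, Nat.card_zpowers, hx] at this
    rcases (Nat.dvd_prime hp).mp hdvd with h | h
    · exact absurd (orderOf_eq_one_iff.mp h) hz1'
    · exact h.ge
  -- hence every y in P commutes with x
  have hPle : (P : Subgroup G) ≤ Subgroup.zpowers x := by
    intro y hy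
    rw [← hC, Subgroup.mem_centralizer_singleton_iff]
    have hxz : x ∈ Subgroup.zpowers (z : G) := hzz ▸ Subgroup.mem_zpowers x
    obtain ⟨k, hk⟩ := Subgroup.mem_zpowers_iff.mp hxz
    have hzy : (z : G) * y = y * z := by
      have := Subgroup.mem_center_iff.mp hzc ⟨y, hy⟩
      exact (congrArg Subtype.val this).symm
    rw [← hk]
    exact ((Commute.zpow_left hzy k).eq).symm
  have hcard : Nat.card (P : Subgroup G) = p := by
    have := Subgroup.eq_of_le_of_card_ge hP (Subgroup.card_le_of_le hPle)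
    rw [← this, Nat.card_zpowers, hx]
  have h2 := P.card_eq_multiplicity
  rw [hcard] at h2
  have : p ^ 1 = p ^ (Nat.card G).factorization p := by rw [pow_one]; exact h2
  exact (Nat.pow_right_injective hp.two_le this).symm




/-- Commutators of elements normalizing `⟨x⟩` centralize `x`. -/
theorem comm_mem_centralizer (x a b : G) (ha : a ∈ Subgroup.normalizer (Subgroup.zpowers x : Set G))
    (hb : b ∈ Subgroup.normalizer (Subgroup.zpowers x : Set G)) :
    ⁅a, b⁆ ∈ Subgroup.centralizer ({x} : Set G) := by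
  have ha' := Subgroup.inv_mem _ ha
  have hb' := Subgroup.inv_mem _ hb
  obtain ⟨i, hi⟩ := Subgroup.mem_zpowers_iff.mp
    ((Subgroup.mem_normalizer_iff.mp ha' x).mp (Subgroup.mem_zpowers x))
  obtain ⟨j, hj⟩ := Subgroup.mem_zpowers_iff.mp
    ((Subgroup.mem_normalizer_iff.mp hb' x).mp (Subgroup.mem_zpowers x))
  simp only [inv_inv] at hi hj
  -- a⁻¹ x a = x^i, b⁻¹ x b = x^j
  have h1 : a⁻¹ * (b⁻¹ * x * b) * a = x ^ (i * j) := by
    rw [← hj]
    have : a⁻¹ * x ^ j * a = (a⁻¹ * x * a) ^ j := by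
      have := map_zpow (MulAut.conj a⁻¹) x j
      simpa [MulAut.conj_apply] using this
    rw [this, ← hi, ← zpow_mul]
  have h2 : b⁻¹ * (a⁻¹ * x * a) * b = x ^ (i * j) := by
    rw [← hi]
    have : b⁻¹ * x ^ i * b = (b⁻¹ * x * b) ^ i := by
      have := map_zpow (MulAut.conj b⁻¹) x i
      simpa [MulAut.conj_apply] using this
    rw [this, ← hj, ← zpow_mul, mul_comm]
  rw [Subgroup.mem_centralizer_singleton_iff, commutatorElement_def]
  have h3 : a⁻¹ * (b⁻¹ * x * b) * a = b⁻¹ * (a⁻¹ * x * a) * b := h1.trans h2.symm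
  have h4 : x = b * a * (a⁻¹ * (b⁻¹ * x * b) * a) * a⁻¹ * b⁻¹ := by group
  calc a * b * a⁻¹ * b⁻¹ * x = a * b * (a⁻¹ * (b⁻¹ * x * b) * a) * a⁻¹ * b⁻¹ := by group
    _ = a * b * (b⁻¹ * (a⁻¹ * x * a) * b) * a⁻¹ * b⁻¹ := by rw [h3]
    _ = x * (a * b * a⁻¹ * b⁻¹) := by group

theorem part_a (p : ℕ) [Fact p.Prime] (x : G) (hx : orderOf x = p)
    (hC : Subgroup.centralizer ({x} : Set G) = Subgroup.zpowers x) (S : Subgroup G) [S.Normal]
    (hpS : p ∣ Nat.card S) : commutator G ≤ S := by
  have hp : p.Prime := Fact.out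
  have hfac := factorization_eq_one p x hx hC
  have hS0 : Nat.card S ≠ 0 := Nat.card_pos.ne'
  -- p-part of |S| is p
  have hfacS : (Nat.card S).factorization p = 1 := by
    apply le_antisymm
    · rw [← hfac]
      exact (Nat.factorization_le_iff_dvd hS0 Nat.card_pos.ne').mpr S.card_subgroup_dvd_card p
    · exact (hp.dvd_iff_one_le_factorization hS0).mp hpS
  -- the subgroup generated by x is a Sylow p-subgroup of G
  have hcx : Nat.card (Subgroup.zpowers x) = p ^ (Nat.card G).factorization p := by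
    rw [Nat.card_zpowers, hx, hfac, pow_one]
  -- x ∈ S
  have hxS : x ∈ S := by
    obtain ⟨y, hy⟩ := exists_prime_orderOf_dvd_card' (G := S) p hpS
    have hcy : Nat.card (Subgroup.zpowers (y : G)) = p ^ (Nat.card G).factorization p := by
      rw [Nat.card_zpowers, Subgroup.orderOf_coe, hy, hfac, pow_one]
    obtain ⟨g, hg⟩ := MulAction.exists_smul_eq G (Sylow.ofCard _ hcy) (Sylow.ofCard _ hcx)
    have hxm : x ∈ ((g • Sylow.ofCard _ hcy : Sylow p G) : Subgroup G) := by
      rw [hg]; exact Subgroup.mem_zpowers x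
    rw [Sylow.coe_subgroup_smul, Subgroup.mem_pointwise_smul_iff_inv_smul_mem] at hxm
    have hxm' : g⁻¹ * x * g ∈ Subgroup.zpowers (y : G) := by
      simpa [MulAut.smul_def] using hxm
    have hyS : Subgroup.zpowers (y : G) ≤ S := by
      rw [Subgroup.zpowers_le]; exact y.2
    have := hyS hxm'
    have h5 := Subgroup.Normal.conj_mem ‹S.Normal› _ this g
    have e : g * (g⁻¹ * x * g) * g⁻¹ = x := by group
    rwa [e] at h5
  -- Frattini argument
  have hcxS : Nat.card (Subgroup.zpowers (⟨x, hxS⟩ : S)) = p ^ (Nat.card S).factorization p := by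
    rw [Nat.card_zpowers, hfacS, pow_one, ← hx]
    exact (Subgroup.orderOf_mk x hxS)
  have hfr := Sylow.normalizer_sup_eq_top (Sylow.ofCard _ hcxS)
  have hmap : Subgroup.map S.subtype (Sylow.ofCard _ hcxS : Sylow p S) = Subgroup.zpowers x := by
    rw [Sylow.coe_ofCard, MonoidHom.map_zpowers]
    rfl
  rw [hmap] at hfr
  have hdecomp : ∀ g : G, ∃ n ∈ Subgroup.normalizer (Subgroup.zpowers x : Set G), ∃ s ∈ S, g = n * s := by
    intro g
    have : g ∈ Subgroup.normalizer (Subgroup.zpowers x : Set G) ⊔ S := by rw [hfr]; trivial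
    rw [← SetLike.mem_coe, Subgroup.mul_normal] at this
    obtain ⟨n, hn, s, hs, rfl⟩ := Set.mem_mul.mp this
    exact ⟨n, hn, s, hs, rfl⟩
  rw [commutator_def, Subgroup.commutator_le]
  intro g _ h _
  obtain ⟨n₁, hn₁, s₁, hs₁, rfl⟩ := hdecomp g
  obtain ⟨n₂, hn₂, s₂, hs₂, rfl⟩ := hdecomp h
  rw [← QuotientGroup.eq_one_iff]
  show (QuotientGroup.mk' S) ⁅n₁ * s₁, n₂ * s₂⁆ = 1
  rw [map_commutatorElement]
  have e1 : ((n₁ * s₁ : G) : G ⧸ S) = (n₁ : G ⧸ S) := by
    rw [QuotientGroup.mk_mul, (QuotientGroup.eq_one_iff s₁).mpr hs₁, mul_one]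
  have e2 : ((n₂ * s₂ : G) : G ⧸ S) = (n₂ : G ⧸ S) := by
    rw [QuotientGroup.mk_mul, (QuotientGroup.eq_one_iff s₂).mpr hs₂, mul_one]
  show ⁅((n₁ * s₁ : G) : G ⧸ S), ((n₂ * s₂ : G) : G ⧸ S)⁆ = 1
  rw [e1, e2]
  have := comm_mem_centralizer x n₁ n₂ hn₁ hn₂
  rw [hC] at this
  have hle : Subgroup.zpowers x ≤ S := by rw [Subgroup.zpowers_le]; exact hxS
  have h6 := (QuotientGroup.eq_one_iff _).mpr (hle this)
  rw [← h6]
  exact (map_commutatorElement (QuotientGroup.mk' S) n₁ n₂).symm




/-- Conjugation action of a subgroup `T` on a subset `A` stable under `T`-conjugation. -/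
@[reducible] def conjAct (T : Subgroup G) (A : Set G) (hA : ∀ t ∈ T, ∀ a ∈ A, t * a * t⁻¹ ∈ A) :
    MulAction T A where
  smul t a := ⟨t * a * (t : G)⁻¹, hA t t.2 a a.2⟩
  one_smul a := by
    apply Subtype.ext
    show ((1 : T) : G) * a * ((1 : T) : G)⁻¹ = a
    simp
  mul_smul s t a := by
    apply Subtype.ext
    show ((s * t : T) : G) * a * ((s * t : T) : G)⁻¹ = (s : G) * ((t : G) * a * (t : G)⁻¹) * (s : G)⁻¹
    simp only [Subgroup.coe_mul]
    group

/-- A `p`-subgroup `T` acting by conjugation on a `T`-stable set of size prime to `p` fixes a point. -/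
theorem exists_fixed (p : ℕ) [Fact p.Prime] (T : Subgroup G) (hT : IsPGroup p T) (A : Set G)
    (hA : ∀ t ∈ T, ∀ a ∈ A, t * a * t⁻¹ ∈ A) (hcard : ¬ p ∣ Nat.card A) :
    ∃ a ∈ A, ∀ t ∈ T, t * a * t⁻¹ = a := by
  letI := conjAct T A hA
  obtain ⟨a, ha⟩ := hT.nonempty_fixed_point_of_prime_not_dvd_card A hcard
  refine ⟨a, a.2, fun t ht => ?_⟩
  have := MulAction.mem_fixedPoints.mp ha ⟨t, ht⟩
  exact congrArg Subtype.val this

theorem card_mod (p : ℕ) [Fact p.Prime] (T : Subgroup G) (hT : IsPGroup p T) (A : Set G)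
    (hA : ∀ t ∈ T, ∀ a ∈ A, t * a * t⁻¹ ∈ A) (a₀ : G) (ha₀ : a₀ ∈ A)
    (hfix : ∀ a ∈ A, (∀ t ∈ T, t * a * t⁻¹ = a) ↔ a = a₀) :
    Nat.card A ≡ 1 [MOD p] := by
  letI := conjAct T A hA
  have h := hT.card_modEq_card_fixedPoints A
  have h1 : Nat.card (MulAction.fixedPoints T A) = 1 := by
    rw [Nat.card_eq_one_iff_unique]
    constructor
    · constructor
      rintro ⟨a, ha⟩ ⟨b, hb⟩
      apply Subtype.ext
      apply Subtype.ext
      have ha' : ∀ t ∈ T, t * (a : G) * t⁻¹ = a := fun t ht =>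
        congrArg Subtype.val (MulAction.mem_fixedPoints.mp ha ⟨t, ht⟩)
      have hb' : ∀ t ∈ T, t * (b : G) * t⁻¹ = b := fun t ht =>
        congrArg Subtype.val (MulAction.mem_fixedPoints.mp hb ⟨t, ht⟩)
      show (a : G) = b
      rw [(hfix a a.2).mp ha', (hfix b b.2).mp hb']
    · refine ⟨⟨⟨a₀, ha₀⟩, ?_⟩⟩
      rw [MulAction.mem_fixedPoints]
      intro t
      apply Subtype.ext
      exact (hfix a₀ ha₀).mpr rfl t t.2
  rwa [h1] at h






/-- subgroups of order `p` correspond to Sylow `p`-subgroups when `p ∥ |G|`. -/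
theorem card_subgroups (p : ℕ) [Fact p.Prime] (hfac : (Nat.card G).factorization p = 1) :
    Nat.card {H : Subgroup G // Nat.card H = p} = Nat.card (Sylow p G) := by
  apply Nat.card_congr
  refine ⟨fun H => Sylow.ofCard H.1 (by rw [hfac, pow_one]; exact H.2),
    fun P => ⟨P, by rw [P.card_eq_multiplicity, hfac, pow_one]⟩, ?_, ?_⟩
  · intro H
    apply Subtype.ext
    simp
  · intro P
    apply Sylow.ext
    simp

theorem part_b (p : ℕ) [Fact p.Prime] (x : G) (hx : orderOf x = p)
    (hC : Subgroup.centralizer ({x} : Set G) = Subgroup.zpowers x) (S : Subgroup G) [S.Normal]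
    (hpS : ¬ p ∣ Nat.card S) :
    Nat.card S ∣ Nat.card {H : Subgroup G // Nat.card H = p} ∧ Nat.card S % p = 1 ∧
      orderOf (QuotientGroup.mk x : G ⧸ S) = p ∧
      Subgroup.centralizer ({(QuotientGroup.mk x : G ⧸ S)} : Set (G ⧸ S)) =
        Subgroup.zpowers (QuotientGroup.mk x : G ⧸ S) := by
  have hp : p.Prime := Fact.out
  have hfac := factorization_eq_one p x hx hC
  have hxp : IsPGroup p (Subgroup.zpowers x) :=
    IsPGroup.of_card (n := 1) (by rw [Nat.card_zpowers, hx, pow_one])
  have hcx : Nat.card (Subgroup.zpowers x) = p ^ (Nat.card G).factorization p := by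
    rw [Nat.card_zpowers, hx, hfac, pow_one]
  -- S ∩ ⟨x⟩ = 1
  have hdisj : ∀ y : G, y ∈ S → y ∈ Subgroup.zpowers x → y = 1 := by
    intro y hyS hyx
    have h1 : orderOf y ∣ Nat.card S := by
      have := orderOf_dvd_natCard (⟨y, hyS⟩ : S)
      rwa [Subgroup.orderOf_mk] at this
    have h2 : orderOf y ∣ p := by
      have := orderOf_dvd_natCard (⟨y, hyx⟩ : Subgroup.zpowers x)
      rwa [Subgroup.orderOf_mk, Nat.card_zpowers, hx] at this
    rcases (Nat.dvd_prime hp).mp h2 with h | h
    · exact orderOf_eq_one_iff.mp h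
    · exact absurd (h ▸ h1) hpS
  have hcent : ∀ y : G, y ∈ S → (∀ t ∈ Subgroup.zpowers x, t * y * t⁻¹ = y) → y = 1 := by
    intro y hyS hy
    apply hdisj y hyS
    rw [← hC, Subgroup.mem_centralizer_singleton_iff]
    have := hy x (Subgroup.mem_zpowers x)
    calc y * x = (x * y * x⁻¹) * x := by rw [this]
      _ = x * y := by group
  refine ⟨?_, ?_, ?_, ?_⟩
  · -- |S| divides the number of subgroups of order p
    rw [card_subgroups p hfac, Sylow.card_eq_index_normalizer (Sylow.ofCard _ hcx)]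
    show Nat.card S ∣ (Subgroup.normalizer (Subgroup.zpowers x : Set G)).index
    set N := Subgroup.normalizer (Subgroup.zpowers x : Set G) with hN
    have hSN : S ⊓ N = ⊥ := by
      rw [eq_bot_iff]
      rintro s ⟨hsS, hsN⟩
      have h1 : s * x * s⁻¹ ∈ Subgroup.zpowers x :=
        (Subgroup.mem_normalizer_iff.mp hsN x).mp (Subgroup.mem_zpowers x)
      have h2 : s * x * s⁻¹ * x⁻¹ ∈ Subgroup.zpowers x :=
        Subgroup.mul_mem _ h1 (Subgroup.inv_mem _ (Subgroup.mem_zpowers x))
      have h3 : s * x * s⁻¹ * x⁻¹ ∈ S := by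
        have := Subgroup.Normal.conj_mem ‹S.Normal› _ (S.inv_mem hsS) x
        have h4 := S.mul_mem hsS this
        have e : s * (x * s⁻¹ * x⁻¹) = s * x * s⁻¹ * x⁻¹ := by group
        rwa [e] at h4
      have h5 := hdisj _ h3 h2
      have h6 : s ∈ Subgroup.zpowers x := by
        rw [← hC, Subgroup.mem_centralizer_singleton_iff]
        calc s * x = (s * x * s⁻¹ * x⁻¹) * x * s := by group
          _ = x * s := by rw [h5, one_mul]
      exact hdisj s hsS h6
    have h1 : Nat.card S * S.relIndex (N ⊔ S) = Nat.card (N ⊔ S : Subgroup G) := by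
      have := Subgroup.relIndex_mul_relIndex ⊥ S (N ⊔ S) bot_le le_sup_right
      rwa [Subgroup.relIndex_bot_left, Subgroup.relIndex_bot_left] at this
    have h2 : S.relIndex (N ⊔ S) = Nat.card N := by
      rw [Subgroup.relIndex_sup_right, ← Subgroup.inf_relIndex_right, hSN, Subgroup.relIndex_bot_left]
    have h3 : Nat.card N * N.relIndex (N ⊔ S) = Nat.card (N ⊔ S : Subgroup G) := by
      have := Subgroup.relIndex_mul_relIndex ⊥ N (N ⊔ S) bot_le le_sup_left
      rwa [Subgroup.relIndex_bot_left, Subgroup.relIndex_bot_left] at this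
    have h4 : N.relIndex (N ⊔ S) = Nat.card S := by
      rw [h2] at h1
      have : Nat.card N * N.relIndex (N ⊔ S) = Nat.card N * Nat.card S := by
        rw [h3, ← h1, mul_comm]
      exact Nat.eq_of_mul_eq_mul_left Nat.card_pos this
    rw [← h4]
    exact Dvd.intro _ (Subgroup.relIndex_mul_index (le_sup_left : N ≤ N ⊔ S))
  · -- |S| ≡ 1 mod p
    have := card_mod p (Subgroup.zpowers x) hxp (S : Set G)
      (fun t _ a ha => Subgroup.Normal.conj_mem ‹S.Normal› a ha t) 1 S.one_mem
      (fun a ha => ⟨fun h => hcent a ha h, fun h t _ => by rw [h]; group⟩)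
    have h1 : Nat.card (S : Set G) = Nat.card S := rfl
    rw [h1] at this
    rw [this, Nat.one_mod_eq_one.mpr hp.one_lt.ne']
  · -- order of the image of x
    apply orderOf_eq_prime
    · rw [← QuotientGroup.mk_pow, ← hx, pow_orderOf_eq_one]; rfl
    · intro h
      have hxS : x ∈ S := (QuotientGroup.eq_one_iff x).mp h
      have := hdisj x hxS (Subgroup.mem_zpowers x)
      rw [this, orderOf_one] at hx
      exact hp.one_lt.ne hx
  · -- centralizer of the image of x
    apply le_antisymm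
    · intro gbar hg
      obtain ⟨g, rfl⟩ := QuotientGroup.mk_surjective gbar
      rw [Subgroup.mem_centralizer_singleton_iff] at hg
      -- the coset g S is stable under conjugation by ⟨x⟩
      have hA : ∀ t ∈ Subgroup.zpowers x, ∀ a ∈ (QuotientGroup.mk ⁻¹' {(g : G ⧸ S)} : Set G),
          t * a * t⁻¹ ∈ (QuotientGroup.mk ⁻¹' {(g : G ⧸ S)} : Set G) := by
        intro t ht a ha
        simp only [Set.mem_preimage, Set.mem_singleton_iff] at ha ⊢
        obtain ⟨k, rfl⟩ := Subgroup.mem_zpowers_iff.mp ht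
        rw [QuotientGroup.mk_mul, QuotientGroup.mk_mul, ha, QuotientGroup.mk_inv,
          QuotientGroup.mk_zpow]
        have hc : Commute (g : G ⧸ S) (x : G ⧸ S) := hg
        have := (hc.zpow_right k).eq
        rw [← this, mul_inv_cancel_right]
      have hcardA : ¬ p ∣ Nat.card (QuotientGroup.mk ⁻¹' {(g : G ⧸ S)} : Set G) := by
        rw [QuotientGroup.card_preimage_mk]
        simpa using hpS
      obtain ⟨a, ha, hfix⟩ := exists_fixed p (Subgroup.zpowers x) hxp _ hA hcardA
      simp only [Set.mem_preimage, Set.mem_singleton_iff] at ha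
      have hax : a ∈ Subgroup.zpowers x := by
        rw [← hC, Subgroup.mem_centralizer_singleton_iff]
        have := hfix x (Subgroup.mem_zpowers x)
        calc a * x = (x * a * x⁻¹) * x := by rw [this]
          _ = x * a := by group
      obtain ⟨k, rfl⟩ := Subgroup.mem_zpowers_iff.mp hax
      rw [← ha, QuotientGroup.mk_zpow]
      exact Subgroup.zpow_mem_zpowers _ k
    · rw [Subgroup.zpowers_le, Subgroup.mem_centralizer_singleton_iff]


end

/-- Let the finite group G contain an element x of prime order p with C_G(x) = ⟨x⟩. Then: (a) every normal subgroup of order divisible by p contains the commutator subgroup; (b) every normal subgroup S of order prime to p has order dividing the number of subgroups of order p of G and congruent to 1 modulo p, and in G/S the image of x again has prime order p and commutes only with its own powers. -/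
theorem result {G : Type*} [Group G] [Finite G] (p : ℕ) (hp : p.Prime) (x : G) (hx : orderOf x = p) (hC : Subgroup.centralizer ({x} : Set G) = Subgroup.zpowers x) (S : Subgroup G) [S.Normal] : (p ∣ Nat.card S → commutator G ≤ S) ∧ (¬ p ∣ Nat.card S → Nat.card S ∣ Nat.card {H : Subgroup G // Nat.card H = p} ∧ Nat.card S % p = 1 ∧ orderOf (QuotientGroup.mk x : G ⧸ S) = p ∧ Subgroup.centralizer ({(QuotientGroup.mk x : G ⧸ S)} : Set (G ⧸ S)) = Subgroup.zpowers (QuotientGroup.mk x : G ⧸ S)) := by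
  haveI : Fact p.Prime := ⟨hp⟩
  exact ⟨fun h => part_a p x hx hC S h, fun h => part_b p x hx hC S h⟩

end Cfsg.Agent.S4496
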