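import Mathlib
import Cfsg.Agent.Lib.Helper2.CharBasic
import Cfsg.Statements.S4566

set_option autoImplicit false
open Cfsg

namespace Cfsg.Agent.S4566

open scoped ComplexConjugate

section
variable {G : Type*} [Group G] {V : Type*} [AddCommGroup V] [Module ℂ V] [FiniteDimensional ℂ V]

/-- Schur: a central element acts as a scalar in an irreducible representation. -/
theorem central_scalar (ρ : Representation ℂ G V) [ρ.IsIrreducible] (z : G)
    (hz : z ∈ Subgroup.center G) : ∃ a : ℂ, ρ z = a • LinearMap.id := by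
  have hcomm : ∀ h : G, ρ z ∘ₗ ρ h = ρ h ∘ₗ ρ z := by
    intro h
    have e : z * h = h * z := (Subgroup.mem_center_iff.mp hz h).symm
    have := congrArg ρ e
    rw [map_mul, map_mul] at this
    exact this
  let T : Representation.IntertwiningMap ρ ρ := ⟨ρ z, hcomm⟩
  obtain ⟨a, ha⟩ :=
    (Representation.IsIrreducible.algebraMap_intertwiningMap_bijective_of_isAlgClosed
      (ρ := ρ)).2 T
  refine ⟨a, ?_⟩
  have := congrArg Representation.IntertwiningMap.toLinearMap ha
  rw [Algebra.algebraMap_eq_smul_one] at this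
  exact this.symm

theorem nontrivial_of_irreducible (ρ : Representation ℂ G V) [ρ.IsIrreducible] : Nontrivial V := by
  have hn : Nontrivial (Subrepresentation ρ) := IsSimpleOrder.toNontrivial
  by_contra hcon
  rw [not_nontrivial_iff_subsingleton] at hcon
  obtain ⟨x, y, hxy⟩ := hn
  apply hxy
  apply Subrepresentation.toSubmodule_injective
  ext v
  have : v = 0 := Subsingleton.elim _ _
  simp [this]

end

theorem result {G : Type*} [Group G] [Fintype G] (N : Subgroup G) [Fintype N] (hN : N ≤ Subgroup.center G) (ψ : Cfsg.IrrCharacter ↥N) (hfaith : ∀ n : ↥N, (ψ : ↥N → ℂ) n = (ψ : ↥N → ℂ) 1 → n = 1) (χ : Cfsg.IrrCharacter G) (hover : Cfsg.classInner (fun n : ↥N => (χ : G → ℂ) n) (ψ : ↥N → ℂ) ≠ 0) (g x : G) (hcomm : x⁻¹ * g⁻¹ * x * g ∈ N) (hne : x⁻¹ * g⁻¹ * x * g ≠ 1) : (χ : G → ℂ) g = 0 := by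
  classical
  obtain ⟨χ, n, ρ, hρ, rfl⟩ := χ
  obtain ⟨ψ, m, τ, hτ, rfl⟩ := ψ
  simp only at hover hfaith ⊢
  haveI : IsMulCommutative N := ⟨⟨fun a b => by
    apply Subtype.ext
    show (a : G) * (b : G) = (b : G) * (a : G)
    exact (Subgroup.mem_center_iff.mp (hN b.2) a)⟩⟩
  have hV : Nontrivial (Fin n → ℂ) := nontrivial_of_irreducible ρ
  -- scalars by which N acts
  choose a ha using fun z : N => central_scalar ρ (z : G) (hN z.2)
  have ha_mul : ∀ z w : N, a (z * w) = a z * a w := by
    intro z w
    have h1 : ρ ((z * w : N) : G) = ρ z * ρ w := by rw [Subgroup.coe_mul, map_mul]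
    rw [ha, ha, ha] at h1
    obtain ⟨v, hv⟩ := exists_ne (0 : Fin n → ℂ)
    have h2 := congrArg (fun f : Module.End ℂ (Fin n → ℂ) => f v) h1
    simp only [LinearMap.smul_apply, LinearMap.id_apply, Module.End.mul_apply, smul_smul] at h2
    exact smul_left_injective ℂ hv h2
  have ha_one : a 1 = 1 := by
    have h1 : ρ ((1 : N) : G) = 1 := by rw [Subgroup.coe_one, map_one]
    rw [ha] at h1
    obtain ⟨v, hv⟩ := exists_ne (0 : Fin n → ℂ)
    have h2 := congrArg (fun f : Module.End ℂ (Fin n → ℂ) => f v) h1
    simp only [LinearMap.smul_apply, LinearMap.id_apply, Module.End.one_apply] at h2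
    have h3 : a 1 • v = (1 : ℂ) • v := by rw [h2, one_smul]
    exact smul_left_injective ℂ hv h3
  -- character values
  have hχmul : ∀ (h : G) (z : N), ρ.character (h * z) = a z * ρ.character h := by
    intro h z
    unfold Representation.character
    rw [map_mul, ha, mul_smul_comm, map_smul, smul_eq_mul]
    congr 2
  have hχN : ∀ z : N, ρ.character (z : G) = a z * (n : ℂ) := by
    intro z
    have := hχmul 1 z
    rw [one_mul, Representation.char_one] at this
    simpa using this
  -- ψ is linear
  have hm : Module.finrank ℂ (Fin m → ℂ) = 1 :=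
    Representation.IsIrreducible.finrank_eq_one_of_isMulCommutative τ
  have hm1 : m = 1 := by simpa using hm
  subst hm1
  have hψdet : ∀ z : N, τ.character z = LinearMap.det (τ z) := by
    intro z
    unfold Representation.character
    rw [LinearMap.trace_eq_matrix_trace ℂ (Pi.basisFun ℂ (Fin 1)), ← LinearMap.det_toMatrix (Pi.basisFun ℂ (Fin 1))]
    rw [Matrix.det_fin_one, Matrix.trace_fin_one]
  have hψmul : ∀ z w : N, τ.character (z * w) = τ.character z * τ.character w := by
    intro z w
    rw [hψdet, hψdet, hψdet, map_mul, map_mul]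
  have hψone : τ.character 1 = 1 := by
    rw [hψdet, map_one, map_one]
  have hψinv : ∀ z : N, τ.character z⁻¹ = conj (τ.character z) :=
    fun z => Cfsg.Agent.Lib.Helper2.char_inv τ z
  have hψne : ∀ z : N, τ.character z ≠ 0 := by
    intro z h0
    have := hψmul z z⁻¹
    rw [mul_inv_cancel, hψone, h0, zero_mul] at this
    exact one_ne_zero this
  -- a = ψ on N
  have hkey : ∀ z : N, a z = τ.character z := by
    by_contra hcon
    push Not at hcon
    let γ : N →* ℂ :=
      { toFun := fun z => a z * τ.character z⁻¹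
        map_one' := by simp [ha_one, hψone]
        map_mul' := fun z w => by
          simp only [ha_mul, mul_inv_rev, hψmul]
          ring }
    have hγ : γ ≠ 1 := by
      intro h
      obtain ⟨z, hz⟩ := hcon
      apply hz
      have h1 : a z * τ.character z⁻¹ = 1 := DFunLike.congr_fun h z
      have h2 : τ.character z⁻¹ * τ.character z = 1 := by
        rw [← hψmul, inv_mul_cancel, hψone]
      calc a z = a z * (τ.character z⁻¹ * τ.character z) := by rw [h2, mul_one]
        _ = (a z * τ.character z⁻¹) * τ.character z := by ring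
        _ = τ.character z := by rw [h1, one_mul]
    have hsum := sum_hom_units_eq_zero γ hγ
    apply hover
    unfold Cfsg.classInner
    have : ∑ z : N, ρ.character (z : G) * conj (τ.character z) = (n : ℂ) * ∑ z : N, γ z := by
      rw [Finset.mul_sum]
      apply Finset.sum_congr rfl
      intro z _
      rw [hχN, ← hψinv]
      show a z * (n : ℂ) * τ.character z⁻¹ = (n : ℂ) * (a z * τ.character z⁻¹)
      ring
    rw [this, hsum, mul_zero, mul_zero]
  -- conclusion
  set c : G := x⁻¹ * g⁻¹ * x * g with hc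
  have hcN : c⁻¹ ∈ N := N.inv_mem hcomm
  have hconj : x⁻¹ * g * x = g * c⁻¹ := by rw [hc]; group
  have h1 : ρ.character (x⁻¹ * g * x) = ρ.character g := by
    have := ρ.char_conj g x⁻¹
    rwa [inv_inv] at this
  rw [hconj] at h1
  have h2 := hχmul g ⟨c⁻¹, hcN⟩
  simp only at h2
  rw [h2] at h1
  have h3 : a ⟨c⁻¹, hcN⟩ ≠ 1 := by
    rw [hkey]
    intro h
    have := hfaith ⟨c⁻¹, hcN⟩ (by rw [h, hψone])
    have : c⁻¹ = 1 := congrArg Subtype.val this
    exact hne (inv_eq_one.mp this)
  have h4 : (a ⟨c⁻¹, hcN⟩ - 1) * ρ.character g = 0 := by rw [sub_mul, h1, one_mul, sub_self]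
  rcases mul_eq_zero.mp h4 with h | h
  · exact absurd (sub_eq_zero.mp h) h3
  · exact h

end Cfsg.Agent.S4566
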