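import Mathlib
import Cfsg.Prelude.Def_Characters
import Cfsg.Agent.Lib.Helper2.Regular
import Cfsg.Agent.S4566

set_option autoImplicit false
open Cfsg

namespace Cfsg.Agent.S4567

open scoped ComplexConjugate

section Abelian

variable {A : Type*} [Group A] [Fintype A]

/-- Orthogonality for multiplicative functions on a finite group. -/
theorem sum_mul_conj (a b : A → ℂ) (ha : ∀ z w, a (z * w) = a z * a w) (ha1 : a 1 = 1)
    (hb : ∀ z w, b (z * w) = b z * b w) (hb1 : b 1 = 1) (hbinv : ∀ z, b z⁻¹ = conj (b z))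
    [Decidable (a = b)] :
    ∑ z : A, a z * conj (b z) = if a = b then (Fintype.card A : ℂ) else 0 := by
  split_ifs with h
  · subst h
    have : ∀ z : A, a z * conj (a z) = 1 := by
      intro z
      rw [← hbinv, ← ha, mul_inv_cancel, ha1]
    simp [this]
  · let γ : A →* ℂ :=
      { toFun := fun z => a z * b z⁻¹
        map_one' := by simp [ha1, hb1]
        map_mul' := fun z w => by
          simp only [ha, mul_inv_rev, hb]
          ring }
    have hγ : γ ≠ 1 := by
      intro hγ1
      apply h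
      funext z
      have h1 : a z * b z⁻¹ = 1 := DFunLike.congr_fun hγ1 z
      have h2 : b z⁻¹ * b z = 1 := by rw [← hb, inv_mul_cancel, hb1]
      calc a z = a z * (b z⁻¹ * b z) := by rw [h2, mul_one]
        _ = (a z * b z⁻¹) * b z := by ring
        _ = b z := by rw [h1, one_mul]
    have hsum := sum_hom_units_eq_zero γ hγ
    rw [← hsum]
    apply Finset.sum_congr rfl
    intro z _
    rw [← hbinv]
    rfl

end Abelian

section Central

variable {G : Type*} [Group G] [Fintype G] (N : Subgroup G) [Fintype N]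

/-- For `χ ∈ Irr(G)` and central `N`, `χ(g z) = a(z) χ(g)` with `a` multiplicative. -/
theorem exists_central_mul (hN : N ≤ Subgroup.center G) (χ : Cfsg.IrrCharacter G) :
    ∃ a : N → ℂ, (∀ z w, a (z * w) = a z * a w) ∧ a 1 = 1 ∧
      ∀ (g : G) (z : N), (χ : G → ℂ) (g * z) = a z * (χ : G → ℂ) g := by
  obtain ⟨χ, n, ρ, hρ, rfl⟩ := χ
  simp only
  have hV : Nontrivial (Fin n → ℂ) := Cfsg.Agent.S4566.nontrivial_of_irreducible ρ
  choose a ha using fun z : N => Cfsg.Agent.S4566.central_scalar ρ (z : G) (hN z.2)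
  have ha_mul : ∀ z w : N, a (z * w) = a z * a w := by
    intro z w
    have h1 : ρ ((z * w : N) : G) = ρ z * ρ w := by rw [Subgroup.coe_mul, map_mul]
    rw [ha, ha, ha] at h1
    obtain ⟨v, hv⟩ := exists_ne (0 : Fin n → ℂ)
    have h2 := congrArg (fun f : Module.End ℂ (Fin n → ℂ) => f v) h1
    simp only [LinearMap.smul_apply, LinearMap.id_apply, Module.End.mul_apply, smul_smul] at h2
    exact smul_left_injective ℂ hv h2
  have ha_one : a 1 = 1 := by
    have h1 : ρ ((1 : N) : G) = 1 := by rw [Subgroup.coe_one, map_one]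
    rw [ha] at h1
    obtain ⟨v, hv⟩ := exists_ne (0 : Fin n → ℂ)
    have h2 := congrArg (fun f : Module.End ℂ (Fin n → ℂ) => f v) h1
    simp only [LinearMap.smul_apply, LinearMap.id_apply, Module.End.one_apply] at h2
    have h3 : a 1 • v = (1 : ℂ) • v := by rw [h2, one_smul]
    exact smul_left_injective ℂ hv h3
  refine ⟨a, ha_mul, ha_one, ?_⟩
  intro h z
  unfold Representation.character
  rw [map_mul, ha, mul_smul_comm, map_smul, smul_eq_mul]
  congr 2

/-- Irreducible characters of an abelian group are multiplicative. -/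
theorem linear_of_central (hN : N ≤ Subgroup.center G) (ψ : Cfsg.IrrCharacter ↥N) :
    (∀ z w : N, (ψ : N → ℂ) (z * w) = (ψ : N → ℂ) z * (ψ : N → ℂ) w) ∧ (ψ : N → ℂ) 1 = 1 ∧
      ∀ z : N, (ψ : N → ℂ) z⁻¹ = conj ((ψ : N → ℂ) z) := by
  obtain ⟨ψ, m, τ, hτ, rfl⟩ := ψ
  simp only
  haveI : IsMulCommutative N := ⟨⟨fun a b => by
    apply Subtype.ext
    show (a : G) * (b : G) = (b : G) * (a : G)
    exact (Subgroup.mem_center_iff.mp (hN b.2) a)⟩⟩
  have hm : Module.finrank ℂ (Fin m → ℂ) = 1 :=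
    Representation.IsIrreducible.finrank_eq_one_of_isMulCommutative τ
  have hm1 : m = 1 := by simpa using hm
  subst hm1
  have hψdet : ∀ z : N, τ.character z = LinearMap.det (τ z) := by
    intro z
    unfold Representation.character
    rw [LinearMap.trace_eq_matrix_trace ℂ (Pi.basisFun ℂ (Fin 1)),
      ← LinearMap.det_toMatrix (Pi.basisFun ℂ (Fin 1))]
    rw [Matrix.det_fin_one, Matrix.trace_fin_one]
  refine ⟨?_, ?_, fun z => Cfsg.Agent.Lib.Helper2.char_inv τ z⟩
  · intro z w
    rw [hψdet, hψdet, hψdet, map_mul, map_mul]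
  · rw [hψdet, map_one, map_one]

/-- the "special" condition -/
def Special (g : G) : Prop := ∀ x : G, x⁻¹ * g⁻¹ * x * g ∈ N → x * g = g * x

omit [Fintype G] [Fintype N] in
theorem special_mul (hN : N ≤ Subgroup.center G) (g : G) (z : N) :
    Special N (g * z) ↔ Special N g := by
  have hz : ∀ y : G, (z : G) * y = y * z := fun y => Subgroup.mem_center_iff.mp (hN z.2) y |>.symm
  have key : ∀ x : G, x⁻¹ * (g * z)⁻¹ * x * (g * z) = x⁻¹ * g⁻¹ * x * g := by
    intro x
    calc x⁻¹ * (g * z)⁻¹ * x * (g * z) = x⁻¹ * ((z : G)⁻¹ * g⁻¹) * x * (g * z) := by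
          rw [mul_inv_rev]
      _ = x⁻¹ * g⁻¹ * x * g * ((z : G)⁻¹ * z) := by
          have h1 : ∀ y : G, (z : G)⁻¹ * y = y * (z : G)⁻¹ := by
            intro y
            have := hz (z⁻¹ * y * z⁻¹)
            calc (z : G)⁻¹ * y = (z : G)⁻¹ * y * ((z : G)⁻¹ * z) := by group
              _ = ((z : G)⁻¹ * y * (z : G)⁻¹) * z := by group
              _ = z * ((z : G)⁻¹ * y * (z : G)⁻¹) := (hz _).symm
              _ = y * (z : G)⁻¹ := by group
          rw [h1 g⁻¹]
          calc x⁻¹ * (g⁻¹ * (z : G)⁻¹) * x * (g * z)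
              = x⁻¹ * g⁻¹ * ((z : G)⁻¹ * (x * g)) * z := by group
            _ = x⁻¹ * g⁻¹ * ((x * g) * (z : G)⁻¹) * z := by rw [h1 (x * g)]
            _ = x⁻¹ * g⁻¹ * x * g * ((z : G)⁻¹ * z) := by group
      _ = x⁻¹ * g⁻¹ * x * g := by rw [inv_mul_cancel, mul_one]
  have key2 : ∀ x : G, x * (g * z) = (g * z) * x ↔ x * g = g * x := by
    intro x
    constructor
    · intro h
      have h1 : x * g * z = g * x * z := by
        calc x * g * z = x * (g * z) := by group
          _ = g * z * x := h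
          _ = g * (z * x) := by group
          _ = g * (x * z) := by rw [hz x]
          _ = g * x * z := by group
      exact mul_right_cancel h1
    · intro h
      calc x * (g * z) = x * g * z := by group
        _ = g * x * z := by rw [h]
        _ = g * (x * z) := by group
        _ = g * (z * x) := by rw [hz x]
        _ = g * z * x := by group
  unfold Special
  constructor
  · intro h x hx
    rw [← key x] at hx
    exact (key2 x).mp (h x hx)
  · intro h x hx
    rw [key x] at hx
    exact (key2 x).mpr (h x hx)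

omit [Fintype G] [Fintype N] in
theorem special_conj [N.Normal] (g y : G) (h : Special N g) : Special N (y * g * y⁻¹) := by
  intro x hx
  have h1 : (y⁻¹ * x * y)⁻¹ * g⁻¹ * (y⁻¹ * x * y) * g ∈ N := by
    have := (inferInstance : N.Normal).conj_mem _ hx y⁻¹
    have e : y⁻¹ * (x⁻¹ * (y * g * y⁻¹)⁻¹ * x * (y * g * y⁻¹)) * y⁻¹⁻¹
        = (y⁻¹ * x * y)⁻¹ * g⁻¹ * (y⁻¹ * x * y) * g := by group
    rw [e] at this
    exact this
  have h2 := h _ h1
  calc x * (y * g * y⁻¹) = y * ((y⁻¹ * x * y) * g) * y⁻¹ := by group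
    _ = y * (g * (y⁻¹ * x * y)) * y⁻¹ := by rw [h2]
    _ = y * g * y⁻¹ * x := by group

open Classical in
theorem sum_T (hN : N ≤ Subgroup.center G) (ψ : N → ℂ)
    (hmul : ∀ z w : N, ψ (z * w) = ψ z * ψ w) (h1 : ψ 1 = 1)
    (hfaith : ∀ z : N, ψ z = 1 → z = 1) (g : G) :
    ∑ z : N, conj (ψ z) * (if IsConj (g * z) g then (1 : ℂ) else 0)
      = if Special N g then 1 else 0 := by
  have hcen : ∀ (z : N) (y : G), (z : G) * y = y * z :=
    fun z y => (Subgroup.mem_center_iff.mp (hN z.2) y).symm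
  split_ifs with hsp
  · -- only z = 1 contributes
    rw [Finset.sum_eq_single (1 : N)]
    · rw [h1, map_one, one_mul, Subgroup.coe_one, mul_one, if_pos (IsConj.refl g)]
    · intro z _ hz
      rw [if_neg, mul_zero]
      intro hconj
      apply hz
      obtain ⟨c, hc⟩ := isConj_iff.mp hconj
      -- c * (g * z) * c⁻¹ = g
      have h2 : c * g * c⁻¹ = g * (z : G)⁻¹ := by
        have : c * (g * z) * c⁻¹ = c * g * c⁻¹ * z := by
          calc c * (g * z) * c⁻¹ = c * g * (z * c⁻¹) := by group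
            _ = c * g * (c⁻¹ * z) := by rw [hcen z c⁻¹]
            _ = c * g * c⁻¹ * z := by group
        rw [this] at hc
        calc c * g * c⁻¹ = (c * g * c⁻¹ * z) * (z : G)⁻¹ := by group
          _ = g * (z : G)⁻¹ := by rw [hc]
      have h3 : (c⁻¹)⁻¹ * g⁻¹ * c⁻¹ * g = z := by
        have : (c⁻¹)⁻¹ * g⁻¹ * c⁻¹ = (c * g * c⁻¹)⁻¹ := by group
        rw [this, h2]; group
      have h4 := hsp c⁻¹ (by rw [h3]; exact z.2)
      -- c⁻¹ * g = g * c⁻¹, so c g c⁻¹ = g
      have h5 : c * g * c⁻¹ = g := by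
        calc c * g * c⁻¹ = c * (g * c⁻¹) := by group
          _ = c * (c⁻¹ * g) := by rw [h4]
          _ = g := by group
      rw [h5] at h2
      have h6 : (z : G)⁻¹ = 1 := by
        have := h2
        calc (z : G)⁻¹ = g⁻¹ * (g * (z : G)⁻¹) := by group
          _ = g⁻¹ * g := by rw [← this]
          _ = 1 := by group
      apply Subtype.ext
      rw [Subgroup.coe_one]
      exact inv_eq_one.mp h6
    · intro h; exact absurd (Finset.mem_univ _) h
  · -- a nontrivial element w of N with g * w conjugate to g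
    unfold Special at hsp
    push Not at hsp
    obtain ⟨x, hxN, hxne⟩ := hsp
    set c : G := x⁻¹ * g⁻¹ * x * g with hc
    let w : N := ⟨c⁻¹, N.inv_mem hxN⟩
    have hw : x⁻¹ * g * x = g * w := by
      show x⁻¹ * g * x = g * c⁻¹
      rw [hc]; group
    have hw1 : w ≠ 1 := by
      intro h
      have h2 : (w : G) = 1 := by rw [h, Subgroup.coe_one]
      rw [h2, mul_one] at hw
      apply hxne
      calc x * g = x * (x⁻¹ * g * x) := by rw [hw]
        _ = g * x := by group
    have hψw : ψ w ≠ 1 := fun h => hw1 (hfaith w h)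
    set S := ∑ z : N, conj (ψ z) * (if IsConj (g * z) g then (1 : ℂ) else 0) with hS
    have hre : S = conj (ψ w) * S := by
      rw [hS, Finset.mul_sum]
      apply Fintype.sum_equiv (Equiv.mulRight w⁻¹)
      intro z
      rw [Equiv.coe_mulRight]
      have e1 : ψ z = ψ (z * w⁻¹) * ψ w := by rw [← hmul, inv_mul_cancel_right]
      have e2 : IsConj (g * z) g ↔ IsConj (g * (z * w⁻¹ : N)) g := by
        have e3 : g * z = x⁻¹ * (g * (z * w⁻¹ : N)) * x := by
          have : x⁻¹ * (g * (z * w⁻¹ : N)) * x = (x⁻¹ * g * x) * (z * w⁻¹ : N) := by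
            calc x⁻¹ * (g * (z * w⁻¹ : N)) * x = x⁻¹ * g * ((z * w⁻¹ : N) * x) := by group
              _ = x⁻¹ * g * (x * (z * w⁻¹ : N)) := by rw [hcen (z * w⁻¹) x]
              _ = (x⁻¹ * g * x) * (z * w⁻¹ : N) := by group
          rw [this, hw, Subgroup.coe_mul, Subgroup.coe_inv]
          calc g * z = g * (z * ((w : G)⁻¹ * w)) := by group
            _ = g * (z * (w * (w : G)⁻¹)) := by group
            _ = g * ((z * w) * (w : G)⁻¹) := by group
            _ = g * ((w * z) * (w : G)⁻¹) := by rw [hcen w z]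
            _ = g * w * (z * (w : G)⁻¹) := by group
        have hconj : IsConj (g * (z * w⁻¹ : N)) (g * z) := by
          rw [isConj_iff]
          exact ⟨x⁻¹, by rw [e3]; group⟩
        exact ⟨fun h => hconj.trans h, fun h => hconj.symm.trans h⟩
      rw [e1, map_mul]
      by_cases hcz : IsConj (g * z) g
      · rw [if_pos hcz, if_pos (e2.mp hcz)]; ring
      · rw [if_neg hcz, if_neg (fun h => hcz (e2.mpr h))]; ring
    have h2 : (1 - conj (ψ w)) * S = 0 := by
      rw [sub_mul, one_mul, ← hre, sub_self]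
    rcases mul_eq_zero.mp h2 with h3 | h3
    · exfalso
      apply hψw
      have : conj (ψ w) = 1 := (sub_eq_zero.mp h3).symm
      have := congrArg conj this
      rwa [Complex.conj_conj, map_one] at this
    · exact h3

omit [Fintype G] [Fintype N] in
theorem centralizer_mul_central (hN : N ≤ Subgroup.center G) (g : G) (z : N) :
    Subgroup.centralizer ({g * z} : Set G) = Subgroup.centralizer ({g} : Set G) := by
  have hz : ∀ y : G, (z : G) * y = y * z := fun y => (Subgroup.mem_center_iff.mp (hN z.2) y).symm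
  ext x
  simp only [Subgroup.mem_centralizer_iff, Set.mem_singleton_iff, forall_eq]
  constructor
  · intro h
    have h1 : g * x * z = x * g * z := by
      calc g * x * z = g * (x * z) := by group
        _ = g * (z * x) := by rw [hz x]
        _ = g * z * x := by group
        _ = x * (g * z) := h
        _ = x * g * z := by group
    exact mul_right_cancel h1
  · intro h
    calc g * z * x = g * (z * x) := by group
      _ = g * (x * z) := by rw [hz x]
      _ = g * x * z := by group
      _ = x * g * z := by rw [h]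
      _ = x * (g * z) := by group

open Classical in
theorem char_count (hN : N ≤ Subgroup.center G) (ψ : Cfsg.IrrCharacter ↥N)
    (hfaith : ∀ n : ↥N, (ψ : ↥N → ℂ) n = (ψ : ↥N → ℂ) 1 → n = 1) :
    (Nat.card G : ℂ) * (Nat.card {χ : Cfsg.IrrCharacter G //
        Cfsg.classInner (fun n : ↥N => (χ : G → ℂ) n) (ψ : ↥N → ℂ) ≠ 0} : ℂ)
      = ∑ g : G, if Special N g then
          (Nat.card (Subgroup.centralizer ({g} : Set G)) : ℂ) / (Nat.card N : ℂ) else 0 := by
  haveI : Fintype (Cfsg.IrrCharacter G) := Fintype.ofFinite _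
  choose a ha_mul ha_one ha using exists_central_mul N hN
  obtain ⟨hψmul, hψ1, hψinv⟩ := linear_of_central N hN ψ
  have hfaith' : ∀ z : N, (ψ : N → ℂ) z = 1 → z = 1 := by
    intro z hz; apply hfaith; rw [hz, hψ1]
  have hNne : (Nat.card N : ℂ) ≠ 0 := by exact_mod_cast Nat.card_pos.ne'
  have hA3 : ∀ χ : Cfsg.IrrCharacter G, ∑ z : N, a χ z * conj ((ψ : N → ℂ) z)
      = if a χ = (ψ : N → ℂ) then (Nat.card N : ℂ) else 0 := by
    intro χ
    rw [sum_mul_conj (a χ) (ψ : N → ℂ) (ha_mul χ) (ha_one χ) hψmul hψ1 hψinv,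
      Nat.card_eq_fintype_card]
  have hover : ∀ χ : Cfsg.IrrCharacter G,
      Cfsg.classInner (fun n : ↥N => (χ : G → ℂ) n) (ψ : ↥N → ℂ) ≠ 0 ↔ a χ = (ψ : N → ℂ) := by
    intro χ
    have h1 : Cfsg.classInner (fun n : ↥N => (χ : G → ℂ) n) (ψ : ↥N → ℂ)
        = (Nat.card N : ℂ)⁻¹ * ((χ : G → ℂ) 1 * ∑ z : N, a χ z * conj ((ψ : N → ℂ) z)) := by
      rw [Cfsg.Agent.Lib.Helper2.classInner_def]
      congr 1
      rw [Finset.mul_sum]
      apply Finset.sum_congr rfl; intro z _
      have := ha χ 1 z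
      rw [one_mul] at this
      show (χ : G → ℂ) (z : G) * conj ((ψ : N → ℂ) z) = _
      rw [this]; ring
    have hχ1 : (χ : G → ℂ) 1 ≠ 0 := Cfsg.Agent.Lib.Helper2.IsIrrCharacter.apply_one_ne_zero χ.2
    rw [h1, hA3]
    split_ifs with h
    · simp [h, hNne, hχ1]
    · simp [h]
  have hcard : Nat.card {χ : Cfsg.IrrCharacter G //
        Cfsg.classInner (fun n : ↥N => (χ : G → ℂ) n) (ψ : ↥N → ℂ) ≠ 0}
      = (Finset.univ.filter (fun χ : Cfsg.IrrCharacter G => a χ = (ψ : N → ℂ))).card := by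
    rw [Nat.card_eq_fintype_card, Fintype.card_subtype]
    congr 1
    apply Finset.filter_congr
    intro χ _
    exact hover χ
  rw [hcard]
  -- double counting
  have hC : ∑ g : G, ∑ χ : Cfsg.IrrCharacter G,
      (if a χ = (ψ : N → ℂ) then (χ : G → ℂ) g * conj ((χ : G → ℂ) g) else 0)
      = (Nat.card G : ℂ) * ((Finset.univ.filter
          (fun χ : Cfsg.IrrCharacter G => a χ = (ψ : N → ℂ))).card : ℂ) := by
    rw [Finset.sum_comm, Finset.card_filter, Nat.cast_sum, Finset.mul_sum]
    apply Finset.sum_congr rfl; intro χ _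
    split_ifs with h
    · have h1 := Cfsg.Agent.Lib.Helper2.classInner_irrCharacter_self χ
      rw [Cfsg.Agent.Lib.Helper2.classInner_def] at h1
      have hGne : (Nat.card G : ℂ) ≠ 0 := Cfsg.Agent.Lib.Helper2.card_ne_zero_complex
      rw [Nat.cast_one, mul_one]
      field_simp at h1
      exact h1
    · simp
  rw [← hC]
  apply Finset.sum_congr rfl; intro g _
  -- the sum over χ for fixed g
  have h1 : ∀ χ : Cfsg.IrrCharacter G,
      (if a χ = (ψ : N → ℂ) then (χ : G → ℂ) g * conj ((χ : G → ℂ) g) else 0)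
      = (Nat.card N : ℂ)⁻¹ * ∑ z : N, conj ((ψ : N → ℂ) z)
          * ((χ : G → ℂ) (g * z) * conj ((χ : G → ℂ) g)) := by
    intro χ
    have h2 : ∑ z : N, conj ((ψ : N → ℂ) z) * ((χ : G → ℂ) (g * z) * conj ((χ : G → ℂ) g))
        = (∑ z : N, a χ z * conj ((ψ : N → ℂ) z)) * ((χ : G → ℂ) g * conj ((χ : G → ℂ) g)) := by
      rw [Finset.sum_mul]
      apply Finset.sum_congr rfl; intro z _
      rw [ha χ g z]; ring
    rw [h2, hA3]
    split_ifs with h
    · rw [← mul_assoc, inv_mul_cancel₀ hNne, one_mul]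
    · simp
  rw [Finset.sum_congr rfl (fun χ _ => h1 χ), ← Finset.mul_sum, Finset.sum_comm]
  have h3 : ∀ z : N, ∑ χ : Cfsg.IrrCharacter G, conj ((ψ : N → ℂ) z)
        * ((χ : G → ℂ) (g * z) * conj ((χ : G → ℂ) g))
      = (Nat.card (Subgroup.centralizer ({g} : Set G)) : ℂ)
        * (conj ((ψ : N → ℂ) z) * (if IsConj (g * z) g then (1 : ℂ) else 0)) := by
    intro z
    rw [← Finset.mul_sum, Cfsg.Agent.Lib.Helper2.column_orthogonality (g * z) g,
      centralizer_mul_central N hN g z]
    split_ifs <;> ring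
  rw [Finset.sum_congr rfl (fun z _ => h3 z), ← Finset.mul_sum, sum_T N hN (ψ : N → ℂ) hψmul hψ1 hfaith' g]
  split_ifs
  · field_simp
  · simp

end Central

section Classes

variable {Q : Type*} [Group Q] [Fintype Q]

open Classical in
/-- The weights `1 / |class|` sum to one over each class. -/
theorem sum_class_weight (C : ConjClasses Q) :
    ∑ q : Q, (if ConjClasses.mk q = C then
      ((Subgroup.centralizer ({q} : Set Q)).index : ℂ)⁻¹ else 0) = 1 := by
  obtain ⟨q0, rfl⟩ := ConjClasses.exists_rep C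
  have h1 : ∀ q : Q, ConjClasses.mk q = ConjClasses.mk q0 →
      (Subgroup.centralizer ({q} : Set Q)).index = (Subgroup.centralizer ({q0} : Set Q)).index := by
    intro q hq
    rw [Cfsg.Agent.Lib.Helper2.index_centralizer_eq_card_conj,
      Cfsg.Agent.Lib.Helper2.index_centralizer_eq_card_conj]
    have hc : IsConj q q0 := ConjClasses.mk_eq_mk_iff_isConj.mp hq
    apply Nat.card_congr
    apply Equiv.subtypeEquivRight
    intro x
    exact ⟨fun h => hc.symm.trans h, fun h => hc.trans h⟩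
  have h2 : ∀ q : Q, (if ConjClasses.mk q = ConjClasses.mk q0 then
      ((Subgroup.centralizer ({q} : Set Q)).index : ℂ)⁻¹ else 0)
      = if ConjClasses.mk q = ConjClasses.mk q0 then
      ((Subgroup.centralizer ({q0} : Set Q)).index : ℂ)⁻¹ else 0 := by
    intro q
    split_ifs with h
    · rw [h1 q h]
    · rfl
  rw [Finset.sum_congr rfl (fun q _ => h2 q), ← Finset.sum_filter, Finset.sum_const,
    nsmul_eq_mul]
  have h3 : (Finset.univ.filter (fun q : Q => ConjClasses.mk q = ConjClasses.mk q0)).card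
      = (Subgroup.centralizer ({q0} : Set Q)).index := by
    rw [Cfsg.Agent.Lib.Helper2.index_centralizer_eq_card_conj, Nat.card_eq_fintype_card,
      Fintype.card_subtype]
    congr 1
    apply Finset.filter_congr
    intro q _
    rw [ConjClasses.mk_eq_mk_iff_isConj]
    exact ⟨fun h => h.symm, fun h => h.symm⟩
  rw [h3]
  have hne : ((Subgroup.centralizer ({q0} : Set Q)).index : ℂ) ≠ 0 := by
    have : (Subgroup.centralizer ({q0} : Set Q)).index ≠ 0 := Subgroup.index_ne_zero_of_finite
    exact_mod_cast this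
  exact mul_inv_cancel₀ hne

open Classical in
/-- Counting a set of conjugacy classes by weights. -/
theorem card_classes (P : ConjClasses Q → Prop) :
    (Nat.card {C : ConjClasses Q // P C} : ℂ)
      = ∑ q : Q, if P (ConjClasses.mk q) then
          ((Subgroup.centralizer ({q} : Set Q)).index : ℂ)⁻¹ else 0 := by
  haveI : Fintype (ConjClasses Q) := Fintype.ofFinite _
  rw [Nat.card_eq_fintype_card, Fintype.card_subtype, Finset.card_filter, Nat.cast_sum]
  have h1 : ∀ q : Q, (if P (ConjClasses.mk q) then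
          ((Subgroup.centralizer ({q} : Set Q)).index : ℂ)⁻¹ else 0)
      = ∑ C : ConjClasses Q, if ConjClasses.mk q = C then
          (if P C then ((Subgroup.centralizer ({q} : Set Q)).index : ℂ)⁻¹ else 0) else 0 := by
    intro q
    rw [Finset.sum_ite_eq]
    simp
  rw [Finset.sum_congr rfl (fun q _ => h1 q), Finset.sum_comm]
  apply Finset.sum_congr rfl; intro C _
  split_ifs with h
  · rw [Nat.cast_one, ← sum_class_weight C]
  · simp

end Classes

section Quot

variable {G : Type*} [Group G] [Fintype G] (N : Subgroup G) [N.Normal] [Fintype N]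
  [Fintype (G ⧸ N)]

open Classical in
/-- summing over `G ⧸ N` versus summing over `G` -/
theorem sum_quot (F : G ⧸ N → ℂ) :
    ∑ g : G, F (g : G ⧸ N) = (Nat.card N : ℂ) * ∑ q : G ⧸ N, F q := by
  have h1 : ∀ g : G, F (g : G ⧸ N) = ∑ q : G ⧸ N, if (g : G ⧸ N) = q then F q else 0 := by
    intro g
    rw [Finset.sum_ite_eq]
    simp
  rw [Finset.sum_congr rfl (fun g _ => h1 g), Finset.sum_comm, Finset.mul_sum]
  apply Finset.sum_congr rfl; intro q _
  rw [← Finset.sum_filter, Finset.sum_const, nsmul_eq_mul]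
  congr 1
  have h2 := QuotientGroup.card_preimage_mk N ({q} : Set (G ⧸ N))
  have h3 : Nat.card ({q} : Set (G ⧸ N)) = 1 := by simp
  rw [h3, mul_one] at h2
  rw [← h2, ← Fintype.card_subtype, ← Nat.card_eq_fintype_card]
  congr 1

omit [Fintype G] [Fintype N] [Fintype (G ⧸ N)] in
theorem special_iff (hN : N ≤ Subgroup.center G) (g : G) :
    (∃ g' : G, ConjClasses.mk (g' : G ⧸ N) = ConjClasses.mk (g : G ⧸ N) ∧
      ∀ x : G, x⁻¹ * g'⁻¹ * x * g' ∈ N → x * g' = g' * x) ↔ Special N g := by
  constructor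
  · rintro ⟨g', hconj, hsp⟩
    rw [ConjClasses.mk_eq_mk_iff_isConj, isConj_iff] at hconj
    obtain ⟨c, hc⟩ := hconj
    obtain ⟨y, rfl⟩ := QuotientGroup.mk_surjective c
    have h1 : ((y * g' * y⁻¹ : G) : G ⧸ N) = (g : G ⧸ N) := by
      rw [← hc]; simp
    rw [QuotientGroup.eq] at h1
    -- g = (y g' y⁻¹) * z
    have h2 : g = (y * g' * y⁻¹) * ((y * g' * y⁻¹)⁻¹ * g) := by group
    rw [h2]
    have h3 : Special N (y * g' * y⁻¹) := special_conj N g' y hsp
    exact (special_mul N hN (y * g' * y⁻¹) ⟨_, h1⟩).mpr h3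
  · intro h
    exact ⟨g, rfl, h⟩

omit [Fintype G] [Fintype N] [Fintype (G ⧸ N)] in
theorem index_centralizer_quot (g : G) (h : Special N g) :
    (Subgroup.centralizer ({(g : G ⧸ N)} : Set (G ⧸ N))).index
      = (Subgroup.centralizer ({g} : Set G)).index := by
  rw [← Subgroup.index_comap_of_surjective (f := QuotientGroup.mk' N)
    (H := Subgroup.centralizer ({(g : G ⧸ N)} : Set (G ⧸ N))) (QuotientGroup.mk'_surjective N)]
  congr 1
  ext x
  simp only [Subgroup.mem_comap, Subgroup.mem_centralizer_iff, Set.mem_singleton_iff, forall_eq,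
    QuotientGroup.mk'_apply]
  constructor
  · intro hx
    have h1 : ((x⁻¹ * g⁻¹ * x * g : G) : G ⧸ N) = 1 := by
      have : ((x⁻¹ * g⁻¹ * x * g : G) : G ⧸ N)
          = (x : G ⧸ N)⁻¹ * (g : G ⧸ N)⁻¹ * ((x : G ⧸ N) * (g : G ⧸ N)) := by
        simp [mul_assoc]
      rw [this, ← hx]; group
    rw [QuotientGroup.eq_one_iff] at h1
    exact (h x h1).symm
  · intro hx
    have := congrArg (fun y : G => (y : G ⧸ N)) hx
    simpa using this

open Classical in
theorem class_count (hN : N ≤ Subgroup.center G) :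
    (Nat.card G : ℂ) * (Nat.card {C : ConjClasses (G ⧸ N) // ∃ g : G,
        ConjClasses.mk (g : G ⧸ N) = C ∧ ∀ x : G, x⁻¹ * g⁻¹ * x * g ∈ N → x * g = g * x} : ℂ)
      = ∑ g : G, if Special N g then
          (Nat.card (Subgroup.centralizer ({g} : Set G)) : ℂ) / (Nat.card N : ℂ) else 0 := by
  have hNne : (Nat.card N : ℂ) ≠ 0 := by exact_mod_cast Nat.card_pos.ne'
  have hGne : (Nat.card G : ℂ) ≠ 0 := by exact_mod_cast Nat.card_pos.ne'
  rw [card_classes]
  have h2 : ∀ F : G ⧸ N → ℂ, ∑ q : G ⧸ N, F q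
      = (Nat.card N : ℂ)⁻¹ * ∑ g : G, F (g : G ⧸ N) := by
    intro F
    rw [sum_quot N F, ← mul_assoc, inv_mul_cancel₀ hNne, one_mul]
  rw [h2, Finset.mul_sum, Finset.mul_sum]
  apply Finset.sum_congr rfl; intro g _
  by_cases hsp : Special N g
  · rw [if_pos ((special_iff N hN g).mpr hsp), if_pos hsp, index_centralizer_quot N g hsp]
    have h3 := Subgroup.card_mul_index (Subgroup.centralizer ({g} : Set G))
    have h4 : (Nat.card (Subgroup.centralizer ({g} : Set G)) : ℂ)
        * ((Subgroup.centralizer ({g} : Set G)).index : ℂ) = (Nat.card G : ℂ) := by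
      exact_mod_cast h3
    have hidx : ((Subgroup.centralizer ({g} : Set G)).index : ℂ) ≠ 0 := by
      intro h0; rw [h0, mul_zero] at h4; exact hGne h4.symm
    rw [← h4]
    field_simp
  · rw [if_neg (fun h => hsp ((special_iff N hN g).mp h)), if_neg hsp, mul_zero, mul_zero]

end Quot

theorem result {G : Type*} [Group G] [Fintype G] (N : Subgroup G) [N.Normal] [Fintype N] (hN : N ≤ Subgroup.center G) (ψ : Cfsg.IrrCharacter ↥N) (hfaith : ∀ n : ↥N, (ψ : ↥N → ℂ) n = (ψ : ↥N → ℂ) 1 → n = 1) : Nat.card {χ : Cfsg.IrrCharacter G // Cfsg.classInner (fun n : ↥N => (χ : G → ℂ) n) (ψ : ↥N → ℂ) ≠ 0} = Nat.card {C : ConjClasses (G ⧸ N) // ∃ g : G, ConjClasses.mk (g : G ⧸ N) = C ∧ ∀ x : G, x⁻¹ * g⁻¹ * x * g ∈ N → x * g = g * x} := by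
  haveI : Fintype (G ⧸ N) := Fintype.ofFinite _
  have h1 := char_count N hN ψ hfaith
  have h2 := class_count N hN
  rw [← h2] at h1
  have hGne : (Nat.card G : ℂ) ≠ 0 := by exact_mod_cast Nat.card_pos.ne'
  have h3 := mul_left_cancel₀ hGne h1
  exact_mod_cast h3

end Cfsg.Agent.S4567
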