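import Mathlib
import Cfsg.Agent.S4496
import Cfsg.Agent.S4567
import Cfsg.Agent.Lib.Helper1.Cores

set_option autoImplicit false

namespace Cfsg

namespace Agent.S4495

open Cfsg.Agent.S4496
open scoped Pointwise commutatorElement

section

variable {G : Type*} [Group G] [Finite G] (p : ℕ) [Fact p.Prime] (x : G)

/-- a nontrivial element of a subgroup of prime order generates it -/
theorem zpowers_eq_of_mem (hx : orderOf x = p) (u : G) (hu : u ∈ Subgroup.zpowers x)
    (hu1 : u ≠ 1) : Subgroup.zpowers u = Subgroup.zpowers x := by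
  have hp : p.Prime := Fact.out
  have hle : Subgroup.zpowers u ≤ Subgroup.zpowers x := by
    rw [Subgroup.zpowers_le]; exact hu
  apply Subgroup.eq_of_le_of_card_ge hle
  rw [Nat.card_zpowers, Nat.card_zpowers, hx]
  have h1 : orderOf u ∣ p := by
    have := Subgroup.card_dvd_of_le hle
    rwa [Nat.card_zpowers, Nat.card_zpowers, hx] at this
  rcases (Nat.dvd_prime hp).mp h1 with h | h
  · exact absurd (orderOf_eq_one_iff.mp h) hu1
  · rw [h]

theorem centralizer_of_mem (hx : orderOf x = p)
    (hC : Subgroup.centralizer ({x} : Set G) = Subgroup.zpowers x) (u : G)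
    (hu : u ∈ Subgroup.zpowers x) (hu1 : u ≠ 1) :
    Subgroup.centralizer ({u} : Set G) = Subgroup.zpowers x := by
  have hz := zpowers_eq_of_mem p x hx u hu hu1
  have hxu : x ∈ Subgroup.zpowers u := hz ▸ Subgroup.mem_zpowers x
  obtain ⟨k, hk⟩ := Subgroup.mem_zpowers_iff.mp hxu
  obtain ⟨j, hj⟩ := Subgroup.mem_zpowers_iff.mp hu
  ext y
  rw [← hC]
  simp only [Subgroup.mem_centralizer_iff, Set.mem_singleton_iff, forall_eq]
  constructor
  · intro h
    rw [← hk]
    exact (Commute.zpow_left (show Commute u y from h) k)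
  · intro h
    rw [← hj]
    exact (Commute.zpow_left (show Commute x y from h) j)

/-- elements of order `p` have centralizer of order `p` -/
theorem card_centralizer_of_order (hx : orderOf x = p)
    (hC : Subgroup.centralizer ({x} : Set G) = Subgroup.zpowers x) (g : G) (hg : orderOf g = p) :
    Nat.card (Subgroup.centralizer ({g} : Set G)) = p := by
  have hfac := factorization_eq_one p x hx hC
  have hcx : Nat.card (Subgroup.zpowers x) = p ^ (Nat.card G).factorization p := by
    rw [Nat.card_zpowers, hx, hfac, pow_one]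
  have hcg : Nat.card (Subgroup.zpowers g) = p ^ (Nat.card G).factorization p := by
    rw [Nat.card_zpowers, hg, hfac, pow_one]
  obtain ⟨y, hy⟩ := MulAction.exists_smul_eq G (Sylow.ofCard _ hcx : Sylow p G)
    (Sylow.ofCard _ hcg : Sylow p G)
  have hy' : MulAut.conj y • Subgroup.zpowers x = Subgroup.zpowers g := by
    have := congrArg (fun P : Sylow p G => (P : Subgroup G)) hy
    simp only [Sylow.coe_subgroup_smul, Sylow.coe_ofCard] at this
    exact this
  -- y⁻¹ g y ∈ zpowers x
  have hmem : y⁻¹ * g * y ∈ Subgroup.zpowers x := by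
    have h1 : g ∈ MulAut.conj y • Subgroup.zpowers x := by
      rw [hy']; exact Subgroup.mem_zpowers g
    rw [Subgroup.mem_pointwise_smul_iff_inv_smul_mem] at h1
    simpa [MulAut.smul_def, mul_assoc] using h1
  have hne : y⁻¹ * g * y ≠ 1 := by
    intro h
    have : g = 1 := by
      calc g = y * (y⁻¹ * g * y) * y⁻¹ := by group
        _ = 1 := by rw [h]; group
    rw [this, orderOf_one] at hg
    exact (Fact.out : p.Prime).ne_one hg.symm
  have hcen := centralizer_of_mem p x hx hC _ hmem hne
  -- centralizer of g is the conjugate of the centralizer of y⁻¹ g y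
  have hcard : Nat.card (Subgroup.centralizer ({g} : Set G))
      = Nat.card (Subgroup.centralizer ({y⁻¹ * g * y} : Set G)) := by
    apply Nat.card_congr
    refine ⟨fun z => ⟨y⁻¹ * z * y, ?_⟩, fun z => ⟨y * z * y⁻¹, ?_⟩, ?_, ?_⟩
    · have hz := z.2
      rw [Subgroup.mem_centralizer_iff] at hz ⊢
      intro w hw
      rw [Set.mem_singleton_iff] at hw
      subst hw
      have h1 := hz g rfl
      calc y⁻¹ * g * y * (y⁻¹ * z * y) = y⁻¹ * (g * z) * y := by group
        _ = y⁻¹ * (z * g) * y := by rw [h1]
        _ = y⁻¹ * z * y * (y⁻¹ * g * y) := by group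
    · have hz := z.2
      rw [Subgroup.mem_centralizer_iff] at hz ⊢
      intro w hw
      rw [Set.mem_singleton_iff] at hw
      subst hw
      have h1 := hz (y⁻¹ * w * y) rfl
      calc w * (y * z * y⁻¹) = y * ((y⁻¹ * w * y) * z) * y⁻¹ := by group
        _ = y * (z * (y⁻¹ * w * y)) * y⁻¹ := by rw [h1]
        _ = y * z * y⁻¹ * w := by group
    · intro z; apply Subtype.ext; simp only; group
    · intro z; apply Subtype.ext; simp only; group
  rw [hcard, hcen, Nat.card_zpowers, hx]

open Classical in
/-- the number of elements of order `p` when `p ∥ |G|` -/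
theorem card_order_p [Fintype G] [Fintype (Sylow p G)]
    (hfac : (Nat.card G).factorization p = 1) :
    (Finset.univ.filter (fun g : G => orderOf g = p)).card
      = Fintype.card (Sylow p G) * (p - 1) := by
  have hp : p.Prime := Fact.out
  have hcardP : ∀ P : Sylow p G, Nat.card (P : Subgroup G) = p := by
    intro P; rw [P.card_eq_multiplicity, hfac, pow_one]
  -- a nontrivial element of a Sylow subgroup generates it
  have hgen : ∀ (P : Sylow p G) (g : G), g ∈ (P : Subgroup G) → g ≠ 1 →
      orderOf g = p ∧ Subgroup.zpowers g = (P : Subgroup G) := by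
    intro P g hg hg1
    have hle : Subgroup.zpowers g ≤ (P : Subgroup G) := by
      rw [Subgroup.zpowers_le]; exact hg
    have h1 : orderOf g ∣ p := by
      have := Subgroup.card_dvd_of_le hle
      rwa [Nat.card_zpowers, hcardP] at this
    have h2 : orderOf g = p := by
      rcases (Nat.dvd_prime hp).mp h1 with h | h
      · exact absurd (orderOf_eq_one_iff.mp h) hg1
      · exact h
    refine ⟨h2, ?_⟩
    apply Subgroup.eq_of_le_of_card_ge hle
    rw [Nat.card_zpowers, hcardP, h2]
  have hunion : Finset.univ.filter (fun g : G => orderOf g = p)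
      = (Finset.univ : Finset (Sylow p G)).biUnion
          (fun P => Finset.univ.filter (fun g : G => g ∈ (P : Subgroup G) ∧ g ≠ 1)) := by
    ext g
    simp only [Finset.mem_filter, Finset.mem_univ, true_and, Finset.mem_biUnion]
    constructor
    · intro hg
      have hcg : Nat.card (Subgroup.zpowers g) = p ^ (Nat.card G).factorization p := by
        rw [Nat.card_zpowers, hg, hfac, pow_one]
      refine ⟨Sylow.ofCard _ hcg, ?_, ?_⟩
      · rw [Sylow.coe_ofCard]; exact Subgroup.mem_zpowers g
      · intro h; rw [h, orderOf_one] at hg; exact hp.ne_one hg.symm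
    · rintro ⟨P, hgP, hg1⟩
      exact (hgen P g hgP hg1).1
  rw [hunion, Finset.card_biUnion]
  · rw [Finset.sum_const_nat (m := p - 1), Finset.card_univ]
    intro P _
    have h1 : Finset.univ.filter (fun g : G => g ∈ (P : Subgroup G) ∧ g ≠ 1)
        = (Finset.univ.filter (fun g : G => g ∈ (P : Subgroup G))).erase 1 := by
      ext g
      simp only [Finset.mem_filter, Finset.mem_univ, true_and, Finset.mem_erase]
      tauto
    rw [h1, Finset.card_erase_of_mem (by simp [Subgroup.one_mem])]
    congr 1
    have h2 := hcardP P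
    rw [Nat.card_eq_fintype_card, Fintype.card_subtype] at h2
    exact h2
  · intro P _ P' _ hne
    rw [Function.onFun, Finset.disjoint_left]
    intro g hg hg'
    simp only [Finset.mem_filter, Finset.mem_univ, true_and] at hg hg'
    apply hne
    apply Sylow.ext
    rw [← (hgen P g hg.1 hg.2).2, ← (hgen P' g hg'.1 hg'.2).2]

theorem orderOf_of_isConj {a b : G} (h : IsConj a b) : orderOf a = orderOf b := by
  obtain ⟨c, hc⟩ := isConj_iff.mp h
  rw [← hc]
  exact ((MulAut.conj c).orderOf_eq a).symm

/-- `t · |N_G(⟨x⟩)| = p (p - 1)` -/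
theorem t_mul_card_normalizer (hx : orderOf x = p)
    (hC : Subgroup.centralizer ({x} : Set G) = Subgroup.zpowers x) (t : ℕ)
    (ht : Nat.card {C : ConjClasses G // ∃ g ∈ C.carrier, orderOf g = p} = t) :
    t * Nat.card (Subgroup.normalizer (Subgroup.zpowers x : Set G)) = (p - 1) * p := by
  classical
  haveI : Fintype G := Fintype.ofFinite G
  haveI : Fintype (Sylow p G) := Fintype.ofFinite _
  have hp : p.Prime := Fact.out
  have hfac := factorization_eq_one p x hx hC
  have hGne : (Nat.card G : ℂ) ≠ 0 := by exact_mod_cast Nat.card_pos.ne'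
  have h1 := Cfsg.Agent.S4567.card_classes (Q := G) (fun C => ∃ g ∈ C.carrier, orderOf g = p)
  rw [ht] at h1
  have hp0 : (p : ℂ) ≠ 0 := by exact_mod_cast hp.ne_zero
  have h2 : (t : ℂ) = ∑ g : G, if orderOf g = p then (p : ℂ) / (Nat.card G : ℂ) else 0 := by
    rw [h1]
    apply Finset.sum_congr rfl
    intro g _
    have hiff : (∃ g' ∈ (ConjClasses.mk g).carrier, orderOf g' = p) ↔ orderOf g = p := by
      constructor
      · rintro ⟨g', hg', ho⟩
        rw [ConjClasses.mem_carrier_iff_mk_eq, ConjClasses.mk_eq_mk_iff_isConj] at hg'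
        rw [← orderOf_of_isConj hg']; exact ho
      · intro h
        exact ⟨g, ConjClasses.mem_carrier_mk, h⟩
    by_cases hg : orderOf g = p
    · rw [if_pos (hiff.mpr hg), if_pos hg]
      have h3 := Subgroup.card_mul_index (Subgroup.centralizer ({g} : Set G))
      rw [card_centralizer_of_order p x hx hC g hg] at h3
      have h4 : (p : ℂ) * ((Subgroup.centralizer ({g} : Set G)).index : ℂ) = (Nat.card G : ℂ) := by
        exact_mod_cast h3
      have hidx : ((Subgroup.centralizer ({g} : Set G)).index : ℂ) ≠ 0 := by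
        intro h0; rw [h0, mul_zero] at h4; exact hGne h4.symm
      rw [← h4]
      field_simp
    · rw [if_neg (fun h => hg (hiff.mp h)), if_neg hg]
  clear h1
  have h1 := h2
  rw [← Finset.sum_filter, Finset.sum_const, card_order_p p hfac, nsmul_eq_mul] at h1
  -- |G| = |Syl| * |N|
  have hcx : Nat.card (Subgroup.zpowers x) = p ^ (Nat.card G).factorization p := by
    rw [Nat.card_zpowers, hx, hfac, pow_one]
  have h5 : Nat.card (Sylow p G)
      = (Subgroup.normalizer (Subgroup.zpowers x : Set G)).index :=
    Sylow.card_eq_index_normalizer (Sylow.ofCard _ hcx : Sylow p G)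
  have h6 := Subgroup.card_mul_index (Subgroup.normalizer (Subgroup.zpowers x : Set G))
  rw [← h5, Nat.card_eq_fintype_card (α := Sylow p G)] at h6
  have hSne : (Fintype.card (Sylow p G) : ℂ) ≠ 0 := by
    have : 0 < Fintype.card (Sylow p G) := Fintype.card_pos
    exact_mod_cast this.ne'
  have h7 : (t : ℂ) * (Nat.card G : ℂ)
      = (Fintype.card (Sylow p G) : ℂ) * ((p - 1 : ℕ) : ℂ) * (p : ℂ) := by
    rw [h1]
    push_cast
    field_simp
  have h8 : (Nat.card G : ℂ) = (Nat.card (Subgroup.normalizer (Subgroup.zpowers x : Set G)) : ℂ)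
      * (Fintype.card (Sylow p G) : ℂ) := by exact_mod_cast h6.symm
  rw [h8] at h7
  have h9 : (t : ℂ) * (Nat.card (Subgroup.normalizer (Subgroup.zpowers x : Set G)) : ℂ)
      = ((p - 1 : ℕ) : ℂ) * (p : ℂ) := by
    apply mul_left_cancel₀ hSne
    linear_combination h7
  exact_mod_cast h9

/-- If `⟨x⟩ ≤ S` with `S` normal, then `[G : S] · p ≤ |N_G(⟨x⟩)|`. -/
theorem index_mul_le (hx : orderOf x = p)
    (hC : Subgroup.centralizer ({x} : Set G) = Subgroup.zpowers x) (S : Subgroup G) [S.Normal]
    (hxS : x ∈ S) :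
    S.index * p ≤ Nat.card (Subgroup.normalizer (Subgroup.zpowers x : Set G)) := by
  have hp : p.Prime := Fact.out
  have hfac := factorization_eq_one p x hx hC
  have hS0 : Nat.card S ≠ 0 := Nat.card_pos.ne'
  -- the p-part of |S| is p
  have hfacS : (Nat.card S).factorization p = 1 := by
    apply le_antisymm
    · rw [← hfac]
      exact (Nat.factorization_le_iff_dvd hS0 Nat.card_pos.ne').mpr (Subgroup.card_subgroup_dvd_card S) p
    · have hdvd : p ∣ Nat.card S := by
        have h1 : orderOf (⟨x, hxS⟩ : S) = p := by rw [← hx]; exact Subgroup.orderOf_mk x hxS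
        rw [← h1]; exact orderOf_dvd_natCard _
      exact (hp.dvd_iff_one_le_factorization hS0).mp hdvd
  have hcxS : Nat.card (Subgroup.zpowers (⟨x, hxS⟩ : S)) = p ^ (Nat.card S).factorization p := by
    rw [Nat.card_zpowers, hfacS, pow_one, ← hx]
    exact Subgroup.orderOf_mk x hxS
  have hmap : Subgroup.map S.subtype (Sylow.ofCard _ hcxS : Sylow p S) = Subgroup.zpowers x := by
    rw [Sylow.coe_ofCard, MonoidHom.map_zpowers]
    rfl
  have hfr := Sylow.normalizer_sup_eq_top (Sylow.ofCard _ hcxS : Sylow p S)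
  rw [hmap] at hfr
  set N := Subgroup.normalizer (Subgroup.zpowers x : Set G) with hN
  -- [G : S] = [N : N ⊓ S]
  have h1 : S.index = S.relIndex N := by
    rw [← Subgroup.relIndex_top_right, ← hfr, Subgroup.relIndex_sup_right]
  have h2 : Nat.card (N ⊓ S : Subgroup G) * (N ⊓ S).relIndex N = Nat.card N :=
    Cfsg.Agent.Lib.Helper1.card_mul_relIndex_of_le inf_le_left
  rw [Subgroup.inf_relIndex_left] at h2
  -- p divides |N ⊓ S|
  have hxNS : x ∈ N ⊓ S := by
    refine ⟨?_, hxS⟩
    rw [hN]
    exact Subgroup.le_normalizer (Subgroup.mem_zpowers x)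
  have h3 : p ≤ Nat.card (N ⊓ S : Subgroup G) := by
    have h4 : orderOf (⟨x, hxNS⟩ : (N ⊓ S : Subgroup G)) = p := by
      rw [← hx]; exact Subgroup.orderOf_mk x hxNS
    rw [← h4]
    exact Nat.le_of_dvd Nat.card_pos (orderOf_dvd_natCard _)
  rw [h1, ← h2, mul_comm]
  exact Nat.mul_le_mul_right _ h3

theorem mem_commutator_of_normalizer_ne (hx : orderOf x = p)
    (hC : Subgroup.centralizer ({x} : Set G) = Subgroup.zpowers x) (n : G)
    (hn : n ∈ Subgroup.normalizer (Subgroup.zpowers x : Set G)) (hnX : n ∉ Subgroup.zpowers x) :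
    x ∈ commutator G := by
  have h1 : n * x * n⁻¹ ∈ Subgroup.zpowers x :=
    (Subgroup.mem_normalizer_iff.mp hn x).mp (Subgroup.mem_zpowers x)
  have hc : n * x * n⁻¹ * x⁻¹ ∈ Subgroup.zpowers x :=
    Subgroup.mul_mem _ h1 (Subgroup.inv_mem _ (Subgroup.mem_zpowers x))
  have hc1 : n * x * n⁻¹ * x⁻¹ ≠ 1 := by
    intro h
    apply hnX
    rw [← hC, Subgroup.mem_centralizer_iff]
    intro y hy
    rw [Set.mem_singleton_iff] at hy
    subst hy
    have : n * y = y * n := by
      calc n * y = (n * y * n⁻¹ * y⁻¹) * y * n := by group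
        _ = y * n := by rw [h, one_mul]
    exact this.symm
  have hz := zpowers_eq_of_mem p x hx _ hc hc1
  have hcomm : n * x * n⁻¹ * x⁻¹ ∈ commutator G := by
    rw [commutator_def]
    exact Subgroup.commutator_mem_commutator (Subgroup.mem_top n) (Subgroup.mem_top x)
  have : Subgroup.zpowers (n * x * n⁻¹ * x⁻¹) ≤ commutator G := by
    rw [Subgroup.zpowers_le]; exact hcomm
  rw [hz] at this
  exact this (Subgroup.mem_zpowers x)

/-- Burnside case: if `N_G(⟨x⟩) = ⟨x⟩` then `G'` has index `p`. -/
theorem index_commutator_of_normalizer_eq (hx : orderOf x = p)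
    (hC : Subgroup.centralizer ({x} : Set G) = Subgroup.zpowers x)
    (hN : Subgroup.normalizer (Subgroup.zpowers x : Set G) = Subgroup.zpowers x) :
    (commutator G).index = p := by
  have hp : p.Prime := Fact.out
  have hfac := factorization_eq_one p x hx hC
  have hcx : Nat.card (Subgroup.zpowers x) = p ^ (Nat.card G).factorization p := by
    rw [Nat.card_zpowers, hx, hfac, pow_one]
  let P : Sylow p G := Sylow.ofCard _ hcx
  have hPcoe : (P : Subgroup G) = Subgroup.zpowers x := Sylow.coe_ofCard _ _
  have hP : Subgroup.normalizer ((P : Subgroup G) : Set G)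
      ≤ Subgroup.centralizer ((P : Subgroup G) : Set G) := by
    rw [hPcoe, hN]
    intro y hy
    rw [Subgroup.mem_centralizer_iff]
    intro z hz
    obtain ⟨i, rfl⟩ := Subgroup.mem_zpowers_iff.mp hy
    obtain ⟨j, rfl⟩ := Subgroup.mem_zpowers_iff.mp hz
    exact (Commute.zpow_zpow_self x j i)
  set K := (MonoidHom.transferSylow P hP).ker with hK
  have hcompl : Subgroup.IsComplement' K (P : Subgroup G) :=
    MonoidHom.ker_transferSylow_isComplement' P hP
  have hcardK : Nat.card K * p = Nat.card G := by
    have := hcompl.card_mul_card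
    rwa [hPcoe, Nat.card_zpowers, hx] at this
  have hKidx : K.index = p := by
    have h1 := Subgroup.card_mul_index K
    rw [← hcardK] at h1
    exact Nat.eq_of_mul_eq_mul_left Nat.card_pos h1
  -- G' ≤ K
  have hle : commutator G ≤ K := by
    haveI : Fact p.Prime := ⟨hp⟩
    have hcq : Nat.card (G ⧸ K) = p := by rw [← Subgroup.index_eq_card]; exact hKidx
    haveI : IsCyclic (G ⧸ K) := isCyclic_of_prime_card hcq
    letI : CommGroup (G ⧸ K) := IsCyclic.commGroup
    have := Abelianization.commutator_subset_ker (QuotientGroup.mk' K)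
    rwa [QuotientGroup.ker_mk'] at this
  -- K ≤ G'
  have hdisj : Disjoint K (Subgroup.zpowers x) := hPcoe ▸ hcompl.disjoint
  have hge : K ≤ commutator G := by
    -- the map k ↦ k⁻¹ x k x⁻¹ is injective on K
    have hKn : K.Normal := MonoidHom.normal_ker _
    let φ : K → K := fun k => ⟨(k : G)⁻¹ * (x * k * x⁻¹),
      K.mul_mem (K.inv_mem k.2) (hKn.conj_mem k k.2 x)⟩
    have hinj : Function.Injective φ := by
      intro k l hkl
      have h1 : (k : G)⁻¹ * (x * k * x⁻¹) = (l : G)⁻¹ * (x * l * x⁻¹) := congrArg Subtype.val hkl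
      -- (l k⁻¹) commutes with x
      have h2 : (l : G) * (k : G)⁻¹ ∈ Subgroup.zpowers x := by
        rw [← hC, Subgroup.mem_centralizer_iff]
        intro y hy
        rw [Set.mem_singleton_iff] at hy
        subst hy
        have h3 : (l : G) * (k : G)⁻¹ * y = y * ((l : G) * (k : G)⁻¹) := by
          calc (l : G) * (k : G)⁻¹ * y = l * ((k : G)⁻¹ * (y * k * y⁻¹)) * (y * (k : G)⁻¹) := by
                group
            _ = l * ((l : G)⁻¹ * (y * l * y⁻¹)) * (y * (k : G)⁻¹) := by rw [h1]
            _ = y * ((l : G) * (k : G)⁻¹) := by group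
        exact h3.symm
      have h4 : (l : G) * (k : G)⁻¹ ∈ K := K.mul_mem l.2 (K.inv_mem k.2)
      have h5 : (l : G) * (k : G)⁻¹ = 1 := by
        have := Subgroup.disjoint_def.mp hdisj h4 h2
        exact this
      apply Subtype.ext
      have : (l : G) = k := by
        calc (l : G) = (l : G) * (k : G)⁻¹ * k := by group
          _ = k := by rw [h5, one_mul]
      exact this.symm
    have hsurj : Function.Surjective φ := Finite.surjective_of_injective hinj
    intro k hk
    obtain ⟨l, hl⟩ := hsurj ⟨k, hk⟩
    have h1 : (l : G)⁻¹ * (x * l * x⁻¹) = k := congrArg Subtype.val hl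
    rw [← h1, commutator_def]
    have : (l : G)⁻¹ * (x * l * x⁻¹) = ⁅(l : G)⁻¹, x⁆ := by
      rw [commutatorElement_def]; group
    rw [this]
    exact Subgroup.commutator_mem_commutator (Subgroup.mem_top _) (Subgroup.mem_top _)
  rw [le_antisymm hle hge]
  exact hKidx

end

theorem result {G : Type*} [Group G] [Finite G] (p : ℕ) (hp : p.Prime) (x : G) (hx : orderOf x = p) (hC : Subgroup.centralizer ({x} : Set G) = Subgroup.zpowers x) (t : ℕ) (ht : Nat.card {C : ConjClasses G // ∃ g ∈ C.carrier, orderOf g = p} = t) : (t ≠ p - 1 → (commutator G).index * t ≤ p - 1) ∧ (t = p - 1 → (commutator G).index = p) := by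
  haveI : Fact p.Prime := ⟨hp⟩
  have hNt := t_mul_card_normalizer p x hx hC t ht
  have hXN : Subgroup.zpowers x ≤ Subgroup.normalizer (Subgroup.zpowers x : Set G) :=
    Subgroup.le_normalizer
  have hp1 : 0 < p - 1 := Nat.sub_pos_of_lt hp.one_lt
  have hcardX : Nat.card (Subgroup.zpowers x) = p := by rw [Nat.card_zpowers, hx]
  constructor
  · intro hne
    have hNne : Subgroup.normalizer (Subgroup.zpowers x : Set G) ≠ Subgroup.zpowers x := by
      intro h
      rw [h, hcardX] at hNt
      exact hne (Nat.eq_of_mul_eq_mul_right hp.pos hNt)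
    have hex : ∃ n ∈ Subgroup.normalizer (Subgroup.zpowers x : Set G), n ∉ Subgroup.zpowers x := by
      by_contra hcon
      push Not at hcon
      exact hNne (le_antisymm hcon hXN)
    obtain ⟨n, hn, hnX⟩ := hex
    have hxG' := mem_commutator_of_normalizer_ne p x hx hC n hn hnX
    have h1 := index_mul_le p x hx hC (commutator G) hxG'
    have h2 : (commutator G).index * t * p ≤ (p - 1) * p := by
      calc (commutator G).index * t * p = ((commutator G).index * p) * t := by ring
        _ ≤ Nat.card (Subgroup.normalizer (Subgroup.zpowers x : Set G)) * t :=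
            Nat.mul_le_mul_right _ h1
        _ = (p - 1) * p := by rw [mul_comm, hNt]
    exact Nat.le_of_mul_le_mul_right h2 hp.pos
  · intro heq
    rw [heq] at hNt
    have hNp : Nat.card (Subgroup.normalizer (Subgroup.zpowers x : Set G)) = p :=
      Nat.eq_of_mul_eq_mul_left hp1 hNt
    have hN : Subgroup.normalizer (Subgroup.zpowers x : Set G) = Subgroup.zpowers x := by
      symm
      apply Subgroup.eq_of_le_of_card_ge hXN
      rw [hNp, hcardX]
    exact index_commutator_of_normalizer_eq p x hx hC hN

end Agent.S4495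

end Cfsg
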