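import Mathlib
import Cfsg.Prelude.Def_Solvable
import Cfsg.Agent.S4495
import Cfsg.Agent.Lib.Helper1.Cores

set_option autoImplicit false

namespace Cfsg

namespace Agent.S4497

open Cfsg.Agent.S4496 Cfsg.Agent.S4495
open scoped Pointwise commutatorElement

section

variable {G : Type*} [Group G] [Finite G] (p : ℕ) [Fact p.Prime] (x : G)

/-- A normal subgroup meeting `⟨x⟩` trivially consists of commutators. -/
theorem le_commutator_of_disjoint
    (hC : Subgroup.centralizer ({x} : Set G) = Subgroup.zpowers x) (K : Subgroup G) [hKn : K.Normal]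
    (hdisj : Disjoint K (Subgroup.zpowers x)) : K ≤ commutator G := by
  let φ : K → K := fun k => ⟨(k : G)⁻¹ * (x * k * x⁻¹),
    K.mul_mem (K.inv_mem k.2) (hKn.conj_mem k k.2 x)⟩
  have hinj : Function.Injective φ := by
    intro k l hkl
    have h1 : (k : G)⁻¹ * (x * k * x⁻¹) = (l : G)⁻¹ * (x * l * x⁻¹) := congrArg Subtype.val hkl
    have h2 : (l : G) * (k : G)⁻¹ ∈ Subgroup.zpowers x := by
      rw [← hC, Subgroup.mem_centralizer_iff]
      intro y hy
      rw [Set.mem_singleton_iff] at hy
      subst hy
      have h3 : (l : G) * (k : G)⁻¹ * y = y * ((l : G) * (k : G)⁻¹) := by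
        calc (l : G) * (k : G)⁻¹ * y = l * ((k : G)⁻¹ * (y * k * y⁻¹)) * (y * (k : G)⁻¹) := by
              group
          _ = l * ((l : G)⁻¹ * (y * l * y⁻¹)) * (y * (k : G)⁻¹) := by rw [h1]
          _ = y * ((l : G) * (k : G)⁻¹) := by group
      exact h3.symm
    have h4 : (l : G) * (k : G)⁻¹ ∈ K := K.mul_mem l.2 (K.inv_mem k.2)
    have h5 : (l : G) * (k : G)⁻¹ = 1 := Subgroup.disjoint_def.mp hdisj h4 h2
    apply Subtype.ext
    have : (l : G) = k := by
      calc (l : G) = (l : G) * (k : G)⁻¹ * k := by group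
        _ = k := by rw [h5, one_mul]
    exact this.symm
  have hsurj : Function.Surjective φ := Finite.surjective_of_injective hinj
  intro k hk
  obtain ⟨l, hl⟩ := hsurj ⟨k, hk⟩
  have h1 : (l : G)⁻¹ * (x * l * x⁻¹) = k := congrArg Subtype.val hl
  rw [← h1, commutator_def]
  have : (l : G)⁻¹ * (x * l * x⁻¹) = ⁅(l : G)⁻¹, x⁆ := by
    rw [commutatorElement_def]; group
  rw [this]
  exact Subgroup.commutator_mem_commutator (Subgroup.mem_top _) (Subgroup.mem_top _)

/-- a subgroup of order prime to `p` meets `⟨x⟩` trivially -/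
theorem disjoint_of_coprime (hx : orderOf x = p) (K : Subgroup G)
    (hK : (Nat.card K).Coprime p) : Disjoint K (Subgroup.zpowers x) := by
  rw [Subgroup.disjoint_def]
  intro y hyK hyX
  have h1 : orderOf y ∣ Nat.card K := by
    have := orderOf_dvd_natCard (⟨y, hyK⟩ : K)
    rwa [Subgroup.orderOf_mk] at this
  have h2 : orderOf y ∣ p := by
    have := orderOf_dvd_natCard (⟨y, hyX⟩ : Subgroup.zpowers x)
    rwa [Subgroup.orderOf_mk, Nat.card_zpowers, hx] at this
  have h3 : orderOf y ∣ 1 := by
    have := Nat.dvd_gcd h1 h2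
    rwa [hK] at this
  exact orderOf_eq_one_iff.mp (Nat.dvd_one.mp h3)

theorem pPrimeCore_le_commutator (hx : orderOf x = p)
    (hC : Subgroup.centralizer ({x} : Set G) = Subgroup.zpowers x) :
    Cfsg.pPrimeCore p G ≤ commutator G := by
  haveI : (Cfsg.pPrimeCore p G).Normal := Cfsg.Agent.Lib.Helper1.pPrimeCore_normal p
  exact le_commutator_of_disjoint x hC _
    (disjoint_of_coprime p x hx _ (Cfsg.Agent.Lib.Helper1.pPrimeCore_coprime p))

theorem commutator_eq_pPrimeCore (hx : orderOf x = p)
    (hC : Subgroup.centralizer ({x} : Set G) = Subgroup.zpowers x)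
    (hN : Subgroup.normalizer (Subgroup.zpowers x : Set G) = Subgroup.zpowers x) :
    commutator G = Cfsg.pPrimeCore p G := by
  have hp : p.Prime := Fact.out
  apply le_antisymm _ (pPrimeCore_le_commutator p x hx hC)
  apply Cfsg.Agent.Lib.Helper1.le_pPrimeCore inferInstance
  have hidx := index_commutator_of_normalizer_eq p x hx hC hN
  have h1 := Subgroup.card_mul_index (commutator G)
  rw [hidx] at h1
  have hfac := factorization_eq_one p x hx hC
  rw [Nat.coprime_comm, Nat.Prime.coprime_iff_not_dvd hp]
  intro hdvd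
  obtain ⟨m, hm⟩ := hdvd
  have h2 : p ^ 2 ∣ Nat.card G := ⟨m, by rw [← h1, hm]; ring⟩
  have h3 := (Nat.Prime.pow_dvd_iff_le_factorization hp Nat.card_pos.ne').mp h2
  omega

/-- the simplicity statement -/
theorem simple_quotient (hx : orderOf x = p)
    (hC : Subgroup.centralizer ({x} : Set G) = Subgroup.zpowers x) (hxG' : x ∈ commutator G)
    (h : ((Cfsg.pPrimeCore p G).subgroupOf (commutator G)).Normal) :
    IsSimpleGroup (↥(commutator G) ⧸ (Cfsg.pPrimeCore p G).subgroupOf (commutator G)) := by
  have hp : p.Prime := Fact.out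
  have hfac := factorization_eq_one p x hx hC
  set D := commutator G with hD
  set H := (Cfsg.pPrimeCore p G).subgroupOf D with hH
  have hSn : (Cfsg.pPrimeCore p G).Normal := Cfsg.Agent.Lib.Helper1.pPrimeCore_normal p
  have hScop : (Nat.card (Cfsg.pPrimeCore p G)).Coprime p :=
    Cfsg.Agent.Lib.Helper1.pPrimeCore_coprime p
  have hxS : x ∉ Cfsg.pPrimeCore p G := by
    intro hmem
    have := Subgroup.disjoint_def.mp (disjoint_of_coprime p x hx _ hScop) hmem
      (Subgroup.mem_zpowers x)
    rw [this, orderOf_one] at hx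
    exact hp.ne_one hx.symm
  -- p-part of |D| is p
  have hD0 : Nat.card D ≠ 0 := Nat.card_pos.ne'
  have hfacD : (Nat.card D).factorization p = 1 := by
    apply le_antisymm
    · rw [← hfac]
      exact (Nat.factorization_le_iff_dvd hD0 Nat.card_pos.ne').mpr
        (Subgroup.card_subgroup_dvd_card D) p
    · have hdvd : p ∣ Nat.card D := by
        have h1 : orderOf (⟨x, hxG'⟩ : D) = p := by rw [← hx]; exact Subgroup.orderOf_mk x hxG'
        rw [← h1]; exact orderOf_dvd_natCard _
      exact (hp.dvd_iff_one_le_factorization hD0).mp hdvd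
  -- every element of D of order p lies in any normal subgroup L of D with p ∣ |L|
  have key : ∀ L : Subgroup D, L.Normal → p ∣ Nat.card L → ∀ u : D, orderOf u = p → u ∈ L := by
    intro L hL hpL u hu
    obtain ⟨l, hl⟩ := exists_prime_orderOf_dvd_card' p hpL
    have hcl : Nat.card (Subgroup.zpowers (l : D)) = p ^ (Nat.card D).factorization p := by
      rw [Nat.card_zpowers, Subgroup.orderOf_coe, hl, hfacD, pow_one]
    have hcu : Nat.card (Subgroup.zpowers u) = p ^ (Nat.card D).factorization p := by
      rw [Nat.card_zpowers, hu, hfacD, pow_one]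
    obtain ⟨c, hc⟩ := MulAction.exists_smul_eq D (Sylow.ofCard _ hcl : Sylow p D)
      (Sylow.ofCard _ hcu : Sylow p D)
    have hc' : MulAut.conj c • Subgroup.zpowers (l : D) = Subgroup.zpowers u := by
      have := congrArg (fun P : Sylow p D => (P : Subgroup D)) hc
      simp only [Sylow.coe_subgroup_smul, Sylow.coe_ofCard] at this
      exact this
    have h1 : u ∈ MulAut.conj c • Subgroup.zpowers (l : D) := by
      rw [hc']; exact Subgroup.mem_zpowers u
    rw [Subgroup.mem_pointwise_smul_iff_inv_smul_mem] at h1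
    have h2 : (MulAut.conj c)⁻¹ • u ∈ L := by
      have hle : Subgroup.zpowers (l : D) ≤ L := by
        rw [Subgroup.zpowers_le]; exact l.2
      exact hle h1
    have h3 : (MulAut.conj c)⁻¹ • u = c⁻¹ * u * c := by
      simp [MulAut.smul_def]
    rw [h3] at h2
    have := hL.conj_mem _ h2 c
    have e : c * (c⁻¹ * u * c) * c⁻¹ = u := by group
    rwa [e] at this
  haveI hnt : Nontrivial (↥D ⧸ H) := by
    refine ⟨⟨QuotientGroup.mk (⟨x, hxG'⟩ : D), 1, ?_⟩⟩
    intro h1
    rw [QuotientGroup.eq_one_iff] at h1
    exact hxS (Subgroup.mem_subgroupOf.mp h1)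
  refine IsSimpleGroup.mk ?_
  · intro Lbar hLbar
    set L := Lbar.comap (QuotientGroup.mk' H) with hL
    have hLn : L.Normal := hLbar.comap _
    have hHL : H ≤ L := by
      intro y hy
      rw [hL, Subgroup.mem_comap, QuotientGroup.mk'_apply, (QuotientGroup.eq_one_iff y).mpr hy]
      exact Lbar.one_mem
    have hmap : Lbar = L.map (QuotientGroup.mk' H) := by
      rw [hL, Subgroup.map_comap_eq_self_of_surjective (QuotientGroup.mk'_surjective H)]
    by_cases hpL : p ∣ Nat.card L
    · right
      -- L contains x and all its conjugates, hence D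
      have hLtop : L = ⊤ := by
        rw [eq_top_iff]
        -- the normal closure of x in G
        have hcl : Subgroup.normalClosure ({x} : Set G) ≤ L.map D.subtype := by
          rw [Subgroup.normalClosure]
          apply (Subgroup.closure_le _).mpr
          intro y hy
          rw [Group.mem_conjugatesOfSet_iff] at hy
          obtain ⟨a, ha, hconj⟩ := hy
          rw [Set.mem_singleton_iff] at ha
          subst ha
          obtain ⟨c, hc⟩ := isConj_iff.mp hconj
          have hyD : y ∈ D := by
            rw [← hc]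
            exact (inferInstance : D.Normal).conj_mem a hxG' c
          have hyo : orderOf (⟨y, hyD⟩ : D) = p := by
            rw [Subgroup.orderOf_mk, ← hc]
            rw [← hx]
            exact (MulAut.conj c).orderOf_eq a
          exact ⟨⟨y, hyD⟩, key L hLn hpL _ hyo, rfl⟩
        have hpcl : p ∣ Nat.card (Subgroup.normalClosure ({x} : Set G)) := by
          have hxcl : x ∈ Subgroup.normalClosure ({x} : Set G) :=
            Subgroup.subset_normalClosure (Set.mem_singleton x)
          have h1 : orderOf (⟨x, hxcl⟩ : Subgroup.normalClosure ({x} : Set G)) = p := by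
            rw [← hx]; exact Subgroup.orderOf_mk x hxcl
          rw [← h1]; exact orderOf_dvd_natCard _
        have hDle : D ≤ Subgroup.normalClosure ({x} : Set G) :=
          part_a p x hx hC _ hpcl
        intro y _
        obtain ⟨z, hz, hzy⟩ := hcl (hDle y.2)
        have : z = y := Subtype.ext hzy
        rwa [this] at hz
      rw [hmap, hLtop, ← MonoidHom.range_eq_map, MonoidHom.range_eq_top]
      exact QuotientGroup.mk'_surjective H
    · left
      -- L is a normal p'-subgroup of D, hence inside O_{p'}(D), whose image is inside O_{p'}(G)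
      have hLcop : (Nat.card L).Coprime p := by
        rw [Nat.coprime_comm, Nat.Prime.coprime_iff_not_dvd hp]; exact hpL
      have hLle : L ≤ Cfsg.pPrimeCore p D := Cfsg.Agent.Lib.Helper1.le_pPrimeCore hLn hLcop
      haveI : (Cfsg.pPrimeCore p D).Characteristic :=
        Cfsg.Agent.Lib.Helper1.pPrimeCore_characteristic p
      have hnormal : ((Cfsg.pPrimeCore p D).map D.subtype).Normal :=
        ConjAct.normal_of_characteristic_of_normal
      have hcop : (Nat.card ((Cfsg.pPrimeCore p D).map D.subtype)).Coprime p := by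
        rw [Subgroup.card_map_of_injective D.subtype_injective]
        exact Cfsg.Agent.Lib.Helper1.pPrimeCore_coprime p
      have hle2 : (Cfsg.pPrimeCore p D).map D.subtype ≤ Cfsg.pPrimeCore p G :=
        Cfsg.Agent.Lib.Helper1.le_pPrimeCore hnormal hcop
      have hLH : L ≤ H := by
        intro y hy
        rw [hH, Subgroup.mem_subgroupOf]
        exact hle2 ⟨y, hLle hy, rfl⟩
      rw [hmap, eq_bot_iff]
      intro z hz
      obtain ⟨y, hy, rfl⟩ := hz
      rw [Subgroup.mem_bot, QuotientGroup.mk'_apply, QuotientGroup.eq_one_iff]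
      exact hLH hy

end

theorem result {G : Type*} [Group G] [Finite G] (p : ℕ) (hp : p.Prime) (x : G) (hx : orderOf x = p) (hC : Subgroup.centralizer ({x} : Set G) = Subgroup.zpowers x) (t : ℕ) (ht : Nat.card {C : ConjClasses G // ∃ g ∈ C.carrier, orderOf g = p} = t) : Cfsg.pPrimeCore p G ≤ commutator G ∧ (t ≠ p - 1 → ∀ h : ((Cfsg.pPrimeCore p G).subgroupOf (commutator G)).Normal, IsSimpleGroup (↥(commutator G) ⧸ (Cfsg.pPrimeCore p G).subgroupOf (commutator G))) ∧ (t = p - 1 → commutator G = Cfsg.pPrimeCore p G) := by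
  haveI : Fact p.Prime := ⟨hp⟩
  have hNt := t_mul_card_normalizer p x hx hC t ht
  have hXN : Subgroup.zpowers x ≤ Subgroup.normalizer (Subgroup.zpowers x : Set G) :=
    Subgroup.le_normalizer
  have hp1 : 0 < p - 1 := Nat.sub_pos_of_lt hp.one_lt
  have hcardX : Nat.card (Subgroup.zpowers x) = p := by rw [Nat.card_zpowers, hx]
  refine ⟨pPrimeCore_le_commutator p x hx hC, ?_, ?_⟩
  · intro hne h
    have hNne : Subgroup.normalizer (Subgroup.zpowers x : Set G) ≠ Subgroup.zpowers x := by
      intro h
      rw [h, hcardX] at hNt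
      exact hne (Nat.eq_of_mul_eq_mul_right hp.pos hNt)
    have hex : ∃ n ∈ Subgroup.normalizer (Subgroup.zpowers x : Set G), n ∉ Subgroup.zpowers x := by
      by_contra hcon
      push Not at hcon
      exact hNne (le_antisymm hcon hXN)
    obtain ⟨n, hn, hnX⟩ := hex
    have hxG' := mem_commutator_of_normalizer_ne p x hx hC n hn hnX
    exact simple_quotient p x hx hC hxG' h
  · intro heq
    rw [heq] at hNt
    have hNp : Nat.card (Subgroup.normalizer (Subgroup.zpowers x : Set G)) = p :=
      Nat.eq_of_mul_eq_mul_left hp1 hNt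
    have hN : Subgroup.normalizer (Subgroup.zpowers x : Set G) = Subgroup.zpowers x := by
      symm
      apply Subgroup.eq_of_le_of_card_ge hXN
      rw [hNp, hcardX]
    exact commutator_eq_pPrimeCore p x hx hC hN

end Agent.S4497

end Cfsg
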