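import Mathlib
import Cfsg.Statements.S4498
import Cfsg.Agent.Lib.Helper24.BlockOrtho
import Cfsg.Agent.Lib.Helper24.FrobSchur
import Cfsg.Agent.Lib.Helper2.Orthogonality

set_option autoImplicit false
open Cfsg

namespace Cfsg.Agent.S4498

open Cfsg.Agent.Lib.Helper24 Cfsg.Agent.Lib.Helper2
open scoped ComplexConjugate

/-- An element whose order is divisible by `p` and by `q` has a power of order `p * q`. -/
theorem exists_orderOf_eq_mul {G : Type*} [Group G] [Finite G] (p q : ℕ) [Fact p.Prime]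
    [Fact q.Prime] (hpq : p ≠ q) (g : G) (hp : p ∣ orderOf g) (hq : q ∣ orderOf g) :
    ∃ h : G, orderOf h = p * q := by
  have hcop : Nat.Coprime p q := (Nat.coprime_primes Fact.out Fact.out).mpr hpq
  have hdvd : p * q ∣ orderOf g := hcop.mul_dvd_of_dvd_of_dvd hp hq
  obtain ⟨k, hk⟩ := hdvd
  refine ⟨g ^ k, ?_⟩
  have hpos : 0 < orderOf g := orderOf_pos g
  have hk0 : k ≠ 0 := by
    rintro rfl
    rw [mul_zero] at hk
    omega
  have : orderOf (g ^ k) = orderOf g / k := by
    apply orderOf_pow_of_dvd hk0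
    exact ⟨p * q, by rw [hk]; ring⟩
  rw [this, hk, Nat.mul_div_cancel _ (Nat.pos_of_ne_zero hk0)]

/-- Expanding a product of two character combinations via the first orthogonality relation. -/
theorem sum_mul_sum_eq {G : Type*} [Group G] [Fintype G] [Fintype (Cfsg.IrrCharacter G)]
    (a b : Cfsg.IrrCharacter G → ℂ) :
    ∑ g : G, (∑ χ : Cfsg.IrrCharacter G, a χ * conj ((χ : G → ℂ) g)) *
        (∑ ψ : Cfsg.IrrCharacter G, b ψ * (ψ : G → ℂ) g)
      = (Nat.card G : ℂ) * ∑ χ : Cfsg.IrrCharacter G, a χ * b χ := by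
  classical
  have hGne : (Nat.card G : ℂ) ≠ 0 := card_ne_zero_complex
  have horth : ∀ χ ψ : Cfsg.IrrCharacter G, ∑ g : G, (ψ : G → ℂ) g * conj ((χ : G → ℂ) g)
      = (Nat.card G : ℂ) * (if ψ = χ then 1 else 0) := by
    intro χ ψ
    have h1 := classInner_irrCharacter ψ χ
    rw [classInner_def] at h1
    rw [← h1, ← mul_assoc, mul_inv_cancel₀ hGne, one_mul]
  calc ∑ g : G, (∑ χ : Cfsg.IrrCharacter G, a χ * conj ((χ : G → ℂ) g)) *
        (∑ ψ : Cfsg.IrrCharacter G, b ψ * (ψ : G → ℂ) g)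
      = ∑ g : G, ∑ χ : Cfsg.IrrCharacter G, ∑ ψ : Cfsg.IrrCharacter G,
          (a χ * b ψ) * ((ψ : G → ℂ) g * conj ((χ : G → ℂ) g)) := by
        apply Finset.sum_congr rfl; intro g _
        rw [Finset.sum_mul_sum]
        apply Finset.sum_congr rfl; intro χ _
        apply Finset.sum_congr rfl; intro ψ _
        ring
    _ = ∑ χ : Cfsg.IrrCharacter G, ∑ ψ : Cfsg.IrrCharacter G,
          (a χ * b ψ) * ∑ g : G, ((ψ : G → ℂ) g * conj ((χ : G → ℂ) g)) := by
        rw [Finset.sum_comm]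
        apply Finset.sum_congr rfl; intro χ _
        rw [Finset.sum_comm]
        apply Finset.sum_congr rfl; intro ψ _
        rw [Finset.mul_sum]
    _ = ∑ χ : Cfsg.IrrCharacter G, ∑ ψ : Cfsg.IrrCharacter G,
          (if ψ = χ then (Nat.card G : ℂ) * (a χ * b χ) else 0) := by
        apply Finset.sum_congr rfl; intro χ _
        apply Finset.sum_congr rfl; intro ψ _
        rw [horth]
        split_ifs with h
        · rw [h]; ring
        · ring
    _ = ∑ χ : Cfsg.IrrCharacter G, (Nat.card G : ℂ) * (a χ * b χ) := by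
        apply Finset.sum_congr rfl; intro χ _
        rw [Finset.sum_ite_eq']
        simp
    _ = _ := by rw [Finset.mul_sum]

theorem result {G : Type*} [Group G] [Finite G] (p q : ℕ) [Fact p.Prime] [Fact q.Prime] (hpq : p ≠ q) (hp : p ∣ Nat.card G) (hq : q ∣ Nat.card G) (hno : ∀ g : G, orderOf g ≠ p * q) (Mp Mq : Ideal Cfsg.AlgInt) (hMp : Cfsg.IsPModular p Mp) (hMq : Cfsg.IsPModular q Mq) : ∃ χ : Cfsg.IrrCharacter G, (χ : G → ℂ) ≠ (fun _ => 1) ∧ χ ∈ Cfsg.principalBlock Mp G ∧ χ ∈ Cfsg.principalBlock Mq G := by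
  classical
  haveI : Fintype G := Fintype.ofFinite G
  haveI : Fintype (Cfsg.IrrCharacter G) := Fintype.ofFinite _
  obtain ⟨x, hx⟩ := exists_prime_orderOf_dvd_card' p hp
  obtain ⟨y, hy⟩ := exists_prime_orderOf_dvd_card' q hq
  have hBp : Cfsg.IsPBlock Mp (Cfsg.principalBlock Mp G) := ⟨trivIrr G, rfl⟩
  have hBq : Cfsg.IsPBlock Mq (Cfsg.principalBlock Mq G) := ⟨trivIrr G, rfl⟩
  have hGne : (Nat.card G : ℂ) ≠ 0 := card_ne_zero_complex
  -- no element has order divisible by both p and q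
  have hno' : ∀ g : G, p ∣ orderOf g → q ∣ orderOf g → False := by
    intro g h1 h2
    obtain ⟨h, hh⟩ := exists_orderOf_eq_mul p q hpq g h1 h2
    exact hno h hh
  set a : Cfsg.IrrCharacter G → ℂ :=
    fun χ => if χ ∈ Cfsg.principalBlock Mp G then (χ : G → ℂ) x else 0 with ha
  set b : Cfsg.IrrCharacter G → ℂ :=
    fun χ => if χ ∈ Cfsg.principalBlock Mq G then conj ((χ : G → ℂ) y) else 0 with hb
  -- ψ(g) = ∑_{χ ∈ B_p} χ x conj (χ g) vanishes on q-singular g
  have hψ : ∀ g : G, q ∣ orderOf g →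
      ∑ χ : Cfsg.IrrCharacter G, a χ * conj ((χ : G → ℂ) g) = 0 := by
    intro g hg
    have hgp : ¬ p ∣ orderOf g := fun h => hno' g h hg
    have h := weak_block_orthogonality hMp _ hBp g x hgp (by rw [hx])
    rw [finsum_mem_eq_sum_ite] at h
    have h2 := congrArg conj h
    rw [map_zero, map_sum] at h2
    refine Eq.trans ?_ h2
    apply Finset.sum_congr rfl
    intro χ _
    rw [ha]
    by_cases hχ : χ ∈ Cfsg.principalBlock Mp G
    · simp only [if_pos hχ]
      rw [map_mul, Complex.conj_conj, mul_comm]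
    · simp only [if_neg hχ]
      rw [map_zero, zero_mul]
  -- φ(g) = ∑_{χ ∈ B_q} χ g conj (χ y) vanishes on q-regular g
  have hφ : ∀ g : G, ¬ q ∣ orderOf g →
      ∑ χ : Cfsg.IrrCharacter G, b χ * (χ : G → ℂ) g = 0 := by
    intro g hg
    have h := weak_block_orthogonality hMq _ hBq g y hg (by rw [hy])
    rw [finsum_mem_eq_sum_ite] at h
    refine Eq.trans ?_ h
    apply Finset.sum_congr rfl
    intro χ _
    rw [hb]
    by_cases hχ : χ ∈ Cfsg.principalBlock Mq G
    · simp only [if_pos hχ]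
      rw [mul_comm]
    · simp only [if_neg hχ]
      rw [zero_mul]
  -- the double sum
  have hdouble : ∑ g : G, (∑ χ : Cfsg.IrrCharacter G, a χ * conj ((χ : G → ℂ) g)) *
        (∑ ψ : Cfsg.IrrCharacter G, b ψ * (ψ : G → ℂ) g) = 0 := by
    apply Finset.sum_eq_zero
    intro g _
    by_cases hg : q ∣ orderOf g
    · rw [hψ g hg, zero_mul]
    · rw [hφ g hg, mul_zero]
  rw [sum_mul_sum_eq] at hdouble
  have hsum : ∑ χ : Cfsg.IrrCharacter G, a χ * b χ = 0 := by
    rcases mul_eq_zero.mp hdouble with h | h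
    · exact absurd h hGne
    · exact h
  -- if the conclusion fails, the sum is 1
  by_contra hcon
  push Not at hcon
  have htriv_p : trivIrr G ∈ Cfsg.principalBlock Mp G := sameBlock_refl hMp _
  have htriv_q : trivIrr G ∈ Cfsg.principalBlock Mq G := sameBlock_refl hMq _
  have hone : ∑ χ : Cfsg.IrrCharacter G, a χ * b χ = 1 := by
    rw [Finset.sum_eq_single (trivIrr G)]
    · rw [ha, hb]
      simp only [if_pos htriv_p, if_pos htriv_q]
      rw [trivIrr_apply, trivIrr_apply, map_one, mul_one]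
    · intro χ _ hχ
      rw [ha, hb]
      by_cases h1 : χ ∈ Cfsg.principalBlock Mp G
      · by_cases h2 : χ ∈ Cfsg.principalBlock Mq G
        · exfalso
          by_cases h3 : (χ : G → ℂ) = fun _ => 1
          · exact hχ (Subtype.ext h3)
          · exact hcon χ h3 h1 h2
        · simp only [if_neg h2, mul_zero]
      · simp only [if_neg h1, zero_mul]
    · intro h
      exact absurd (Finset.mem_univ _) h
  rw [hone] at hsum
  exact one_ne_zero hsum

end Cfsg.Agent.S4498
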