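import Mathlib
import Cfsg.Statements.S4499
import Cfsg.Agent.S4710
import Cfsg.Agent.Lib.Helper24.BrauerFeit

set_option autoImplicit false
open Cfsg

namespace Cfsg.Agent.S4499

open Cfsg.Agent.Lib.Helper2 Cfsg.Agent.Lib.Helper24
open scoped ComplexConjugate

/-- Let G be a finite group whose order has p-part p^a (a ≥ 1), and fix a maximal ideal M of the algebraic integers containing p. If the degree of one irreducible character of a p-block B is divisible by p^(a−1), then the degree of every irreducible character in B is divisible by p^(a−1) (so B has defect at most 1). -/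
theorem result {G : Type*} [Group G] [Finite G] (p : ℕ) [Fact p.Prime] (M : Ideal Cfsg.AlgInt) (hM : Cfsg.IsPModular p M) (hpa : p ∣ Nat.card G) (B : Set (Cfsg.IrrCharacter G)) (hB : Cfsg.IsPBlock M B) (χ : Cfsg.IrrCharacter G) (hχ : χ ∈ B) (hdiv : p ^ ((Nat.card G).factorization p - 1) ∣ Cfsg.charDegree (χ : G → ℂ)) (ψ : Cfsg.IrrCharacter G) (hψ : ψ ∈ B) : p ^ ((Nat.card G).factorization p - 1) ∣ Cfsg.charDegree (ψ : G → ℂ) := by
  classical
  haveI : Fintype G := Fintype.ofFinite G
  have hp : p.Prime := Fact.out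
  obtain ⟨a, ha⟩ : ∃ a, a = (Nat.card G).factorization p := ⟨_, rfl⟩
  obtain ⟨s, hs⟩ : ∃ s, s = sInf ((fun χ : Cfsg.IrrCharacter G =>
    (Cfsg.charDegree (χ : G → ℂ)).factorization p) '' B) := ⟨_, rfl⟩
  have ha1 : 1 ≤ a := by
    rw [ha]
    exact (hp.dvd_iff_one_le_factorization Nat.card_pos.ne').mp hpa
  have hsχ : s ≤ (Cfsg.charDegree (χ : G → ℂ)).factorization p := by
    rw [hs]
    exact Nat.sInf_le ⟨χ, hχ, rfl⟩
  have hsψ : s ≤ (Cfsg.charDegree (ψ : G → ℂ)).factorization p := by
    rw [hs]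
    exact Nat.sInf_le ⟨ψ, hψ, rfl⟩
  have hχa : (Cfsg.charDegree (χ : G → ℂ)).factorization p ≤ a := by
    rw [ha]
    exact (Nat.factorization_le_iff_dvd (charDegree_ne_zero χ) Nat.card_pos.ne').mpr
      (Cfsg.Agent.Lib.Helper25.charDegree_dvd_card χ.2) p
  have hχv : a - 1 ≤ (Cfsg.charDegree (χ : G → ℂ)).factorization p := by
    rw [ha]
    exact (hp.pow_dvd_iff_le_factorization (charDegree_ne_zero χ)).mp hdiv
  have hd : Cfsg.blockDefect p B = a - s := by
    unfold Cfsg.blockDefect
    rw [← ha, ← hs]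
  have hh : Cfsg.blockHeight p B (χ : G → ℂ)
      = (Cfsg.charDegree (χ : G → ℂ)).factorization p - s := by
    unfold Cfsg.blockHeight
    rw [← hs]
  have h10 := (Cfsg.Agent.S4710.result p M hM B hB (a - s) hd).2 χ hχ
  have hs1 : a - 1 ≤ s := by
    by_contra hcon
    have h2 : 2 ≤ a - s := by omega
    have := h10.2 h2
    rw [hh] at this
    omega
  rw [← ha]
  exact (hp.pow_dvd_iff_le_factorization (charDegree_ne_zero ψ)).mpr (le_trans hs1 hsψ)

end Cfsg.Agent.S4499
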