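import Mathlib
import Cfsg.Statements.S4500
import Cfsg.Agent.S4710
import Cfsg.Agent.S0907
import Cfsg.Agent.Lib.Helper24.Principal
import Cfsg.Agent.Lib.Helper25.EvenDegree
import Cfsg.Agent.Lib.Helper25.Codegree
import Cfsg.Agent.Lib.Helper25.CharBasic
import Cfsg.Agent.Lib.Helper2.BurnsidePQ
import Cfsg.Agent.Lib.Helper2.Linear
import Cfsg.Agent.Lib.Helper11.IndIrr

set_option autoImplicit false
set_option linter.style.haveILetI false
open Cfsg
open scoped ComplexConjugate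

namespace Cfsg.Agent.S4500

open Cfsg.Agent.Lib Cfsg.Agent.Lib.Helper2 Cfsg.Agent.Lib.Helper24

/-- the principal `p`-block contains a nonprincipal character of degree prime to `r` -/
theorem exists_prime_to {G : Type*} [Group G] [Finite G] (p r : ℕ) [hp : Fact p.Prime]
    (hr : r.Prime) (hpG : p ∣ Nat.card G) (M : Ideal Cfsg.AlgInt) (hM : Cfsg.IsPModular p M) :
    ∃ χ : Cfsg.IrrCharacter G, χ ∈ Cfsg.principalBlock M G ∧ (χ : G → ℂ) ≠ (fun _ => 1) ∧
      ¬ r ∣ Cfsg.charDegree (χ : G → ℂ) := by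
  classical
  by_contra hcon
  push Not at hcon
  haveI : Fintype G := Fintype.ofFinite G
  obtain ⟨y, hy⟩ := exists_prime_orderOf_dvd_card' p hpG
  have hB : Cfsg.IsPBlock M (Cfsg.principalBlock M G) := isPBlock_principalBlock
  have h0 := Cfsg.Agent.S0907.result p M hM _ hB (1 : G) y
    (by rw [orderOf_one]; exact hp.out.not_dvd_one) (by rw [hy])
  have hfin : (Cfsg.principalBlock M G).Finite := Set.toFinite _
  rw [finsum_mem_eq_finite_toFinset_sum _ hfin] at h0
  have htriv : trivIrr G ∈ hfin.toFinset := by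
    rw [Set.Finite.mem_toFinset]
    exact trivIrr_mem_principalBlock hM
  rw [← Finset.add_sum_erase _ _ htriv] at h0
  -- each remaining term is divisible by r
  have hterm : ∀ χ ∈ hfin.toFinset.erase (trivIrr G), ∃ α : ℂ, IsIntegral ℤ α ∧
      (χ : G → ℂ) 1 * conj ((χ : G → ℂ) y) = (r : ℂ) * α := by
    intro χ hχ
    rw [Finset.mem_erase, Set.Finite.mem_toFinset] at hχ
    have hne : (χ : G → ℂ) ≠ (fun _ => 1) := by
      intro h
      apply hχ.1
      exact Subtype.ext h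
    obtain ⟨m, hm⟩ := hcon χ hχ.2 hne
    obtain ⟨n, ρ, hirr, hρ⟩ := χ.2
    refine ⟨(m : ℂ) * conj ((χ : G → ℂ) y), ?_, ?_⟩
    · apply IsIntegral.mul
      · exact isIntegral_algebraMap (R := ℤ) (A := ℂ) (x := (m : ℤ))
      · apply map_isIntegral_int
        rw [← hρ]
        exact char_isIntegral ρ y
    · rw [Helper25.char_one_eq_charDegree (Helper25.isCharacter_of_irr χ.2), hm]
      push_cast
      ring
  choose! α hα1 hα2 using hterm
  rw [Finset.sum_congr rfl hα2, ← Finset.mul_sum] at h0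
  have hint : IsIntegral ℤ (∑ χ ∈ hfin.toFinset.erase (trivIrr G), α χ) :=
    IsIntegral.sum _ (fun χ hχ => hα1 χ hχ)
  have hr0 : (r : ℂ) ≠ 0 := by exact_mod_cast hr.ne_zero
  have hval : (∑ χ ∈ hfin.toFinset.erase (trivIrr G), α χ) = ((-1 / (r : ℚ) : ℚ) : ℂ) := by
    have h1 : (trivIrr G : G → ℂ) 1 * conj ((trivIrr G : G → ℂ) y) = 1 := by
      rw [trivIrr_apply, trivIrr_apply, map_one, mul_one]
    rw [h1] at h0
    push_cast
    field_simp
    linear_combination h0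
  obtain ⟨z, hz⟩ := exists_int_of_isIntegral_of_rat _ hval hint
  rw [hval] at hz
  have h2 : ((r : ℤ) : ℂ) * (z : ℂ) = ((-1 : ℤ) : ℂ) := by
    rw [← hz]
    push_cast
    field_simp
  have h3 : (r : ℤ) * z = -1 := by exact_mod_cast h2
  have h4 : (r : ℤ) ∣ 1 := ⟨-z, by linarith⟩
  have h5 : r ∣ 1 := by exact_mod_cast h4
  exact hr.one_lt.ne' (Nat.dvd_one.1 h5)

/-- one half of the statement -/
theorem aux {G : Type*} [Group G] [Finite G] (hns : ¬ Group.IsSolvable G) (p q r a b c : ℕ)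
    (hp : p.Prime) (hq : q.Prime) (hr : r.Prime) (hpq : p ≠ q) (hpr : p ≠ r) (hqr : q ≠ r)
    (ha : a ≤ 2) (hG : Nat.card G = p ^ a * q ^ b * r ^ c) :
    ∃ χ : Cfsg.IrrCharacter G, (χ : G → ℂ) ≠ (fun _ => 1) ∧
      ∃ k : ℕ, Cfsg.charDegree (χ : G → ℂ) = q ^ k := by
  classical
  haveI : Fact p.Prime := ⟨hp⟩
  haveI : Fintype G := Fintype.ofFinite G
  have ha1 : 1 ≤ a := by
    by_contra h
    have h0 : a = 0 := by omega
    apply hns
    rw [h0, pow_zero, one_mul] at hG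
    exact isSolvable_of_card_eq_prime_pow_mul_prime_pow q r hq hr _ G hG ⟨b, c, rfl⟩
  have hpG : p ∣ Nat.card G := by
    rw [hG, mul_assoc]
    exact Dvd.dvd.mul_right (dvd_pow_self p (by omega)) _
  obtain ⟨M, hM⟩ := Helper25.exists_isPModular p hp
  obtain ⟨χ, hχB, hχne, hχr⟩ := exists_prime_to p r hr hpG M hM
  refine ⟨χ, hχne, ?_⟩
  have hB : Cfsg.IsPBlock M (Cfsg.principalBlock M G) := isPBlock_principalBlock
  -- the infimum of the valuations is zero
  have hdeg1 : Cfsg.charDegree (trivIrr G : G → ℂ) = 1 := by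
    have h1 := Helper25.char_one_eq_charDegree (Helper25.isCharacter_of_irr (trivIrr G).2)
    rw [trivIrr_apply] at h1
    exact_mod_cast h1.symm
  have hsInf : sInf ((fun ψ : Cfsg.IrrCharacter G =>
      (Cfsg.charDegree (ψ : G → ℂ)).factorization p) '' (Cfsg.principalBlock M G)) = 0 := by
    apply Nat.eq_zero_of_le_zero
    apply Nat.sInf_le
    refine ⟨trivIrr G, trivIrr_mem_principalBlock hM, ?_⟩
    show (Cfsg.charDegree (trivIrr G : G → ℂ)).factorization p = 0
    rw [hdeg1]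
    simp
  have hfac : (Nat.card G).factorization p = a := by
    rw [hG]
    have hq0 : q ^ b ≠ 0 := pow_ne_zero _ hq.ne_zero
    have hr0 : r ^ c ≠ 0 := pow_ne_zero _ hr.ne_zero
    have hp0 : p ^ a ≠ 0 := pow_ne_zero _ hp.ne_zero
    rw [Nat.factorization_mul (mul_ne_zero hp0 hq0) hr0, Nat.factorization_mul hp0 hq0]
    simp only [Finsupp.coe_add, Pi.add_apply]
    rw [hp.factorization_pow, hq.factorization_pow, hr.factorization_pow]
    simp [hpq.symm, hpr.symm]
  have hdef : Cfsg.blockDefect p (Cfsg.principalBlock M G) = a := by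
    unfold Cfsg.blockDefect
    rw [hsInf, hfac, Nat.sub_zero]
  obtain ⟨-, hht⟩ := Cfsg.Agent.S4710.result p M hM _ hB a hdef
  have hh0 : Cfsg.blockHeight p (Cfsg.principalBlock M G) (χ : G → ℂ) = 0 := by
    obtain ⟨h1, h2⟩ := hht χ hχB
    by_cases ha' : a ≤ 1
    · exact h1 ha'
    · have := h2 (by omega)
      omega
  have hpos : 0 < Cfsg.charDegree (χ : G → ℂ) := by
    have h1 := Helper25.char_one_eq_charDegree (Helper25.isCharacter_of_irr χ.2)
    have h2 := IsIrrCharacter.apply_one_ne_zero χ.2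
    rw [h1] at h2
    exact Nat.pos_of_ne_zero (by exact_mod_cast h2)
  have hχp : ¬ p ∣ Cfsg.charDegree (χ : G → ℂ) := by
    unfold Cfsg.blockHeight at hh0
    rw [hsInf, Nat.sub_zero] at hh0
    intro hdvd
    have := (hp.dvd_iff_one_le_factorization hpos.ne').1 hdvd
    omega
  have hdvd : Cfsg.charDegree (χ : G → ℂ) ∣ p ^ a * q ^ b * r ^ c := by
    rw [← hG]
    exact Helper25.charDegree_dvd_card χ.2
  have hcopr : (Cfsg.charDegree (χ : G → ℂ)).Coprime (r ^ c) :=
    Nat.Coprime.pow_right _ ((Nat.Prime.coprime_iff_not_dvd hr).2 hχr).symm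
  have hcopp : (Cfsg.charDegree (χ : G → ℂ)).Coprime (p ^ a) :=
    Nat.Coprime.pow_right _ ((Nat.Prime.coprime_iff_not_dvd hp).2 hχp).symm
  have h1 : Cfsg.charDegree (χ : G → ℂ) ∣ p ^ a * q ^ b := hcopr.dvd_of_dvd_mul_right hdvd
  have h2 : Cfsg.charDegree (χ : G → ℂ) ∣ q ^ b := hcopp.dvd_of_dvd_mul_left h1
  obtain ⟨k, -, hk⟩ := (Nat.dvd_prime_pow hq).1 h2
  exact ⟨k, hk⟩

/-- If #G = p^a q^b r^c with a ≤ 2 (G ≠ 1), G has a nonprincipal irreducible character of q-power degree and one of r-power degree. -/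
theorem result {G : Type*} [Group G] [Finite G] [Nontrivial G] (p q r a b c : ℕ) (hp : p.Prime) (hq : q.Prime) (hr : r.Prime) (hpq : p ≠ q) (hpr : p ≠ r) (hqr : q ≠ r) (ha : a ≤ 2) (hG : Nat.card G = p ^ a * q ^ b * r ^ c) : (∃ χ : Cfsg.IrrCharacter G, (χ : G → ℂ) ≠ (fun _ => 1) ∧ ∃ k : ℕ, Cfsg.charDegree (χ : G → ℂ) = q ^ k) ∧ ∃ χ : Cfsg.IrrCharacter G, (χ : G → ℂ) ≠ (fun _ => 1) ∧ ∃ k : ℕ, Cfsg.charDegree (χ : G → ℂ) = r ^ k := by
  classical
  by_cases hs : Group.IsSolvable G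
  · haveI := hs
    obtain ⟨φ, -, t, ht⟩ := Helper11.exists_linear_trivialOn_of_solvable (⊥ : Subgroup G)
      bot_ne_top
    have hirr := isIrrCharacter_of_monoidHom φ
    have hne : (fun g => ((φ g : ℂˣ) : ℂ)) ≠ (fun _ : G => (1 : ℂ)) := by
      intro h
      apply ht
      have := congrFun h t
      exact Units.ext this
    have hdeg : Cfsg.charDegree (fun g => ((φ g : ℂˣ) : ℂ)) = 1 := by
      have h1 := Helper25.char_one_eq_charDegree (Helper25.isCharacter_of_irr hirr)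
      rw [map_one, Units.val_one] at h1
      exact_mod_cast h1.symm
    exact ⟨⟨⟨_, hirr⟩, hne, 0, by rw [pow_zero]; exact hdeg⟩,
      ⟨⟨_, hirr⟩, hne, 0, by rw [pow_zero]; exact hdeg⟩⟩
  · refine ⟨aux hs p q r a b c hp hq hr hpq hpr hqr ha hG, ?_⟩
    exact aux hs p r q a c b hp hr hq hpr hpq hqr.symm ha (by rw [hG]; ring)

end Cfsg.Agent.S4500
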