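import Mathlib
import Cfsg.Statements.S4505
import Cfsg.Agent.Lib.Helper24.DefectCount

set_option autoImplicit false
open Cfsg

namespace Cfsg.Agent.S4505

open Cfsg.Agent.Lib.Helper24 Cfsg.Agent.Lib.Helper7

/-- Let G be a finite group, p a prime and M a maximal ideal of the algebraic integers containing p. For every σ, the number of p-blocks of defect exactly σ is at most the number of conjugacy classes of p-regular elements whose centralizer has order divisible by p^σ but not by p^(σ+1). -/
theorem result {G : Type*} [Group G] [Finite G] (p : ℕ) [Fact p.Prime] (M : Ideal Cfsg.AlgInt) (hM : Cfsg.IsPModular p M) (σ : ℕ) : Nat.card {B : Set (Cfsg.IrrCharacter G) // Cfsg.IsPBlock M B ∧ Cfsg.blockDefect p B = σ} ≤ Nat.card {C : ConjClasses G // ∃ g : G, ConjClasses.mk g = C ∧ ¬ p ∣ orderOf g ∧ (Nat.card (Subgroup.centralizer ({g} : Set G))).factorization p = σ} := by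
  classical
  haveI : Fintype G := Fintype.ofFinite G
  apply card_blocks_le_card_classes hM
    {B : Set (Cfsg.IrrCharacter G) | Cfsg.IsPBlock M B ∧ Cfsg.blockDefect p B = σ}
    (fun B h => h.1)
    {C : ConjClasses G | ∃ g : G, ConjClasses.mk g = C ∧ ¬ p ∣ orderOf g ∧
      (Nat.card (Subgroup.centralizer ({g} : Set G))).factorization p = σ}
  rintro B ⟨hB, hBσ⟩ B' ⟨hB', hB'σ⟩ χ hχ g hg
  by_cases hreg : p ∣ orderOf g
  · rw [blockCoeff_eq_zero_of_singular hM B' hB' g hreg, zero_mul]
    exact memLocalIdeal_zero hM
  · have hne : (Nat.card (Subgroup.centralizer ({g} : Set G))).factorization p ≠ σ := by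
      intro h
      exact hg ⟨g, rfl, hreg, h⟩
    rcases lt_or_gt_of_ne hne with hlt | hgt
    · have hω : Cfsg.MemLocalIdeal M (Cfsg.centralChar χ.1 g) := by
        by_contra h
        have := blockDefect_le_factorization hM B hB χ hχ g h
        omega
      exact memLocalIdeal_mul_left hM (blockCoeff_memLocalRing hM B' hB' g) hω
    · have hβ : Cfsg.MemLocalIdeal M (Cfsg.blockCoeff B' g) := by
        by_contra h
        have := factorization_le_blockDefect hM B' hB' g h
        omega
      exact memLocalIdeal_mul_right hM hβ (centralChar_memLocalRing hM χ g)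

end Cfsg.Agent.S4505
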