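import Mathlib
import Cfsg.Statements.S4506
import Cfsg.Agent.Lib.Helper24.Osima
import Cfsg.Agent.Lib.Helper24.BlockRegular
import Cfsg.Agent.Lib.Helper24.Contribution
import Cfsg.Agent.Lib.Helper25.EvenDegree
import Cfsg.Agent.Lib.Helper25.ContribMatrix
import Cfsg.Agent.Lib.Helper2.Expansion
import Cfsg.Agent.Lib.Helper2.CharBasic

set_option autoImplicit false
open Cfsg

namespace Cfsg.Agent.S4506

open Cfsg.Agent.Lib.Helper2 Cfsg.Agent.Lib.Helper24
open scoped ComplexConjugate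

section Aux

/-- the sum of a character over a subgroup is the order of the subgroup times a natural number -/
theorem sum_subgroup_char {G : Type*} [Group G] (P : Subgroup G) [Fintype P] {n : ℕ}
    (ρ : Representation ℂ G (Fin n → ℂ)) :
    ∃ m : ℕ, ∑ u : P, ρ.character (u : G) = (Fintype.card P : ℂ) * m := by
  let ρP : Representation ℂ P (Fin n → ℂ) := ρ.comp P.subtype
  haveI : Invertible (Fintype.card P : ℂ) :=
    invertibleOfNonzero (by exact_mod_cast Fintype.card_ne_zero)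
  have h := (Representation.isProj_averageMap ρP).trace
  refine ⟨Module.finrank ℂ (Representation.invariants ρP), ?_⟩
  rw [← h]
  have e : LinearMap.trace ℂ _ (Representation.averageMap ρP)
      = ⅟(Fintype.card P : ℂ) * ∑ u : P, ρ.character (u : G) := by
    simp [Representation.averageMap, GroupAlgebra.average, map_sum, Representation.character, ρP]
  rw [e, ← mul_assoc, mul_invOf_self, one_mul]

end Aux

/-- Let G be a finite group, p a prime, p^a the p-part of the order of G and g′ its p′-part. Call two irreducible characters p-conjugate when one is obtained from the other by applying a field automorphism of ℂ that fixes the g′-th roots of unity, and let r be the number of characters p-conjugate to the irreducible character χ (χ included). Then the exponent of p in r·χ(1) is at most a; and if p^a divides r·χ(1) then p^a already divides χ(1). -/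
theorem result {G : Type*} [Group G] [Finite G] (p : ℕ) (hp : p.Prime) (χ : Cfsg.IrrCharacter G) (r : ℕ) (hr : Nat.card {ψ : Cfsg.IrrCharacter G // ∃ σ : ℂ ≃+* ℂ, σ (Complex.exp (2 * Real.pi * Complex.I / ((Nat.card G / p ^ (Nat.card G).factorization p) : ℕ))) = Complex.exp (2 * Real.pi * Complex.I / ((Nat.card G / p ^ (Nat.card G).factorization p) : ℕ)) ∧ (ψ : G → ℂ) = fun g => σ ((χ : G → ℂ) g)} = r) : (r * Cfsg.charDegree (χ : G → ℂ)).factorization p ≤ (Nat.card G).factorization p ∧ (p ^ (Nat.card G).factorization p ∣ r * Cfsg.charDegree (χ : G → ℂ) → p ^ (Nat.card G).factorization p ∣ Cfsg.charDegree (χ : G → ℂ)) := by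
  classical
  haveI : Fintype G := Fintype.ofFinite G
  haveI : Fact p.Prime := ⟨hp⟩
  haveI : Fintype (Cfsg.IrrCharacter G) := Fintype.ofFinite _
  obtain ⟨M, hM⟩ := Cfsg.Agent.Lib.Helper25.exists_isPModular p hp
  obtain ⟨a, ha⟩ : ∃ a, a = (Nat.card G).factorization p := ⟨_, rfl⟩
  obtain ⟨g', hg'⟩ : ∃ g', g' = Nat.card G / p ^ a := ⟨_, rfl⟩
  rw [← ha] at hr ⊢
  rw [← hg'] at hr
  have hcard : p ^ a * g' = Nat.card G := by
    rw [ha, hg', ha]; exact Nat.ordProj_mul_ordCompl_eq_self _ p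
  have hg'0 : g' ≠ 0 := by
    rintro rfl
    rw [mul_zero] at hcard
    exact Nat.card_pos.ne' hcard.symm
  haveI : NeZero g' := ⟨hg'0⟩
  obtain ⟨ζ₀, hζ₀⟩ : ∃ ζ₀ : ℂ, ζ₀ = Complex.exp (2 * Real.pi * Complex.I / (g' : ℕ)) := ⟨_, rfl⟩
  rw [← hζ₀] at hr
  have hprim : IsPrimitiveRoot ζ₀ g' := by
    rw [hζ₀]; exact Complex.isPrimitiveRoot_exp g' hg'0
  -- Galois-fixedness on `p`-regular elements
  have hreg : ∀ σ : ℂ ≃+* ℂ, σ ζ₀ = ζ₀ → ∀ g : G, ¬ p ∣ orderOf g →
      σ ((χ : G → ℂ) g) = (χ : G → ℂ) g := by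
    intro σ hσ g hg
    obtain ⟨n, ρ, _, hρ⟩ := χ.2
    obtain ⟨μ, hμ, hpow, _⟩ := Cfsg.Agent.Lib.Helper2.exists_eigenvalues ρ g
    have h1 := hpow 1
    rw [pow_one] at h1
    have hdvd : orderOf g ∣ g' := by
      have h2 : orderOf g ∣ g' * p ^ a := by
        rw [mul_comm, hcard]; exact orderOf_dvd_natCard g
      have hc : Nat.Coprime (orderOf g) (p ^ a) :=
        Nat.Coprime.pow_right a ((Nat.Prime.coprime_iff_not_dvd hp).mpr hg).symm
      exact hc.dvd_of_dvd_mul_right h2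
    rw [← hρ, h1, map_sum]
    apply Finset.sum_congr rfl
    intro i _
    rw [pow_one]
    have hμg : μ i ^ g' = 1 := by
      obtain ⟨c, hc⟩ := hdvd
      rw [hc, pow_mul, hμ i, one_pow]
    obtain ⟨j, _, hj⟩ := hprim.eq_pow_of_pow_eq_one hμg
    rw [← hj, map_pow, hσ]
  -- the orbit
  obtain ⟨X, hX⟩ : ∃ X : Set (Cfsg.IrrCharacter G), X = {ψ : Cfsg.IrrCharacter G |
      ∃ σ : ℂ ≃+* ℂ, σ ζ₀ = ζ₀ ∧ (ψ : G → ℂ) = fun g => σ ((χ : G → ℂ) g)} := ⟨_, rfl⟩
  have hrX : Nat.card X = r := by rw [hX]; exact hr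
  have hχX : χ ∈ X := by
    rw [hX]
    exact ⟨RingEquiv.refl ℂ, rfl, rfl⟩
  obtain ⟨XF, hXF⟩ : ∃ XF : Finset (Cfsg.IrrCharacter G), XF = Finset.univ.filter (· ∈ X) :=
    ⟨_, rfl⟩
  have hXFcard : XF.card = r := by
    rw [← hrX, hXF, Nat.card_eq_fintype_card, Fintype.card_subtype]
  have hr0 : r ≠ 0 := by
    rw [← hXFcard]
    apply Finset.card_ne_zero.mpr
    exact ⟨χ, by rw [hXF]; simp [hχX]⟩
  -- contributions
  have hcI : ∀ ψ ∈ X, Cfsg.classInner (Cfsg.pRegularPart p (χ : G → ℂ)) (ψ : G → ℂ)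
      = Cfsg.classInner (Cfsg.pRegularPart p (χ : G → ℂ)) (χ : G → ℂ) := by
    intro ψ hψ
    rw [hX] at hψ
    obtain ⟨σ, hσ, hψσ⟩ := hψ
    unfold Cfsg.classInner
    congr 1
    apply Finset.sum_congr rfl
    intro g _
    unfold Cfsg.pRegularPart
    by_cases hg : Cfsg.IsPRegular p g
    · rw [if_pos hg, hψσ]
      show _ * conj (σ ((χ : G → ℂ) g)) = _
      rw [hreg σ hσ g hg]
    · rw [if_neg hg, zero_mul, zero_mul]
  obtain ⟨N, hN⟩ : ∃ N, N = Cfsg.Agent.Lib.Helper25.contribN p χ χ := ⟨_, rfl⟩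
  have hNpos : 0 < N := by rw [hN]; exact Cfsg.Agent.Lib.Helper25.contribN_self_pos χ
  have hpa0 : ((p : ℂ) ^ a) ≠ 0 := pow_ne_zero _ (by exact_mod_cast hp.ne_zero)
  have hNX : ∀ ψ ∈ X, Cfsg.Agent.Lib.Helper25.contribN p χ ψ = N := by
    intro ψ hψ
    have h1 := Cfsg.Agent.Lib.Helper25.contribN_spec (p := p) χ ψ
    have h2 := Cfsg.Agent.Lib.Helper25.contribN_spec (p := p) χ χ
    rw [hcI ψ hψ, h2] at h1
    rw [hN]
    exact_mod_cast h1.symm
  obtain ⟨B, hBdef⟩ : ∃ B, B = Cfsg.blockOf M (χ : G → ℂ) := ⟨_, rfl⟩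
  have hB : Cfsg.IsPBlock M B := ⟨χ, hBdef⟩
  have hχB : χ ∈ B := by rw [hBdef]; exact sameBlock_refl hM _
  have hXB : ∀ ψ ∈ X, ψ ∈ B := by
    intro ψ hψ
    by_contra hnot
    have := Cfsg.Agent.Lib.Helper25.contribN_eq_zero hM B hB χ ψ hχB hnot
    rw [hNX ψ hψ] at this
    omega
  have hsum := Cfsg.Agent.Lib.Helper25.sum_contribN_sq hM B hB χ hχB
  rw [← ha, ← hN] at hsum
  -- split the sum
  have hsplit : ∑ ξ : Cfsg.IrrCharacter G,
      (if ξ ∈ B then Cfsg.Agent.Lib.Helper25.contribN p χ ξ ^ 2 else 0)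
      = (r : ℤ) * N ^ 2 + ∑ ξ ∈ Finset.univ.filter (fun ξ => ξ ∉ X),
        (if ξ ∈ B then Cfsg.Agent.Lib.Helper25.contribN p χ ξ ^ 2 else 0) := by
    rw [← Finset.sum_filter_add_sum_filter_not Finset.univ (· ∈ X)]
    congr 1
    rw [← hXF]
    rw [Finset.sum_congr rfl (g := fun _ => N ^ 2)]
    · rw [Finset.sum_const, hXFcard, nsmul_eq_mul]
    · intro ξ hξ
      rw [hXF, Finset.mem_filter] at hξ
      rw [if_pos (hXB ξ hξ.2), hNX ξ hξ.2]
  have hrest_nonneg : 0 ≤ ∑ ξ ∈ Finset.univ.filter (fun ξ => ξ ∉ X),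
        (if ξ ∈ B then Cfsg.Agent.Lib.Helper25.contribN p χ ξ ^ 2 else 0) := by
    apply Finset.sum_nonneg
    intro ξ _
    split_ifs
    · positivity
    · exact le_refl _
  have hrN : (r : ℤ) * N ≤ (p : ℤ) ^ a := by
    have h1 : (r : ℤ) * N ^ 2 ≤ (p : ℤ) ^ a * N := by rw [← hsum, hsplit]; omega
    have h2 : ((r : ℤ) * N) * N ≤ (p : ℤ) ^ a * N := by rw [mul_assoc, ← pow_two]; exact h1
    exact le_of_mul_le_mul_right h2 hNpos
  obtain ⟨v, hv⟩ : ∃ v, v = (Cfsg.charDegree (χ : G → ℂ)).factorization p := ⟨_, rfl⟩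
  have hpvN : (p : ℤ) ^ v ≤ N := by
    have := Cfsg.Agent.Lib.Helper25.pow_dvd_contribN hM χ χ
    rw [← hv, ← hN] at this
    exact Int.le_of_dvd hNpos this
  have hd0 : Cfsg.charDegree (χ : G → ℂ) ≠ 0 := charDegree_ne_zero χ
  obtain ⟨e, he⟩ : ∃ e, e = r.factorization p := ⟨_, rfl⟩
  have hper : p ^ e ≤ r := by
    rw [he]; exact Nat.le_of_dvd (Nat.pos_of_ne_zero hr0) (Nat.ordProj_dvd r p)
  have hfac : (r * Cfsg.charDegree (χ : G → ℂ)).factorization p = e + v := by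
    rw [Nat.factorization_mul hr0 hd0, Finsupp.add_apply, ← he, ← hv]
  have hrpv : (r : ℤ) * (p : ℤ) ^ v ≤ (p : ℤ) ^ a :=
    le_trans (mul_le_mul_of_nonneg_left hpvN (by positivity)) hrN
  have hrpv' : r * p ^ v ≤ p ^ a := by exact_mod_cast hrpv
  have hev : e + v ≤ a := by
    have h1 : p ^ (e + v) ≤ p ^ a := by
      rw [pow_add]
      exact le_trans (Nat.mul_le_mul_right _ hper) hrpv'
    exact (Nat.pow_le_pow_iff_right hp.one_lt).mp h1
  refine ⟨by rw [hfac]; exact hev, ?_⟩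
  intro hdiv
  have hae : a ≤ e + v := by
    rw [← hfac]
    exact (Nat.Prime.pow_dvd_iff_le_factorization hp (Nat.mul_ne_zero hr0 hd0)).mp hdiv
  have heq : e + v = a := le_antisymm hev hae
  -- equalities
  have hpe : p ^ a ≤ r * p ^ v := by
    rw [← heq, pow_add]; exact Nat.mul_le_mul_right _ hper
  have hrp : r * p ^ v = p ^ a := le_antisymm hrpv' hpe
  have hrN' : (r : ℤ) * N = (p : ℤ) ^ a := by
    apply le_antisymm hrN
    have : ((r * p ^ v : ℕ) : ℤ) = ((p ^ a : ℕ) : ℤ) := by rw [hrp]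
    push_cast at this
    rw [← this]
    exact mul_le_mul_of_nonneg_left hpvN (by positivity)
  have hNeq : N = (p : ℤ) ^ v := by
    have h1 : (r : ℤ) * N = (r : ℤ) * (p : ℤ) ^ v := by
      rw [hrN']
      have : ((r * p ^ v : ℕ) : ℤ) = ((p ^ a : ℕ) : ℤ) := by rw [hrp]
      push_cast at this
      exact this.symm
    exact mul_left_cancel₀ (by exact_mod_cast hr0) h1
  have hrest0 : ∑ ξ ∈ Finset.univ.filter (fun ξ => ξ ∉ X),
        (if ξ ∈ B then Cfsg.Agent.Lib.Helper25.contribN p χ ξ ^ 2 else 0) = 0 := by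
    have h1 : (r : ℤ) * N ^ 2 = (p : ℤ) ^ a * N := by rw [← hrN']; ring
    rw [hsplit, h1] at hsum
    linarith
  have hzero : ∀ ξ : Cfsg.IrrCharacter G, ξ ∉ X →
      Cfsg.classInner (Cfsg.pRegularPart p (χ : G → ℂ)) (ξ : G → ℂ) = 0 := by
    intro ξ hξ
    have hc0 : Cfsg.Agent.Lib.Helper25.contribN p χ ξ = 0 := by
      by_cases hξB : ξ ∈ B
      · have h1 := (Finset.sum_eq_zero_iff_of_nonneg (fun ξ _ => by
          split_ifs
          · positivity
          · exact le_refl _)).mp hrest0 ξ (by simp [hξ])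
        rw [if_pos hξB] at h1
        exact pow_eq_zero_iff (two_ne_zero) |>.mp h1
      · exact Cfsg.Agent.Lib.Helper25.contribN_eq_zero hM B hB χ ξ hχB hξB
    have h1 := Cfsg.Agent.Lib.Helper25.contribN_spec (p := p) χ ξ
    rw [hc0, Int.cast_zero, ← ha] at h1
    exact (mul_eq_zero.mp h1).resolve_left hpa0
  have hval : ∀ ξ ∈ X, (p : ℂ) ^ a *
      Cfsg.classInner (Cfsg.pRegularPart p (χ : G → ℂ)) (ξ : G → ℂ) = (p : ℂ) ^ v := by
    intro ξ hξ
    have h1 := Cfsg.Agent.Lib.Helper25.contribN_spec (p := p) χ ξ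
    rw [hNX ξ hξ, hNeq, ← ha] at h1
    rw [h1]; push_cast; rfl
  -- expansion of the regular part
  have hexp := Cfsg.Agent.Lib.Helper2.classFunction_expansion
    (Cfsg.pRegularPart p (χ : G → ℂ))
    (pRegularPart_isClassFunction _ (Cfsg.Agent.Lib.Helper2.IrrCharacter.isClassFunction χ))
  -- a Sylow subgroup
  obtain ⟨P⟩ : Nonempty (Sylow p G) := inferInstance
  haveI : Fintype (P : Subgroup G) := Fintype.ofFinite _
  have hPcard : Fintype.card (P : Subgroup G) = p ^ a := by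
    rw [← Nat.card_eq_fintype_card, ha]; exact P.card_eq_multiplicity
  obtain ⟨n, ρ, _, hρ⟩ := χ.2
  obtain ⟨m, hm⟩ := sum_subgroup_char (P : Subgroup G) ρ
  rw [hρ] at hm
  -- sum of the regular part over P
  have hs1 : ∑ u : (P : Subgroup G), Cfsg.pRegularPart p (χ : G → ℂ) (u : G)
      = (χ : G → ℂ) 1 := by
    rw [Finset.sum_eq_single (1 : (P : Subgroup G))]
    · unfold Cfsg.pRegularPart
      rw [if_pos]
      · rfl
      · show ¬ p ∣ orderOf (((1 : (P : Subgroup G)) : G))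
        rw [Subgroup.coe_one, orderOf_one]
        exact hp.one_lt.ne' ∘ Nat.dvd_one.mp
    · intro u _ hu
      unfold Cfsg.pRegularPart
      rw [if_neg]
      intro hreg'
      apply hu
      obtain ⟨k, hk⟩ := P.2 u
      have hk' : (u : G) ^ p ^ k = 1 := by
        have := congrArg (fun z : (P : Subgroup G) => (z : G)) hk
        simpa using this
      have h2 : orderOf (u : G) ∣ p ^ k := orderOf_dvd_of_pow_eq_one hk'
      obtain ⟨j, _, hj⟩ := (Nat.dvd_prime_pow hp).mp h2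
      have : j = 0 := by
        by_contra hj0
        apply hreg'
        show p ∣ orderOf (u : G)
        rw [hj]
        exact dvd_pow_self p hj0
      rw [this, pow_zero, orderOf_eq_one_iff] at hj
      exact Subtype.ext hj
    · intro h; exact absurd (Finset.mem_univ _) h
  have hs2 : ∀ ξ ∈ X, ∑ u : (P : Subgroup G), (ξ : G → ℂ) (u : G)
      = (Fintype.card (P : Subgroup G) : ℂ) * m := by
    intro ξ hξ
    rw [hX] at hξ
    obtain ⟨σ, _, hξσ⟩ := hξ
    rw [hξσ]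
    show ∑ u : (P : Subgroup G), σ ((χ : G → ℂ) (u : G)) = _
    rw [← map_sum, hm, map_mul, map_natCast, map_natCast]
  have hs3 : ∑ u : (P : Subgroup G), Cfsg.pRegularPart p (χ : G → ℂ) (u : G)
      = ∑ ξ : Cfsg.IrrCharacter G,
          Cfsg.classInner (Cfsg.pRegularPart p (χ : G → ℂ)) (ξ : G → ℂ) *
            ∑ u : (P : Subgroup G), (ξ : G → ℂ) (u : G) := by
    conv_lhs => rw [hexp]
    simp only [Finset.sum_apply, Pi.smul_apply, smul_eq_mul]
    rw [Finset.sum_comm]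
    apply Finset.sum_congr rfl
    intro ξ _
    rw [Finset.mul_sum]
  have hfinal : (p : ℂ) ^ a * (χ : G → ℂ) 1
      = (r : ℂ) * ((p : ℂ) ^ v * ((p : ℂ) ^ a * m)) := by
    rw [← hs1, hs3, Finset.mul_sum]
    rw [← Finset.sum_filter_add_sum_filter_not Finset.univ (· ∈ X)]
    rw [← hXF]
    have h0 : ∑ ξ ∈ Finset.univ.filter (fun ξ => ξ ∉ X), (p : ℂ) ^ a *
        (Cfsg.classInner (Cfsg.pRegularPart p (χ : G → ℂ)) (ξ : G → ℂ) *
            ∑ u : (P : Subgroup G), (ξ : G → ℂ) (u : G)) = 0 := by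
      apply Finset.sum_eq_zero
      intro ξ hξ
      rw [Finset.mem_filter] at hξ
      rw [hzero ξ hξ.2, zero_mul, mul_zero]
    rw [h0, add_zero]
    rw [Finset.sum_congr rfl (g := fun _ => (p : ℂ) ^ v * ((p : ℂ) ^ a * m))]
    · rw [Finset.sum_const, hXFcard, nsmul_eq_mul]
    · intro ξ hξ
      rw [hXF, Finset.mem_filter] at hξ
      rw [← mul_assoc, hval ξ hξ.2, hs2 ξ hξ.2, hPcard]
      push_cast
      rfl
  have hchi1 : (χ : G → ℂ) 1 = ((p ^ a * m : ℕ) : ℂ) := by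
    have h1 : (p : ℂ) ^ a * (χ : G → ℂ) 1 = (p : ℂ) ^ a * ((p ^ a * m : ℕ) : ℂ) := by
      rw [hfinal]
      have : ((r * p ^ v : ℕ) : ℂ) = ((p ^ a : ℕ) : ℂ) := by rw [hrp]
      push_cast at this ⊢
      rw [← mul_assoc, this]
    exact mul_left_cancel₀ hpa0 h1
  rw [apply_one_eq_charDegree] at hchi1
  have : Cfsg.charDegree (χ : G → ℂ) = p ^ a * m := by exact_mod_cast hchi1
  rw [this]
  exact dvd_mul_right _ _

end Cfsg.Agent.S4506
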