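import Cfsg.Statements.S4509
import Cfsg.Agent.Lib.Helper11.SelfCentP

set_option autoImplicit false
open Cfsg

namespace Cfsg.Agent.S4509

/-- Let the finite group G contain an element x of prime order p with C_G(x) = ⟨x⟩; let t be the number of conjugacy classes of elements of order p and 1 + n·p the number of subgroups of order p. Then G has a normal subgroup of order 1 + n·p if and only if either t = p − 1, or t < p − 1 and G″ ≠ G′. Moreover, if t = p − 1 then G′ has order 1 + n·p and G/G′ is cyclic of order p; and if t < p − 1 and G″ ≠ G′ then G″ has order 1 + n·p and G′ has order p·(1 + n·p). -/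
theorem result {G : Type*} [Group G] [Finite G] (p : ℕ) (hp : p.Prime) (x : G) (hx : orderOf x = p) (hC : Subgroup.centralizer ({x} : Set G) = Subgroup.zpowers x) (t : ℕ) (ht : Nat.card {C : ConjClasses G // ∃ g ∈ C.carrier, orderOf g = p} = t) (n : ℕ) (hn : Nat.card {H : Subgroup G // Nat.card H = p} = 1 + n * p) : ((∃ S : Subgroup G, S.Normal ∧ Nat.card S = 1 + n * p) ↔ (t = p - 1 ∨ (t < p - 1 ∧ derivedSeries G 2 ≠ derivedSeries G 1))) ∧ (t = p - 1 → Nat.card (commutator G) = 1 + n * p ∧ IsCyclic (G ⧸ commutator G) ∧ (commutator G).index = p) ∧ (t < p - 1 → derivedSeries G 2 ≠ derivedSeries G 1 → Nat.card (derivedSeries G 2) = 1 + n * p ∧ Nat.card (commutator G) = p * (1 + n * p)) := by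
  haveI : Fact p.Prime := ⟨hp⟩
  have hd1 : derivedSeries G 1 = commutator G := by
    rw [derivedSeries_succ, derivedSeries_zero, commutator_def]
  have hd2 : derivedSeries G 2 = ⁅commutator G, commutator G⁆ := by
    rw [derivedSeries_succ, hd1]
  rw [hd1, hd2]
  obtain ⟨htle, hteq, htlt⟩ :=
    Cfsg.Agent.Lib.Helper11.SelfCentP.card_normalizer_of_t p x hx hC t ht
  have hxG' : t < p - 1 → x ∈ commutator G := by
    intro h
    obtain ⟨m, hmN, hmX⟩ := htlt h
    exact Cfsg.Agent.S4495.mem_commutator_of_normalizer_ne p x hx hC m hmN hmX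
  have h2 : t = p - 1 → Nat.card (commutator G) = 1 + n * p ∧ IsCyclic (G ⧸ commutator G) ∧
      (commutator G).index = p := by
    intro h
    obtain ⟨hc, hi⟩ :=
      Cfsg.Agent.Lib.Helper11.SelfCentP.card_commutator_of_normalizer_eq p x hx hC (hteq h)
    refine ⟨by rw [hc, hn], ?_, hi⟩
    apply isCyclic_of_prime_card (p := p)
    rw [← Subgroup.index_eq_card, hi]
  have h3 : t < p - 1 → ⁅commutator G, commutator G⁆ ≠ commutator G →
      Nat.card ↥⁅commutator G, commutator G⁆ = 1 + n * p ∧
        Nat.card (commutator G) = p * (1 + n * p) := by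
    intro h hne
    obtain ⟨hc1, hc2⟩ :=
      Cfsg.Agent.Lib.Helper11.SelfCentP.card_second_derived p x hx hC (hxG' h) hne
    exact ⟨by rw [hc1, hn], by rw [hc2, hn]⟩
  refine ⟨⟨?_, ?_⟩, h2, h3⟩
  · rintro ⟨S, hSn, hScard⟩
    by_cases h : t = p - 1
    · exact Or.inl h
    · right
      have hlt : t < p - 1 := lt_of_le_of_ne htle h
      refine ⟨hlt, ?_⟩
      haveI := hSn
      exact Cfsg.Agent.Lib.Helper11.SelfCentP.second_derived_ne_of_normal p x hx hC S
        (by rw [hScard, hn]) (hxG' hlt)
  · rintro (h | ⟨h, hne⟩)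
    · exact ⟨commutator G, inferInstance, (h2 h).1⟩
    · refine ⟨⁅commutator G, commutator G⁆, ?_, (h3 h hne).1⟩
      exact Subgroup.commutator_normal _ _

end Cfsg.Agent.S4509
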