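import Mathlib
import Cfsg.Statements.S4510
import Cfsg.Agent.Lib.Helper24.DefectCount

set_option autoImplicit false
open Cfsg

namespace Cfsg.Agent.S4510

open Cfsg.Agent.Lib.Helper24 Cfsg.Agent.Lib.Helper7 Cfsg.Agent.Lib.Helper2

/-- Let G be a finite group, p a prime, M a maximal ideal of the algebraic integers containing p, and call the defect of a conjugacy class the exponent of p in the order of the centralizer of its elements. Two irreducible characters lying in p-blocks of defect exactly d lie in the same block if and only if their central characters (class size times χ(x)/χ(1)) agree modulo the local ideal at M at every p-regular element x whose class has defect exactly d. -/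
theorem result {G : Type*} [Group G] [Finite G] (p : ℕ) [Fact p.Prime] (M : Ideal Cfsg.AlgInt) (hM : Cfsg.IsPModular p M) (d : ℕ) (χ ψ : Cfsg.IrrCharacter G) (hχ : Cfsg.blockDefect p (Cfsg.blockOf M (χ : G → ℂ)) = d) (hψ : Cfsg.blockDefect p (Cfsg.blockOf M (ψ : G → ℂ)) = d) : Cfsg.SameBlock M (χ : G → ℂ) (ψ : G → ℂ) ↔ ∀ x : G, ¬ p ∣ orderOf x → (Nat.card (Subgroup.centralizer ({x} : Set G))).factorization p = d → Cfsg.MemLocalIdeal M (Cfsg.centralChar (χ : G → ℂ) x - Cfsg.centralChar (ψ : G → ℂ) x) := by
  classical
  haveI : Fintype G := Fintype.ofFinite G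
  constructor
  · intro h x _ _
    exact h x
  · intro h
    by_contra hcon
    have hB : Cfsg.IsPBlock M (Cfsg.blockOf M (χ : G → ℂ)) := ⟨χ, rfl⟩
    have hB' : Cfsg.IsPBlock M (Cfsg.blockOf M (ψ : G → ℂ)) := ⟨ψ, rfl⟩
    have hχB : χ ∈ Cfsg.blockOf M (χ : G → ℂ) := mem_blockOf_self hM χ
    have hψB' : ψ ∈ Cfsg.blockOf M (ψ : G → ℂ) := mem_blockOf_self hM ψ
    have hψB : ψ ∉ Cfsg.blockOf M (χ : G → ℂ) := hcon
    have h1 : omega χ.1 (Cfsg.blockCoeff (Cfsg.blockOf M (χ : G → ℂ))) = 1 := by
      rw [omega_blockCoeff, if_pos hχB]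
    have h0 : omega ψ.1 (Cfsg.blockCoeff (Cfsg.blockOf M (χ : G → ℂ))) = 0 := by
      rw [omega_blockCoeff, if_neg hψB]
    have hkey : Cfsg.MemLocalIdeal M
        (omega χ.1 (Cfsg.blockCoeff (Cfsg.blockOf M (χ : G → ℂ)))
          - omega ψ.1 (Cfsg.blockCoeff (Cfsg.blockOf M (χ : G → ℂ)))) := by
      rw [omega_eq_sum, omega_eq_sum, ← Finset.sum_sub_distrib]
      have hform : ∀ g : G,
          (Cfsg.blockCoeff (Cfsg.blockOf M (χ : G → ℂ)) g * Cfsg.centralChar χ.1 g)
            * ((Subgroup.centralizer ({g} : Set G)).index : ℂ)⁻¹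
          - (Cfsg.blockCoeff (Cfsg.blockOf M (χ : G → ℂ)) g * Cfsg.centralChar ψ.1 g)
            * ((Subgroup.centralizer ({g} : Set G)).index : ℂ)⁻¹
          = (Cfsg.blockCoeff (Cfsg.blockOf M (χ : G → ℂ)) g
              * (Cfsg.centralChar χ.1 g - Cfsg.centralChar ψ.1 g))
            * ((Subgroup.centralizer ({g} : Set G)).index : ℂ)⁻¹ := by
        intro g; ring
      rw [Finset.sum_congr rfl (fun g _ => hform g)]
      apply sum_mul_inv_index_mem (MlocC hM)
        (fun g => Cfsg.blockCoeff (Cfsg.blockOf M (χ : G → ℂ)) g
              * (Cfsg.centralChar χ.1 g - Cfsg.centralChar ψ.1 g))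
      · intro g x
        simp only
        rw [blockCoeff_isClassFunction _ g x,
          centralChar_isClassFunction _ (IrrCharacter.isClassFunction χ) g x,
          centralChar_isClassFunction _ (IrrCharacter.isClassFunction ψ) g x]
      · intro g
        show Cfsg.MemLocalIdeal M _
        by_cases hreg : p ∣ orderOf g
        · rw [blockCoeff_eq_zero_of_singular hM _ hB g hreg, zero_mul]
          exact memLocalIdeal_zero hM
        · rcases lt_trichotomy
            ((Nat.card (Subgroup.centralizer ({g} : Set G))).factorization p) d with hlt | heq | hgt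
          · have hω : Cfsg.MemLocalIdeal M (Cfsg.centralChar χ.1 g) := by
              by_contra h'
              have := blockDefect_le_factorization hM _ hB χ hχB g h'
              omega
            have hω' : Cfsg.MemLocalIdeal M (Cfsg.centralChar ψ.1 g) := by
              by_contra h'
              have := blockDefect_le_factorization hM _ hB' ψ hψB' g h'
              omega
            exact memLocalIdeal_mul_left hM (blockCoeff_memLocalRing hM _ hB g)
              (memLocalIdeal_sub hM hω hω')
          · exact memLocalIdeal_mul_left hM (blockCoeff_memLocalRing hM _ hB g) (h g hreg heq)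
          · have hβ : Cfsg.MemLocalIdeal M (Cfsg.blockCoeff (Cfsg.blockOf M (χ : G → ℂ)) g) := by
              by_contra h'
              have := factorization_le_blockDefect hM _ hB g h'
              omega
            exact memLocalIdeal_mul_right hM hβ (memLocalRing_sub hM
              (centralChar_memLocalRing hM χ g) (centralChar_memLocalRing hM ψ g))
    rw [h1, h0, sub_zero] at hkey
    exact not_memLocalIdeal_one hM hkey

end Cfsg.Agent.S4510
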