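import Mathlib
import Cfsg.Statements.S4512
import Cfsg.Agent.S0948
import Cfsg.Agent.Lib.Helper7.BrauerCount3
import Cfsg.Agent.Lib.Helper13.Sylow

set_option autoImplicit false
open Cfsg

namespace Cfsg.Agent.S4512

open Cfsg.Agent.Lib.Helper7 Cfsg.Agent.Lib.Helper24 Cfsg.Agent.Lib.Helper2

/-- the centralizer of an involution of a Klein four Sylow subgroup has a normal 2-complement -/
theorem centralizer_normal_complement {G : Type*} [Group G] [Finite G] (P : Sylow 2 G)
    (hP : IsKleinFour (P : Subgroup G)) (z : G) (hzP : z ∈ (P : Subgroup G)) (hz1 : z ≠ 1) :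
    ∃ k : ℕ, (Cfsg.pPrimeCore 2 (Subgroup.centralizer ({z} : Set G))).index = 2 ^ k := by
  classical
  haveI : Fact (Nat.Prime 2) := ⟨Nat.prime_two⟩
  haveI := hP
  have hcardP : Nat.card (P : Subgroup G) = 4 := IsKleinFour.card_four
  have hPH : (P : Subgroup G) ≤ Subgroup.centralizer ({z} : Set G) := by
    intro q hq
    rw [Subgroup.mem_centralizer_singleton_iff]
    have h := mul_comm_of_exponent_two (G := (P : Subgroup G)) IsKleinFour.exponent_two
      ⟨q, hq⟩ ⟨z, hzP⟩
    exact congrArg Subtype.val h
  have hQK : IsKleinFour ((P.subtype hPH : Sylow 2 (Subgroup.centralizer ({z} : Set G)))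
      : Subgroup (Subgroup.centralizer ({z} : Set G))) := by
    rw [Sylow.coe_subtype]
    have e := Subgroup.subgroupOfEquivOfLe hPH
    exact ⟨by rw [Nat.card_congr e.toEquiv, hcardP],
      by rw [Monoid.exponent_eq_of_mulEquiv e]; exact IsKleinFour.exponent_two⟩
  have hzC : z ∈ Subgroup.centralizer ({z} : Set G) := by
    rw [Subgroup.mem_centralizer_singleton_iff]
  exact index_pPrimeCore_of_kleinFour_central (P.subtype hPH) hQK ⟨z, hzC⟩
    (by rw [Sylow.coe_subtype]; exact Subgroup.mem_subgroupOf.mpr hzP)
    (by intro h; exact hz1 (congrArg Subtype.val h))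
    (by
      intro h
      apply Subtype.ext
      push_cast
      exact (Subgroup.mem_centralizer_singleton_iff.mp h.2).symm)

/-- If G is a finite group with a Sylow 2-subgroup that is a Klein four-group and a single conjugacy class of involutions, then its principal 2-block (relative to a maximal ideal M of the algebraic integers containing 2) has 2-regular rank 3: the restrictions of its irreducible characters to the elements of odd order span a space of dimension 3 (it has three irreducible Brauer characters). -/
theorem result {G : Type*} [Group G] [Finite G] (M : Ideal Cfsg.AlgInt) (hM : Cfsg.IsPModular 2 M) (P : Sylow 2 G)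
    (hP : Nat.card P = 4) (hexp : ∀ x : P, x * x = 1)
    (hone : ∀ s t : G, orderOf s = 2 → orderOf t = 2 → IsConj s t) :
    Cfsg.blockRank 2 (Cfsg.principalBlock M G) = 3 := by
  classical
  haveI : Fact (Nat.Prime 2) := ⟨Nat.prime_two⟩
  letI : Fintype G := Fintype.ofFinite G
  have hsq : ∀ x : (P : Subgroup G), x ^ 2 = 1 := fun x => by rw [sq]; exact hexp x
  have hK4 : IsKleinFour (P : Subgroup G) := by
    refine ⟨hP, ?_⟩
    have hdvd : Monoid.exponent (P : Subgroup G) ∣ 2 :=
      Monoid.exponent_dvd_of_forall_pow_eq_one hsq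
    rcases (Nat.dvd_prime Nat.prime_two).mp hdvd with h | h
    · exfalso
      haveI := Monoid.exp_eq_one_iff.mp h
      have h1 : Nat.card (P : Subgroup G) = 1 := Nat.card_unique
      rw [h1] at hP
      norm_num at hP
    · exact h
  obtain ⟨ζ₂, ζ₃, ζ₄, ε, _, h2t, h3t, h23, h24, h34, hB, hval, _, _, _, _⟩ :=
    Cfsg.Agent.S0948.result M hM P hK4 hone
  -- an involution of `P`
  obtain ⟨z', hz'⟩ : ∃ z' : (P : Subgroup G), orderOf z' = 2 :=
    exists_prime_orderOf_dvd_card' 2 (by rw [hP]; norm_num)
  obtain ⟨z, hzdef⟩ : ∃ z : G, z = (z' : G) := ⟨_, rfl⟩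
  have hz : orderOf z = 2 := by rw [hzdef, Subgroup.orderOf_coe]; exact hz'
  have hzP : z ∈ (P : Subgroup G) := by rw [hzdef]; exact z'.2
  have hz1 : z ≠ 1 := by
    intro h; rw [h, orderOf_one] at hz; norm_num at hz
  -- `k(B₀) = 4`
  have h4t : (ζ₄ : G → ℂ) ≠ (fun _ => 1) := by
    intro h
    have h1 := (hval z hz).2.2
    rw [h] at h1
    norm_num at h1
  have hcard : Nat.card (Cfsg.principalBlock M G) = 4 := by
    have hset : Cfsg.principalBlock M G
        = ↑({trivIrr G, ζ₂, ζ₃, ζ₄} : Finset (Cfsg.IrrCharacter G)) := by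
      ext χ
      rw [hB]
      simp only [Set.mem_ofPred_eq, Finset.coe_insert, Finset.coe_singleton, Set.mem_insert_iff,
        Set.mem_singleton_iff]
      constructor
      · rintro (h | h | h | h)
        · left; exact Subtype.ext h
        · right; left; exact h
        · right; right; left; exact h
        · right; right; right; exact h
      · rintro (h | h | h | h)
        · left; rw [h]; rfl
        · right; left; exact h
        · right; right; left; exact h
        · right; right; right; exact h
    have ht2 : trivIrr G ≠ ζ₂ := fun h => h2t (by rw [← h]; rfl)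
    have ht3 : trivIrr G ≠ ζ₃ := fun h => h3t (by rw [← h]; rfl)
    have ht4 : trivIrr G ≠ ζ₄ := fun h => h4t (by rw [← h]; rfl)
    rw [hset, Nat.card_coe_set_eq, Set.ncard_coe_finset, Finset.card_insert_of_notMem,
      Finset.card_insert_of_notMem, Finset.card_insert_of_notMem, Finset.card_singleton]
    · simp only [Finset.mem_singleton]; exact h34
    · simp only [Finset.mem_insert, Finset.mem_singleton]; push Not; exact ⟨h23, h24⟩
    · simp only [Finset.mem_insert, Finset.mem_singleton]; push Not; exact ⟨ht2, ht3, ht4⟩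
  -- the count
  have hcount := card_eq_blockRank_add hM (Cfsg.principalBlock M G) isPBlock_principalBlock
    ({z} : Finset G) (by simp only [Finset.mem_singleton]; exact fun h => hz1 h.symm)
    (by
      intro x hx
      rw [Finset.mem_singleton] at hx
      exact ⟨1, by rw [hx, hz, pow_one]⟩)
    (by
      intro g hg hg1
      have hg2 : orderOf g = 2 := by
        obtain ⟨k, hk⟩ := hg
        obtain ⟨c, hc⟩ := Cfsg.Agent.Lib.Helper13.exists_conj_mem_sylow P g
          ⟨k, by rw [← hk]; exact pow_orderOf_eq_one g⟩
        have h1 := hexp ⟨c * g * c⁻¹, hc⟩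
        have h2 : (c * g * c⁻¹) * (c * g * c⁻¹) = 1 := congrArg Subtype.val h1
        have h3 : g ^ 2 = 1 := by
          have : c * (g * g) * c⁻¹ = 1 := by rw [← h2]; group
          rw [sq]
          calc g * g = c⁻¹ * (c * (g * g) * c⁻¹) * c := by group
            _ = 1 := by rw [this]; group
        have h4 := orderOf_dvd_of_pow_eq_one h3
        rcases (Nat.dvd_prime Nat.prime_two).mp h4 with h | h
        · exact absurd (orderOf_eq_one_iff.mp h) hg1
        · exact h
      refine ⟨z, ⟨Finset.mem_singleton_self z, hone g z hg2 hz⟩, ?_⟩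
      rintro x ⟨hx, _⟩
      exact Finset.mem_singleton.mp hx)
  rw [Finset.sum_singleton, hcard] at hcount
  have hsetz : {ψ : Cfsg.IrrCharacter (Subgroup.centralizer ({z} : Set G)) |
      Cfsg.IsInducedBlock M (Subgroup.centralizer ({z} : Set G))
        (Cfsg.blockOf M (ψ : Subgroup.centralizer ({z} : Set G) → ℂ)) (Cfsg.principalBlock M G)}
      = Cfsg.principalBlock M (Subgroup.centralizer ({z} : Set G)) := by
    ext ψ
    exact isInducedBlock_principal_iff hM z ⟨1, by rw [hz, pow_one]⟩ ψ
  rw [hsetz] at hcount
  have hone' := blockRank_principalBlock_of_normal_complement (p := 2) hM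
    (centralizer_normal_complement P hK4 z hzP hz1)
  unfold Cfsg.blockRank at hone'
  rw [hone'] at hcount
  omega

end Cfsg.Agent.S4512
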