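import Mathlib
import Cfsg.Statements.S4518
import Cfsg.Agent.Lib.Helper25.ItoMichler
import Cfsg.Agent.Lib.Helper25.PrincipalQuot

set_option autoImplicit false
set_option linter.style.haveILetI false
open Cfsg Cfsg.Agent.Lib.Helper2 Cfsg.Agent.Lib.Helper25

namespace Cfsg.Agent.S4518

/-- Let N be a normal subgroup of the finite group G whose index is not divisible by the prime p, and let k be coprime to the order of G with k ^ (p ^ e) ≡ 1 modulo the order of G for some e (so g ↦ g ^ k induces a field automorphism of p-power order on character values). If an irreducible character χ of G satisfies χ (g ^ k) = χ g for all g, then every irreducible constituent θ of the restriction of χ to N satisfies θ (n ^ k) = θ n for all n. -/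
theorem result {G : Type*} [Group G] [Fintype G] (p : ℕ) [Fact p.Prime] (N : Subgroup G) [N.Normal] [Fintype N] (hidx : ¬ p ∣ N.index) (k e : ℕ) (hk : Nat.Coprime k (Nat.card G)) (hke : k ^ (p ^ e) ≡ 1 [MOD Nat.card G]) (χ : Cfsg.IrrCharacter G) (hχ : ∀ g : G, (χ : G → ℂ) (g ^ k) = (χ : G → ℂ) g) (θ : Cfsg.IrrCharacter N) (hθ : Cfsg.classInner (fun n : N => (χ : G → ℂ) n) (θ : N → ℂ) ≠ 0) : ∀ n : N, (θ : N → ℂ) (n ^ k) = (θ : N → ℂ) n := by
  classical
  letI := conjIrrAction N
  have hkN : k.Coprime (Nat.card N) :=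
    Nat.Coprime.coprime_dvd_right (Subgroup.card_subgroup_dvd_card N) hk
  set τ : IrrCharacter N → IrrCharacter N := powIrr (G := N) k hkN with hτ
  -- τ commutes with the action
  have hcomm : ∀ (g : G) (ψ : IrrCharacter N), τ (g • ψ) = g • τ ψ := by
    intro g ψ
    apply Subtype.ext
    funext n
    show conjFun N g⁻¹ (ψ : N → ℂ) (n ^ k) = conjFun N g⁻¹ (τ ψ : N → ℂ) n
    rw [conjFun_apply, conjFun_apply, hτ, powIrr_apply]
    apply congrArg
    apply Subtype.ext
    simp only [Subgroup.coe_pow]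
    rw [conj_pow]
  -- τ θ lies in the orbit of θ
  have horb : τ θ ∈ MulAction.orbit G θ := by
    by_contra hno
    have hne : ∀ g : G, (τ θ : N → ℂ) ≠ conjFun N g (θ : N → ℂ) := by
      intro g hg
      apply hno
      refine ⟨g⁻¹, ?_⟩
      apply Subtype.ext
      show conjFun N g⁻¹⁻¹ (θ : N → ℂ) = _
      rw [inv_inv, hg]
    have h0 := classInner_restrict_eq_zero_of_not_conj (N := N) χ.2 θ.2 hθ (τ θ).2 hne
    have h1 := Cfsg.Agent.Lib.Helper11.classInner_comp_pow_coprime (G := N) k hkN
      (fun n : N => (χ : G → ℂ) n) (θ : N → ℂ)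
    apply hθ
    rw [← h1]
    have h2 : (fun g : N => (fun n : N => (χ : G → ℂ) n) (g ^ k)) =
        fun n : N => (χ : G → ℂ) n := by
      funext n
      simp only [Subgroup.coe_pow]
      exact hχ n
    rw [h2]
    exact h0
  -- the orbit
  set Ω : Set (IrrCharacter N) := MulAction.orbit G θ with hΩ
  have hmaps : ∀ ω : IrrCharacter N, ω ∈ Ω → τ ω ∈ Ω := by
    intro ω hω
    obtain ⟨g, rfl⟩ := hω
    obtain ⟨g₀, hg₀⟩ := horb
    rw [hcomm]
    refine ⟨g * g₀, ?_⟩
    show (g * g₀) • θ = g • τ θ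
    rw [mul_smul]
    exact congrArg (g • ·) hg₀
  -- iterating τ
  have hiter : ∀ (m : ℕ) (ψ : IrrCharacter N) (n : N),
      ((τ^[m] ψ : IrrCharacter N) : N → ℂ) n = (ψ : N → ℂ) (n ^ (k ^ m)) := by
    intro m
    induction m with
    | zero => intro ψ n; simp
    | succ m ih =>
      intro ψ n
      rw [Function.iterate_succ_apply, ih, hτ, powIrr_apply, ← pow_mul, pow_succ]
  have hperiod : ∀ ψ : IrrCharacter N, τ^[p ^ e] ψ = ψ := by
    intro ψ
    apply Subtype.ext
    funext n
    rw [hiter]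
    have h1 : orderOf n ∣ Nat.card G :=
      (orderOf_dvd_natCard n).trans (Subgroup.card_subgroup_dvd_card N)
    have h2 : k ^ (p ^ e) ≡ 1 [MOD orderOf n] := hke.of_dvd h1
    have h3 : n ^ (k ^ (p ^ e)) = n := by
      have := pow_eq_pow_iff_modEq.mpr h2
      rw [pow_one] at this
      exact this
    rw [h3]
  haveI : Fintype Ω := Fintype.ofFinite _
  let f : Function.End Ω := fun ω => ⟨τ ω.1, hmaps ω.1 ω.2⟩
  have hfpow : ∀ (m : ℕ) (ω : Ω), ((f ^ m) ω : IrrCharacter N) = τ^[m] ω.1 := by
    intro m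
    induction m with
    | zero => intro ω; rfl
    | succ m ih =>
      intro ω
      rw [pow_succ]
      show ((f ^ m) (f ω) : IrrCharacter N) = _
      rw [ih, Function.iterate_succ_apply]
  have hf1 : f ^ p ^ e = 1 := by
    funext ω
    apply Subtype.ext
    rw [hfpow, hperiod]
    rfl
  have hcard := Equiv.Perm.card_fixedPoints_modEq (p := p) (n := e) hf1
  have hΩcard : ¬ p ∣ Fintype.card Ω := by
    intro hdvd
    apply hidx
    have h1 : (MulAction.stabilizer G θ).index ∣ N.index :=
      Subgroup.index_dvd_of_le (le_stabilizer_conjIrr N θ)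
    have h2 : (MulAction.stabilizer G θ).index = Fintype.card Ω := by
      rw [MulAction.index_stabilizer, ← Nat.card_coe_set_eq, Nat.card_eq_fintype_card]
    rw [h2] at h1
    exact hdvd.trans h1
  have hfix : ∃ ω : Ω, f ω = ω := by
    by_contra hno
    push Not at hno
    apply hΩcard
    have h0 : Fintype.card (Function.fixedPoints f) = 0 := by
      rw [Fintype.card_eq_zero_iff]
      exact ⟨fun x => hno x.1 x.2⟩
    rw [h0] at hcard
    exact (Nat.modEq_zero_iff_dvd.mp hcard)
  obtain ⟨⟨ψ₀, hψ₀⟩, hfix⟩ := hfix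
  have hfix' : τ ψ₀ = ψ₀ := congrArg Subtype.val hfix
  obtain ⟨g, hg⟩ := hψ₀
  have hg' : g • θ = ψ₀ := hg
  have hθfix : τ θ = θ := by
    have h1 : g • τ θ = g • θ := by
      rw [← hcomm, hg', hfix']
    have h2 := congrArg (g⁻¹ • ·) h1
    simpa [inv_smul_smul] using h2
  intro n
  have := congrFun (congrArg Subtype.val hθfix) n
  exact this

end Cfsg.Agent.S4518
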