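import Mathlib
import Cfsg.Statements.S4520
import Cfsg.Agent.Lib.Helper24.SigmaOdd

set_option autoImplicit false
open Cfsg

namespace Cfsg.Agent.S4520

open Cfsg.Agent.Lib.Helper2 Cfsg.Agent.Lib.Helper24
open scoped ComplexConjugate

/-- Let N be a normal subgroup of odd index in the finite group G, M a maximal ideal of the algebraic integers containing 2, and k coprime to the order of G with k ^ (2 ^ e) ≡ 1 modulo the order of G for some e and g ^ k = g⁻¹ for every element g of odd order. Let θ be an irreducible character of N and χ an irreducible character of G over θ, both unchanged by composing with g ↦ g ^ k. Then χ lies in the principal 2-block of G if and only if θ lies in the principal 2-block of N. -/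
theorem result {G : Type*} [Group G] [Fintype G] (M : Ideal Cfsg.AlgInt) (hM : Cfsg.IsPModular 2 M) (N : Subgroup G) [N.Normal] [Fintype N] (hidx : Odd N.index) (k e : ℕ) (hk : Nat.Coprime k (Nat.card G)) (hke : k ^ (2 ^ e) ≡ 1 [MOD Nat.card G]) (hk₂ : ∀ g : G, Odd (orderOf g) → g ^ k = g⁻¹) (θ : Cfsg.IrrCharacter N) (hθ : ∀ n : N, (θ : N → ℂ) (n ^ k) = (θ : N → ℂ) n) (χ : Cfsg.IrrCharacter G) (hχ : ∀ g : G, (χ : G → ℂ) (g ^ k) = (χ : G → ℂ) g) (hover : Cfsg.classInner (fun n : N => (χ : G → ℂ) n) (θ : N → ℂ) ≠ 0) : χ ∈ Cfsg.principalBlock M G ↔ θ ∈ Cfsg.principalBlock M N := by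
  classical
  haveI : Fact (Nat.Prime 2) := ⟨Nat.prime_two⟩
  have hone : Cfsg.classInner (fun n : N => (trivIrr G : G → ℂ) n) (trivIrr N : N → ℂ) ≠ 0 := by
    have h1 : (fun n : N => (trivIrr G : G → ℂ) n) = (trivIrr N : N → ℂ) := rfl
    rw [h1, classInner_irrCharacter_self]
    exact one_ne_zero
  constructor
  · intro hχB
    have hB := isPBlock_principalBlock (M := M) (G := G)
    have hb : Cfsg.IsPBlock M (Cfsg.blockOf M (θ : N → ℂ)) := ⟨θ, rfl⟩
    have hc := isPBlock_principalBlock (M := M) (G := N)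
    have hcovb : ∃ χ' ∈ Cfsg.principalBlock M G, ∃ θ' ∈ Cfsg.blockOf M (θ : N → ℂ),
        Cfsg.classInner (fun n : N => (χ' : G → ℂ) n) (θ' : N → ℂ) ≠ 0 :=
      ⟨χ, hχB, θ, mem_blockOf_self hM θ, hover⟩
    have hcovc : ∃ χ' ∈ Cfsg.principalBlock M G, ∃ θ' ∈ Cfsg.principalBlock M N,
        Cfsg.classInner (fun n : N => (χ' : G → ℂ) n) (θ' : N → ℂ) ≠ 0 :=
      ⟨trivIrr G, trivIrr_mem_principalBlock hM, trivIrr N, trivIrr_mem_principalBlock hM, hone⟩
    obtain ⟨z, hz⟩ := exists_cs_eq_of_covered N hM _ hB _ _ hb hc hcovb hcovc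
    have h1 : trivIrr N ∈ cs N z (Cfsg.principalBlock M N) := by
      refine ⟨trivIrr N, trivIrr_mem_principalBlock hM, ?_⟩
      apply Subtype.ext
      funext n
      rfl
    rw [← hz] at h1
    exact sameBlock_symm hM h1
  · intro hθB
    have hB : Cfsg.IsPBlock M (Cfsg.blockOf M (χ : G → ℂ)) := ⟨χ, rfl⟩
    have hb := isPBlock_principalBlock (M := M) (G := N)
    have hcov : ∃ χ' ∈ Cfsg.blockOf M (χ : G → ℂ), ∃ θ' ∈ Cfsg.principalBlock M N,
        Cfsg.classInner (fun n : N => (χ' : G → ℂ) n) (θ' : N → ℂ) ≠ 0 :=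
      ⟨χ, mem_blockOf_self hM χ, θ, hθB, hover⟩
    obtain ⟨β, hβB, hβ1⟩ := exists_over_of_covering N hM _ hB _ hb hcov (trivIrr N)
      (trivIrr_mem_principalBlock hM)
    have hdvd := charDegree_dvd_index_of_over_one N β hβ1
    have hβodd : Odd (Cfsg.charDegree (β : G → ℂ)) := by
      obtain ⟨c, hc⟩ := hdvd
      rw [hc] at hidx
      exact (Nat.odd_mul.mp hidx).1
    have hdef : Cfsg.blockDefect 2 (Cfsg.blockOf M (χ : G → ℂ)) = (Nat.card G).factorization 2 := by
      unfold Cfsg.blockDefect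
      have h0 : (Cfsg.charDegree (β : G → ℂ)).factorization 2 = 0 := by
        apply Nat.factorization_eq_zero_of_not_dvd
        intro h2
        exact (Nat.not_even_iff_odd.mpr hβodd) (even_iff_two_dvd.mpr h2)
      have hs : sInf ((fun χ' : Cfsg.IrrCharacter G =>
          (Cfsg.charDegree (χ' : G → ℂ)).factorization 2) '' Cfsg.blockOf M (χ : G → ℂ)) ≤ 0 := by
        rw [← h0]
        exact Nat.sInf_le ⟨β, hβB, rfl⟩
      omega
    have hstab : ∀ χ' ∈ Cfsg.blockOf M (χ : G → ℂ), ∃ ψ ∈ Cfsg.blockOf M (χ : G → ℂ),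
        ∀ g : G, (ψ : G → ℂ) g = (χ' : G → ℂ) (g ^ k) := by
      intro χ' hχ'
      refine ⟨twistIrr k hk χ', ?_, fun g => rfl⟩
      have h1 := sameBlock_pow_coprime (M := M) k hk hχ'
      have h2 : (fun x => (χ : G → ℂ) (x ^ k)) = (χ : G → ℂ) := funext hχ
      rw [h2] at h1
      exact h1
    have hfin := eq_principalBlock_of_sigma_stable hM k hk₂ _ hB hdef hstab
    rw [← hfin]
    exact mem_blockOf_self hM χ

end Cfsg.Agent.S4520
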