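import Mathlib
import Cfsg.Statements.S4541
import Cfsg.Agent.Lib.Helper24.SectionIdem
import Cfsg.Agent.Lib.Helper24.SectionRational
import Cfsg.Agent.Lib.Helper24.TwoCyclo

set_option autoImplicit false
open Cfsg

namespace Cfsg.Agent.S4541

open Cfsg.Agent.Lib.Helper2 Cfsg.Agent.Lib.Helper24
open scoped ComplexConjugate


theorem arith_bound {I : Type*} [Fintype I] (q l : ℕ) (α : I → ℤ) (hodd : ∀ χ, Odd (α χ))
    (hrow : ∀ χ, α χ ^ 2 + ((Fintype.card I : ℤ) - 1) ≤ 2 ^ q * α χ)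
    (hsum : ∑ χ, α χ ≤ 2 ^ q * (l : ℤ)) :
    (Odd (Nat.sqrt l) → Fintype.card I ≤ Nat.sqrt l * 2 ^ q) ∧
    (¬ Odd (Nat.sqrt l) → (Nat.sqrt l + 1) * Fintype.card I ≤ l * 2 ^ q) := by
  classical
  obtain ⟨k, hk⟩ : ∃ k : ℕ, k = Fintype.card I := ⟨_, rfl⟩
  rw [← hk] at hrow ⊢
  obtain ⟨s, hs⟩ : ∃ s : ℕ, s = Nat.sqrt l := ⟨_, rfl⟩
  rw [← hs]
  have hs1 : s * s ≤ l := by rw [hs]; exact Nat.sqrt_le l
  have hs2 : l < (s + 1) * (s + 1) := by rw [hs]; exact Nat.lt_succ_sqrt l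
  rcases Nat.eq_zero_or_pos k with hk0 | hkpos
  · rw [hk0]
    simp
  haveI : Nonempty I := by
    rw [← Fintype.card_pos_iff, ← hk]
    exact hkpos
  obtain ⟨χ, -, hmin⟩ := Finset.exists_min_image Finset.univ α Finset.univ_nonempty
  have hkα : (k : ℤ) * α χ ≤ 2 ^ q * (l : ℤ) := by
    calc (k : ℤ) * α χ = ∑ _ψ : I, α χ := by
          rw [Finset.sum_const, Finset.card_univ, ← hk, nsmul_eq_mul]
      _ ≤ ∑ ψ, α ψ := Finset.sum_le_sum (fun ψ _ => hmin ψ (Finset.mem_univ ψ))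
      _ ≤ 2 ^ q * (l : ℤ) := hsum
  have hQ : (0 : ℤ) < 2 ^ q := by positivity
  have hk1 : (1 : ℤ) ≤ k := by exact_mod_cast hkpos
  have hα1 : 1 ≤ α χ := by
    have h1 := hrow χ
    have h2 : 0 ≤ α χ := by
      by_contra hneg
      push Not at hneg
      have : 2 ^ q * α χ < 0 := mul_neg_of_pos_of_neg hQ hneg
      nlinarith [sq_nonneg (α χ)]
    rcases (hodd χ) with ⟨r, hr⟩
    omega
  have hkle : (k : ℤ) ≤ 2 ^ q * α χ := by
    have h1 := hrow χ
    nlinarith [sq_nonneg (α χ)]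
  constructor
  · intro hsodd
    by_contra hcon
    push Not at hcon
    have hcon' : (s : ℤ) * 2 ^ q < k := by exact_mod_cast hcon
    -- α χ * s < l
    have h1 : α χ * (s : ℤ) < l := by
      have : α χ * ((s : ℤ) * 2 ^ q) < α χ * k := by
        apply mul_lt_mul_of_pos_left hcon'
        linarith
      have h3 : (2 : ℤ) ^ q * (α χ * s) < 2 ^ q * l := by nlinarith
      exact lt_of_mul_lt_mul_left h3 hQ.le
    have hs2' : (l : ℤ) < ((s : ℤ) + 1) * (s + 1) := by exact_mod_cast hs2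
    have hs0 : (1 : ℤ) ≤ s := by
      rcases hsodd with ⟨r, hr⟩
      have : 1 ≤ s := by omega
      exact_mod_cast this
    have h2 : α χ ≤ s + 1 := by
      by_contra h
      push Not at h
      have : ((s : ℤ) + 2) * s ≤ α χ * s := by
        apply mul_le_mul_of_nonneg_right _ (by linarith)
        linarith
      nlinarith
    have h3 : α χ ≤ s := by
      rcases hodd χ with ⟨r, hr⟩
      rcases hsodd with ⟨r', hr'⟩
      have : α χ ≠ s + 1 := by
        intro h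
        rw [hr, hr'] at h
        push_cast at h
        omega
      omega
    have : (k : ℤ) ≤ 2 ^ q * s := by
      calc (k : ℤ) ≤ 2 ^ q * α χ := hkle
        _ ≤ 2 ^ q * s := mul_le_mul_of_nonneg_left h3 hQ.le
    linarith
  · intro hseven
    rw [Nat.not_odd_iff_even] at hseven
    by_contra hcon
    push Not at hcon
    have hcon' : (l : ℤ) * 2 ^ q < ((s : ℤ) + 1) * k := by exact_mod_cast hcon
    have h1 : α χ < s + 1 := by
      by_contra h
      push Not at h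
      have : ((s : ℤ) + 1) * k ≤ α χ * k := mul_le_mul_of_nonneg_right h (by linarith)
      nlinarith
    have h3 : α χ ≤ (s : ℤ) - 1 := by
      rcases hodd χ with ⟨r, hr⟩
      rcases hseven with ⟨r', hr'⟩
      have : α χ ≠ s := by
        intro h
        rw [hr, hr'] at h
        push_cast at h
        omega
      omega
    have hs1' : (s : ℤ) * s ≤ l := by exact_mod_cast hs1
    have h4 : (k : ℤ) ≤ 2 ^ q * ((s : ℤ) - 1) := by
      calc (k : ℤ) ≤ 2 ^ q * α χ := hkle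
        _ ≤ 2 ^ q * ((s : ℤ) - 1) := mul_le_mul_of_nonneg_left h3 hQ.le
    have hs0 : (0 : ℤ) ≤ s := by positivity
    have h5 : ((s : ℤ) + 1) * k ≤ ((s : ℤ) + 1) * (2 ^ q * ((s : ℤ) - 1)) :=
      mul_le_mul_of_nonneg_left h4 (by linarith)
    nlinarith

/-- Let B be a 2-block of the finite group G (relative to a maximal ideal M of the algebraic integers containing 2), u a 2-element, and b a block of the centralizer of u inducing B (a subsection (u, b)), of defect q and 2-regular rank l; write s for the integer square root of l and k₀(B) for the number of members of B of height zero. If s is odd then k₀(B) ≤ s·2 ^ q, and otherwise (s + 1)·k₀(B) ≤ l·2 ^ q; in particular k₀(B) ≤ 2 ^ q when l ≤ 3. -/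
theorem result {G : Type*} [Group G] [Finite G] (M : Ideal Cfsg.AlgInt) (hM : Cfsg.IsPModular 2 M) (B : Set (Cfsg.IrrCharacter G)) (hB : Cfsg.IsPBlock M B) (u : G) (hu : ∃ j : ℕ, orderOf u = 2 ^ j) (b : Set (Cfsg.IrrCharacter ↥(Subgroup.centralizer ({u} : Set G)))) (hb : Cfsg.IsInducedBlock M (Subgroup.centralizer ({u} : Set G)) b B) : (Odd (Nat.sqrt (Cfsg.blockRank 2 b)) → Nat.card {χ : Cfsg.IrrCharacter G // χ ∈ B ∧ Cfsg.blockHeight 2 B (χ : G → ℂ) = 0} ≤ Nat.sqrt (Cfsg.blockRank 2 b) * 2 ^ Cfsg.blockDefect 2 b) ∧ (¬ Odd (Nat.sqrt (Cfsg.blockRank 2 b)) → (Nat.sqrt (Cfsg.blockRank 2 b) + 1) * Nat.card {χ : Cfsg.IrrCharacter G // χ ∈ B ∧ Cfsg.blockHeight 2 B (χ : G → ℂ) = 0} ≤ Cfsg.blockRank 2 b * 2 ^ Cfsg.blockDefect 2 b) ∧ (Cfsg.blockRank 2 b ≤ 3 → Nat.card {χ : Cfsg.IrrCharacter G // χ ∈ B ∧ Cfsg.blockHeight 2 B (χ : G → ℂ) = 0} ≤ 2 ^ Cfsg.blockDefect 2 b) := by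
  classical
  letI : Fintype G := Fintype.ofFinite G
  letI : Fintype (Subgroup.centralizer ({u} : Set G)) := Fintype.ofFinite _
  letI : Fintype (Cfsg.IrrCharacter G) := Fintype.ofFinite _
  letI : Fintype (Cfsg.IrrCharacter (Subgroup.centralizer ({u} : Set G))) := Fintype.ofFinite _
  haveI : Fact (Nat.Prime 2) := ⟨Nat.prime_two⟩
  letI : Fintype {χ : Cfsg.IrrCharacter G // χ ∈ B ∧ Cfsg.blockHeight 2 B (χ : G → ℂ) = 0} :=
    Fintype.ofFinite _
  obtain ⟨q, hq⟩ : ∃ q : ℕ, q = Cfsg.blockDefect 2 b := ⟨_, rfl⟩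
  obtain ⟨l, hl⟩ : ∃ l : ℕ, l = Cfsg.blockRank 2 b := ⟨_, rfl⟩
  obtain ⟨a, ha⟩ : ∃ a : ℕ, a = (Nat.card G).factorization 2 := ⟨_, rfl⟩
  rw [← hq, ← hl, Nat.card_eq_fintype_card]
  -- the scaled contributions
  obtain ⟨A, hA⟩ : ∃ A : Cfsg.IrrCharacter G → Cfsg.IrrCharacter G → ℂ,
      A = fun (χ ψ : Cfsg.IrrCharacter G) =>
        (2 : ℂ) ^ q * secContrib 2 u b (χ : G → ℂ) (ψ : G → ℂ) := ⟨_, rfl⟩
  have hAapp : ∀ χ ψ, A χ ψ = (2 : ℂ) ^ q * secContrib 2 u b (χ : G → ℂ) (ψ : G → ℂ) := by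
    intro χ ψ
    rw [hA]
  have hAint : ∀ χ ψ, IsIntegral ℤ (A χ ψ) := by
    intro χ ψ
    rw [hAapp, hq]
    have := secContrib_isIntegral hM u hu b hb.1 χ ψ
    simpa using this
  have hAK : ∀ χ ψ, A χ ψ ∈ cycloSub (2 * 2 ^ a) := by
    intro χ ψ
    rw [hAapp]
    apply Subfield.mul_mem
    · exact pow_mem (by simpa using _root_.natCast_mem (cycloSub (2 * 2 ^ a)) 2) _
    · have h1 := secContrib_mem_cycloSub_pow 2 Nat.prime_two u hu b χ ψ
      rw [← ha] at h1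
      have hle : cycloSub (2 ^ a) ≤ cycloSub (2 * 2 ^ a) := by
        apply Subfield.closure_le.mpr
        intro z hz
        have hz' : z ^ (2 ^ a) = 1 := hz
        apply mem_cycloSub_of_pow_eq_one
        rw [mul_comm, pow_mul, hz', one_pow]
      exact hle h1
  obtain ⟨ζ, hζ, hrepr⟩ := exists_int_repr a
  choose c hc using fun χ ψ => hrepr (A χ ψ) (hAK χ ψ) (hAint χ ψ)
  -- traces
  obtain ⟨t, ht⟩ : ∃ t : Cfsg.IrrCharacter G → Cfsg.IrrCharacter G → ℤ,
      t = fun χ ψ => ∑ i ∈ Finset.range (2 ^ a), c χ ψ i * c χ ψ i := ⟨_, rfl⟩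
  have htapp : ∀ χ ψ, t χ ψ = ∑ i ∈ Finset.range (2 ^ a), c χ ψ i * c χ ψ i := by
    intro χ ψ
    rw [ht]
  have htr : ∀ χ ψ, twoTrace a (A χ ψ * conj (A χ ψ)) = ((t χ ψ : ℤ) : ℂ) := by
    intro χ ψ
    rw [htapp]
    conv_lhs => rw [hc χ ψ]
    exact twoTrace_sum_mul_conj_sum hζ _ _
  have htrA : ∀ χ, twoTrace a (A χ χ) = ((c χ χ 0 : ℤ) : ℂ) := by
    intro χ
    conv_lhs => rw [hc χ χ]
    exact twoTrace_sum_pow hζ _
  have ht0 : ∀ χ ψ, 0 ≤ t χ ψ := by
    intro χ ψ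
    rw [htapp]
    exact Finset.sum_nonneg (fun i _ => mul_self_nonneg _)
  -- the row identity
  have hrowC : ∀ χ : Cfsg.IrrCharacter G,
      ∑ ψ : Cfsg.IrrCharacter G, (if ψ ∈ B then A χ ψ * conj (A χ ψ) else 0)
        = ((2 ^ q : ℕ) : ℂ) * A χ χ := by
    intro χ
    have h1 := sum_secContrib_mul_conj_row hM u hu B b hb χ χ
    rw [hAapp χ χ, ← h1, Finset.mul_sum, Finset.mul_sum]
    apply Finset.sum_congr rfl
    intro ψ _
    split_ifs
    · rw [hAapp, map_mul, map_pow, Complex.conj_ofNat]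
      push_cast
      ring
    · rw [mul_zero, mul_zero]
  have hrowZ : ∀ χ : Cfsg.IrrCharacter G,
      ∑ ψ : Cfsg.IrrCharacter G, (if ψ ∈ B then t χ ψ else 0) = 2 ^ q * c χ χ 0 := by
    intro χ
    have h1 := congrArg (twoTrace a) (hrowC χ)
    rw [twoTrace_sum, twoTrace_natCast_mul, htrA] at h1
    have h2 : ∀ ψ : Cfsg.IrrCharacter G,
        twoTrace a (if ψ ∈ B then A χ ψ * conj (A χ ψ) else 0)
          = (((if ψ ∈ B then t χ ψ else 0 : ℤ)) : ℂ) := by
      intro ψ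
      split_ifs
      · exact htr χ ψ
      · rw [twoTrace_zero, Int.cast_zero]
    rw [Finset.sum_congr rfl (fun ψ _ => h2 ψ)] at h1
    have h3 : ((∑ ψ : Cfsg.IrrCharacter G, (if ψ ∈ B then t χ ψ else 0) : ℤ) : ℂ)
        = ((2 ^ q * c χ χ 0 : ℤ) : ℂ) := by
      push_cast
      push_cast at h1
      exact h1
    exact Int.cast_injective h3
  -- the trace identity
  have htraceZ : ∑ χ : Cfsg.IrrCharacter G, (if χ ∈ B then c χ χ 0 else 0) = 2 ^ q * (l : ℤ) := by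
    have h1 := sum_secContrib_self hM u hu B b hb
    have h2 : ∑ χ : Cfsg.IrrCharacter G, (if χ ∈ B then A χ χ else 0)
        = ((2 ^ q * l : ℕ) : ℂ) := by
      rw [hl]
      push_cast
      rw [← h1, Finset.mul_sum]
      apply Finset.sum_congr rfl
      intro χ _
      split_ifs
      · rw [hAapp]
      · rw [mul_zero]
    have h3 := congrArg (twoTrace a) h2
    rw [twoTrace_sum, twoTrace_natCast] at h3
    have h4 : ∀ χ : Cfsg.IrrCharacter G, twoTrace a (if χ ∈ B then A χ χ else 0)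
        = (((if χ ∈ B then c χ χ 0 else 0 : ℤ)) : ℂ) := by
      intro χ
      split_ifs
      · exact htrA χ
      · rw [twoTrace_zero, Int.cast_zero]
    rw [Finset.sum_congr rfl (fun χ _ => h4 χ)] at h3
    have h5 : ((∑ χ : Cfsg.IrrCharacter G, (if χ ∈ B then c χ χ 0 else 0) : ℤ) : ℂ)
        = ((2 ^ q * (l : ℤ) : ℤ) : ℂ) := by
      push_cast
      push_cast at h3
      exact h3
    exact Int.cast_injective h5
  have hα0 : ∀ χ ∈ B, 0 ≤ c χ χ 0 := by
    intro χ _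
    have h1 := hrowZ χ
    have h2 : 0 ≤ ∑ ψ : Cfsg.IrrCharacter G, (if ψ ∈ B then t χ ψ else 0) :=
      Finset.sum_nonneg (fun ψ _ => by split_ifs; exact ht0 χ ψ; exact le_refl 0)
    rw [h1] at h2
    have hQ : (0 : ℤ) < 2 ^ q := by positivity
    exact nonneg_of_mul_nonneg_right h2 hQ
  -- parity
  have hsq_parity : ∀ χ ψ, Odd (∑ i ∈ Finset.range (2 ^ a), c χ ψ i) → Odd (t χ ψ) := by
    intro χ ψ hodd
    have h1 : Even (t χ ψ - ∑ i ∈ Finset.range (2 ^ a), c χ ψ i) := by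
      rw [htapp, ← Finset.sum_sub_distrib]
      apply Finset.even_sum
      intro i _
      have : c χ ψ i * c χ ψ i - c χ ψ i = c χ ψ i * (c χ ψ i - 1) := by ring
      rw [this]
      exact Int.even_mul_pred_self _
    have : t χ ψ = (t χ ψ - ∑ i ∈ Finset.range (2 ^ a), c χ ψ i)
        + ∑ i ∈ Finset.range (2 ^ a), c χ ψ i := by ring
    rw [this]
    exact h1.add_odd hodd
  have hunitodd : ∀ χ ψ : Cfsg.IrrCharacter G, χ ∈ B → ψ ∈ B →
      Cfsg.blockHeight 2 B (χ : G → ℂ) = 0 → Cfsg.blockHeight 2 B (ψ : G → ℂ) = 0 →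
      Odd (∑ i ∈ Finset.range (2 ^ a), c χ ψ i) := by
    intro χ ψ hχ hψ h0 h0'
    apply odd_sum_coeff_of_not_memLocalIdeal hM hζ
    rw [← hc χ ψ, hAapp, hq]
    have := (secContrib_unit hM u hu B b hb χ ψ hχ hψ h0 h0').2
    simpa using this
  have hαodd : ∀ χ : Cfsg.IrrCharacter G, χ ∈ B → Cfsg.blockHeight 2 B (χ : G → ℂ) = 0 →
      Odd (c χ χ 0) := by
    intro χ hχ h0
    have h1 := hunitodd χ χ hχ hχ h0 h0
    have hreal : conj (∑ i ∈ Finset.range (2 ^ a), (c χ χ i : ℂ) * ζ ^ i)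
        = ∑ i ∈ Finset.range (2 ^ a), (c χ χ i : ℂ) * ζ ^ i := by
      rw [← hc χ χ, hAapp, map_mul, map_pow, Complex.conj_ofNat, conj_secContrib_self]
    rwa [sum_coeff_of_real hζ _ hreal] at h1
  -- apply the arithmetic lemma
  obtain ⟨α, hα⟩ : ∃ α : {χ : Cfsg.IrrCharacter G // χ ∈ B ∧
      Cfsg.blockHeight 2 B (χ : G → ℂ) = 0} → ℤ, α = fun χ => c χ.1 χ.1 0 := ⟨_, rfl⟩
  have hαapp : ∀ χ, α χ = c χ.1 χ.1 0 := by
    intro χ
    rw [hα]
  have hsub : ∀ f : Cfsg.IrrCharacter G → ℤ,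
      ∑ x : {χ : Cfsg.IrrCharacter G // χ ∈ B ∧ Cfsg.blockHeight 2 B (χ : G → ℂ) = 0}, f x
      = ∑ χ : Cfsg.IrrCharacter G,
        if χ ∈ B ∧ Cfsg.blockHeight 2 B (χ : G → ℂ) = 0 then f χ else 0 := by
    intro f
    rw [← Finset.sum_filter]
    exact (Finset.sum_subtype (Finset.univ.filter
      (fun χ : Cfsg.IrrCharacter G => χ ∈ B ∧ Cfsg.blockHeight 2 B (χ : G → ℂ) = 0))
      (by simp) f).symm
  have hcard : (Fintype.card {χ : Cfsg.IrrCharacter G // χ ∈ B ∧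
      Cfsg.blockHeight 2 B (χ : G → ℂ) = 0} : ℤ)
      = ∑ χ : Cfsg.IrrCharacter G,
        if χ ∈ B ∧ Cfsg.blockHeight 2 B (χ : G → ℂ) = 0 then 1 else 0 := by
    rw [← hsub (fun _ => 1), Finset.sum_const, Finset.card_univ]
    simp
  have key := arith_bound q l α
    (fun χ => by rw [hαapp]; exact hαodd χ.1 χ.2.1 χ.2.2)
    (by
      intro χ
      rw [hαapp, ← hrowZ χ.1, hcard]
      have h1 : c χ.1 χ.1 0 ^ 2 + ((∑ ψ : Cfsg.IrrCharacter G,
          if ψ ∈ B ∧ Cfsg.blockHeight 2 B (ψ : G → ℂ) = 0 then (1 : ℤ) else 0) - 1)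
          = ∑ ψ : Cfsg.IrrCharacter G,
            ((if ψ ∈ B ∧ Cfsg.blockHeight 2 B (ψ : G → ℂ) = 0 then (1 : ℤ) else 0)
              + (if ψ = χ.1 then c χ.1 χ.1 0 ^ 2 - 1 else 0)) := by
        rw [Finset.sum_add_distrib, Finset.sum_ite_eq' Finset.univ χ.1, if_pos (Finset.mem_univ _)]
        ring
      rw [h1]
      apply Finset.sum_le_sum
      intro ψ _
      by_cases hψ : ψ ∈ B ∧ Cfsg.blockHeight 2 B (ψ : G → ℂ) = 0
      · rw [if_pos hψ, if_pos hψ.1]
        by_cases hψχ : ψ = χ.1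
        · rw [if_pos hψχ, hψχ, htapp]
          have h2 : c χ.1 χ.1 0 * c χ.1 χ.1 0
              ≤ ∑ i ∈ Finset.range (2 ^ a), c χ.1 χ.1 i * c χ.1 χ.1 i :=
            Finset.single_le_sum (f := fun i => c χ.1 χ.1 i * c χ.1 χ.1 i)
              (fun i _ => mul_self_nonneg _) (Finset.mem_range.mpr (pow_pos two_pos a))
          nlinarith
        · rw [if_neg hψχ, add_zero]
          have h2 := hsq_parity χ.1 ψ (hunitodd χ.1 ψ χ.2.1 hψ.1 χ.2.2 hψ.2)
          have h3 := ht0 χ.1 ψ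
          rcases h2 with ⟨r, hr⟩
          omega
      · rw [if_neg hψ, zero_add]
        have hne : ψ ≠ χ.1 := by
          intro h
          apply hψ
          rw [h]
          exact χ.2
        rw [if_neg hne]
        split_ifs
        · exact ht0 χ.1 ψ
        · exact le_refl 0)
    (by
      rw [← htraceZ]
      have h1 : ∑ χ, α χ = ∑ χ : Cfsg.IrrCharacter G,
          if χ ∈ B ∧ Cfsg.blockHeight 2 B (χ : G → ℂ) = 0 then c χ χ 0 else 0 := by
        rw [← hsub (fun χ => c χ χ 0)]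
        apply Finset.sum_congr rfl
        intro χ _
        rw [hαapp]
      rw [h1]
      apply Finset.sum_le_sum
      intro χ _
      by_cases hχ : χ ∈ B
      · rw [if_pos hχ]
        split_ifs
        · exact le_refl _
        · exact hα0 χ hχ
      · rw [if_neg hχ, if_neg (fun hh => hχ hh.1)])
  refine ⟨key.1, key.2, ?_⟩
  intro hl3
  rcases Nat.eq_zero_or_pos l with h | hpos
  · have h1 := key.2 (by rw [h]; decide)
    rw [h] at h1
    simp at h1
    rw [h1]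
    exact Nat.zero_le _
  · have hs1 : Nat.sqrt l = 1 := by
      have h1 := Nat.sqrt_le' l
      have h2 := Nat.lt_succ_sqrt' l
      have h3 : Nat.sqrt l < 2 := by
        by_contra h
        push Not at h
        have : 2 ^ 2 ≤ Nat.sqrt l ^ 2 := Nat.pow_le_pow_left h 2
        omega
      have h4 : 1 ≤ Nat.sqrt l := by
        by_contra h
        push Not at h
        have h0 : Nat.sqrt l = 0 := by omega
        rw [h0] at h2
        simp at h2
        omega
      omega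
    have h1 := key.1 (by rw [hs1]; decide)
    rw [hs1, one_mul] at h1
    exact h1

end Cfsg.Agent.S4541
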