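import Mathlib
import Cfsg.Statements.S4550
import Cfsg.Agent.Lib.Helper24.BlockOrtho
import Cfsg.Agent.Lib.Helper24.Principal
import Cfsg.Agent.Lib.Helper24.Contribution
import Cfsg.Agent.Lib.Helper24.FrobSchur
import Cfsg.Agent.Lib.Helper25.EvenDegree
import Cfsg.Agent.Lib.Helper11.GaloisTwist

set_option autoImplicit false
open Cfsg

namespace Cfsg.Agent.S4550

open Cfsg.Agent.Lib.Helper2 Cfsg.Agent.Lib.Helper24
open scoped ComplexConjugate

section Aux

theorem coprime_k {G : Type*} [Group G] [Finite G] (hev : Even (Nat.card G)) (k : ℕ)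
    (hk₁ : ∀ g : G, (∃ j : ℕ, orderOf g = 2 ^ j) → g ^ k = g ^ 3)
    (hk₂ : ∀ g : G, Odd (orderOf g) → g ^ k = g) : k.Coprime (Nat.card G) := by
  apply Nat.coprime_of_dvd
  intro q hq hqk hqG
  haveI := Fact.mk hq
  obtain ⟨z, hz⟩ := exists_prime_orderOf_dvd_card' q hqG
  have hzk : z ^ k = 1 := by
    obtain ⟨c, rfl⟩ := hqk
    rw [pow_mul, ← hz, pow_orderOf_eq_one, one_pow]
  have hz1 : z ≠ 1 := by
    intro h
    rw [h, orderOf_one] at hz
    exact hq.one_lt.ne hz
  rcases hq.eq_two_or_odd' with rfl | hodd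
  · have h1 := hk₁ z ⟨1, by rw [hz, pow_one]⟩
    have hz2 : z ^ 2 = 1 := by rw [← hz, pow_orderOf_eq_one]
    have h3 : z ^ 3 = z := by
      rw [pow_succ, hz2, one_mul]
    rw [hzk, h3] at h1
    exact hz1 h1.symm
  · have h1 := hk₂ z (hz ▸ hodd)
    rw [hzk] at h1
    exact hz1 h1.symm

theorem three_pow_modEq (a : ℕ) : 3 ^ (2 ^ a) ≡ 1 [MOD 2 ^ (a + 1)] := by
  induction a with
  | zero => decide
  | succ a ih =>
    have h1 : (2 : ℤ) ^ (a + 1) ∣ ((3 : ℤ) ^ (2 ^ a) - 1) := by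
      have := (Nat.modEq_iff_dvd.mp ih.symm)
      push_cast at this
      exact this
    have h2 : (2 : ℤ) ∣ ((3 : ℤ) ^ (2 ^ a) + 1) := by
      have : Odd ((3 : ℤ) ^ (2 ^ a)) := Odd.pow (by decide)
      obtain ⟨c, hc⟩ := this
      exact ⟨c + 1, by rw [hc]; ring⟩
    have h3 : (2 : ℤ) ^ (a + 1 + 1) ∣ ((3 : ℤ) ^ (2 ^ (a + 1)) - 1) := by
      have e : ((3 : ℤ) ^ (2 ^ (a + 1)) - 1)
          = ((3 : ℤ) ^ (2 ^ a) - 1) * ((3 : ℤ) ^ (2 ^ a) + 1) := by
        rw [pow_succ 2 a, pow_mul]; ring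
      rw [e, pow_succ (2 : ℤ) (a + 1)]
      exact mul_dvd_mul h1 h2
    apply Nat.ModEq.symm
    rw [Nat.modEq_iff_dvd]
    push_cast
    exact h3

theorem pow_pow_eq_self {G : Type*} [Group G] [Finite G] (k : ℕ)
    (hk₁ : ∀ g : G, (∃ j : ℕ, orderOf g = 2 ^ j) → g ^ k = g ^ 3)
    (hk₂ : ∀ g : G, Odd (orderOf g) → g ^ k = g) (g : G) (a : ℕ)
    (ha : (Nat.card G).factorization 2 ≤ a) : g ^ (k ^ (2 ^ a)) = g := by
  have hn : orderOf g ≠ 0 := (orderOf_pos g).ne'
  obtain ⟨j, m, hm, hjm⟩ := Nat.exists_eq_two_pow_mul_odd hn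
  have hja : j ≤ a := by
    have h1 : 2 ^ j ∣ Nat.card G := by
      have : 2 ^ j ∣ orderOf g := ⟨m, hjm⟩
      exact this.trans (orderOf_dvd_natCard g)
    have h2 := (Nat.Prime.pow_dvd_iff_le_factorization Nat.prime_two Nat.card_pos.ne').mp h1
    omega
  have hm0 : m ≠ 0 := by
    rintro rfl
    simp at hm
  -- order of g^m is 2^j
  have ho1 : orderOf (g ^ m) = 2 ^ j := by
    rw [orderOf_pow' g hm0, hjm, Nat.gcd_eq_right ⟨2 ^ j, by ring⟩,
      Nat.mul_div_cancel _ (Nat.pos_of_ne_zero hm0)]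
  have ho2 : orderOf (g ^ (2 ^ j)) = m := by
    have h2j : (2 ^ j : ℕ) ≠ 0 := by positivity
    rw [orderOf_pow' g h2j, hjm, Nat.gcd_eq_right ⟨m, rfl⟩,
      Nat.mul_div_cancel_left _ (Nat.pos_of_ne_zero h2j)]
  have hk3 : k ≡ 3 [MOD 2 ^ j] := by
    have := hk₁ (g ^ m) ⟨j, ho1⟩
    rw [pow_eq_pow_iff_modEq, ho1] at this
    exact this
  have hk1 : k ≡ 1 [MOD m] := by
    have := hk₂ (g ^ (2 ^ j)) (ho2 ▸ hm)
    have h2 : (g ^ 2 ^ j) ^ k = (g ^ 2 ^ j) ^ 1 := by rw [this, pow_one]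
    rw [pow_eq_pow_iff_modEq, ho2] at h2
    exact h2
  have h1 : k ^ (2 ^ a) ≡ 1 [MOD 2 ^ j] := by
    have h3 := (hk3.pow (2 ^ a))
    have h4 : 3 ^ (2 ^ a) ≡ 1 [MOD 2 ^ j] :=
      (three_pow_modEq a).of_dvd (pow_dvd_pow 2 (by omega))
    exact h3.trans h4
  have h2 : k ^ (2 ^ a) ≡ 1 [MOD m] := by
    have := hk1.pow (2 ^ a)
    rwa [one_pow] at this
  have hc : Nat.Coprime (2 ^ j) m := by
    exact Nat.Coprime.pow_left j
      ((Nat.Prime.coprime_iff_not_dvd Nat.prime_two).mpr hm.not_two_dvd_nat)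
  have h3 : k ^ (2 ^ a) ≡ 1 [MOD orderOf g] := by
    rw [hjm]
    exact (Nat.modEq_and_modEq_iff_modEq_mul hc).mp ⟨h1, h2⟩
  have h4 : g ^ (k ^ (2 ^ a)) = g ^ 1 := by
    rw [pow_eq_pow_iff_modEq]
    exact h3
  rwa [pow_one] at h4

variable {G : Type*} [Group G] [Fintype G]

/-- the Galois twist of an irreducible character by a `k` prime to the group order -/
noncomputable def twist (k : ℕ) (hk : k.Coprime (Nat.card G)) (χ : Cfsg.IrrCharacter G) :
    Cfsg.IrrCharacter G :=
  ⟨fun g => (χ : G → ℂ) (g ^ k), Cfsg.Agent.Lib.Helper11.isIrrCharacter_pow_coprime k hk χ.2⟩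

theorem twist_apply (k : ℕ) (hk : k.Coprime (Nat.card G)) (χ : Cfsg.IrrCharacter G) (g : G) :
    (twist k hk χ : G → ℂ) g = (χ : G → ℂ) (g ^ k) := rfl

theorem charDegree_twist (k : ℕ) (hk : k.Coprime (Nat.card G)) (χ : Cfsg.IrrCharacter G) :
    Cfsg.charDegree (twist k hk χ : G → ℂ) = Cfsg.charDegree (χ : G → ℂ) := by
  unfold Cfsg.charDegree
  rw [twist_apply, one_pow]

theorem centralizer_pow_eq (k : ℕ) (hk : k.Coprime (Nat.card G)) (g : G) :
    Subgroup.centralizer ({g ^ k} : Set G) = Subgroup.centralizer ({g} : Set G) := by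
  have hk' : k.Coprime (orderOf g) := hk.coprime_dvd_right (orderOf_dvd_natCard g)
  obtain ⟨m, hm⟩ := exists_pow_eq_self_of_coprime hk'
  ext x
  simp only [Subgroup.mem_centralizer_iff, Set.mem_singleton_iff, forall_eq]
  constructor
  · intro h
    have : Commute (g ^ k) x := h
    have h2 := this.pow_left m
    rw [hm] at h2
    exact h2
  · intro h
    have : Commute g x := h
    exact this.pow_left k

theorem twist_mem_principalBlock {M : Ideal Cfsg.AlgInt} (k : ℕ) (hk : k.Coprime (Nat.card G))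
    (χ : Cfsg.IrrCharacter G) (hχ : χ ∈ Cfsg.principalBlock M G) :
    twist k hk χ ∈ Cfsg.principalBlock M G := by
  intro g
  have h := hχ (g ^ k)
  unfold Cfsg.centralChar at h ⊢
  rw [centralizer_pow_eq k hk g] at h
  rw [twist_apply, twist_apply, one_pow]
  exact h

theorem even_card_odd {M : Ideal Cfsg.AlgInt} (hM : Cfsg.IsPModular 2 M)
    (hev : Even (Nat.card G)) :
    Even (Nat.card {χ : Cfsg.IrrCharacter G // χ ∈ Cfsg.principalBlock M G ∧
      Odd (Cfsg.charDegree (χ : G → ℂ))}) := by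
  classical
  haveI : Fact (Nat.Prime 2) := ⟨Nat.prime_two⟩
  haveI : Fintype (Cfsg.IrrCharacter G) := Fintype.ofFinite _
  obtain ⟨y, hy⟩ := exists_prime_orderOf_dvd_card' (G := G) 2 hev.two_dvd
  have hy2 : y ^ 2 = 1 := by rw [← hy, pow_orderOf_eq_one]
  have hyinv : y⁻¹ = y := by
    rw [inv_eq_iff_mul_eq_one, ← pow_two, hy2]
  have hwbo := weak_block_orthogonality hM (Cfsg.principalBlock M G) isPBlock_principalBlock
    (1 : G) y (by rw [orderOf_one]; decide) (by rw [hy])
  rw [finsum_mem_eq_sum_ite] at hwbo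
  -- sum of squares of degrees lies in the local ideal
  have hmem : Cfsg.MemLocalIdeal M (((∑ χ : Cfsg.IrrCharacter G,
      if χ ∈ Cfsg.principalBlock M G then Cfsg.charDegree (χ : G → ℂ) ^ 2 else 0 : ℕ)) : ℂ) := by
    have e : (((∑ χ : Cfsg.IrrCharacter G,
        if χ ∈ Cfsg.principalBlock M G then Cfsg.charDegree (χ : G → ℂ) ^ 2 else 0 : ℕ)) : ℂ)
        = ∑ χ : Cfsg.IrrCharacter G, (if χ ∈ Cfsg.principalBlock M G then
            (χ : G → ℂ) 1 * -((χ : G → ℂ) y - (χ : G → ℂ) 1) else 0) := by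
      have e2 : ∑ χ : Cfsg.IrrCharacter G, (if χ ∈ Cfsg.principalBlock M G then
            (χ : G → ℂ) 1 * -((χ : G → ℂ) y - (χ : G → ℂ) 1) else 0)
          = (∑ χ : Cfsg.IrrCharacter G, (if χ ∈ Cfsg.principalBlock M G then
            (χ : G → ℂ) 1 * (χ : G → ℂ) 1 else 0))
            - ∑ χ : Cfsg.IrrCharacter G, (if χ ∈ Cfsg.principalBlock M G then
            (χ : G → ℂ) 1 * conj ((χ : G → ℂ) y) else 0) := by
        rw [← Finset.sum_sub_distrib]
        apply Finset.sum_congr rfl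
        intro χ _
        by_cases h : χ ∈ Cfsg.principalBlock M G
        · rw [if_pos h, if_pos h, if_pos h, ← irr_inv, hyinv]; ring
        · rw [if_neg h, if_neg h, if_neg h, sub_zero]
      rw [e2, hwbo, sub_zero]
      push_cast
      apply Finset.sum_congr rfl
      intro χ _
      by_cases h : χ ∈ Cfsg.principalBlock M G
      · rw [if_pos h, if_pos h, apply_one_eq_charDegree]; push_cast; ring
      · rw [if_neg h, if_neg h]
    rw [e]
    apply memLocalIdeal_sum hM
    intro χ _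
    by_cases h : χ ∈ Cfsg.principalBlock M G
    · rw [if_pos h]
      apply memLocalIdeal_mul_left hM
      · rw [apply_one_eq_charDegree]; exact memLocalRing_natCast hM _
      · apply memLocalIdeal_neg
        exact Cfsg.Agent.Lib.Helper25.memLocalIdeal_char_sub_degree hM χ y 1
          (by rw [pow_one]; exact hy2)
    · rw [if_neg h]; exact memLocalIdeal_zero hM
  rw [memLocalIdeal_natCast_iff hM] at hmem
  have hev2 : Even (∑ χ ∈ (Finset.univ.filter (fun χ : Cfsg.IrrCharacter G =>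
      χ ∈ Cfsg.principalBlock M G)), Cfsg.charDegree (χ : G → ℂ) ^ 2) := by
    rw [Finset.sum_filter]
    exact even_iff_two_dvd.mpr hmem
  rw [Finset.even_sum_iff_even_card_odd] at hev2
  have hc : Nat.card {χ : Cfsg.IrrCharacter G // χ ∈ Cfsg.principalBlock M G ∧
      Odd (Cfsg.charDegree (χ : G → ℂ))}
      = (Finset.filter (fun χ : Cfsg.IrrCharacter G => Odd (Cfsg.charDegree (χ : G → ℂ) ^ 2))
        (Finset.univ.filter (fun χ : Cfsg.IrrCharacter G =>
          χ ∈ Cfsg.principalBlock M G))).card := by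
    rw [Nat.card_eq_fintype_card, Fintype.card_subtype]
    congr 1
    ext χ
    simp only [Finset.mem_filter, Finset.mem_univ, true_and]
    rw [Nat.odd_pow_iff (by norm_num : (2 : ℕ) ≠ 0)]
  rw [hc]
  exact hev2

end Aux


/-- Let G be a finite group of even order and M a maximal ideal of the algebraic integers containing 2. Let k be a natural number with g ^ k = g ^ 3 for every 2-element g and g ^ k = g for every element g of odd order (such k exist); an irreducible character χ is unchanged by g ↦ g ^ k exactly when it is fixed by the field automorphism that cubes the 2-power roots of unity and fixes the roots of unity of odd order. Then the number of members χ of the principal 2-block of odd degree with χ (g ^ k) = χ g for all g is even. -/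
theorem result {G : Type*} [Group G] [Finite G] (M : Ideal Cfsg.AlgInt) (hM : Cfsg.IsPModular 2 M) (hev : Even (Nat.card G)) (k : ℕ) (hk₁ : ∀ g : G, (∃ j : ℕ, orderOf g = 2 ^ j) → g ^ k = g ^ 3) (hk₂ : ∀ g : G, Odd (orderOf g) → g ^ k = g) : Even (Nat.card {χ : Cfsg.IrrCharacter G // χ ∈ Cfsg.principalBlock M G ∧ Odd (Cfsg.charDegree (χ : G → ℂ)) ∧ ∀ g : G, (χ : G → ℂ) (g ^ k) = (χ : G → ℂ) g}) := by
  classical
  haveI : Fintype G := Fintype.ofFinite G
  haveI : Fact (Nat.Prime 2) := ⟨Nat.prime_two⟩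
  have hcop := coprime_k hev k hk₁ hk₂
  obtain ⟨a, ha⟩ : ∃ a, a = (Nat.card G).factorization 2 := ⟨_, rfl⟩
  have hiter : ∀ g : G, g ^ (k ^ (2 ^ a)) = g := fun g => pow_pow_eq_self k hk₁ hk₂ g a (ha ▸ le_refl _)
  -- the type of odd-degree characters in the principal block
  let α := {χ : Cfsg.IrrCharacter G // χ ∈ Cfsg.principalBlock M G ∧
    Odd (Cfsg.charDegree (χ : G → ℂ))}
  haveI : Fintype α := Fintype.ofFinite α
  let f : Function.End α := fun χ =>
    ⟨twist k hcop χ.1, twist_mem_principalBlock k hcop χ.1 χ.2.1, by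
      rw [charDegree_twist]; exact χ.2.2⟩
  have hfn : ∀ (n : ℕ) (χ : α) (g : G), (((f ^ n) χ).1 : G → ℂ) g = (χ.1 : G → ℂ) (g ^ (k ^ n)) := by
    intro n
    induction n with
    | zero =>
      intro χ g
      show (χ.1 : G → ℂ) g = _
      rw [pow_zero, pow_one]
    | succ n ih =>
      intro χ g
      rw [pow_succ']
      show ((f ((f ^ n) χ)).1 : G → ℂ) g = _
      show (((f ^ n) χ).1 : G → ℂ) (g ^ k) = _
      rw [ih, ← pow_mul, ← pow_succ']
  have hf : f ^ 2 ^ a = 1 := by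
    funext χ
    apply Subtype.ext
    apply Subtype.ext
    funext g
    rw [hfn, hiter]
    rfl
  have hmod := Equiv.Perm.card_fixedPoints_modEq (p := 2) (n := a) hf
  have hcard : Even (Fintype.card α) := by
    rw [← Nat.card_eq_fintype_card]
    exact even_card_odd hM hev
  have hfix : Even (Fintype.card (Function.fixedPoints f)) := by
    rw [Nat.even_iff] at hcard ⊢
    rw [← hcard]
    exact hmod.symm
  rw [← Nat.card_eq_fintype_card] at hfix
  have e : Function.fixedPoints f ≃ {χ : Cfsg.IrrCharacter G // χ ∈ Cfsg.principalBlock M G ∧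
      Odd (Cfsg.charDegree (χ : G → ℂ)) ∧ ∀ g : G, (χ : G → ℂ) (g ^ k) = (χ : G → ℂ) g} :=
    { toFun := fun χ => ⟨χ.1.1, χ.1.2.1, χ.1.2.2, fun g => by
        have h := χ.2
        have h2 : ((f χ.1).1 : G → ℂ) g = (χ.1.1 : G → ℂ) g := by
          have h3 : f χ.1 = χ.1 := h
          rw [h3]
        exact h2⟩
      invFun := fun χ => ⟨⟨χ.1, χ.2.1, χ.2.2.1⟩, by
        show f _ = _
        apply Subtype.ext
        apply Subtype.ext
        funext g
        exact χ.2.2.2 g⟩
      left_inv := fun χ => rfl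
      right_inv := fun χ => rfl }
  rw [← Nat.card_congr e]
  exact hfix

end Cfsg.Agent.S4550
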