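import Mathlib
import Cfsg.Statements.S4551
import Cfsg.Agent.Lib.Helper25.AlperinDade2
import Cfsg.Agent.Lib.Helper7.CliffordCentral

set_option autoImplicit false
open Cfsg

namespace Cfsg.Agent.S4551

open Cfsg.Agent.Lib.Helper25.AlperinDade

/-- Let N be a normal subgroup of the finite group G of index prime to p, P a Sylow p-subgroup of G with G = N·C_G(P), and M a maximal ideal of the algebraic integers containing p. Then restriction to N is a bijection from the principal p-block of G onto the principal p-block of N: every member of the principal block of G restricts to a member of the principal block of N, and every member of the principal block of N is the restriction of exactly one member of the principal block of G. -/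
theorem result {G : Type*} [Group G] [Finite G] (p : ℕ) [Fact p.Prime] (M : Ideal Cfsg.AlgInt) (hM : Cfsg.IsPModular p M) (N : Subgroup G) [N.Normal] (hidx : ¬ p ∣ N.index) (P : Sylow p G) (hsup : N ⊔ Subgroup.centralizer ((P : Subgroup G) : Set G) = ⊤) : (∀ χ ∈ Cfsg.principalBlock M G, ∃ θ ∈ Cfsg.principalBlock M ↥N, ∀ n : N, (χ : G → ℂ) n = (θ : N → ℂ) n) ∧ ∀ θ ∈ Cfsg.principalBlock M ↥N, ∃! χ : Cfsg.IrrCharacter G, χ ∈ Cfsg.principalBlock M G ∧ ∀ n : N, (χ : G → ℂ) n = (θ : N → ℂ) n := by
  classical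
  haveI : Fintype G := Fintype.ofFinite G
  haveI : Fintype N := Fintype.ofFinite N
  -- the Sylow subgroup lies in `N`
  have hPN : (P : Subgroup G) ≤ N := by
    intro g hg
    obtain ⟨k, hk⟩ := P.2 ⟨g, hg⟩
    have hgk : g ^ (p ^ k) = 1 := by
      have := congrArg Subtype.val hk
      simpa using this
    have h1 : orderOf (g : G ⧸ N) ∣ p ^ k := by
      apply orderOf_dvd_of_pow_eq_one
      rw [← QuotientGroup.mk_pow, hgk]
      rfl
    have h2 : orderOf (g : G ⧸ N) ∣ N.index := by
      rw [Subgroup.index_eq_card]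
      exact orderOf_dvd_natCard _
    have hcop : Nat.Coprime (p ^ k) N.index :=
      Nat.Coprime.pow_left k ((Nat.Prime.coprime_iff_not_dvd Fact.out).mpr hidx)
    have h3 : orderOf (g : G ⧸ N) = 1 := Nat.eq_one_of_dvd_coprimes hcop h1 h2
    rw [orderOf_eq_one_iff] at h3
    exact (QuotientGroup.eq_one_iff g).mp h3
  have hfac : ∀ x : G, ∃ y ∈ N, ∃ c ∈ Subgroup.centralizer ((P : Subgroup G) : Set G),
      x = y * c := by
    intro x
    have hx : x ∈ ((N ⊔ Subgroup.centralizer ((P : Subgroup G) : Set G) : Subgroup G) : Set G) := by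
      rw [hsup]; trivial
    rw [Subgroup.normal_mul] at hx
    obtain ⟨y, hy, c, hc, hyc⟩ := Set.mem_mul.mp hx
    exact ⟨y, hy, c, hc, hyc.symm⟩
  have D : ADHyp p M N (P : Subgroup G) := ⟨hM, hPN, P.not_dvd_index, hfac⟩
  constructor
  · intro χ hχ
    obtain ⟨θ, hθ⟩ := Cfsg.Agent.Lib.Helper7.exists_constituent_restrict N χ
    have hθB := Cfsg.Agent.Lib.Helper24.mem_principalBlock_of_over N hM χ hχ θ hθ
    obtain ⟨χ₁, _, hχ₁res, hχ₁u⟩ := exists_unique_over D θ hθB
    have h1 := hχ₁u χ hχ hθ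
    refine ⟨θ, hθB, fun n => ?_⟩
    rw [h1]
    exact hχ₁res n
  · intro θ hθB
    obtain ⟨χ₁, hχ₁B, hχ₁res, hχ₁u⟩ := exists_unique_over D θ hθB
    refine ⟨χ₁, ⟨hχ₁B, hχ₁res⟩, ?_⟩
    rintro χ' ⟨hχ'B, hχ'res⟩
    apply hχ₁u χ' hχ'B
    have h2 : (fun n : N => (χ' : G → ℂ) n) = (θ : N → ℂ) := funext hχ'res
    rw [h2, Cfsg.Agent.Lib.Helper2.classInner_irrCharacter_self]
    exact one_ne_zero

end Cfsg.Agent.S4551
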