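import Mathlib
import Cfsg.Agent.Lib.Helper2.CharBasic
import Cfsg.Statements.S4558

set_option autoImplicit false
open Cfsg

namespace Cfsg.Agent.S4558

open Polynomial

/-- If a sum of `n` complex `p^j`-th roots of unity vanishes, then `p ∣ n`. -/
theorem dvd_of_sum_roots_eq_zero (p : ℕ) [Fact p.Prime] (j n : ℕ) (μ : Fin n → ℂ)
    (hμ : ∀ i, μ i ^ (p ^ j) = 1) (hsum : ∑ i, μ i = 0) : p ∣ n := by
  have hp : p.Prime := Fact.out
  rcases Nat.eq_zero_or_pos j with rfl | hj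
  · -- all μ i = 1
    have h1 : ∀ i, μ i = 1 := fun i => by simpa using hμ i
    simp only [h1, Finset.sum_const, Finset.card_univ, Fintype.card_fin, nsmul_eq_mul, mul_one] at hsum
    have : n = 0 := by exact_mod_cast hsum
    rw [this]; exact dvd_zero p
  · obtain ⟨j, rfl⟩ : ∃ j', j = j' + 1 := ⟨j - 1, by omega⟩
    have hne : p ^ (j + 1) ≠ 0 := pow_ne_zero _ hp.ne_zero
    haveI : NeZero (p ^ (j + 1)) := ⟨hne⟩
    set ζ : ℂ := Complex.exp (2 * Real.pi * Complex.I / (p ^ (j + 1) : ℕ)) with hζdef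
    have hζ : IsPrimitiveRoot ζ (p ^ (j + 1)) := Complex.isPrimitiveRoot_exp _ hne
    choose k hk using fun i => hζ.eq_pow_of_pow_eq_one (hμ i)
    let f : ℤ[X] := ∑ i, X ^ k i
    have hf : aeval ζ f = 0 := by
      simp only [f, map_sum, map_pow, aeval_X]
      rw [← hsum]
      exact Finset.sum_congr rfl fun i _ => (hk i).2
    have hdvd : cyclotomic (p ^ (j + 1)) ℤ ∣ f := by
      rw [cyclotomic_eq_minpoly hζ (Nat.pos_of_ne_zero hne)]
      exact minpoly.isIntegrallyClosed_dvd (hζ.isIntegral (Nat.pos_of_ne_zero hne)) hf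
    obtain ⟨q, hq⟩ := hdvd
    have hev := congrArg (eval 1) hq
    rw [eval_mul, eval_one_cyclotomic_prime_pow] at hev
    have hf1 : eval 1 f = n := by
      simp [f, eval_finset_sum]
    rw [hf1] at hev
    have : (p : ℤ) ∣ (n : ℤ) := ⟨_, hev⟩
    exact_mod_cast this

theorem result {G : Type*} [Group G] [Finite G] (p : ℕ) [Fact p.Prime] (χ : G → ℂ) (hχ : Cfsg.IsCharacter G χ) (g : G) (hg : ∃ j : ℕ, orderOf g = p ^ j) (h0 : χ g = 0) : p ∣ Cfsg.charDegree χ := by
  obtain ⟨n, ρ, rfl⟩ := hχ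
  obtain ⟨j, hj⟩ := hg
  obtain ⟨μ, hμ, h1, _⟩ := Cfsg.Agent.Lib.Helper2.exists_eigenvalues ρ g
  have hdeg : Cfsg.charDegree ρ.character = Module.finrank ℂ (Fin n → ℂ) := by
    unfold Cfsg.charDegree
    rw [Representation.char_one]
    simp
  rw [hdeg]
  apply dvd_of_sum_roots_eq_zero p j _ μ
  · intro i; rw [← hj]; exact hμ i
  · have := h1 1
    simp only [pow_one] at this
    rw [← this]; exact h0

end Cfsg.Agent.S4558
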