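import Cfsg.Statements.S4560
import Cfsg.Agent.Lib.Helper24.AltCharElt

set_option autoImplicit false
open Cfsg

namespace Cfsg.Agent.S4560

open MulAction Cfsg.Agent.Lib.Helper24.AltChar Cfsg.Agent.Lib.Helper2

theorem hS4 (n : ℕ) : IsMultiplyPretransitive (Equiv.Perm (Fin n)) (Fin n) 4 :=
  Equiv.Perm.isMultiplyPretransitive (Fin n) 4

theorem hA4 (n : ℕ) (hn : 7 ≤ n) :
    IsMultiplyPretransitive (alternatingGroup (Fin n)) (Fin n) 4 := by
  haveI := alternatingGroup.isMultiplyPretransitive (Fin n)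
  apply isMultiplyPretransitive_of_le (n := Nat.card (Fin n) - 2)
  · rw [Nat.card_eq_fintype_card, Fintype.card_fin]; omega
  · exact Nat.sub_le _ _

theorem key (n : ℕ) (hn : 7 ≤ n) (x : alternatingGroup (Fin n))
    (h2 : 2 ∉ (x : Equiv.Perm (Fin n)).cycleType)
    (hf : n - (x : Equiv.Perm (Fin n)).cycleType.sum ≤ 3) :
    ∃ χ : Cfsg.IrrCharacter (alternatingGroup (Fin n)),
      (χ : alternatingGroup (Fin n) → ℂ) x = 0 ∧
      ∃ ψ : Cfsg.IrrCharacter (Equiv.Perm (Fin n)), ∀ y : alternatingGroup (Fin n),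
        (ψ : Equiv.Perm (Fin n) → ℂ) y = (χ : alternatingGroup (Fin n) → ℂ) y := by
  have hcard : 4 ≤ Fintype.card (Fin n) := by rw [Fintype.card_fin]; omega
  have hfx : Nat.card (fixedBy (Fin n) x) = n - (x : Equiv.Perm (Fin n)).cycleType.sum := by
    have := card_fixedBy_perm (x : Equiv.Perm (Fin n))
    rw [Fintype.card_fin] at this
    exact this
  have hns : ∀ a : Fin n, x • x • a = a → x • a = a :=
    noSwap_of_two_notMem (x : Equiv.Perm (Fin n)) h2
  have hcases : (Nat.card (fixedBy (Fin n) x) = 0 ∨ Nat.card (fixedBy (Fin n) x) = 3)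
      ∨ (Nat.card (fixedBy (Fin n) x) = 1 ∨ Nat.card (fixedBy (Fin n) x) = 2) := by
    rw [hfx]; omega
  rcases hcases with h | h
  · refine ⟨⟨chi2 (Fin n), chi2_isIrr (hA4 n hn) hcard⟩, chi2_eq_zero_of_noSwap x hns h,
      ⟨chi2 (Fin n), chi2_isIrr (hS4 n) hcard⟩, fun y => rfl⟩
  · refine ⟨⟨chi3 (Fin n), chi3_isIrr (hA4 n hn) hcard⟩, chi3_eq_zero_of_noSwap x hns h,
      ⟨chi3 (Fin n), chi3_isIrr (hS4 n) hcard⟩, fun y => rfl⟩

theorem key_std (n : ℕ) (hn : 7 ≤ n) (x : alternatingGroup (Fin n))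
    (hf : n - (x : Equiv.Perm (Fin n)).cycleType.sum = 1) :
    ∃ χ : Cfsg.IrrCharacter (alternatingGroup (Fin n)),
      (χ : alternatingGroup (Fin n) → ℂ) x = 0 ∧
      ∃ ψ : Cfsg.IrrCharacter (Equiv.Perm (Fin n)), ∀ y : alternatingGroup (Fin n),
        (ψ : Equiv.Perm (Fin n) → ℂ) y = (χ : alternatingGroup (Fin n) → ℂ) y := by
  have hcard : 4 ≤ Fintype.card (Fin n) := by rw [Fintype.card_fin]; omega
  have hcard2 : 2 ≤ Nat.card (Fin n) := by rw [Nat.card_eq_fintype_card]; omega
  have hfx : Nat.card (fixedBy (Fin n) x) = n - (x : Equiv.Perm (Fin n)).cycleType.sum := by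
    have := card_fixedBy_perm (x : Equiv.Perm (Fin n))
    rw [Fintype.card_fin] at this
    exact this
  haveI hA1 : IsPretransitive (alternatingGroup (Fin n)) (Fin n) := by
    rw [← MulAction.is_one_pretransitive_iff]
    exact pretrans_of_le (hA4 n hn) hcard 1 (by norm_num)
  haveI hS1 : IsPretransitive (Equiv.Perm (Fin n)) (Fin n) := by
    rw [← MulAction.is_one_pretransitive_iff]
    exact pretrans_of_le (hS4 n) hcard 1 (by norm_num)
  have hA2 := pretrans_of_le (hA4 n hn) hcard 2 (by norm_num)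
  have hS2 := pretrans_of_le (hS4 n) hcard 2 (by norm_num)
  refine ⟨⟨fun g => (Nat.card (fixedBy (Fin n) g) : ℂ) - 1,
      (isIrrCharacter_fixedPoints_sub_one_iff (Fin n) hcard2).mpr hA2⟩, ?_,
    ⟨fun g => (Nat.card (fixedBy (Fin n) g) : ℂ) - 1,
      (isIrrCharacter_fixedPoints_sub_one_iff (Fin n) hcard2).mpr hS2⟩, fun y => rfl⟩
  change (Nat.card (fixedBy (Fin n) x) : ℂ) - 1 = 0
  rw [hfx, hf]
  norm_num

theorem part_three (n : ℕ) (hn : 7 ≤ n) :
    ∃ χ : Cfsg.IrrCharacter (alternatingGroup (Fin n)),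
      (∃ y : alternatingGroup (Fin n), orderOf y = 3 ∧ (χ : alternatingGroup (Fin n) → ℂ) y = 0) ∧
      ∃ ψ : Cfsg.IrrCharacter (Equiv.Perm (Fin n)), ∀ x : alternatingGroup (Fin n),
        (ψ : Equiv.Perm (Fin n) → ℂ) x = (χ : alternatingGroup (Fin n) → ℂ) x := by
  have hq : 2 ≤ n / 3 := by omega
  have hsum : (Multiset.replicate (n / 3) 3).sum = 3 * (n / 3) := by
    rw [Multiset.sum_replicate, smul_eq_mul, mul_comm]
  obtain ⟨x, hx⟩ := exists_alt_cycleType (α := Fin n) (Multiset.replicate (n / 3) 3)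
    (by rw [hsum, Fintype.card_fin]; omega)
    (by intro a ha; rw [Multiset.eq_of_mem_replicate ha]; norm_num)
    (by rw [hsum, Multiset.card_replicate]; exact ⟨2 * (n / 3), by ring⟩)
  have hord : orderOf x = 3 := by
    rw [← Subgroup.orderOf_coe]
    apply orderOf_of_cycleType
    · rw [hx, Multiset.mem_replicate]; exact ⟨by omega, rfl⟩
    · intro a ha
      rw [hx] at ha
      rw [Multiset.eq_of_mem_replicate ha]
  obtain ⟨χ, hχ, ψ, hψ⟩ := key n hn x
    (by rw [hx]; intro h; have := Multiset.eq_of_mem_replicate h; omega)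
    (by rw [hx, hsum]; omega)
  exact ⟨χ, ⟨x, hord, hχ⟩, ψ, hψ⟩

theorem part_two (n : ℕ) (hn : 7 ≤ n) :
    ∃ χ : Cfsg.IrrCharacter (alternatingGroup (Fin n)),
      (∃ x : alternatingGroup (Fin n), (∃ j : ℕ, orderOf x = 2 ^ j) ∧
        (χ : alternatingGroup (Fin n) → ℂ) x = 0) ∧
      ∃ ψ : Cfsg.IrrCharacter (Equiv.Perm (Fin n)), ∀ x : alternatingGroup (Fin n),
        (ψ : Equiv.Perm (Fin n) → ℂ) x = (χ : alternatingGroup (Fin n) → ℂ) x := by
  have hq : 1 ≤ n / 4 := by omega
  by_cases hqe : Even (n / 4)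
  · -- `n / 4` four-cycles
    have hsum : (Multiset.replicate (n / 4) 4).sum = 4 * (n / 4) := by
      rw [Multiset.sum_replicate, smul_eq_mul, mul_comm]
    obtain ⟨x, hx⟩ := exists_alt_cycleType (α := Fin n) (Multiset.replicate (n / 4) 4)
      (by rw [hsum, Fintype.card_fin]; omega)
      (by intro a ha; rw [Multiset.eq_of_mem_replicate ha]; norm_num)
      (by
        rw [hsum, Multiset.card_replicate]
        obtain ⟨k, hk⟩ := hqe
        exact ⟨5 * k, by rw [hk]; ring⟩)
    have hord : orderOf x = 2 ^ 2 := by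
      rw [← Subgroup.orderOf_coe]
      apply orderOf_of_cycleType
      · rw [hx, Multiset.mem_replicate]; exact ⟨by omega, rfl⟩
      · intro a ha
        rw [hx] at ha
        rw [Multiset.eq_of_mem_replicate ha]
        norm_num
    obtain ⟨χ, hχ, ψ, hψ⟩ := key n hn x
      (by rw [hx]; intro h; have := Multiset.eq_of_mem_replicate h; omega)
      (by rw [hx, hsum]; omega)
    exact ⟨χ, ⟨x, ⟨2, hord⟩, hχ⟩, ψ, hψ⟩
  · rw [Nat.not_even_iff_odd] at hqe
    by_cases hq1 : n / 4 = 1
    · -- `n = 7`: a four-cycle and a two-cycle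
      have hn7 : n = 7 := by omega
      obtain ⟨x, hx⟩ := exists_alt_cycleType (α := Fin n) (4 ::ₘ {2})
        (by rw [Fintype.card_fin]; simp; omega)
        (by intro a ha; simp at ha; omega)
        (by simp; decide)
      have hord : orderOf x = 2 ^ 2 := by
        rw [← Subgroup.orderOf_coe]
        apply orderOf_of_cycleType
        · rw [hx]; simp
        · intro a ha
          rw [hx] at ha
          simp at ha
          rcases ha with rfl | rfl <;> norm_num
      obtain ⟨χ, hχ, ψ, hψ⟩ := key_std n hn x (by rw [hx]; simp; omega)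
      exact ⟨χ, ⟨x, ⟨2, hord⟩, hχ⟩, ψ, hψ⟩
    · -- an eight-cycle and `n / 4 - 2` four-cycles
      obtain ⟨k, hk⟩ := hqe
      have hk1 : 1 ≤ k := by omega
      have hsum : (8 ::ₘ Multiset.replicate (n / 4 - 2) 4).sum = 4 * (n / 4) := by
        rw [Multiset.sum_cons, Multiset.sum_replicate, smul_eq_mul]
        omega
      obtain ⟨x, hx⟩ := exists_alt_cycleType (α := Fin n) (8 ::ₘ Multiset.replicate (n / 4 - 2) 4)
        (by rw [hsum, Fintype.card_fin]; omega)
        (by
          intro a ha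
          rw [Multiset.mem_cons] at ha
          rcases ha with rfl | ha
          · norm_num
          · rw [Multiset.eq_of_mem_replicate ha]; norm_num)
        (by
          rw [hsum, Multiset.card_cons, Multiset.card_replicate]
          exact ⟨5 * k + 2, by omega⟩)
      have hord : orderOf x = 2 ^ 3 := by
        rw [← Subgroup.orderOf_coe]
        apply orderOf_of_cycleType
        · rw [hx]; simp
        · intro a ha
          rw [hx, Multiset.mem_cons] at ha
          rcases ha with rfl | ha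
          · norm_num
          · rw [Multiset.eq_of_mem_replicate ha]; norm_num
      obtain ⟨χ, hχ, ψ, hψ⟩ := key n hn x
        (by
          rw [hx, Multiset.mem_cons]
          rintro (h | h)
          · omega
          · have := Multiset.eq_of_mem_replicate h; omega)
        (by rw [hx, hsum]; omega)
      exact ⟨χ, ⟨x, ⟨3, hord⟩, hχ⟩, ψ, hψ⟩

/-- For n ≥ 7 the alternating group on n letters has an irreducible character that vanishes at some 2-element and is the restriction of an irreducible character of the symmetric group, and an irreducible character that vanishes at some element of order 3 and is the restriction of an irreducible character of the symmetric group. -/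
theorem result (n : ℕ) (hn : 7 ≤ n) : (∃ χ : Cfsg.IrrCharacter (alternatingGroup (Fin n)), (∃ x : alternatingGroup (Fin n), (∃ j : ℕ, orderOf x = 2 ^ j) ∧ (χ : alternatingGroup (Fin n) → ℂ) x = 0) ∧ ∃ ψ : Cfsg.IrrCharacter (Equiv.Perm (Fin n)), ∀ x : alternatingGroup (Fin n), (ψ : Equiv.Perm (Fin n) → ℂ) x = (χ : alternatingGroup (Fin n) → ℂ) x) ∧ (∃ χ : Cfsg.IrrCharacter (alternatingGroup (Fin n)), (∃ y : alternatingGroup (Fin n), orderOf y = 3 ∧ (χ : alternatingGroup (Fin n) → ℂ) y = 0) ∧ ∃ ψ : Cfsg.IrrCharacter (Equiv.Perm (Fin n)), ∀ x : alternatingGroup (Fin n), (ψ : Equiv.Perm (Fin n) → ℂ) x = (χ : alternatingGroup (Fin n) → ℂ) x) :=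
  ⟨part_two n hn, part_three n hn⟩

end Cfsg.Agent.S4560
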