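import Mathlib
import Cfsg.Statements.S4561
import Cfsg.Agent.Lib.Helper24.CentralInv
import Cfsg.Agent.Lib.Helper24.WreathEmbed
import Cfsg.Agent.Lib.Helper25.DetSolv

set_option autoImplicit false
universe u
open Cfsg

namespace Cfsg.Agent.S4561

open RegularWreathProduct Cfsg.Agent.Lib.Helper24.WreathM Cfsg.Agent.Lib.Helper24.CentralInv

/-- Gagola's embedding theorem, by induction on the order: the invariant holds for every finite
solvable group. -/
theorem main : ∀ (n : ℕ) (G : Type u) [Group G] [Finite G], Nat.card G = n → Group.IsSolvable G →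
    InvP G (fun q => q ∣ Nat.card G) := by
  intro n
  induction n using Nat.strong_induction_on with
  | _ n ih =>
    intro G _ _ hn hsolv
    by_cases htriv : Subsingleton G
    · -- trivial group
      haveI := htriv
      apply InvP.congr _ (InvP.of_subsingleton G)
      intro q hq
      have h1 : Nat.card G = 1 := Nat.card_eq_one_iff_unique.2 ⟨htriv, ⟨1⟩⟩
      rw [h1]
      constructor
      · intro h
        exact h.elim
      · intro h
        exact hq.one_lt.ne' (Nat.dvd_one.1 h)
    · -- nontrivial: a normal subgroup of prime index
      have hbot : (⊥ : Subgroup G) ≠ ⊤ := by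
        intro h
        apply htriv
        refine ⟨fun a b => ?_⟩
        have ha : a ∈ (⊥ : Subgroup G) := by rw [h]; exact Subgroup.mem_top a
        have hb : b ∈ (⊥ : Subgroup G) := by rw [h]; exact Subgroup.mem_top b
        rw [Subgroup.mem_bot] at ha hb
        rw [ha, hb]
      have hsolvq : Group.IsSolvable (G ⧸ (⊥ : Subgroup G)) := by
        haveI := hsolv
        exact Group.isSolvable_of_surjective (f := QuotientGroup.mk' (⊥ : Subgroup G))
          (QuotientGroup.mk'_surjective _)
      obtain ⟨N, hNn, -, hNp⟩ := Cfsg.Agent.Lib.Helper25.exists_normal_prime_index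
        (⊥ : Subgroup G) hsolvq hbot
      haveI := hNn
      have hNlt : Nat.card N < n := by
        rw [← hn, ← Subgroup.card_mul_index N]
        have h2 := hNp.two_le
        have h1 : 0 < Nat.card N := Nat.card_pos
        nlinarith
      have hNsolv : Group.IsSolvable N := by
        haveI := hsolv
        infer_instance
      have hIH := ih (Nat.card N) hNlt N rfl hNsolv
      have hQp : (Nat.card (G ⧸ N)).Prime := hNp
      haveI : Fact (Nat.card (G ⧸ N)).Prime := ⟨hQp⟩
      have h1 := InvP.wreath (Nat.card (G ⧸ N)) hIH
      have hcyc : IsCyclic (G ⧸ N) := isCyclic_of_prime_card rfl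
      have h2 := InvP.mono
        ((RegularWreathProduct.congr (MulEquiv.refl N) (zmodCyclicMulEquiv hcyc).symm).toMonoidHom.comp
          (kkEmbed N))
        ((RegularWreathProduct.congr (MulEquiv.refl N)
          (zmodCyclicMulEquiv hcyc).symm).injective.comp (kkEmbed_injective N)) h1
      apply InvP.congr _ h2
      intro q hq
      have hcard : Nat.card G = Nat.card N * Nat.card (G ⧸ N) := by
        rw [← Subgroup.card_mul_index N]
        rfl
      rw [hcard, hq.dvd_mul, Nat.prime_dvd_prime_iff_eq hq hQp]

/-- For every finite solvable group G there is a finite group H with a faithful irreducible character χ whose degree squared equals the index of the centre Z(H) (so χ is fully ramified over the centre), such that G is isomorphic to a subgroup of H/Z(H), the primes dividing the orders of H, of Z(H) and of G are the same, and the order of Z(H) is squarefree. -/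
theorem result {G : Type u} [Group G] [Finite G] (hsolv : Group.IsSolvable G) : ∃ (H : Type u) (_ : Group H) (_ : Finite H) (χ : Cfsg.IrrCharacter H), (∀ h : H, (χ : H → ℂ) h = (χ : H → ℂ) 1 → h = 1) ∧ (Cfsg.charDegree (χ : H → ℂ)) ^ 2 = (Subgroup.center H).index ∧ (∃ f : G →* H ⧸ Subgroup.center H, Function.Injective f) ∧ (∀ p : ℕ, p.Prime → ((p ∣ Nat.card H ↔ p ∣ Nat.card G) ∧ (p ∣ Nat.card (Subgroup.center H) ↔ p ∣ Nat.card G))) ∧ Squarefree (Nat.card (Subgroup.center H)) :=
  InvP.final (main (Nat.card G) G rfl hsolv)

end Cfsg.Agent.S4561
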