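import Mathlib
import Cfsg.Statements.S4563
import Cfsg.Agent.Lib.Helper24.FRInduced
import Cfsg.Agent.Lib.Helper1.HallConverse

set_option autoImplicit false
open Cfsg

namespace Cfsg.Agent.S4563

open Cfsg.Agent.Lib.Helper24.FRC

/-- Let χ be an irreducible character of the finite group H that is fully ramified over the normal subgroup Z: the restriction of χ to Z is e times an irreducible character of Z with e ^ 2 equal to the index of Z. If K is a proper normal subgroup of H containing Z and χ is induced from a character of K, then H/K is solvable; in particular, if K is solvable then so is H. -/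
theorem result {H : Type*} [Group H] [Fintype H] (Z : Subgroup H) [Z.Normal] (χ : Cfsg.IrrCharacter H) (hfr : ∃ (θ : Cfsg.IrrCharacter ↥Z) (e : ℕ), e ^ 2 = Z.index ∧ ∀ z : ↥Z, (χ : H → ℂ) z = (e : ℂ) * (θ : ↥Z → ℂ) z) (K : Subgroup H) [K.Normal] [Fintype K] (hZK : Z ≤ K) (hK : K ≠ ⊤) (φ : ↥K → ℂ) (hφ : Cfsg.IsCharacter ↥K φ) (hind : Cfsg.indFun K φ = (χ : H → ℂ)) : Group.IsSolvable (H ⧸ K) ∧ (Group.IsSolvable ↥K → Group.IsSolvable H) := by
  classical
  haveI : Fintype ↥Z := Fintype.ofFinite _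
  obtain ⟨θ, e, he, hχ⟩ := hfr
  have hsolv : Group.IsSolvable (H ⧸ K) := by
    apply Cfsg.Agent.Lib.Helper1.hall_converse_aux _ (H ⧸ K) rfl
    intro p hp
    haveI : Fact p.Prime := ⟨hp⟩
    obtain ⟨S, hZS, hidx, hpow, hfrat⟩ := exists_S Z K hZK p
    haveI : Fintype ↥(S ⊓ K) := Fintype.ofFinite _
    obtain ⟨ν, hν, hreg⟩ := exists_regular_of_induced Z χ θ e K he hχ hZK hφ hind p S hZS hidx
      hpow
    obtain ⟨C, hC, hCP⟩ := exists_complement_of_regular Z χ θ e he hχ K hZK p S hZS hidx hpow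
      hfrat ν hν hreg
    obtain ⟨P⟩ : Nonempty (Sylow p (H ⧸ K)) := inferInstance
    refine ⟨C, ⟨(Nat.card (H ⧸ K)).factorization p, ?_⟩, hC⟩
    have h1 := Subgroup.card_mul_index C
    have h2 := hCP P
    have h3 : C.index = Nat.card P :=
      Nat.eq_of_mul_eq_mul_left Nat.card_pos (h1.trans h2.symm)
    rw [h3, P.card_eq_multiplicity]
  refine ⟨hsolv, fun hKs => ?_⟩
  haveI := hKs
  haveI := hsolv
  exact solvable_of_ker_le_range K.subtype (QuotientGroup.mk' K)
    (by rw [QuotientGroup.ker_mk', Subgroup.range_subtype])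

end Cfsg.Agent.S4563
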