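import Mathlib
import Cfsg.Statements.S4564
import Cfsg.Agent.Lib.Helper24.FRComplement
import Cfsg.Agent.Lib.Helper24.FROver
import Cfsg.Agent.Lib.Helper2.CyclicQuotientExt

set_option autoImplicit false
open Cfsg

namespace Cfsg.Agent.S4564

open Cfsg.Agent.Lib.Helper2 Cfsg.Agent.Lib.Helper24 Cfsg.Agent.Lib.Helper24.FRC

section Cyclic

variable {H : Type*} [Group H] [Fintype H] (Z : Subgroup H) [Fintype Z]
  (χ : Cfsg.IrrCharacter H) (θ : Cfsg.IrrCharacter Z) (e : ℕ)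

/-- if `S K / K` lies in a cyclic subgroup of `H / K`, every `ν ∈ Irr(S ∩ K | θ)` has stabilizer
`S ∩ K` in `S` -/
theorem regular_of_cyclic (he : e ^ 2 = Z.index)
    (hχ : ∀ z : Z, (χ : H → ℂ) z = (e : ℂ) * (θ : Z → ℂ) z)
    (K : Subgroup H) [hK : K.Normal] (hZK : Z ≤ K) (p : ℕ) [hp : Fact p.Prime]
    (S : Subgroup H) (hZS : Z ≤ S) (hidx : ¬ p ∣ S.index) (hpow : ∃ k : ℕ, Z.relIndex S = p ^ k)
    (Q : Subgroup (H ⧸ K)) (hQ : IsCyclic Q) (hSQ : S.map (QuotientGroup.mk' K) ≤ Q)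
    [Fintype ↥(S ⊓ K)]
    (ν : Cfsg.IrrCharacter ↥(S ⊓ K)) (hν : fOf Z θ (S ⊓ K) (le_inf hZS hZK) ν ≠ 0)
    (s : H) (hs : s ∈ S)
    (hfix : conjIrr (S ⊓ K) ⟨s, le_normalizer_inf S K hs⟩ ν = ν) : s ∈ K := by
  classical
  have hZT : Z ≤ S ⊓ K := le_inf hZS hZK
  have hSN := le_normalizer_inf S K
  obtain ⟨k, hk⟩ := hpow
  letI := subAction (S ⊓ K) S hSN
  -- the stabilizer of ν in S, as a subgroup of H
  obtain ⟨T₁, hT₁def⟩ : ∃ T₁ : Subgroup H, T₁ = (MulAction.stabilizer S ν).map S.subtype :=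
    ⟨_, rfl⟩
  have hT₁S : T₁ ≤ S := by rw [hT₁def]; exact Subgroup.map_subtype_le _
  have hmemT₁ : ∀ x : H, x ∈ T₁ ↔ ∃ hx : x ∈ S, conjIrr (S ⊓ K) ⟨x, hSN hx⟩ ν = ν := by
    intro x
    rw [hT₁def, Subgroup.mem_map]
    constructor
    · rintro ⟨n, hn, rfl⟩
      exact ⟨n.2, hn⟩
    · rintro ⟨hx, h⟩
      exact ⟨⟨x, hx⟩, h, rfl⟩
  have hTT₁ : S ⊓ K ≤ T₁ := by
    intro t ht
    rw [hmemT₁]
    exact ⟨ht.1, conjIrr_of_mem (S ⊓ K) t ht (hSN ht.1) ν⟩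
  have hZT₁ : Z ≤ T₁ := hZT.trans hTT₁
  have horb : (MulAction.orbit S ν).ncard = T₁.relIndex S := by
    rw [← MulAction.index_stabilizer]
    unfold Subgroup.relIndex
    congr 1
    rw [hT₁def]
    exact (Subgroup.comap_map_eq_self_of_injective S.subtype_injective _).symm
  have hle := orbit_le Z χ θ e (S ⊓ K) hZT S hSN he hχ ν
  rw [horb] at hle
  haveI : Fintype ↥T₁ := Fintype.ofFinite _
  -- the quotient T₁ / T is cyclic
  haveI hnorm : ((S ⊓ K).subgroupOf T₁).Normal :=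
    Subgroup.normal_subgroupOf_of_le_normalizer (hT₁S.trans hSN)
  have hcyc : IsCyclic (↥T₁ ⧸ (S ⊓ K).subgroupOf T₁) := by
    haveI := hQ
    have hmemQ : ∀ x : T₁, ((x : H) : H ⧸ K) ∈ Q :=
      fun x => hSQ (Subgroup.mem_map_of_mem _ (hT₁S x.2))
    let ψ : ↥T₁ →* ↥Q := ((QuotientGroup.mk' K).comp T₁.subtype).codRestrict Q hmemQ
    have hψ : ∀ x : T₁, x ∈ (S ⊓ K).subgroupOf T₁ → ψ x = 1 := by
      intro x hx
      apply Subtype.ext
      show ((x : H) : H ⧸ K) = 1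
      rw [QuotientGroup.eq_one_iff]
      exact (Subgroup.mem_subgroupOf.1 hx).2
    have hψ' : (S ⊓ K).subgroupOf T₁ ≤ ψ.ker := fun x hx => MonoidHom.mem_ker.2 (hψ x hx)
    apply isCyclic_of_injective (QuotientGroup.lift ((S ⊓ K).subgroupOf T₁) ψ hψ')
    rw [injective_iff_map_eq_one]
    intro q hq
    induction q using QuotientGroup.induction_on with
    | H x =>
      rw [QuotientGroup.lift_mk] at hq
      have h1 : ((x : H) : H ⧸ K) = 1 := congrArg Subtype.val hq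
      rw [QuotientGroup.eq_one_iff] at h1
      rw [QuotientGroup.eq_one_iff, Subgroup.mem_subgroupOf]
      exact ⟨hT₁S x.2, h1⟩
  -- the extension of ν to T₁
  have hϑ : Cfsg.IsIrrCharacter ((S ⊓ K).subgroupOf T₁)
      (fun x => (ν : ↥(S ⊓ K) → ℂ) ⟨((x : T₁) : H), Subgroup.mem_subgroupOf.1 x.2⟩) := by
    have := Cfsg.Agent.Lib.Helper11.isIrrCharacter_comp_equiv
      (Subgroup.subgroupOfEquivOfLe hTT₁) ν.2
    convert this using 1
    funext x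
    rfl
  have hinv : ∀ (g : T₁) (n : (S ⊓ K).subgroupOf T₁),
      (fun x : (S ⊓ K).subgroupOf T₁ =>
        (ν : ↥(S ⊓ K) → ℂ) ⟨((x : T₁) : H), Subgroup.mem_subgroupOf.1 x.2⟩)
        ⟨g * n * g⁻¹, hnorm.conj_mem (n : T₁) n.2 g⟩
      = (fun x : (S ⊓ K).subgroupOf T₁ =>
        (ν : ↥(S ⊓ K) → ℂ) ⟨((x : T₁) : H), Subgroup.mem_subgroupOf.1 x.2⟩) n := by
    intro g n
    obtain ⟨hgS, hg⟩ := (hmemT₁ g).1 g.2
    show (ν : ↥(S ⊓ K) → ℂ) ⟨(((g * n * g⁻¹ : T₁)) : H), _⟩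
      = (ν : ↥(S ⊓ K) → ℂ) ⟨((n : T₁) : H), _⟩
    have h1 := conjIrr_apply_of_eq (S ⊓ K) ⟨(g : H), hSN hgS⟩ ν
      ⟨((n : T₁) : H), Subgroup.mem_subgroupOf.1 n.2⟩
      ⟨(((g * n * g⁻¹ : T₁)) : H), Subgroup.mem_subgroupOf.1 (hnorm.conj_mem (n : T₁) n.2 g)⟩
      (by simp)
    rw [hg] at h1
    exact h1
  obtain ⟨νh, hνhirr, hνhext⟩ := CyclicExt.exists_irr_extension ((S ⊓ K).subgroupOf T₁) hcyc _
    hϑ hinv
  -- (♯) for T₁
  have hrel₁ : Z.relIndex T₁ * T₁.relIndex S = Z.relIndex S :=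
    Subgroup.relIndex_mul_relIndex _ _ _ hZT₁ hT₁S
  have hcop : Nat.Coprime (Z.relIndex T₁) S.index := by
    have h1 : Z.relIndex T₁ ∣ p ^ k := hk ▸ Dvd.intro _ hrel₁
    obtain ⟨j, -, hj⟩ := (Nat.dvd_prime_pow hp.out).1 h1
    rw [hj]
    exact Nat.Coprime.pow_left _ ((Nat.Prime.coprime_iff_not_dvd hp.out).2 hidx)
  have hdvd := relIndex_dvd Z χ θ e he hχ T₁ S hZT₁ hT₁S hcop
    (IsIrrCharacter.isCharacter hνhirr)
  have hres : resTo Z T₁ hZT₁ νh = resTo Z (S ⊓ K) hZT (ν : ↥(S ⊓ K) → ℂ) := by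
    funext z
    have := hνhext ⟨⟨(z : H), hZT₁ z.2⟩, Subgroup.mem_subgroupOf.2 (hZT z.2)⟩
    exact this
  rw [hres] at hdvd
  have hT₁Spos : 0 < T₁.relIndex S := relIndex_pos' hT₁S
  have hfpos : 0 < fOf Z θ (S ⊓ K) hZT ν := Nat.pos_of_ne_zero hν
  have h1 : Z.relIndex T₁ ≤ Z.relIndex (S ⊓ K) := by
    refine le_trans (Nat.le_of_dvd ?_ hdvd) hle
    exact Nat.mul_pos hT₁Spos (pow_pos hfpos 2)
  have hrel₂ : Z.relIndex (S ⊓ K) * (S ⊓ K).relIndex T₁ = Z.relIndex T₁ :=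
    Subgroup.relIndex_mul_relIndex _ _ _ hZT hTT₁
  have hZTpos : 0 < Z.relIndex (S ⊓ K) := relIndex_pos' hZT
  have hTT₁pos : 0 < (S ⊓ K).relIndex T₁ := relIndex_pos' hTT₁
  have h2 : (S ⊓ K).relIndex T₁ = 1 := by
    have h3 : Z.relIndex (S ⊓ K) * (S ⊓ K).relIndex T₁ ≤ Z.relIndex (S ⊓ K) * 1 := by
      rw [hrel₂, mul_one]
      exact h1
    have h4 := Nat.le_of_mul_le_mul_left h3 hZTpos
    omega
  have h5 : T₁ ≤ S ⊓ K := Subgroup.relIndex_eq_one.1 h2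
  exact (h5 ((hmemT₁ s).2 ⟨hs, hfix⟩)).2

end Cyclic

/-- Let χ be an irreducible character of the finite group H that is fully ramified over the normal subgroup Z: the restriction of χ to Z is e times an irreducible character of Z with e ^ 2 equal to the index of Z. Let K be a normal subgroup of H containing Z and P a cyclic Sylow p-subgroup of H/K. Then P has a complement in H/K: a subgroup meeting P trivially whose product with P is the whole group. -/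
theorem result {H : Type*} [Group H] [Finite H] (Z : Subgroup H) [Z.Normal] (χ : Cfsg.IrrCharacter H) (hfr : ∃ (θ : Cfsg.IrrCharacter ↥Z) (e : ℕ), e ^ 2 = Z.index ∧ ∀ z : ↥Z, (χ : H → ℂ) z = (e : ℂ) * (θ : ↥Z → ℂ) z) (K : Subgroup H) [K.Normal] (hZK : Z ≤ K) (p : ℕ) [Fact p.Prime] (P : Sylow p (H ⧸ K)) (hcyc : IsCyclic P) : ∃ M : Subgroup (H ⧸ K), M.IsComplement' (P : Subgroup (H ⧸ K)) := by
  classical
  haveI : Fintype H := Fintype.ofFinite H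
  haveI : Fintype ↥Z := Fintype.ofFinite _
  obtain ⟨θ, e, he, hχ⟩ := hfr
  obtain ⟨S, hZS, hidx, hpow, hfrat⟩ := exists_S Z K hZK p
  haveI : Fintype ↥(S ⊓ K) := Fintype.ofFinite _
  obtain ⟨ν, hν⟩ := exists_over Z χ θ e he hχ (S ⊓ K) (le_inf hZS hZK)
  -- the image of S lies in a conjugate of P
  have hSp : IsPGroup p (S.map (QuotientGroup.mk' K)) := by
    obtain ⟨k, hk⟩ := hpow
    have h1 := Cfsg.Agent.Lib.Helper1.card_map_mul_card_inf_ker (QuotientGroup.mk' K) S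
    rw [QuotientGroup.ker_mk'] at h1
    have h2 := Cfsg.Agent.Lib.Helper2.QuasiPrim.card_eq_relIndex_mul
      (inf_le_left : S ⊓ K ≤ S)
    have hTpos : 0 < Nat.card ↥(S ⊓ K) := Nat.card_pos
    have h3 : Nat.card (S.map (QuotientGroup.mk' K)) = (S ⊓ K).relIndex S := by
      apply Nat.eq_of_mul_eq_mul_right hTpos
      rw [h1, h2]
    have hrel : Z.relIndex (S ⊓ K) * (S ⊓ K).relIndex S = Z.relIndex S :=
      Subgroup.relIndex_mul_relIndex _ _ _ (le_inf hZS hZK) inf_le_left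
    have h4 : (S ⊓ K).relIndex S ∣ p ^ k := hk ▸ Dvd.intro_left _ hrel
    obtain ⟨j, -, hj⟩ := (Nat.dvd_prime_pow (Fact.out : p.Prime)).1 h4
    exact IsPGroup.of_card (h3.trans hj)
  obtain ⟨Q, hQ⟩ := hSp.exists_le_sylow
  obtain ⟨g, hg⟩ := MulAction.exists_smul_eq (H ⧸ K) P Q
  have hQcyc : IsCyclic (Q : Subgroup (H ⧸ K)) := by
    rw [← hg]
    exact (P.equivSMul g).isCyclic.1 hcyc
  have hreg := regular_of_cyclic Z χ θ e he hχ K hZK p S hZS hidx hpow (Q : Subgroup (H ⧸ K))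
    hQcyc hQ ν hν
  obtain ⟨C, hC, hCP⟩ := exists_complement_of_regular Z χ θ e he hχ K hZK p S hZS hidx hpow hfrat
    ν hν hreg
  refine ⟨C, Subgroup.isComplement'_of_coprime (hCP P) ?_⟩
  rw [P.card_eq_multiplicity]
  exact Nat.Coprime.pow_right _ hC

end Cfsg.Agent.S4564
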