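import Mathlib
import Cfsg.Statements.S4571
import Cfsg.Agent.Lib.Helper7.QuotientRank
import Cfsg.Agent.Lib.Helper24.FrobSchur

set_option autoImplicit false
open Cfsg

namespace Cfsg.Agent.S4571

open Cfsg.Agent.Lib.Helper7 Cfsg.Agent.Lib.Helper24

/-- Let Q be a normal p-subgroup of the finite group G with G = Q·C_G(Q), and M a maximal ideal of the algebraic integers containing p. Then the principal p-blocks of G and of G/Q have the same p-regular rank (the same number of irreducible Brauer characters). -/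
theorem result {G : Type*} [Group G] [Finite G] (p : ℕ) [Fact p.Prime] (M : Ideal Cfsg.AlgInt) (hM : Cfsg.IsPModular p M) (Q : Subgroup G) [Q.Normal] (hQ : IsPGroup p Q) (hsup : Q ⊔ Subgroup.centralizer (Q : Set G) = ⊤) : Cfsg.blockRank p (Cfsg.principalBlock M G) = Cfsg.blockRank p (Cfsg.principalBlock M (G ⧸ Q)) := by
  classical
  letI : Fintype G := Fintype.ofFinite G
  -- the centralizer has `p`-power index
  have hC : ∃ k : ℕ, (Subgroup.centralizer (Q : Set G)).index = p ^ k := by
    haveI hCn : (Subgroup.centralizer (Q : Set G)).Normal := Subgroup.normal_centralizer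
    have h1 : (Subgroup.centralizer (Q : Set G)).relIndex (Q ⊔ Subgroup.centralizer (Q : Set G))
        = (Subgroup.centralizer (Q : Set G)).relIndex Q :=
      Subgroup.relIndex_sup_right Q (Subgroup.centralizer (Q : Set G))
    rw [hsup, Subgroup.relIndex_top_right] at h1
    rw [h1]
    have h2 : (Subgroup.centralizer (Q : Set G)).relIndex Q ∣ Nat.card Q :=
      Subgroup.relIndex_dvd_card _ _
    obtain ⟨n, hn⟩ := IsPGroup.iff_card.mp hQ
    rw [hn] at h2
    obtain ⟨k, _, hk⟩ := (Nat.dvd_prime_pow Fact.out).mp h2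
    exact ⟨k, hk⟩
  -- the trivial character of the quotient
  obtain ⟨χ₀, hχ₀⟩ : ∃ χ₀ : Cfsg.IrrCharacter (G ⧸ Q), (χ₀ : G ⧸ Q → ℂ) = fun _ => (1 : ℂ) :=
    ⟨⟨_, Cfsg.Agent.Lib.Helper24.isIrrCharacter_one (G ⧸ Q)⟩, rfl⟩
  have h := blockRank_blockOf_inflation hM Q hQ hC χ₀
  rw [hχ₀] at h
  exact h

end Cfsg.Agent.S4571
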