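import Mathlib
import Cfsg.Statements.S4573
import Cfsg.Agent.Lib.Helper24.WreathMGroup
import Cfsg.Agent.Lib.Helper24.WreathEmbed
import Cfsg.Agent.Lib.Helper25.DetSolv
import Cfsg.Agent.Lib.Helper2.MGroup

set_option autoImplicit false
universe u
open Cfsg

namespace Cfsg.Agent.S4573

open RegularWreathProduct Cfsg.Agent.Lib.Helper24.WreathM

/-- Dade's embedding theorem, by induction on the order. -/
theorem main : ∀ (n : ℕ) (G : Type u) [Group G] [Finite G], Nat.card G = n → Group.IsSolvable G →
    ∃ (M : Type u) (_ : Group M) (_ : Fintype M), IsMGrp M ∧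
      ∃ f : G →* M, Function.Injective f := by
  intro n
  induction n using Nat.strong_induction_on with
  | _ n ih =>
    intro G _ _ hn hsolv
    by_cases htriv : Subsingleton G
    · -- trivial group
      haveI : Fintype G := Fintype.ofFinite G
      haveI : Group.IsNilpotent G := inferInstance
      refine ⟨G, inferInstance, inferInstance, ?_, MonoidHom.id G, fun _ _ h => h⟩
      intro χ hχ
      exact Cfsg.Agent.Lib.Helper2.MGroup.isMonomial_of_isNilpotent χ hχ
    · -- nontrivial: a normal subgroup of prime index
      have hbot : (⊥ : Subgroup G) ≠ ⊤ := by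
        intro h
        apply htriv
        refine ⟨fun a b => ?_⟩
        have ha : a ∈ (⊥ : Subgroup G) := by rw [h]; exact Subgroup.mem_top a
        have hb : b ∈ (⊥ : Subgroup G) := by rw [h]; exact Subgroup.mem_top b
        rw [Subgroup.mem_bot] at ha hb
        rw [ha, hb]
      have hsolvq : Group.IsSolvable (G ⧸ (⊥ : Subgroup G)) := by
        haveI := hsolv
        exact Group.isSolvable_of_surjective (f := QuotientGroup.mk' (⊥ : Subgroup G))
          (QuotientGroup.mk'_surjective _)
      obtain ⟨N, hNn, -, hNp⟩ := Cfsg.Agent.Lib.Helper25.exists_normal_prime_index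
        (⊥ : Subgroup G) hsolvq hbot
      haveI := hNn
      have hNlt : Nat.card N < n := by
        rw [← hn, ← Subgroup.card_mul_index N]
        have h2 := hNp.two_le
        have h1 : 0 < Nat.card N := Nat.card_pos
        nlinarith
      have hNsolv : Group.IsSolvable N := by
        haveI := hsolv
        infer_instance
      obtain ⟨M₁, iG, iF, hM₁, f, hf⟩ := ih (Nat.card N) hNlt N rfl hNsolv
      have hQp : (Nat.card (G ⧸ N)).Prime := hNp
      haveI : Fintype (G ⧸ N) := Fintype.ofFinite _
      haveI : DecidableEq (G ⧸ N) := Classical.decEq _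
      haveI : Finite (M₁ ≀ᵣ (G ⧸ N)) := inferInstance
      haveI : Fintype (M₁ ≀ᵣ (G ⧸ N)) := Fintype.ofFinite _
      refine ⟨M₁ ≀ᵣ (G ⧸ N), inferInstance, inferInstance, isMGrp_wreath hM₁ hQp,
        (mapLeft f).comp (kkEmbed N), ?_⟩
      exact (mapLeft_injective hf).comp (kkEmbed_injective N)

/-- Every finite solvable group is isomorphic to a subgroup of a finite M-group, a group each of whose irreducible characters is induced from a homomorphism of some subgroup into ℂˣ. -/
theorem result {G : Type u} [Group G] [Finite G] (hsolv : Group.IsSolvable G) : ∃ (M : Type u) (_ : Group M) (_ : Fintype M), (∀ χ : M → ℂ, Cfsg.IsIrrCharacter M χ → (∃ (H : Subgroup M) (lam : ↥H →* ℂˣ), χ = Cfsg.indFun H (fun h => (lam h : ℂ)))) ∧ ∃ f : G →* M, Function.Injective f := by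
  obtain ⟨M, iG, iF, hM, f, hf⟩ := main (Nat.card G) G rfl hsolv
  exact ⟨M, iG, iF, hM, f, hf⟩

end Cfsg.Agent.S4573
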