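import Mathlib
import Cfsg.Statements.S4580
import Cfsg.Agent.Lib.Helper24.RealExt

set_option autoImplicit false
open Cfsg

namespace Cfsg.Agent.S4580

open Cfsg.Agent.Lib.Helper2 Cfsg.Agent.Lib.Helper24
open scoped ComplexConjugate

/-- Let N be a normal subgroup of the finite group G, M a maximal ideal of the algebraic integers containing 2, and θ a real-valued irreducible character of N of odd degree that extends to G (some irreducible character of G restricts to θ). Then θ has an extension to G lying in the principal 2-block of G. -/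
theorem result {G : Type*} [Group G] [Finite G] (N : Subgroup G) [N.Normal] (M : Ideal Cfsg.AlgInt) (hM : Cfsg.IsPModular 2 M) (θ : Cfsg.IrrCharacter N) (hreal : ∀ n : N, ((θ : N → ℂ) n).im = 0) (hodd : Odd (Cfsg.charDegree (θ : N → ℂ))) (hext : ∃ η : Cfsg.IrrCharacter G, ∀ n : N, (η : G → ℂ) n = (θ : N → ℂ) n) :
    ∃ η : Cfsg.IrrCharacter G, (∀ n : N, (η : G → ℂ) n = (θ : N → ℂ) n) ∧ η ∈ Cfsg.principalBlock M G := by
  classical
  haveI : Fintype G := Fintype.ofFinite G
  obtain ⟨η₀, hη₀⟩ := hext
  obtain ⟨η, hη, hηN, hηreal⟩ := exists_extension_real_on_regular N θ.2 hreal η₀.2 hη₀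
  refine ⟨⟨η, hη⟩, hηN, ?_⟩
  apply mem_principalBlock_of_real_on_regular_odd hM ⟨η, hη⟩ hηreal
  have h1 : Cfsg.charDegree η = Cfsg.charDegree (θ : N → ℂ) := by
    unfold Cfsg.charDegree
    have h2 := hηN 1
    simp only [OneMemClass.coe_one] at h2
    rw [h2]
  show Odd (Cfsg.charDegree η)
  rw [h1]
  exact hodd

end Cfsg.Agent.S4580
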