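import Mathlib
import Cfsg.Statements.S4583
import Cfsg.Agent.Lib.Helper24.SylowOver

set_option autoImplicit false
open Cfsg

namespace Cfsg.Agent.S4583

open Cfsg.Agent.Lib.Helper2 Cfsg.Agent.Lib.Helper24
open scoped ComplexConjugate

/-- Let N be a normal subgroup of the finite group G, p a prime, M a maximal ideal of the algebraic integers containing p, and P a Sylow p-subgroup of G. Let θ be an irreducible character of N of degree prime to p lying in the principal p-block of N, and suppose θ extends to the subgroup NP (some irreducible character of NP restricts to θ). Then some irreducible character χ of G of degree prime to p in the principal p-block of G lies over θ (θ is a constituent of the restriction of χ to N). -/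
theorem result {G : Type*} [Group G] [Finite G] (N : Subgroup G) [N.Normal] (p : ℕ) [Fact p.Prime] (M : Ideal Cfsg.AlgInt) (hM : Cfsg.IsPModular p M) (P : Sylow p G)
    (θ : Cfsg.IrrCharacter N) (hθ : θ ∈ Cfsg.principalBlock M N) (hdeg : ¬ p ∣ Cfsg.charDegree (θ : N → ℂ))
    (hext : ∃ η : Cfsg.IrrCharacter ↥(N ⊔ (P : Subgroup G)), ∀ n : N, (η : ↥(N ⊔ (P : Subgroup G)) → ℂ) (Subgroup.inclusion le_sup_left n) = (θ : N → ℂ) n) :
    ∃ χ : Cfsg.IrrCharacter G, χ ∈ Cfsg.principalBlock M G ∧ ¬ p ∣ Cfsg.charDegree (χ : G → ℂ) ∧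
      haveI := Fintype.ofFinite N; Cfsg.classInner (fun n : N => (χ : G → ℂ) n) (θ : N → ℂ) ≠ 0 := by
  classical
  letI : Fintype G := Fintype.ofFinite G
  letI : Fintype N := Fintype.ofFinite N
  letI : Fintype ↥(N ⊔ (P : Subgroup G)) := Fintype.ofFinite _
  letI : Fintype ↥(N.subgroupOf (N ⊔ (P : Subgroup G))) := Fintype.ofFinite _
  obtain ⟨η, hη⟩ := hext
  have hNH : N ≤ N ⊔ (P : Subgroup G) := le_sup_left
  -- `η` restricted to `N` is `θ`
  have hres : resTo N (N ⊔ (P : Subgroup G)) hNH (η : ↥(N ⊔ (P : Subgroup G)) → ℂ)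
      = (θ : N → ℂ) := by
    funext n
    exact hη n
  have h2 : Cfsg.classInner (resTo N (N ⊔ (P : Subgroup G)) hNH
      (η : ↥(N ⊔ (P : Subgroup G)) → ℂ)) (θ : N → ℂ) ≠ 0 := by
    rw [hres, classInner_irrCharacter_self]
    exact one_ne_zero
  -- `η` lies in the principal block
  have hidx : ∃ k : ℕ, (N.subgroupOf (N ⊔ (P : Subgroup G))).index = p ^ k := by
    have h1 : (N.subgroupOf (N ⊔ (P : Subgroup G))).index = N.relIndex (P : Subgroup G) := by
      rw [← Subgroup.relIndex_sup_left]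
      rfl
    rw [h1]
    show ∃ k : ℕ, (N.subgroupOf (P : Subgroup G)).index = p ^ k
    exact IsPGroup.index P.2 _
  have hθ' : irrMap (Subgroup.subgroupOfEquivOfLe hNH).symm θ
      ∈ Cfsg.principalBlock M ↥(N.subgroupOf (N ⊔ (P : Subgroup G))) :=
    Cfsg.Agent.Lib.Helper25.AlperinDade.principalBlock_irrMap _ θ hθ
  have hover : Cfsg.classInner (fun n : N.subgroupOf (N ⊔ (P : Subgroup G)) =>
      (η : ↥(N ⊔ (P : Subgroup G)) → ℂ) n)
      (irrMap (Subgroup.subgroupOfEquivOfLe hNH).symm θ).1 ≠ 0 := by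
    rw [classInner_toSub]
    exact h2
  have hηB : η ∈ Cfsg.principalBlock M ↥(N ⊔ (P : Subgroup G)) :=
    mem_principalBlock_of_over_pIndex hM (N.subgroupOf (N ⊔ (P : Subgroup G))) hidx _ hθ' η hover
  -- degrees
  have hηdeg : ¬ p ∣ Cfsg.charDegree (η : ↥(N ⊔ (P : Subgroup G)) → ℂ) := by
    have e : Cfsg.charDegree (η : ↥(N ⊔ (P : Subgroup G)) → ℂ)
        = Cfsg.charDegree (θ : N → ℂ) := by
      unfold Cfsg.charDegree
      rw [← hη 1]
      rfl
    rw [e]
    exact hdeg
  obtain ⟨χ, hχB, hχdeg, hχη⟩ := exists_pPrime_constituent_principal hM P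
    (N ⊔ (P : Subgroup G)) le_sup_right η hηB hηdeg
  refine ⟨χ, hχB, hχdeg, ?_⟩
  rw [Cfsg.Agent.Lib.Helper11.classInner_indFun_left _ _ _ (IrrCharacter.isClassFunction χ)]
    at hχη
  have h1 : Cfsg.classInner (fun t : ↥(N ⊔ (P : Subgroup G)) => (χ : G → ℂ) t)
      (η : ↥(N ⊔ (P : Subgroup G)) → ℂ) ≠ 0 := by
    intro h0
    apply hχη
    rw [← classInner_conj_symm, h0, map_zero]
  exact liesOver_trans N (N ⊔ (P : Subgroup G)) hNH χ η θ h1 h2

end Cfsg.Agent.S4583
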