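import Mathlib
import Cfsg.Statements.S4602
import Cfsg.Agent.H5.PSolvable
import Cfsg.Agent.Lib.Helper10.PComponent
import Cfsg.Agent.Lib.Helper1.Cores
import Cfsg.Agent.Lib.Helper1.CoprimeSylow

set_option autoImplicit false
set_option linter.style.haveILetI false
open Cfsg

namespace Cfsg.Agent.S4602

/-- An element whose order divides a power of `p` and a power of `q ≠ p` is trivial. -/
theorem eq_one_of_pow_pow {H : Type*} [Group H] {p q : ℕ} (hp : p.Prime) (hq : q.Prime)
    (hpq : p ≠ q) {c : H} {a b : ℕ} (h1 : c ^ (p ^ a) = 1) (h2 : c ^ (q ^ b) = 1) : c = 1 := by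
  have hd1 : orderOf c ∣ p ^ a := orderOf_dvd_of_pow_eq_one h1
  have hd2 : orderOf c ∣ q ^ b := orderOf_dvd_of_pow_eq_one h2
  have hcop : (p ^ a).Coprime (q ^ b) :=
    Nat.Coprime.pow a b ((Nat.coprime_primes hp hq).2 hpq)
  exact orderOf_eq_one_iff.1 (Nat.eq_one_of_dvd_coprimes hcop hd1 hd2)

/-- Let G be a finite p-solvable group and q a prime different from p. Some Sylow p-subgroup of G normalizes some Sylow q-subgroup of G if and only if q does not divide the order of G/O_{p'}(G), the quotient by the largest normal subgroup of order prime to p. -/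
theorem result {G : Type*} [Group G] [Finite G] (p q : ℕ) [Fact p.Prime] [Fact q.Prime] (hpq : p ≠ q) (hsolv : Cfsg.IsPSolvable p G) :
    (∃ (P : Sylow p G) (Q : Sylow q G), (P : Subgroup G) ≤ Subgroup.normalizer ((Q : Subgroup G) : Set G)) ↔ ¬ q ∣ (Cfsg.pPrimeCore p G).index := by
  classical
  have hp : p.Prime := Fact.out
  have hq : q.Prime := Fact.out
  constructor
  · rintro ⟨P, Q, hPQ⟩
    -- work in the quotient
    have hQsolv : Cfsg.IsPSolvable p (G ⧸ Cfsg.pPrimeCore p G) :=
      Cfsg.H5.isPSolvable_quotient _ hsolv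
    have hQcore : Cfsg.pPrimeCore p (G ⧸ Cfsg.pPrimeCore p G) = ⊥ :=
      Cfsg.Agent.Lib.Helper10.pPrimeCore_quotient_eq_bot p
    have hHH := Cfsg.H5.centralizer_pCore_le_of_isPSolvable hQsolv hQcore
    have hsurj := QuotientGroup.mk'_surjective (Cfsg.pPrimeCore p G)
    have hRP : Cfsg.pCore p (G ⧸ Cfsg.pPrimeCore p G) ≤
        ((P.mapSurjective hsurj : Sylow p (G ⧸ Cfsg.pPrimeCore p G)) :
          Subgroup (G ⧸ Cfsg.pPrimeCore p G)) :=
      Cfsg.Agent.Lib.Helper1.pCore_le_sylow _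
    have hRn : (Cfsg.pCore p (G ⧸ Cfsg.pPrimeCore p G)).Normal := Cfsg.H5.pCore_normal p _
    have hRp : IsPGroup p (Cfsg.pCore p (G ⧸ Cfsg.pPrimeCore p G)) := Cfsg.H5.pCore_isPGroup p _
    have hQK : (Q : Subgroup G) ≤ Cfsg.pPrimeCore p G := by
      intro y hy
      rw [← QuotientGroup.eq_one_iff]
      set ybar : G ⧸ Cfsg.pPrimeCore p G := (y : G ⧸ Cfsg.pPrimeCore p G) with hybar
      -- ybar centralizes the p-core
      have hcent : ybar ∈ Subgroup.centralizer
          (Cfsg.pCore p (G ⧸ Cfsg.pPrimeCore p G) : Set (G ⧸ Cfsg.pPrimeCore p G)) := by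
        rw [Subgroup.mem_centralizer_iff]
        intro x hx
        obtain ⟨x0, hx0P, hx0⟩ := hRP hx
        -- x0 ∈ P normalizes Q
        have hconj : x0 * y * x0⁻¹ ∈ (Q : Subgroup G) := by
          have := hPQ hx0P
          rw [Subgroup.mem_normalizer_iff] at this
          exact (this y).1 hy
        set c : G ⧸ Cfsg.pPrimeCore p G := x * ybar * x⁻¹ * ybar⁻¹ with hc
        have hcR : c ∈ Cfsg.pCore p (G ⧸ Cfsg.pPrimeCore p G) := by
          have h1 : ybar * x⁻¹ * ybar⁻¹ ∈ Cfsg.pCore p (G ⧸ Cfsg.pPrimeCore p G) :=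
            hRn.conj_mem _ (inv_mem hx) ybar
          have h2 : c = x * (ybar * x⁻¹ * ybar⁻¹) := by rw [hc]; group
          rw [h2]
          exact mul_mem hx h1
        have hcQ : ∃ c0 ∈ (Q : Subgroup G), (c0 : G ⧸ Cfsg.pPrimeCore p G) = c := by
          refine ⟨x0 * y * x0⁻¹ * y⁻¹, mul_mem hconj (inv_mem hy), ?_⟩
          rw [hc, ← hx0]
          rfl
        obtain ⟨c0, hc0Q, hc0⟩ := hcQ
        obtain ⟨a, ha⟩ := hRp ⟨c, hcR⟩
        have ha' : c ^ (p ^ a) = 1 := by simpa using congrArg Subtype.val ha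
        obtain ⟨b, hb⟩ := Q.isPGroup' ⟨c0, hc0Q⟩
        have hb' : c0 ^ (q ^ b) = 1 := by simpa using congrArg Subtype.val hb
        have hb'' : c ^ (q ^ b) = 1 := by
          rw [← hc0, ← QuotientGroup.mk_pow, hb']
          rfl
        have hc1 : c = 1 := eq_one_of_pow_pow hp hq hpq ha' hb''
        have h3 : x * ybar = c * (ybar * x) := by rw [hc]; group
        rw [h3, hc1, one_mul]
      have hyR := hHH hcent
      obtain ⟨a, ha⟩ := hRp ⟨ybar, hyR⟩
      have ha' : ybar ^ (p ^ a) = 1 := by simpa using congrArg Subtype.val ha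
      obtain ⟨b, hb⟩ := Q.isPGroup' ⟨y, hy⟩
      have hb' : y ^ (q ^ b) = 1 := by simpa using congrArg Subtype.val hb
      have hb'' : ybar ^ (q ^ b) = 1 := by
        rw [hybar, ← QuotientGroup.mk_pow, hb']
        rfl
      exact eq_one_of_pow_pow hp hq hpq ha' hb''
    intro hdvd
    exact Q.not_dvd_index (dvd_trans hdvd (Subgroup.index_dvd_of_le hQK))
  · intro hq'
    obtain ⟨P⟩ : Nonempty (Sylow p G) := inferInstance
    have hcopK := Cfsg.Agent.Lib.Helper1.pPrimeCore_coprime (G := G) p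
    have hact : Cfsg.Agent.Lib.Helper1.CoprimeAct (P : Subgroup G) (Cfsg.pPrimeCore p G) := by
      refine ⟨?_, ?_, Or.inl ?_⟩
      · rw [Subgroup.normalizer_eq_top]
        exact le_top
      · obtain ⟨k, hk⟩ := (IsPGroup.iff_card).1 P.isPGroup'
        rw [hk]
        exact Nat.Coprime.pow_left k hcopK.symm
      · haveI : Group.IsNilpotent (P : Subgroup G) := P.isPGroup'.isNilpotent
        infer_instance
    obtain ⟨Q0, hQ0⟩ := hact.exists_invariant_sylow q
    have hcard : Nat.card ((Q0 : Subgroup (Cfsg.pPrimeCore p G)).map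
        (Cfsg.pPrimeCore p G).subtype) = q ^ (Nat.card G).factorization q := by
      rw [Subgroup.card_map_of_injective (Subgroup.subtype_injective _),
        Sylow.card_eq_multiplicity Q0]
      congr 1
      rw [← Subgroup.card_mul_index (Cfsg.pPrimeCore p G),
        Nat.factorization_mul Nat.card_pos.ne' Subgroup.index_ne_zero_of_finite]
      simp [Nat.factorization_eq_zero_of_not_dvd hq']
    refine ⟨P, Sylow.ofCard _ hcard, ?_⟩
    rw [Sylow.coe_ofCard]
    exact hQ0

end Cfsg.Agent.S4602
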