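import Cfsg.Statements.S4607
import Cfsg.Agent.Lib.Helper24.GroupAlgBridge
import Cfsg.Agent.Lib.Helper24.GroupAlgProj
import Cfsg.Agent.Lib.Helper24.BlockDegreeSum
import Cfsg.Agent.Lib.Helper24.BrauerFeit
import Cfsg.Agent.Lib.Helper24.Defect
import Cfsg.Agent.Lib.Helper7.DefectOrder

set_option autoImplicit false
open Cfsg

namespace Cfsg.Agent.S4607

open Module Cfsg.Agent.Lib.Helper2 Cfsg.Agent.Lib.Helper7 Cfsg.Agent.Lib.Helper24
open Cfsg.Agent.Lib.Helper24.GroupAlgForm Cfsg.Agent.Lib.Helper24.SymAlg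
open Cfsg.Agent.Lib.Helper24.Bridge

/-- the core divisibility: for a block with two characters, `p^(2a) ∣ 2 ∑ χ(1)²` -/
theorem core_dvd {G : Type*} [Group G] [Fintype G] [Fintype (Cfsg.IrrCharacter G)]
    (p : ℕ) [Fact p.Prime] (M : Ideal Cfsg.AlgInt)
    (hM : Cfsg.IsPModular p M) (B : Set (Cfsg.IrrCharacter G)) [DecidablePred (· ∈ B)]
    (hB : Cfsg.IsPBlock M B) (h2 : Nat.card B ≤ 2) :
    (p ^ (Nat.card G).factorization p) ^ 2 ∣
      2 * ∑ ξ : Cfsg.IrrCharacter G, if ξ ∈ B then Cfsg.charDegree (ξ : G → ℂ) ^ 2 else 0 := by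
  classical
  rw [← finrank_range_mulRight_block hM B hB]
  have hε := redFn_blockCoeff_idem hM B hB
  have hc : ∀ x, redFn hM (Cfsg.blockCoeff B) * x = x * redFn hM (Cfsg.blockCoeff B) :=
    redFn_central hM _ (blockCoeff_isClassFunction B)
  have hZ : finrank (ResF hM) (centerCut (ResF hM) (redFn hM (Cfsg.blockCoeff B))) ≤ 2 :=
    le_trans (finrank_centerCut_le hM B hB) h2
  haveI : CharP (ResF hM) p := ResF.charP hM
  apply sq_dvd_two_mul_finrank_central (coeffOne_isSymmForm (G := G) (K := ResF hM)) hε hc hZ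
  intro e he
  obtain ⟨P⟩ : Nonempty (Sylow p G) := inferInstance
  have h1 := GroupAlgProj.card_dvd_finrank_range_mulRight (p := p) (F := ResF hM)
    (P : Subgroup G) P.isPGroup' e he
  rw [Sylow.card_eq_multiplicity] at h1
  exact h1

/-- Let G be a finite group, p a prime, M a maximal ideal of the algebraic integers containing p, and B a p-block of G with defect group D. Then B contains exactly two irreducible characters if and only if D has order 2. -/
theorem result {G : Type*} [Group G] [Finite G] (p : ℕ) [Fact p.Prime] (M : Ideal Cfsg.AlgInt) (hM : Cfsg.IsPModular p M) (B : Set (Cfsg.IrrCharacter G)) (hB : Cfsg.IsPBlock M B) (D : Subgroup G) (hD : Cfsg.IsDefectGroup p M B D) : Nat.card B = 2 ↔ Nat.card D = 2 := by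
  classical
  haveI : Fintype G := Fintype.ofFinite G
  haveI : Fintype (Cfsg.IrrCharacter G) := Fintype.ofFinite _
  have hp : p.Prime := Fact.out
  have hcardD := card_of_isDefectGroup hM B hB D hD
  have hBF := brauer_feit hM B hB
  have hfac := factorization_sum_sq hM B hB
  obtain ⟨a, ha⟩ : ∃ a, a = (Nat.card G).factorization p := ⟨_, rfl⟩
  obtain ⟨d, hd⟩ : ∃ d, d = Cfsg.blockDefect p B := ⟨_, rfl⟩
  obtain ⟨S, hS⟩ : ∃ S, S = ∑ ξ : Cfsg.IrrCharacter G,
      if ξ ∈ B then Cfsg.charDegree (ξ : G → ℂ) ^ 2 else 0 := ⟨_, rfl⟩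
  rw [← ha, ← hd, ← hS] at hfac
  rw [← hd] at hcardD hBF
  have hda : d ≤ a := by
    rw [hd, ha]
    unfold Cfsg.blockDefect
    exact Nat.sub_le _ _
  obtain ⟨χ₀, hχ₀⟩ := isPBlock_nonempty hM hB
  have hS0 : S ≠ 0 := by
    rw [hS]
    intro h0
    have h1 := (Finset.sum_eq_zero_iff.mp h0) χ₀ (Finset.mem_univ _)
    rw [if_pos hχ₀] at h1
    exact charDegree_ne_zero χ₀ (by simpa using h1)
  have hBne : Nat.card B ≠ 0 := by
    intro h0
    haveI hfin : Finite B := Subtype.finite
    rw [Nat.card_eq_zero] at h0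
    rcases h0 with h0 | h0
    · exact h0.false ⟨χ₀, hχ₀⟩
    · exact not_finite B
  constructor
  · intro hk
    have hcore := core_dvd p M hM B hB (le_of_eq hk)
    rw [← ha, ← hS, ← pow_mul] at hcore
    -- valuation
    have h2S : 2 * S ≠ 0 := by omega
    have h1 : a * 2 ≤ (2 * S).factorization p :=
      (hp.pow_dvd_iff_le_factorization h2S).mp hcore
    rw [Nat.factorization_mul (by norm_num) hS0, Finsupp.add_apply, hfac] at h1
    have hd2 : d ≤ (2 : ℕ).factorization p := by omega
    have hd0 : d ≠ 0 := by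
      intro h0
      rw [h0, hk] at hBF
      norm_num at hBF
    by_cases hp2 : p = 2
    · subst hp2
      have h3 : (2 : ℕ).factorization 2 = 1 := Nat.prime_two.factorization_self
      rw [h3] at hd2
      have hd1 : d = 1 := by omega
      rw [hcardD, hd1, pow_one]
    · have h3 : (2 : ℕ).factorization p = 0 := by
        apply Nat.factorization_eq_zero_of_not_dvd
        intro hdvd
        exact hp2 ((Nat.prime_dvd_prime_iff_eq hp Nat.prime_two).mp hdvd)
      rw [h3] at hd2
      omega
  · intro hD2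
    rw [hcardD] at hD2
    have hp2 : p = 2 := by
      have hd0 : d ≠ 0 := by
        intro h0
        rw [h0, pow_zero] at hD2
        omega
      have hdvd : p ∣ 2 := by
        rw [← hD2]
        exact dvd_pow_self p hd0
      exact (Nat.prime_dvd_prime_iff_eq hp Nat.prime_two).mp hdvd
    subst hp2
    have hd1 : d = 1 := by
      have : (2 : ℕ) ^ d = 2 ^ 1 := by rw [hD2, pow_one]
      exact Nat.pow_right_injective (le_refl 2) this
    rw [hd1] at hBF
    have hk2 : Nat.card B ≤ 2 := by omega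
    have hk1 : Nat.card B ≠ 1 := by
      intro h1
      haveI : Finite B := Subtype.finite
      obtain ⟨x, hx⟩ := (Nat.card_eq_one_iff_exists.mp h1)
      have hBx : ∀ ξ : Cfsg.IrrCharacter G, ξ ∈ B ↔ ξ = (x : Cfsg.IrrCharacter G) := by
        intro ξ
        constructor
        · intro hξ
          exact congrArg Subtype.val (hx ⟨ξ, hξ⟩)
        · rintro rfl
          exact x.2
      have hSx : S = Cfsg.charDegree ((x : Cfsg.IrrCharacter G) : G → ℂ) ^ 2 := by
        rw [hS]
        have : ∀ ξ : Cfsg.IrrCharacter G,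
            (if ξ ∈ B then Cfsg.charDegree (ξ : G → ℂ) ^ 2 else 0)
            = if ξ = (x : Cfsg.IrrCharacter G) then
                Cfsg.charDegree ((x : Cfsg.IrrCharacter G) : G → ℂ) ^ 2 else 0 := by
          intro ξ
          by_cases h : ξ = (x : Cfsg.IrrCharacter G)
          · rw [if_pos ((hBx ξ).mpr h), if_pos h, h]
          · rw [if_neg (fun h' => h ((hBx ξ).mp h')), if_neg h]
        rw [Finset.sum_congr rfl (fun ξ _ => this ξ), Finset.sum_ite_eq' Finset.univ]
        simp
      rw [hSx, Nat.factorization_pow, Finsupp.smul_apply, hd1, smul_eq_mul] at hfac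
      omega
    omega

end Cfsg.Agent.S4607
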