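import Mathlib
import Cfsg.Statements.S4611
import Cfsg.Agent.Lib.Helper25.PSolv
import Cfsg.Agent.S4762

set_option autoImplicit false
set_option linter.style.haveILetI false
open Cfsg

namespace Cfsg.Agent.S4611

open Cfsg.Agent.Lib.Helper25

/-- Let G be a finite solvable group and π a nonempty set of primes, each dividing the order of G; fix for each p in π a maximal ideal M p of the algebraic integers containing p. Then the only irreducible character lying in the principal p-block for every p in π is the principal character if and only if G is generated by the subgroups O_{p'}(G), p in π (the largest normal subgroups of order prime to p). -/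
theorem result {G : Type*} [Group G] [Finite G] [Group.IsSolvable G] (π : Set ℕ) (hπ : ∀ p ∈ π, p.Prime ∧ p ∣ Nat.card G) (hne : π.Nonempty) (M : ℕ → Ideal Cfsg.AlgInt) (hM : ∀ p ∈ π, Cfsg.IsPModular p (M p)) :
    (∀ χ : Cfsg.IrrCharacter G, (∀ p ∈ π, χ ∈ Cfsg.principalBlock (M p) G) → (χ : G → ℂ) = fun _ => 1) ↔
      ⨆ p ∈ π, Cfsg.pPrimeCore p G = ⊤ := by
  classical
  haveI := Fintype.ofFinite G
  have hmem : ∀ p ∈ π, ∀ χ : Cfsg.IrrCharacter G, χ ∈ Cfsg.principalBlock (M p) G ↔
      ∀ n ∈ Cfsg.pPrimeCore p G, (χ : G → ℂ) n = (χ : G → ℂ) 1 := by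
    intro p hp χ
    haveI : Fact p.Prime := ⟨(hπ p hp).1⟩
    exact mem_principalBlock_iff_of_isPSolvable (hM p hp)
      (isPSolvable_of_isSolvable p inferInstance) χ
  constructor
  · intro h
    by_contra hK
    set K : Subgroup G := ⨆ p ∈ π, Cfsg.pPrimeCore p G with hKdef
    have hKn : K.Normal := by
      rw [hKdef]
      exact Subgroup.biSup_normal π (fun p => Cfsg.pPrimeCore p G) (fun p _ => inferInstance)
    haveI := hKn
    -- a nontrivial irreducible character of the quotient
    have hex : ∃ ψ : Cfsg.IrrCharacter (G ⧸ K), ψ ≠ irrOne (G ⧸ K) := by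
      by_contra hall
      push Not at hall
      have h1 := Cfsg.Agent.S4762.subsingleton_of_irr_subsingleton (K := G ⧸ K)
        (fun β β' => (hall β).trans (hall β').symm)
      apply hK
      rw [eq_top_iff]
      intro g _
      rw [← QuotientGroup.eq_one_iff]
      exact h1 _
    obtain ⟨ψ, hψ⟩ := hex
    have h2 := h (inflIrr K ψ) (by
      intro p hp
      rw [hmem p hp]
      intro n hn
      have hnK : n ∈ K := by
        have hle : Cfsg.pPrimeCore p G ≤ K := by
          rw [hKdef]
          exact le_iSup₂ (f := fun p (_ : p ∈ π) => Cfsg.pPrimeCore p G) p hp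
        exact hle hn
      rw [inflIrr_apply, inflIrr_apply, QuotientGroup.mk_one, (QuotientGroup.eq_one_iff n).2 hnK])
    apply hψ
    apply Subtype.ext
    funext x
    obtain ⟨g, rfl⟩ := QuotientGroup.mk_surjective x
    have := congrFun h2 g
    rw [inflIrr_apply] at this
    exact this
  · intro hK χ hχ
    obtain ⟨Kχ, hKn, hKmem⟩ := exists_kernel (isCharacter_of_irr χ.2)
    have hle : (⨆ p ∈ π, Cfsg.pPrimeCore p G) ≤ Kχ := by
      apply iSup₂_le
      intro p hp n hn
      rw [hKmem]
      exact (hmem p hp χ).1 (hχ p hp) n hn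
    rw [hK, top_le_iff] at hle
    have hconst : ∀ g : G, (χ : G → ℂ) g = (χ : G → ℂ) 1 := by
      intro g
      rw [← hKmem, hle]
      trivial
    have hinner := irr_classInner χ.2 (isIrrCharacter_one (G := G))
    by_contra hne1
    rw [if_neg hne1] at hinner
    unfold Cfsg.classInner at hinner
    have hsum : ∑ g : G, (χ : G → ℂ) g * (starRingEnd ℂ) ((fun _ : G => (1 : ℂ)) g) =
        (Nat.card G : ℂ) * (χ : G → ℂ) 1 := by
      simp only [map_one, mul_one]
      rw [Finset.sum_congr rfl (fun g _ => hconst g), Finset.sum_const, Finset.card_univ,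
        nsmul_eq_mul, Nat.card_eq_fintype_card]
    rw [hsum] at hinner
    have hcard : (Nat.card G : ℂ) ≠ 0 := by exact_mod_cast Nat.card_pos.ne'
    have h1 := irr_one_ne_zero χ.2
    field_simp at hinner
    exact h1 hinner

end Cfsg.Agent.S4611
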