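import Cfsg.Statements.S4619

set_option autoImplicit false
open Cfsg

namespace Cfsg.Agent.S4619

open scoped Pointwise

theorem mem_conj_smul {G : Type*} [Group G] (H : Subgroup G) (g x : G) :
    x ∈ MulAut.conj g • H ↔ g⁻¹ * x * g ∈ H := by
  rw [Subgroup.mem_pointwise_smul_iff_inv_smul_mem]
  simp [MulAut.smul_def, MulAut.conj_apply]

theorem result {G : Type*} [Group G] [Finite G] (p : ℕ) [Fact p.Prime] (P : Sylow p G) (hTI : (∀ g : G, g ∉ Subgroup.normalizer ((P : Subgroup G) : Set G) → (P : Subgroup G) ⊓ (MulAut.conj g • (P : Subgroup G)) = ⊥)) (Q : Subgroup G) (hQ : Q ≤ (P : Subgroup G)) (hQ1 : Q ≠ ⊥) :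
    Subgroup.normalizer (Q : Set G) ≤ Subgroup.normalizer ((P : Subgroup G) : Set G) ∧
      ∀ g : G, MulAut.conj g • Q ≤ (P : Subgroup G) → g ∈ Subgroup.normalizer ((P : Subgroup G) : Set G) := by
  have key : ∀ g : G, MulAut.conj g • Q ≤ (P : Subgroup G) →
      g ∈ Subgroup.normalizer ((P : Subgroup G) : Set G) := by
    intro g hg
    by_contra hn
    have hn' : g⁻¹ ∉ Subgroup.normalizer ((P : Subgroup G) : Set G) := fun h =>
      hn (by simpa using Subgroup.inv_mem _ h)
    have h1 := hTI g⁻¹ hn'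
    apply hQ1
    rw [eq_bot_iff]
    intro x hx
    have hx2 : x ∈ (P : Subgroup G) ⊓ (MulAut.conj g⁻¹ • (P : Subgroup G)) := by
      refine ⟨hQ hx, ?_⟩
      show x ∈ MulAut.conj g⁻¹ • (P : Subgroup G)
      rw [mem_conj_smul, inv_inv]
      apply hg
      rw [mem_conj_smul]
      have : g⁻¹ * (g * x * g⁻¹) * g = x := by group
      rw [this]
      exact hx
    rw [h1] at hx2
    exact hx2
  refine ⟨fun g hg => key g ?_, key⟩
  intro x hx
  rw [mem_conj_smul] at hx
  have := (Subgroup.mem_normalizer_iff''.mp hg x).mpr hx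
  exact hQ this

end Cfsg.Agent.S4619
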