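import Mathlib
import Cfsg.Statements.S4620
import Cfsg.Agent.Lib.Helper1.Cores
import Cfsg.Agent.Lib.Helper17.Subnormal
import Cfsg.Agent.Lib.Helper17.StrongPEmb
import Cfsg.Agent.Lib.Helper17.WeaklyClosed
import Cfsg.Agent.Lib.Helper17.NormFix
import Cfsg.Agent.Lib.Helper17.ZStarMin

set_option autoImplicit false
open scoped Pointwise
open Cfsg

namespace Cfsg.Agent.S4620

open Cfsg.Agent.Lib.Helper17

section aux

variable {H : Type*} [Group H] {p : ℕ}

/-- elementwise form of the TI hypothesis for `P` -/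
theorem ti_elt (P : Sylow p H)
    (hTI : ∀ g : H, g ∉ Subgroup.normalizer ((P : Subgroup H) : Set H) →
      (P : Subgroup H) ⊓ (MulAut.conj g • (P : Subgroup H)) = ⊥)
    (g x : H) (hx : x ∈ (P : Subgroup H)) (hx1 : x ≠ 1) (hgx : g * x * g⁻¹ ∈ (P : Subgroup H)) :
    g ∈ Subgroup.normalizer ((P : Subgroup H) : Set H) := by
  by_contra hg
  have hg' : g⁻¹ ∉ Subgroup.normalizer ((P : Subgroup H) : Set H) := by
    intro h
    apply hg
    have := Subgroup.inv_mem _ h
    rwa [inv_inv] at this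
  have h1 := hTI g⁻¹ hg'
  have h2 : x ∈ MulAut.conj g⁻¹ • (P : Subgroup H) := by
    rw [Subgroup.mem_pointwise_smul_iff_inv_smul_mem]
    have : (MulAut.conj g⁻¹)⁻¹ • x = g * x * g⁻¹ := by
      rw [← map_inv, inv_inv, MulAut.smul_def, MulAut.conj_apply]
    rw [this]; exact hgx
  have h3 : x ∈ (P : Subgroup H) ⊓ (MulAut.conj g⁻¹ • (P : Subgroup H)) :=
    Subgroup.mem_inf.mpr ⟨hx, h2⟩
  rw [h1, Subgroup.mem_bot] at h3
  exact hx1 h3

theorem isPGroup_zpowers_of_orderOf {x : H} (hx : orderOf x = p) :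
    IsPGroup p (Subgroup.zpowers x) := by
  apply IsPGroup.of_card (n := 1)
  rw [Nat.card_zpowers, hx, pow_one]

variable [Finite H] [Fact p.Prime]

/-- the TI property for every Sylow `p`-subgroup -/
theorem ti_all (P : Sylow p H)
    (hTI : ∀ g : H, g ∉ Subgroup.normalizer ((P : Subgroup H) : Set H) →
      (P : Subgroup H) ⊓ (MulAut.conj g • (P : Subgroup H)) = ⊥)
    (P' : Sylow p H) (g x : H) (hx : x ∈ (P' : Subgroup H)) (hx1 : x ≠ 1)
    (hgx : g * x * g⁻¹ ∈ (P' : Subgroup H)) :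
    g ∈ Subgroup.normalizer ((P' : Subgroup H) : Set H) := by
  obtain ⟨h, rfl⟩ := MulAction.exists_smul_eq H P P'
  rw [mem_smul_sylow] at hx hgx
  have hy1 : h⁻¹ * x * h ≠ 1 := by
    intro e
    apply hx1
    have : x = h * (h⁻¹ * x * h) * h⁻¹ := by group
    rw [this, e]; group
  have hk : (h⁻¹ * g * h) * (h⁻¹ * x * h) * (h⁻¹ * g * h)⁻¹ ∈ (P : Subgroup H) := by
    have : (h⁻¹ * g * h) * (h⁻¹ * x * h) * (h⁻¹ * g * h)⁻¹ = h⁻¹ * (g * x * g⁻¹) * h := by group
    rw [this]; exact hgx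
  have hn := ti_elt P hTI _ _ hx hy1 hk
  rw [Subgroup.mem_normalizer_iff] at hn ⊢
  intro y
  rw [mem_smul_sylow, mem_smul_sylow]
  have e1 := hn (h⁻¹ * y * h)
  have : (h⁻¹ * g * h) * (h⁻¹ * y * h) * (h⁻¹ * g * h)⁻¹ = h⁻¹ * (g * y * g⁻¹) * h := by group
  rw [this] at e1
  exact e1

theorem eq_bot_of_subnormal_pgroup (hOp : pCore p H = ⊥) {A : Subgroup H}
    (hA : A.IsSubnormal) (hAp : IsPGroup p A) : A = ⊥ := by
  obtain ⟨R, hRn, hRp, hAR⟩ := exists_normal_pgroup_ge_of_isSubnormal hA hAp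
  have := Cfsg.Agent.Lib.Helper1.le_pCore hRn hRp
  rw [hOp] at this
  exact le_bot_iff.mp (hAR.trans this)

/-- commuting subgroups of order divisible by `p` in a group with TI Sylow `p`-subgroups -/
theorem exists_normal_pgroup_of_commute (P : Sylow p H)
    (hTI : ∀ g : H, g ∉ Subgroup.normalizer ((P : Subgroup H) : Set H) →
      (P : Subgroup H) ⊓ (MulAut.conj g • (P : Subgroup H)) = ⊥)
    {X Y : Subgroup H} (hcomm : ∀ x ∈ X, ∀ y ∈ Y, x * y = y * x)
    (hX : p ∣ Nat.card X) (hY : p ∣ Nat.card Y) :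
    ∃ A : Subgroup H, A ≤ X ∧ A ≠ ⊥ ∧ IsPGroup p A ∧ X ≤ Subgroup.normalizer (A : Set H) := by
  obtain ⟨y, hy⟩ := exists_prime_orderOf_dvd_card' p hY
  obtain ⟨z, hz⟩ := exists_prime_orderOf_dvd_card' p hX
  have hy' : orderOf (y : H) = p := by rw [Subgroup.orderOf_coe]; exact hy
  have hz' : orderOf (z : H) = p := by rw [Subgroup.orderOf_coe]; exact hz
  obtain ⟨P', hP'⟩ := (isPGroup_zpowers_of_orderOf hy').exists_le_sylow
  have hyP' : (y : H) ∈ (P' : Subgroup H) := hP' (Subgroup.mem_zpowers _)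
  have hy1 : (y : H) ≠ 1 := by
    intro e
    rw [e, orderOf_one] at hy'
    exact (Fact.out : p.Prime).one_lt.ne hy'
  have hz1 : (z : H) ≠ 1 := by
    intro e
    rw [e, orderOf_one] at hz'
    exact (Fact.out : p.Prime).one_lt.ne hz'
  have hXN : X ≤ Subgroup.normalizer ((P' : Subgroup H) : Set H) := by
    intro x hx
    apply ti_all P hTI P' x y hyP' hy1
    have : x * (y : H) * x⁻¹ = y := by rw [hcomm x hx y y.2]; group
    rw [this]; exact hyP'
  have hzP' : (z : H) ∈ (P' : Subgroup H) := by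
    have h1 := (isPGroup_zpowers_of_orderOf hz').inf_normalizer_sylow P'
    have h2 : (z : H) ∈ Subgroup.zpowers (z : H) ⊓
        Subgroup.normalizer ((P' : Subgroup H) : Set H) :=
      Subgroup.mem_inf.mpr ⟨Subgroup.mem_zpowers _, hXN z.2⟩
    have h3 := h1.le h2
    exact (Subgroup.mem_inf.mp h3).2
  refine ⟨(P' : Subgroup H) ⊓ X, inf_le_right, ?_, P'.2.to_inf_left, ?_⟩
  · intro h
    have : (z : H) ∈ (P' : Subgroup H) ⊓ X := Subgroup.mem_inf.mpr ⟨hzP', z.2⟩
    rw [h, Subgroup.mem_bot] at this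
    exact hz1 this
  · apply le_normalizer_of_conj_mem
    intro e he v hv
    obtain ⟨hv1, hv2⟩ := Subgroup.mem_inf.mp hv
    refine Subgroup.mem_inf.mpr ⟨?_, X.mul_mem (X.mul_mem he hv2) (X.inv_mem he)⟩
    exact (Subgroup.mem_normalizer_iff.mp (hXN he) v).mp hv1

end aux

/-- Let H be a finite group with no nontrivial normal p-subgroup and no nontrivial normal subgroup of order prime to p, whose Sylow p-subgroup P is nontrivial and a trivial-intersection set (P meets its conjugates by elements outside N_H(P) trivially). Then H has a unique minimal normal subgroup N; N is non-abelian simple with trivial centralizer in H (so H embeds in Aut(N)), and a Sylow p-subgroup of N is again a nontrivial trivial-intersection set in N. -/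
theorem result {H : Type*} [Group H] [Finite H] (p : ℕ) [Fact p.Prime] (hOp : Cfsg.pCore p H = ⊥) (hOp' : Cfsg.pPrimeCore p H = ⊥) (P : Sylow p H) (hP1 : (P : Subgroup H) ≠ ⊥)
    (hTI : ∀ g : H, g ∉ Subgroup.normalizer ((P : Subgroup H) : Set H) → (P : Subgroup H) ⊓ (MulAut.conj g • (P : Subgroup H)) = ⊥) :
    ∃ N : Subgroup H, N.Normal ∧ N ≠ ⊥ ∧ (∀ K : Subgroup H, K.Normal → K ≠ ⊥ → N ≤ K) ∧
      IsSimpleGroup N ∧ ¬ IsMulCommutative N ∧ Subgroup.centralizer (N : Set H) = ⊥ ∧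
      ∀ Q : Sylow p N, (Q : Subgroup N) ≠ ⊥ ∧
        ∀ n : N, n ∉ Subgroup.normalizer ((Q : Subgroup N) : Set N) → (Q : Subgroup N) ⊓ (MulAut.conj n • (Q : Subgroup N)) = ⊥ := by
  classical
  have hti := ti_all P hTI
  have hsub : ∀ A : Subgroup H, A.IsSubnormal → IsPGroup p A → A = ⊥ :=
    fun A hA hAp => eq_bot_of_subnormal_pgroup hOp hA hAp
  have hdiv : ∀ K N : Subgroup H, N.Normal → K ≤ N → N ≤ Subgroup.normalizer (K : Set H) →
      K ≠ ⊥ → p ∣ Nat.card K := by
    intro K N hN hKN hNK hK1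
    by_contra hnd
    have hcop : (Nat.card K).Coprime p :=
      ((Nat.Prime.coprime_iff_not_dvd (Fact.out : p.Prime)).mpr hnd).symm
    have := hN
    have h1 := le_pPrimeCore_of_le_normal hKN hNK hcop
    rw [hOp'] at h1
    exact hK1 (le_bot_iff.mp h1)
  -- a minimal normal subgroup
  let T : Set (Subgroup H) := {K | K.Normal ∧ K ≠ ⊥}
  have hTne : T.Nonempty :=
    ⟨⊤, inferInstance, fun h => hP1 (le_bot_iff.mp (h ▸ (le_top : (P : Subgroup H) ≤ ⊤)))⟩
  obtain ⟨N, hNT, hNmin⟩ := (Set.toFinite T).exists_minimal hTne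
  obtain ⟨hNn, hN1⟩ := hNT
  have hNdiv : p ∣ Nat.card N := hdiv N N hNn le_rfl Subgroup.le_normalizer hN1
  -- `N` is not commutative
  have hNnc : ¬ (∀ x ∈ N, ∀ y ∈ N, x * y = y * x) := by
    intro hc
    obtain ⟨A, hAN, hA1, hAp, hNA⟩ := exists_normal_pgroup_of_commute P hTI hc hNdiv hNdiv
    apply hA1
    apply hsub A _ hAp
    exact Subgroup.IsSubnormal.trans hAN
      ((Subgroup.normal_subgroupOf_iff_le_normalizer hAN).mpr hNA).isSubnormal hNn.isSubnormal
  -- uniqueness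
  have hNuniq : ∀ K : Subgroup H, K.Normal → K ≠ ⊥ → N ≤ K := by
    intro K hKn hK1
    by_contra hNK
    have hinf : N ⊓ K = ⊥ := by
      by_contra hne
      have hn : (N ⊓ K).Normal := Subgroup.normal_inf_normal N K
      have h1 : N ⊓ K ∈ T := ⟨hn, hne⟩
      exact hNK ((hNmin h1 inf_le_left).trans inf_le_right)
    have hcomm : ∀ x ∈ N, ∀ y ∈ K, x * y = y * x := fun x hx y hy =>
      Subgroup.commute_of_normal_of_disjoint N K hNn hKn (disjoint_iff.mpr hinf) x y hx hy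
    have hKdiv : p ∣ Nat.card K := hdiv K K hKn le_rfl Subgroup.le_normalizer hK1
    obtain ⟨A, hAN, hA1, hAp, hNA⟩ := exists_normal_pgroup_of_commute P hTI hcomm hNdiv hKdiv
    apply hA1
    exact hsub A (Subgroup.IsSubnormal.trans hAN
      ((Subgroup.normal_subgroupOf_iff_le_normalizer hAN).mpr hNA).isSubnormal hNn.isSubnormal) hAp
  -- simplicity: minimal `N`-invariant subgroups of `N`
  let T₂ : Set (Subgroup H) :=
    {K | K ≤ N ∧ N ≤ Subgroup.normalizer (K : Set H) ∧ K ≠ ⊥}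
  have hT₂ne : T₂.Nonempty := ⟨N, le_rfl, Subgroup.le_normalizer, hN1⟩
  obtain ⟨K₀, hK₀T, hK₀min⟩ := (Set.toFinite T₂).exists_minimal hT₂ne
  obtain ⟨hK₀N, hNK₀, hK₀1⟩ := hK₀T
  have hK₀eq : K₀ = N := by
    by_contra hne
    have hnn : ¬ K₀.Normal := fun hK₀n => hne (le_antisymm hK₀N (hNuniq K₀ hK₀n hK₀1))
    have hex : ∃ h : H, h ∉ Subgroup.normalizer (K₀ : Set H) := by
      by_contra hall
      simp only [not_exists, not_not] at hall
      exact hnn (Subgroup.normalizer_eq_top_iff.mp (eq_top_iff.mpr fun x _ => hall x))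
    obtain ⟨h, hh⟩ := hex
    have hK₁N : K₀.map (MulAut.conj h).toMonoidHom ≤ N := by
      intro x hx
      rw [mem_map_conj] at hx
      have h1 := hNn.conj_mem _ (hK₀N hx) h
      have : h * (h⁻¹ * x * h) * h⁻¹ = x := by group
      rwa [this] at h1
    have hNK₁ : N ≤ Subgroup.normalizer
        ((K₀.map (MulAut.conj h).toMonoidHom : Subgroup H) : Set H) := by
      intro n hn
      rw [normalizer_map_conj', mem_map_conj]
      apply hNK₀
      have h1 := hNn.conj_mem _ hn h⁻¹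
      rwa [inv_inv] at h1
    have hK₁1 : K₀.map (MulAut.conj h).toMonoidHom ≠ ⊥ := by
      intro e
      exact hK₀1 ((Subgroup.map_eq_bot_iff_of_injective K₀ (MulAut.conj h).injective).mp e)
    have hinf : K₀ ⊓ K₀.map (MulAut.conj h).toMonoidHom = ⊥ := by
      by_contra hne2
      have h1 : K₀ ⊓ K₀.map (MulAut.conj h).toMonoidHom ∈ T₂ :=
        ⟨inf_le_left.trans hK₀N, fun n hn => mem_normalizer_inf (hNK₀ hn) (hNK₁ hn), hne2⟩
      have h2 : K₀ ≤ K₀.map (MulAut.conj h).toMonoidHom := (hK₀min h1 inf_le_left).trans inf_le_right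
      have h3 : K₀ = K₀.map (MulAut.conj h).toMonoidHom :=
        Subgroup.eq_of_le_of_card_ge h2 (by rw [card_map_conj])
      exact hh (mem_normalizer_of_map_conj_eq h3.symm)
    have hcomm : ∀ x ∈ K₀.map (MulAut.conj h).toMonoidHom, ∀ y ∈ K₀, x * y = y * x := by
      intro x hx y hy
      have hx' : x * y * x⁻¹ ∈ K₀ :=
        (Subgroup.mem_normalizer_iff.mp (hNK₀ (hK₁N hx)) y).mp hy
      have hy' : y * x⁻¹ * y⁻¹ ∈ K₀.map (MulAut.conj h).toMonoidHom :=
        (Subgroup.mem_normalizer_iff.mp (hNK₁ (hK₀N hy)) x⁻¹).mp (Subgroup.inv_mem _ hx)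
      have hc : x * y * x⁻¹ * y⁻¹ ∈ K₀ ⊓ K₀.map (MulAut.conj h).toMonoidHom := by
        refine Subgroup.mem_inf.mpr ⟨K₀.mul_mem hx' (K₀.inv_mem hy), ?_⟩
        have h1 := Subgroup.mul_mem _ hx hy'
        have : x * (y * x⁻¹ * y⁻¹) = x * y * x⁻¹ * y⁻¹ := by group
        rwa [this] at h1
      rw [hinf, Subgroup.mem_bot] at hc
      calc x * y = (x * y * x⁻¹ * y⁻¹) * (y * x) := by group
        _ = y * x := by rw [hc, one_mul]
    have hK₀div : p ∣ Nat.card K₀ := hdiv K₀ N hNn hK₀N hNK₀ hK₀1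
    have hK₁div : p ∣ Nat.card (K₀.map (MulAut.conj h).toMonoidHom) := by
      rw [card_map_conj]; exact hK₀div
    obtain ⟨A, hAK, hA1, hAp, hKA⟩ :=
      exists_normal_pgroup_of_commute P hTI hcomm hK₁div hK₀div
    apply hA1
    have hK₁sn : (K₀.map (MulAut.conj h).toMonoidHom).IsSubnormal :=
      Subgroup.IsSubnormal.trans hK₁N
        ((Subgroup.normal_subgroupOf_iff_le_normalizer hK₁N).mpr hNK₁).isSubnormal hNn.isSubnormal
    exact hsub A (Subgroup.IsSubnormal.trans hAK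
      ((Subgroup.normal_subgroupOf_iff_le_normalizer hAK).mpr hKA).isSubnormal hK₁sn) hAp
  have hNnt : Nontrivial ↥N := (Subgroup.nontrivial_iff_ne_bot N).mpr hN1
  have hsimple : IsSimpleGroup ↥N := by
    refine { toNontrivial := hNnt, eq_bot_or_eq_top_of_normal := fun K' hK' => ?_ }
    by_cases hK'1 : K' = ⊥
    · exact Or.inl hK'1
    · right
      have h1 : K'.map N.subtype ∈ T₂ := by
        refine ⟨Subgroup.map_subtype_le K', ?_, ?_⟩
        · have h2 := Subgroup.le_normalizer_map (H := K') N.subtype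
          rw [Subgroup.normalizer_eq_top_iff.mpr hK', ← MonoidHom.range_eq_map,
            Subgroup.range_subtype] at h2
          exact h2
        · intro e
          exact hK'1 ((Subgroup.map_eq_bot_iff_of_injective K' N.subtype_injective).mp e)
      have h2 : K₀ ≤ K'.map N.subtype := hK₀min h1 (by rw [hK₀eq]; exact Subgroup.map_subtype_le K')
      rw [eq_top_iff]
      intro n _
      have hn' : (n : H) ∈ K₀ := by rw [hK₀eq]; exact n.2
      obtain ⟨k, hk, hkn⟩ := h2 hn'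
      have : k = n := Subtype.ext hkn
      rwa [this] at hk
  have hnc : ¬ IsMulCommutative ↥N := by
    intro hc
    apply hNnc
    intro x hx y hy
    have := hc.is_comm.comm (⟨x, hx⟩ : ↥N) ⟨y, hy⟩
    exact congrArg Subtype.val this
  have hcent : Subgroup.centralizer (N : Set H) = ⊥ := by
    by_contra hC
    have := hNn
    have hCn : (Subgroup.centralizer (N : Set H)).Normal := Subgroup.normal_centralizer
    have hNC := hNuniq _ hCn hC
    apply hNnc
    intro x hx y hy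
    exact Subgroup.mem_centralizer_iff.mp (hNC hy) x hx
  refine ⟨N, hNn, hN1, hNuniq, hsimple, hnc, hcent, ?_⟩
  intro Q
  have hQ1 : (Q : Subgroup ↥N) ≠ ⊥ := Q.ne_bot_of_dvd_card hNdiv
  refine ⟨hQ1, ?_⟩
  intro n hn
  by_contra hne
  obtain ⟨⟨x, hx⟩, hx1⟩ := Subgroup.ne_bot_iff_exists_ne_one.mp hne
  have hx1' : x ≠ 1 := fun e => hx1 (Subtype.ext e)
  obtain ⟨hxQ, hxnQ⟩ := Subgroup.mem_inf.mp hx
  rw [Subgroup.mem_pointwise_smul_iff_inv_smul_mem] at hxnQ
  have hconj : (MulAut.conj n)⁻¹ • x = n⁻¹ * x * n := by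
    rw [← map_inv, MulAut.smul_def, MulAut.conj_apply, inv_inv]
  rw [hconj] at hxnQ
  obtain ⟨P', hP'⟩ := (Q.2.map N.subtype).exists_le_sylow
  have hyP' : ((n⁻¹ * x * n : ↥N) : H) ∈ (P' : Subgroup H) :=
    hP' (Subgroup.mem_map_of_mem N.subtype hxnQ)
  have hxP' : (x : H) ∈ (P' : Subgroup H) := hP' (Subgroup.mem_map_of_mem N.subtype hxQ)
  have hy1 : ((n⁻¹ * x * n : ↥N) : H) ≠ 1 := by
    intro e
    apply hx1'
    have e' : n⁻¹ * x * n = 1 := Subtype.ext e
    have : x = n * (n⁻¹ * x * n) * n⁻¹ := by group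
    rw [this, e']; group
  have hnP' : (n : H) ∈ Subgroup.normalizer ((P' : Subgroup H) : Set H) := by
    apply hti P' (n : H) _ hyP' hy1
    have : (n : H) * ((n⁻¹ * x * n : ↥N) : H) * (n : H)⁻¹ = (x : H) := by
      push_cast; group
    rw [this]; exact hxP'
  apply hn
  have hDp : IsPGroup p ↥(((P' : Subgroup H) ⊓ N).subgroupOf N) := (P'.2.to_inf_left).comap_subtype
  have hQD : (Q : Subgroup ↥N) ≤ ((P' : Subgroup H) ⊓ N).subgroupOf N := by
    intro q hq
    rw [Subgroup.mem_subgroupOf]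
    exact Subgroup.mem_inf.mpr ⟨hP' (Subgroup.mem_map_of_mem N.subtype hq), q.2⟩
  have hDQ : ((P' : Subgroup H) ⊓ N).subgroupOf N = (Q : Subgroup ↥N) := Q.3 hDp hQD
  rw [← hDQ, Subgroup.mem_normalizer_iff]
  intro d
  rw [Subgroup.mem_subgroupOf, Subgroup.mem_subgroupOf]
  constructor
  · intro hd
    refine Subgroup.mem_inf.mpr ⟨?_, (n * d * n⁻¹).2⟩
    have := (Subgroup.mem_normalizer_iff.mp hnP' (d : H)).mp (Subgroup.mem_inf.mp hd).1
    simpa using this
  · intro hd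
    refine Subgroup.mem_inf.mpr ⟨?_, d.2⟩
    apply (Subgroup.mem_normalizer_iff.mp hnP' (d : H)).mpr
    have := (Subgroup.mem_inf.mp hd).1
    simpa using this

end Cfsg.Agent.S4620
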