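import Mathlib
import Cfsg.Prelude.Def_Blocks
import Cfsg.Agent.Lib.Helper24.LocalRing
import Cfsg.Agent.Lib.Helper25.Unitary
import Cfsg.Agent.Lib.Helper25.Irred
import Cfsg.Agent.Lib.Helper2.Integrality

set_option autoImplicit false

namespace Cfsg

namespace Agent.S4626

open Cfsg.Agent.Lib.Helper24

/-- If `p` does not divide the class size of `g`, then `g` is conjugate into `C_G(P)`. -/
theorem mem_of_not_dvd {G : Type*} [Group G] [Finite G] (p : ℕ) [Fact p.Prime] (P : Sylow p G)
    (N : Subgroup G) [N.Normal] (hC : Subgroup.centralizer ((P : Subgroup G) : Set G) ≤ N)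
    (g : G) (hg : ¬ p ∣ (Subgroup.centralizer ({g} : Set G)).index) : g ∈ N := by
  set C := Subgroup.centralizer ({g} : Set G) with hCdef
  -- P acts on G ⧸ C with a fixed point
  have hfix : (MulAction.fixedPoints (P : Subgroup G) (G ⧸ C)).Nonempty := by
    apply IsPGroup.nonempty_fixed_point_of_prime_not_dvd_card (p := p) P.isPGroup'
    rw [← Subgroup.index_eq_card]
    exact hg
  obtain ⟨q, hq⟩ := hfix
  induction q using QuotientGroup.induction_on with
  | H x =>
    -- x⁻¹ P x ≤ C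
    have h1 : ∀ y ∈ (P : Subgroup G), x⁻¹ * y * x ∈ C := by
      intro y hy
      have h2 := hq ⟨y, hy⟩
      have h3 : ((y * x : G) : G ⧸ C) = (x : G ⧸ C) := h2
      rw [QuotientGroup.eq] at h3
      have h4 : (y * x)⁻¹ * x ∈ C := h3
      have h5 : x⁻¹ * y * x = ((y * x)⁻¹ * x)⁻¹ := by group
      rw [h5]
      exact C.inv_mem h4
    -- x g x⁻¹ centralizes P
    have h2 : x * g * x⁻¹ ∈ Subgroup.centralizer ((P : Subgroup G) : Set G) := by
      rw [Subgroup.mem_centralizer_iff]
      intro y hy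
      have h3 := h1 y hy
      rw [hCdef, Subgroup.mem_centralizer_iff] at h3
      have h4 := h3 g (Set.mem_singleton g)
      -- h4 : g * (x⁻¹ y x) = (x⁻¹ y x) * g
      calc y * (x * g * x⁻¹) = x * ((x⁻¹ * y * x) * g) * x⁻¹ := by group
        _ = x * (g * (x⁻¹ * y * x)) * x⁻¹ := by rw [h4]
        _ = x * g * x⁻¹ * y := by group
    have h3 := hC h2
    have h4 := (inferInstance : N.Normal).conj_mem _ h3 x⁻¹
    have h5 : x⁻¹ * (x * g * x⁻¹) * x⁻¹⁻¹ = g := by group
    rw [h5] at h4
    exact h4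

theorem degree_dvd_index {G : Type*} [Group G] [Finite G] (N : Subgroup G) [N.Normal] {n : ℕ}
    (ρ : Representation ℂ G (Fin n → ℂ)) (hirr : ρ.IsIrreducible) (hker : ∀ x ∈ N, ρ x = 1) :
    n ∣ N.index := by
  let ρ' : Representation ℂ (G ⧸ N) (Fin n → ℂ) := QuotientGroup.lift N ρ (fun x hx => hker x hx)
  have hcomp : (MonoidHom.comp ρ' (QuotientGroup.mk' N) : Representation ℂ G (Fin n → ℂ)) = ρ := by
    ext x : 1
    rfl
  have hirr' : ρ'.IsIrreducible := by
    rw [← Cfsg.Agent.Lib.Helper25.isIrreducible_comp_iff ρ' (QuotientGroup.mk' N)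
      (QuotientGroup.mk'_surjective N), hcomp]
    exact hirr
  haveI := hirr'
  haveI : Fintype (G ⧸ N) := Fintype.ofFinite _
  have h := Cfsg.Agent.Lib.Helper2.finrank_dvd_card ρ'
  rw [Module.finrank_fin_fun, ← Subgroup.index_eq_card] at h
  exact h

theorem result {G : Type*} [Group G] [Finite G] (p : ℕ) [Fact p.Prime] (M : Ideal Cfsg.AlgInt) (hM : Cfsg.IsPModular p M) (P : Sylow p G) (N : Subgroup G) [N.Normal] (hidx : ¬ p ∣ N.index)
    (hC : Subgroup.centralizer ((P : Subgroup G) : Set G) ≤ N) (χ : Cfsg.IrrCharacter G) (hker : ∀ n ∈ N, (χ : G → ℂ) n = (χ : G → ℂ) 1) :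
    χ ∈ Cfsg.principalBlock M G := by
  haveI : Fintype G := Fintype.ofFinite _
  obtain ⟨χ, n, ρ, hirr, rfl⟩ := χ
  simp only at hker
  show Cfsg.SameBlock M (fun _ : G => (1 : ℂ)) ρ.character
  have hχ1 : ρ.character 1 = (n : ℂ) := by
    rw [Representation.char_one, Module.finrank_fin_fun]
  have hρN : ∀ x ∈ N, ρ x = 1 := by
    intro x hx
    apply Cfsg.Agent.Lib.Helper25.apply_eq_one_of_character_eq
    rw [hker x hx, hχ1, Module.finrank_fin_fun]
  have hn : ¬ p ∣ n := fun h => hidx (h.trans (degree_dvd_index N ρ hirr hρN))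
  have hn0 : (n : ℂ) ≠ 0 := by
    intro h
    have : n = 0 := by exact_mod_cast h
    exact hn (this ▸ dvd_zero p)
  intro g
  unfold Cfsg.centralChar
  rw [hχ1]
  by_cases hg : p ∣ (Subgroup.centralizer ({g} : Set G)).index
  · -- the class size lies in M
    have hint : IsIntegral ℤ (ρ.character g) := Cfsg.Agent.Lib.Helper2.char_isIntegral ρ g
    let c : Cfsg.AlgInt := ⟨ρ.character g, hint⟩
    let a : Cfsg.AlgInt := ((Subgroup.centralizer ({g} : Set G)).index : Cfsg.AlgInt)
      * ((n : Cfsg.AlgInt) - c)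
    have ha : a ∈ M := Ideal.mul_mem_right _ _ (natCast_mem hM hg)
    have h := memLocalIdeal_div_nat hM a ha hn
    convert h using 1
    simp only [a, c]
    push_cast
    field_simp
  · have hgN : g ∈ N := mem_of_not_dvd p P N hC g hg
    rw [hker g hgN, hχ1]
    have : ((Subgroup.centralizer ({g} : Set G)).index : ℂ) * 1 / 1
        - ((Subgroup.centralizer ({g} : Set G)).index : ℂ) * (n : ℂ) / (n : ℂ) = 0 := by
      field_simp
      ring
    rw [this]
    exact memLocalIdeal_zero hM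

end Agent.S4626

end Cfsg
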