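import Cfsg.Statements.S4629
import Mathlib
import Cfsg.Agent.Lib.Helper17.OrthSqD
import Cfsg.Agent.Lib.Helper6.OrthForms
import Cfsg.Agent.S0286

set_option autoImplicit false
open Cfsg

namespace Cfsg.Agent.S4629

open Cfsg.Agent.Lib.Helper17.OrthSq Cfsg.Agent.Lib.Helper6

/-- Let F be a finite field of odd order and m ≥ 3. For the commutator subgroup Ω of the isometry group of the non-singular quadratic form x₀² + Σ x_i y_i in dimension 2m + 1 over F, a Sylow 2-subgroup P of Ω has P/P' elementary abelian: the square of every element of P lies in the derived subgroup of P. -/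
theorem result {F : Type*} [Field F] [Fintype F] (hF : Odd (Fintype.card F)) (m : ℕ) (hm : 3 ≤ m) (P : Sylow 2 (Cfsg.Omega F (Cfsg.quadFormOdd m F))) : ∀ x : (P : Subgroup (Cfsg.Omega F (Cfsg.quadFormOdd m F))), x ^ 2 ∈ commutator (P : Subgroup (Cfsg.Omega F (Cfsg.quadFormOdd m F))) := by
  classical
  have h2 : (2 : F) ≠ 0 := Cfsg.Agent.Lib.Helper6.two_ne_zero_of_odd_card hF
  have hq1 : 1 < Fintype.card F := Fintype.one_lt_card
  have hfun : ⇑(QOdd F m) = Cfsg.quadFormOdd m F := funext (QOdd_apply F m)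
  have hQ := nondegenerate_QOdd F h2 m
  have hcardι : Fintype.card (Unit ⊕ (Fin m ⊕ Fin m)) = (m + m) + 1 := by
    rw [Fintype.card_sum, Fintype.card_sum, Fintype.card_unit, Fintype.card_fin]
    omega
  obtain ⟨α, hα⟩ := FiniteField.exists_nonsquare (F := F)
    (Cfsg.Agent.Lib.Helper6.ringChar_ne_two h2)
  obtain ⟨L, d, hd, hL⟩ := exists_diag h2 (QOdd F m) hQ (m + m) hcardι α hα
  obtain ⟨c, L', hL'⟩ := exists_reindex (⇑(QOdd F m)) (m + m) m 1 rfl L d hL (Or.inl le_rfl)
  have hval : (Nat.card (Cfsg.isometryGroup F ⇑(QOdd F m))).factorization 2 ≤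
      m * (Fintype.card F ^ 2 - 1).factorization 2 + (m.factorial).factorization 2 + 1 := by
    rw [hfun, Cfsg.Agent.S0286.result (F := F) rfl hF m, val_odd_group _ hF hq1 m]
  have key := main_generic hF (QOdd F m) hQ (by rw [hcardι]; omega) m 1 (Or.inl hm) c L' hL'
    hval
  rw [hfun] at key
  exact key P

end Cfsg.Agent.S4629
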