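import Cfsg.Statements.S4630
import Mathlib
import Cfsg.Agent.Lib.Helper17.OrthSqD
import Cfsg.Agent.Lib.Helper15.QuadF2a
import Cfsg.Agent.S0287
import Cfsg.Agent.S0790

set_option autoImplicit false
open Cfsg

namespace Cfsg.Agent.S4630

open Cfsg.Agent.Lib.Helper17.OrthSq Cfsg.Agent.Lib.Helper15

theorem even_pow_mod4 (q : ℕ) (hodd : Odd q) (t : ℕ) : q ^ (2 * t) % 4 = 1 := by
  have h9 : q ^ 2 % 4 = 1 := by
    rcases Nat.odd_mod_four_iff.mp (Nat.odd_iff.mp hodd) with h | h
    · rw [Nat.pow_mod, h]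
    · rw [Nat.pow_mod, h]
  rw [pow_mul, Nat.pow_mod, h9, one_pow]
  norm_num

/-- Let F be a finite field of odd order and m ≥ 1 with m even or m ≥ 4. For the commutator subgroup Ω of the isometry group of the plus-type quadratic form Σ_{i<m} x_i y_i in dimension 2m over F, a Sylow 2-subgroup P of Ω has P/P' elementary abelian: the square of every element of P lies in the derived subgroup of P. -/
theorem result {F : Type*} [Field F] [Fintype F] (hF : Odd (Fintype.card F)) (m : ℕ) (hm : 1 ≤ m) (hm' : Even m ∨ 4 ≤ m) (P : Sylow 2 (Cfsg.Omega F (Cfsg.quadFormPlus m F))) : ∀ x : (P : Subgroup (Cfsg.Omega F (Cfsg.quadFormPlus m F))), x ^ 2 ∈ commutator (P : Subgroup (Cfsg.Omega F (Cfsg.quadFormPlus m F))) := by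
  classical
  have h2 : (2 : F) ≠ 0 := Cfsg.Agent.Lib.Helper6.two_ne_zero_of_odd_card hF
  have hq1 : 1 < Fintype.card F := Fintype.one_lt_card
  have hfun : ⇑(QPlus F m) = Cfsg.quadFormPlus m F := funext (QPlus_apply F m)
  have hQ := nondegenerate_QPlus F m
  have hcardι : Fintype.card (Fin m ⊕ Fin m) = (m + m - 1) + 1 := by
    rw [Fintype.card_sum, Fintype.card_fin]
    omega
  obtain ⟨α, hα⟩ := FiniteField.exists_nonsquare (F := F)
    (Cfsg.Agent.Lib.Helper6.ringChar_ne_two h2)
  obtain ⟨L, d, hd, hL⟩ := exists_diag h2 (QPlus F m) hQ (m + m - 1) hcardι α hα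
  have hiff := d_eq_one_iff h2 (QPlus F m) hQ (m + m - 1) (by omega)
    (by rw [Nat.sub_add_cancel (by omega)]; exact ⟨m, rfl⟩) L d α hd hα hL
  rw [hfun] at hiff
  have hiff2 : Fintype.card F ^ m % 4 = 1 ↔ d = 1 :=
    (Cfsg.Agent.S0790.result (F := F) rfl hF m hm).symm.trans hiff
  have hcardO := Cfsg.Agent.S0287.result (F := F) rfl m hm
  have hfact := fact2_factorial_succ (m - 1)
  rw [Nat.sub_add_cancel hm] at hfact
  have hN : Fintype.card F ^ m - 1 ≠ 0 := by
    have : 1 < Fintype.card F ^ m := Nat.one_lt_pow (by omega) hq1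
    omega
  have hvalO := val_even_group (Fintype.card F) hF hq1 (m - 1) (Fintype.card F ^ m - 1)
    (m * (m - 1)) hN
  rcases Nat.odd_mod_four_iff.mp (Nat.odd_iff.mp (hF.pow (n := m))) with h41 | h43
  · have hd1 : d = 1 := hiff2.mp h41
    obtain ⟨c, L', hL'⟩ := exists_reindex (⇑(QPlus F m)) (m + m - 1) m 0 (by omega) L d hL
      (Or.inr hd1)
    have hkr : 3 ≤ m ∨ (m = 2 ∧ 0 = 0) := by
      rcases hm' with ⟨t, ht⟩ | h4
      · omega
      · left; omega
    have hval : (Nat.card (Cfsg.isometryGroup F ⇑(QPlus F m))).factorization 2 ≤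
        m * (Fintype.card F ^ 2 - 1).factorization 2 + (m.factorial).factorization 2 + 0 := by
      rw [hfun, hcardO, hvalO]
      have hP1 := val_P1 _ hF hq1 m hm h41
      have e1 : m * (Fintype.card F ^ 2 - 1).factorization 2 =
          (m - 1) * (Fintype.card F ^ 2 - 1).factorization 2 +
            (Fintype.card F ^ 2 - 1).factorization 2 := by
        obtain ⟨j, rfl⟩ : ∃ j, m = j + 1 := ⟨m - 1, by omega⟩
        rw [Nat.add_sub_cancel]
        ring
      rw [e1, hfact]
      omega
    have key := main_generic hF (QPlus F m) hQ (by rw [hcardι]; omega) m 0 hkr c L' hL' hval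
    rw [hfun] at key
    exact key P
  · have hmodd : ¬ Even m := by
      rintro ⟨t, ht⟩
      have h5 := even_pow_mod4 (Fintype.card F) hF t
      rw [ht, ← two_mul] at h43
      omega
    have hm5 : 5 ≤ m := by
      rcases hm' with he | h4
      · exact absurd he hmodd
      · by_contra hlt
        have h6 : m = 4 := by omega
        exact hmodd ⟨2, by omega⟩
    obtain ⟨c, L', hL'⟩ := exists_reindex (⇑(QPlus F m)) (m + m - 1) (m - 1) 2 (by omega) L d hL
      (Or.inl (by norm_num))
    have hval : (Nat.card (Cfsg.isometryGroup F ⇑(QPlus F m))).factorization 2 ≤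
        (m - 1) * (Fintype.card F ^ 2 - 1).factorization 2 +
          ((m - 1).factorial).factorization 2 + 2 := by
      rw [hfun, hcardO, hvalO, Cfsg.Agent.S4624.val2_of_mod4 (Fintype.card F ^ m - 1) (by omega)]
      omega
    have key := main_generic hF (QPlus F m) hQ (by rw [hcardι]; omega) (m - 1) 2
      (Or.inl (by omega)) c L' hL' hval
    rw [hfun] at key
    exact key P

end Cfsg.Agent.S4630
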