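import Cfsg.Statements.S4631
import Mathlib
import Cfsg.Agent.Lib.Helper17.OrthSqD
import Cfsg.Agent.Lib.Helper15.QuadCount6
import Cfsg.Agent.S0288
import Cfsg.Agent.S0791

set_option autoImplicit false
open Cfsg

namespace Cfsg.Agent.S4631

open Cfsg.Agent.Lib.Helper17.OrthSq Cfsg.Agent.Lib.Helper15

/-- Let F be a finite field of odd order, m ≥ 4, and a, b ∈ F with z₁² + a z₁ z₂ + b z₂² anisotropic. For the commutator subgroup Ω of the isometry group of the minus-type quadratic form Σ_{i<m−1} x_i y_i + (z₁² + a z₁ z₂ + b z₂²) in dimension 2m over F, a Sylow 2-subgroup P of Ω has P/P' elementary abelian: the square of every element of P lies in the derived subgroup of P. -/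
theorem result {F : Type*} [Field F] [Fintype F] (hF : Odd (Fintype.card F)) (m : ℕ) (hm : 4 ≤ m) (a b : F) (hab : ∀ z₁ z₂ : F, z₁ ^ 2 + a * z₁ * z₂ + b * z₂ ^ 2 = 0 → z₁ = 0 ∧ z₂ = 0) (P : Sylow 2 (Cfsg.Omega F (Cfsg.quadFormMinus (m - 1) F a b))) : ∀ x : (P : Subgroup (Cfsg.Omega F (Cfsg.quadFormMinus (m - 1) F a b))), x ^ 2 ∈ commutator (P : Subgroup (Cfsg.Omega F (Cfsg.quadFormMinus (m - 1) F a b))) := by
  classical
  have hm1 : 1 ≤ m := by omega
  have h2 : (2 : F) ≠ 0 := Cfsg.Agent.Lib.Helper6.two_ne_zero_of_odd_card hF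
  have hq1 : 1 < Fintype.card F := Fintype.one_lt_card
  have hfun : ⇑(Qgen (m - 1) (binForm a b)) = Cfsg.quadFormMinus (m - 1) F a b := by
    funext v
    rw [Qgen_apply, binForm_apply]
    rfl
  have hQ := nondegenerate_Qgen (m - 1) (binForm a b) (nondegenerate_binForm a b hab)
  have hcardι : Fintype.card ((Fin (m - 1) ⊕ Fin (m - 1)) ⊕ Fin 2) =
      ((m - 1) + (m - 1) + 1) + 1 := by
    rw [Fintype.card_sum, Fintype.card_sum, Fintype.card_fin, Fintype.card_fin]
  obtain ⟨α, hα⟩ := FiniteField.exists_nonsquare (F := F)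
    (Cfsg.Agent.Lib.Helper6.ringChar_ne_two h2)
  obtain ⟨L, d, hd, hL⟩ := exists_diag h2 (Qgen (m - 1) (binForm a b)) hQ
    ((m - 1) + (m - 1) + 1) hcardι α hα
  have hiff := d_eq_one_iff h2 (Qgen (m - 1) (binForm a b)) hQ ((m - 1) + (m - 1) + 1)
    (by omega) ⟨m, by omega⟩ L d α hd hα hL
  rw [hfun] at hiff
  have hiff2 : Fintype.card F ^ m % 4 = 3 ↔ d = 1 :=
    (Cfsg.Agent.S0791.result (F := F) rfl hF m hm1 a b hab).symm.trans hiff
  have hcardO := Cfsg.Agent.S0288.result (F := F) rfl m hm1 a b hab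
  have hfact := fact2_factorial_succ (m - 1)
  rw [Nat.sub_add_cancel hm1] at hfact
  have hN : Fintype.card F ^ m + 1 ≠ 0 := by omega
  have hvalO := val_even_group (Fintype.card F) hF hq1 (m - 1) (Fintype.card F ^ m + 1)
    (m * (m - 1)) hN
  rcases Nat.odd_mod_four_iff.mp (Nat.odd_iff.mp (hF.pow (n := m))) with h41 | h43
  · have hdα : d ≠ 1 := by
      intro h
      have h5 := hiff2.mpr h
      omega
    have hd' : d = α := hd.resolve_left hdα
    obtain ⟨c, L', hL'⟩ := exists_reindex (⇑(Qgen (m - 1) (binForm a b)))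
      ((m - 1) + (m - 1) + 1) (m - 1) 2 (by omega) L d hL (Or.inl (by norm_num))
    have hval : (Nat.card (Cfsg.isometryGroup F ⇑(Qgen (m - 1) (binForm a b)))).factorization 2 ≤
        (m - 1) * (Fintype.card F ^ 2 - 1).factorization 2 +
          ((m - 1).factorial).factorization 2 + 2 := by
      rw [hfun, hcardO, hvalO, Cfsg.Agent.S4624.val2_of_mod4 (Fintype.card F ^ m + 1) (by omega)]
      omega
    have key := main_generic hF (Qgen (m - 1) (binForm a b)) hQ (by rw [hcardι]; omega) (m - 1) 2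
      (Or.inl (by omega)) c L' hL' hval
    rw [hfun] at key
    exact key P
  · have hd1 : d = 1 := hiff2.mp h43
    obtain ⟨c, L', hL'⟩ := exists_reindex (⇑(Qgen (m - 1) (binForm a b)))
      ((m - 1) + (m - 1) + 1) m 0 (by omega) L d hL (Or.inr hd1)
    have hval : (Nat.card (Cfsg.isometryGroup F ⇑(Qgen (m - 1) (binForm a b)))).factorization 2 ≤
        m * (Fintype.card F ^ 2 - 1).factorization 2 + (m.factorial).factorization 2 + 0 := by
      rw [hfun, hcardO, hvalO]
      obtain ⟨hM1, hM0⟩ := val_M1 _ hF hq1 m h43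
      have e1 : m * (Fintype.card F ^ 2 - 1).factorization 2 =
          (m - 1) * (Fintype.card F ^ 2 - 1).factorization 2 +
            (Fintype.card F ^ 2 - 1).factorization 2 := by
        obtain ⟨j, rfl⟩ : ∃ j, m = j + 1 := ⟨m - 1, by omega⟩
        rw [Nat.add_sub_cancel]
        ring
      rw [e1, hfact]
      omega
    have key := main_generic hF (Qgen (m - 1) (binForm a b)) hQ (by rw [hcardι]; omega) m 0
      (Or.inl (by omega)) c L' hL' hval
    rw [hfun] at key
    exact key P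

end Cfsg.Agent.S4631
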