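import Cfsg.Statements.S4636

set_option autoImplicit false
open Cfsg

namespace Cfsg.Agent.S4636

open scoped Pointwise

theorem cyclic_unique {C : Type*} [Group C] [Finite C] [IsCyclic C] (H K : Subgroup C) (n : ℕ)
    (hn : 0 < n) (hH : Nat.card H = n) (hK : Nat.card K = n) : H = K := by
  classical
  have := Fintype.ofFinite C
  have hS := IsCyclic.card_pow_eq_one_le (α := C) hn
  have key : ∀ L : Subgroup C, Nat.card L = n →
      (L : Set C) = ((Finset.univ.filter (fun a : C => a ^ n = 1) : Finset C) : Set C) := by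
    intro L hL
    have hsub : (L : Set C) ⊆ ((Finset.univ.filter (fun a : C => a ^ n = 1) : Finset C) : Set C) := by
      intro a ha
      simp only [Finset.coe_filter, Finset.mem_univ, true_and, Set.mem_ofPred_eq]
      have := pow_card_eq_one' (G := L) (x := ⟨a, ha⟩)
      rw [hL] at this
      simpa using congrArg Subtype.val this
    apply Set.eq_of_subset_of_ncard_le hsub
    rw [Set.ncard_coe_finset]
    have : (L : Set C).ncard = n := by
      rw [← hL]; rfl
    rw [this]
    exact hS
  exact SetLike.coe_injective ((key H hH).trans (key K hK).symm)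

/-- Two subgroups of the same order inside a cyclic subgroup coincide. -/
theorem cyclic_unique_sub {G : Type*} [Group G] [Finite G] (P : Subgroup G) (hcyc : IsCyclic P)
    (H K : Subgroup G) (hHP : H ≤ P) (hKP : K ≤ P) (n : ℕ) (hn : 0 < n)
    (hH : Nat.card H = n) (hK : Nat.card K = n) : H = K := by
  have h1 : Nat.card (H.subgroupOf P) = n := by
    rw [← hH]; exact Nat.card_congr (Subgroup.subgroupOfEquivOfLe hHP).toEquiv
  have h2 : Nat.card (K.subgroupOf P) = n := by
    rw [← hK]; exact Nat.card_congr (Subgroup.subgroupOfEquivOfLe hKP).toEquiv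
  have := cyclic_unique (H.subgroupOf P) (K.subgroupOf P) n hn h1 h2
  rw [Subgroup.subgroupOf_inj, inf_eq_left.mpr hHP, inf_eq_left.mpr hKP] at this
  exact this

theorem mem_conj_smul {G : Type*} [Group G] (H : Subgroup G) (g x : G) :
    x ∈ MulAut.conj g • H ↔ g⁻¹ * x * g ∈ H := by
  rw [Subgroup.mem_pointwise_smul_iff_inv_smul_mem]
  simp [MulAut.smul_def]

theorem card_conj_smul {G : Type*} [Group G] (H : Subgroup G) (g : G) :
    Nat.card (MulAut.conj g • H : Subgroup G) = Nat.card H :=
  (Nat.card_congr (Subgroup.equivSMul (MulAut.conj g) H).toEquiv).symm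

theorem result {G : Type*} [Group G] [Finite G] (p : ℕ) [Fact p.Prime] (P : Subgroup G) (hP : IsPGroup p P) (hP1 : P ≠ ⊥) (hcyc : IsCyclic P) (Z : Subgroup G) (hZ : Z ≤ P) (hZcard : Nat.card Z = p) : (∀ x : G, x ∉ Subgroup.normalizer (Z : Set G) → P ⊓ MulAut.conj x • P = ⊥) ∧ ∀ Q : Subgroup G, Q ≤ P → Q ≠ ⊥ → Subgroup.normalizer (Q : Set G) ≤ Subgroup.normalizer (Z : Set G) := by
  have hp : p.Prime := Fact.out
  -- every nontrivial subgroup of P contains Z
  have hC : ∀ Q : Subgroup G, Q ≤ P → Q ≠ ⊥ → Z ≤ Q := by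
    intro Q hQP hQ1
    have hQp : IsPGroup p Q := hP.to_le hQP
    have hdvd : p ∣ Nat.card Q := by
      rcases hQp.card_eq_or_dvd with h | h
      · exact absurd (Subgroup.card_eq_one.mp h) hQ1
      · exact h
    obtain ⟨x, hx⟩ := exists_prime_orderOf_dvd_card' (G := Q) p hdvd
    have hcard : Nat.card (Subgroup.zpowers (x : G)) = p := by
      rw [Nat.card_zpowers, Subgroup.orderOf_coe, hx]
    have hle : Subgroup.zpowers (x : G) ≤ Q := by
      rw [Subgroup.zpowers_le]; exact x.2
    have := cyclic_unique_sub P hcyc Z (Subgroup.zpowers (x : G)) hZ (hle.trans hQP) p hp.pos hZcard hcard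
    rw [this]
    exact hle
  -- an element conjugating Z into P normalizes Z
  have hD : ∀ y : G, MulAut.conj y • Z ≤ P → y ∈ Subgroup.normalizer (Z : Set G) := by
    intro y hy
    have h := cyclic_unique_sub P hcyc (MulAut.conj y • Z) Z hy hZ p hp.pos
      ((card_conj_smul Z y).trans hZcard) hZcard
    rw [Subgroup.mem_normalizer_iff'']
    intro t
    rw [← mem_conj_smul, h]
  constructor
  · intro x hx
    by_contra hne
    apply hx
    apply hD
    -- Z ≤ x⁻¹ • (P ⊓ x • P)
    have hQ' : MulAut.conj x⁻¹ • (P ⊓ MulAut.conj x • P) ≤ P := by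
      intro t ht
      rw [mem_conj_smul, inv_inv] at ht
      have : x * t * x⁻¹ ∈ MulAut.conj x • P := ht.2
      rw [mem_conj_smul] at this
      have e : x⁻¹ * (x * t * x⁻¹) * x = t := by group
      rwa [e] at this
    have hQ'1 : MulAut.conj x⁻¹ • (P ⊓ MulAut.conj x • P) ≠ ⊥ := by
      intro h
      apply hne
      have := card_conj_smul (P ⊓ MulAut.conj x • P) x⁻¹
      rw [h, Subgroup.card_bot] at this
      exact Subgroup.card_eq_one.mp this.symm
    have hZle := hC _ hQ' hQ'1
    intro t ht
    rw [mem_conj_smul] at ht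
    have := hZle ht
    rw [mem_conj_smul, inv_inv] at this
    have e : x * (x⁻¹ * t * x) * x⁻¹ = t := by group
    rw [e] at this
    exact this.1
  · intro Q hQP hQ1 g hg
    apply hD
    have hZQ := hC Q hQP hQ1
    intro t ht
    rw [mem_conj_smul] at ht
    apply hQP
    exact (Subgroup.mem_normalizer_iff''.mp hg t).mpr (hZQ ht)

end Cfsg.Agent.S4636
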