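import Cfsg.Statements.S4638
import Cfsg.Agent.Lib.Helper24.KFMain
import Cfsg.Agent.Lib.Helper24.KFRank

set_option autoImplicit false
open Cfsg

namespace Cfsg.Agent.S4638

/-- Let B be a block of the finite group G relative to a maximal ideal M of the algebraic integers containing 2, with a Klein four defect group P, and let c be its Brauer correspondent: the block of N_G(P) with defect group P that induces B. Then there is a perfect isometry from c onto B. -/
theorem result {G : Type*} [Group G] [Finite G] (M : Ideal Cfsg.AlgInt) (hM : Cfsg.IsPModular 2 M) (B : Set (Cfsg.IrrCharacter G)) (hB : Cfsg.IsPBlock M B) (P : Subgroup G) (hPD : Cfsg.IsDefectGroup 2 M B P) (hV : IsKleinFour P) (c : Set (Cfsg.IrrCharacter (Subgroup.normalizer (P : Set G)))) (hcD : Cfsg.IsDefectGroup 2 M c (P.subgroupOf (Subgroup.normalizer (P : Set G)))) (hc : Cfsg.IsInducedBlock M (Subgroup.normalizer (P : Set G)) c B) : ∃ (I : Cfsg.IrrCharacter (Subgroup.normalizer (P : Set G)) → Cfsg.IrrCharacter G) (ε : Cfsg.IrrCharacter (Subgroup.normalizer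 (P : Set G)) → ℤ), Cfsg.IsPerfectIsometry 2 M c B I ε := by
  classical
  letI : Fintype G := Fintype.ofFinite G
  letI : Fintype (Subgroup.normalizer (P : Set G)) := Fintype.ofFinite _
  obtain ⟨hl, hl13, hkB, hkc, hV'⟩ :=
    Cfsg.Agent.Lib.Helper24.KFRank.blockRank_correspondent hM B hB P hPD hV c hcD hc
  have hcolB := Cfsg.Agent.Lib.Helper24.KFMain.hasColumns_of_kleinFour hM B hB P hPD hV
  have hcolc := Cfsg.Agent.Lib.Helper24.KFMain.hasColumns_of_kleinFour hM c hc.1 _ hcD hV'
  rcases hl13 with h1 | h3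
  · exact Cfsg.Agent.Lib.Helper24.KFMain.exists_perfect_isometry_one hM B hB c hc.1
      (Cfsg.Agent.Lib.Helper24.KFStruct.defect_two hM B hB P hPD hV)
      (Cfsg.Agent.Lib.Helper24.KFStruct.defect_two hM c hc.1 _ hcD hV') hkB hkc hcolB hcolc h1
      (hl.trans h1)
  · exact Cfsg.Agent.Lib.Helper24.KFMain.exists_perfect_isometry_three hM B hB c hc.1 hkB hkc
      hcolB hcolc h3 (hl.trans h3)

end Cfsg.Agent.S4638
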