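import Mathlib
import Cfsg.Statements.S4650
import Cfsg.Agent.Lib.Helper24.AbelianFree

set_option autoImplicit false
open Cfsg

namespace Cfsg.Agent.S4650

open Cfsg.Agent.Lib.Helper2 Cfsg.Agent.Lib.Helper24
open scoped ComplexConjugate

/-- Let B be a block of the finite group G relative to a maximal ideal M of the algebraic integers containing the prime p, with a nontrivial commutative defect group P; let c be a block of C_G(P) inducing B and T the stabilizer of c in N_G(P). Then T/C_G(P) acts freely on the non-identity elements of P (an element of T fixing a non-identity element of P under conjugation lies in C_G(P)) if and only if, for every nontrivial subgroup Q of P, the block of C_G(Q) induced by c inside C_G(Q) is a nilpotent block of C_G(Q). -/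
theorem result {G : Type*} [Group G] [Finite G] (p : ℕ) [Fact p.Prime] (M : Ideal Cfsg.AlgInt) (hM : Cfsg.IsPModular p M) (B : Set (Cfsg.IrrCharacter G)) (hB : Cfsg.IsPBlock M B) (P : Subgroup G) (hPD : Cfsg.IsDefectGroup p M B P) (hPab : ∀ x ∈ P, ∀ y ∈ P, x * y = y * x) (hP1 : P ≠ ⊥) (c : Set (Cfsg.IrrCharacter (Subgroup.centralizer (P : Set G)))) (hc : Cfsg.IsInducedBlock M (Subgroup.centralizer (P : Set G)) c B) (T : Subgroup G) (hT : ∀ g : G, g ∈ T ↔ (g ∈ Subgroup.normalizer (P : Set G) ∧ Cfsg.StabilizesBlock (Subgroup.centralizer (P : Set G)) c g)) : (∀ g ∈ T, ∀ x ∈ P, x ≠ 1 → g * x * g⁻¹ = x → g ∈ Subgroup.centralizer (P : Set G)) ↔ ∀ Q : Subgroup G, Q ≤ P → Q ≠ ⊥ → ∀ f : Set (Cfsg.IrrCharacter (Subgroup.centralizer (Q : Set G))), Cfsg.IsInducedBlockIn M (Subgroup.centralizer (Q : Set G)) (Subgroup.centralizer (P : Set G)) c f → Cfsg.IsNilpotentBlock p M f := by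
  classical
  haveI : Fintype G := Fintype.ofFinite G
  have hP : IsPGroup p P :=
    IsPGroup.of_card (Cfsg.Agent.Lib.Helper7.card_of_isDefectGroup hM B hB P hPD)
  constructor
  · intro hfree Q hQP hQ1 f hf
    rw [isNilpotentBlock_centralizer_iff hM B P hPD hPab c hc Q hQP f hf]
    intro x hxQ hxN hxst
    obtain ⟨q, hq1⟩ := (Subgroup.ne_bot_iff_exists_ne_one).mp hQ1
    have hcomm := Subgroup.mem_centralizer_iff.mp hxQ (q : G) q.2
    apply hfree x ((hT x).mpr ⟨hxN, hxst⟩) (q : G) (hQP q.2)
    · intro h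
      apply hq1
      exact Subtype.ext h
    · rw [← hcomm]; group
  · intro hnil g hgT x hxP hx1 hgx
    have hQP : Subgroup.zpowers x ≤ P := (Subgroup.zpowers_le).mpr hxP
    have hQ1 : Subgroup.zpowers x ≠ ⊥ := by
      intro h
      apply hx1
      have : x ∈ (⊥ : Subgroup G) := h ▸ Subgroup.mem_zpowers x
      exact Subgroup.mem_bot.mp this
    obtain ⟨f, hf⟩ := exists_isInducedBlockIn_centralizer hM P (Subgroup.zpowers x) hQP hPab hP c
      hc.1
    have h1 := (isNilpotentBlock_centralizer_iff hM B P hPD hPab c hc _ hQP f hf).mp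
      (hnil _ hQP hQ1 f hf)
    have hgN := ((hT g).mp hgT)
    apply h1 g _ hgN.1 hgN.2
    rw [Subgroup.mem_centralizer_iff]
    intro q hq
    obtain ⟨k, rfl⟩ := Subgroup.mem_zpowers_iff.mp hq
    have hc' : Commute g x := by
      show g * x = x * g
      have : g * x * g⁻¹ * g = x * g := by rw [hgx]
      rw [← this]; group
    exact ((hc'.zpow_right k).eq).symm

end Cfsg.Agent.S4650
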