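import Mathlib
import Cfsg.Statements.S4645
import Cfsg.Agent.Lib.Helper24.NilRankOne
import Cfsg.Agent.Lib.Helper24.AbelianFree
import Cfsg.Agent.Lib.Helper24.AbelianPairs
import Cfsg.Agent.Lib.Helper24.MidPairs
import Cfsg.Agent.Lib.Helper24.StabPairs
import Cfsg.Agent.Lib.Helper7.CyclicAut
import Cfsg.Agent.S4633
import Cfsg.Agent.S4650
import Cfsg.Agent.S4682
import Cfsg.Agent.S4687

set_option autoImplicit false
open Cfsg

namespace Cfsg.Agent.S4645

open Cfsg.Agent.Lib.Helper2 Cfsg.Agent.Lib.Helper24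
open scoped ComplexConjugate

open Cfsg.Agent.Lib.Helper7

/-- in a cyclic group every subgroup is normalized by the normalizer of the whole group -/
theorem normalizer_le_normalizer_of_isCyclic {G : Type*} [Group G] (P Q : Subgroup G)
    (hcyc : IsCyclic P) (hQP : Q ≤ P) :
    Subgroup.normalizer (P : Set G) ≤ Subgroup.normalizer (Q : Set G) := by
  have key : ∀ g ∈ Subgroup.normalizer (P : Set G), ∀ n ∈ Q, g * n * g⁻¹ ∈ Q := by
    intro g hg n hn
    obtain ⟨z, hz⟩ := IsCyclic.exists_generator (α := P)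
    have hgz : g * (z : G) * g⁻¹ ∈ P := (Subgroup.mem_normalizer_iff.mp hg (z : G)).mp z.2
    obtain ⟨k, hk⟩ := Subgroup.mem_zpowers_iff.mp (hz ⟨g * z * g⁻¹, hgz⟩)
    have hk' : (z : G) ^ k = g * z * g⁻¹ := by
      have := congrArg (fun t : P => (t : G)) hk
      simpa using this
    obtain ⟨i, hi⟩ := Subgroup.mem_zpowers_iff.mp (hz ⟨n, hQP hn⟩)
    have hi' : (z : G) ^ i = n := by
      have := congrArg (fun t : P => (t : G)) hi
      simpa using this
    have h1 : g * n * g⁻¹ = n ^ k := by
      rw [← hi', ← conj_zpow, ← hk', ← zpow_mul, ← zpow_mul, mul_comm]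
    rw [h1]
    exact Subgroup.zpow_mem Q hn k
  intro g hg
  rw [Subgroup.mem_normalizer_iff]
  intro n
  constructor
  · exact key g hg n
  · intro h
    have h2 := key g⁻¹ (Subgroup.inv_mem _ hg) _ h
    have e1 : g⁻¹ * (g * n * g⁻¹) * g⁻¹⁻¹ = n := by group
    rwa [e1] at h2

/-- the block of `C_G(Q)` induced from `C_G(P)` gives a normal subpair -/
theorem isNormalSubpair_of_isInducedBlockIn {G : Type*} [Group G] [Fintype G] {p : ℕ}
    [Fact p.Prime] {M : Ideal Cfsg.AlgInt} (hM : Cfsg.IsPModular p M) (P Q : Subgroup G)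
    (hQP : Q ≤ P) (hPab : ∀ x ∈ P, ∀ y ∈ P, x * y = y * x) (hP : IsPGroup p P)
    (c : Set (Cfsg.IrrCharacter (Subgroup.centralizer (P : Set G))))
    (f : Set (Cfsg.IrrCharacter (Subgroup.centralizer (Q : Set G))))
    (hf : Cfsg.IsInducedBlockIn M (Subgroup.centralizer (Q : Set G))
      (Subgroup.centralizer (P : Set G)) c f) :
    Cfsg.IsNormalSubpair p M Q f P c := by
  classical
  haveI : Fintype (Subgroup.centralizer (Q : Set G)) := Fintype.ofFinite _
  have hPH := le_centralizer_of_abelian P Q hQP hPab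
  have hCH : Subgroup.centralizer (P : Set G) ≤ Subgroup.centralizer (Q : Set G) :=
    Subgroup.centralizer_le (SetLike.coe_subset_coe.mpr hQP)
  have himg : irrMap (centH _ P hPH hCH) '' (irrMap (centH _ P hPH hCH).symm '' c) = c :=
    image_irrMap_image_symm _ c
  have hP' : IsPGroup p (P.subgroupOf (Subgroup.centralizer (Q : Set G))) :=
    (isPGroup_subgroupOf_iff _ P hPH).mpr hP
  have hf' := hf
  rw [← himg] at hf'
  have hfI := (isInducedBlockIn_centH_iff _ P hPH hCH _ f).mp hf'
  have hfP := (isInducedBlock_centralizer_iff (G := Subgroup.centralizer (Q : Set G))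
    hM _ hP' _ f).mp hfI
  have h1 := (isBrauerPairOf_mid_iff Q (hP.to_le hQP) f hf.2.1 (Subgroup.centralizer (Q : Set G))
    le_rfl (centralizer_le_stabSubgroup Q f) f hf.2.1
    (fun t => (subgroupBlockCoeff_coe _ f t).symm) P hQP hPH _).mp hfP
  rw [himg] at h1
  exact h1


/-- Let B be a block of the finite group G relative to a maximal ideal M of the algebraic integers containing the prime p, with a nontrivial cyclic defect group P; let c be a block of C_G(P) inducing B and T the stabilizer of c in N_G(P). Let Q be a nontrivial subgroup of P (so C_G(P) ≤ C_G(Q)), f the block of C_G(Q) induced by c inside C_G(Q), and T' the stabilizer of f in N_G(Q). Then T' = T·C_G(Q), the index of C_G(Q) in T' equals the index of C_G(P) in T, f has p-regular rank 1, and f is a nilpotent block of C_G(Q). -/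
theorem result {G : Type*} [Group G] [Finite G] (p : ℕ) [Fact p.Prime] (M : Ideal Cfsg.AlgInt) (hM : Cfsg.IsPModular p M) (B : Set (Cfsg.IrrCharacter G)) (hB : Cfsg.IsPBlock M B) (P : Subgroup G) (hPD : Cfsg.IsDefectGroup p M B P) (hP1 : P ≠ ⊥) (hcyc : IsCyclic P) (c : Set (Cfsg.IrrCharacter (Subgroup.centralizer (P : Set G)))) (hc : Cfsg.IsInducedBlock M (Subgroup.centralizer (P : Set G)) c B) (T : Subgroup G) (hT : ∀ g : G, g ∈ T ↔ (g ∈ Subgroup.normalizer (P : Set G) ∧ Cfsg.StabilizesBlock (Subgroup.centralizer (P : Set G)) c g)) (Q : Subgroup G) (hQP : Q ≤ P) (hQ1 : Q ≠ ⊥) (f : Set (Cfsg.IrrCharacter (Subgroup.centralizer (Q : Set G)))) (hf : Cfsg.IsInducedBlockIn M (Subgroup.centralizer (Q : Set G)) (Subgroup.centralizer (P : Set G)) c f) (T' : Subgroup G) (hT' : ∀ g : G, g ∈ T' ↔ (g ∈ Subgroup.normalizer (Q : Set G) ∧ Cfsg.StabilizesBlock (Subgroup.centralizer (Q : Set G)) f g)) : T' = T ⊔ Subgroup.centralizer (Q : Set G) ∧ (Subgroup.centralizer (Q : Set G)).relIndex T' = (Subgroup.centralizer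 (P : Set G)).relIndex T ∧ Cfsg.blockRank p f = 1 ∧ Cfsg.IsNilpotentBlock p M f := by
  classical
  haveI : Fintype G := Fintype.ofFinite G
  haveI : Fintype (Subgroup.centralizer (Q : Set G)) := Fintype.ofFinite _
  have hP : IsPGroup p P := IsPGroup.of_card (card_of_isDefectGroup hM B hB P hPD)
  have hPab : ∀ x ∈ P, ∀ y ∈ P, x * y = y * x := by
    intro x hx y hy
    obtain ⟨z, hz⟩ := IsCyclic.exists_generator (α := P)
    obtain ⟨i, hi⟩ := Subgroup.mem_zpowers_iff.mp (hz ⟨x, hx⟩)
    obtain ⟨j, hj⟩ := Subgroup.mem_zpowers_iff.mp (hz ⟨y, hy⟩)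
    have hxi : x = (z : G) ^ i := by
      have := congrArg (fun t : P => (t : G)) hi
      simpa using this.symm
    have hyj : y = (z : G) ^ j := by
      have := congrArg (fun t : P => (t : G)) hj
      simpa using this.symm
    rw [hxi, hyj, ← zpow_add, ← zpow_add, add_comm]
  have hTN : T ≤ Subgroup.normalizer (P : Set G) := fun g hg => ((hT g).mp hg).1
  haveI hn : ((Subgroup.centralizer (P : Set G)).subgroupOf T).Normal := by
    apply Subgroup.normal_subgroupOf_of_le_normalizer
    intro g hg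
    exact normalizer_le_normalizer_centralizer P (hTN hg)
  have hfree := (Cfsg.Agent.S4633.result p M hM B hB P hPD hP1 hcyc c hc T hT).2.2
  have hnil : Cfsg.IsNilpotentBlock p M f :=
    (Cfsg.Agent.S4650.result p M hM B hB P hPD hPab hP1 c hc T hT).mp hfree Q hQP hQ1 f hf
  have hTQ : ∀ g ∈ T, g ∈ Subgroup.centralizer (Q : Set G) →
      g ∈ Subgroup.centralizer (P : Set G) := by
    intro g hgT hgQ
    obtain ⟨q, hq1⟩ := (Subgroup.ne_bot_iff_exists_ne_one).mp hQ1
    have hcomm := Subgroup.mem_centralizer_iff.mp hgQ (q : G) q.2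
    apply hfree g hgT (q : G) (hQP q.2) (fun h => hq1 (Subtype.ext h))
    rw [← hcomm]; group
  have hNPQ := normalizer_le_normalizer_of_isCyclic P Q hcyc hQP
  -- pairs
  have hBP : Cfsg.IsBrauerPairOf p M B P c := (isInducedBlock_centralizer_iff hM P hP c B).mp hc
  have hmaxG : Cfsg.IsMaximalBrauerPair p M B P c :=
    isMaximalBrauerPair_of_isDefectGroup hM B P c hBP hPD
  have hns := isNormalSubpair_of_isInducedBlockIn hM P Q hQP hPab hP c f hf
  have hle : Cfsg.SubpairLE p M Q f P c := Relation.ReflTransGen.single hns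
  have hfb : Cfsg.IsPBlock M f := hf.2.1
  -- the centralizer level
  have hPH := le_centralizer_of_abelian P Q hQP hPab
  have hCH : Subgroup.centralizer (P : Set G) ≤ Subgroup.centralizer (Q : Set G) :=
    Subgroup.centralizer_le (SetLike.coe_subset_coe.mpr hQP)
  have himg : irrMap (centH _ P hPH hCH) '' (irrMap (centH _ P hPH hCH).symm '' c) = c :=
    image_irrMap_image_symm _ c
  have hP' : IsPGroup p (P.subgroupOf (Subgroup.centralizer (Q : Set G))) :=
    (isPGroup_subgroupOf_iff _ P hPH).mpr hP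
  have hf' := hf
  have hmaxG' := hmaxG
  rw [← himg] at hf' hmaxG'
  have hfI := (isInducedBlockIn_centH_iff _ P hPH hCH _ f).mp hf'
  have hfP := (isInducedBlock_centralizer_iff (G := Subgroup.centralizer (Q : Set G))
    hM _ hP' _ f).mp hfI
  have hmaxH := isMaximalBrauerPair_centH_of' hM _ P hPH hCH B _ hmaxG' f hfP
  have habH : ∀ x ∈ P.subgroupOf (Subgroup.centralizer (Q : Set G)),
      ∀ y ∈ P.subgroupOf (Subgroup.centralizer (Q : Set G)), x * y = y * x := by
    intro x hx y hy
    apply Subtype.ext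
    exact hPab _ (Subgroup.mem_subgroupOf.mp hx) _ (Subgroup.mem_subgroupOf.mp hy)
  have key := Cfsg.Agent.S4687.result p M hM f _ _ hmaxH habH
  have hcycH : IsCyclic (P.subgroupOf (Subgroup.centralizer (Q : Set G))) := by
    haveI := hcyc
    exact isCyclic_of_surjective (Subgroup.subgroupOfEquivOfLe hPH).symm
      (Subgroup.subgroupOfEquivOfLe hPH).symm.surjective
  have hT1 : stabSubgroup (P.subgroupOf (Subgroup.centralizer (Q : Set G)))
      (irrMap (centH _ P hPH hCH).symm '' c)
      ≤ Subgroup.centralizer ((P.subgroupOf (Subgroup.centralizer (Q : Set G)) :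
        Subgroup (Subgroup.centralizer (Q : Set G))) : Set (Subgroup.centralizer (Q : Set G))) := by
    intro x hx
    obtain ⟨hxN, hxst⟩ := (mem_stabSubgroup _ _ x).mp hx
    exact (key.mp hnil) x hxN hxst
  have h3 := blockRank_eq_one_of_isCyclic (G := Subgroup.centralizer (Q : Set G)) hM f _ _ hmaxH
    hcycH hT1
  refine ⟨?_, ?_, h3, hnil⟩
  · apply le_antisymm
    · intro x hx
      have hx' : x ∈ stabSubgroup Q f := (mem_stabSubgroup Q f x).mpr ((hT' x).mp hx)
      obtain ⟨y, hy, c', hc', rfl⟩ := exists_mul_of_mem_stabSubgroup hM B P c hmaxG hPab Q f hQP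
        hfb hle x hx'
      exact Subgroup.mul_mem _
        (Subgroup.mem_sup_left ((hT y).mpr ((mem_stabSubgroup P c y).mp hy)))
        (Subgroup.mem_sup_right hc')
    · rw [sup_le_iff]
      constructor
      · intro y hy
        have hy' : y ∈ stabSubgroup P c := (mem_stabSubgroup P c y).mpr ((hT y).mp hy)
        have hyQ : y ∈ Subgroup.normalizer (Q : Set G) := hNPQ ((hT y).mp hy).1
        have h4 := mem_stabSubgroup_of_subpairLE hM P Q c f hmaxG.1.1 hQP hle y hy' hyQ
        exact (hT' y).mpr ((mem_stabSubgroup Q f y).mp h4)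
      · intro y hy
        exact (hT' y).mpr ((mem_stabSubgroup Q f y).mp (centralizer_le_stabSubgroup Q f hy))
  · have hidx := (Cfsg.Agent.S4682.result p M hM B P c hmaxG hPab Q f hQP hfb hle T' hT' T hT).2
    have h1 : T ⊓ Subgroup.normalizer (Q : Set G) = T :=
      inf_of_le_left (hTN.trans hNPQ)
    have h2 : T ⊓ Subgroup.centralizer (Q : Set G) = Subgroup.centralizer (P : Set G) := by
      apply le_antisymm
      · rintro g ⟨hgT, hgQ⟩
        exact hTQ g hgT hgQ
      · apply le_inf _ hCH
        intro g hg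
        exact (hT g).mpr ((mem_stabSubgroup P c g).mp (centralizer_le_stabSubgroup P c hg))
    unfold Subgroup.relIndex
    rw [hidx, h1, h2]

end Cfsg.Agent.S4645
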