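import Mathlib
import Cfsg.Statements.S4646
import Cfsg.Agent.Lib.Helper24.Principal
import Cfsg.Agent.Lib.Helper24.PrincipalPairs
import Cfsg.Agent.Lib.Helper24.Defect
import Cfsg.Agent.Lib.Helper7.QuotientBlock
import Cfsg.Agent.Lib.Helper13.Frobenius
import Cfsg.Agent.S0938

set_option autoImplicit false
open Cfsg
open Cfsg.Agent.Lib.Helper2 Cfsg.Agent.Lib.Helper7 Cfsg.Agent.Lib.Helper24

namespace Cfsg.Agent.S4646

theorem pRegularPart_one_ne_zero {G : Type*} [Group G] (p : ℕ) [hp : Fact p.Prime] :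
    Cfsg.pRegularPart p (fun _ : G => (1 : ℂ)) ≠ 0 := by
  classical
  intro h
  have h1 := congrFun h 1
  unfold Cfsg.pRegularPart at h1
  have hreg : Cfsg.IsPRegular p (1 : G) := by
    unfold Cfsg.IsPRegular
    rw [orderOf_one]
    exact fun hd => hp.out.one_lt.ne' (Nat.dvd_one.mp hd)
  rw [if_pos hreg] at h1
  exact one_ne_zero h1

/-- For a finite group G, a prime p and a maximal ideal M of the algebraic integers containing p: the principal block of G is nilpotent if and only if its p-regular rank is 1 (the trivial Brauer character is its only irreducible Brauer character). -/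
theorem result {G : Type*} [Group G] [Finite G] (p : ℕ) [Fact p.Prime] (M : Ideal Cfsg.AlgInt) (hM : Cfsg.IsPModular p M) : Cfsg.IsNilpotentBlock p M (Cfsg.principalBlock M G) ↔ Cfsg.blockRank p (Cfsg.principalBlock M G) = 1 := by
  classical
  haveI : Fintype G := Fintype.ofFinite G
  have hp : p.Prime := Fact.out
  have hB : Cfsg.IsPBlock M (Cfsg.principalBlock M G) := isPBlock_principalBlock
  have htriv : trivIrr G ∈ Cfsg.principalBlock M G := trivIrr_mem_principalBlock hM
  obtain ⟨v, hv⟩ : ∃ v, v = Cfsg.pRegularPart p (fun _ : G => (1 : ℂ)) := ⟨_, rfl⟩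
  have hv0 : v ≠ 0 := hv ▸ pRegularPart_one_ne_zero p
  have hvmem : v ∈ Submodule.span ℂ ((fun χ : Cfsg.IrrCharacter G =>
      Cfsg.pRegularPart p (χ : G → ℂ)) '' Cfsg.principalBlock M G) := by
    apply Submodule.subset_span
    exact ⟨trivIrr G, htriv, hv.symm⟩
  have hcop : ∀ g : G, Cfsg.IsPRegular p g ↔ Nat.Coprime (orderOf g) p := by
    intro g
    unfold Cfsg.IsPRegular
    rw [Nat.coprime_comm, Nat.Prime.coprime_iff_not_dvd hp]
  constructor
  · rintro ⟨-, hnil⟩
    have hloc : Cfsg.Agent.Lib.Helper13.LocalCentral p G := by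
      intro Q hQ g hg hgc
      exact hnil Q _ (isBrauerPairOf_principal hM Q hQ) g hg
        (stabilizesBlock_principalBlock _ g (normalizer_le_normalizer_centralizer Q hg))
        ((hcop g).mpr hgc)
    obtain ⟨K, hKn, hKcop, k, hk⟩ :=
      Cfsg.Agent.Lib.Helper13.exists_normal_pPrime_of_localCentral_aux (p := p) _ G rfl hloc
    haveI := hKn
    have hKp : ¬ p ∣ Nat.card K := by
      rw [← Nat.Prime.coprime_iff_not_dvd hp]
      exact hKcop.symm
    have hker : ∀ χ ∈ Cfsg.principalBlock M G, ∀ g : G, Cfsg.IsPRegular p g →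
        (χ : G → ℂ) g = (χ : G → ℂ) 1 := by
      intro χ hχ g hg
      have hgK : g ∈ K :=
        Cfsg.Agent.Lib.Helper13.mem_of_coprime_of_index_pow K hk g ((hcop g).mp hg)
      exact kernel_of_sameBlock K hM hKp (trivIrr G) χ (fun n _ => rfl)
        (sameBlock_of_mem hM hB htriv hχ) g hgK
    have hspan : Submodule.span ℂ ((fun χ : Cfsg.IrrCharacter G =>
        Cfsg.pRegularPart p (χ : G → ℂ)) '' Cfsg.principalBlock M G) = Submodule.span ℂ {v} := by
      apply le_antisymm
      · rw [Submodule.span_le]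
        rintro _ ⟨χ, hχ, rfl⟩
        rw [SetLike.mem_coe, Submodule.mem_span_singleton]
        refine ⟨(χ : G → ℂ) 1, ?_⟩
        funext g
        rw [hv]
        show (χ : G → ℂ) 1 • Cfsg.pRegularPart p (fun _ : G => (1 : ℂ)) g
          = Cfsg.pRegularPart p (χ : G → ℂ) g
        unfold Cfsg.pRegularPart
        by_cases hg : Cfsg.IsPRegular p g
        · rw [if_pos hg, if_pos hg, hker χ hχ g hg, smul_eq_mul, mul_one]
        · rw [if_neg hg, if_neg hg, smul_zero]
      · rw [Submodule.span_le, Set.singleton_subset_iff]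
        exact hvmem
    unfold Cfsg.blockRank
    rw [hspan]
    exact finrank_span_singleton hv0
  · intro hrank
    unfold Cfsg.blockRank at hrank
    -- every member of the principal block is constant on `p`-regular elements
    have hker : ∀ χ ∈ Cfsg.principalBlock M G, ∀ g : G, Cfsg.IsPRegular p g →
        (χ : G → ℂ) g = (χ : G → ℂ) 1 := by
      intro χ hχ g hg
      have hwmem : Cfsg.pRegularPart p (χ : G → ℂ) ∈ Submodule.span ℂ
          ((fun χ : Cfsg.IrrCharacter G =>
            Cfsg.pRegularPart p (χ : G → ℂ)) '' Cfsg.principalBlock M G) :=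
        Submodule.subset_span ⟨χ, hχ, rfl⟩
      have hv0' : (⟨v, hvmem⟩ : ↥(Submodule.span ℂ ((fun χ : Cfsg.IrrCharacter G =>
          Cfsg.pRegularPart p (χ : G → ℂ)) '' Cfsg.principalBlock M G))) ≠ 0 := by
        intro h
        exact hv0 (congrArg Subtype.val h)
      obtain ⟨c, hc⟩ := (finrank_eq_one_iff_of_nonzero' _ hv0').mp hrank ⟨_, hwmem⟩
      have hc' : c • v = Cfsg.pRegularPart p (χ : G → ℂ) := congrArg Subtype.val hc
      have hreg1 : Cfsg.IsPRegular p (1 : G) := by
        unfold Cfsg.IsPRegular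
        rw [orderOf_one]
        exact fun hd => hp.one_lt.ne' (Nat.dvd_one.mp hd)
      have h1 := congrFun hc' 1
      have h2 := congrFun hc' g
      rw [hv] at h1 h2
      simp only [Pi.smul_apply, smul_eq_mul] at h1 h2
      unfold Cfsg.pRegularPart at h1 h2
      rw [if_pos hreg1, if_pos hreg1, mul_one] at h1
      rw [if_pos hg, if_pos hg, mul_one] at h2
      rw [← h2, h1]
    obtain ⟨K, hKn, hKset, hKp, -, -⟩ :=
      Cfsg.Agent.S0938.result p M hM (Cfsg.principalBlock M G) hB (trivIrr G) htriv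
    haveI := hKn
    have hmemK : ∀ g : G, Cfsg.IsPRegular p g → g ∈ K := by
      intro g hg
      have : g ∈ (K : Set G) := by
        rw [hKset]
        intro χ hχ
        exact hker χ hχ g hg
      exact this
    refine ⟨hB, ?_⟩
    intro Q e hQe x hxN _ hxreg
    have hQ : IsPGroup p Q := hQe.1.1
    rw [Subgroup.mem_centralizer_iff]
    intro q hq
    have hxK : x ∈ K := hmemK x hxreg
    have h1 : x * q * x⁻¹ * q⁻¹ ∈ Q :=
      Q.mul_mem ((Subgroup.mem_normalizer_iff.mp hxN q).mp hq) (Q.inv_mem hq)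
    have h2 : x * q * x⁻¹ * q⁻¹ ∈ K := by
      have e1 : x * q * x⁻¹ * q⁻¹ = x * (q * x⁻¹ * q⁻¹) := by group
      rw [e1]
      exact K.mul_mem hxK (hKn.conj_mem _ (K.inv_mem hxK) q)
    have h3 : x * q * x⁻¹ * q⁻¹ = 1 := by
      obtain ⟨n, hn⟩ := (IsPGroup.iff_orderOf.mp hQ) ⟨_, h1⟩
      rw [Subgroup.orderOf_mk] at hn
      have h4 : orderOf (x * q * x⁻¹ * q⁻¹) ∣ Nat.card K := by
        have := orderOf_dvd_natCard (⟨_, h2⟩ : K)
        rwa [Subgroup.orderOf_mk] at this
      rw [hn] at h4
      rw [← orderOf_eq_one_iff, hn]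
      cases n with
      | zero => rfl
      | succ n =>
        exfalso
        exact hKp (dvd_trans (dvd_pow_self p (Nat.succ_ne_zero n)) h4)
    have e2 : q * x = (x * q * x⁻¹ * q⁻¹)⁻¹ * (x * q) := by group
    rw [e2, h3, inv_one, one_mul]

end Cfsg.Agent.S4646
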