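import Mathlib
import Cfsg.Statements.S4651
import Cfsg.Agent.Lib.Helper24.KRChain
import Cfsg.Agent.Lib.Helper24.KRLocal

set_option autoImplicit false
open Cfsg
open scoped ComplexConjugate

namespace Cfsg.Agent.S4651

open Cfsg.Agent.Lib.Helper7 Cfsg.Agent.Lib.Helper24.KRChain Cfsg.Agent.Lib.Helper24.KRLocal

/-- An alternating-sum identity over chains of p-subgroups (the character-count form behind the chain reformulation of Alperin's weight conjecture, which holds unconditionally for the difference k − l). Let b be a block of the finite group G relative to a maximal ideal M of the algebraic integers containing the prime p. Consider the nonempty chains s = {Q_0 < Q_1 < ⋯ < Q_m} of nontrivial p-subgroups of G in which every member is normal in the largest member; let N_G(s) be the intersection of the normalizers of the members (the stabilizer of the chain), and let b_s be the set of irreducible characters of N_G(s) lying in blocks of N_G(s) that induce b. Then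 #G · (k(b) − l(b)) equals the sum over all such chains s of (−1)^m · #N_G(s) · (k(b_s) − l(b_s)), where k counts irreducible characters and l is the p-regular rank; equivalently, k(b) − l(b) is the alternating sum of k(b_s) − l(b_s) over representatives of the conjugacy classes of such chains. -/
theorem result {G : Type*} [Group G] [Finite G] (p : ℕ) [Fact p.Prime] (M : Ideal Cfsg.AlgInt) (hM : Cfsg.IsPModular p M) (b : Set (Cfsg.IrrCharacter G)) (hb : Cfsg.IsPBlock M b) : (Nat.card G : ℤ) * ((Nat.card b : ℤ) - (Cfsg.blockRank p b : ℤ)) = ∑ᶠ s ∈ {s : Finset (Subgroup G) | s.Nonempty ∧ (∀ Q ∈ s, ∀ R ∈ s, Q ≤ R ∨ R ≤ Q) ∧ (∀ Q ∈ s, Q ≠ ⊥ ∧ IsPGroup p Q) ∧ ∃ T ∈ s, ∀ Q ∈ s, Q ≤ T ∧ T ≤ Subgroup.normalizer ((Q : Subgroup G) : Set G)}, (-1 : ℤ) ^ (s.card - 1) * (Nat.card (((⨅ Q ∈ s, Subgroup.normalizer ((Q : Subgroup G) : Set G) : Subgroup G))) : ℤ) * ((Nat.card {ψ : Cfsg.IrrCharacter (((⨅ Q ∈ s, Subgroup.normalizer ((Q : Subgroup G) : Set G) : Subgroup G))) | ∃ β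 : Set (Cfsg.IrrCharacter (((⨅ Q ∈ s, Subgroup.normalizer ((Q : Subgroup G) : Set G) : Subgroup G)))), ψ ∈ β ∧ Cfsg.IsInducedBlock M (((⨅ Q ∈ s, Subgroup.normalizer ((Q : Subgroup G) : Set G) : Subgroup G))) β b} : ℤ) - (Cfsg.blockRank p {ψ : Cfsg.IrrCharacter (((⨅ Q ∈ s, Subgroup.normalizer ((Q : Subgroup G) : Set G) : Subgroup G))) | ∃ β : Set (Cfsg.IrrCharacter (((⨅ Q ∈ s, Subgroup.normalizer ((Q : Subgroup G) : Set G) : Subgroup G)))), ψ ∈ β ∧ Cfsg.IsInducedBlock M (((⨅ Q ∈ s, Subgroup.normalizer ((Q : Subgroup G) : Set G) : Subgroup G))) β b} : ℤ)) := by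
  classical
  letI : Fintype G := Fintype.ofFinite G
  -- the set of chains
  have hfin : {s : Finset (Subgroup G) | s.Nonempty ∧ (∀ Q ∈ s, ∀ R ∈ s, Q ≤ R ∨ R ≤ Q) ∧
      (∀ Q ∈ s, Q ≠ ⊥ ∧ IsPGroup p Q) ∧ ∃ T ∈ s, ∀ Q ∈ s, Q ≤ T ∧
        T ≤ Subgroup.normalizer ((Q : Subgroup G) : Set G)}.Finite := Set.toFinite _
  rw [finsum_mem_eq_finite_toFinset_sum _ hfin]
  obtain ⟨Ch, hCh⟩ : ∃ Ch : Finset (Finset (Subgroup G)), Ch = hfin.toFinset := ⟨_, rfl⟩
  rw [← hCh]
  have hmemCh : ∀ s, s ∈ Ch ↔ IsNormalChain p s := by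
    intro s
    rw [hCh, Set.Finite.mem_toFinset]
    rfl
  apply Int.cast_injective (α := ℂ)
  push_cast
  -- rewrite the summands through the local formula
  have hloc : ∀ s : Finset (Subgroup G),
      ((Nat.card (stab s) : ℂ) * ((Nat.card (indSet M b (stab s)) : ℂ)
        - (Cfsg.blockRank p (indSet M b (stab s)) : ℂ)))
      = ∑ g : G, if p ∣ orderOf g ∧ g ∈ stab s then
          kap M b (Subgroup.centralizer ({pPt p g} : Set G) ⊓ stab s) (pRg p g) else 0 :=
    fun s => local_formula hM b (stab s)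
  have hsummand : ∀ s : Finset (Subgroup G),
      (-1 : ℂ) ^ (s.card - 1)
        * (Nat.card (((⨅ Q ∈ s, Subgroup.normalizer ((Q : Subgroup G) : Set G) : Subgroup G))) : ℂ)
        * ((Nat.card {ψ : Cfsg.IrrCharacter (((⨅ Q ∈ s, Subgroup.normalizer ((Q : Subgroup G) : Set G) : Subgroup G))) | ∃ β : Set (Cfsg.IrrCharacter (((⨅ Q ∈ s, Subgroup.normalizer ((Q : Subgroup G) : Set G) : Subgroup G)))), ψ ∈ β ∧ Cfsg.IsInducedBlock M (((⨅ Q ∈ s, Subgroup.normalizer ((Q : Subgroup G) : Set G) : Subgroup G))) β b} : ℂ)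
          - (Cfsg.blockRank p {ψ : Cfsg.IrrCharacter (((⨅ Q ∈ s, Subgroup.normalizer ((Q : Subgroup G) : Set G) : Subgroup G))) | ∃ β : Set (Cfsg.IrrCharacter (((⨅ Q ∈ s, Subgroup.normalizer ((Q : Subgroup G) : Set G) : Subgroup G)))), ψ ∈ β ∧ Cfsg.IsInducedBlock M (((⨅ Q ∈ s, Subgroup.normalizer ((Q : Subgroup G) : Set G) : Subgroup G))) β b} : ℂ))
      = ∑ g : G, (-1 : ℂ) ^ (s.card - 1) * (if p ∣ orderOf g ∧ g ∈ stab s then
          kap M b (Subgroup.centralizer ({pPt p g} : Set G) ⊓ stab s) (pRg p g) else 0) := by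
    intro s
    rw [mul_assoc, ← Finset.mul_sum, ← hloc s]
    rfl
  rw [Finset.sum_congr rfl (fun s _ => hsummand s), Finset.sum_comm, global_formula hM b hb]
  apply Finset.sum_congr rfl
  intro g _
  by_cases hsing : p ∣ orderOf g
  swap
  · rw [if_neg hsing]
    symm
    apply Finset.sum_eq_zero
    intro s _
    rw [if_neg (fun h => hsing h.1), mul_zero]
  rw [if_pos hsing]
  -- the alternating sum
  have hx : ∃ k : ℕ, orderOf (pPt p g) = p ^ k := pPt_orderOf p g
  have hx1 : pPt p g ≠ 1 := pPt_ne_one_of_singular hsing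
  have hxz : pPt p g ∈ Subgroup.zpowers g := isPPart_mem_zpowers p (pPt_spec p g)
  have hgC : g ∈ Subgroup.centralizer ({pPt p g} : Set G) := by
    rw [Subgroup.mem_centralizer_singleton_iff]
    obtain ⟨k, hk⟩ := Subgroup.mem_zpowers_iff.mp hxz
    rw [← hk]
    exact ((Commute.refl g).zpow_right k).eq
  have hX1 : Subgroup.zpowers (pPt p g) ≠ ⊥ := by
    rw [Ne, Subgroup.zpowers_eq_bot]
    exact hx1
  have halt := alternating_sum (R := ℂ) (p := p) (Subgroup.zpowers (pPt p g))
    (Subgroup.centralizer ({pPt p g} : Set G)) (isPGroup_zpowers _ hx) hX1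
    (centralizer_le_normalizer_zpowers _) g hgC
    (fun K hK => Subgroup.zpowers_le.mpr ((Subgroup.zpowers_le.mpr hK) hxz))
    (Ch.filter (fun s => g ∈ stab s))
    (fun s => by rw [Finset.mem_filter, hmemCh])
    (fun L => kap M b L (pRg p g))
  have hinf : Subgroup.centralizer ({pPt p g} : Set G)
      ⊓ stab ({Subgroup.zpowers (pPt p g)} : Finset (Subgroup G))
      = Subgroup.centralizer ({pPt p g} : Set G) := by
    rw [stab_singleton]
    exact inf_eq_left.mpr (centralizer_le_normalizer_zpowers _)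
  rw [hinf] at halt
  rw [← halt, Finset.sum_filter]
  apply Finset.sum_congr rfl
  intro s _
  by_cases hgs : g ∈ stab s
  · rw [if_pos hgs, if_pos ⟨hsing, hgs⟩]
  · rw [if_neg hgs, if_neg (fun h => hgs h.2), mul_zero]

end Cfsg.Agent.S4651
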