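import Mathlib
import Cfsg.Prelude.Def_Blocks
import Cfsg.Agent.Lib.Helper24.Defect
import Cfsg.Agent.Lib.Helper24.FrobSchur

set_option autoImplicit false
open Cfsg

namespace Cfsg.Agent.S4652

open Cfsg.Agent.Lib.Helper24 Cfsg.Agent.Lib.Helper2
open scoped Pointwise

section

variable {G : Type*} [Group G] [Fintype G] {p : ℕ} [Fact p.Prime] {M : Ideal Cfsg.AlgInt}

theorem principal_isPBlock : Cfsg.IsPBlock M (Cfsg.principalBlock M G) :=
  ⟨trivIrr G, rfl⟩

theorem trivIrr_mem (hM : Cfsg.IsPModular p M) : trivIrr G ∈ Cfsg.principalBlock M G :=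
  mem_blockOf_self hM (trivIrr G)

/-- for a defect class of the principal block, the class size is prime to `p` -/
theorem not_dvd_index (hM : Cfsg.IsPModular p M) {g : G}
    (hg : Cfsg.IsDefectClass M (Cfsg.principalBlock M G) g) :
    ¬ p ∣ (Subgroup.centralizer ({g} : Set G)).index := by
  intro hdvd
  have h1 := hg.2.2 (trivIrr G) (trivIrr_mem hM)
  apply h1
  have h2 : Cfsg.centralChar ((trivIrr G : Cfsg.IrrCharacter G) : G → ℂ) g
      = ((Subgroup.centralizer ({g} : Set G)).index : ℂ) := by
    unfold Cfsg.centralChar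
    rw [trivIrr_apply, trivIrr_apply, mul_one, div_one]
  rw [h2]
  exact (memLocalIdeal_natCast_iff hM _).mpr hdvd

theorem factorization_centralizer (hM : Cfsg.IsPModular p M) {g : G}
    (hg : Cfsg.IsDefectClass M (Cfsg.principalBlock M G) g) :
    (Nat.card (Subgroup.centralizer ({g} : Set G))).factorization p
      = (Nat.card G).factorization p := by
  have h1 := Subgroup.card_mul_index (Subgroup.centralizer ({g} : Set G))
  have h2 := not_dvd_index hM hg
  have hc : Nat.card (Subgroup.centralizer ({g} : Set G)) ≠ 0 := Nat.card_pos.ne'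
  have hi : (Subgroup.centralizer ({g} : Set G)).index ≠ 0 := Subgroup.index_ne_zero_of_finite
  rw [← h1, Nat.factorization_mul hc hi, Finsupp.add_apply,
    Nat.factorization_eq_zero_of_not_dvd h2, add_zero]

end

/-- Fix a prime p and a maximal ideal M of the algebraic integers containing p. The defect groups of the principal p-block of a finite group G are exactly the Sylow p-subgroups of G: a subgroup D is a defect group of the principal block if and only if D is a Sylow p-subgroup. -/
theorem result {G : Type*} [Group G] [Fintype G] (p : ℕ) [Fact p.Prime] (M : Ideal Cfsg.AlgInt) (hM : Cfsg.IsPModular p M) (D : Subgroup G) : Cfsg.IsDefectGroup p M (Cfsg.principalBlock M G) D ↔ ∃ S : Sylow p G, (S : Subgroup G) = D := by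
  constructor
  · intro h
    obtain ⟨g, hg, hD, hcard⟩ := exists_of_isDefectGroup h
    rw [factorization_centralizer hM hg] at hcard
    exact ⟨Sylow.ofCard D hcard, Sylow.coe_ofCard D hcard⟩
  · rintro ⟨S, rfl⟩
    obtain ⟨g, hg⟩ := exists_isDefectClass hM (Cfsg.principalBlock M G) principal_isPBlock
    obtain ⟨D₀, hD₀⟩ := exists_isDefectGroup hM (Cfsg.principalBlock M G) principal_isPBlock
    obtain ⟨g, hg, hD₀C, hcard⟩ := exists_of_isDefectGroup hD₀
    have hcard' := hcard
    rw [factorization_centralizer hM hg] at hcard'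
    obtain ⟨y, hy⟩ := MulAction.exists_smul_eq G (Sylow.ofCard D₀ hcard') S
    have hS : (S : Subgroup G) = MulAut.conj y • D₀ := by
      rw [← hy, Sylow.coe_subgroup_smul, Sylow.coe_ofCard]
    have hg' : Cfsg.IsDefectClass M (Cfsg.principalBlock M G) (y * g * y⁻¹) :=
      isDefectClass_conj hg y
    apply isDefectGroup_of_le_centralizer hg'
    · intro s hs
      rw [hS, Subgroup.mem_pointwise_smul_iff_inv_smul_mem] at hs
      have h1 : (MulAut.conj y)⁻¹ • s = y⁻¹ * s * y := by
        simp [MulAut.smul_def]
      rw [h1] at hs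
      have h2 := hD₀C hs
      rw [Subgroup.mem_centralizer_iff] at h2 ⊢
      intro z hz
      rw [Set.mem_singleton_iff] at hz
      subst hz
      have h3 := h2 g (Set.mem_singleton g)
      -- g * (y⁻¹ s y) = (y⁻¹ s y) * g
      calc y * g * y⁻¹ * s = y * (g * (y⁻¹ * s * y)) * y⁻¹ := by group
        _ = y * ((y⁻¹ * s * y) * g) * y⁻¹ := by rw [h3]
        _ = s * (y * g * y⁻¹) := by group
    · rw [factorization_centralizer hM hg']
      exact S.card_eq_multiplicity

end Cfsg.Agent.S4652
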