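import Mathlib
import Cfsg.Statements.S4663
import Cfsg.Agent.Lib.Helper24.Principal

set_option autoImplicit false
open Cfsg

namespace Cfsg.Agent.S4663

theorem result {G : Type*} [Group G] [Fintype G] (p : ℕ) [Fact p.Prime] (M : Ideal Cfsg.AlgInt) (hM : Cfsg.IsPModular p M) (Q : Subgroup G) (hQ : IsPGroup p Q) (e : Set (Cfsg.IrrCharacter (Subgroup.centralizer (Q : Set G)))) (he : Cfsg.IsPBlock M e) : Cfsg.IsBrauerPairOf p M (Cfsg.principalBlock M G) Q e ↔ e = Cfsg.principalBlock M (Subgroup.centralizer (Q : Set G)) := by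
  constructor
  · intro h
    exact Cfsg.Agent.Lib.Helper24.eq_principalBlock_of_isBrauerPairOf hM Q e h
  · rintro rfl
    exact Cfsg.Agent.Lib.Helper24.isBrauerPairOf_principal hM Q hQ

end Cfsg.Agent.S4663
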