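import Mathlib
import Cfsg.Prelude.Def_Blocks
import Cfsg.Agent.Lib.Helper24.BlockOrtho

set_option autoImplicit false
open Cfsg

namespace Cfsg.Agent.S4664

open Cfsg.Agent.Lib.Helper24 Cfsg.Agent.Lib.Helper2
open scoped ComplexConjugate

/-- Fix a prime p and a maximal ideal M of the algebraic integers containing p, and let B be a p-block of the finite group G. Let m be the p'-part of the order of G and η = exp(2πi/m). Then every coefficient of the idempotent of B lies in the cyclotomic field ℚ(η). -/
theorem result {G : Type*} [Group G] [Fintype G] (p : ℕ) [Fact p.Prime] (M : Ideal Cfsg.AlgInt) (hM : Cfsg.IsPModular p M) (B : Set (Cfsg.IrrCharacter G)) (hB : Cfsg.IsPBlock M B) (g : G) : Cfsg.blockCoeff B g ∈ IntermediateField.adjoin ℚ ({Complex.exp (2 * Real.pi * Complex.I / ((Nat.card G / p ^ (Nat.card G).factorization p : ℕ) : ℂ))} : Set ℂ) := by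
  classical
  haveI : Fintype (Cfsg.IrrCharacter G) := Fintype.ofFinite _
  set m : ℕ := Nat.card G / p ^ (Nat.card G).factorization p with hm
  set η : ℂ := Complex.exp (2 * Real.pi * Complex.I / (m : ℂ)) with hη
  set K := IntermediateField.adjoin ℚ ({η} : Set ℂ) with hK
  by_cases hg : p ∣ orderOf g
  · rw [blockCoeff_eq_zero_of_singular hM B hB g hg]
    exact K.zero_mem
  have hp : p.Prime := Fact.out
  have hcard : Nat.card G ≠ 0 := Nat.card_pos.ne'
  have hdvd : p ^ (Nat.card G).factorization p ∣ Nat.card G := Nat.ordProj_dvd _ _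
  have hGm : Nat.card G = p ^ (Nat.card G).factorization p * m := by
    rw [hm, Nat.mul_div_cancel' hdvd]
  have hm0 : m ≠ 0 := by
    intro h0
    rw [h0, mul_zero] at hGm
    exact hcard hGm
  have hprim : IsPrimitiveRoot η m := Complex.isPrimitiveRoot_exp m hm0
  have hηK : η ∈ K := IntermediateField.subset_adjoin ℚ _ (Set.mem_singleton η)
  have hog : orderOf g ∣ m := by
    have h1 : orderOf g ∣ p ^ (Nat.card G).factorization p * m := by
      rw [← hGm]; exact orderOf_dvd_natCard g
    have hcop : Nat.Coprime (orderOf g) (p ^ (Nat.card G).factorization p) :=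
      Nat.Coprime.pow_right _ ((Nat.Prime.coprime_iff_not_dvd hp).mpr hg).symm
    exact hcop.dvd_of_dvd_mul_left h1
  have hroot : ∀ z : ℂ, z ^ m = 1 → z ∈ K := by
    intro z hz
    haveI : NeZero m := ⟨hm0⟩
    obtain ⟨i, _, rfl⟩ := hprim.eq_pow_of_pow_eq_one hz
    exact K.pow_mem hηK i
  rw [blockCoeff_eq_sum]
  apply K.mul_mem
  · apply K.inv_mem
    exact natCast_mem K (Nat.card G)
  · apply K.sum_mem
    intro χ _
    split_ifs with hχ
    · apply K.mul_mem
      · obtain ⟨n, hn⟩ := Cfsg.Agent.Lib.Helper25.char_one_eq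
          (Cfsg.Agent.Lib.Helper25.isCharacter_of_irr χ.2)
        rw [hn]
        exact natCast_mem K n
      · obtain ⟨n, ρ, _, hρ⟩ := χ.2
        obtain ⟨μ, hμ, _, h2⟩ := exists_eigenvalues ρ g
        have h3 := h2 1
        rw [pow_one, hρ, IrrCharacter.apply_inv] at h3
        rw [h3]
        apply K.sum_mem
        intro i _
        apply hroot
        rw [pow_one, ← map_pow]
        obtain ⟨c, hc⟩ := hog
        rw [hc, pow_mul, hμ i, one_pow, map_one]
    · exact K.zero_mem

end Cfsg.Agent.S4664
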