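import Mathlib
import Cfsg.Agent.Lib.Helper2.Orthogonality
import Cfsg.Statements.S4665

set_option autoImplicit false
open Cfsg

namespace Cfsg.Agent.S4665

/-- The sum of the values of an irreducible character over a subgroup `P` is `|P|` times a natural
number (the dimension of the `P`-fixed space). -/
theorem sum_subgroup_char {G : Type*} [Group G] [Finite G] (P : Subgroup G) [Fintype P]
    (ψ : Cfsg.IrrCharacter G) :
    ∃ d : ℕ, ∑ x : P, (ψ : G → ℂ) x = (Nat.card P : ℂ) * d := by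
  classical
  obtain ⟨ψ, n, ρ, _, rfl⟩ := ψ
  have hne : (Nat.card P : ℂ) ≠ 0 := by
    have : Nat.card P ≠ 0 := Nat.card_pos.ne'
    exact_mod_cast this
  have hinv : Invertible (Nat.card P : ℂ) := invertibleOfNonzero hne
  have h := Representation.card_inv_mul_sum_char_eq_finrank (ρ.comp P.subtype)
  refine ⟨Module.finrank ℂ (Representation.invariants (ρ.comp P.subtype)), ?_⟩
  rw [← h, ← mul_assoc, mul_inv_cancel₀ hne, one_mul]
  rfl

theorem result {G : Type*} [Group G] [Fintype G] (p : ℕ) [Fact p.Prime] (M : Ideal Cfsg.AlgInt) (hM : Cfsg.IsPModular p M) (B : Set (Cfsg.IrrCharacter G)) (hB : Cfsg.IsPBlock M B) (χ : G → ℂ) (hχ : (∃ n : Cfsg.IrrCharacter G → ℤ, ∀ g : G, χ g = ∑ᶠ ψ ∈ B, (n ψ : ℂ) * (ψ : G → ℂ) g)) (h0 : (∃ n : Cfsg.IrrCharacter G → ℤ, ∀ g : G, Cfsg.pRegularPart p χ g = ∑ᶠ ψ ∈ B, (n ψ : ℂ) * (ψ : G → ℂ) g)) : ∃ k : ℤ, χ 1 = (p ^ (Nat.card G).factorization p : ℂ) * k := by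
  classical
  obtain ⟨m, hm⟩ := h0
  have hp : p.Prime := Fact.out
  obtain ⟨P⟩ : Nonempty (Sylow p G) := inferInstance
  have hfinI : Finite (Cfsg.IrrCharacter G) := Cfsg.Agent.Lib.Helper2.finite_irrCharacter
  have hBfin : B.Finite := Set.toFinite B
  choose d hd using fun ψ : Cfsg.IrrCharacter G => sum_subgroup_char (P : Subgroup G) ψ
  -- the p-regular part vanishes at nonidentity elements of P
  have hvan : ∀ x : (P : Subgroup G), x ≠ 1 → Cfsg.pRegularPart p χ x = 0 := by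
    intro x hx1
    unfold Cfsg.pRegularPart
    have hsing : ¬ Cfsg.IsPRegular p (x : G) := by
      unfold Cfsg.IsPRegular
      rw [not_not]
      obtain ⟨k, hk⟩ := IsPGroup.iff_orderOf.mp P.isPGroup' x
      rw [Subgroup.orderOf_coe]
      rcases Nat.eq_zero_or_pos k with rfl | hkpos
      · rw [pow_zero, orderOf_eq_one_iff] at hk
        exact absurd hk hx1
      · rw [hk]; exact dvd_pow_self p hkpos.ne'
    simp [hsing]
  have h1 : Cfsg.pRegularPart p χ 1 = χ 1 := by
    unfold Cfsg.pRegularPart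
    have : Cfsg.IsPRegular p (1 : G) := by
      unfold Cfsg.IsPRegular
      rw [orderOf_one]
      exact hp.not_dvd_one
    simp [this]
  -- sum over P of the p-regular part
  have hsum1 : ∑ x : (P : Subgroup G), Cfsg.pRegularPart p χ x = χ 1 := by
    rw [← h1]
    rw [Finset.sum_eq_single (1 : (P : Subgroup G))]
    · rfl
    · intro x _ hx; exact hvan x hx
    · intro h; exact absurd (Finset.mem_univ _) h
  have hsum2 : ∑ x : (P : Subgroup G), Cfsg.pRegularPart p χ x =
      (Nat.card (P : Subgroup G) : ℂ) * ((∑ ψ ∈ hBfin.toFinset, m ψ * (d ψ : ℤ) : ℤ) : ℂ) := by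
    have : ∀ x : (P : Subgroup G), Cfsg.pRegularPart p χ x =
        ∑ ψ ∈ hBfin.toFinset, (m ψ : ℂ) * (ψ : G → ℂ) x := by
      intro x
      rw [hm x, finsum_mem_eq_finite_toFinset_sum _ hBfin]
    simp_rw [this]
    rw [Finset.sum_comm]
    push_cast
    rw [Finset.mul_sum]
    apply Finset.sum_congr rfl
    intro ψ _
    rw [← Finset.mul_sum, hd ψ]
    ring
  rw [hsum1] at hsum2
  refine ⟨∑ ψ ∈ hBfin.toFinset, m ψ * (d ψ : ℤ), ?_⟩
  rw [hsum2, P.card_eq_multiplicity]
  push_cast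
  rfl

end Cfsg.Agent.S4665
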