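import Mathlib
import Cfsg.Statements.S4666
import Cfsg.Agent.Lib.Helper24.Contribution

set_option autoImplicit false
open Cfsg

namespace Cfsg.Agent.S4666

open Cfsg.Agent.Lib.Helper2 Cfsg.Agent.Lib.Helper24
open scoped ComplexConjugate

/-- Fix a prime p and a maximal ideal M of the algebraic integers containing p, and a p-block B of the finite group G of defect d. For every integer combination χ of the irreducible characters in B, p^d times the function that agrees with χ on p-regular elements and vanishes elsewhere is again an integer combination of the irreducible characters in B. -/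
theorem result {G : Type*} [Group G] [Fintype G] (p : ℕ) [Fact p.Prime] (M : Ideal Cfsg.AlgInt) (hM : Cfsg.IsPModular p M) (B : Set (Cfsg.IrrCharacter G)) (hB : Cfsg.IsPBlock M B) (χ : G → ℂ) (hχ : (∃ n : Cfsg.IrrCharacter G → ℤ, ∀ g : G, χ g = ∑ᶠ ψ ∈ B, (n ψ : ℂ) * (ψ : G → ℂ) g)) : (∃ n : Cfsg.IrrCharacter G → ℤ, ∀ g : G, (p ^ Cfsg.blockDefect p B : ℂ) * Cfsg.pRegularPart p χ g = ∑ᶠ ψ ∈ B, (n ψ : ℂ) * (ψ : G → ℂ) g) := by
  classical
  haveI : Fintype (Cfsg.IrrCharacter G) := Fintype.ofFinite _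
  obtain ⟨n₀, hn₀⟩ := hχ
  have hc : ∀ ψ μ : Cfsg.IrrCharacter G, ∃ c : ℤ, ψ ∈ B →
      (p : ℂ) ^ Cfsg.blockDefect p B
        * Cfsg.classInner (Cfsg.pRegularPart p (ψ : G → ℂ)) (μ : G → ℂ) = (c : ℂ) := by
    intro ψ μ
    by_cases hψ : ψ ∈ B
    · obtain ⟨c, hc⟩ := exists_int_pow_defect_mul_classInner hM B ψ μ hψ
      exact ⟨c, fun _ => hc⟩
    · exact ⟨0, fun h => absurd h hψ⟩
  choose c hc using hc
  refine ⟨fun μ => ∑ ψ : Cfsg.IrrCharacter G, if ψ ∈ B then n₀ ψ * c ψ μ else 0, ?_⟩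
  intro g
  have h1 : Cfsg.pRegularPart p χ g = ∑ ψ : Cfsg.IrrCharacter G,
      if ψ ∈ B then (n₀ ψ : ℂ) * Cfsg.pRegularPart p (ψ : G → ℂ) g else 0 := by
    by_cases hg : p ∣ orderOf g
    · rw [pRegularPart_of_singular _ hg]
      symm
      apply Finset.sum_eq_zero
      intro ψ _
      rw [pRegularPart_of_singular _ hg, mul_zero, ite_self]
    · rw [pRegularPart_of_regular _ hg, hn₀ g, finsum_mem_eq_sum_ite]
      apply Finset.sum_congr rfl
      intro ψ _
      rw [pRegularPart_of_regular _ hg]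
  have h2 : ∀ ψ : Cfsg.IrrCharacter G, ψ ∈ B →
      (p : ℂ) ^ Cfsg.blockDefect p B * Cfsg.pRegularPart p (ψ : G → ℂ) g
        = ∑ μ : Cfsg.IrrCharacter G, if μ ∈ B then (c ψ μ : ℂ) * (μ : G → ℂ) g else 0 := by
    intro ψ hψ
    have h := congrFun (pRegularPart_eq_sum_block hM B hB ψ hψ) g
    rw [h, Finset.sum_apply, Finset.mul_sum]
    apply Finset.sum_congr rfl
    intro μ _
    by_cases hμ : μ ∈ B
    · rw [if_pos hμ, if_pos hμ, Pi.smul_apply, smul_eq_mul, ← mul_assoc, hc ψ μ hψ]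
    · rw [if_neg hμ, if_neg hμ, Pi.zero_apply, mul_zero]
  have h3 : ∀ ψ : Cfsg.IrrCharacter G, (p : ℂ) ^ Cfsg.blockDefect p B
        * (if ψ ∈ B then (n₀ ψ : ℂ) * Cfsg.pRegularPart p (ψ : G → ℂ) g else 0)
      = ∑ μ : Cfsg.IrrCharacter G, if μ ∈ B then
          (if ψ ∈ B then (n₀ ψ : ℂ) * (c ψ μ : ℂ) else 0) * (μ : G → ℂ) g else 0 := by
    intro ψ
    by_cases hψ : ψ ∈ B
    · simp only [if_pos hψ]
      rw [mul_left_comm, h2 ψ hψ, Finset.mul_sum]
      apply Finset.sum_congr rfl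
      intro μ _
      by_cases hμ : μ ∈ B
      · rw [if_pos hμ, if_pos hμ]
        ring
      · rw [if_neg hμ, if_neg hμ, mul_zero]
    · simp only [if_neg hψ, mul_zero, zero_mul, ite_self, Finset.sum_const_zero]
  rw [h1, Finset.mul_sum, finsum_mem_eq_sum_ite, Finset.sum_congr rfl (fun ψ _ => h3 ψ),
    Finset.sum_comm]
  apply Finset.sum_congr rfl
  intro μ _
  by_cases hμ : μ ∈ B
  · simp only [if_pos hμ]
    rw [← Finset.sum_mul, Int.cast_sum]
    congr 1
    apply Finset.sum_congr rfl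
    intro ψ _
    by_cases hψ : ψ ∈ B
    · rw [if_pos hψ, if_pos hψ, Int.cast_mul]
    · rw [if_neg hψ, if_neg hψ, Int.cast_zero]
  · simp only [if_neg hμ, Finset.sum_const_zero]

end Cfsg.Agent.S4666
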