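import Mathlib
import Cfsg.Prelude.Def_Blocks
import Cfsg.Agent.Lib.Helper24.BlockOrtho
import Cfsg.Agent.Lib.Helper24.NormalPCentral
import Cfsg.Agent.Lib.Helper17.Coprime

set_option autoImplicit false
open Cfsg

namespace Cfsg.Agent.S4668

open Cfsg.Agent.Lib.Helper24

section

variable {G : Type*} [Group G] [Finite G] {p : ℕ} [Fact p.Prime]

/-- A `p'`-element normalizing every member of a chain of `p`-subgroups and centralizing the
normalizer of the chain inside the top member centralizes the top member. -/
theorem centralizes_top (m : ℕ) (Q : Fin (m + 1) → Subgroup G) (hQ : StrictMono Q)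
    (hQp : ∀ i, IsPGroup p (Q i)) (a : G) (ha : (orderOf a).Coprime p)
    (haN : ∀ i, a ∈ Subgroup.normalizer (Q i : Set G))
    (hD : ∀ y ∈ Q (Fin.last m), (∀ i, y ∈ Subgroup.normalizer (Q i : Set G)) → a * y = y * a) :
    ∀ i : Fin (m + 1), ∀ x ∈ Q i, a * x = x * a := by
  intro i
  induction i using Fin.induction with
  | zero =>
    intro x hx
    apply hD x (hQ.monotone (Fin.le_last 0) hx)
    intro j
    exact Subgroup.le_normalizer (hQ.monotone (Fin.zero_le j) hx)
  | succ i ih =>
    apply Cfsg.Agent.Lib.Helper17.thompson_AxB (hQp i.castSucc) ha ih _ (Q i.succ) rfl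
      (hQp i.succ) (haN i.succ)
      (le_trans (hQ.monotone (le_of_lt Fin.castSucc_lt_succ)) Subgroup.le_normalizer)
    intro x hx hxB
    apply hD x (hQ.monotone (Fin.le_last _) hx)
    intro j
    by_cases hj : i.succ ≤ j
    · exact Subgroup.le_normalizer (hQ.monotone hj hx)
    · have hj' : j ≤ i.castSucc := by
        rw [not_le] at hj
        rw [Fin.le_def]
        have := Fin.lt_def.mp hj
        simp only [Fin.val_succ, Fin.val_castSucc] at this ⊢
        omega
      rw [Subgroup.mem_normalizer_iff]
      intro y
      constructor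
      · intro hy
        have h1 := hxB y (hQ.monotone hj' hy)
        have : x * y * x⁻¹ = y := by
          rw [← h1]; group
        rw [this]; exact hy
      · intro hy
        have h1 := hxB _ (hQ.monotone hj' hy)
        have h2 : y = x * y * x⁻¹ := by
          have h3 : x * y = x * (x * y * x⁻¹) := by
            rw [← h1]; group
          exact mul_left_cancel h3
        rw [h2]; exact hy

end

/-- Fix a prime p and a maximal ideal M of the algebraic integers containing p. Let Q₀ < Q₁ < ⋯ < Q_m be a strictly increasing chain of p-subgroups of the finite group G and N the intersection of their normalizers. Then every block idempotent of N is supported on C_G(Q_m): for every p-block E of N, the idempotent coefficient of E vanishes at every element of N outside C_G(Q_m). -/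
theorem result {G : Type*} [Group G] [Fintype G] (p : ℕ) [Fact p.Prime] (M : Ideal Cfsg.AlgInt) (hM : Cfsg.IsPModular p M) (m : ℕ) (Q : Fin (m + 1) → Subgroup G) (hQ : StrictMono Q) (hQp : ∀ i, IsPGroup p (Q i)) (N : Subgroup G) (hN : ∀ g : G, g ∈ N ↔ ∀ i, g ∈ Subgroup.normalizer (Q i : Set G)) (E : Set (Cfsg.IrrCharacter N)) (hE : Cfsg.IsPBlock M E) (n : N) (hn : (n : G) ∉ Subgroup.centralizer (Q (Fin.last m) : Set G)) : Cfsg.blockCoeff E n = 0 := by
  classical
  haveI : Fintype N := Fintype.ofFinite N
  have hp : p.Prime := Fact.out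
  by_cases hsing : p ∣ orderOf n
  · exact blockCoeff_eq_zero_of_singular hM E hE n hsing
  -- the normal p-subgroup D = Q_m ∩ N of N
  set D : Subgroup G := Q (Fin.last m) ⊓ N with hD
  set Dn : Subgroup N := D.subgroupOf N with hDn
  haveI hDnormal : Dn.Normal := by
    constructor
    intro y hy c
    rw [hDn, Subgroup.mem_subgroupOf] at hy ⊢
    rw [hD, Subgroup.mem_inf] at hy ⊢
    refine ⟨?_, (c * y * c⁻¹).2⟩
    have hc := (hN c).mp c.2 (Fin.last m)
    rw [Subgroup.mem_normalizer_iff] at hc
    have := (hc y).mp hy.1
    simpa using this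
  have hDp : IsPGroup p Dn := by
    have h1 : IsPGroup p D := (hQp (Fin.last m)).to_le inf_le_left
    exact h1.comap_subtype
  by_cases hcen : n ∈ Subgroup.centralizer (Dn : Set N)
  · exfalso
    apply hn
    have ha : (orderOf (n : G)).Coprime p := by
      rw [Subgroup.orderOf_coe]
      exact ((Nat.Prime.coprime_iff_not_dvd hp).mpr hsing).symm
    have key := centralizes_top m Q hQ hQp (n : G) ha ((hN n).mp n.2) (by
      intro y hy hyN
      have hyNmem : y ∈ N := (hN y).mpr hyN
      have hyD : (⟨y, hyNmem⟩ : N) ∈ Dn := by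
        rw [hDn, Subgroup.mem_subgroupOf, hD, Subgroup.mem_inf]
        exact ⟨hy, hyNmem⟩
      rw [Subgroup.mem_centralizer_iff] at hcen
      have h1 := hcen ⟨y, hyNmem⟩ hyD
      have h2 := congrArg Subtype.val h1
      simp only [Subgroup.coe_mul] at h2
      exact h2.symm)
    rw [Subgroup.mem_centralizer_iff]
    intro y hy
    exact (key (Fin.last m) y hy).symm
  · haveI : (Subgroup.centralizer (Dn : Set N)).Normal := Subgroup.normal_centralizer
    exact blockCoeff_eq_zero_of_notMem hM (Subgroup.centralizer (Dn : Set N))
      (fun x hx χ => centralChar_memLocalIdeal_of_notMem_centralizer hM Dn hDp x hx χ) E hE n hcen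

end Cfsg.Agent.S4668
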