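import Mathlib
import Cfsg.Statements.S4670
import Cfsg.Agent.Lib.Helper24.OverNormalizer

set_option autoImplicit false
open Cfsg

namespace Cfsg.Agent.S4670

open Cfsg.Agent.Lib.Helper2 Cfsg.Agent.Lib.Helper7 Cfsg.Agent.Lib.Helper24

theorem result {G : Type*} [Group G] [Fintype G] (p : ℕ) [Fact p.Prime] (M : Ideal Cfsg.AlgInt) (hM : Cfsg.IsPModular p M) (P H : Subgroup G) (hP : IsPGroup p P) (hH : Subgroup.normalizer (P : Set G) ≤ H) : (∀ B : Set (Cfsg.IrrCharacter G), Cfsg.IsPBlock M B → Cfsg.IsDefectGroup p M B P → ∃! c : Set (Cfsg.IrrCharacter H), Cfsg.IsPBlock M c ∧ Cfsg.IsDefectGroup p M c (P.subgroupOf H) ∧ ∀ x : G, x ∈ Subgroup.centralizer (P : Set G) → Cfsg.MemLocalIdeal M (Cfsg.blockCoeff B x - Cfsg.subgroupBlockCoeff H c x)) ∧ (∀ c : Set (Cfsg.IrrCharacter H), Cfsg.IsPBlock M c → Cfsg.IsDefectGroup p M c (P.subgroupOf H) → ∃! B : Set (Cfsg.IrrCharacter G), Cfsg.IsPBlock M B ∧ Cfsg.IsDefectGroup p M B P ∧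 ∀ x : G, x ∈ Subgroup.centralizer (P : Set G) → Cfsg.MemLocalIdeal M (Cfsg.blockCoeff B x - Cfsg.subgroupBlockCoeff H c x)) := by
  classical
  haveI : Fintype H := Fintype.ofFinite _
  have hPH : P ≤ H := Subgroup.le_normalizer.trans hH
  have hCH : Subgroup.centralizer (P : Set G) ≤ H :=
    (Subgroup.centralizer_le_normalizer _).trans hH
  constructor
  · intro B hB hD
    obtain ⟨c, hc, hDc, hcong⟩ := exists_block_over_normalizer hM H P hH B hB hD
    refine ⟨c, ⟨hc, hDc, hcong⟩, ?_⟩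
    rintro c₂ ⟨hc₂, hD₂, hcong₂⟩
    apply eq_of_congr_on_centralizer (G := H) hM c₂ c hc₂ hc _ hD₂
    intro k hk
    have hkG : (k : G) ∈ Subgroup.centralizer (P : Set G) := (centH H P hPH hCH ⟨k, hk⟩).2
    have h1 := hcong (k : G) hkG
    have h2 := hcong₂ (k : G) hkG
    rw [subgroupBlockCoeff_coe] at h1 h2
    have h3 := memLocalIdeal_sub hM h1 h2
    rw [sub_sub_sub_cancel_left] at h3
    exact h3
  · intro c hc hDc
    obtain ⟨B, hB, hD, hcong⟩ := exists_block_of_over_normalizer hM H P hP hH c hc hDc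
    refine ⟨B, ⟨hB, hD, hcong⟩, ?_⟩
    rintro B₂ ⟨hB₂, hD₂, hcong₂⟩
    apply eq_of_congr_on_centralizer hM B₂ B hB₂ hB P hD₂
    intro x hx
    have h1 := hcong x hx
    have h2 := hcong₂ x hx
    have h3 := memLocalIdeal_sub hM h2 h1
    rw [sub_sub_sub_cancel_right] at h3
    exact h3

end Cfsg.Agent.S4670
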