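import Mathlib
import Cfsg.Statements.S4678
import Cfsg.Agent.Lib.Helper24.CentPairs

set_option autoImplicit false
open Cfsg

namespace Cfsg.Agent.S4678

open Cfsg.Agent.Lib.Helper2 Cfsg.Agent.Lib.Helper7 Cfsg.Agent.Lib.Helper24

theorem card_subgroupOf_inf {G : Type*} [Group G] (P H : Subgroup G) :
    Nat.card ((P ⊓ H).subgroupOf H) = Nat.card (P ⊓ H : Subgroup G) :=
  Nat.card_congr (Subgroup.subgroupOfEquivOfLe (inf_le_right : P ⊓ H ≤ H)).toEquiv

/-- defect groups of `f` and of a conjugate of `f` have the same order -/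
theorem card_defectGroup_conj {G : Type*} [Group G] [Fintype G] {p : ℕ} [Fact p.Prime]
    {M : Ideal Cfsg.AlgInt} (hM : Cfsg.IsPModular p M) (Q : Subgroup G) (x : G)
    (f : Set (Cfsg.IrrCharacter (Subgroup.centralizer (Q : Set G)))) (hf : Cfsg.IsPBlock M f)
    (D : Subgroup (Subgroup.centralizer (Q : Set G))) (hD : Cfsg.IsDefectGroup p M f D)
    (D' : Subgroup (Subgroup.centralizer
      ((Q.map (MulAut.conj x).toMonoidHom : Subgroup G) : Set G)))
    (hD' : Cfsg.IsDefectGroup p M (Cfsg.conjBlock Q x f) D') : Nat.card D' = Nat.card D := by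
  classical
  haveI : Fintype (Subgroup.centralizer
      ((Q.map (MulAut.conj x).toMonoidHom : Subgroup G) : Set G)) := Fintype.ofFinite _
  have hfx : Cfsg.IsPBlock M (Cfsg.conjBlock Q x f) := by
    rw [conjBlock_eq_image]
    exact isPBlock_image_irrMap _ hf
  have hDx : Cfsg.IsDefectGroup p M (Cfsg.conjBlock Q x f)
      (D.map (conjCent Q x).toMonoidHom) := by
    rw [conjBlock_eq_image]
    exact isDefectGroup_irrMap (conjCent Q x) f D hD
  rw [card_of_isDefectGroup hM _ hfx _ hD', ← card_of_isDefectGroup hM _ hfx _ hDx,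
    Subgroup.card_map_of_injective (MulEquiv.injective _)]

theorem range_conjHom {G : Type*} [Group G] (Q : Subgroup G) (g : G) (φ : Q →* G)
    (hg : ∀ u : Q, φ u = g * (u : G) * g⁻¹) :
    φ.range = Q.map (MulAut.conj g).toMonoidHom := by
  ext y
  rw [MonoidHom.mem_range, mem_map_conj_iff]
  constructor
  · rintro ⟨u, rfl⟩
    rw [hg]
    have e : g⁻¹ * (g * (u : G) * g⁻¹) * g = u := by group
    rw [e]
    exact u.2
  · intro h
    refine ⟨⟨g⁻¹ * y * g, h⟩, ?_⟩
    rw [hg]
    show g * (g⁻¹ * y * g) * g⁻¹ = y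
    group

theorem result {G : Type*} [Group G] [Fintype G] (p : ℕ) [Fact p.Prime] (M : Ideal Cfsg.AlgInt) (hM : Cfsg.IsPModular p M) (B : Set (Cfsg.IrrCharacter G)) (P : Subgroup G) (e : Set (Cfsg.IrrCharacter (Subgroup.centralizer (P : Set G)))) (hmax : Cfsg.IsMaximalBrauerPair p M B P e) (F : Cfsg.FusionSystem P) (hF : Cfsg.IsBlockFusionSystemOn p M B P e F) (Q : Subgroup G) (f : Set (Cfsg.IrrCharacter (Subgroup.centralizer (Q : Set G)))) (hQP : Q ≤ P) (hf : Cfsg.IsPBlock M f) (hle : Cfsg.SubpairLE p M Q f P e) : F.IsFullyCentralized Q ↔ Cfsg.IsDefectGroup p M f ((P ⊓ Subgroup.centralizer (Q : Set G)).subgroupOf (Subgroup.centralizer (Q : Set G))) := by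
  classical
  haveI : Fintype (Subgroup.centralizer (Q : Set G)) := Fintype.ofFinite _
  have hPe := hmax.1.1
  constructor
  · intro hfc
    obtain ⟨x, hlex, hDx⟩ := exists_conj_isDefectGroup_centralizerIn hM B P Q e f hmax hQP hf hle
    have hQxP : Q.map (MulAut.conj x).toMonoidHom ≤ P := le_of_reflTransGen hlex
    have hφ : Cfsg.conjHom Q x ∈ F.Hom Q := by
      rw [hF.2 Q]
      exact ⟨hQP, x, fun u => rfl, hQxP, f, hle, hlex⟩
    have hrange := range_conjHom Q x (Cfsg.conjHom Q x) (fun u => rfl)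
    have h1 := hfc.2 _ ⟨Cfsg.conjHom Q x, hφ, hrange⟩
    obtain ⟨D, hD, hCD⟩ := exists_isDefectGroup_ge_centralizerIn hM P Q e f hPe hQP hle
    have h2 := card_defectGroup_conj hM Q x f hf D hD _ hDx
    rw [card_subgroupOf_inf] at h2
    have h3 : Nat.card D ≤ Nat.card ((P ⊓ Subgroup.centralizer (Q : Set G)).subgroupOf
        (Subgroup.centralizer (Q : Set G))) := by
      rw [card_subgroupOf_inf, ← h2]
      exact h1
    have h4 := Subgroup.eq_of_le_of_card_ge hCD h3
    rw [h4]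
    exact hD
  · intro hD
    refine ⟨hQP, ?_⟩
    rintro Q' ⟨φ, hφ, hrange⟩
    rw [hF.2 Q] at hφ
    obtain ⟨_, g, hg, hQgP, f', hf'1, hf'2⟩ := hφ
    have hff' : f = f' := subpairLE_unique hM P e hPe Q hQP f f' hle hf'1
    rw [← hff'] at hf'2
    have hQ' : Q' = Q.map (MulAut.conj g).toMonoidHom := by
      rw [← hrange]
      exact range_conjHom Q g φ hg
    subst hQ'
    obtain ⟨D', hD', hCD'⟩ := exists_isDefectGroup_ge_centralizerIn hM P _ e _ hPe hQgP hf'2
    have h2 := card_defectGroup_conj hM Q g f hf _ hD D' hD'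
    have h3 := Subgroup.card_le_of_le hCD'
    rw [h2, card_subgroupOf_inf, card_subgroupOf_inf] at h3
    exact h3

end Cfsg.Agent.S4678
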