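import Mathlib
import Cfsg.Statements.S4679
import Cfsg.Agent.Lib.Helper24.StabPairs
import Cfsg.Agent.S4678

set_option autoImplicit false
open Cfsg

namespace Cfsg.Agent.S4679

open Cfsg.Agent.Lib.Helper2 Cfsg.Agent.Lib.Helper7 Cfsg.Agent.Lib.Helper24

theorem card_subgroupOf_of_le {G : Type*} [Group G] (A T : Subgroup G) (h : A ≤ T) :
    Nat.card (A.subgroupOf T) = Nat.card A :=
  Nat.card_congr (Subgroup.subgroupOfEquivOfLe h).toEquiv

theorem card_subgroupOf_le {G : Type*} [Group G] [Finite G] (A T : Subgroup G) :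
    Nat.card (A.subgroupOf T) ≤ Nat.card A := by
  have h1 : Nat.card (A.subgroupOf T) = Nat.card (A ⊓ T : Subgroup G) := by
    rw [← Subgroup.inf_subgroupOf_right]
    exact card_subgroupOf_of_le _ _ inf_le_right
  rw [h1]
  exact Subgroup.card_le_of_le inf_le_left

theorem result {G : Type*} [Group G] [Fintype G] (p : ℕ) [Fact p.Prime] (M : Ideal Cfsg.AlgInt) (hM : Cfsg.IsPModular p M) (B : Set (Cfsg.IrrCharacter G)) (P : Subgroup G) (e : Set (Cfsg.IrrCharacter (Subgroup.centralizer (P : Set G)))) (hmax : Cfsg.IsMaximalBrauerPair p M B P e) (F : Cfsg.FusionSystem P) (hF : Cfsg.IsBlockFusionSystemOn p M B P e F) (Q : Subgroup G) (f : Set (Cfsg.IrrCharacter (Subgroup.centralizer (Q : Set G)))) (hQP : Q ≤ P) (hf : Cfsg.IsPBlock M f) (hle : Cfsg.SubpairLE p M Q f P e) (T : Subgroup G) (hT : ∀ y : G, y ∈ T ↔ y ∈ Subgroup.normalizer (Q : Set G) ∧ Cfsg.StabilizesBlock (Subgroup.centralizer (Q : Set G)) f y) : F.IsFullyNormalized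 Q ↔ ∃ F' : Set (Cfsg.IrrCharacter T), Cfsg.IsPBlock M F' ∧ (∀ t : T, Cfsg.blockCoeff F' t = Cfsg.subgroupBlockCoeff (Subgroup.centralizer (Q : Set G)) f (t : G)) ∧ Cfsg.IsDefectGroup p M F' ((P ⊓ Subgroup.normalizer (Q : Set G)).subgroupOf T) := by
  classical
  have hPe := hmax.1.1
  have hQ : IsPGroup p Q := hPe.1.to_le hQP
  obtain rfl : T = stabSubgroup Q f := by
    ext y
    rw [hT, mem_stabSubgroup]
  haveI : Fintype (stabSubgroup Q f) := Fintype.ofFinite _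
  have hNT := normalizerIn_le_stabSubgroup hM P Q e f hPe hQP hle
  constructor
  · intro hfn
    obtain ⟨F₀, hF₀, hF₀c⟩ := exists_block_of_stab hM Q hQ f hf
    obtain ⟨D, hD, hSD⟩ := exists_isDefectGroup_ge_normalizerIn hM P Q e f hPe hQP hle F₀ hF₀ hF₀c
    obtain ⟨x, hlex, hx⟩ := exists_conj_isDefectGroup_normalizerIn hM B P Q e f hmax hQP hf hle
    have hQxP : Q.map (MulAut.conj x).toMonoidHom ≤ P := le_of_reflTransGen hlex
    have hfx : Cfsg.IsPBlock M (Cfsg.conjBlock Q x f) := by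
      rw [conjBlock_eq_image]
      exact isPBlock_image_irrMap _ hf
    obtain ⟨F₁, hF₁, hF₁c⟩ := exists_block_of_stab hM _ (hQ.map _) _ hfx
    have hD₁ := hx F₁ hF₁ hF₁c
    have hφ : Cfsg.conjHom Q x ∈ F.Hom Q := by
      rw [hF.2 Q]
      exact ⟨hQP, x, fun u => rfl, hQxP, f, hle, hlex⟩
    have hrange := Cfsg.Agent.S4678.range_conjHom Q x (Cfsg.conjHom Q x) (fun u => rfl)
    have h1 := hfn.2 _ ⟨Cfsg.conjHom Q x, hφ, hrange⟩
    have h2 := card_defectGroup_stab_conj hM Q x f F₀ hF₀c F₁ hF₁ hF₁c D hD _ hD₁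
    have h3 : Nat.card D ≤ Nat.card ((P ⊓ Subgroup.normalizer (Q : Set G)).subgroupOf
        (stabSubgroup Q f)) := by
      rw [card_subgroupOf_of_le _ _ hNT, ← h2]
      exact le_trans (card_subgroupOf_le _ _) h1
    have h4 := Subgroup.eq_of_le_of_card_ge hSD h3
    refine ⟨F₀, hF₀, hF₀c, ?_⟩
    rw [h4]
    exact hD
  · rintro ⟨F₀, hF₀, hF₀c, hD⟩
    refine ⟨hQP, ?_⟩
    rintro Q' ⟨φ, hφ, hrange⟩
    rw [hF.2 Q] at hφ
    obtain ⟨_, g, hg, hQgP, f', hf'1, hf'2⟩ := hφ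
    have hff' : f = f' := subpairLE_unique hM P e hPe Q hQP f f' hle hf'1
    rw [← hff'] at hf'2
    have hQ' : Q' = Q.map (MulAut.conj g).toMonoidHom := by
      rw [← hrange]
      exact Cfsg.Agent.S4678.range_conjHom Q g φ hg
    subst hQ'
    have hfg : Cfsg.IsPBlock M (Cfsg.conjBlock Q g f) := by
      rw [conjBlock_eq_image]
      exact isPBlock_image_irrMap _ hf
    obtain ⟨F₁, hF₁, hF₁c⟩ := exists_block_of_stab hM _ (hQ.map _) _ hfg
    obtain ⟨D', hD', hCD'⟩ :=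
      exists_isDefectGroup_ge_normalizerIn hM P _ e _ hPe hQgP hf'2 F₁ hF₁ hF₁c
    have h2 := card_defectGroup_stab_conj hM Q g f F₀ hF₀c F₁ hF₁ hF₁c _ hD D' hD'
    have h3 := Subgroup.card_le_of_le hCD'
    have hNT' := normalizerIn_le_stabSubgroup hM P _ e _ hPe hQgP hf'2
    rw [h2, card_subgroupOf_of_le _ _ hNT', card_subgroupOf_of_le _ _ hNT] at h3
    exact h3

end Cfsg.Agent.S4679
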