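import Mathlib
import Cfsg.Statements.S4680
import Cfsg.Agent.Lib.Helper24.CentPairs
import Cfsg.Agent.S4678

set_option autoImplicit false
open Cfsg

namespace Cfsg.Agent.S4680

open Cfsg.Agent.Lib.Helper2 Cfsg.Agent.Lib.Helper7 Cfsg.Agent.Lib.Helper24 Cfsg.Agent.S4678

/-- a central `p`-subgroup lies in every defect group -/
theorem central_le_isDefectGroup {H : Type*} [Group H] [Finite H] {p : ℕ} [Fact p.Prime]
    {M : Ideal Cfsg.AlgInt} {f : Set (Cfsg.IrrCharacter H)} {D : Subgroup H}
    (hD : Cfsg.IsDefectGroup p M f D) (Z : Subgroup H) (hZc : Z ≤ Subgroup.center H)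
    (hZ : IsPGroup p Z) : Z ≤ D := by
  obtain ⟨g, hg, Q, rfl⟩ := hD
  have hZC : Z ≤ Subgroup.centralizer ({g} : Set H) := by
    intro z hz
    rw [Subgroup.mem_centralizer_iff]
    intro y hy
    rw [Set.mem_singleton_iff] at hy
    subst hy
    exact Subgroup.mem_center_iff.mp (hZc hz) y
  haveI : (Z.subgroupOf (Subgroup.centralizer ({g} : Set H))).Normal := ⟨fun n hn c => by
    rw [Subgroup.mem_subgroupOf] at hn ⊢
    have h1 := Subgroup.mem_center_iff.mp (hZc hn) (c : H)
    show (c : H) * n * (c : H)⁻¹ ∈ Z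
    rw [h1, mul_inv_cancel_right]
    exact hn⟩
  have hZ' : IsPGroup p (Z.subgroupOf (Subgroup.centralizer ({g} : Set H))) := hZ.comap_subtype
  have hle := hZ'.le_sylow_of_normal Q
  intro z hz
  exact ⟨⟨z, hZC hz⟩, hle (by rw [Subgroup.mem_subgroupOf]; exact hz), rfl⟩

theorem result {G : Type*} [Group G] [Fintype G] (p : ℕ) [Fact p.Prime] (M : Ideal Cfsg.AlgInt) (hM : Cfsg.IsPModular p M) (B : Set (Cfsg.IrrCharacter G)) (P : Subgroup G) (e : Set (Cfsg.IrrCharacter (Subgroup.centralizer (P : Set G)))) (hmax : Cfsg.IsMaximalBrauerPair p M B P e) (F : Cfsg.FusionSystem P) (hF : Cfsg.IsBlockFusionSystemOn p M B P e F) (Q : Subgroup G) (f : Set (Cfsg.IrrCharacter (Subgroup.centralizer (Q : Set G)))) (hQP : Q ≤ P) (hf : Cfsg.IsPBlock M f) (hle : Cfsg.SubpairLE p M Q f P e) : F.IsCentric Q ↔ Cfsg.IsDefectGroup p M f ((Q ⊓ Subgroup.centralizer (Q : Set G)).subgroupOf (Subgroup.centralizer (Q : Set G))) := by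
  classical
  haveI : Fintype (Subgroup.centralizer (Q : Set G)) := Fintype.ofFinite _
  have hPe := hmax.1.1
  have hP := hPe.1
  have hZcent : ∀ R : Subgroup G, (R ⊓ Subgroup.centralizer (R : Set G)).subgroupOf
      (Subgroup.centralizer (R : Set G)) ≤ Subgroup.center (Subgroup.centralizer (R : Set G)) := by
    intro R z hz
    rw [Subgroup.mem_subgroupOf] at hz
    rw [Subgroup.mem_center_iff]
    intro c
    apply Subtype.ext
    show (c : G) * z = z * c
    exact (Subgroup.mem_centralizer_iff.mp c.2 z hz.1).symm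
  have hZp : ∀ R : Subgroup G, R ≤ P → IsPGroup p ((R ⊓ Subgroup.centralizer (R : Set G)).subgroupOf
      (Subgroup.centralizer (R : Set G))) := fun R hR =>
    ((hP.to_le hR).to_le inf_le_left).comap_subtype
  have hZconj : ∀ x : G,
      (Q.map (MulAut.conj x).toMonoidHom ⊓ Subgroup.centralizer
          ((Q.map (MulAut.conj x).toMonoidHom : Subgroup G) : Set G)).subgroupOf
        (Subgroup.centralizer ((Q.map (MulAut.conj x).toMonoidHom : Subgroup G) : Set G))
      = ((Q ⊓ Subgroup.centralizer (Q : Set G)).subgroupOf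
          (Subgroup.centralizer (Q : Set G))).map (conjCent Q x).toMonoidHom := by
    intro x
    ext c'
    rw [Subgroup.mem_subgroupOf, Subgroup.mem_map]
    constructor
    · intro h
      have h1 := (Subgroup.mem_inf.mp h).1
      rw [mem_map_conj_iff] at h1
      refine ⟨(conjCent Q x).symm c', ?_, MulEquiv.apply_symm_apply _ _⟩
      rw [Subgroup.mem_subgroupOf]
      exact Subgroup.mem_inf.mpr ⟨h1, ((conjCent Q x).symm c').2⟩
    · rintro ⟨z, hz, rfl⟩
      rw [Subgroup.mem_subgroupOf] at hz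
      refine Subgroup.mem_inf.mpr ⟨?_, (conjCent Q x z).2⟩
      rw [mem_map_conj_iff]
      show x⁻¹ * (x * (z : G) * x⁻¹) * x ∈ Q
      have e1 : x⁻¹ * (x * (z : G) * x⁻¹) * x = z := by group
      rw [e1]
      exact (Subgroup.mem_inf.mp hz).1
  constructor
  · intro hcen
    obtain ⟨x, hlex, hDx⟩ := exists_conj_isDefectGroup_centralizerIn hM B P Q e f hmax hQP hf hle
    have hQxP : Q.map (MulAut.conj x).toMonoidHom ≤ P := le_of_reflTransGen hlex
    have hφ : Cfsg.conjHom Q x ∈ F.Hom Q := by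
      rw [hF.2 Q]
      exact ⟨hQP, x, fun u => rfl, hQxP, f, hle, hlex⟩
    have hrange := range_conjHom Q x (Cfsg.conjHom Q x) (fun u => rfl)
    have h1 := hcen.2 _ ⟨Cfsg.conjHom Q x, hφ, hrange⟩
    have hEq : (P ⊓ Subgroup.centralizer
          ((Q.map (MulAut.conj x).toMonoidHom : Subgroup G) : Set G)).subgroupOf
        (Subgroup.centralizer ((Q.map (MulAut.conj x).toMonoidHom : Subgroup G) : Set G))
      = (Q.map (MulAut.conj x).toMonoidHom ⊓ Subgroup.centralizer
          ((Q.map (MulAut.conj x).toMonoidHom : Subgroup G) : Set G)).subgroupOf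
        (Subgroup.centralizer ((Q.map (MulAut.conj x).toMonoidHom : Subgroup G) : Set G)) := by
      ext c
      rw [Subgroup.mem_subgroupOf, Subgroup.mem_subgroupOf, Subgroup.mem_inf, Subgroup.mem_inf]
      constructor
      · rintro ⟨h2, h3⟩
        exact ⟨h1 (Subgroup.mem_inf.mpr ⟨h2, h3⟩), h3⟩
      · rintro ⟨h2, h3⟩
        exact ⟨hQxP h2, h3⟩
    rw [hEq, hZconj x] at hDx
    obtain ⟨D, hD, _⟩ := exists_isDefectGroup_ge_centralizerIn hM P Q e f hPe hQP hle
    have hZD := central_le_isDefectGroup hD _ (hZcent Q) (hZp Q hQP)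
    have hcard := card_defectGroup_conj hM Q x f hf D hD _ hDx
    rw [Subgroup.card_map_of_injective (MulEquiv.injective _)] at hcard
    have h4 := Subgroup.eq_of_le_of_card_ge hZD (le_of_eq hcard.symm)
    rw [h4]
    exact hD
  · intro hD
    refine ⟨hQP, ?_⟩
    rintro Q' ⟨φ, hφ, hrange⟩
    rw [hF.2 Q] at hφ
    obtain ⟨_, g, hg, hQgP, f', hf'1, hf'2⟩ := hφ
    have hff' : f = f' := subpairLE_unique hM P e hPe Q hQP f f' hle hf'1
    rw [← hff'] at hf'2
    have hQ' : Q' = Q.map (MulAut.conj g).toMonoidHom := by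
      rw [← hrange]
      exact range_conjHom Q g φ hg
    subst hQ'
    obtain ⟨D', hD', hCD'⟩ := exists_isDefectGroup_ge_centralizerIn hM P _ e _ hPe hQgP hf'2
    have hcard := card_defectGroup_conj hM Q g f hf _ hD D' hD'
    have hZD' := central_le_isDefectGroup hD' _ (hZcent _) (hZp _ hQgP)
    have hEq := Subgroup.eq_of_le_of_card_ge hZD' (by
      rw [hcard, hZconj g, Subgroup.card_map_of_injective (MulEquiv.injective _)])
    intro c hc
    have hc2 : c ∈ P ⊓ Subgroup.centralizer
        ((Q.map (MulAut.conj g).toMonoidHom : Subgroup G) : Set G) := hc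
    have hc' : (⟨c, (Subgroup.mem_inf.mp hc2).2⟩ : Subgroup.centralizer
        ((Q.map (MulAut.conj g).toMonoidHom : Subgroup G) : Set G))
        ∈ (P ⊓ Subgroup.centralizer
          ((Q.map (MulAut.conj g).toMonoidHom : Subgroup G) : Set G)).subgroupOf
        (Subgroup.centralizer ((Q.map (MulAut.conj g).toMonoidHom : Subgroup G) : Set G)) := by
      rw [Subgroup.mem_subgroupOf]
      exact hc2
    have h5 := hCD' hc'
    rw [← hEq, Subgroup.mem_subgroupOf] at h5
    exact h5.1

end Cfsg.Agent.S4680
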