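import Mathlib
import Cfsg.Statements.S4681
import Cfsg.Agent.Lib.Helper24.PrincipalPairs

set_option autoImplicit false
open Cfsg

namespace Cfsg.Agent.S4681

open Cfsg.Agent.Lib.Helper2 Cfsg.Agent.Lib.Helper7 Cfsg.Agent.Lib.Helper24

theorem result {G : Type*} [Group G] [Fintype G] (p : ℕ) [Fact p.Prime] (M : Ideal Cfsg.AlgInt) (hM : Cfsg.IsPModular p M) (S : Sylow p G) : Cfsg.IsMaximalBrauerPair p M (Cfsg.principalBlock M G) (S : Subgroup G) (Cfsg.principalBlock M (Subgroup.centralizer ((S : Subgroup G) : Set G))) ∧ ∀ F : Cfsg.FusionSystem (S : Subgroup G), Cfsg.IsBlockFusionSystemOn p M (Cfsg.principalBlock M G) (S : Subgroup G) (Cfsg.principalBlock M (Subgroup.centralizer ((S : Subgroup G) : Set G))) F → ∀ Q : Subgroup G, F.Hom Q = (Cfsg.groupFusionSystem (S : Subgroup G)).Hom Q := by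
  refine ⟨isMaximalBrauerPair_principal hM S, ?_⟩
  intro F hF Q
  ext φ
  rw [hF.2 Q φ]
  constructor
  · rintro ⟨hQS, g, hg, hQg, _⟩
    refine ⟨hQS, ?_, g, hg⟩
    intro x
    apply hQg
    rw [hg, mem_map_conj_iff]
    have e : g⁻¹ * (g * (x : G) * g⁻¹) * g = x := by group
    rw [e]
    exact x.2
  · rintro ⟨hQS, hφS, g, hg⟩
    have hQg : Q.map (MulAut.conj g).toMonoidHom ≤ (S : Subgroup G) := by
      intro u hu
      rw [mem_map_conj_iff] at hu
      have h1 := hφS ⟨g⁻¹ * u * g, hu⟩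
      rw [hg] at h1
      have e : g * ((⟨g⁻¹ * u * g, hu⟩ : Q) : G) * g⁻¹ = u := by
        show g * (g⁻¹ * u * g) * g⁻¹ = u
        group
      rwa [e] at h1
    have hQ : IsPGroup p Q := S.isPGroup'.to_le hQS
    refine ⟨hQS, g, hg, hQg, Cfsg.principalBlock M (Subgroup.centralizer (Q : Set G)), ?_, ?_⟩
    · exact subpairLE_principal hM _ S.isPGroup' Q hQS
    · rw [conjBlock_principalBlock hM Q hQ g]
      exact subpairLE_principal hM _ S.isPGroup' _ hQg

end Cfsg.Agent.S4681
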