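import Mathlib
import Cfsg.Statements.S4691
import Cfsg.Agent.Lib.Helper24.PrincipalPairs
import Cfsg.Agent.Lib.Helper13.Frobenius

set_option autoImplicit false
open Cfsg

namespace Cfsg.Agent.S4691

open Cfsg.Agent.Lib.Helper2 Cfsg.Agent.Lib.Helper7 Cfsg.Agent.Lib.Helper24 Cfsg.Agent.Lib.Helper13

theorem result {G : Type*} [Group G] [Fintype G] (p : ℕ) [Fact p.Prime] (M : Ideal Cfsg.AlgInt) (hM : Cfsg.IsPModular p M) : Cfsg.HasNormalPComplement p G ↔ Cfsg.IsNilpotentBlock p M (Cfsg.principalBlock M G) := by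
  have hp : p.Prime := Fact.out
  constructor
  · rintro ⟨P, N, hN, hcomp⟩
    haveI := hN
    have hLC : LocalCentral p G := localCentral_of_normal_complement P N hcomp
    refine ⟨isPBlock_principalBlock, ?_⟩
    intro Q e hQe x hx _ hreg
    exact hLC Q hQe.1.1 x hx ((Nat.Prime.coprime_iff_not_dvd hp).mpr hreg).symm
  · intro h
    have hLC : LocalCentral p G := by
      intro Q hQ g hg hcop
      apply h.2 Q (Cfsg.principalBlock M (Subgroup.centralizer (Q : Set G)))
        (isBrauerPairOf_principal hM Q hQ) g hg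
        (stabilizesBlock_principalBlock _ g (normalizer_le_normalizer_centralizer Q hg))
      exact (Nat.Prime.coprime_iff_not_dvd hp).mp hcop.symm
    obtain ⟨P⟩ : Nonempty (Sylow p G) := inferInstance
    obtain ⟨K, hKn, hK⟩ := exists_normal_complement_of_localCentral hLC P
    exact ⟨P, K, hKn, hK⟩

end Cfsg.Agent.S4691
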