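import Mathlib
import Cfsg.Statements.S4692
import Cfsg.Agent.Lib.Helper24.PIndexPairs
import Cfsg.Agent.Lib.Helper24.AbelianPairs
import Cfsg.Agent.Lib.Helper24.SubpairUnique
import Cfsg.Agent.Lib.Helper24.MaxPairs
import Cfsg.Agent.Lib.Helper7.PiParts
import Cfsg.Agent.Lib.Helper7.RegularDetermines

set_option autoImplicit false
open Cfsg

namespace Cfsg.Agent.S4692

open Cfsg.Agent.Lib.Helper2 Cfsg.Agent.Lib.Helper24
open scoped ComplexConjugate

open Cfsg.Agent.Lib.Helper7

/-- to put all `p`-regular elements of a subgroup `S` into a subgroup `C` it is enough to treat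
the elements of prime power order -/
theorem mem_of_prime_power {G : Type*} [Group G] [Finite G] (p : ℕ) (S C : Subgroup G)
    (h : ∀ y ∈ S, ∀ r : ℕ, r.Prime → r ≠ p → ∀ i : ℕ, orderOf y = r ^ i → y ∈ C) :
    ∀ x ∈ S, ¬ p ∣ orderOf x → x ∈ C := by
  have key : ∀ n : ℕ, ∀ x ∈ S, orderOf x = n → ¬ p ∣ orderOf x → x ∈ C := by
    intro n
    induction n using Nat.strong_induction_on with
    | _ n ih =>
      intro x hxS hxn hpx
      have hn0 : n ≠ 0 := by
        rw [← hxn]
        exact (orderOf_pos x).ne'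
      by_cases hn1 : n = 1
      · rw [hn1, orderOf_eq_one_iff] at hxn
        rw [hxn]
        exact C.one_mem
      · obtain ⟨r, hr, hrn⟩ := Nat.exists_prime_and_dvd hn1
        have hrp : r ≠ p := by
          intro h1
          apply hpx
          rw [hxn, ← h1]
          exact hrn
        obtain ⟨i, m, hrm, hnim⟩ := Nat.exists_eq_pow_mul_and_not_dvd hn0 r hr.one_lt.ne'
        have hi : i ≠ 0 := by
          intro hi0
          rw [hi0, pow_zero, one_mul] at hnim
          rw [hnim] at hrn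
          exact hrm hrn
        have hcop : Nat.Coprime (r ^ i) m :=
          Nat.Coprime.pow_left i ((Nat.Prime.coprime_iff_not_dvd hr).mpr hrm)
        obtain ⟨u, v, hxuv, _, hu, hv, huz, hvz⟩ := exists_pi_decomp hcop x
          (by rw [hxn, hnim])
        have huS : u ∈ S := (Subgroup.zpowers_le.mpr hxS) huz
        have hvS : v ∈ S := (Subgroup.zpowers_le.mpr hxS) hvz
        obtain ⟨j, _, hj⟩ := (Nat.dvd_prime_pow hr).mp hu
        have huC : u ∈ C := h u huS r hr hrp j hj
        have hm0 : m ≠ 0 := by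
          intro hm
          rw [hm, mul_zero] at hnim
          exact hn0 hnim
        have hmn : m < n := by
          rw [hnim]
          have h2 : 2 ≤ r ^ i := by
            calc 2 ≤ r := hr.two_le
              _ = r ^ 1 := (pow_one r).symm
              _ ≤ r ^ i := Nat.pow_le_pow_right hr.pos (Nat.one_le_iff_ne_zero.mpr hi)
          nlinarith [Nat.pos_of_ne_zero hm0]
        have hvn : orderOf v < n := lt_of_le_of_lt (Nat.le_of_dvd (Nat.pos_of_ne_zero hm0) hv) hmn
        have hpv : ¬ p ∣ orderOf v := by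
          intro hpv
          apply hpx
          rw [hxn, hnim]
          exact (hpv.trans hv).trans (dvd_mul_left m (r ^ i))
        have hvC : v ∈ C := ih (orderOf v) hvn v hvS rfl hpv
        rw [hxuv]
        exact C.mul_mem huC hvC
  intro x hxS hpx
  exact key (orderOf x) x hxS rfl hpx

/-- coprime action: an `r`-element normalizing the `p`-group `Q`, centralizing `Q ∩ N` and lying in
the normal subgroup `N` centralizes `Q` -/
theorem mem_centralizer_of_coprime {G : Type*} [Group G] (p : ℕ) [Fact p.Prime]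
    (N Q : Subgroup G) [hNn : N.Normal] (hQ : IsPGroup p Q) (y : G) (hyN : y ∈ N)
    (hyQ : y ∈ Subgroup.normalizer (Q : Set G)) (r i : ℕ) (hr : r.Prime) (hrp : r ≠ p)
    (hyo : orderOf y = r ^ i) (hyR : ∀ t ∈ Q ⊓ N, t * y = y * t) :
    y ∈ Subgroup.centralizer (Q : Set G) := by
  have hp : p.Prime := Fact.out
  rw [Subgroup.mem_centralizer_iff]
  intro q hq
  obtain ⟨t, ht⟩ : ∃ t : G, t = y * q * y⁻¹ * q⁻¹ := ⟨_, rfl⟩
  have htQ : t ∈ Q := by
    rw [ht]
    exact Q.mul_mem ((Subgroup.mem_normalizer_iff.mp hyQ q).mp hq) (Q.inv_mem hq)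
  have htN : t ∈ N := by
    rw [ht]
    have h1 : q * y⁻¹ * q⁻¹ ∈ N := hNn.conj_mem _ (N.inv_mem hyN) q
    have e1 : y * q * y⁻¹ * q⁻¹ = y * (q * y⁻¹ * q⁻¹) := by group
    rw [e1]
    exact N.mul_mem hyN h1
  have hty : t * y = y * t := hyR t ⟨htQ, htN⟩
  have hconj : y * q * y⁻¹ = t * q := by rw [ht]; group
  have hpow : ∀ n : ℕ, y ^ n * q * (y ^ n)⁻¹ = t ^ n * q := by
    intro n
    induction n with
    | zero => simp
    | succ n ih =>
      have hcomm : Commute y t := hty.symm
      calc y ^ (n + 1) * q * (y ^ (n + 1))⁻¹ = y * (y ^ n * q * (y ^ n)⁻¹) * y⁻¹ := by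
            rw [pow_succ']; group
        _ = y * (t ^ n * q) * y⁻¹ := by rw [ih]
        _ = (y * t ^ n * y⁻¹) * (y * q * y⁻¹) := by group
        _ = t ^ n * (t * q) := by
            rw [hconj]
            have : y * t ^ n * y⁻¹ = t ^ n := by
              have h2 : Commute y (t ^ n) := hcomm.pow_right n
              rw [h2.eq]; group
            rw [this]
        _ = t ^ (n + 1) * q := by rw [pow_succ]; group
  have h1 := hpow (orderOf y)
  rw [pow_orderOf_eq_one, inv_one, mul_one, one_mul] at h1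
  have ht1 : t ^ orderOf y = 1 := by
    have : t ^ orderOf y * q = 1 * q := by rw [one_mul]; exact h1.symm
    exact mul_right_cancel this
  have hdvd : orderOf t ∣ r ^ i := by
    rw [← hyo]
    exact orderOf_dvd_of_pow_eq_one ht1
  obtain ⟨a, ha⟩ := (IsPGroup.iff_orderOf.mp hQ) ⟨t, htQ⟩
  rw [Subgroup.orderOf_mk] at ha
  have ht1' : t = 1 := by
    rw [← orderOf_eq_one_iff, ha]
    rw [ha] at hdvd
    rcases Nat.eq_zero_or_pos a with h0 | hpos
    · rw [h0, pow_zero]
    · exfalso
      have h2 : p ∣ r ^ i := (dvd_pow_self p hpos.ne').trans hdvd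
      have h3 : p ∣ r := hp.dvd_of_dvd_pow h2
      exact hrp ((Nat.prime_dvd_prime_iff_eq hp hr).mp h3).symm
  rw [ht1', one_mul] at hconj
  calc q * y = (y * q * y⁻¹) * y := by rw [hconj]
    _ = y * q := by group


/-- Fix a prime p and a maximal ideal M of the algebraic integers containing p. Let N be a normal subgroup of p-power index in the finite group G and c a p-block of N stable under conjugation by G, and let B be the p-block of G whose idempotent is that of c (it exists and is unique). Then c is nilpotent as a block of N if and only if B is nilpotent as a block of G. -/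
theorem result {G : Type*} [Group G] [Fintype G] (p : ℕ) [Fact p.Prime] (M : Ideal Cfsg.AlgInt) (hM : Cfsg.IsPModular p M) (N : Subgroup G) [N.Normal] (hN : ∃ k : ℕ, N.index = p ^ k) (c : Set (Cfsg.IrrCharacter N)) (hc : Cfsg.IsPBlock M c) (hst : ∀ x : G, Cfsg.StabilizesBlock N c x) (B : Set (Cfsg.IrrCharacter G)) (hB : Cfsg.IsPBlock M B) (hBc : ∀ g : G, Cfsg.blockCoeff B g = Cfsg.subgroupBlockCoeff N c g) : Cfsg.IsNilpotentBlock p M c ↔ Cfsg.IsNilpotentBlock p M B := by
  classical
  haveI : Fintype N := Fintype.ofFinite _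
  have hp : p.Prime := Fact.out
  constructor
  · -- `c` nilpotent implies `B` nilpotent
    intro hcn
    refine ⟨hB, ?_⟩
    intro Q f hQf x hxQ hxst hxreg
    have hQfp : Cfsg.IsBrauerPair p M Q f := hQf.1
    have hQ : IsPGroup p Q := hQfp.1
    apply mem_of_prime_power p (stabSubgroup Q f) (Subgroup.centralizer (Q : Set G)) _ x
      ((mem_stabSubgroup Q f x).mpr ⟨hxQ, hxst⟩) hxreg
    intro y hy r hr hrp i hyo
    haveI : Fact r.Prime := ⟨hr⟩
    obtain ⟨hyQ, hyst⟩ := (mem_stabSubgroup Q f y).mp hy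
    have hyreg : ¬ p ∣ orderOf y := by
      rw [hyo]
      intro h1
      have h2 : p ∣ r := hp.dvd_of_dvd_pow h1
      exact hrp ((Nat.prime_dvd_prime_iff_eq hp hr).mp h2).symm
    have hyN : y ∈ N := mem_of_regular_of_index_pow N hp hN y hyreg
    have hRQ : Q ⊓ N ≤ Q := inf_le_left
    have hRN : Q ⊓ N ≤ N := inf_le_right
    have hyR : y ∈ Subgroup.normalizer ((Q ⊓ N : Subgroup G) : Set G) := by
      rw [Subgroup.mem_normalizer_iff]
      intro n
      rw [Subgroup.mem_inf, Subgroup.mem_inf]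
      constructor
      · rintro ⟨h1, h2⟩
        exact ⟨(Subgroup.mem_normalizer_iff.mp hyQ n).mp h1, ‹N.Normal›.conj_mem _ h2 y⟩
      · rintro ⟨h1, h2⟩
        refine ⟨(Subgroup.mem_normalizer_iff.mp hyQ n).mpr h1, ?_⟩
        have := ‹N.Normal›.conj_mem _ h2 y⁻¹
        have e : y⁻¹ * (y * n * y⁻¹) * y⁻¹⁻¹ = n := by group
        rwa [e] at this
    obtain ⟨fR, hfR, hle⟩ := exists_subpairLE hM Q f hQfp (Q ⊓ N) hRQ
    have hpairR : Cfsg.IsBrauerPairOf p M B (Q ⊓ N) fR :=
      (isBrauerPairOf_iff_of_subpairLE hM hQfp ⟨hQ.to_le hRQ, hfR⟩ hle B hB).mp hQf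
    have hyRst := mem_stabSubgroup_of_subpairLE hM Q (Q ⊓ N) f fR hQfp hRQ hle y hy hyR
    obtain ⟨ξ, hξ, ξ', hov, hst'⟩ := exists_stable_cnOver N (Q ⊓ N) hM hN hRN y hyN hyR r hrp i
      hyo fR hfR ((mem_stabSubgroup (Q ⊓ N) fR y).mp hyRst).2
    have hcpair := isBrauerPairOf_down N (Q ⊓ N) hM hRN c hc B hBc fR hpairR ξ hξ ξ' hov
    have hyregN : Cfsg.IsPRegular p (⟨y, hyN⟩ : N) := by
      unfold Cfsg.IsPRegular
      rw [Subgroup.orderOf_mk]
      exact hyreg
    have h1 := hcn.2 ((Q ⊓ N).subgroupOf N) _ hcpair ⟨y, hyN⟩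
      (mem_normalizer_subgroupOf_of_mem N (Q ⊓ N) hRN y hyN hyR) hst' hyregN
    have hyCR : ∀ t ∈ Q ⊓ N, t * y = y * t := by
      intro t ht
      have h2 := Subgroup.mem_centralizer_iff.mp h1 (⟨t, hRN ht⟩ : N)
        (Subgroup.mem_subgroupOf.mpr ht)
      exact congrArg (fun z : N => (z : G)) h2
    exact mem_centralizer_of_coprime p N Q hQ y hyN hyQ r i hr hrp hyo hyCR
  · -- `B` nilpotent implies `c` nilpotent
    intro hBn
    refine ⟨hc, ?_⟩
    intro Q' e' hpair x hxQ' hxst hxreg
    obtain ⟨R, hRN, rfl⟩ : ∃ R : Subgroup G, R ≤ N ∧ R.subgroupOf N = Q' :=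
      ⟨Q'.map N.subtype, Subgroup.map_subtype_le Q',
        Subgroup.comap_map_eq_self_of_injective N.subtype_injective Q'⟩
    obtain ⟨F, hBF, hstab⟩ := exists_isBrauerPairOf_up N R hM hN hRN c B hB hBc e' hpair
    have hxR : (x : G) ∈ Subgroup.normalizer (R : Set G) := by
      rw [← Subgroup.subgroupOf_normalizer_eq hRN] at hxQ'
      exact Subgroup.mem_subgroupOf.mp hxQ'
    have hxregG : Cfsg.IsPRegular p (x : G) := by
      unfold Cfsg.IsPRegular at hxreg ⊢
      rwa [Subgroup.orderOf_coe]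
    have h1 := hBn.2 R F hBF (x : G) hxR (hstab (x : G) x.2 hxR hxst) hxregG
    rw [Subgroup.mem_centralizer_iff]
    intro z hz
    apply Subtype.ext
    exact Subgroup.mem_centralizer_iff.mp h1 (z : G) (Subgroup.mem_subgroupOf.mp hz)

end Cfsg.Agent.S4692
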