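import Mathlib
import Cfsg.Statements.S4828
import Cfsg.Agent.Lib.Helper24.InertialPrime
import Cfsg.Agent.Lib.Helper24.CentPairs
import Cfsg.Agent.Lib.Helper24.StabPairs
import Cfsg.Agent.Lib.Helper24.PairTools
import Cfsg.Agent.Lib.Helper24.MaxPairs
import Cfsg.Agent.Lib.Helper24.DefectCount
import Cfsg.Agent.Lib.Helper7.CentralDefect
import Cfsg.Agent.Lib.Helper7.CanonicalChar
import Cfsg.Agent.Lib.Helper7.NormalDefect
import Cfsg.Agent.Lib.Helper7.DefectOrder

set_option autoImplicit false
open Cfsg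

namespace Cfsg.Agent.S4828

open Cfsg.Agent.Lib.Helper24 Cfsg.Agent.Lib.Helper7

variable {G : Type*} [Group G]

/-- `Z(Q) = Q ∩ C_G(Q)` as a subgroup of `C_G(Q)` -/
abbrev zSub (Q : Subgroup G) : Subgroup (Subgroup.centralizer (Q : Set G)) :=
  (Q ⊓ Subgroup.centralizer (Q : Set G)).subgroupOf (Subgroup.centralizer (Q : Set G))

theorem mem_zSub (Q : Subgroup G) (z : Subgroup.centralizer (Q : Set G)) :
    z ∈ zSub Q ↔ (z : G) ∈ Q := by
  unfold zSub
  rw [Subgroup.mem_subgroupOf, Subgroup.mem_inf]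
  exact ⟨fun h => h.1, fun h => ⟨h, z.2⟩⟩

theorem zSub_le_center (Q : Subgroup G) :
    zSub Q ≤ Subgroup.center (Subgroup.centralizer (Q : Set G)) := by
  intro z hz
  rw [mem_zSub] at hz
  rw [Subgroup.mem_center_iff]
  intro c
  apply Subtype.ext
  have h := (Subgroup.mem_centralizer_iff.mp c.2) (z : G) hz
  simpa using h.symm

theorem card_zSub (Q : Subgroup G) :
    Nat.card (zSub Q) = Nat.card ↥(Q ⊓ Subgroup.centralizer (Q : Set G)) :=
  Nat.card_congr (Subgroup.subgroupOfEquivOfLe inf_le_right).toEquiv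

theorem zSub_isPGroup {p : ℕ} (Q : Subgroup G) (hQ : IsPGroup p Q) : IsPGroup p (zSub Q) := by
  have h1 : IsPGroup p ↥(Q ⊓ Subgroup.centralizer (Q : Set G)) := hQ.to_le inf_le_left
  exact h1.of_equiv (Subgroup.subgroupOfEquivOfLe inf_le_right).symm

/-- an element of a `p`-group has `p`-power order -/
theorem exists_orderOf_eq_of_mem {p : ℕ} [Fact p.Prime] {R : Subgroup G} (hR : IsPGroup p R)
    {x : G} (hx : x ∈ R) : ∃ k : ℕ, orderOf x = p ^ k := by
  obtain ⟨k, hk⟩ := hR ⟨x, hx⟩
  have h1 : x ^ p ^ k = 1 := by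
    have := congrArg (Subtype.val) hk
    simpa using this
  have h2 : orderOf x ∣ p ^ k := orderOf_dvd_of_pow_eq_one h1
  obtain ⟨j, _, hj⟩ := (Nat.dvd_prime_pow (Fact.out : p.Prime)).mp h2
  exact ⟨j, hj⟩

section Backward

variable [Finite G] {p : ℕ} [Fact p.Prime] {M : Ideal Cfsg.AlgInt}

/-- under the degree condition, `Z(Q)` is a defect group of the block `e` of `C_G(Q)` -/
theorem zSub_isDefectGroup (hM : Cfsg.IsPModular p M) (Q : Subgroup G)
    (e : Set (Cfsg.IrrCharacter (Subgroup.centralizer (Q : Set G))))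
    (he : Cfsg.IsBrauerPair p M Q e)
    (θ : Cfsg.IrrCharacter (Subgroup.centralizer (Q : Set G))) (hθ : θ ∈ e)
    (hdeg : (Cfsg.charDegree (θ : Subgroup.centralizer (Q : Set G) → ℂ)).factorization p
      + (Nat.card ↥(Q ⊓ Subgroup.centralizer (Q : Set G))).factorization p
      = (Nat.card (Subgroup.centralizer (Q : Set G))).factorization p) :
    Cfsg.IsDefectGroup p M e (zSub Q) := by
  have h1 : (zSub Q).index * Nat.card (zSub Q)
      = Nat.card (Subgroup.centralizer (Q : Set G)) := Subgroup.index_mul_card _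
  have h2 : ((zSub Q).index).factorization p + (Nat.card (zSub Q)).factorization p
      = (Nat.card (Subgroup.centralizer (Q : Set G))).factorization p := by
    rw [← h1, Nat.factorization_mul (Subgroup.index_ne_zero_of_finite) Nat.card_pos.ne']
    rfl
  rw [card_zSub] at h2
  have h3 : (Cfsg.charDegree (θ : Subgroup.centralizer (Q : Set G) → ℂ)).factorization p
      = ((zSub Q).index).factorization p := by omega
  have h4 := central_defect_isDefectGroup p M hM (zSub Q) (zSub_isPGroup Q he.1)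
    (zSub_le_center Q) θ h3
  rwa [← eq_blockOf_of_mem hM he.2 hθ] at h4

/-- the backward direction -/
theorem backward (hM : Cfsg.IsPModular p M) (Q : Subgroup G)
    (e : Set (Cfsg.IrrCharacter (Subgroup.centralizer (Q : Set G))))
    (he : Cfsg.IsBrauerPair p M Q e)
    (θ : Cfsg.IrrCharacter (Subgroup.centralizer (Q : Set G))) (hθ : θ ∈ e)
    (hdeg : (Cfsg.charDegree (θ : Subgroup.centralizer (Q : Set G) → ℂ)).factorization p
      + (Nat.card ↥(Q ⊓ Subgroup.centralizer (Q : Set G))).factorization p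
      = (Nat.card (Subgroup.centralizer (Q : Set G))).factorization p)
    (hc : ∀ g : G, g ∈ Subgroup.normalizer (Q : Set G) →
      Cfsg.StabilizesBlock (Subgroup.centralizer (Q : Set G)) e g →
      (∃ k : ℕ, orderOf g = p ^ k) → g ∈ Q ⊔ Subgroup.centralizer (Q : Set G)) :
    ∃ B : Set (Cfsg.IrrCharacter G), Cfsg.IsMaximalBrauerPair p M B Q e := by
  classical
  letI : Fintype G := Fintype.ofFinite G
  obtain ⟨B, hB, _⟩ := existsUnique_block_of_brauerPair hM Q e he
  refine ⟨B, isMaximalBrauerPair_of_forall_isNormalSubpair hM B Q e hB ?_⟩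
  intro R g hns
  obtain ⟨_, hRg, hQR, hRN, hst, hom⟩ := hns
  by_contra hne
  have hex : ∃ x ∈ R, x ∉ Q := by
    by_contra h
    push Not at h
    exact hne (le_antisymm h hQR)
  obtain ⟨x, hxR, hxQ⟩ := hex
  have hxQC := hc x (hRN hxR) (hst x hxR) (exists_orderOf_eq_of_mem hRg.1 hxR)
  have hCN : Subgroup.centralizer (Q : Set G) ≤ Subgroup.normalizer (Q : Set G) :=
    Subgroup.centralizer_le_normalizer _
  have hcoe := Subgroup.coe_mul_of_right_le_normalizer_left Q
    (Subgroup.centralizer (Q : Set G)) hCN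
  have hx' : x ∈ ((Q ⊔ Subgroup.centralizer (Q : Set G) : Subgroup G) : Set G) := hxQC
  rw [hcoe] at hx'
  obtain ⟨q, hq, c, hcC, hqc⟩ := hx'
  have hcR : c ∈ R := by
    have : c = q⁻¹ * x := by rw [← hqc]; group
    rw [this]
    exact R.mul_mem (R.inv_mem (hQR hq)) hxR
  have hcQ : c ∉ Q := by
    intro h
    apply hxQ
    rw [← hqc]
    exact Q.mul_mem hq h
  -- defect of `e`
  have hZD := zSub_isDefectGroup hM Q e he θ hθ hdeg
  letI : Fintype (Subgroup.centralizer (Q : Set G)) := Fintype.ofFinite _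
  letI : Fintype (Subgroup.centralizer (R : Set G)) := Fintype.ofFinite _
  have hcardZ := card_of_isDefectGroup hM e he.2 (zSub Q) hZD
  -- a coefficient outside the ideal
  obtain ⟨ξ, hξ⟩ := isPBlock_nonempty hM hRg.2
  have hξ1 := hom ξ hξ
  have hCRQ : Subgroup.centralizer (R : Set G) ≤ Subgroup.centralizer (Q : Set G) :=
    Subgroup.centralizer_le hQR
  have hexy : ∃ y : Subgroup.centralizer (R : Set G), ¬ Cfsg.MemLocalIdeal M
      (Cfsg.subgroupBlockCoeff (Subgroup.centralizer (Q : Set G)) e (y : G)) := by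
    by_contra hall
    push Not at hall
    rw [brauerOmega_eq_omega] at hξ1
    have hcf : Cfsg.IsClassFunction (Subgroup.centralizer (R : Set G))
        (restrictTo (Subgroup.centralizer (R : Set G))
          (Cfsg.subgroupBlockCoeff (Subgroup.centralizer (Q : Set G)) e)) := by
      intro a b
      simp only [restrictTo_apply, Subgroup.coe_mul, Subgroup.coe_inv]
      have h1 : (b : G) * (a : G) * (b : G)⁻¹
          = (((⟨b, hCRQ b.2⟩ : Subgroup.centralizer (Q : Set G))
            * ⟨a, hCRQ a.2⟩ * (⟨b, hCRQ b.2⟩ : Subgroup.centralizer (Q : Set G))⁻¹ :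
              Subgroup.centralizer (Q : Set G)) : G) := rfl
      rw [h1, subgroupBlockCoeff_coe, blockCoeff_isClassFunction e]
      exact (subgroupBlockCoeff_coe _ e ⟨a, hCRQ a.2⟩).symm
    have h3 := omega_memLocalIdeal_of_coeff hM ξ _ hcf (fun y => hall y)
    have h4 := memLocalIdeal_sub hM h3 hξ1
    rw [sub_sub_cancel] at h4
    exact not_memLocalIdeal_one hM h4
  obtain ⟨y, hy⟩ := hexy
  have hyC : (y : G) ∈ Subgroup.centralizer (Q : Set G) := hCRQ y.2
  have hy' : ¬ Cfsg.MemLocalIdeal M (Cfsg.blockCoeff e ⟨(y : G), hyC⟩) := by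
    rw [← subgroupBlockCoeff_coe]
    exact hy
  have hle := factorization_le_blockDefect hM e he.2 ⟨(y : G), hyC⟩ hy'
  -- the subgroup `R ∩ C` inside `C_C(y)`
  set S : Subgroup (Subgroup.centralizer (Q : Set G)) :=
    R.subgroupOf (Subgroup.centralizer (Q : Set G)) with hS
  have hSp : IsPGroup p S := by
    have h1 : IsPGroup p ↥(R ⊓ Subgroup.centralizer (Q : Set G)) := hRg.1.to_le inf_le_left
    have h2 : S = (R ⊓ Subgroup.centralizer (Q : Set G)).subgroupOf
        (Subgroup.centralizer (Q : Set G)) := by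
      rw [hS, Subgroup.inf_subgroupOf_right]
    rw [h2]
    exact h1.of_equiv (Subgroup.subgroupOfEquivOfLe inf_le_right).symm
  have hZS : zSub Q ≤ S := by
    intro z hz
    rw [mem_zSub] at hz
    exact Subgroup.mem_subgroupOf.mpr (hQR hz)
  have hZS' : zSub Q < S := by
    refine lt_of_le_of_ne hZS ?_
    intro h
    have h1 : (⟨c, hcC⟩ : Subgroup.centralizer (Q : Set G)) ∈ S :=
      Subgroup.mem_subgroupOf.mpr hcR
    rw [← h, mem_zSub] at h1
    exact hcQ h1
  have hSy : S ≤ Subgroup.centralizer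
      ({(⟨(y : G), hyC⟩ : Subgroup.centralizer (Q : Set G))} : Set _) := by
    intro s hs
    rw [Subgroup.mem_centralizer_singleton_iff]
    apply Subtype.ext
    have h1 : (s : G) ∈ R := Subgroup.mem_subgroupOf.mp hs
    have h2 := (Subgroup.mem_centralizer_iff.mp y.2) (s : G) h1
    simpa using h2
  obtain ⟨n, hn⟩ := IsPGroup.iff_card.mp hSp
  have h5 : Nat.card (zSub Q) < Nat.card S := by
    have h0 : ((zSub Q : Subgroup _) : Set (Subgroup.centralizer (Q : Set G))) ⊂ (S : Set _) :=
      SetLike.coe_ssubset_coe.mpr hZS'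
    have := Set.ncard_lt_ncard h0 (Set.toFinite _)
    rw [← Nat.card_coe_set_eq, ← Nat.card_coe_set_eq] at this
    exact this
  rw [hcardZ, hn] at h5
  have h6 : Cfsg.blockDefect p e < n :=
    (Nat.pow_lt_pow_iff_right (Fact.out : p.Prime).one_lt).mp h5
  have h7 : Nat.card S ∣ Nat.card (Subgroup.centralizer
      ({(⟨(y : G), hyC⟩ : Subgroup.centralizer (Q : Set G))} : Set _)) :=
    Subgroup.card_dvd_of_le hSy
  rw [hn] at h7
  have h8 : n ≤ (Nat.card (Subgroup.centralizer
      ({(⟨(y : G), hyC⟩ : Subgroup.centralizer (Q : Set G))} : Set _))).factorization p :=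
    (Nat.Prime.pow_dvd_iff_le_factorization (Fact.out : p.Prime) Nat.card_pos.ne').mp h7
  omega

end Backward

theorem zSub_normal (Q : Subgroup G) : (zSub Q).Normal := by
  refine ⟨fun z hz g => ?_⟩
  have h := Subgroup.mem_center_iff.mp (zSub_le_center Q hz) g
  rw [h, mul_inv_cancel_right]
  exact hz

section Forward

variable [Finite G] {p : ℕ} [Fact p.Prime] {M : Ideal Cfsg.AlgInt}

/-- for a maximal Brauer pair `(Q, e)`, `Z(Q)` is a defect group of `e` -/
theorem zSub_isDefectGroup_of_max (hM : Cfsg.IsPModular p M) (Q : Subgroup G)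
    (e : Set (Cfsg.IrrCharacter (Subgroup.centralizer (Q : Set G))))
    (B : Set (Cfsg.IrrCharacter G)) (hmax : Cfsg.IsMaximalBrauerPair p M B Q e) :
    Cfsg.IsDefectGroup p M e (zSub Q) := by
  classical
  letI : Fintype G := Fintype.ofFinite G
  letI : Fintype (Subgroup.centralizer (Q : Set G)) := Fintype.ofFinite _
  have he := hmax.1.1
  obtain ⟨D, hD, hZD⟩ := exists_isDefectGroup_ge_centralizerIn hM Q Q e e he le_rfl
    Relation.ReflTransGen.refl
  obtain ⟨y, hy, hDy, hDcard⟩ := exists_of_isDefectGroup hD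
  have hDp : IsPGroup p D := IsPGroup.of_card hDcard
  set D' : Subgroup G := D.map (Subgroup.centralizer (Q : Set G)).subtype with hD'
  have hD'p : IsPGroup p D' := hDp.map _
  have hD'C : D' ≤ Subgroup.centralizer (Q : Set G) := by
    rintro _ ⟨d, _, rfl⟩
    exact d.2
  have hCN : Subgroup.centralizer (Q : Set G) ≤ Subgroup.normalizer (Q : Set G) :=
    Subgroup.centralizer_le_normalizer _
  set R : Subgroup G := Q ⊔ D' with hR
  have hRp : IsPGroup p R := IsPGroup.to_sup_of_normal_left' he.1 hD'p (hD'C.trans hCN)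
  have hQR : Q ≤ R := le_sup_left
  have hRN : R ≤ Subgroup.normalizer (Q : Set G) :=
    sup_le Subgroup.le_normalizer (hD'C.trans hCN)
  have hRQC : R ≤ Q ⊔ Subgroup.centralizer (Q : Set G) := sup_le_sup_left hD'C Q
  have hst : ∀ x ∈ R, Cfsg.StabilizesBlock (Subgroup.centralizer (Q : Set G)) e x := by
    intro x hx
    exact ((mem_stabSubgroup Q e x).mp (sup_centralizer_le_stabSubgroup Q e (hRQC hx))).2
  have hyR : (y : G) ∈ Subgroup.centralizer (R : Set G) := by
    have h1 : R ≤ Subgroup.centralizer ({(y : G)} : Set G) := by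
      refine sup_le ?_ ?_
      · intro q hq
        rw [Subgroup.mem_centralizer_singleton_iff]
        exact ((Subgroup.mem_centralizer_iff.mp y.2) q hq)
      · rintro _ ⟨d, hd, rfl⟩
        rw [Subgroup.mem_centralizer_singleton_iff]
        have h2 := Subgroup.mem_centralizer_singleton_iff.mp (hDy hd)
        have h3 := congrArg Subtype.val h2
        simpa using h3
    rw [Subgroup.mem_centralizer_iff]
    intro r hr
    exact (Subgroup.mem_centralizer_singleton_iff.mp (h1 hr))
  have hg : ¬ Cfsg.MemLocalIdeal M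
      (Cfsg.subgroupBlockCoeff (Subgroup.centralizer (Q : Set G)) e (y : G)) := by
    rw [subgroupBlockCoeff_coe]
    exact hy.2.1
  obtain ⟨f', hns⟩ := exists_normalSubpair_of_unit hM Q R e he hRp hQR hRN hst (y : G) hyR hg
  have hRQ : R = Q := eq_of_isNormalSubpair_of_isMaximalBrauerPair hM B Q e hmax R f' hns
  have hDZ : D ≤ zSub Q := by
    intro d hd
    rw [mem_zSub]
    have h1 : (d : G) ∈ D' := ⟨d, hd, rfl⟩
    have h2 : (d : G) ∈ R := (le_sup_right : D' ≤ R) h1
    rwa [hRQ] at h2
  have : D = zSub Q := le_antisymm hDZ hZD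
  rwa [this] at hD

/-- the forward direction -/
theorem forward (hM : Cfsg.IsPModular p M) (Q : Subgroup G)
    (e : Set (Cfsg.IrrCharacter (Subgroup.centralizer (Q : Set G))))
    (B : Set (Cfsg.IrrCharacter G)) (hmax : Cfsg.IsMaximalBrauerPair p M B Q e) :
    ∃ θ ∈ e, (∀ z : Subgroup.centralizer (Q : Set G), (z : G) ∈ Q →
        (θ : Subgroup.centralizer (Q : Set G) → ℂ) z
          = (θ : Subgroup.centralizer (Q : Set G) → ℂ) 1) ∧
      (Cfsg.charDegree (θ : Subgroup.centralizer (Q : Set G) → ℂ)).factorization p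
        + (Nat.card ↥(Q ⊓ Subgroup.centralizer (Q : Set G))).factorization p
        = (Nat.card (Subgroup.centralizer (Q : Set G))).factorization p ∧
      (∀ g : G, g ∈ Subgroup.normalizer (Q : Set G) →
        Cfsg.StabilizesBlock (Subgroup.centralizer (Q : Set G)) e g →
        (∃ k : ℕ, orderOf g = p ^ k) → g ∈ Q ⊔ Subgroup.centralizer (Q : Set G)) := by
  classical
  letI : Fintype G := Fintype.ofFinite G
  have he := hmax.1.1
  have hZD := zSub_isDefectGroup_of_max hM Q e B hmax
  haveI := zSub_normal Q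
  obtain ⟨θ, hθ, hker⟩ := exists_mem_ker_of_normal_pgroup hM (zSub Q) (zSub_isPGroup Q he.1)
    e he.2
  have hdeg := canonical_degree hM (zSub Q) e he.2 hZD θ hθ hker
  refine ⟨θ, hθ, ?_, ?_, ?_⟩
  · intro z hz
    exact hker z ((mem_zSub Q z).mpr hz)
  · have h1 : (zSub Q).index * Nat.card (zSub Q)
        = Nat.card (Subgroup.centralizer (Q : Set G)) := Subgroup.index_mul_card _
    have h2 : ((zSub Q).index).factorization p + (Nat.card (zSub Q)).factorization p
        = (Nat.card (Subgroup.centralizer (Q : Set G))).factorization p := by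
      rw [← h1, Nat.factorization_mul (Subgroup.index_ne_zero_of_finite) Nat.card_pos.ne']
      rfl
    rw [card_zSub] at h2
    omega
  · rintro g hgN hgst ⟨k, hk⟩
    have hzN : Subgroup.zpowers g ≤ Subgroup.normalizer (Q : Set G) := by
      rw [Subgroup.zpowers_le]
      exact hgN
    have hzp : IsPGroup p (Subgroup.zpowers g) := by
      apply IsPGroup.of_card (n := k)
      rw [Nat.card_zpowers, hk]
    have hR : IsPGroup p (Q ⊔ Subgroup.zpowers g : Subgroup G) :=
      IsPGroup.to_sup_of_normal_left' he.1 hzp hzN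
    have hRT : Q ⊔ Subgroup.zpowers g ≤ stabSubgroup Q e := by
      refine sup_le (le_stabSubgroup Q e) ?_
      rw [Subgroup.zpowers_le]
      exact (mem_stabSubgroup Q e g).mpr ⟨hgN, hgst⟩
    have h := le_sup_centralizer_of_isMaximalBrauerPair hM B Q e hmax _ hR le_sup_left hRT
    exact h ((le_sup_right : Subgroup.zpowers g ≤ Q ⊔ Subgroup.zpowers g)
      (Subgroup.mem_zpowers g))

end Forward

theorem result {G : Type*} [Group G] [Finite G] (p : ℕ) [Fact p.Prime] (M : Ideal Cfsg.AlgInt) (hM : Cfsg.IsPModular p M) (Q : Subgroup G) (e : Set (Cfsg.IrrCharacter (Subgroup.centralizer (Q : Set G)))) (he : Cfsg.IsBrauerPair p M Q e) :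
    (∃ B : Set (Cfsg.IrrCharacter G), Cfsg.IsMaximalBrauerPair p M B Q e) ↔
      ∃ θ ∈ e, (∀ z : Subgroup.centralizer (Q : Set G), (z : G) ∈ Q → (θ : Subgroup.centralizer (Q : Set G) → ℂ) z = (θ : Subgroup.centralizer (Q : Set G) → ℂ) 1) ∧
        (Cfsg.charDegree (θ : Subgroup.centralizer (Q : Set G) → ℂ)).factorization p + (Nat.card ↥(Q ⊓ Subgroup.centralizer (Q : Set G))).factorization p = (Nat.card (Subgroup.centralizer (Q : Set G))).factorization p ∧
        (∀ g : G, g ∈ Subgroup.normalizer (Q : Set G) → Cfsg.StabilizesBlock (Subgroup.centralizer (Q : Set G)) e g → (∃ k : ℕ, orderOf g = p ^ k) → g ∈ Q ⊔ Subgroup.centralizer (Q : Set G)) := by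
  constructor
  · rintro ⟨B, hmax⟩
    exact forward hM Q e B hmax
  · rintro ⟨θ, hθ, _, hdeg, hc⟩
    exact backward hM Q e he θ hθ hdeg hc

end Cfsg.Agent.S4828
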