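import Mathlib
import Cfsg.Statements.S4694
import Cfsg.Agent.S4828
import Cfsg.Agent.Lib.Helper25.DefectZeroQuot
import Cfsg.Agent.Lib.Helper24.FongReynolds
import Cfsg.Agent.Lib.Helper24.BlockBasic

set_option autoImplicit false
open Cfsg

namespace Cfsg.Agent.S4694

open Cfsg.Agent.Lib.Helper2 Cfsg.Agent.Lib.Helper7 Cfsg.Agent.Lib.Helper24
open scoped ComplexConjugate

section Idem

variable {K : Type*} [Group K] [Fintype K]

/-- the value of a class function at the idempotent of a set of irreducible characters -/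
theorem sum_blockCoeff_mul (e : Set (Cfsg.IrrCharacter K)) [DecidablePred (· ∈ e)]
    [Fintype (Cfsg.IrrCharacter K)] (φ : K → ℂ) (hφ : Cfsg.IsClassFunction K φ) :
    ∑ c : K, Cfsg.blockCoeff e c * φ c
      = ∑ ξ : Cfsg.IrrCharacter K,
          if ξ ∈ e then Cfsg.classInner φ (ξ : K → ℂ) * (ξ : K → ℂ) 1 else 0 := by
  classical
  have hexp := Cfsg.Agent.Lib.Helper2.classFunction_expansion φ hφ
  have h1 : ∀ c : K, φ c = ∑ ξ : Cfsg.IrrCharacter K,
      Cfsg.classInner φ (ξ : K → ℂ) * (ξ : K → ℂ) c := by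
    intro c
    have := congrFun hexp c
    rw [Finset.sum_apply] at this
    simpa using this
  have h2 : ∀ ξ : Cfsg.IrrCharacter K, ∑ c : K, Cfsg.blockCoeff e c * (ξ : K → ℂ) c
      = if ξ ∈ e then (ξ : K → ℂ) 1 else 0 := by
    intro ξ
    have h := omega_blockCoeff e ξ
    unfold omega at h
    have hne : (ξ : K → ℂ) 1 ≠ 0 := IsIrrCharacter.apply_one_ne_zero ξ.2
    rw [div_eq_iff hne] at h
    rw [h]
    split_ifs <;> simp
  calc ∑ c : K, Cfsg.blockCoeff e c * φ c
      = ∑ c : K, ∑ ξ : Cfsg.IrrCharacter K, Cfsg.classInner φ (ξ : K → ℂ)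
          * (Cfsg.blockCoeff e c * (ξ : K → ℂ) c) := by
        apply Finset.sum_congr rfl; intro c _
        conv_lhs => rw [h1 c]
        rw [Finset.mul_sum]
        apply Finset.sum_congr rfl; intro ξ _
        ring
    _ = ∑ ξ : Cfsg.IrrCharacter K, Cfsg.classInner φ (ξ : K → ℂ)
          * ∑ c : K, Cfsg.blockCoeff e c * (ξ : K → ℂ) c := by
        rw [Finset.sum_comm]
        apply Finset.sum_congr rfl; intro ξ _
        rw [Finset.mul_sum]
    _ = _ := by
        apply Finset.sum_congr rfl; intro ξ _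
        rw [h2 ξ]
        split_ifs <;> simp

/-- a character whose value at the idempotent of `e` is its degree has all constituents in `e` -/
theorem mem_of_sum_blockCoeff_eq (e : Set (Cfsg.IrrCharacter K)) (φ : K → ℂ)
    (hφ : Cfsg.IsCharacter K φ) (h : ∑ c : K, Cfsg.blockCoeff e c * φ c = φ 1)
    (ξ : Cfsg.IrrCharacter K) (hξ : Cfsg.classInner φ (ξ : K → ℂ) ≠ 0) : ξ ∈ e := by
  classical
  haveI : Fintype (Cfsg.IrrCharacter K) := Fintype.ofFinite _
  have hcf : Cfsg.IsClassFunction K φ := IsCharacter.isClassFunction hφ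
  rw [sum_blockCoeff_mul e φ hcf] at h
  have hexp := Cfsg.Agent.Lib.Helper2.classFunction_expansion φ hcf
  have h1 : φ 1 = ∑ ξ : Cfsg.IrrCharacter K,
      Cfsg.classInner φ (ξ : K → ℂ) * (ξ : K → ℂ) 1 := by
    have := congrFun hexp 1
    rw [Finset.sum_apply] at this
    simpa using this
  rw [h1] at h
  choose n hn using fun ξ : Cfsg.IrrCharacter K =>
    classInner_isCharacter_nat hφ (IsIrrCharacter.isCharacter ξ.2)
  have hd : ∀ ξ : Cfsg.IrrCharacter K, (ξ : K → ℂ) 1 = (Cfsg.charDegree (ξ : K → ℂ) : ℂ) :=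
    fun ξ => Cfsg.Agent.Lib.Helper25.char_one_eq_charDegree (IsIrrCharacter.isCharacter ξ.2)
  have h2 : ∑ ξ : Cfsg.IrrCharacter K,
      (if ξ ∈ e then n ξ * Cfsg.charDegree (ξ : K → ℂ) else 0)
      = ∑ ξ : Cfsg.IrrCharacter K, n ξ * Cfsg.charDegree (ξ : K → ℂ) := by
    have : ((∑ ξ : Cfsg.IrrCharacter K,
        (if ξ ∈ e then n ξ * Cfsg.charDegree (ξ : K → ℂ) else 0) : ℕ) : ℂ)
        = ((∑ ξ : Cfsg.IrrCharacter K, n ξ * Cfsg.charDegree (ξ : K → ℂ) : ℕ) : ℂ) := by
      simp only [hn, hd] at h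
      push_cast
      rw [← h]
    exact_mod_cast this
  by_contra hcon
  have h3 : ∀ ξ' : Cfsg.IrrCharacter K,
      (if ξ' ∈ e then n ξ' * Cfsg.charDegree (ξ' : K → ℂ) else 0)
        ≤ n ξ' * Cfsg.charDegree (ξ' : K → ℂ) := by
    intro ξ'
    split_ifs
    · exact le_rfl
    · exact Nat.zero_le _
  have h4 := (Finset.sum_eq_sum_iff_of_le (fun ξ' _ => h3 ξ')).mp h2 ξ (Finset.mem_univ _)
  rw [if_neg hcon] at h4
  have h5 : n ξ = 0 := by
    rcases Nat.mul_eq_zero.mp h4.symm with h | h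
    · exact h
    · exact absurd h (Cfsg.Agent.Lib.Helper25.irr_degree_pos ξ.2).ne'
  apply hξ
  rw [hn ξ, h5, Nat.cast_zero]

end Idem

theorem result {G : Type*} [Group G] [Fintype G] (p : ℕ) [Fact p.Prime] (M : Ideal Cfsg.AlgInt) (hM : Cfsg.IsPModular p M) (B : Set (Cfsg.IrrCharacter G)) (Q : Subgroup G) (e : Set (Cfsg.IrrCharacter (Subgroup.centralizer (Q : Set G)))) (hQe : Cfsg.IsBrauerPairOf p M B Q e) (T : Subgroup G) (hT : ∀ y : G, y ∈ T ↔ y ∈ Subgroup.normalizer (Q : Set G) ∧ Cfsg.StabilizesBlock (Subgroup.centralizer (Q : Set G)) e y) (F' : Set (Cfsg.IrrCharacter T)) (hF' : Cfsg.IsPBlock M F') (hF'e : ∀ t : T, Cfsg.blockCoeff F' t = Cfsg.subgroupBlockCoeff (Subgroup.centralizer (Q : Set G)) e (t : G)) (χ : Cfsg.IrrCharacter T) (hχ : χ ∈ F') (hχQ : ∀ q : G, q ∈ Q → ∀ t : T, ∀ t' : T, (t' : G) = q * (t : G) → (χ : T → ℂ) t' = (χ : T → ℂ) t) (hdeg : (Cfsg.charDegree (χ : T → ℂ)).factorization p + (Nat.card Q).factorization p = (Nat.card T).factorization p)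 : Cfsg.IsDefectGroup p M e ((Q ⊓ Subgroup.centralizer (Q : Set G)).subgroupOf (Subgroup.centralizer (Q : Set G))) ∧ ∀ R : Subgroup G, R ≤ T → IsPGroup p R → (∀ t ∈ T, t ∈ Subgroup.normalizer (R : Set G)) → R ≤ Q := by
  classical
  haveI : Fintype T := Fintype.ofFinite _
  haveI : Fintype (Subgroup.centralizer (Q : Set G)) := Fintype.ofFinite _
  have hTeq : T = stabSubgroup Q e := by
    ext y
    rw [hT, mem_stabSubgroup]
  have hQT : Q ≤ T := hTeq ▸ le_stabSubgroup Q e
  have hCT : Subgroup.centralizer (Q : Set G) ≤ T := hTeq ▸ centralizer_le_stabSubgroup Q e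
  have hTN : T ≤ Subgroup.normalizer (Q : Set G) := fun y hy => ((hT y).mp hy).1
  haveI hQn : (Q.subgroupOf T).Normal := Subgroup.normal_subgroupOf_of_le_normalizer hTN
  have hQ' : ∀ q ∈ Q.subgroupOf T, (χ : T → ℂ) q = (χ : T → ℂ) 1 := by
    intro q hq
    exact hχQ (q : G) (Subgroup.mem_subgroupOf.mp hq) 1 q (by simp)
  have hcardQ : Nat.card (Q.subgroupOf T) = Nat.card Q :=
    Nat.card_congr (Subgroup.subgroupOfEquivOfLe hQT).toEquiv
  have hdeg' : (Cfsg.charDegree (χ : T → ℂ)).factorization p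
      + (Nat.card (Q.subgroupOf T)).factorization p = (Nat.card T).factorization p := by
    rw [hcardQ]; exact hdeg
  refine ⟨?_, ?_⟩
  · -- `Z(Q)` is a defect group of `e`
    have hTNC : T ≤ Subgroup.normalizer
        ((Subgroup.centralizer (Q : Set G) : Subgroup G) : Set G) :=
      hTN.trans (normalizer_le_normalizer_centralizer Q)
    haveI hCn : ((Subgroup.centralizer (Q : Set G)).subgroupOf T).Normal :=
      Subgroup.normal_subgroupOf_of_le_normalizer hTNC
    haveI : Fintype ((Subgroup.centralizer (Q : Set G)).subgroupOf T) := Fintype.ofFinite _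
    obtain ⟨ϑ, hϑ, hcon, _, hd⟩ := Cfsg.Agent.Lib.Helper25.exists_constituent_mod p
      (Q.subgroupOf T) ((Subgroup.centralizer (Q : Set G)).subgroupOf T) (χ : T → ℂ) χ.2 hQ' hdeg'
    set eqv := Subgroup.subgroupOfEquivOfLe hCT with heqv
    have hθirr : Cfsg.IsIrrCharacter (Subgroup.centralizer (Q : Set G))
        (fun c => ϑ (eqv.symm c)) :=
      Cfsg.Agent.Lib.Helper25.isIrrCharacter_comp eqv.symm.toMonoidHom eqv.symm.surjective hϑ
    set θ' : Cfsg.IrrCharacter (Subgroup.centralizer (Q : Set G)) :=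
      ⟨fun c => ϑ (eqv.symm c), hθirr⟩ with hθ'
    -- the restriction of `χ` to `C_G(Q)`
    set φ : Subgroup.centralizer (Q : Set G) → ℂ :=
      fun c => (χ : T → ℂ) (Subgroup.inclusion hCT c) with hφ
    have hφchar : Cfsg.IsCharacter (Subgroup.centralizer (Q : Set G)) φ :=
      Cfsg.Agent.Lib.Helper25.isCharacter_comp (Subgroup.inclusion hCT)
        (IsIrrCharacter.isCharacter χ.2)
    have hconθ : Cfsg.classInner φ (θ' : Subgroup.centralizer (Q : Set G) → ℂ) ≠ 0 := by
      rw [← classInner_comp_subgroupOfEquiv hCT φ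
        (θ' : Subgroup.centralizer (Q : Set G) → ℂ)]
      have hA : (fun x : (Subgroup.centralizer (Q : Set G)).subgroupOf T =>
          φ (Subgroup.subgroupOfEquivOfLe hCT x))
          = fun n : (Subgroup.centralizer (Q : Set G)).subgroupOf T => (χ : T → ℂ) (n : T) := by
        funext x
        rfl
      have hB : (fun x : (Subgroup.centralizer (Q : Set G)).subgroupOf T =>
          (θ' : Subgroup.centralizer (Q : Set G) → ℂ) (Subgroup.subgroupOfEquivOfLe hCT x))
          = ϑ := by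
        funext x
        show ϑ (eqv.symm (eqv x)) = ϑ x
        rw [MulEquiv.symm_apply_apply]
      rw [hA, hB]
      exact hcon
    -- the idempotent
    have hsum : ∑ c : Subgroup.centralizer (Q : Set G), Cfsg.blockCoeff e c * φ c = φ 1 := by
      have h1 := omega_blockCoeff F' χ
      rw [if_pos hχ] at h1
      unfold omega at h1
      have hne : (χ : T → ℂ) 1 ≠ 0 := IsIrrCharacter.apply_one_ne_zero χ.2
      rw [div_eq_iff hne, one_mul] at h1
      have h2 : φ 1 = (χ : T → ℂ) 1 := by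
        simp only [hφ, map_one]
      rw [h2, ← h1]
      apply Finset.sum_of_injOn (Subgroup.inclusion hCT)
      · exact (Subgroup.inclusion_injective hCT).injOn
      · intro c _; exact Finset.mem_coe.mpr (Finset.mem_univ _)
      · intro t _ ht
        have htC : (t : G) ∉ Subgroup.centralizer (Q : Set G) := by
          intro h
          apply ht
          exact ⟨⟨(t : G), h⟩, Finset.mem_coe.mpr (Finset.mem_univ _), Subtype.ext rfl⟩
        rw [hF'e, Cfsg.subgroupBlockCoeff, dif_neg htC, zero_mul]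
      · intro c _
        rw [hF'e]
        have : ((Subgroup.inclusion hCT c : T) : G) = (c : G) := rfl
        rw [this, subgroupBlockCoeff_coe]
    have hθe : θ' ∈ e := mem_of_sum_blockCoeff_eq e φ hφchar hsum θ' hconθ
    -- degrees
    have hcardC : Nat.card ((Subgroup.centralizer (Q : Set G)).subgroupOf T)
        = Nat.card (Subgroup.centralizer (Q : Set G)) := Nat.card_congr eqv.toEquiv
    have hcardZ : Nat.card ↥(Q.subgroupOf T ⊓ (Subgroup.centralizer (Q : Set G)).subgroupOf T)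
        = Nat.card ↥(Q ⊓ Subgroup.centralizer (Q : Set G)) := by
      apply Nat.card_congr
      exact
        { toFun := fun x => ⟨((x : T) : G), Subgroup.mem_subgroupOf.mp x.2.1,
            Subgroup.mem_subgroupOf.mp x.2.2⟩
          invFun := fun z => ⟨⟨(z : G), hCT z.2.2⟩, Subgroup.mem_subgroupOf.mpr z.2.1,
            Subgroup.mem_subgroupOf.mpr z.2.2⟩
          left_inv := fun x => rfl
          right_inv := fun z => rfl }
    have hdθ : Cfsg.charDegree (θ' : Subgroup.centralizer (Q : Set G) → ℂ)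
        = Cfsg.charDegree ϑ := by
      unfold Cfsg.charDegree
      show ⌊(ϑ (eqv.symm 1)).re⌋₊ = _
      rw [map_one]
    rw [hcardC, hcardZ, ← hdθ] at hd
    exact Cfsg.Agent.S4828.zSub_isDefectGroup hM Q e hQe.1 θ' hθe hd
  · intro R hRT hRp hRn
    haveI hRn' : (R.subgroupOf T).Normal :=
      Subgroup.normal_subgroupOf_of_le_normalizer (fun t ht => hRn t ht)
    have hRp' : IsPGroup p (R.subgroupOf T) :=
      hRp.of_equiv (Subgroup.subgroupOfEquivOfLe hRT).symm
    have h := Cfsg.Agent.Lib.Helper25.normal_pgroup_le_of_defect_zero_mod p (Q.subgroupOf T)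
      (R.subgroupOf T) hRp' (χ : T → ℂ) χ.2 hQ' hdeg'
    intro r hr
    have h1 : (⟨r, hRT hr⟩ : T) ∈ R.subgroupOf T := Subgroup.mem_subgroupOf.mpr hr
    exact Subgroup.mem_subgroupOf.mp (h h1)

end Cfsg.Agent.S4694
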