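-- Statement S4702.
import Mathlib
import Cfsg.Statements.S4702
import Cfsg.Agent.Lib.Helper29.SharpThree
import Cfsg.Agent.Lib.Helper4.SharpTrans

set_option autoImplicit false
open Cfsg

namespace Cfsg.Agent.S4702

open Cfsg.Agent.Helper29.SharpThree

/-- the embedding of an ordered triple of distinct points -/
def tripleEmb {α : Type*} (a b c : α) (hab : a ≠ b) (hac : a ≠ c) (hbc : b ≠ c) : Fin 3 ↪ α :=
  ⟨![a, b, c], by
    intro i j h
    fin_cases i <;> fin_cases j <;>
      first
        | rfl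
        | (exfalso; revert h; simp [hab, hac, hbc, hab.symm, hac.symm, hbc.symm])⟩

/-- in characteristic 2, `SL₂` has trivial centre -/
theorem center_SL_eq_bot {F : Type*} [Field F] [CharP F 2] :
    Subgroup.center (Matrix.SpecialLinearGroup (Fin 2) F) = ⊥ := by
  rw [Subgroup.eq_bot_iff_forall]
  intro g hg
  rw [Matrix.SpecialLinearGroup.mem_center_iff] at hg
  obtain ⟨r, hr, hA⟩ := hg
  have hr2 : r ^ 2 = 1 := by simpa using hr
  have h0 : (r + 1) ^ 2 = 0 := by
    rw [CharTwo.add_sq, hr2, one_pow]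
    exact CharTwo.add_self_eq_zero 1
  have h1 : r + 1 = 0 := (pow_eq_zero_iff (n := 2) (by norm_num)).mp h0
  have hr1 : r = 1 := by
    have h2 : r = -1 := eq_neg_of_add_eq_zero_left h1
    rw [h2, CharTwo.neg_eq]
  subst hr1
  apply Subtype.ext
  rw [← hA]
  simp

/-- Let G be a triply transitive permutation group on a finite set of odd size m ≥ 3 in which only the identity fixes three or more points. Then m = 2^a + 1 for some a ≥ 1 and G is isomorphic to SL(2, 2^a). -/
theorem result {α : Type*} [Fintype α] [DecidableEq α] (hm : 3 ≤ Fintype.card α) (hodd : Odd (Fintype.card α)) (G : Subgroup (Equiv.Perm α)) (h3 : MulAction.IsMultiplyPretransitive G α 3) (hfix : ∀ g : G, 3 ≤ Nat.card (MulAction.fixedBy α g) → g = 1) : ∃ a : ℕ, 1 ≤ a ∧ Fintype.card α = 2 ^ a + 1 ∧ ∃ (F : Type) (_ : Field F) (_ : Fintype F), Fintype.card F = 2 ^ a ∧ Nonempty (G ≃* Matrix.SpecialLinearGroup (Fin 2) F) := by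
  classical
  have hT3 : T3 G α := by
    intro a b c a' b' c' hab hac hbc hab' hac' hbc'
    haveI := h3
    obtain ⟨g, hg⟩ := MulAction.exists_smul_eq G (tripleEmb a b c hab hac hbc)
      (tripleEmb a' b' c' hab' hac' hbc')
    refine ⟨g, ?_, ?_, ?_⟩
    · exact congrFun (congrArg (fun e : Fin 3 ↪ α => (e : Fin 3 → α)) hg) 0
    · exact congrFun (congrArg (fun e : Fin 3 ↪ α => (e : Fin 3 → α)) hg) 1
    · exact congrFun (congrArg (fun e : Fin 3 ↪ α => (e : Fin 3 → α)) hg) 2
  have hS3 : S3 G α := by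
    intro g a b c hab hac hbc ha hb hc
    apply hfix
    have hsub : ({a, b, c} : Set α) ⊆ MulAction.fixedBy α g := by
      intro x hx
      rcases hx with hx | hx | hx
      · rw [hx]; exact ha
      · rw [hx]; exact hb
      · rw [Set.mem_singleton_iff] at hx
        rw [hx]; exact hc
    have hc3 : ({a, b, c} : Set α).ncard = 3 :=
      Set.ncard_eq_three.mpr ⟨a, b, c, hab, hac, hbc, rfl⟩
    have hle := Set.ncard_le_ncard hsub (Set.toFinite _)
    rw [hc3] at hle
    rw [Nat.card_coe_set_eq]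
    exact hle
  have hsharp : ∀ x : Fin 3 ↪ α, MulAction.stabilizer G x = ⊥ := by
    intro x
    rw [Subgroup.eq_bot_iff_forall]
    intro g hg
    rw [MulAction.mem_stabilizer_iff] at hg
    have hgi : ∀ i, g • x i = x i := by
      intro i
      have := congrArg (fun f : Fin 3 ↪ α => f i) hg
      exact this
    exact hS3 g (x 0) (x 1) (x 2) (x.injective.ne (by decide)) (x.injective.ne (by decide))
      (x.injective.ne (by decide)) (hgi 0) (hgi 1) (hgi 2)
  have hcardα : Nat.card α = Fintype.card α := Nat.card_eq_fintype_card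
  have hG : Nat.card G = (Nat.card α).descFactorial 3 :=
    Cfsg.Agent.Helper4.SharpTrans.card_eq ⟨h3, hsharp⟩ (by rw [hcardα]; exact hm)
  have hne : Nonempty α := Fintype.card_pos_iff.mp (by omega)
  obtain ⟨inf⟩ := hne
  have hS := sharp_stab inf hS3
  have hT := twoTrans_stab inf hT3
  have hcP : Nat.card (Pts G inf) + 1 = Nat.card α :=
    SubMulAction.nat_card_ofStabilizer_add_one_eq G inf
  have hn : ∃ a b : Pts G inf, a ≠ b := by
    have h1 : 1 < Nat.card (Pts G inf) := by rw [hcardα] at hcP; omega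
    have hnt : Nontrivial (Pts G inf) := Finite.one_lt_card_iff_nontrivial.mp h1
    exact exists_pair_ne _
  obtain ⟨p, j, hp, hj, hpj, -⟩ := Cfsg.H5.SharpTwo.exists_prime_exponent hS hT hn
  have hp2 : p = 2 := by
    rcases hp.eq_two_or_odd' with h | h
    · exact h
    · exfalso
      have hoddpj : Odd (p ^ j) := h.pow
      rw [← hpj] at hoddpj
      rw [← hcardα, ← hcP] at hodd
      obtain ⟨u, hu⟩ := hoddpj
      obtain ⟨v, hv⟩ := hodd
      omega
  subst hp2
  have hcα : Nat.card α = 2 ^ j + 1 := by rw [← hcP, hpj]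
  refine ⟨j, hj, by rw [← hcardα]; exact hcα, ?_⟩
  have hpos : 1 ≤ 2 ^ j := Nat.one_le_two_pow
  have hcard : 2 ^ j * ((2 ^ j) ^ 2 - 1) ≤ Nat.card G := by
    rw [hG, hcα]
    obtain ⟨m, hm'⟩ : ∃ m, 2 ^ j = m + 1 := ⟨2 ^ j - 1, by omega⟩
    rw [hm']
    have e1 : (m + 1) ^ 2 - 1 = m * (m + 2) := by
      have h1 : (m + 1) ^ 2 = m * (m + 2) + 1 := by ring
      rw [h1, Nat.add_sub_cancel]
    have e2 : (m + 1 + 1).descFactorial 3 = (m + 1 + 1) * ((m + 1) * m) := by
      rw [Nat.succ_descFactorial_succ, Nat.succ_descFactorial_succ, Nat.descFactorial_one]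
    rw [e1, e2]
    exact le_of_eq (by ring)
  haveI : Fact (Nat.Prime 2) := ⟨Nat.prime_two⟩
  letI : Fintype (GaloisField 2 j) := Fintype.ofFinite _
  have hF : Fintype.card (GaloisField 2 j) = 2 ^ j := by
    rw [← Nat.card_eq_fintype_card]
    exact GaloisField.card 2 j (by omega)
  obtain ⟨e⟩ := main (G := G) (Ω := α) j hcα hj hT3 hS3 hcard hF
  refine ⟨GaloisField 2 j, inferInstance, inferInstance, hF, ?_⟩
  haveI : CharP (GaloisField 2 j) 2 := charP_two_of_card j hF
  have hc := center_SL_eq_bot (F := GaloisField 2 j)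
  exact ⟨e.trans ((QuotientGroup.quotientMulEquivOfEq hc).trans QuotientGroup.quotientBot)⟩

end Cfsg.Agent.S4702
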