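import Mathlib
import Cfsg.Statements.S4706
import Cfsg.Agent.Lib.Helper11.S4706M
import Cfsg.Agent.Lib.Helper27.S4706FO2
import Cfsg.Agent.Lib.Helper27.S4706FO3
import Cfsg.Agent.Lib.Helper29.S4706FO5
import Cfsg.Agent.H5.S4706FO4
import Cfsg.Agent.Lib.Helper2.TwoTransitive

set_option autoImplicit false
open Cfsg

namespace Cfsg.Agent.S4706

/-- Let p > 2 be a prime and G a permutation group on p letters whose Sylow p-subgroup P has normalizer of order 2p. Then either P is normal in G, or p − 1 = 2^a for some a and G is isomorphic to SL(2, 2^a). -/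
theorem result {α : Type*} [Fintype α] [DecidableEq α] {p : ℕ} [Fact p.Prime] (hp : 2 < p) (hα : Fintype.card α = p) (G : Subgroup (Equiv.Perm α)) (P : Sylow p G) (hN : Nat.card (Subgroup.normalizer ((P : Subgroup G) : Set G)) = 2 * p) : (P : Subgroup G).Normal ∨ ∃ (a : ℕ) (F : Type) (_ : Field F) (_ : Fintype F), p = 2 ^ a + 1 ∧ Fintype.card F = 2 ^ a ∧ Nonempty (G ≃* Matrix.SpecialLinearGroup (Fin 2) F) := by
  classical
  have hpp : p.Prime := Fact.out
  obtain ⟨hP, hC, htrans, hfpf, h3⟩ := Cfsg.Agent.Lib.Helper29.S4706FO5.initial hp hα G P hN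
  by_cases hp3 : p = 3
  · exact Or.inl (h3 hp3)
  have hp5 : 5 ≤ p := by
    rcases Nat.lt_or_ge p 5 with h | h
    · exfalso
      have h4 : p = 4 := by omega
      rw [h4] at hpp
      exact absurd hpp (by decide)
    · exact h
  haveI : Fintype G := Fintype.ofFinite G
  haveI := htrans
  have hfaith : ∀ g : G, (∀ a : α, g • a = a) → g = 1 := by
    intro g hg
    apply Subtype.ext
    ext a
    exact hg a
  have hΩ : Nat.card α = p := by rw [Nat.card_eq_fintype_card, hα]
  obtain ⟨χ', m', ε', E, Λ, hm', hε', hE, hχ'1, hχ'E, htE, hΛ, hrel, hχ'P, hvan⟩ :=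
    Cfsg.Agent.Lib.Helper11.S4706.brauer_e2 p hpp hp5 (P : Subgroup G) hP hC hN
  rcases Cfsg.Agent.Lib.Helper11.S4706.dichotomy p hp5 hΩ P hP hfaith hfpf χ' m' ε' E Λ hm' hε' hE
    hχ'1 hχ'E htE hΛ hrel hχ'P hvan with hn | ⟨hm1, hε1, hχ'⟩
  · exact Or.inl hn
  right
  -- double transitivity
  have h2t : MulAction.IsMultiplyPretransitive G α 2 := by
    rw [← Cfsg.Agent.Lib.Helper2.isIrrCharacter_fixedPoints_sub_one_iff α (by rw [hΩ]; omega)]
    have h := χ'.2
    have heq : (χ' : G → ℂ) = fun g => (Nat.card (MulAction.fixedBy α g) : ℂ) - 1 := by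
      funext g
      rw [hχ']
      rfl
    rwa [heq] at h
  have h2 : ∀ a b c d : α, a ≠ b → c ≠ d → ∃ g : G, g • a = c ∧ g • b = d := by
    intro a b c d hab hcd
    let e1 : Fin 2 ↪ α := ⟨![a, b], by
      intro i j h
      fin_cases i <;> fin_cases j
      · rfl
      · exact absurd h hab
      · exact absurd h.symm hab
      · rfl⟩
    let e2 : Fin 2 ↪ α := ⟨![c, d], by
      intro i j h
      fin_cases i <;> fin_cases j
      · rfl
      · exact absurd h hcd
      · exact absurd h.symm hcd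
      · rfl⟩
    obtain ⟨g, hg⟩ := MulAction.exists_smul_eq G e1 e2
    refine ⟨g, ?_, ?_⟩
    · exact congrFun (congrArg (fun f : Fin 2 ↪ α => (f : Fin 2 → α)) hg) 0
    · exact congrFun (congrArg (fun f : Fin 2 ↪ α => (f : Fin 2 → α)) hg) 1
  have hswap : ∀ a b : α, a ≠ b → ∃ g : G, g • a = b ∧ g • b = a :=
    fun a b hab => h2 a b b a hab hab.symm
  rw [hm1, hε1] at hrel
  obtain ⟨hfix, hcard⟩ := Cfsg.Agent.Lib.Helper11.S4706.fix_le_two_main p hp5 hΩ (P : Subgroup G) hP
    hfaith hfpf χ' E Λ hE hχ'1 hχ'E htE hΛ hrel hχ'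
    (fun χ => Cfsg.Agent.Lib.Helper27.S4706FO.altSq_inner_nonneg (χ : G → ℂ) χ.2)
    (Cfsg.Agent.Lib.Helper27.S4706FO.altSq_inner_one hswap)
    (Cfsg.Agent.Lib.Helper27.S4706FO.altSq_inner_pch (by rw [hα]; omega) h2)
  exact Cfsg.H5.S4706FO4.final_recognition p hpp hp5 hΩ h2 hfix hcard

end Cfsg.Agent.S4706
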