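import Mathlib
import Cfsg.Statements.S4707
import Cfsg.Agent.Lib.Helper11.S4707Core
import Cfsg.Agent.Lib.Helper3.S4707FOT
import Cfsg.Agent.Lib.Helper6.S4707FOJ
import Cfsg.Agent.S0494

set_option autoImplicit false
open Cfsg

namespace Cfsg.Agent.S4707

/-- Let p > 3 be a prime and G a primitive permutation group of degree 2p that is not doubly transitive. If a Sylow p-subgroup of G has normalizer of order 2p, then p = 5 and G is isomorphic to the alternating group of degree 5. -/
theorem result {α : Type*} [Fintype α] [DecidableEq α] {p : ℕ} [Fact p.Prime] (hp : 3 < p) (hα : Fintype.card α = 2 * p) (G : Subgroup (Equiv.Perm α)) (hprim : MulAction.IsPreprimitive G α) (hnot2 : ¬ MulAction.IsMultiplyPretransitive G α 2) (P : Sylow p G) (hN : Nat.card (Subgroup.normalizer ((P : Subgroup G) : Set G)) = 2 * p) : p = 5 ∧ Nonempty (G ≃* alternatingGroup (Fin 5)) := by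
  classical
  have hpp : p.Prime := Fact.out
  have hp5 : 5 ≤ p := by
    rcases Nat.lt_or_ge p 5 with h | h
    · exfalso
      have h4 : p = 4 := by omega
      rw [h4] at hpp
      exact absurd hpp (by decide)
    · exact h
  obtain ⟨hP, hfpf⟩ := Cfsg.Agent.Lib.Helper6.S4707FOJ.jordan_fpf hp hα G hprim hnot2 P hN
  have hfaith : ∀ g : G, (∀ a : α, g • a = a) → g = 1 := by
    intro g hg
    apply Subtype.ext
    ext a
    exact hg a
  obtain ⟨hC, hsimple⟩ :=
    Cfsg.Agent.Lib.Helper3.S4707FOT.transfer_simple hp hα hprim hfaith P hP hN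
  haveI : Fintype G := Fintype.ofFinite G
  haveI : MulAction.IsPretransitive G α := hprim.toIsPretransitive
  have hΩ : Nat.card α = 2 * p := by rw [Nat.card_eq_fintype_card, hα]
  obtain ⟨h5, h60⟩ :=
    Cfsg.Agent.Lib.Helper11.S4707.core p hp5 hΩ P hP hC hN hfpf hnot2 hsimple
  refine ⟨h5, ?_⟩
  haveI : Nontrivial G := by
    rw [← Finite.one_lt_card_iff_nontrivial, h60]
    norm_num
  haveI : IsSimpleGroup G := ⟨hsimple⟩
  exact Cfsg.Agent.S0494.result h60

end Cfsg.Agent.S4707
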