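import Mathlib
import Cfsg.Statements.S4708
import Cfsg.Agent.Lib.Helper24.Principal
import Cfsg.Agent.Lib.Helper24.InducedDegree
import Cfsg.Agent.Lib.Helper7.Covering
import Cfsg.Agent.Lib.Helper25.CharBasic
import Cfsg.Agent.Lib.Helper25.ClassMult

set_option autoImplicit false
open Cfsg

namespace Cfsg.Agent.S4708

open Cfsg.Agent.Lib.Helper2 Cfsg.Agent.Lib.Helper7 Cfsg.Agent.Lib.Helper24 Cfsg.Agent.Lib.Helper25
open scoped ComplexConjugate

section

variable {G : Type*} [Group G] [Fintype G] {p : ℕ} [Fact p.Prime] {M : Ideal Cfsg.AlgInt}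
  (H : Subgroup G) [hN : H.Normal] [Fintype H]

/-- Constituents of the restriction of a principal block character lie in the principal block. -/
theorem constituent_mem_principal (hM : Cfsg.IsPModular p M) (χ : Cfsg.IrrCharacter G)
    (hχ : χ ∈ Cfsg.principalBlock M G) (θ : Cfsg.IrrCharacter H)
    (hcon : Cfsg.classInner (fun n : H => (χ : G → ℂ) n) (θ : H → ℂ) ≠ 0) :
    θ ∈ Cfsg.principalBlock M H := by
  have h1 : Cfsg.classInner (fun n : H => (trivIrr G : G → ℂ) n) (trivIrr H : H → ℂ) ≠ 0 := by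
    have : (fun n : H => (trivIrr G : G → ℂ) n) = (trivIrr H : H → ℂ) := rfl
    rw [this, classInner_irrCharacter_self]
    exact one_ne_zero
  have h2 := constituent_mem_orbitUnion H hM (Cfsg.principalBlock M H) isPBlock_principalBlock
    (trivIrr G) χ hχ (trivIrr H) (trivIrr_mem_principalBlock hM) h1 θ hcon
  obtain ⟨x, hx⟩ := h2
  have h3 : Cfsg.SameBlock M (fun _ : H => (1 : ℂ)) (conjFun H x (θ : H → ℂ)) := hx
  have h4 := sameBlock_conjFun H h3 x⁻¹
  rw [← conjFun_mul, mul_inv_cancel, conjFun_one] at h4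
  exact h4

/-- Every principal block character of `H` lies under a principal block character of `G`. -/
theorem exists_over_principal (hM : Cfsg.IsPModular p M) (θ : Cfsg.IrrCharacter H)
    (hθ : θ ∈ Cfsg.principalBlock M H) :
    ∃ χ ∈ Cfsg.principalBlock M G,
      Cfsg.classInner (fun n : H => (χ : G → ℂ) n) (θ : H → ℂ) ≠ 0 := by
  classical
  have : Fintype (Cfsg.IrrCharacter G) := Fintype.ofFinite _
  -- the sum of `θ` over `p`-regular elements is nonzero
  have hsame : Cfsg.SameBlock M (θ : H → ℂ) (trivIrr H : H → ℂ) := sameBlock_symm hM hθ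
  have h1 := omega_sub_memLocalIdeal hM θ (trivIrr H) hsame
    (Cfsg.pRegularPart p (fun _ : H => (1 : ℂ))) isClassFunction_regInd (isRCF_regInd hM).2
  rw [omega_trivIrr, sum_regInd] at h1
  have h2 : omega (θ : H → ℂ) (Cfsg.pRegularPart p (fun _ : H => (1 : ℂ))) ≠ 0 := by
    intro h0
    rw [h0, zero_sub] at h1
    have h3 := memLocalIdeal_neg h1
    rw [neg_neg, memLocalIdeal_natCast_iff hM] at h3
    exact not_dvd_card_pRegular H p h3
  rw [omega_regInd] at h2
  have h3 : ∑ y : H, Cfsg.pRegularPart p (θ : H → ℂ) y ≠ 0 := by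
    intro h0
    rw [h0, zero_div] at h2
    exact h2 rfl
  -- transfer to `G`
  have h4 := sum_indFun_mul H (θ : H → ℂ) (Cfsg.pRegularPart p (fun _ : G => (1 : ℂ)))
    isClassFunction_regInd
  have h5 : ∑ h : H, (θ : H → ℂ) h * Cfsg.pRegularPart p (fun _ : G => (1 : ℂ)) (h : G)
      = ∑ y : H, Cfsg.pRegularPart p (θ : H → ℂ) y := by
    apply Finset.sum_congr rfl
    intro h _
    by_cases hh : p ∣ orderOf (h : G)
    · rw [pRegularPart_of_singular _ hh,
        pRegularPart_of_singular _ (by rwa [Subgroup.orderOf_coe] at hh), mul_zero]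
    · rw [pRegularPart_of_regular _ hh,
        pRegularPart_of_regular _ (by rwa [Subgroup.orderOf_coe] at hh), mul_one]
  rw [h5] at h4
  have hidx : (H.index : ℂ) ≠ 0 := by
    have : H.index ≠ 0 := Subgroup.index_ne_zero_of_finite
    exact_mod_cast this
  have h6 : ∑ g : G, Cfsg.indFun H (θ : H → ℂ) g * Cfsg.pRegularPart p (fun _ : G => (1 : ℂ)) g
      ≠ 0 := by
    rw [h4]
    exact mul_ne_zero hidx h3
  by_contra hcon
  push Not at hcon
  apply h6
  have hexp := Lib.Helper25.classFunction_expansion (Cfsg.indFun H (θ : H → ℂ))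
    (indFun_isClassFunction H _)
  have hcoef : ∀ χ : Cfsg.IrrCharacter G, Cfsg.classInner (Cfsg.indFun H (θ : H → ℂ)) (χ : G → ℂ)
      = conj (Cfsg.classInner (fun n : H => (χ : G → ℂ) n) (θ : H → ℂ)) := by
    intro χ
    rw [frobenius_reciprocity H _ _ (isClassFunction_of_char (isCharacter_of_irr χ.2)),
      ← classInner_conj_symm]
  simp only [hexp, Finset.sum_mul]
  rw [Finset.sum_comm]
  apply Finset.sum_eq_zero
  intro χ _
  by_cases hχ : χ ∈ Cfsg.principalBlock M G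
  · apply Finset.sum_eq_zero
    intro g _
    rw [hcoef, hcon χ hχ, map_zero, zero_mul, zero_mul]
  · have h7 := sum_pRegularPart_eq_zero hM χ hχ
    have h8 : ∀ g : G, Cfsg.classInner (Cfsg.indFun H (θ : H → ℂ)) (χ : G → ℂ) * (χ : G → ℂ) g *
        Cfsg.pRegularPart p (fun _ : G => (1 : ℂ)) g
        = Cfsg.classInner (Cfsg.indFun H (θ : H → ℂ)) (χ : G → ℂ) *
          Cfsg.pRegularPart p (χ : G → ℂ) g := by
      intro g
      by_cases hh : p ∣ orderOf g
      · rw [pRegularPart_of_singular _ hh, pRegularPart_of_singular _ hh, mul_zero, mul_zero]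
      · rw [pRegularPart_of_regular _ hh, pRegularPart_of_regular _ hh, mul_one]
    simp only [h8]
    rw [← Finset.mul_sum, h7, mul_zero]


theorem main (hM : Cfsg.IsPModular p M) :
    (∑ᶠ θ ∈ Cfsg.principalBlock M H, Cfsg.charDegree (θ : H → ℂ) ^ 2) ≤
      (∑ᶠ χ ∈ Cfsg.principalBlock M G, Cfsg.charDegree (χ : G → ℂ) ^ 2) ∧
    (∑ᶠ χ ∈ Cfsg.principalBlock M G, Cfsg.charDegree (χ : G → ℂ) ^ 2) ≤
      H.index * ∑ᶠ θ ∈ Cfsg.principalBlock M H, Cfsg.charDegree (θ : H → ℂ) ^ 2 := by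
  classical
  have : Fintype (Cfsg.IrrCharacter G) := Fintype.ofFinite _
  have : Fintype (Cfsg.IrrCharacter H) := Fintype.ofFinite _
  have hm : ∀ (χ : Cfsg.IrrCharacter G) (θ : Cfsg.IrrCharacter H), ∃ m : ℕ,
      Cfsg.classInner (fun n : H => (χ : G → ℂ) n) (θ : H → ℂ) = m := fun χ θ =>
    classInner_isCharacter_nat (IsCharacter.restrict (isCharacter_of_irr χ.2) H)
      (isCharacter_of_irr θ.2)
  choose m hm using hm
  set dG : Cfsg.IrrCharacter G → ℕ := fun χ => Cfsg.charDegree (χ : G → ℂ) with hdG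
  set dH : Cfsg.IrrCharacter H → ℕ := fun θ => Cfsg.charDegree (θ : H → ℂ) with hdH
  have hG1 : ∀ χ : Cfsg.IrrCharacter G, (χ : G → ℂ) 1 = (dG χ : ℂ) :=
    fun χ => char_one_eq_charDegree (isCharacter_of_irr χ.2)
  have hH1 : ∀ θ : Cfsg.IrrCharacter H, (θ : H → ℂ) 1 = (dH θ : ℂ) :=
    fun θ => char_one_eq_charDegree (isCharacter_of_irr θ.2)
  -- (a) degrees under restriction
  have ha : ∀ χ : Cfsg.IrrCharacter G, dG χ = ∑ θ : Cfsg.IrrCharacter H, m χ θ * dH θ := by
    intro χ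
    have hcf : Cfsg.IsClassFunction H (fun n : H => (χ : G → ℂ) n) := by
      intro n k
      exact isClassFunction_of_char (isCharacter_of_irr χ.2) n k
    have hexp := Lib.Helper25.classFunction_expansion (fun n : H => (χ : G → ℂ) n) hcf 1
    simp only [hm, hH1, OneMemClass.coe_one, hG1] at hexp
    exact_mod_cast hexp
  -- (b) degrees under induction
  have hb : ∀ θ : Cfsg.IrrCharacter H,
      ∑ χ : Cfsg.IrrCharacter G, m χ θ * dG χ = H.index * dH θ := by
    intro θ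
    have hexp := Lib.Helper25.classFunction_expansion (Cfsg.indFun H (θ : H → ℂ))
      (indFun_isClassFunction H _) 1
    have hcoef : ∀ χ : Cfsg.IrrCharacter G,
        Cfsg.classInner (Cfsg.indFun H (θ : H → ℂ)) (χ : G → ℂ) = (m χ θ : ℂ) := by
      intro χ
      rw [frobenius_reciprocity H _ _ (isClassFunction_of_char (isCharacter_of_irr χ.2)),
        ← classInner_conj_symm, hm, Complex.conj_natCast]
    simp only [hcoef, hG1, indFun_apply_one, hH1] at hexp
    exact_mod_cast hexp.symm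
  -- (i)
  have hi : ∀ χ ∈ Cfsg.principalBlock M G, ∀ θ : Cfsg.IrrCharacter H,
      θ ∉ Cfsg.principalBlock M H → m χ θ = 0 := by
    intro χ hχ θ hθ
    by_contra h0
    apply hθ
    apply constituent_mem_principal H hM χ hχ θ
    rw [hm]
    exact_mod_cast h0
  -- (ii)
  have hii : ∀ θ ∈ Cfsg.principalBlock M H, ∃ χ ∈ Cfsg.principalBlock M G, m χ θ ≠ 0 := by
    intro θ hθ
    obtain ⟨χ, hχ, hne⟩ := exists_over_principal H hM θ hθ
    refine ⟨χ, hχ, ?_⟩
    intro h0
    apply hne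
    rw [hm, h0, Nat.cast_zero]
  rw [finsum_mem_eq_finite_toFinset_sum _ (Set.toFinite (Cfsg.principalBlock M G)),
    finsum_mem_eq_finite_toFinset_sum _ (Set.toFinite (Cfsg.principalBlock M H))]
  set SG := (Set.toFinite (Cfsg.principalBlock M G)).toFinset with hSG
  set SH := (Set.toFinite (Cfsg.principalBlock M H)).toFinset with hSH
  have hmemG : ∀ χ, χ ∈ SG ↔ χ ∈ Cfsg.principalBlock M G := fun χ => Set.Finite.mem_toFinset _
  have hmemH : ∀ θ, θ ∈ SH ↔ θ ∈ Cfsg.principalBlock M H := fun θ => Set.Finite.mem_toFinset _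
  have hkey : ∑ χ ∈ SG, dG χ ^ 2 = ∑ θ ∈ SH, dH θ * ∑ χ ∈ SG, m χ θ * dG χ := by
    have h1 : ∀ χ ∈ SG, dG χ ^ 2 = dG χ * ∑ θ ∈ SH, m χ θ * dH θ := by
      intro χ hχ
      have h2 : ∑ θ ∈ SH, m χ θ * dH θ = ∑ θ : Cfsg.IrrCharacter H, m χ θ * dH θ := by
        apply Finset.sum_subset (Finset.subset_univ _)
        intro θ _ hθ
        rw [hi χ ((hmemG χ).1 hχ) θ (fun h => hθ ((hmemH θ).2 h)), zero_mul]
      rw [h2, ← ha χ, pow_two]
    rw [Finset.sum_congr rfl h1]
    simp only [Finset.mul_sum]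
    rw [Finset.sum_comm]
    apply Finset.sum_congr rfl
    intro θ _
    apply Finset.sum_congr rfl
    intro χ _
    ring
  show ∑ θ ∈ SH, dH θ ^ 2 ≤ ∑ χ ∈ SG, dG χ ^ 2 ∧ ∑ χ ∈ SG, dG χ ^ 2 ≤ H.index * ∑ θ ∈ SH, dH θ ^ 2
  rw [hkey]
  constructor
  · apply Finset.sum_le_sum
    intro θ hθ
    obtain ⟨χ₀, hχ₀, hne⟩ := hii θ ((hmemH θ).1 hθ)
    rw [pow_two]
    apply Nat.mul_le_mul_left
    have h1 : m χ₀ θ * dG χ₀ ≤ ∑ χ ∈ SG, m χ θ * dG χ :=
      Finset.single_le_sum (f := fun χ => m χ θ * dG χ) (fun _ _ => Nat.zero_le _)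
        ((hmemG χ₀).2 hχ₀)
    have h2 : m χ₀ θ * dH θ ≤ dG χ₀ := by
      rw [ha χ₀]
      exact Finset.single_le_sum (f := fun θ => m χ₀ θ * dH θ) (fun _ _ => Nat.zero_le _)
        (Finset.mem_univ θ)
    have h3 : 1 ≤ m χ₀ θ := Nat.one_le_iff_ne_zero.2 hne
    calc dH θ = 1 * dH θ := (one_mul _).symm
      _ ≤ m χ₀ θ * dH θ := Nat.mul_le_mul_right _ h3
      _ ≤ dG χ₀ := h2
      _ = 1 * dG χ₀ := (one_mul _).symm
      _ ≤ m χ₀ θ * dG χ₀ := Nat.mul_le_mul_right _ h3
      _ ≤ _ := h1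
  · rw [Finset.mul_sum]
    apply Finset.sum_le_sum
    intro θ _
    have h1 : ∑ χ ∈ SG, m χ θ * dG χ ≤ H.index * dH θ := by
      rw [← hb θ]
      exact Finset.sum_le_sum_of_subset (Finset.subset_univ _)
    calc dH θ * ∑ χ ∈ SG, m χ θ * dG χ ≤ dH θ * (H.index * dH θ) := Nat.mul_le_mul_left _ h1
      _ = H.index * dH θ ^ 2 := by ring

end

/-- Let p be a prime, M a maximal ideal of the algebraic integers containing p, G a finite group and H a normal subgroup. Write λ(X) for the sum of the squares of the degrees of the irreducible characters in the principal p-block of a group X. Then λ(H) ≤ λ(G) ≤ [G : H]·λ(H). -/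
theorem result {G : Type*} [Group G] [Finite G] (p : ℕ) [Fact p.Prime] (M : Ideal Cfsg.AlgInt) (hM : Cfsg.IsPModular p M) (H : Subgroup G) [H.Normal] : (∑ᶠ θ ∈ Cfsg.principalBlock M H, Cfsg.charDegree (θ : H → ℂ) ^ 2) ≤ (∑ᶠ χ ∈ Cfsg.principalBlock M G, Cfsg.charDegree (χ : G → ℂ) ^ 2) ∧ (∑ᶠ χ ∈ Cfsg.principalBlock M G, Cfsg.charDegree (χ : G → ℂ) ^ 2) ≤ H.index * ∑ᶠ θ ∈ Cfsg.principalBlock M H, Cfsg.charDegree (θ : H → ℂ) ^ 2 := by
  classical
  have : Fintype G := Fintype.ofFinite G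
  have : Fintype H := Fintype.ofFinite H
  exact main H hM

end Cfsg.Agent.S4708

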