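import Cfsg.Statements.S4711
import Cfsg.Agent.S0938
import Cfsg.Agent.Lib.Helper24.PLenOneA
import Cfsg.Agent.Lib.Helper24.PLenOneB
import Cfsg.Agent.Lib.Helper24.Principal
import Cfsg.Agent.Lib.Helper25.Kernel
import Cfsg.Agent.Lib.Helper2.BrolineGarrison
import Cfsg.Agent.Lib.Helper10.PLength

set_option autoImplicit false
open Cfsg

namespace Cfsg.Agent.S4711

open Cfsg.Agent.Lib.Helper24 Cfsg.Agent.Lib.Helper1

/-- the kernel of the principal block is `O_{p'}(G)` -/
theorem blockKer_principal {G : Type*} [Group G] [Finite G] (p : ℕ) [Fact p.Prime]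
    (M : Ideal Cfsg.AlgInt) (hM : Cfsg.IsPModular p M) :
    ((Cfsg.pPrimeCore p G : Subgroup G) : Set G) = Cfsg.blockKer (Cfsg.principalBlock M G) := by
  have hp : p.Prime := Fact.out
  obtain ⟨K, hKn, hKset, hKp, -, hKmax⟩ := Cfsg.Agent.S0938.result p M hM
    (Cfsg.principalBlock M G) isPBlock_principalBlock (trivIrr G) (trivIrr_mem_principalBlock hM)
  rw [← hKset]
  congr 1
  apply le_antisymm
  · apply hKmax _ (Cfsg.Agent.Lib.Helper1.pPrimeCore_normal (G := G) p)
    · intro h
      have h1 := Cfsg.Agent.Lib.Helper1.pPrimeCore_coprime (G := G) p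
      exact hp.one_lt.ne' (Nat.Coprime.eq_one_of_dvd h1.symm h)
    · intro g _
      rfl
  · exact Cfsg.Agent.Lib.Helper1.le_pPrimeCore hKn
      ((Nat.Prime.coprime_iff_not_dvd hp).mpr hKp).symm

/-- Let p be a prime, M a maximal ideal of the algebraic integers containing p, G a finite group, P a Sylow p-subgroup and N = N_G(P). Then G has p-length 1 (G = O_{p',p,p'}(G)) if and only if every irreducible character in the principal p-block of G restricts to an irreducible character of N. -/
theorem result {G : Type*} [Group G] [Finite G] (p : ℕ) [Fact p.Prime] (M : Ideal Cfsg.AlgInt) (hM : Cfsg.IsPModular p M) (P : Sylow p G) : Cfsg.PLengthLE p 1 G ↔ ∀ χ ∈ Cfsg.principalBlock M G, Cfsg.IsIrrCharacter ↥(Subgroup.normalizer ((P : Subgroup G) : Set G)) (fun n : ↥(Subgroup.normalizer ((P : Subgroup G) : Set G)) => (χ : G → ℂ) n) := by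
  classical
  letI : Fintype G := Fintype.ofFinite G
  have hp : p.Prime := Fact.out
  have hker := blockKer_principal (G := G) p M hM
  have hkerχ : ∀ χ ∈ Cfsg.principalBlock M G, ∀ n ∈ Cfsg.pPrimeCore p G,
      (χ : G → ℂ) n = (χ : G → ℂ) 1 := by
    intro χ hχ n hn
    have h1 : n ∈ Cfsg.blockKer (Cfsg.principalBlock M G) := by
      rw [← hker]; exact hn
    exact h1 χ hχ
  haveI hKn : (Cfsg.pPrimeCore p G).Normal := Cfsg.Agent.Lib.Helper1.pPrimeCore_normal (G := G) p
  constructor
  · intro hlen χ hχ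
    exact Cfsg.Agent.Lib.Helper2.BG.isIrrCharacter_restrict_of_sup_eq_top χ.2 (Cfsg.pPrimeCore p G)
      (hkerχ χ hχ) _ (Cfsg.Agent.Lib.Helper10.normalizer_sylow_sup_pPrimeCore p hlen P)
  · intro hH
    apply PLenOne.pLengthLE_one_of_regular_mem p P
    intro y hyL hy
    show y ∈ ((Cfsg.pPrimeCore p G : Subgroup G) : Set G)
    rw [hker]
    -- the alternative for the members of the principal block
    have halt : ∀ χ ∈ Cfsg.principalBlock M G,
        (∀ u ∈ (P : Subgroup G), (χ : G → ℂ) u = (χ : G → ℂ) 1)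
          ∨ ∑ u : (P : Subgroup G), (χ : G → ℂ) (u : G) = 0 := by
      intro χ hχ
      haveI : Fintype ↥((P : Subgroup G).subgroupOf
          (Subgroup.normalizer ((P : Subgroup G) : Set G))) := Fintype.ofFinite _
      rcases Cfsg.Agent.Lib.Helper25.sum_normal_char (hH χ hχ)
        ((P : Subgroup G).subgroupOf (Subgroup.normalizer ((P : Subgroup G) : Set G))) with h | h
      · left
        intro u hu
        exact h ⟨u, Subgroup.le_normalizer hu⟩ (by rw [Subgroup.mem_subgroupOf]; exact hu)
      · right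
        have h1 := h 1
        simp only [one_mul] at h1
        rw [← h1]
        symm
        apply Fintype.sum_equiv (Subgroup.subgroupOfEquivOfLe
          (Subgroup.le_normalizer (H := (P : Subgroup G)))).toEquiv
        intro n
        rfl
    apply PLenOne.apply_eq_of_sum hM (Cfsg.principalBlock M G) isPBlock_principalBlock
      (P : Subgroup G) P.2 halt y hy
    intro χ hχ hPker
    obtain ⟨Kχ, hKχn, hKχ⟩ := Cfsg.Agent.Lib.Helper25.exists_kernel
      (Cfsg.Agent.Lib.Helper25.isCharacter_of_irr χ.2)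
    rw [← hKχ]
    have h1 : Cfsg.pPrimeCore p G ≤ Kχ := fun n hn => (hKχ n).mpr (hkerχ χ hχ n hn)
    have h2 : Subgroup.normalClosure ((P : Subgroup G) : Set G) ≤ Kχ :=
      Subgroup.normalClosure_le_normal (fun u hu => (hKχ u).mpr (hPker u hu))
    exact (sup_le h1 h2) hyL

end Cfsg.Agent.S4711
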