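import Mathlib
import Cfsg.Statements.S4713
import Cfsg.Agent.Lib.Helper25.ItoMichler

set_option autoImplicit false
open Cfsg

namespace Cfsg.Agent.S4713

open Cfsg.Agent.Lib.Helper25

/-- Let p be a prime and G a finite p-solvable group. Then G has a normal abelian Sylow p-subgroup if and only if the degree of every irreducible character of G is prime to p. -/
theorem result {G : Type*} [Group G] [Finite G] (p : ℕ) [Fact p.Prime] (hsolv : Cfsg.IsPSolvable p G) (P : Sylow p G) : ((P : Subgroup G).Normal ∧ IsMulCommutative P) ↔ ∀ χ : Cfsg.IrrCharacter G, ¬ p ∣ Cfsg.charDegree (χ : G → ℂ) := by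
  have hp : p.Prime := Fact.out
  constructor
  · rintro ⟨hPn, hPc⟩
    haveI := hPn
    apply allPPrime_of_normal_abelian (P : Subgroup G) _ P.not_dvd_index
    intro a ha b hb
    exact congrArg Subtype.val (hPc.is_comm.comm ⟨a, ha⟩ ⟨b, hb⟩)
  · intro hall
    obtain ⟨K, hKn, hKp, hKi⟩ := hasNormalSylow_of_isPSolvable hsolv hall
    haveI := hKn
    have hPp : IsPGroup p (P : Subgroup G) := P.isPGroup'
    have hKP : K ≤ (P : Subgroup G) := by
      have hsup : IsPGroup p (K ⊔ (P : Subgroup G) : Subgroup G) :=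
        hKp.to_sup_of_normal_left hPp
      have heq : K ⊔ (P : Subgroup G) = P := P.is_maximal' hsup le_sup_right
      rw [← heq]
      exact le_sup_left
    have hPK : (P : Subgroup G) ≤ K := by
      rw [← Subgroup.relIndex_eq_one]
      have h1 : K.relIndex (P : Subgroup G) ∣ K.index := Subgroup.relIndex_dvd_index_of_normal K _
      have h2 : K.relIndex (P : Subgroup G) ∣ Nat.card (P : Subgroup G) :=
        Subgroup.index_dvd_card _
      obtain ⟨k, hk⟩ := (IsPGroup.iff_card).1 hPp
      rw [hk] at h2
      exact eq_one_of_dvd_pow_of_dvd hp h2 h1 hKi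
    have hEq : K = (P : Subgroup G) := le_antisymm hKP hPK
    subst hEq
    refine ⟨hKn, ⟨⟨fun a b => ?_⟩⟩⟩
    exact comm_of_normal_pGroup_of_allPPrime (P : Subgroup G) hKp hall a b

end Cfsg.Agent.S4713
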