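import Mathlib
import Cfsg.Statements.S4716
import Cfsg.Agent.Lib.Helper24.SectionContrib

set_option autoImplicit false
open Cfsg

namespace Cfsg.Agent.S4716

open Cfsg.Agent.Lib.Helper2 Cfsg.Agent.Lib.Helper24
open scoped ComplexConjugate

/-- Let p be a prime, M a maximal ideal of the algebraic integers containing p, and B a p-block of defect d of the finite group G all of whose irreducible characters have height zero. Let y be a p-element, C = C_G(y), and b a block of C inducing B and having the same defect d (a major subsection). Then k(B)^2 ≤ p^(2d)·l(b), where k(B) is the number of irreducible characters in B and l(b) the p-regular rank of b (its number of irreducible Brauer characters); in particular (y = 1) k(B)^2 ≤ p^(2d)·l(B). -/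
theorem result {G : Type*} [Group G] [Finite G] (p : ℕ) [Fact p.Prime] (M : Ideal Cfsg.AlgInt) (hM : Cfsg.IsPModular p M) (B : Set (Cfsg.IrrCharacter G)) (hB : Cfsg.IsPBlock M B) (d : ℕ) (hd : Cfsg.blockDefect p B = d) (hh : ∀ χ ∈ B, Cfsg.blockHeight p B (χ : G → ℂ) = 0) (y : G) (hy : ∃ k : ℕ, orderOf y = p ^ k) (b : Set (Cfsg.IrrCharacter ↥(Subgroup.centralizer ({y} : Set G)))) (hind : Cfsg.IsInducedBlock M (Subgroup.centralizer ({y} : Set G)) b B) (hbd : Cfsg.blockDefect p b = d) : Nat.card B ^ 2 ≤ p ^ (2 * d) * Cfsg.blockRank p b := by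
  classical
  letI : Fintype G := Fintype.ofFinite G
  letI : Fintype (Subgroup.centralizer ({y} : Set G)) := Fintype.ofFinite _
  letI : Fintype (Cfsg.IrrCharacter G) := Fintype.ofFinite _
  letI : Fintype (Cfsg.IrrCharacter (Subgroup.centralizer ({y} : Set G))) := Fintype.ofFinite _
  haveI : NeZero (Nat.card G) := ⟨Nat.card_pos.ne'⟩
  letI : Fintype ↥B := Fintype.ofFinite _
  subst hbd
  obtain ⟨α, hα⟩ : ∃ α : ↥B × ↥B → ℂ, α = fun x => (p : ℂ) ^ Cfsg.blockDefect p b
      * secContrib p y b ((x.1 : Cfsg.IrrCharacter G) : G → ℂ)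
        ((x.2 : Cfsg.IrrCharacter G) : G → ℂ) := ⟨_, rfl⟩
  have hαapp : ∀ x : ↥B × ↥B, α x = (p : ℂ) ^ Cfsg.blockDefect p b
      * secContrib p y b ((x.1 : Cfsg.IrrCharacter G) : G → ℂ)
        ((x.2 : Cfsg.IrrCharacter G) : G → ℂ) := by
    intro x
    rw [hα]
  have hunit := fun x : ↥B × ↥B => secContrib_unit hM y hy B b hind x.1.1 x.2.1 x.1.2 x.2.2
    (hh _ x.1.2) (hh _ x.2.2)
  have hK : ∀ x, α x ∈ cycloSub (Nat.card G) := by
    intro x
    rw [hαapp]
    exact Subfield.mul_mem _ (pow_mem (_root_.natCast_mem (cycloSub (Nat.card G)) p) _)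
      (secContrib_mem_cycloSub p y b _ _)
  have hint : ∀ x, IsIntegral ℤ (α x) := by
    intro x
    rw [hαapp]
    exact (hunit x).1
  have hne : ∀ x, α x ≠ 0 := by
    intro x h0
    apply (hunit x).2
    rw [← hαapp, h0]
    exact memLocalIdeal_zero hM
  have hsub : ∀ f : Cfsg.IrrCharacter G → ℂ, ∑ x : ↥B, f x
      = ∑ χ : Cfsg.IrrCharacter G, if χ ∈ B then f χ else 0 := by
    intro f
    rw [← Finset.sum_filter]
    exact (Finset.sum_subtype (Finset.univ.filter (· ∈ B)) (by simp) f).symm
  have hsum : ∑ x, α x * conj (α x)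
      = ((p ^ (2 * Cfsg.blockDefect p b) * Cfsg.blockRank p b : ℕ) : ℂ) := by
    rw [Fintype.sum_prod_type]
    have h1 := sum_secContrib_mul_conj hM y hy B b hind
    have h2 : ∀ x : ↥B, ∑ x' : ↥B, α (x, x') * conj (α (x, x'))
        = ∑ χ' : Cfsg.IrrCharacter G, if χ' ∈ B then
            ((p : ℂ) ^ Cfsg.blockDefect p b
              * secContrib p y b ((x : Cfsg.IrrCharacter G) : G → ℂ) (χ' : G → ℂ))
            * conj ((p : ℂ) ^ Cfsg.blockDefect p b
              * secContrib p y b ((x : Cfsg.IrrCharacter G) : G → ℂ) (χ' : G → ℂ)) else 0 := by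
      intro x
      rw [← hsub (fun χ' => ((p : ℂ) ^ Cfsg.blockDefect p b
              * secContrib p y b ((x : Cfsg.IrrCharacter G) : G → ℂ) (χ' : G → ℂ))
            * conj ((p : ℂ) ^ Cfsg.blockDefect p b
              * secContrib p y b ((x : Cfsg.IrrCharacter G) : G → ℂ) (χ' : G → ℂ)))]
      apply Finset.sum_congr rfl
      intro x' _
      rw [hαapp]
    rw [Finset.sum_congr rfl (fun x _ => h2 x)]
    rw [hsub (fun χ => ∑ χ' : Cfsg.IrrCharacter G, if χ' ∈ B then
            ((p : ℂ) ^ Cfsg.blockDefect p b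
              * secContrib p y b (χ : G → ℂ) (χ' : G → ℂ))
            * conj ((p : ℂ) ^ Cfsg.blockDefect p b
              * secContrib p y b (χ : G → ℂ) (χ' : G → ℂ)) else 0)]
    push_cast
    rw [← h1, Finset.mul_sum]
    apply Finset.sum_congr rfl
    intro χ _
    by_cases hχ : χ ∈ B
    · rw [if_pos hχ, Finset.mul_sum]
      apply Finset.sum_congr rfl
      intro χ' _
      by_cases hχ' : χ' ∈ B
      · rw [if_pos hχ', if_pos ⟨hχ, hχ'⟩, map_mul, map_pow, Complex.conj_natCast]
        ring
      · rw [if_neg hχ', if_neg (fun hh => hχ' hh.2), mul_zero]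
    · rw [if_neg hχ]
      symm
      rw [Finset.mul_sum]
      apply Finset.sum_eq_zero
      intro χ' _
      rw [if_neg (fun hh => hχ hh.1), mul_zero]
  have hfin := card_le_of_sum_mul_conj (Nat.card G) α hK hint hne _ hsum
  rw [Fintype.card_prod] at hfin
  rw [Nat.card_eq_fintype_card, pow_two]
  exact hfin

end Cfsg.Agent.S4716
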