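import Mathlib
import Cfsg.Statements.S4718
import Cfsg.Agent.S4710
import Cfsg.Agent.Lib.Helper25.Landau
import Cfsg.Agent.Lib.Helper2.Expansion
import Cfsg.Agent.Lib.Helper24.Principal

set_option autoImplicit false
universe u
open Cfsg

namespace Cfsg.Agent.S4718

open Cfsg.Agent.Lib.Helper2 Cfsg.Agent.Lib.Helper24 Cfsg.Agent.Lib.Helper25
open Cfsg.Agent.S4710

section

variable {G : Type*} [Group G] [Fintype G] {p : ℕ} [Fact p.Prime] {M : Ideal Cfsg.AlgInt}

/-- **weak Brauer–Feit**: a block of defect `d` has at most `p^(2d)` characters -/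
theorem card_block_le (hM : Cfsg.IsPModular p M) (B : Set (Cfsg.IrrCharacter G))
    (hB : Cfsg.IsPBlock M B) : Nat.card B ≤ p ^ (2 * Cfsg.blockDefect p B) := by
  classical
  haveI : Fintype (Cfsg.IrrCharacter G) := Fintype.ofFinite _
  have hp : p.Prime := Fact.out
  obtain ⟨χ₀, hχ₀⟩ := isPBlock_nonempty hM hB
  obtain ⟨χ, hχ, h0⟩ := exists_height_zero (p := p) B ⟨χ₀, hχ₀⟩
  set m := minVal p B with hm
  set a := (Nat.card G).factorization p with ha
  have hma : m ≤ a := le_trans (minVal_le B χ hχ) (val_le_card χ)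
  rw [defect_eq, ← hm, ← ha]
  set Bf : Finset (Cfsg.IrrCharacter G) := Finset.univ.filter (fun ξ => ξ ∈ B) with hBf
  have hcard : Nat.card B = Bf.card := by
    rw [Nat.card_eq_fintype_card, Fintype.card_subtype]
  have hχBf : χ ∈ Bf := by rw [hBf, Finset.mem_filter]; exact ⟨Finset.mem_univ _, hχ⟩
  have h1 := card_mul_le hM B hB χ hχ (Bf.erase χ)
    (fun ξ hξ => (Finset.mem_filter.mp (Finset.mem_of_mem_erase hξ)).2)
    (Finset.notMem_erase χ Bf) m
    (fun ξ hξ => by
      have hξB : ξ ∈ B := (Finset.mem_filter.mp (Finset.mem_of_mem_erase hξ)).2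
      refine ⟨(contribN_of_height_zero hM B hB χ hχ h0 ξ hξB).1, ?_⟩
      have hd := pow_dvd_contribN hM χ ξ
      rw [val_eq B ξ hξB] at hd
      refine dvd_trans (pow_dvd_pow _ ?_) hd
      rw [← hm]
      omega)
  rw [← ha, Finset.card_erase_of_mem hχBf, ← hcard] at h1
  have h2 : 4 * ((Nat.card B - 1) * p ^ (2 * m)) ≤ p ^ (2 * a) := by exact_mod_cast h1
  have h3 : 2 * a = 2 * (a - m) + 2 * m := by omega
  rw [h3, pow_add, ← mul_assoc] at h2
  have h4 : 4 * (Nat.card B - 1) ≤ p ^ (2 * (a - m)) :=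
    Nat.le_of_mul_le_mul_right h2 (pow_pos hp.pos _)
  have h5 : 1 ≤ p ^ (2 * (a - m)) := Nat.one_le_pow _ _ hp.pos
  omega

end

/-- Let p be a prime and a a natural number. There is a bound N such that every finite group whose Sylow p-subgroups have order p^a and whose only p-block (relative to a maximal ideal of the algebraic integers containing p) is the principal block has order at most N. -/
theorem result (p : ℕ) [Fact p.Prime] (a : ℕ) : ∃ N : ℕ, ∀ (G : Type u) [Group G] [Finite G] (M : Ideal Cfsg.AlgInt), Cfsg.IsPModular p M → (Nat.card G).factorization p = a → (∀ B : Set (Cfsg.IrrCharacter G), Cfsg.IsPBlock M B → B = Cfsg.principalBlock M G) → Nat.card G ≤ N := by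
  refine ⟨(Finset.range (p ^ (2 * a) + 1)).sup (fun k => landauF k 1), ?_⟩
  intro G _ _ M hM ha hone
  haveI : Fintype G := Fintype.ofFinite G
  have hp : p.Prime := Fact.out
  -- every character lies in the principal block
  have hall : ∀ χ : Cfsg.IrrCharacter G, χ ∈ Cfsg.principalBlock M G := by
    intro χ
    rw [← hone (Cfsg.blockOf M (χ : G → ℂ)) ⟨χ, rfl⟩]
    exact mem_blockOf_self hM χ
  have hcard : Nat.card (Cfsg.principalBlock M G) = Nat.card (Cfsg.IrrCharacter G) := by
    apply Nat.card_congr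
    exact (Equiv.subtypeUnivEquiv hall)
  have h1 := card_block_le hM (Cfsg.principalBlock M G) isPBlock_principalBlock
  rw [hcard, card_irrCharacter] at h1
  have h2 : p ^ (2 * Cfsg.blockDefect p (Cfsg.principalBlock M G)) ≤ p ^ (2 * a) := by
    apply Nat.pow_le_pow_right hp.pos
    have : Cfsg.blockDefect p (Cfsg.principalBlock M G) ≤ a := by
      rw [← ha]
      unfold Cfsg.blockDefect
      exact Nat.sub_le _ _
    omega
  have h3 := card_le_landauF G
  refine le_trans h3 ?_
  exact Finset.le_sup (f := fun k => landauF k 1)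
    (Finset.mem_range.mpr (Nat.lt_succ_of_le (le_trans h1 h2)))

end Cfsg.Agent.S4718
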