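import Mathlib
import Cfsg.Statements.S4723
import Cfsg.Agent.S4694
import Cfsg.Agent.S4710
import Cfsg.Agent.Lib.Helper24.StableCover
import Cfsg.Agent.Lib.Helper24.Transport
import Cfsg.Agent.Lib.Helper7.DefectOrder
import Cfsg.Agent.Lib.Helper2.DegreeRatio
import Cfsg.Agent.Lib.Helper2.Ito

set_option autoImplicit false
open Cfsg

namespace Cfsg.Agent.S4723

open Cfsg.Agent.Lib.Helper2 Cfsg.Agent.Lib.Helper7 Cfsg.Agent.Lib.Helper24
open scoped ComplexConjugate

section Basic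

variable {K : Type*} [Group K] [Fintype K]

/-- a character with a constituent of the same degree equals that constituent -/
theorem eq_of_constituent_of_degree_eq (φ : K → ℂ) (hφ : Cfsg.IsCharacter K φ)
    (ξ : Cfsg.IrrCharacter K) (hξ : Cfsg.classInner φ (ξ : K → ℂ) ≠ 0)
    (hdeg : φ 1 = (ξ : K → ℂ) 1) : φ = (ξ : K → ℂ) := by
  classical
  haveI : Fintype (Cfsg.IrrCharacter K) := Fintype.ofFinite _
  have hcf : Cfsg.IsClassFunction K φ := IsCharacter.isClassFunction hφ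
  have hexp := Cfsg.Agent.Lib.Helper2.classFunction_expansion φ hcf
  choose n hn using fun ξ : Cfsg.IrrCharacter K =>
    classInner_isCharacter_nat hφ (IsIrrCharacter.isCharacter ξ.2)
  have hd : ∀ ξ : Cfsg.IrrCharacter K, (ξ : K → ℂ) 1 = (Cfsg.charDegree (ξ : K → ℂ) : ℂ) :=
    fun ξ => Cfsg.Agent.Lib.Helper25.char_one_eq_charDegree (IsIrrCharacter.isCharacter ξ.2)
  have hpos : ∀ ξ : Cfsg.IrrCharacter K, 0 < Cfsg.charDegree (ξ : K → ℂ) :=
    fun ξ => Cfsg.Agent.Lib.Helper25.irr_degree_pos ξ.2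
  have h1 : φ 1 = ∑ ξ' : Cfsg.IrrCharacter K,
      Cfsg.classInner φ (ξ' : K → ℂ) * (ξ' : K → ℂ) 1 := by
    have := congrFun hexp 1
    rw [Finset.sum_apply] at this
    simpa using this
  have h2 : Cfsg.charDegree (ξ : K → ℂ)
      = ∑ ξ' : Cfsg.IrrCharacter K, n ξ' * Cfsg.charDegree (ξ' : K → ℂ) := by
    have : ((Cfsg.charDegree (ξ : K → ℂ) : ℕ) : ℂ)
        = ((∑ ξ' : Cfsg.IrrCharacter K, n ξ' * Cfsg.charDegree (ξ' : K → ℂ) : ℕ) : ℂ) := by
      push_cast
      rw [← hd ξ, ← hdeg, h1]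
      apply Finset.sum_congr rfl; intro ξ' _
      rw [hn ξ', hd ξ']
    exact_mod_cast this
  have hnξ : n ξ ≠ 0 := by
    intro h0
    apply hξ
    rw [hn ξ, h0, Nat.cast_zero]
  rw [← Finset.add_sum_erase _ _ (Finset.mem_univ ξ)] at h2
  have h3 : n ξ = 1 ∧ ∑ ξ' ∈ Finset.univ.erase ξ, n ξ' * Cfsg.charDegree (ξ' : K → ℂ) = 0 := by
    have hp := hpos ξ
    have : Cfsg.charDegree (ξ : K → ℂ) ≤ n ξ * Cfsg.charDegree (ξ : K → ℂ) :=
      Nat.le_mul_of_pos_left _ (Nat.pos_of_ne_zero hnξ)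
    have h4 : ∑ ξ' ∈ Finset.univ.erase ξ, n ξ' * Cfsg.charDegree (ξ' : K → ℂ) = 0 := by omega
    refine ⟨?_, h4⟩
    rw [h4, add_zero] at h2
    have : n ξ * Cfsg.charDegree (ξ : K → ℂ) = 1 * Cfsg.charDegree (ξ : K → ℂ) := by omega
    exact Nat.eq_of_mul_eq_mul_right hp this
  have h5 : ∀ ξ' : Cfsg.IrrCharacter K, ξ' ≠ ξ → n ξ' = 0 := by
    intro ξ' hne
    have := (Finset.sum_eq_zero_iff.mp h3.2) ξ' (Finset.mem_erase.mpr ⟨hne, Finset.mem_univ _⟩)
    rcases Nat.mul_eq_zero.mp this with h | h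
    · exact h
    · exact absurd h (hpos ξ').ne'
  rw [hexp]
  rw [Finset.sum_eq_single ξ]
  · rw [hn ξ, h3.1, Nat.cast_one, one_smul]
  · intro ξ' _ hne
    rw [hn ξ', h5 ξ' hne, Nat.cast_zero, zero_smul]
  · intro h; exact absurd (Finset.mem_univ _) h

end Basic

section LemmaA

variable {L : Type*} [Group L] [Fintype L] {p : ℕ} [Fact p.Prime] {M : Ideal Cfsg.AlgInt}
  (N : Subgroup L) [hN : N.Normal] [Fintype N]

omit [Fact p.Prime] hN in
/-- summing against an idempotent extended by zero -/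
theorem sum_subgroupBlockCoeff_mul (c : Set (Cfsg.IrrCharacter N)) (f : L → ℂ) :
    ∑ g : L, Cfsg.subgroupBlockCoeff N c g * f g = ∑ n : N, Cfsg.blockCoeff c n * f n := by
  classical
  symm
  apply Finset.sum_of_injOn (fun n : N => (n : L))
  · exact Subtype.val_injective.injOn
  · intro n _; exact Finset.mem_coe.mpr (Finset.mem_univ _)
  · intro g _ hg
    have hgN : g ∉ N := by
      intro h
      apply hg
      exact ⟨⟨g, h⟩, Finset.mem_coe.mpr (Finset.mem_univ _), rfl⟩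
    rw [Cfsg.subgroupBlockCoeff, dif_neg hgN, zero_mul]
  · intro n _
    rw [subgroupBlockCoeff_coe]

/-- **Invariant characters of height zero.** A block `c` of a normal subgroup `N` of `p`-power
index that is stable under the whole group contains an invariant character of height zero. -/
theorem exists_invariant_height_zero (hM : Cfsg.IsPModular p M)
    (hidx : ∃ k : ℕ, N.index = p ^ k) (c : Set (Cfsg.IrrCharacter N)) (hc : Cfsg.IsPBlock M c)
    (hst : ∀ x : L, Cfsg.StabilizesBlock N c x) :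
    ∃ ϑ ∈ c, Cfsg.blockHeight p c (ϑ : N → ℂ) = 0 ∧
      ∀ (x : L) (n n' : N), (n' : L) = x * n * x⁻¹ → (ϑ : N → ℂ) n' = (ϑ : N → ℂ) n := by
  classical
  have hp : p.Prime := Fact.out
  obtain ⟨B, hB, hBc⟩ := exists_block_of_stable N hM hidx c hc hst
  obtain ⟨D, hD⟩ := exists_isDefectGroup hM B hB
  obtain ⟨hND, hDc⟩ := isDefectGroup_of_stable N hM hidx c hc hst B hB hBc D hD
  have hcardD := card_of_isDefectGroup hM B hB D hD
  have hcardDc := card_of_isDefectGroup hM c hc _ hDc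
  have hcardDc' : Nat.card ((D ⊓ N).subgroupOf N) = Nat.card ↥(D ⊓ N) :=
    Nat.card_congr (Subgroup.subgroupOfEquivOfLe inf_le_right).toEquiv
  rw [hcardDc'] at hcardDc
  -- `|L| |D ∩ N| = |N| |D|`
  have hidx2 : N.index = N.relIndex D := by
    rw [← Subgroup.relIndex_sup_left (K := N) (H := D), hND, Subgroup.relIndex_top_right]
  have h1 : Nat.card ↥(D ⊓ N) * N.relIndex D = Nat.card D := by
    have := Subgroup.relIndex_mul_relIndex (⊥ : Subgroup L) (D ⊓ N) D bot_le inf_le_left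
    rw [Subgroup.relIndex_bot_left, Subgroup.relIndex_bot_left, Subgroup.inf_relIndex_left] at this
    exact this
  have h2 : Nat.card N * N.index = Nat.card L := Subgroup.card_mul_index N
  obtain ⟨k, hk⟩ := hidx
  have hvalL : (Nat.card L).factorization p = (Nat.card N).factorization p + k := by
    rw [← h2, hk, Nat.factorization_mul Nat.card_pos.ne' (pow_ne_zero _ hp.ne_zero),
      Nat.Prime.factorization_pow hp]
    simp
  have hvalD : Cfsg.blockDefect p B = Cfsg.blockDefect p c + k := by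
    rw [← hidx2, hk, hcardD, hcardDc, ← pow_add] at h1
    exact ((Nat.pow_right_injective hp.two_le) h1).symm
  -- a character of height zero in `B`
  obtain ⟨χ, hχB, hχ0⟩ := Cfsg.Agent.S4710.exists_height_zero (p := p) B
    (isPBlock_nonempty hM hB)
  have hvχ := Cfsg.Agent.S4710.val_eq (p := p) B χ hχB
  rw [hχ0, add_zero] at hvχ
  have hvχle := Cfsg.Agent.S4710.val_le_card (p := p) χ
  have hdB := Cfsg.Agent.S4710.defect_eq (p := p) B
  -- a constituent
  obtain ⟨ϑ, hϑ⟩ := exists_constituent_restrict N χ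
  have hφchar : Cfsg.IsCharacter N (fun n : N => (χ : L → ℂ) n) :=
    Cfsg.Agent.Lib.Helper25.isCharacter_comp N.subtype (IsIrrCharacter.isCharacter χ.2)
  have hsum : ∑ n : N, Cfsg.blockCoeff c n * (fun n : N => (χ : L → ℂ) n) n
      = (fun n : N => (χ : L → ℂ) n) 1 := by
    rw [← sum_subgroupBlockCoeff_mul N c (χ : L → ℂ)]
    have h3 := omega_blockCoeff B χ
    rw [if_pos hχB] at h3
    unfold omega at h3
    have hne : (χ : L → ℂ) 1 ≠ 0 := IsIrrCharacter.apply_one_ne_zero χ.2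
    rw [div_eq_iff hne, one_mul] at h3
    simp only [hBc] at h3
    exact h3
  have hϑc : ϑ ∈ c := Cfsg.Agent.S4694.mem_of_sum_blockCoeff_eq c _ hφchar hsum ϑ hϑ
  -- degrees
  obtain ⟨b', d', hd', hbd, hb'⟩ := Cfsg.Agent.Lib.Helper2.DegreeRatio.main N (χ : L → ℂ) χ.2
    (ϑ : N → ℂ) ϑ.2 hϑ
  have hdχ : Cfsg.charDegree (χ : L → ℂ) = b' * d' := by
    have := Cfsg.Agent.Lib.Helper25.char_one_eq_charDegree (IsIrrCharacter.isCharacter χ.2)
    rw [hbd] at this
    exact_mod_cast this.symm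
  have hdϑ : Cfsg.charDegree (ϑ : N → ℂ) = d' := by
    have := Cfsg.Agent.Lib.Helper25.char_one_eq_charDegree (IsIrrCharacter.isCharacter ϑ.2)
    rw [hd'] at this
    exact_mod_cast this.symm
  rw [hk] at hb'
  obtain ⟨j, _, hj⟩ := (Nat.dvd_prime_pow hp).mp hb'
  have hd'pos : d' ≠ 0 := by
    rw [← hdϑ]; exact (Cfsg.Agent.Lib.Helper25.irr_degree_pos ϑ.2).ne'
  have hvχ2 : (Cfsg.charDegree (χ : L → ℂ)).factorization p = j + d'.factorization p := by
    rw [hdχ, hj, Nat.factorization_mul (pow_ne_zero _ hp.ne_zero) hd'pos,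
      Nat.Prime.factorization_pow hp]
    simp
  have hvϑ := Cfsg.Agent.S4710.val_eq (p := p) c ϑ hϑc
  have hvϑle := Cfsg.Agent.S4710.val_le_card (p := p) ϑ
  have hdc := Cfsg.Agent.S4710.defect_eq (p := p) c
  rw [hdϑ] at hvϑ hvϑle
  have hj0 : j = 0 := by omega
  have hht : Cfsg.blockHeight p c (ϑ : N → ℂ) = 0 := by omega
  refine ⟨ϑ, hϑc, hht, ?_⟩
  have hb1 : b' = 1 := by rw [hj, hj0, pow_zero]
  have hdegeq : (fun n : N => (χ : L → ℂ) n) 1 = (ϑ : N → ℂ) 1 := by
    show (χ : L → ℂ) 1 = (ϑ : N → ℂ) 1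
    rw [hbd, hd', hb1, one_mul]
  have heq := eq_of_constituent_of_degree_eq _ hφchar ϑ hϑ hdegeq
  intro x n n' hnn'
  have e1 : (ϑ : N → ℂ) n' = (χ : L → ℂ) n' := (congrFun heq n').symm
  have e2 : (ϑ : N → ℂ) n = (χ : L → ℂ) n := (congrFun heq n).symm
  rw [e1, e2, hnn']
  exact IrrCharacter.isClassFunction χ n x

end LemmaA

theorem result {G : Type*} [Group G] [Finite G] (p : ℕ) [Fact p.Prime] (M : Ideal Cfsg.AlgInt) (hM : Cfsg.IsPModular p M) (H : Subgroup G) [H.Normal] (b : Set (Cfsg.IrrCharacter ↥H)) (hb : Cfsg.IsPBlock M b) (T : Subgroup G) (hT : (∀ g : G, g ∈ T ↔ ∀ θ ∈ b, ∀ θ' : Cfsg.IrrCharacter ↥H, (∀ h h' : ↥H, (h' : G) = g * h * g⁻¹ → (θ' : ↥H → ℂ) h' = (θ : ↥H → ℂ) h) → θ' ∈ b)) : ∃ θ ∈ b, Cfsg.blockHeight p b (θ : ↥H → ℂ) = 0 ∧ ∃ S : Subgroup G, S ≤ T ∧ (∀ g : G, g ∈ S ↔ (g ∈ T ∧ ∀ h h' : ↥H, (h' : G) = g * h * g⁻¹ → (θ : ↥H → ℂ) h' = (θ : ↥H → ℂ) h)) ∧ ¬ p ∣ S.relIndex T := by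
  classical
  letI : Fintype G := Fintype.ofFinite G
  haveI : Fintype H := Fintype.ofFinite _
  have hp : p.Prime := Fact.out
  -- `H ≤ T`
  have hHT : H ≤ T := by
    intro g hg
    rw [hT]
    intro θ hθ θ' hθ'
    have : θ' = θ := by
      apply Subtype.ext
      funext h'
      have hmem : g⁻¹ * (h' : G) * g ∈ H := by
        have := H.mul_mem (H.mul_mem (H.inv_mem hg) h'.2) hg
        exact this
      have h1 := hθ' ⟨g⁻¹ * (h' : G) * g, hmem⟩ h' (by simp only; group)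
      rw [h1]
      have h2 := IrrCharacter.isClassFunction θ h' (⟨g, hg⟩ : H)⁻¹
      rw [← h2]
      refine congrArg _ (Subtype.ext ?_)
      simp
    rw [this]; exact hθ
  -- members of `T` permute `b`
  have hTconj : ∀ g ∈ T, ∀ θ ∈ b, Cfsg.Agent.Lib.Helper7.conjIrr H g⁻¹ θ ∈ b := by
    intro g hg θ hθ
    apply (hT g).mp hg θ hθ
    intro h h' hh'
    show conjFun H g⁻¹ (θ : H → ℂ) h' = (θ : H → ℂ) h
    rw [conjFun_apply]
    refine congrArg _ (Subtype.ext ?_)
    simp only [hh']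
    group
  -- the Sylow subgroup
  obtain ⟨P⟩ : Nonempty (Sylow p T) := inferInstance
  set P' : Subgroup G := (P : Subgroup T).map T.subtype with hP'
  have hP'T : P' ≤ T := by
    rintro _ ⟨x, _, rfl⟩
    exact x.2
  have hP'p : IsPGroup p P' := P.isPGroup'.map _
  set L : Subgroup G := H ⊔ P' with hL
  have hHL : H ≤ L := le_sup_left
  have hP'L : P' ≤ L := le_sup_right
  have hLT : L ≤ T := sup_le hHT hP'T
  haveI : Fintype L := Fintype.ofFinite _
  haveI : Fintype (H.subgroupOf L) := Fintype.ofFinite _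
  -- index
  have hidx : ∃ k : ℕ, (H.subgroupOf L).index = p ^ k := by
    have h1 : (H.subgroupOf L).index = H.relIndex P' := by
      show H.relIndex L = H.relIndex P'
      rw [hL, Subgroup.relIndex_sup_left]
    have h2 : H.relIndex P' ∣ Nat.card P' := by
      have := Subgroup.relIndex_mul_relIndex (⊥ : Subgroup G) (H ⊓ P') P' bot_le inf_le_right
      rw [Subgroup.relIndex_bot_left, Subgroup.relIndex_bot_left,
        Subgroup.inf_relIndex_right] at this
      exact ⟨_, by rw [← this, mul_comm]⟩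
    obtain ⟨m, hm⟩ := IsPGroup.iff_card.mp hP'p
    rw [hm] at h2
    obtain ⟨k, _, hk⟩ := (Nat.dvd_prime_pow hp).mp h2
    exact ⟨k, by rw [h1, hk]⟩
  -- transport of `b`
  set φ : H ≃* H.subgroupOf L := (Subgroup.subgroupOfEquivOfLe hHL).symm with hφ
  have hφcoe : ∀ h : H, (((φ h : H.subgroupOf L) : L) : G) = (h : G) := fun h => rfl
  have hφsymm : ∀ n : H.subgroupOf L, ((φ.symm n : H) : G) = ((n : L) : G) := fun n => rfl
  set c : Set (Cfsg.IrrCharacter (H.subgroupOf L)) := irrMap φ '' b with hc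
  have hcB : Cfsg.IsPBlock M c := isPBlock_image_irrMap φ hb
  have hst : ∀ x : L, Cfsg.StabilizesBlock (H.subgroupOf L) c x := by
    intro x
    refine ⟨?_, ?_⟩
    · have : Subgroup.normalizer ((H.subgroupOf L : Subgroup L) : Set L) = ⊤ :=
        Subgroup.normalizer_eq_top _
      rw [this]; exact Subgroup.mem_top _
    · rintro _ ⟨θ, hθ, rfl⟩
      refine ⟨irrMap φ (Cfsg.Agent.Lib.Helper7.conjIrr H (x : G)⁻¹ θ),
        ⟨_, hTconj (x : G) (hLT x.2) θ hθ, rfl⟩, ?_⟩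
      intro k k' hkk'
      show conjFun H (x : G)⁻¹ (θ : H → ℂ) (φ.symm k') = (θ : H → ℂ) (φ.symm k)
      rw [conjFun_apply]
      refine congrArg _ (Subtype.ext ?_)
      show (x : G)⁻¹ * ((φ.symm k' : H) : G) * ((x : G)⁻¹)⁻¹ = ((φ.symm k : H) : G)
      rw [hφsymm, hφsymm, hkk']
      simp only [Subgroup.coe_mul, Subgroup.coe_inv]
      group
  obtain ⟨ϑ, hϑc, hht, hinv⟩ :=
    exists_invariant_height_zero (H.subgroupOf L) hM hidx c hcB hst
  obtain ⟨θ, hθb, rfl⟩ := hϑc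
  -- degrees are preserved by `irrMap`
  have hdeg : ∀ ξ : Cfsg.IrrCharacter H,
      Cfsg.charDegree (irrMap φ ξ).1 = Cfsg.charDegree (ξ : H → ℂ) := by
    intro ξ
    unfold Cfsg.charDegree
    rw [irrMap_apply, map_one]
  have himg : (fun ψ : Cfsg.IrrCharacter (H.subgroupOf L) =>
        (Cfsg.charDegree ψ.1).factorization p) '' c
      = (fun ψ : Cfsg.IrrCharacter H => (Cfsg.charDegree (ψ : H → ℂ)).factorization p) '' b := by
    rw [hc, Set.image_image]
    apply Set.image_congr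
    intro ξ _
    simp only [hdeg]
  have hhtθ : Cfsg.blockHeight p b (θ : H → ℂ) = 0 := by
    unfold Cfsg.blockHeight at hht ⊢
    rw [himg, hdeg] at hht
    exact hht
  -- invariance in `G`
  have hinvG : ∀ g ∈ L, ∀ h h' : H, (h' : G) = g * h * g⁻¹ →
      (θ : H → ℂ) h' = (θ : H → ℂ) h := by
    intro g hg h h' hh'
    have h1 := hinv ⟨g, hg⟩ (φ h) (φ h') (by
      apply Subtype.ext
      simp only [Subgroup.coe_mul, Subgroup.coe_inv]
      rw [hφcoe, hφcoe, hh'])
    rw [irrMap_apply_apply, irrMap_apply_apply] at h1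
    exact h1
  refine ⟨θ, hθb, hhtθ, T ⊓ inertia H (θ : H → ℂ), inf_le_left, ?_, ?_⟩
  · intro g
    rw [Subgroup.mem_inf, mem_inertia]
    constructor
    · rintro ⟨hgT, hgI⟩
      refine ⟨hgT, ?_⟩
      intro h h' hh'
      have := congrFun hgI h
      rw [conjFun_apply] at this
      rw [← this]
      exact congrArg _ (Subtype.ext hh')
    · rintro ⟨hgT, hgI⟩
      refine ⟨hgT, ?_⟩
      funext h
      rw [conjFun_apply]
      exact hgI h _ rfl
  · have hP'S : P' ≤ T ⊓ inertia H (θ : H → ℂ) := by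
      intro g hg
      rw [Subgroup.mem_inf, mem_inertia]
      refine ⟨hP'T hg, ?_⟩
      funext h
      rw [conjFun_apply]
      exact hinvG g (hP'L hg) h _ rfl
    have hle : (P : Subgroup T) ≤ (T ⊓ inertia H (θ : H → ℂ)).subgroupOf T := by
      intro x hx
      rw [Subgroup.mem_subgroupOf]
      exact hP'S ⟨x, hx, rfl⟩
    have hdvd : ((T ⊓ inertia H (θ : H → ℂ)).subgroupOf T).index ∣ (P : Subgroup T).index :=
      Subgroup.index_dvd_of_le hle
    intro hcon
    exact P.not_dvd_index (dvd_trans hcon hdvd)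

end Cfsg.Agent.S4723
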