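import Cfsg.Statements.S4727
import Mathlib
import Cfsg.Agent.Lib.Helper25.KernelDescent
import Cfsg.Agent.Lib.Helper24.InducedDegree
import Cfsg.Agent.Lib.Helper2.Expansion
import Cfsg.Agent.S0923

set_option autoImplicit false
open Cfsg

namespace Cfsg.Agent.S4727

open Cfsg.Agent.Lib.Helper2 Cfsg.Agent.Lib.Helper24 Cfsg.Agent.Lib.Helper7
open scoped ComplexConjugate

/-- Let p be a prime, π a set of primes containing p, M a maximal ideal of the algebraic integers containing p, and B a p-block of the finite group G with defect group D; let B₁ be the block of N_G(D) with defect group D that induces B (the Brauer correspondent of B). Suppose every element of O_π'(N_G(D)), the largest normal subgroup of N_G(D) whose order has no prime divisor in π, lies in the kernel of every member of B₁. If y is a p-element whose centralizer C has a normal Hall π'-subgroup (every element of C whose order has no prime divisor in π lies in O_π'(C)), then χ(y x) = χ(y) for every χ ∈ B and every x ∈ C whose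 order has no prime divisor in π. -/
theorem result {G : Type*} [Group G] [Finite G] (p : ℕ) [Fact p.Prime] (M : Ideal Cfsg.AlgInt) (hM : Cfsg.IsPModular p M) (π : Set ℕ) (hpπ : p ∈ π) (B : Set (Cfsg.IrrCharacter G)) (hB : Cfsg.IsPBlock M B) (D : Subgroup G) (hBD : Cfsg.IsDefectGroup p M B D) (B₁ : Set (Cfsg.IrrCharacter ↥(Subgroup.normalizer (D : Set G)))) (hB₁ : Cfsg.IsInducedBlock M (Subgroup.normalizer (D : Set G)) B₁ B) (hB₁D : Cfsg.IsDefectGroup p M B₁ (D.subgroupOf (Subgroup.normalizer (D : Set G)))) (hker : ∀ n : ↥(Subgroup.normalizer (D : Set G)), n ∈ Cfsg.piCore {q | q ∉ π} ↥(Subgroup.normalizer (D : Set G)) → n ∈ Cfsg.blockKer B₁) (y : G) (hy : ∃ k : ℕ, orderOf y = p ^ k) (hC : ∀ x : ↥(Subgroup.centralizer ({y} : Set G)), (∀ q : ℕ, q.Prime → q ∣ orderOf x → q ∉ π) → x ∈ Cfsg.piCore {q | q ∉ π} ↥(Subgroup.centralizer ({y} : Set G))) : ∀ χ ∈ B, ∀ x : G, x ∈ Subgroup.centralizer ({y} : Set G) → (∀ q : ℕ, q.Prime → q ∣ orderOf x → q ∉ π) → (χ : G → ℂ) (y * x) = (χ : G → ℂ) y := by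
  classical
  letI : Fintype G := Fintype.ofFinite G
  intro χ hχ x hxC hxπ
  obtain ⟨C, hCdef⟩ : ∃ C : Subgroup G, C = Subgroup.centralizer ({y} : Set G) := ⟨_, rfl⟩
  subst hCdef
  letI : Fintype (Subgroup.centralizer ({y} : Set G)) := Fintype.ofFinite _
  haveI : Fintype (Cfsg.IrrCharacter (Subgroup.centralizer ({y} : Set G))) := Fintype.ofFinite _
  have hp : p.Prime := Fact.out
  have hpπ' : p ∉ {q : ℕ | q ∉ π} := fun h => h hpπ
  -- the class function `c ↦ χ (y c)` on `C_G(y)`
  obtain ⟨ϑ, hϑdef⟩ : ∃ ϑ : Subgroup.centralizer ({y} : Set G) → ℂ,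
      ϑ = fun c : Subgroup.centralizer ({y} : Set G) => (χ : G → ℂ) (y * (c : G)) := ⟨_, rfl⟩
  have hχcf : Cfsg.IsClassFunction G (χ : G → ℂ) := IrrCharacter.isClassFunction χ
  have hϑcf : Cfsg.IsClassFunction (Subgroup.centralizer ({y} : Set G)) ϑ := by
    intro c h
    rw [hϑdef]
    show (χ : G → ℂ) (y * ((h * c * h⁻¹ : Subgroup.centralizer ({y} : Set G)) : G))
      = (χ : G → ℂ) (y * (c : G))
    have hcomm : (h : G) * y = y * (h : G) := by
      have := Subgroup.mem_centralizer_iff.mp h.2 y (Set.mem_singleton y)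
      exact this.symm
    have e : y * ((h * c * h⁻¹ : Subgroup.centralizer ({y} : Set G)) : G)
        = (h : G) * (y * (c : G)) * (h : G)⁻¹ := by
      push_cast
      calc y * ((h : G) * (c : G) * (h : G)⁻¹) = (y * (h : G)) * (c : G) * (h : G)⁻¹ := by group
        _ = ((h : G) * y) * (c : G) * (h : G)⁻¹ := by rw [hcomm]
        _ = (h : G) * (y * (c : G)) * (h : G)⁻¹ := by group
    rw [e, hχcf]
  have hexp := classFunction_expansion ϑ hϑcf
  -- the blocks of `C_G(y)` inducing `B`
  obtain ⟨good, hgood⟩ : ∃ good : Cfsg.IrrCharacter (Subgroup.centralizer ({y} : Set G)) → Prop,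
      good = fun θ : Cfsg.IrrCharacter (Subgroup.centralizer ({y} : Set G)) =>
        Cfsg.IsInducedBlock M (Subgroup.centralizer ({y} : Set G))
        (Cfsg.blockOf M (θ : Subgroup.centralizer ({y} : Set G) → ℂ)) B := ⟨_, rfl⟩
  have hgood_block : ∀ θ θ' : Cfsg.IrrCharacter (Subgroup.centralizer ({y} : Set G)),
      θ' ∈ Cfsg.blockOf M (θ : Subgroup.centralizer ({y} : Set G) → ℂ) →
      Cfsg.blockOf M (θ' : Subgroup.centralizer ({y} : Set G) → ℂ)
        = Cfsg.blockOf M (θ : Subgroup.centralizer ({y} : Set G) → ℂ) := by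
    intro θ θ' h
    exact (eq_blockOf_of_mem hM ⟨θ, rfl⟩ h).symm
  -- the bad part vanishes at `p`-regular elements
  have hbad : ∀ c : Subgroup.centralizer ({y} : Set G), ¬ p ∣ orderOf c →
      ∑ θ ∈ Finset.univ.filter (fun θ => ¬ good θ),
        Cfsg.classInner ϑ (θ : Subgroup.centralizer ({y} : Set G) → ℂ)
          * (θ : Subgroup.centralizer ({y} : Set G) → ℂ) c = 0 := by
    intro c hc
    have hfib := Finset.sum_fiberwise_of_maps_to
      (s := Finset.univ.filter (fun θ : Cfsg.IrrCharacter (Subgroup.centralizer ({y} : Set G)) =>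
        ¬ good θ))
      (t := (Finset.univ.filter (fun θ : Cfsg.IrrCharacter (Subgroup.centralizer ({y} : Set G)) =>
        ¬ good θ)).image
        (fun θ : Cfsg.IrrCharacter (Subgroup.centralizer ({y} : Set G)) =>
          Cfsg.blockOf M (θ : Subgroup.centralizer ({y} : Set G) → ℂ)))
      (g := fun θ : Cfsg.IrrCharacter (Subgroup.centralizer ({y} : Set G)) =>
        Cfsg.blockOf M (θ : Subgroup.centralizer ({y} : Set G) → ℂ))
      (fun θ hθ => Finset.mem_image_of_mem _ hθ)
      (fun θ : Cfsg.IrrCharacter (Subgroup.centralizer ({y} : Set G)) =>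
        Cfsg.classInner ϑ (θ : Subgroup.centralizer ({y} : Set G) → ℂ)
          * (θ : Subgroup.centralizer ({y} : Set G) → ℂ) c)
    rw [← hfib]
    apply Finset.sum_eq_zero
    intro b hb
    obtain ⟨θ₀, hθ₀, rfl⟩ := Finset.mem_image.mp hb
    rw [Finset.mem_filter] at hθ₀
    have hθ₀bad := hθ₀.2
    rw [hgood] at hθ₀bad
    have h0 := Cfsg.Agent.S0923.result p M hM y hy B hB χ hχ
      (Cfsg.blockOf M (θ₀ : Subgroup.centralizer ({y} : Set G) → ℂ)) ⟨θ₀, rfl⟩ hθ₀bad c hc
    rw [← hϑdef, blockPart_apply, finsum_mem_eq_sum_ite] at h0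
    rw [← h0, ← Finset.sum_filter]
    apply Finset.sum_congr
    · ext θ
      simp only [Finset.mem_filter, Finset.mem_univ, true_and]
      constructor
      · rintro ⟨_, h2⟩
        rw [← h2]
        exact mem_blockOf_self hM θ
      · intro h
        refine ⟨?_, hgood_block θ₀ θ h⟩
        rw [hgood]
        simp only
        rw [hgood_block θ₀ θ h]
        exact hθ₀bad
    · intro θ _
      rfl
  -- the good blocks have `x` in their kernel
  have hxord : ∀ q : ℕ, q.Prime → q ∣ orderOf (⟨x, hxC⟩ : Subgroup.centralizer ({y} : Set G))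
      → q ∉ π := by
    intro q hq hdvd
    apply hxπ q hq
    rwa [← Subgroup.orderOf_coe] at hdvd
  have hxK := hC ⟨x, hxC⟩ hxord
  have hgoodx : ∀ θ : Cfsg.IrrCharacter (Subgroup.centralizer ({y} : Set G)), good θ →
      (θ : Subgroup.centralizer ({y} : Set G) → ℂ) ⟨x, hxC⟩
        = (θ : Subgroup.centralizer ({y} : Set G) → ℂ) 1 := by
    intro θ hθ
    rw [hgood] at hθ
    have hb : Cfsg.IsPBlock M (Cfsg.blockOf M (θ : Subgroup.centralizer ({y} : Set G) → ℂ)) :=
      ⟨θ, rfl⟩
    obtain ⟨Db, hDb⟩ := exists_isDefectGroup hM _ hb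
    have hcore := Cfsg.Agent.S0912.result p M hM _ hb Db hDb
    -- `y` lies in every defect group
    have hyC : y ∈ Subgroup.centralizer ({y} : Set G) := by
      rw [Subgroup.mem_centralizer_iff]
      intro u hu
      rw [Set.mem_singleton_iff] at hu
      rw [hu]
    have hzn : (Subgroup.zpowers (⟨y, hyC⟩ : Subgroup.centralizer ({y} : Set G))).Normal := by
      constructor
      intro n hn g
      have hcomm : g * (⟨y, hyC⟩ : Subgroup.centralizer ({y} : Set G)) = ⟨y, hyC⟩ * g := by
        apply Subtype.ext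
        have := Subgroup.mem_centralizer_iff.mp g.2 y (Set.mem_singleton y)
        exact this.symm
      obtain ⟨k, rfl⟩ := Subgroup.mem_zpowers_iff.mp hn
      have : g * (⟨y, hyC⟩ : Subgroup.centralizer ({y} : Set G)) ^ k * g⁻¹
          = (⟨y, hyC⟩ : Subgroup.centralizer ({y} : Set G)) ^ k := by
        have h1 : Commute g (⟨y, hyC⟩ : Subgroup.centralizer ({y} : Set G)) := hcomm
        have h2 := h1.zpow_right k
        rw [h2.eq, mul_inv_cancel_right]
      rw [this]
      exact hn
    have hzp : IsPGroup p (Subgroup.zpowers (⟨y, hyC⟩ : Subgroup.centralizer ({y} : Set G))) := by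
      obtain ⟨k, hk⟩ := hy
      apply IsPGroup.of_card (n := k)
      rw [Nat.card_zpowers, ← Subgroup.orderOf_coe]
      exact hk
    have hyDb : (⟨y, hyC⟩ : Subgroup.centralizer ({y} : Set G)) ∈ Db :=
      hcore (Cfsg.Agent.Lib.Helper13.le_pCore _ hzn hzp (Subgroup.mem_zpowers _))
    have hcent : Subgroup.centralizer
        ((Db.map (Subgroup.centralizer ({y} : Set G)).subtype : Subgroup G) : Set G)
        ≤ Subgroup.centralizer ({y} : Set G) := by
      apply Subgroup.centralizer_le
      intro u hu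
      rw [Set.mem_singleton_iff] at hu
      rw [hu]
      exact ⟨⟨y, hyC⟩, hyDb, rfl⟩
    have hsub : (Db.map (Subgroup.centralizer ({y} : Set G)).subtype).subgroupOf
        (Subgroup.centralizer ({y} : Set G)) = Db :=
      Subgroup.comap_map_eq_self_of_injective (Subgroup.subtype_injective _) Db
    have hmain := Cfsg.Agent.Lib.Helper25.KernelDescent.piCore_le_blockKer hM {q : ℕ | q ∉ π}
      hpπ' B hB D hBD B₁ hB₁ hker _ (Subgroup.centralizer ({y} : Set G))
      (Cfsg.blockOf M (θ : Subgroup.centralizer ({y} : Set G) → ℂ))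
      (Db.map (Subgroup.centralizer ({y} : Set G)).subtype) rfl (Subgroup.map_subtype_le _)
      (by rw [hsub]; exact hDb) hθ hcent ⟨x, hxC⟩ hxK
    exact hmain θ (mem_blockOf_self hM θ)
  -- assemble
  have hval : ∀ c : Subgroup.centralizer ({y} : Set G), ϑ c
      = ∑ θ ∈ Finset.univ.filter (fun θ => good θ),
          Cfsg.classInner ϑ (θ : Subgroup.centralizer ({y} : Set G) → ℂ)
            * (θ : Subgroup.centralizer ({y} : Set G) → ℂ) c
        + ∑ θ ∈ Finset.univ.filter (fun θ => ¬ good θ),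
          Cfsg.classInner ϑ (θ : Subgroup.centralizer ({y} : Set G) → ℂ)
            * (θ : Subgroup.centralizer ({y} : Set G) → ℂ) c := by
    intro c
    rw [Finset.sum_filter_add_sum_filter_not]
    conv_lhs => rw [hexp]
    rw [Finset.sum_apply]
    apply Finset.sum_congr rfl
    intro θ _
    rfl
  have hxreg : ¬ p ∣ orderOf (⟨x, hxC⟩ : Subgroup.centralizer ({y} : Set G)) := by
    intro h
    exact hxord p hp h hpπ
  have h1reg : ¬ p ∣ orderOf (1 : Subgroup.centralizer ({y} : Set G)) := by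
    rw [orderOf_one]
    exact hp.one_lt.ne' ∘ Nat.dvd_one.mp
  have e1 := hval ⟨x, hxC⟩
  have e2 := hval 1
  rw [hbad _ hxreg, add_zero] at e1
  rw [hbad _ h1reg, add_zero] at e2
  have e3 : ϑ ⟨x, hxC⟩ = ϑ 1 := by
    rw [e1, e2]
    apply Finset.sum_congr rfl
    intro θ hθ
    rw [Finset.mem_filter] at hθ
    rw [hgoodx θ hθ.2]
  rw [hϑdef] at e3
  simpa using e3

end Cfsg.Agent.S4727
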