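import Cfsg.Statements.S4730
import Cfsg.Agent.Lib.Helper2.Burnside
import Cfsg.Agent.Lib.Helper2.CharBasic
import Cfsg.Agent.Lib.Helper24.Osima
import Cfsg.Agent.Lib.Helper24.Loc
import Cfsg.Agent.Lib.Helper25.ClassMult
import Cfsg.Agent.Lib.Helper25.Codegree

set_option autoImplicit false
open Cfsg

namespace Cfsg.Agent.S4730

open Cfsg.Agent.Lib.Helper24 Cfsg.Agent.Lib.Helper25
open scoped ComplexConjugate

section

variable {G : Type*} [Group G]

/-- For a representation whose character is faithful, of a group with trivial centre, only the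
identity acts as a scalar. -/
theorem eq_one_of_scalar {V : Type*} [AddCommGroup V] [Module ℂ V] [FiniteDimensional ℂ V]
    (ρ : Representation ℂ G V) (hZ : Subgroup.center G = ⊥)
    (hfaith : ∀ g : G, ρ.character g = ρ.character 1 → g = 1) (z : G) (ω : ℂ)
    (hz : ρ z = ω • (LinearMap.id : V →ₗ[ℂ] V)) : z = 1 := by
  have hcomm : ∀ x : G, z * x = x * z := by
    intro x
    have h1 : ρ (z * x) = ρ (x * z) := by
      rw [map_mul, map_mul, hz]
      ext v
      simp
    have h2 : ρ ((z * x) * (x * z)⁻¹) = 1 := by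
      rw [map_mul, h1, ← map_mul, mul_inv_cancel, map_one]
    have h3 : ρ.character ((z * x) * (x * z)⁻¹) = ρ.character 1 := by
      change LinearMap.trace ℂ V (ρ ((z * x) * (x * z)⁻¹)) = LinearMap.trace ℂ V (ρ 1)
      rw [h2, map_one ρ]
    have h4 := hfaith _ h3
    exact mul_inv_eq_one.1 h4
  have hmem : z ∈ Subgroup.center G := by
    rw [Subgroup.mem_center_iff]
    intro x
    exact (hcomm x).symm
  rw [hZ, Subgroup.mem_bot] at hmem
  exact hmem

end

section

variable {G : Type*} [Group G] [Fintype G] {p : ℕ}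

/-- A faithful irreducible character of `p`-power degree of a group with trivial centre vanishes
at the non-identity elements of the centre of a Sylow `p`-subgroup. -/
theorem vanish_center_sylow [Fact p.Prime] (hZ : Subgroup.center G = ⊥) (P : Sylow p G)
    (χ : Cfsg.IrrCharacter G) (hfaith : ∀ g : G, (χ : G → ℂ) g = (χ : G → ℂ) 1 → g = 1) (n : ℕ)
    (hdeg : Cfsg.charDegree (χ : G → ℂ) = p ^ n) (z : G) (_hzP : z ∈ (P : Subgroup G))
    (hzc : ∀ x ∈ (P : Subgroup G), x * z = z * x) (hz1 : z ≠ 1) :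
    (χ : G → ℂ) z = 0 ∧ ¬ p ∣ (Subgroup.centralizer ({z} : Set G)).index := by
  have hp : p.Prime := Fact.out
  have hle : (P : Subgroup G) ≤ Subgroup.centralizer ({z} : Set G) := by
    intro x hx
    rw [Subgroup.mem_centralizer_iff]
    intro y hy
    rw [Set.mem_singleton_iff] at hy
    rw [hy]
    exact (hzc x hx).symm
  have hidx : ¬ p ∣ (Subgroup.centralizer ({z} : Set G)).index := by
    intro h
    exact P.not_dvd_index (dvd_trans h (Subgroup.index_dvd_of_le hle))
  refine ⟨?_, hidx⟩
  obtain ⟨m, ρ, hirr, hρ⟩ := χ.2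
  have := hirr
  have hfin : (Module.finrank ℂ (Fin m → ℂ) : ℂ) = (χ : G → ℂ) 1 := by
    rw [← hρ, Representation.char_one]
  have hd : (χ : G → ℂ) 1 = (Cfsg.charDegree (χ : G → ℂ) : ℂ) :=
    char_one_eq_charDegree (isCharacter_of_irr χ.2)
  have hfin' : Module.finrank ℂ (Fin m → ℂ) = p ^ n := by
    rw [hd, hdeg] at hfin
    exact_mod_cast hfin
  have hcop : Nat.Coprime (Module.finrank ℂ (Fin m → ℂ))
      (Subgroup.centralizer ({z} : Set G)).index := by
    rw [hfin']
    apply Nat.Coprime.pow_left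
    exact (Nat.Prime.coprime_iff_not_dvd hp).2 hidx
  rcases Cfsg.Agent.Lib.Helper2.char_eq_zero_or_norm_eq_of_coprime ρ z hcop with h0 | h0
  · rw [← hρ]; exact h0
  · exfalso
    obtain ⟨ω, hω⟩ := (Cfsg.Agent.Lib.Helper2.norm_char_eq_finrank_iff ρ z).1 h0
    apply hz1
    apply eq_one_of_scalar ρ hZ _ z ω hω
    intro g hg
    rw [hρ] at hg
    exact hfaith g hg

end

/-- Let p be a prime, M a maximal ideal of the algebraic integers containing p, and G a finite group with trivial centre, Sylow p-subgroup P of order p^a and centre Z(P) of order p^b. If χ is a faithful irreducible character of G whose degree is a power of p, then the p-block of χ has defect at most a − b; in particular, if P is abelian then χ lies in a block of defect zero. -/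
theorem result {G : Type*} [Group G] [Finite G] (p : ℕ) [Fact p.Prime] (M : Ideal Cfsg.AlgInt) (hM : Cfsg.IsPModular p M) (hZ : Subgroup.center G = ⊥) (P : Sylow p G) (a b : ℕ) (ha : Nat.card P = p ^ a) (hb : Nat.card (Subgroup.center ↥(P : Subgroup G)) = p ^ b) (χ : Cfsg.IrrCharacter G) (hfaith : ∀ g : G, (χ : G → ℂ) g = (χ : G → ℂ) 1 → g = 1) (n : ℕ) (hdeg : Cfsg.charDegree (χ : G → ℂ) = p ^ n) : Cfsg.blockDefect p (Cfsg.blockOf M (χ : G → ℂ)) ≤ a - b ∧ (IsMulCommutative ↥(P : Subgroup G) → Cfsg.blockDefect p (Cfsg.blockOf M (χ : G → ℂ)) = 0) := by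
  classical
  have : Fintype G := Fintype.ofFinite G
  have hp : p.Prime := Fact.out
  -- the image of the centre of `P` in `G`
  set Z : Subgroup G := (Subgroup.center ↥(P : Subgroup G)).map (P : Subgroup G).subtype with hZdef
  have : Fintype Z := Fintype.ofFinite _
  have hZcard : Nat.card Z = p ^ b := by
    rw [hZdef, Subgroup.card_map_of_injective (Subgroup.subtype_injective _), hb]
  have hZP : ∀ z ∈ Z, z ∈ (P : Subgroup G) ∧ ∀ x ∈ (P : Subgroup G), x * z = z * x := by
    intro z hz
    obtain ⟨z', hz', rfl⟩ := Subgroup.mem_map.1 hz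
    refine ⟨z'.2, ?_⟩
    intro x hx
    have := Subgroup.mem_center_iff.1 hz' ⟨x, hx⟩
    exact congrArg Subtype.val this
  -- every member of the block has degree divisible by `p ^ b`
  have key : ∀ ψ ∈ Cfsg.blockOf M (χ : G → ℂ),
      b ≤ (Cfsg.charDegree ((ψ : Cfsg.IrrCharacter G) : G → ℂ)).factorization p := by
    intro ψ hψ
    have hψ1 : (ψ : G → ℂ) 1 ≠ 0 := irr_one_ne_zero ψ.2
    have hψd : (ψ : G → ℂ) 1 = (Cfsg.charDegree (ψ : G → ℂ) : ℂ) :=
      char_one_eq_charDegree (isCharacter_of_irr ψ.2)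
    have hpos : Cfsg.charDegree (ψ : G → ℂ) ≠ 0 := (irr_degree_pos ψ.2).ne'
    -- values of `ψ` on `Z` relative to the degree lie in the local ideal
    have hval : ∀ z : Z, (z : G) ≠ 1 → Cfsg.MemLocalIdeal M ((ψ : G → ℂ) z / (ψ : G → ℂ) 1) := by
      intro z hz1
      obtain ⟨hzP, hzc⟩ := hZP z z.2
      obtain ⟨hχz, hidx⟩ := vanish_center_sylow hZ P χ hfaith n hdeg z hzP hzc hz1
      have h1 := hψ (z : G)
      unfold Cfsg.centralChar at h1
      rw [hχz, mul_zero, zero_div, zero_sub] at h1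
      have h2 := memLocalIdeal_neg h1
      rw [neg_neg] at h2
      have h3 := memLocalIdeal_mul_left hM (memLocalRing_natCast_inv hM hidx) h2
      have hne : ((Subgroup.centralizer ({(z : G)} : Set G)).index : ℂ) ≠ 0 := by
        intro h0
        have : (Subgroup.centralizer ({(z : G)} : Set G)).index = 0 := by exact_mod_cast h0
        rw [this] at hidx
        exact hidx (dvd_zero p)
      have h4 : ((Subgroup.centralizer ({(z : G)} : Set G)).index : ℂ)⁻¹ *
          (((Subgroup.centralizer ({(z : G)} : Set G)).index : ℂ) * (ψ : G → ℂ) z / (ψ : G → ℂ) 1)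
          = (ψ : G → ℂ) z / (ψ : G → ℂ) 1 := by
        field_simp
      rw [h4] at h3
      exact h3
    obtain ⟨m, hm⟩ := sum_char_subgroup (isCharacter_of_irr ψ.2) Z
    rw [hZcard] at hm
    -- split off the identity
    rw [← Finset.add_sum_erase Finset.univ _ (Finset.mem_univ (1 : Z))] at hm
    have hu : Cfsg.MemLocalIdeal M (∑ z ∈ Finset.univ.erase (1 : Z),
        (ψ : G → ℂ) z / (ψ : G → ℂ) 1) := by
      apply memLocalIdeal_sum hM
      intro z hz
      apply hval z
      intro h1
      exact (Finset.mem_erase.1 hz).1 (Subtype.ext h1)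
    set u := ∑ z ∈ Finset.univ.erase (1 : Z), (ψ : G → ℂ) z / (ψ : G → ℂ) 1 with hudef
    have hm' : (ψ : G → ℂ) 1 * (1 + u) = ((p ^ b : ℕ) : ℂ) * (m : ℂ) := by
      rw [← hm, hudef, mul_add, mul_one, Finset.mul_sum]
      congr 1
      apply Finset.sum_congr rfl
      intro z _
      field_simp
    have hu1 : ¬ Cfsg.MemLocalIdeal M (1 + u) := by
      intro h
      have := memLocalIdeal_sub hM h hu
      rw [add_sub_cancel_right] at this
      exact not_memLocalIdeal_one hM this
    have hu2 : Cfsg.MemLocalRing M (1 + u) :=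
      memLocalRing_add hM (memLocalRing_one hM) (memLocalRing_of_memLocalIdeal hu)
    by_contra hlt
    push Not at hlt
    set c := (Cfsg.charDegree (ψ : G → ℂ)).factorization p with hc
    obtain ⟨d', hd'⟩ : p ^ c ∣ Cfsg.charDegree (ψ : G → ℂ) := Nat.ordProj_dvd _ p
    have hd'p : ¬ p ∣ d' := by
      have := Nat.not_dvd_ordCompl hp hpos
      rw [← hc] at this
      have h1 : Cfsg.charDegree (ψ : G → ℂ) / p ^ c = d' := by
        rw [hd']; exact Nat.mul_div_cancel_left _ (pow_pos hp.pos c)
      rwa [h1] at this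
    obtain ⟨e, he⟩ : ∃ e, b = c + (e + 1) := ⟨b - c - 1, by omega⟩
    have hpc : ((p : ℂ) ^ c) ≠ 0 := by exact_mod_cast (pow_pos hp.pos c).ne'
    have h5 : (d' : ℂ) * (1 + u) = ((p * (p ^ e * m) : ℕ) : ℂ) := by
      rw [hψd, hd', he] at hm'
      push_cast at hm' ⊢
      have : (p : ℂ) ^ c * ((d' : ℂ) * (1 + u)) = (p : ℂ) ^ c * ((p : ℂ) * ((p : ℂ) ^ e * m)) := by
        rw [← mul_assoc, hm']; ring
      exact mul_left_cancel₀ hpc this
    have h6 : Cfsg.MemLocalIdeal M ((d' : ℂ) * (1 + u)) := by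
      rw [h5]
      exact (memLocalIdeal_natCast_iff hM _).2 (dvd_mul_right p _)
    rcases memLocalIdeal_or_of_mul hM (memLocalRing_natCast hM d') hu2 h6 with h7 | h7
    · exact hd'p ((memLocalIdeal_natCast_iff hM d').1 h7)
    · exact hu1 h7
  -- the defect
  have hGa : (Nat.card G).factorization p = a := by
    have h1 := P.card_eq_multiplicity
    rw [ha] at h1
    exact (Nat.pow_right_injective hp.two_le h1).symm
  have hmain : Cfsg.blockDefect p (Cfsg.blockOf M (χ : G → ℂ)) ≤ a - b := by
    unfold Cfsg.blockDefect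
    rw [hGa]
    have hne : ((fun χ' : Cfsg.IrrCharacter G =>
        (Cfsg.charDegree (χ' : G → ℂ)).factorization p) '' Cfsg.blockOf M (χ : G → ℂ)).Nonempty :=
      ⟨_, χ, sameBlock_refl hM _, rfl⟩
    obtain ⟨ψ, hψ, hψe⟩ := Nat.sInf_mem hne
    have := key ψ hψ
    rw [← hψe]
    change a - (Cfsg.charDegree (ψ : G → ℂ)).factorization p ≤ a - b
    omega
  refine ⟨hmain, ?_⟩
  intro hcomm
  have h1 : Subgroup.center ↥(P : Subgroup G) = ⊤ := Subgroup.center_eq_top_iff.2 hcomm
  rw [h1, Subgroup.card_top, ha] at hb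
  have hab : a = b := Nat.pow_right_injective hp.two_le hb
  rw [hab] at hmain
  omega

end Cfsg.Agent.S4730
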