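import Cfsg.Statements.S4731
import Cfsg.Agent.Lib.Helper25.BlockPart
import Cfsg.Agent.Lib.Helper25.ClassMult
import Cfsg.Agent.S4740

set_option autoImplicit false
open Cfsg

namespace Cfsg.Agent.S4731

open Cfsg.Agent.Lib.Helper24 Cfsg.Agent.Lib.Helper25
open scoped ComplexConjugate

/-- In a group without elements of order `p * q`, an element of order divisible by `q` has order
prime to `p`. -/
theorem not_dvd_of_dvd {G : Type*} [Group G] [Finite G] (p q : ℕ) (hp : p.Prime) (hq : q.Prime)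
    (hpq : p ≠ q) (hno : ∀ g : G, orderOf g ≠ p * q) (x : G) (hx : q ∣ orderOf x) :
    ¬ p ∣ orderOf x := by
  intro hpx
  have hcop : Nat.Coprime p q := (Nat.coprime_primes hp hq).2 hpq
  have hdvd : p * q ∣ orderOf x := hcop.mul_dvd_of_dvd_of_dvd hpx hx
  obtain ⟨k, hk⟩ := hdvd
  have hpos : 0 < orderOf x := orderOf_pos x
  have hk0 : k ≠ 0 := by
    intro h0; rw [h0, mul_zero] at hk; omega
  apply hno (x ^ k)
  rw [orderOf_pow_of_dvd hk0 ⟨p * q, by rw [hk]; ring⟩, hk]
  exact Nat.mul_div_cancel _ (Nat.pos_of_ne_zero hk0)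

/-- Let p ≠ q be primes, M_p and M_q maximal ideals of the algebraic integers containing p and q respectively, and G a finite group with no element of order pq; let q^b be the q-part of the order of G. For a p-block B_p (relative to M_p), a q-block B_q (relative to M_q) and a p-singular element y, the sum of χ(1)χ(y) over the irreducible characters χ lying in both B_p and B_q is q^b times an algebraic integer. -/
theorem result {G : Type*} [Group G] [Finite G] (p q : ℕ) [Fact p.Prime] [Fact q.Prime] (hpq : p ≠ q) (Mp Mq : Ideal Cfsg.AlgInt) (hMp : Cfsg.IsPModular p Mp) (hMq : Cfsg.IsPModular q Mq) (hno : ∀ g : G, orderOf g ≠ p * q) (b : ℕ) (hb : (Nat.card G).factorization q = b) (Bp : Set (Cfsg.IrrCharacter G)) (hBp : Cfsg.IsPBlock Mp Bp) (Bq : Set (Cfsg.IrrCharacter G)) (hBq : Cfsg.IsPBlock Mq Bq) (y : G) (hy : p ∣ orderOf y) : ∃ ω : Cfsg.AlgInt, ∑ᶠ χ ∈ Bp ∩ Bq, (Cfsg.charDegree (χ : G → ℂ) : ℂ) * (χ : G → ℂ) y = (q : ℂ) ^ b * (ω : ℂ) := by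
  classical
  have : Fintype G := Fintype.ofFinite G
  have : Fintype (Cfsg.IrrCharacter G) := Fintype.ofFinite _
  have hp : p.Prime := Fact.out
  have hq : q.Prime := Fact.out
  -- the class function `η = ∑_{χ ∈ Bp} χ(y) χ`
  set η : G → ℂ := ∑ χ : Cfsg.IrrCharacter G,
    (if χ ∈ Bp then (χ : G → ℂ) y else 0) • (χ : G → ℂ) with hηdef
  have hηcf : Cfsg.IsClassFunction G η := by
    apply Cfsg.Agent.Lib.Helper2.isClassFunction_sum
    intro χ _
    exact Cfsg.Agent.Lib.Helper2.isClassFunction_smul _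
      (Cfsg.Agent.Lib.Helper2.IrrCharacter.isClassFunction χ)
  have hηinner : ∀ χ : Cfsg.IrrCharacter G,
      Cfsg.classInner η (χ : G → ℂ) = if χ ∈ Bp then (χ : G → ℂ) y else 0 := by
    intro χ
    rw [hηdef, Cfsg.Agent.Lib.Helper2.classInner_sum_left, Finset.sum_eq_single χ]
    · rw [Cfsg.Agent.Lib.Helper2.classInner_smul_left,
        Cfsg.Agent.Lib.Helper2.classInner_irrCharacter_self, mul_one]
    · intro ψ _ hψ
      rw [Cfsg.Agent.Lib.Helper2.classInner_smul_left,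
        Cfsg.Agent.Lib.Helper2.classInner_irrCharacter_ne hψ, mul_zero]
    · intro h; exact absurd (Finset.mem_univ χ) h
  have hy' : p ∣ orderOf y⁻¹ := by rw [orderOf_inv]; exact hy
  have hηvan : ∀ x : G, q ∣ orderOf x → η x = 0 := by
    intro x hx
    have hpx : ¬ p ∣ orderOf x := not_dvd_of_dvd p q hp hq hpq hno x hx
    have h0 := weak_block_orthogonality hMp Bp hBp x y⁻¹ hpx hy'
    rw [finsum_mem_eq_sum_ite] at h0
    rw [hηdef, Finset.sum_apply]
    refine Eq.trans ?_ h0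
    apply Finset.sum_congr rfl
    intro χ _
    by_cases hχ : χ ∈ Bp
    · rw [if_pos hχ, if_pos hχ, char_inv (isCharacter_of_irr χ.2), Complex.conj_conj]
      simp only [Pi.smul_apply, smul_eq_mul]
      ring
    · rw [if_neg hχ, if_neg hχ]
      simp
  -- the `Bq`-part of `η` vanishes at the `q`-singular elements
  have hpart : ∀ x : G, q ∣ orderOf x → ∑ χ : Cfsg.IrrCharacter G,
      (if χ ∈ Bp ∩ Bq then (χ : G → ℂ) y * (χ : G → ℂ) x else 0) = 0 := by
    intro x hx
    have h0 := blockPart_vanish_singular hMq Bq hBq η hηcf hηvan x hx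
    refine Eq.trans ?_ h0
    apply Finset.sum_congr rfl
    intro χ _
    rw [hηinner χ]
    by_cases h1 : χ ∈ Bp
    · by_cases h2 : χ ∈ Bq
      · rw [if_pos ⟨h1, h2⟩, if_pos h2, if_pos h1]
      · rw [if_neg (fun h => h2 h.2), if_neg h2]
    · by_cases h2 : χ ∈ Bq
      · rw [if_neg (fun h => h1 h.1), if_pos h2, if_neg h1, zero_mul]
      · rw [if_neg (fun h => h1 h.1), if_neg h2]
  -- sum over a Sylow `q`-subgroup
  obtain ⟨Q⟩ : Nonempty (Sylow q G) := inferInstance
  have : Fintype (Q : Subgroup G) := Fintype.ofFinite _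
  have hQcard : Nat.card (Q : Subgroup G) = q ^ b := by
    rw [Sylow.card_eq_multiplicity, hb]
  have hmult : ∀ χ : Cfsg.IrrCharacter G, ∃ m : ℕ,
      ∑ z : (Q : Subgroup G), (χ : G → ℂ) (z : G) = (Nat.card (Q : Subgroup G) : ℂ) * (m : ℂ) :=
    fun χ => sum_char_subgroup (isCharacter_of_irr χ.2) (Q : Subgroup G)
  choose m hm using hmult
  have hsumQ : ∑ z : (Q : Subgroup G), ∑ χ : Cfsg.IrrCharacter G,
      (if χ ∈ Bp ∩ Bq then (χ : G → ℂ) y * (χ : G → ℂ) (z : G) else 0) =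
      ∑ χ : Cfsg.IrrCharacter G,
      (if χ ∈ Bp ∩ Bq then (χ : G → ℂ) y * (χ : G → ℂ) 1 else 0) := by
    rw [Finset.sum_eq_single (1 : (Q : Subgroup G))]
    · rfl
    · intro z _ hz
      apply hpart
      obtain ⟨k, hk⟩ := (IsPGroup.iff_orderOf.1 Q.isPGroup') z
      have hk' : orderOf (z : G) = q ^ k := by rw [← hk, Subgroup.orderOf_coe]
      rw [hk']
      apply dvd_pow_self
      intro h0
      rw [h0, pow_zero, orderOf_eq_one_iff] at hk'
      exact hz (Subtype.ext hk')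
    · intro h; exact absurd (Finset.mem_univ _) h
  have hsumQ2 : ∑ z : (Q : Subgroup G), ∑ χ : Cfsg.IrrCharacter G,
      (if χ ∈ Bp ∩ Bq then (χ : G → ℂ) y * (χ : G → ℂ) (z : G) else 0) =
      (q : ℂ) ^ b * ∑ χ : Cfsg.IrrCharacter G,
      (if χ ∈ Bp ∩ Bq then (χ : G → ℂ) y * (m χ : ℂ) else 0) := by
    rw [Finset.sum_comm, Finset.mul_sum]
    apply Finset.sum_congr rfl
    intro χ _
    by_cases hχ : χ ∈ Bp ∩ Bq
    · simp only [if_pos hχ]
      rw [← Finset.mul_sum, hm χ, hQcard]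
      push_cast
      ring
    · simp only [if_neg hχ]
      simp
  have hint : IsIntegral ℤ (∑ χ : Cfsg.IrrCharacter G,
      (if χ ∈ Bp ∩ Bq then (χ : G → ℂ) y * (m χ : ℂ) else 0)) := by
    apply IsIntegral.sum
    intro χ _
    by_cases hχ : χ ∈ Bp ∩ Bq
    · rw [if_pos hχ]
      apply IsIntegral.mul (Cfsg.Agent.S4740.irr_value_isIntegral χ y)
      have := isIntegral_algebraMap (R := ℤ) (A := ℂ) (x := ((m χ : ℕ) : ℤ))
      simpa using this
    · rw [if_neg hχ]
      exact isIntegral_zero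
  refine ⟨⟨_, hint⟩, ?_⟩
  rw [finsum_mem_eq_sum_ite]
  change _ = (q : ℂ) ^ b * ∑ χ : Cfsg.IrrCharacter G,
      (if χ ∈ Bp ∩ Bq then (χ : G → ℂ) y * (m χ : ℂ) else 0)
  rw [← hsumQ2, hsumQ]
  apply Finset.sum_congr rfl
  intro χ _
  by_cases hχ : χ ∈ Bp ∩ Bq
  · rw [if_pos hχ, if_pos hχ, ← char_one_eq_charDegree (isCharacter_of_irr χ.2)]
    ring
  · rw [if_neg hχ, if_neg hχ]

end Cfsg.Agent.S4731
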