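import Cfsg.Statements.S4733
import Cfsg.Agent.Lib.Helper24.BlockOrtho
import Cfsg.Agent.Lib.Helper24.BlockRegular
import Cfsg.Agent.Lib.Helper7.DefectClass
import Cfsg.Agent.Lib.Helper25.Codegree
import Cfsg.Agent.S4740

set_option autoImplicit false
open Cfsg

namespace Cfsg.Agent.S4733

open Cfsg.Agent.Lib.Helper24 Cfsg.Agent.Lib.Helper25 Cfsg.Agent.Lib.Helper7
open scoped ComplexConjugate

section

variable {G : Type*} [Group G] [Finite G] {p : ℕ}

/-- The `p`-part of a character degree is at most the `p`-part of the group order. -/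
theorem factorization_degree_le (_hp : p.Prime) (χ : Cfsg.IrrCharacter G) :
    (Cfsg.charDegree (χ : G → ℂ)).factorization p ≤ (Nat.card G).factorization p := by
  have hdvd := charDegree_dvd_card χ.2
  have hpos : Cfsg.charDegree (χ : G → ℂ) ≠ 0 := (irr_degree_pos χ.2).ne'
  exact (Nat.factorization_le_iff_dvd hpos Nat.card_pos.ne').2 hdvd p

/-- A nonempty set of irreducible characters has defect zero iff all its members have full
`p`-part in their degrees. -/
theorem blockDefect_eq_zero_iff (hp : p.Prime) (B : Set (Cfsg.IrrCharacter G)) (hne : B.Nonempty) :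
    Cfsg.blockDefect p B = 0 ↔ ∀ χ ∈ B,
      (Cfsg.charDegree (χ : G → ℂ)).factorization p = (Nat.card G).factorization p := by
  unfold Cfsg.blockDefect
  set S := (fun χ : Cfsg.IrrCharacter G => (Cfsg.charDegree (χ : G → ℂ)).factorization p) '' B
    with hS
  have hSne : S.Nonempty := hne.image _
  rw [Nat.sub_eq_zero_iff_le]
  constructor
  · intro h χ hχ
    have h1 : sInf S ≤ (Cfsg.charDegree (χ : G → ℂ)).factorization p :=
      Nat.sInf_le ⟨χ, hχ, rfl⟩
    have h2 := factorization_degree_le hp χ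
    omega
  · intro h
    obtain ⟨χ, hχ, hχe⟩ := Nat.sInf_mem hSne
    rw [← hχe]
    exact (h χ hχ).ge

end

section

variable {G : Type*} [Group G] [Fintype G] {p : ℕ} {M : Ideal Cfsg.AlgInt}

/-- A block containing a character of `p`-defect zero consists of that character alone. -/
theorem block_eq_singleton (hM : Cfsg.IsPModular p M) (B : Set (Cfsg.IrrCharacter G))
    (hB : Cfsg.IsPBlock M B) (χ : Cfsg.IrrCharacter G) (hχ : χ ∈ B)
    (hdef : (Cfsg.charDegree (χ : G → ℂ)).factorization p = (Nat.card G).factorization p) :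
    B = {χ} := by
  classical
  have hp : p.Prime := hM.1
  obtain ⟨χ₀, rfl⟩ := hB
  -- the block of `χ` is the block of `χ₀`
  have hsame : Cfsg.blockOf M (χ₀ : G → ℂ) = Cfsg.blockOf M (χ : G → ℂ) := by
    ext ψ
    constructor
    · intro hψ
      exact sameBlock_trans hM (sameBlock_symm hM hχ) hψ
    · intro hψ
      exact sameBlock_trans hM hχ hψ
  -- the idempotent of `χ` has local coefficients
  have hA : ∀ g : G, Cfsg.MemLocalRing M (Cfsg.blockCoeff ({χ} : Set (Cfsg.IrrCharacter G)) g) := by
    intro g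
    unfold Cfsg.blockCoeff
    rw [finsum_mem_singleton]
    set a := (Nat.card G).factorization p with ha
    have hdeg : (χ : G → ℂ) 1 = (Cfsg.charDegree (χ : G → ℂ) : ℂ) :=
      char_one_eq_charDegree (isCharacter_of_irr χ.2)
    have hpos : Cfsg.charDegree (χ : G → ℂ) ≠ 0 := (irr_degree_pos χ.2).ne'
    have h1 : p ^ a ∣ Cfsg.charDegree (χ : G → ℂ) := by
      rw [← hdef]; exact Nat.ordProj_dvd _ p
    obtain ⟨m, hm⟩ := h1
    have h2 : p ^ a ∣ Nat.card G := Nat.ordProj_dvd _ p
    obtain ⟨n, hn⟩ := h2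
    have hnp : ¬ p ∣ n := by
      have := Nat.not_dvd_ordCompl hp (Nat.card_pos (α := G)).ne'
      rw [← ha] at this
      have hn' : Nat.card G / p ^ a = n := by
        rw [hn]; exact Nat.mul_div_cancel_left _ (pow_pos hp.pos a)
      rwa [hn'] at this
    have hpa : ((p : ℂ) ^ a) ≠ 0 := by exact_mod_cast (pow_pos hp.pos a).ne'
    have hn0 : (n : ℂ) ≠ 0 := by
      intro h0
      have : n = 0 := by exact_mod_cast h0
      rw [this, mul_zero] at hn
      exact Nat.card_pos.ne' hn
    have h3 : (Nat.card G : ℂ)⁻¹ * ((χ : G → ℂ) 1 * conj ((χ : G → ℂ) g)) =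
        (n : ℂ)⁻¹ * ((m : ℂ) * conj ((χ : G → ℂ) g)) := by
      rw [hdeg, hm, hn]
      push_cast
      field_simp
    rw [h3]
    apply memLocalRing_mul hM (memLocalRing_natCast_inv hM hnp)
    apply memLocalRing_mul hM (memLocalRing_natCast hM m)
    apply memLocalRing_of_isIntegral hM
    have := Cfsg.Agent.S4740.irr_value_isIntegral χ g⁻¹
    rw [char_inv (isCharacter_of_irr χ.2)] at this
    exact this
  have hsub := blockOf_subset_of_memLocalRing hM ({χ} : Set (Cfsg.IrrCharacter G)) hA χ rfl
  rw [hsame]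
  apply Set.Subset.antisymm hsub
  intro ψ hψ
  rw [Set.mem_singleton_iff] at hψ
  rw [hψ]
  exact sameBlock_refl hM _

/-- If the `p`-regular parts of the members of a block are linearly independent, then every
member of the block vanishes at the `p`-singular elements. -/
theorem vanish_of_linearIndependent (hM : Cfsg.IsPModular p M) (B : Set (Cfsg.IrrCharacter G))
    (hB : Cfsg.IsPBlock M B)
    (hli : LinearIndependent ℂ (fun χ : B => Cfsg.pRegularPart p ((χ : Cfsg.IrrCharacter G) : G → ℂ)))
    (χ : Cfsg.IrrCharacter G) (hχ : χ ∈ B) (y : G) (hy : p ∣ orderOf y) :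
    (χ : G → ℂ) y = 0 := by
  classical
  have : Fintype (Cfsg.IrrCharacter G) := Fintype.ofFinite _
  have : Fintype B := Fintype.ofFinite _
  rw [Fintype.linearIndependent_iff] at hli
  have h0 : ∑ ψ : B, conj (((ψ : Cfsg.IrrCharacter G) : G → ℂ) y) •
      Cfsg.pRegularPart p ((ψ : Cfsg.IrrCharacter G) : G → ℂ) = 0 := by
    funext x
    rw [Finset.sum_apply]
    simp only [Pi.smul_apply, smul_eq_mul, Pi.zero_apply]
    by_cases hx : p ∣ orderOf x
    · apply Finset.sum_eq_zero
      intro ψ _
      rw [pRegularPart_of_singular _ hx, mul_zero]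
    · have hw := weak_block_orthogonality hM B hB x y hx hy
      rw [← finsum_set_coe_eq_finsum_mem, finsum_eq_sum_of_fintype] at hw
      rw [← hw]
      apply Finset.sum_congr rfl
      intro ψ _
      rw [pRegularPart_of_regular _ hx, mul_comm]
  have h1 := hli (fun ψ : B => conj (((ψ : Cfsg.IrrCharacter G) : G → ℂ) y)) h0 ⟨χ, hχ⟩
  have h2 : conj ((χ : G → ℂ) y) = 0 := h1
  simpa using h2

end

/-- Let p be a prime, M a maximal ideal of the algebraic integers containing p, and B a p-block of the finite group G with k irreducible characters and p-regular rank l (the number of irreducible Brauer characters). Then l ≤ k, and the following are equivalent: B has defect 0; k = l = 1; k = l. -/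
theorem result {G : Type*} [Group G] [Finite G] (p : ℕ) [Fact p.Prime] (M : Ideal Cfsg.AlgInt) (hM : Cfsg.IsPModular p M) (B : Set (Cfsg.IrrCharacter G)) (hB : Cfsg.IsPBlock M B) : Cfsg.blockRank p B ≤ Nat.card B ∧ (Cfsg.blockDefect p B = 0 ↔ (Nat.card B = 1 ∧ Cfsg.blockRank p B = 1)) ∧ (Cfsg.blockDefect p B = 0 ↔ Nat.card B = Cfsg.blockRank p B) := by
  classical
  have : Fintype G := Fintype.ofFinite G
  have : Fintype (Cfsg.IrrCharacter G) := Fintype.ofFinite _
  have : Fintype B := Fintype.ofFinite _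
  have hp : p.Prime := Fact.out
  have hBne : B.Nonempty := by
    obtain ⟨χ₀, rfl⟩ := hB
    exact ⟨χ₀, sameBlock_refl hM _⟩
  -- the rank as the rank of a family
  have hrank : Cfsg.blockRank p B = Set.finrank ℂ (Set.range
      (fun χ : B => Cfsg.pRegularPart p ((χ : Cfsg.IrrCharacter G) : G → ℂ))) := by
    unfold Cfsg.blockRank Set.finrank
    rw [Set.image_eq_range]
  have hle : Cfsg.blockRank p B ≤ Nat.card B := by
    rw [hrank, Nat.card_eq_fintype_card]
    exact finrank_range_le_card _
  -- defect zero implies `k = l = 1`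
  have h1 : Cfsg.blockDefect p B = 0 → (Nat.card B = 1 ∧ Cfsg.blockRank p B = 1) := by
    intro hd
    rw [blockDefect_eq_zero_iff hp B hBne] at hd
    obtain ⟨χ, hχ⟩ := hBne
    have hBs := block_eq_singleton hM B hB χ hχ (hd χ hχ)
    constructor
    · rw [hBs]; simp
    · unfold Cfsg.blockRank
      rw [hBs, Set.image_singleton]
      apply finrank_span_singleton
      intro h0
      have := congrFun h0 1
      rw [pRegularPart_of_regular _ (by rw [orderOf_one]; exact hp.one_lt.ne' ∘ Nat.dvd_one.1)]
        at this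
      exact irr_one_ne_zero χ.2 this
  -- `k = l` implies defect zero
  have h2 : Nat.card B = Cfsg.blockRank p B → Cfsg.blockDefect p B = 0 := by
    intro hkl
    rw [hrank, Nat.card_eq_fintype_card, ← linearIndependent_iff_card_eq_finrank_span] at hkl
    rw [blockDefect_eq_zero_iff hp B hBne]
    intro χ hχ
    apply le_antisymm (factorization_degree_le hp χ)
    -- `χ` vanishes on the non-identity elements of a Sylow subgroup
    obtain ⟨P⟩ : Nonempty (Sylow p G) := inferInstance
    have hvan : ∀ g : G, g ∈ (P : Subgroup G) → g ≠ 1 → (χ : G → ℂ) g = 0 := by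
      intro g hg hg1
      apply vanish_of_linearIndependent hM B hB hkl χ hχ g
      obtain ⟨k, hk⟩ := (IsPGroup.iff_orderOf.1 P.isPGroup') ⟨g, hg⟩
      have hk' : orderOf g = p ^ k := by rw [← hk, ← Subgroup.orderOf_coe]
      rw [hk']
      apply dvd_pow_self
      intro h0
      rw [h0, pow_zero, orderOf_eq_one_iff] at hk'
      exact hg1 hk'
    obtain ⟨k, hk⟩ := Cfsg.Agent.Lib.Helper2.card_dvd_degree_of_vanish (P : Subgroup G)
      (χ : G → ℂ) (isCharacter_of_irr χ.2) hvan
    have hdeg : (χ : G → ℂ) 1 = (Cfsg.charDegree (χ : G → ℂ) : ℂ) :=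
      char_one_eq_charDegree (isCharacter_of_irr χ.2)
    rw [hdeg] at hk
    have hk' : Cfsg.charDegree (χ : G → ℂ) = Nat.card (P : Subgroup G) * k := by
      exact_mod_cast hk
    rw [Sylow.card_eq_multiplicity] at hk'
    have hpos : Cfsg.charDegree (χ : G → ℂ) ≠ 0 := (irr_degree_pos χ.2).ne'
    exact (hp.pow_dvd_iff_le_factorization hpos).1 ⟨k, hk'⟩
  refine ⟨hle, ⟨h1, ?_⟩, ⟨?_, h2⟩⟩
  · rintro ⟨hk, hl⟩
    apply h2
    rw [hk, hl]
  · intro hd
    obtain ⟨hk, hl⟩ := h1 hd
    rw [hk, hl]

end Cfsg.Agent.S4733
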