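import Mathlib
import Cfsg.Statements.S4736
import Cfsg.Agent.Lib.Helper25.ItoMichler
import Cfsg.Agent.Lib.Helper25.PrincipalQuot
import Cfsg.Agent.Lib.Helper10.PComponent
import Cfsg.Agent.Lib.Helper1.Cores
import Cfsg.Agent.S0915

set_option autoImplicit false
set_option linter.style.haveILetI false
open Cfsg

namespace Cfsg.Agent.S4736

open Cfsg.Agent.Lib.Helper25

/-- In a `p`-solvable group with `O_{p'} = 1`, an abelian Sylow `p`-subgroup forces all degrees to
be prime to `p`. -/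
theorem allPPrime_of_comm_sylow {H : Type*} [Group H] [Finite H] (p : ℕ) [Fact p.Prime]
    (hsolv : Cfsg.IsPSolvable p H) (hcore : Cfsg.pPrimeCore p H = ⊥) (P : Sylow p H)
    (hPc : ∀ a ∈ (P : Subgroup H), ∀ b ∈ (P : Subgroup H), a * b = b * a) : AllPPrime p H := by
  have hQP : Cfsg.pCore p H ≤ (P : Subgroup H) := Cfsg.Agent.Lib.Helper1.pCore_le_sylow P
  have hHH := Cfsg.H5.centralizer_pCore_le_of_isPSolvable hsolv hcore
  have hPQ : (P : Subgroup H) ≤ Cfsg.pCore p H := by
    refine le_trans ?_ hHH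
    intro x hx
    rw [Subgroup.mem_centralizer_iff]
    intro y hy
    exact hPc y (hQP hy) x hx
  have hEq : Cfsg.pCore p H = (P : Subgroup H) := le_antisymm hQP hPQ
  haveI : (Cfsg.pCore p H).Normal := Cfsg.H5.pCore_normal p H
  apply allPPrime_of_normal_abelian (Cfsg.pCore p H)
  · intro a ha b hb
    exact hPc a (hQP ha) b (hQP hb)
  · rw [hEq]
    exact P.not_dvd_index

/-- Let p be a prime, M a maximal ideal of the algebraic integers containing p, and G a finite p-solvable group with Sylow p-subgroup P. Then P is abelian if and only if every irreducible character in the principal p-block of G has height zero. -/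
theorem result {G : Type*} [Group G] [Finite G] (p : ℕ) [Fact p.Prime] (M : Ideal Cfsg.AlgInt) (hM : Cfsg.IsPModular p M) (hsolv : Cfsg.IsPSolvable p G) (P : Sylow p G) : IsMulCommutative P ↔ ∀ χ ∈ Cfsg.principalBlock M G, Cfsg.blockHeight p (Cfsg.principalBlock M G) (χ : G → ℂ) = 0 := by
  classical
  have hp : p.Prime := Fact.out
  have hcop := Cfsg.Agent.Lib.Helper1.pPrimeCore_coprime (G := G) p
  have hpN : ¬ p ∣ Nat.card (Cfsg.pPrimeCore p G) :=
    (Nat.Prime.coprime_iff_not_dvd hp).1 hcop.symm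
  have hbij := inflIrr_bijOn_principalBlock (Cfsg.pPrimeCore p G) hM hpN
  have hQsolv : Cfsg.IsPSolvable p (G ⧸ Cfsg.pPrimeCore p G) :=
    Cfsg.H5.isPSolvable_quotient _ hsolv
  have hQcore : Cfsg.pPrimeCore p (G ⧸ Cfsg.pPrimeCore p G) = ⊥ :=
    Cfsg.Agent.Lib.Helper10.pPrimeCore_quotient_eq_bot p
  have hQall : ∀ ψ : Cfsg.IrrCharacter (G ⧸ Cfsg.pPrimeCore p G),
      ψ ∈ Cfsg.principalBlock M (G ⧸ Cfsg.pPrimeCore p G) := fun ψ =>
    Cfsg.Agent.S0915.result p M hM hQsolv hQcore (irrOne _) ψ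
  have hdeg : ∀ ψ : Cfsg.IrrCharacter (G ⧸ Cfsg.pPrimeCore p G),
      Cfsg.charDegree (inflIrr (Cfsg.pPrimeCore p G) ψ : G → ℂ) =
        Cfsg.charDegree (ψ : G ⧸ Cfsg.pPrimeCore p G → ℂ) := by
    intro ψ
    unfold Cfsg.charDegree
    rw [inflIrr_apply, QuotientGroup.mk_one]
  have hheight : ∀ χ : Cfsg.IrrCharacter G,
      Cfsg.blockHeight p (Cfsg.principalBlock M G) (χ : G → ℂ) =
        (Cfsg.charDegree (χ : G → ℂ)).factorization p := by
    intro χ
    unfold Cfsg.blockHeight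
    have h0 : sInf ((fun ψ : Cfsg.IrrCharacter G =>
        (Cfsg.charDegree (ψ : G → ℂ)).factorization p) '' Cfsg.principalBlock M G) = 0 := by
      apply Nat.eq_zero_of_le_zero
      apply Nat.sInf_le
      refine ⟨irrOne G, Cfsg.Agent.Lib.Helper24.sameBlock_refl hM _, ?_⟩
      have h1 : Cfsg.charDegree (irrOne G : G → ℂ) = 1 := by
        show ⌊((1 : ℂ)).re⌋₊ = 1
        simp
      show (Cfsg.charDegree (irrOne G : G → ℂ)).factorization p = 0
      rw [h1]
      simp
    rw [h0, Nat.sub_zero]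
  have hkey : (∀ χ ∈ Cfsg.principalBlock M G,
      Cfsg.blockHeight p (Cfsg.principalBlock M G) (χ : G → ℂ) = 0) ↔
      AllPPrime p (G ⧸ Cfsg.pPrimeCore p G) := by
    constructor
    · intro h ψ hdvd
      have h1 := h (inflIrr (Cfsg.pPrimeCore p G) ψ) (hbij.mapsTo (hQall ψ))
      rw [hheight, hdeg] at h1
      have hpos := irr_degree_pos ψ.2
      rcases (Nat.factorization_eq_zero_iff _ _).1 h1 with h2 | h2 | h2
      · exact h2 hp
      · exact h2 hdvd
      · omega
    · intro h χ hχ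
      obtain ⟨ψ, -, rfl⟩ := hbij.surjOn hχ
      rw [hheight, hdeg]
      exact Nat.factorization_eq_zero_of_not_dvd (h ψ)
  rw [hkey]
  constructor
  · intro hPc
    have hsurj := QuotientGroup.mk'_surjective (Cfsg.pPrimeCore p G)
    apply allPPrime_of_comm_sylow p hQsolv hQcore (P.mapSurjective hsurj)
    rintro _ ⟨a, ha, rfl⟩ _ ⟨b, hb, rfl⟩
    rw [← map_mul, ← map_mul]
    congr 1
    exact congrArg Subtype.val (hPc.is_comm.comm ⟨a, ha⟩ ⟨b, hb⟩)
  · intro hall
    obtain ⟨K, hKn, hKp, hKi⟩ := hasNormalSylow_of_isPSolvable hQsolv hall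
    haveI := hKn
    have hKc := comm_of_normal_pGroup_of_allPPrime K hKp hall
    have hPp : IsPGroup p (P : Subgroup G) := P.isPGroup'
    have hmemK : ∀ a ∈ (P : Subgroup G), (QuotientGroup.mk' (Cfsg.pPrimeCore p G)) a ∈ K := by
      intro a ha
      apply Cfsg.Agent.Lib.Helper22.mem_of_coprime_index K
      obtain ⟨k, hk⟩ := hPp ⟨a, ha⟩
      have hk' : a ^ (p ^ k) = 1 := by simpa using congrArg Subtype.val hk
      have hdvd : orderOf ((QuotientGroup.mk' (Cfsg.pPrimeCore p G)) a) ∣ p ^ k := by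
        apply orderOf_dvd_of_pow_eq_one
        rw [← map_pow, hk', map_one]
      have hcop : (p ^ k).Coprime K.index :=
        Nat.Coprime.pow_left k ((Nat.Prime.coprime_iff_not_dvd hp).2 hKi)
      exact Nat.Coprime.coprime_dvd_left hdvd hcop
    refine ⟨⟨fun a b => ?_⟩⟩
    apply Subtype.ext
    show (a : G) * (b : G) = (b : G) * (a : G)
    have h1 := hKc ⟨_, hmemK a a.2⟩ ⟨_, hmemK b b.2⟩
    have h2 : (QuotientGroup.mk' (Cfsg.pPrimeCore p G)) ((a : G) * (b : G)) =
        (QuotientGroup.mk' (Cfsg.pPrimeCore p G)) ((b : G) * (a : G)) := by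
      rw [map_mul, map_mul]
      exact congrArg Subtype.val h1
    set c : G := ((b : G) * (a : G))⁻¹ * ((a : G) * (b : G)) with hc
    have hcN : c ∈ Cfsg.pPrimeCore p G := by
      rw [← QuotientGroup.eq_one_iff, hc]
      have h3 : ((((b : G) * (a : G))⁻¹ * ((a : G) * (b : G)) : G) : G ⧸ Cfsg.pPrimeCore p G) =
          ((QuotientGroup.mk' (Cfsg.pPrimeCore p G)) ((b : G) * (a : G)))⁻¹ *
            (QuotientGroup.mk' (Cfsg.pPrimeCore p G)) ((a : G) * (b : G)) := rfl
      rw [h3, h2, inv_mul_cancel]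
    have hcP : c ∈ (P : Subgroup G) :=
      mul_mem (inv_mem (mul_mem b.2 a.2)) (mul_mem a.2 b.2)
    have hc1 : c = 1 := by
      obtain ⟨k, hk⟩ := hPp ⟨c, hcP⟩
      have hk' : c ^ (p ^ k) = 1 := by simpa using congrArg Subtype.val hk
      have hd1 : orderOf c ∣ p ^ k := orderOf_dvd_of_pow_eq_one hk'
      have hd2 : orderOf c ∣ Nat.card (Cfsg.pPrimeCore p G) :=
        Subgroup.orderOf_dvd_natCard _ hcN
      have hcop : (p ^ k).Coprime (Nat.card (Cfsg.pPrimeCore p G)) :=
        Nat.Coprime.pow_left k hcop.symm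
      exact orderOf_eq_one_iff.1 (Nat.eq_one_of_dvd_coprimes hcop hd1 hd2)
    have h4 : (b : G) * (a : G) * c = (a : G) * (b : G) := by
      rw [hc]; group
    rw [← h4, hc1, mul_one]

end Cfsg.Agent.S4736
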