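import Cfsg.Statements.S4737
import Cfsg.Agent.Lib.Helper7.OrderThreeDefectZero

set_option autoImplicit false
open Cfsg

namespace Cfsg.Agent.S4737

/-- Let G be a finite group of order divisible by 6. Then the number of irreducible characters of G whose degree has the same 2-part as the order of G (the characters of 2-defect zero, each forming a 2-block of defect zero on its own) is at least the number of conjugacy classes of elements of order 3 that normalize no nontrivial 2-subgroup of G. In particular G has a 2-block of defect zero as soon as some element of order 3 normalizes no nontrivial 2-subgroup. -/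
theorem result {G : Type*} [Group G] [Finite G] (h6 : 6 ∣ Nat.card G) : Nat.card {C : ConjClasses G // ∃ g ∈ C.carrier, orderOf g = 3 ∧ ∀ Q : Subgroup G, IsPGroup 2 ↥Q → g ∈ Subgroup.normalizer (Q : Set G) → Q = ⊥} ≤ Nat.card {χ : Cfsg.IrrCharacter G // (Cfsg.charDegree (χ : G → ℂ)).factorization 2 = (Nat.card G).factorization 2} := by
  classical
  haveI : Fintype G := Fintype.ofFinite G
  haveI : Fintype (Cfsg.IrrCharacter G) := Fintype.ofFinite _
  haveI : Finite (ConjClasses G) := inferInstance
  set T := {C : ConjClasses G // ∃ g ∈ C.carrier, orderOf g = 3 ∧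
    ∀ Q : Subgroup G, IsPGroup 2 ↥Q → g ∈ Subgroup.normalizer (Q : Set G) → Q = ⊥} with hT
  haveI : Fintype T := Fintype.ofFinite T
  set r := Fintype.card T with hr
  let e : T ≃ Fin r := Fintype.equivFin T
  have hex : ∀ i : Fin r, ∃ g ∈ (e.symm i).1.carrier, orderOf g = 3 ∧
      ∀ Q : Subgroup G, IsPGroup 2 ↥Q → g ∈ Subgroup.normalizer (Q : Set G) → Q = ⊥ :=
    fun i => (e.symm i).2
  choose x hxmem hx3 hxgood using hex
  have hx : ∀ i j : Fin r, IsConj (x i) (x j) → i = j := by
    intro i j hij
    have h1 := ConjClasses.mem_carrier_iff_mk_eq.mp (hxmem i)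
    have h2 := ConjClasses.mem_carrier_iff_mk_eq.mp (hxmem j)
    have h3 : ConjClasses.mk (x i) = ConjClasses.mk (x j) := ConjClasses.mk_eq_mk_iff_isConj.mpr hij
    have h4 : (e.symm i).1 = (e.symm j).1 := by rw [← h1, ← h2, h3]
    exact e.symm.injective (Subtype.ext h4)
  have h := Cfsg.Agent.Lib.Helper7.card_le_card_defectZero_of_orderThree x hx3 hxgood hx
  rw [Nat.card_eq_fintype_card, Nat.card_eq_fintype_card]
  convert h using 1

end Cfsg.Agent.S4737
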