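import Cfsg.Statements.S4738
import Cfsg.Agent.Lib.Helper25.DefectZeroInvol
import Cfsg.Agent.Lib.Helper25.Linear

set_option autoImplicit false
open Cfsg

namespace Cfsg.Agent.S4738

open Cfsg.Agent.Lib.Helper25

/-- A conjugate of an involution is an involution. -/
theorem conj_invol {G : Type*} [Group G] (t g : G) (ht2 : t * t = 1) (ht1 : t ≠ 1)
    (hg : IsConj t g) : g * g = 1 ∧ g ≠ 1 := by
  constructor
  · obtain ⟨c, hc⟩ := isConj_iff.1 hg
    rw [← hc]
    calc c * t * c⁻¹ * (c * t * c⁻¹) = c * (t * t) * c⁻¹ := by group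
      _ = 1 := by rw [ht2]; group
  · intro h1
    rw [h1] at hg
    exact ht1 (isConj_one_left.1 hg)

/-- An element of order two squares to one and is not the identity. -/
theorem invol_of_orderOf {G : Type*} [Group G] (t : G) (ht : orderOf t = 2) :
    t * t = 1 ∧ t ≠ 1 := by
  constructor
  · rw [← pow_two, ← ht]; exact pow_orderOf_eq_one t
  · intro h; rw [h, orderOf_one] at ht; omega

/-- In a group without elements of order `2p` (`p` odd), centralizers of non-identity
`p`-elements have odd order. -/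
theorem odd_centralizer_of_no_two_p {G : Type*} [Group G] [Finite G] (p : ℕ) [Fact p.Prime]
    (hp2 : p ≠ 2) (h2p : ∀ g : G, orderOf g ≠ 2 * p) (y : G) (hy1 : y ≠ 1)
    (hy : ∃ k : ℕ, orderOf y = p ^ k) :
    Odd (Nat.card ↥(Subgroup.centralizer ({y} : Set G))) := by
  have hp : p.Prime := Fact.out
  rw [← Nat.not_even_iff_odd, even_iff_two_dvd]
  intro h2
  have : Fact (Nat.Prime 2) := ⟨Nat.prime_two⟩
  obtain ⟨⟨s, hsC⟩, hs⟩ := exists_prime_orderOf_dvd_card' 2 h2
  have hs' : orderOf s = 2 := by rw [← hs, ← Subgroup.orderOf_coe]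
  obtain ⟨k, hk⟩ := hy
  have hk0 : k ≠ 0 := by
    intro h0
    rw [h0, pow_zero, orderOf_eq_one_iff] at hk
    exact hy1 hk
  obtain ⟨j, rfl⟩ := Nat.exists_eq_succ_of_ne_zero hk0
  -- the element `z = y ^ (p ^ j)` has order `p`
  have hz : orderOf (y ^ (p ^ j)) = p := by
    rw [orderOf_pow_of_dvd (pow_ne_zero _ hp.ne_zero) (by rw [hk]; exact pow_dvd_pow p (Nat.le_succ j)),
      hk, pow_succ, Nat.mul_div_cancel_left _ (pow_pos hp.pos j)]
  have hcomm : Commute s (y ^ (p ^ j)) := by
    have h1 : Commute s y := (mem_centralizer_singleton.1 hsC).symm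
    exact h1.pow_right _
  have hcop : (orderOf s).Coprime (orderOf (y ^ (p ^ j))) := by
    rw [hs', hz]
    exact (Nat.coprime_primes Nat.prime_two hp).2 (Ne.symm hp2)
  have := hcomm.orderOf_mul_eq_mul_orderOf_of_coprime hcop
  rw [hs', hz] at this
  exact h2p _ this

/-- If the involutions `s` and `t` both invert the subgroup `H`, which contains a non-identity
element with centralizer of odd order, then `s` and `t` are conjugate. -/
theorem isConj_of_both_inverting {G : Type*} [Group G] [Finite G] (H : Subgroup G) (s t : G)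
    (hs2 : s * s = 1) (ht2 : t * t = 1) (hs : ∀ x ∈ H, s * x * s⁻¹ = x⁻¹)
    (ht : ∀ x ∈ H, t * x * t⁻¹ = x⁻¹) (w : G) (hw : w ∈ H)
    (hodd : Odd (Nat.card ↥(Subgroup.centralizer ({w} : Set G)))) : IsConj s t := by
  apply isConj_of_odd_orderOf_mul s t hs2 ht2
  have hmem : s * t ∈ Subgroup.centralizer ({w} : Set G) := by
    rw [mem_centralizer_singleton]
    have h1 := ht w hw
    have h2 := hs _ (H.inv_mem hw)
    rw [inv_inv] at h2
    have h3 : (s * t) * w * (s * t)⁻¹ = w := by
      calc (s * t) * w * (s * t)⁻¹ = s * (t * w * t⁻¹) * s⁻¹ := by group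
        _ = w := by rw [h1, h2]
    calc w * (s * t) = ((s * t) * w * (s * t)⁻¹) * (s * t) := by rw [h3]
      _ = s * t * w := by group
  have h4 : orderOf (⟨s * t, hmem⟩ : Subgroup.centralizer ({w} : Set G)) = orderOf (s * t) := by
    rw [← Subgroup.orderOf_coe]
  rw [← h4]
  exact Odd.of_dvd_nat hodd (orderOf_dvd_natCard _)

/-- Let p be an odd prime and G a finite group of even order containing no element of order 2p. Then either G has an irreducible character of p-defect zero (its degree has the same p-part as the order of G), or every Sylow p-subgroup of G is abelian and all involutions of G are conjugate. -/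
theorem result {G : Type*} [Group G] [Finite G] (p : ℕ) [Fact p.Prime] (hp2 : p ≠ 2) (hG : Even (Nat.card G)) (h2p : ∀ g : G, orderOf g ≠ 2 * p) : (∃ χ : Cfsg.IrrCharacter G, (Cfsg.charDegree (χ : G → ℂ)).factorization p = (Nat.card G).factorization p) ∨ ((∀ P : Sylow p G, IsMulCommutative ↥(P : Subgroup G)) ∧ ∀ s t : G, orderOf s = 2 → orderOf t = 2 → IsConj s t) := by
  classical
  have hp : p.Prime := Fact.out
  by_cases hpG : p ∣ Nat.card G
  swap
  · -- `p ∤ |G|`: every character has defect zero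
    left
    refine ⟨irrOne G, ?_⟩
    rw [Nat.factorization_eq_zero_of_not_dvd hpG]
    apply Nat.factorization_eq_zero_of_not_dvd
    intro hd
    apply hpG
    exact dvd_trans hd (charDegree_dvd_card (irrOne G).2)
  have hC : ∀ y : G, y ≠ 1 → (∃ k : ℕ, orderOf y = p ^ k) →
      Odd (Nat.card ↥(Subgroup.centralizer ({y} : Set G))) :=
    fun y hy1 hy => odd_centralizer_of_no_two_p p hp2 h2p y hy1 hy
  by_cases hdz : ∃ χ : Cfsg.IrrCharacter G,
      (Cfsg.charDegree (χ : G → ℂ)).factorization p = (Nat.card G).factorization p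
  · left; exact hdz
  right
  have key : ∀ t : G, orderOf t = 2 → ∀ P : Sylow p G,
      ∃ g : G, IsConj t g ∧ ∀ x ∈ P, g * x * g⁻¹ = x⁻¹ := by
    intro t ht P
    obtain ⟨ht2, ht1⟩ := invol_of_orderOf t ht
    rcases defect_zero_or_exists_inverting p hC t ht2 ht1 with h | ⟨g, hg, P₀, hP₀⟩
    · exact absurd h hdz
    · obtain ⟨c, hc⟩ := exists_conj_inverting p g P₀ hP₀ P
      exact ⟨c * g * c⁻¹, hg.trans (isConj_iff.2 ⟨c, rfl⟩), hc⟩
  have : Fact (Nat.Prime 2) := ⟨Nat.prime_two⟩
  obtain ⟨t₀, ht₀⟩ := exists_prime_orderOf_dvd_card' 2 (even_iff_two_dvd.1 hG)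
  constructor
  · intro P
    obtain ⟨g, _, hg⟩ := key t₀ ht₀ P
    exact isMulCommutative_of_inverted _ g hg
  · intro s t hs ht
    obtain ⟨P⟩ : Nonempty (Sylow p G) := inferInstance
    obtain ⟨s', hss', hs'⟩ := key s hs P
    obtain ⟨t', htt', ht'⟩ := key t ht P
    obtain ⟨hs2, hs1⟩ := invol_of_orderOf s hs
    obtain ⟨ht2, ht1⟩ := invol_of_orderOf t ht
    obtain ⟨hs'2, _⟩ := conj_invol s s' hs2 hs1 hss'
    obtain ⟨ht'2, _⟩ := conj_invol t t' ht2 ht1 htt'
    -- a non-identity element of `P`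
    have hPne : (P : Subgroup G) ≠ ⊥ := P.ne_bot_of_dvd_card hpG
    obtain ⟨w, hwP, hw1⟩ := (Subgroup.ne_bot_iff_exists_ne_one.1 hPne |> fun ⟨⟨w, hw⟩, h⟩ =>
      (⟨w, hw, fun h1 => h (Subtype.ext h1)⟩ : ∃ w : G, w ∈ (P : Subgroup G) ∧ w ≠ 1))
    have hwp : ∃ k : ℕ, orderOf w = p ^ k := by
      obtain ⟨k, hk⟩ := (IsPGroup.iff_orderOf.1 P.isPGroup') ⟨w, hwP⟩
      exact ⟨k, by rw [← hk, ← Subgroup.orderOf_coe]⟩
    have hconj := isConj_of_both_inverting (P : Subgroup G) s' t' hs'2 ht'2 hs' ht' w hwP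
      (hC w hw1 hwp)
    exact (hss'.trans hconj).trans htt'.symm

end Cfsg.Agent.S4738
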