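import Cfsg.Statements.S4742
import Cfsg.Agent.Lib.Helper25.DefectZero

set_option autoImplicit false
set_option linter.style.haveILetI false
open Cfsg

namespace Cfsg.Agent.S4742

open Cfsg.Agent.Lib.Helper25

/-- Let p ≠ q be primes dividing the order of the finite group G, and suppose the centralizer of every non-identity p-element of G has order prime to q. Then either G has an irreducible character of p-defect zero, or for every non-identity q-element z of G there are conjugates g, h of z such that g h⁻¹ is a non-identity p-element. -/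
theorem result {G : Type*} [Group G] [Finite G] (p q : ℕ) [Fact p.Prime] [Fact q.Prime] (hppq : p ≠ q) (hpG : p ∣ Nat.card G) (hqG : q ∣ Nat.card G) (hC : ∀ g : G, g ≠ 1 → (∃ k : ℕ, orderOf g = p ^ k) → ¬ q ∣ Nat.card ↥(Subgroup.centralizer ({g} : Set G))) : (∃ χ : Cfsg.IrrCharacter G, (Cfsg.charDegree (χ : G → ℂ)).factorization p = (Nat.card G).factorization p) ∨ ∀ z : G, z ≠ 1 → (∃ k : ℕ, orderOf z = q ^ k) → ∃ g h : G, IsConj z g ∧ IsConj z h ∧ g * h⁻¹ ≠ 1 ∧ ∃ k : ℕ, orderOf (g * h⁻¹) = p ^ k := by
  classical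
  have hp : p.Prime := Fact.out
  have hq : q.Prime := Fact.out
  by_contra hcon
  push Not at hcon
  obtain ⟨hno, z, hz1, ⟨kz, hkz⟩, hz⟩ := hcon
  suffices h : ∃ χ : Cfsg.IrrCharacter G,
      (Cfsg.charDegree (χ : G → ℂ)).factorization p = (Nat.card G).factorization p by
    obtain ⟨χ, hχ⟩ := h
    exact hno χ hχ
  -- `p` does not divide `|C_G(z)|`
  have hpz : ¬ p ∣ Nat.card ↥(Subgroup.centralizer ({z} : Set G)) := by
    intro hdvd
    obtain ⟨d, hd⟩ := exists_prime_orderOf_dvd_card' (G := Subgroup.centralizer ({z} : Set G)) p hdvd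
    have hd' : orderOf (d : G) = p := by rw [Subgroup.orderOf_coe]; exact hd
    have hd1 : (d : G) ≠ 1 := by
      intro h1
      rw [h1, orderOf_one] at hd'
      exact hp.one_lt.ne hd'
    apply hC (d : G) hd1 ⟨1, by rw [hd', pow_one]⟩
    -- `z` lies in the centralizer of `d` and has order `q ^ kz` with `kz ≥ 1`
    have hzmem : z ∈ Subgroup.centralizer ({(d : G)} : Set G) := by
      rw [Subgroup.mem_centralizer_iff]
      intro h hh
      rw [Set.mem_singleton_iff] at hh
      rw [hh]
      have := Subgroup.mem_centralizer_iff.1 d.2 z (Set.mem_singleton z)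
      exact this.symm
    have hkz1 : kz ≠ 0 := by
      intro h0
      rw [h0, pow_zero, orderOf_eq_one_iff] at hkz
      exact hz1 hkz
    have h1 : orderOf (⟨z, hzmem⟩ : Subgroup.centralizer ({(d : G)} : Set G)) = q ^ kz := by
      rw [← hkz, ← Subgroup.orderOf_coe]
    have h2 : q ^ kz ∣ Nat.card ↥(Subgroup.centralizer ({(d : G)} : Set G)) := by
      rw [← h1]; exact orderOf_dvd_natCard _
    exact dvd_trans (dvd_pow_self q hkz1) h2
  apply exists_defect_zero_of_class_sep p z hpz
  intro g h hg hh hne
  rintro ⟨k, hk⟩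
  exact hz g h hg hh hne k hk

end Cfsg.Agent.S4742
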