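import Cfsg.Statements.S4743
import Cfsg.Agent.S4742

set_option autoImplicit false
set_option linter.style.haveILetI false
open Cfsg

namespace Cfsg.Agent.S4743

/-- the hypothesis "no elements of order `pq`" is symmetric -/
theorem swap_hyp {G : Type*} [Group G] [Finite G] (p q : ℕ) [Fact p.Prime] [Fact q.Prime]
    (hC : ∀ g : G, g ≠ 1 → (∃ k : ℕ, orderOf g = p ^ k) →
      ¬ q ∣ Nat.card ↥(Subgroup.centralizer ({g} : Set G))) :
    ∀ g : G, g ≠ 1 → (∃ k : ℕ, orderOf g = q ^ k) →
      ¬ p ∣ Nat.card ↥(Subgroup.centralizer ({g} : Set G)) := by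
  have hp : p.Prime := Fact.out
  have hq : q.Prime := Fact.out
  intro g hg1 ⟨k, hk⟩ hdvd
  obtain ⟨d, hd⟩ := exists_prime_orderOf_dvd_card' (G := Subgroup.centralizer ({g} : Set G)) p hdvd
  have hd' : orderOf (d : G) = p := by rw [Subgroup.orderOf_coe]; exact hd
  have hd1 : (d : G) ≠ 1 := by
    intro h
    rw [h, orderOf_one] at hd'
    exact hp.one_lt.ne hd'
  apply hC (d : G) hd1 ⟨1, by rw [hd', pow_one]⟩
  have hmem : g ∈ Subgroup.centralizer ({(d : G)} : Set G) := by
    rw [Subgroup.mem_centralizer_iff]
    intro h hh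
    rw [Set.mem_singleton_iff] at hh
    subst hh
    have := d.2
    rw [Subgroup.mem_centralizer_iff] at this
    exact (this g (Set.mem_singleton g)).symm
  have hk0 : k ≠ 0 := by
    intro h0
    rw [h0, pow_zero, orderOf_eq_one_iff] at hk
    exact hg1 hk
  have h1 : q ∣ orderOf g := by rw [hk]; exact dvd_pow_self q hk0
  exact dvd_trans h1 (Subgroup.orderOf_dvd_natCard _ hmem)

/-- the `p`-solvable case -/
theorem aux {G : Type*} [Group G] [Finite G] (p q : ℕ) [Fact p.Prime] [Fact q.Prime]
    (hppq : p ≠ q) (hpG : p ∣ Nat.card G) (hqG : q ∣ Nat.card G)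
    (hC : ∀ g : G, g ≠ 1 → (∃ k : ℕ, orderOf g = p ^ k) →
      ¬ q ∣ Nat.card ↥(Subgroup.centralizer ({g} : Set G)))
    (hsolv : Cfsg.IsPSolvable p G) :
    (∃ χ : Cfsg.IrrCharacter G,
      (Cfsg.charDegree (χ : G → ℂ)).factorization p = (Nat.card G).factorization p) ∨
    (∃ χ : Cfsg.IrrCharacter G,
      (Cfsg.charDegree (χ : G → ℂ)).factorization q = (Nat.card G).factorization q) := by
  classical
  have hp : p.Prime := Fact.out
  have hq : q.Prime := Fact.out
  -- a normal subgroup of one of two kinds
  have hstruct : (∃ K : Subgroup G, K.Normal ∧ ¬ p ∣ Nat.card K ∧ q ∣ Nat.card K) ∨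
      (∃ L : Subgroup G, L.Normal ∧ ¬ q ∣ Nat.card L ∧ p ∣ Nat.card L) := by
    obtain ⟨n, H, h0, hlast, hmono, hnorm, hfac⟩ := hsolv
    have key : ∀ i : Fin (n + 1), (p ∣ Nat.card (H i) ∨ q ∣ Nat.card (H i)) →
        (∃ K : Subgroup G, K.Normal ∧ ¬ p ∣ Nat.card K ∧ q ∣ Nat.card K) ∨
        (∃ L : Subgroup G, L.Normal ∧ ¬ q ∣ Nat.card L ∧ p ∣ Nat.card L) := by
      intro i
      induction i using Fin.induction with
      | zero =>
        intro h
        rw [h0, Subgroup.card_bot] at h
        rcases h with h | h
        · exact absurd (Nat.le_of_dvd one_pos h) (not_le.mpr hp.one_lt)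
        · exact absurd (Nat.le_of_dvd one_pos h) (not_le.mpr hq.one_lt)
      | succ i ih =>
        intro h
        by_cases hprev : p ∣ Nat.card (H i.castSucc) ∨ q ∣ Nat.card (H i.castSucc)
        · exact ih hprev
        · push Not at hprev
          have hle : H i.castSucc ≤ H i.succ := hmono (Fin.castSucc_lt_succ (i := i)).le
          have hcard : Nat.card (H i.succ) =
              Nat.card (H i.castSucc) * (H i.castSucc).relIndex (H i.succ) := by
            have := Subgroup.relIndex_mul_relIndex ⊥ (H i.castSucc) (H i.succ) bot_le hle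
            rw [Subgroup.relIndex_bot_left, Subgroup.relIndex_bot_left] at this
            exact this.symm
          rcases hfac i with ⟨m, hm⟩ | hc
          · -- p-power factor
            right
            refine ⟨H i.succ, hnorm _, ?_, ?_⟩
            · rw [hcard, hm]
              intro hdvd
              rcases (Nat.Prime.dvd_mul hq).mp hdvd with h1 | h1
              · exact hprev.2 h1
              · have := hq.dvd_of_dvd_pow h1
                exact hppq ((Nat.prime_dvd_prime_iff_eq hq hp).mp this).symm
            · rcases h with h | h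
              · exact h
              · exfalso
                rw [hcard, hm] at h
                rcases (Nat.Prime.dvd_mul hq).mp h with h1 | h1
                · exact hprev.2 h1
                · have := hq.dvd_of_dvd_pow h1
                  exact hppq ((Nat.prime_dvd_prime_iff_eq hq hp).mp this).symm
          · -- p'-factor
            left
            have hnp : ¬ p ∣ Nat.card (H i.succ) := by
              rw [hcard]
              intro hdvd
              rcases (Nat.Prime.dvd_mul hp).mp hdvd with h1 | h1
              · exact hprev.1 h1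
              · have : p ∣ Nat.gcd ((H i.castSucc).relIndex (H i.succ)) p :=
                  Nat.dvd_gcd h1 dvd_rfl
                rw [hc] at this
                exact absurd (Nat.le_of_dvd one_pos this) (not_le.mpr hp.one_lt)
            refine ⟨H i.succ, hnorm _, hnp, ?_⟩
            rcases h with h | h
            · exact absurd h hnp
            · exact h
    apply key (Fin.last n)
    rw [hlast, Subgroup.card_top]
    exact Or.inl hpG
  rcases hstruct with ⟨K, hKn, hKp, hKq⟩ | ⟨L, hLn, hLq, hLp⟩
  · -- a `q`-element in the normal `p'`-subgroup `K`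
    left
    rcases Cfsg.Agent.S4742.result p q hppq hpG hqG hC with h | h
    · exact h
    · exfalso
      obtain ⟨z, hz⟩ := exists_prime_orderOf_dvd_card' (G := K) q hKq
      have hz' : orderOf (z : G) = q := by rw [Subgroup.orderOf_coe]; exact hz
      have hz1 : (z : G) ≠ 1 := by
        intro h1
        rw [h1, orderOf_one] at hz'
        exact hq.one_lt.ne hz'
      obtain ⟨g, h', hg, hh, hne, k, hk⟩ := h (z : G) hz1 ⟨1, by rw [hz', pow_one]⟩
      have hgK : g ∈ K := by
        obtain ⟨c, hc⟩ := isConj_iff.mp hg
        rw [← hc]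
        exact hKn.conj_mem _ z.2 c
      have hhK : h' ∈ K := by
        obtain ⟨c, hc⟩ := isConj_iff.mp hh
        rw [← hc]
        exact hKn.conj_mem _ z.2 c
      have hmem : g * h'⁻¹ ∈ K := K.mul_mem hgK (K.inv_mem hhK)
      have hk0 : k ≠ 0 := by
        intro h0
        rw [h0, pow_zero, orderOf_eq_one_iff] at hk
        exact hne hk
      apply hKp
      have h1 : p ∣ orderOf (g * h'⁻¹) := by rw [hk]; exact dvd_pow_self p hk0
      exact dvd_trans h1 (Subgroup.orderOf_dvd_natCard _ hmem)
  · -- a `p`-element in the normal `q'`-subgroup `L`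
    right
    rcases Cfsg.Agent.S4742.result q p (Ne.symm hppq) hqG hpG (swap_hyp p q hC) with h | h
    · exact h
    · exfalso
      obtain ⟨z, hz⟩ := exists_prime_orderOf_dvd_card' (G := L) p hLp
      have hz' : orderOf (z : G) = p := by rw [Subgroup.orderOf_coe]; exact hz
      have hz1 : (z : G) ≠ 1 := by
        intro h1
        rw [h1, orderOf_one] at hz'
        exact hp.one_lt.ne hz'
      obtain ⟨g, h', hg, hh, hne, k, hk⟩ := h (z : G) hz1 ⟨1, by rw [hz', pow_one]⟩
      have hgK : g ∈ L := by
        obtain ⟨c, hc⟩ := isConj_iff.mp hg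
        rw [← hc]
        exact hLn.conj_mem _ z.2 c
      have hhK : h' ∈ L := by
        obtain ⟨c, hc⟩ := isConj_iff.mp hh
        rw [← hc]
        exact hLn.conj_mem _ z.2 c
      have hmem : g * h'⁻¹ ∈ L := L.mul_mem hgK (L.inv_mem hhK)
      have hk0 : k ≠ 0 := by
        intro h0
        rw [h0, pow_zero, orderOf_eq_one_iff] at hk
        exact hne hk
      apply hLq
      have h1 : q ∣ orderOf (g * h'⁻¹) := by rw [hk]; exact dvd_pow_self q hk0
      exact dvd_trans h1 (Subgroup.orderOf_dvd_natCard _ hmem)

/-- Let p ≠ q be primes dividing the order of the finite group G, suppose the centralizer of every non-identity p-element has order prime to q, and suppose G is p-solvable or q-solvable. Then G has an irreducible character of p-defect zero or an irreducible character of q-defect zero. -/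
theorem result {G : Type*} [Group G] [Finite G] (p q : ℕ) [Fact p.Prime] [Fact q.Prime] (hppq : p ≠ q) (hpG : p ∣ Nat.card G) (hqG : q ∣ Nat.card G) (hC : ∀ g : G, g ≠ 1 → (∃ k : ℕ, orderOf g = p ^ k) → ¬ q ∣ Nat.card ↥(Subgroup.centralizer ({g} : Set G))) (hsolv : Cfsg.IsPSolvable p G ∨ Cfsg.IsPSolvable q G) : (∃ χ : Cfsg.IrrCharacter G, (Cfsg.charDegree (χ : G → ℂ)).factorization p = (Nat.card G).factorization p) ∨ (∃ χ : Cfsg.IrrCharacter G, (Cfsg.charDegree (χ : G → ℂ)).factorization q = (Nat.card G).factorization q) := by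
  rcases hsolv with h | h
  · exact aux p q hppq hpG hqG hC h
  · exact (aux q p (Ne.symm hppq) hqG hpG (swap_hyp p q hC) h).symm

end Cfsg.Agent.S4743
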