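import Cfsg.Statements.S4744
import Cfsg.Agent.Lib.Helper25.DefectZeroInvol

set_option autoImplicit false
open Cfsg

namespace Cfsg.Agent.S4744

open Cfsg.Agent.Lib.Helper25

/-- An involution inverting a subgroup lies in its normalizer. -/
theorem mem_normalizer_of_inverting {G : Type*} [Group G] (H : Subgroup G) (g : G)
    (hg2 : g * g = 1) (h : ∀ x ∈ H, g * x * g⁻¹ = x⁻¹) :
    g ∈ Subgroup.normalizer (H : Set G) := by
  have hginv : g⁻¹ = g := inv_eq_of_mul_eq_one_right hg2
  rw [Subgroup.mem_normalizer_iff]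
  intro x
  constructor
  · intro hx; rw [h x hx]; exact inv_mem hx
  · intro hx
    have h1 := h _ hx
    have h2 : g * (g * x * g⁻¹) * g⁻¹ = x := by
      calc g * (g * x * g⁻¹) * g⁻¹ = (g * g) * x * (g * g)⁻¹ := by group
        _ = x := by rw [hg2]; simp
    have h3 : x = (g * x * g⁻¹)⁻¹ := h2.symm.trans h1
    rw [h3]
    exact inv_mem hx

/-- A conjugate of an involution is an involution. -/
theorem conj_invol {G : Type*} [Group G] (t g : G) (ht2 : t * t = 1) (ht1 : t ≠ 1)
    (hg : IsConj t g) : g * g = 1 ∧ g ≠ 1 := by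
  constructor
  · obtain ⟨c, hc⟩ := isConj_iff.1 hg
    rw [← hc]
    calc c * t * c⁻¹ * (c * t * c⁻¹) = c * (t * t) * c⁻¹ := by group
      _ = 1 := by rw [ht2]; group
  · intro h1
    rw [h1] at hg
    exact ht1 (isConj_one_left.1 hg)

/-- Let p be an odd prime and G a finite group of even order divisible by p in which the centralizer of every non-identity p-element has odd order. Then either G has an irreducible character of p-defect zero, or the normalizer of every Sylow p-subgroup P of G has even order and P is abelian. -/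
theorem result {G : Type*} [Group G] [Finite G] (p : ℕ) [Fact p.Prime] (hp2 : p ≠ 2) (hpG : p ∣ Nat.card G) (h2G : 2 ∣ Nat.card G) (hC : ∀ g : G, g ≠ 1 → (∃ k : ℕ, orderOf g = p ^ k) → Odd (Nat.card ↥(Subgroup.centralizer ({g} : Set G)))) : (∃ χ : Cfsg.IrrCharacter G, (Cfsg.charDegree (χ : G → ℂ)).factorization p = (Nat.card G).factorization p) ∨ ∀ P : Sylow p G, Even (Nat.card ↥(Subgroup.normalizer ((P : Subgroup G) : Set G))) ∧ IsMulCommutative ↥(P : Subgroup G) := by
  classical
  have : Fact (Nat.Prime 2) := ⟨Nat.prime_two⟩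
  obtain ⟨t, ht⟩ := exists_prime_orderOf_dvd_card' 2 h2G
  have ht2 : t * t = 1 := by rw [← pow_two, ← ht]; exact pow_orderOf_eq_one t
  have ht1 : t ≠ 1 := by
    intro h; rw [h, orderOf_one] at ht; omega
  rcases defect_zero_or_exists_inverting p hC t ht2 ht1 with h | ⟨g, hg, P₀, hP₀⟩
  · left; exact h
  · right
    intro P
    obtain ⟨hg2, hg1⟩ := conj_invol t g ht2 ht1 hg
    obtain ⟨c, hc⟩ := exists_conj_inverting p g P₀ hP₀ P
    have hg' : IsConj t (c * g * c⁻¹) := hg.trans (isConj_iff.2 ⟨c, rfl⟩)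
    obtain ⟨hg'2, hg'1⟩ := conj_invol t _ ht2 ht1 hg'
    constructor
    · have hmem := mem_normalizer_of_inverting (P : Subgroup G) _ hg'2 hc
      have h2 : orderOf (c * g * c⁻¹) = 2 := by
        apply orderOf_eq_prime
        · rw [pow_two]; exact hg'2
        · exact hg'1
      have h3 : orderOf (⟨c * g * c⁻¹, hmem⟩ :
          Subgroup.normalizer ((P : Subgroup G) : Set G)) = 2 := by
        rw [← h2, ← Subgroup.orderOf_coe]
      rw [even_iff_two_dvd, ← h3]
      exact orderOf_dvd_natCard _
    · exact isMulCommutative_of_inverted _ _ hc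

end Cfsg.Agent.S4744
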