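import Cfsg.Statements.S4746
import Cfsg.Agent.Lib.Helper25.DefectZeroInvol
import Cfsg.Agent.Lib.Helper25.EvenDegree

set_option autoImplicit false
open Cfsg

namespace Cfsg.Agent.S4746

open Cfsg.Agent.Lib.Helper25

/-- Let p be an odd prime and G a finite group of even order divisible by p in which the centralizer of every non-identity p-element has odd order. Then G has an irreducible character of p-defect zero or an irreducible character of even degree. -/
theorem result {G : Type*} [Group G] [Finite G] (p : ℕ) [Fact p.Prime] (hp2 : p ≠ 2) (hpG : p ∣ Nat.card G) (h2G : 2 ∣ Nat.card G) (hC : ∀ g : G, g ≠ 1 → (∃ k : ℕ, orderOf g = p ^ k) → Odd (Nat.card ↥(Subgroup.centralizer ({g} : Set G)))) : (∃ χ : Cfsg.IrrCharacter G, (Cfsg.charDegree (χ : G → ℂ)).factorization p = (Nat.card G).factorization p) ∨ ∃ χ : Cfsg.IrrCharacter G, Even (Cfsg.charDegree (χ : G → ℂ)) := by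
  classical
  have : Fact (Nat.Prime 2) := ⟨Nat.prime_two⟩
  obtain ⟨t, ht⟩ := exists_prime_orderOf_dvd_card' 2 h2G
  have ht2 : t * t = 1 := by rw [← pow_two, ← ht]; exact pow_orderOf_eq_one t
  have ht1 : t ≠ 1 := by
    intro h; rw [h, orderOf_one] at ht; omega
  rcases defect_zero_or_exists_inverting p hC t ht2 ht1 with h | ⟨g, _, P, hP⟩
  · left; exact h
  · right
    -- a non-identity element of `P`
    have hPne : (P : Subgroup G) ≠ ⊥ := P.ne_bot_of_dvd_card hpG
    obtain ⟨⟨w, hwP⟩, hw1'⟩ := Subgroup.ne_bot_iff_exists_ne_one.1 hPne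
    have hw1 : w ≠ 1 := fun h1 => hw1' (Subtype.ext h1)
    have hwp : ∃ k : ℕ, orderOf w = p ^ k := by
      obtain ⟨k, hk⟩ := (IsPGroup.iff_orderOf.1 P.isPGroup') ⟨w, hwP⟩
      exact ⟨k, by rw [← hk, ← Subgroup.orderOf_coe]⟩
    apply exists_even_degree h2G w _ (hC w hw1 hwp)
    rw [isConj_iff]
    exact ⟨g, hP w hwP⟩

end Cfsg.Agent.S4746
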