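import Mathlib
import Cfsg.Statements.S4750
import Cfsg.Agent.Lib.Helper20.TILattice
import Cfsg.Agent.Lib.Helper25.CharBasic

set_option autoImplicit false
open scoped Pointwise
open Cfsg

namespace Cfsg.Agent.S4750

open Representation

/-- inner product of a character with itself as the dimension of the commutant -/
theorem classInner_self_eq_finrank {G : Type*} [Group G] [Fintype G] {n : ℕ}
    (ρ : Representation ℂ G (Fin n → ℂ)) :
    Cfsg.classInner ρ.character ρ.character =
      (Module.finrank ℂ (invariants (linHom ρ ρ)) : ℂ) := by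
  haveI : Invertible (Nat.card G : ℂ) :=
    invertibleOfNonzero (by exact_mod_cast (Nat.card_pos (α := G)).ne')
  rw [← card_inv_mul_sum_char_eq_finrank (linHom ρ ρ)]
  unfold Cfsg.classInner
  congr 1
  apply Finset.sum_congr rfl
  intro g _
  rw [char_linHom, ← Cfsg.Agent.Lib.Helper25.char_inv ⟨n, ρ, rfl⟩ g, mul_comm]

theorem commutant_eq {G : Type*} [Group G] [Fintype G] (p : ℕ) [Fact p.Prime] (P : Sylow p G)
    (hTI : ∀ g : G, g ∉ Subgroup.normalizer ((P : Subgroup G) : Set G) →
      (P : Subgroup G) ⊓ (MulAut.conj g • (P : Subgroup G)) = ⊥)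
    (H : Subgroup G) (hH : Subgroup.normalizer ((P : Subgroup G) : Set G) ≤ H)
    {n : ℕ} (ρ : Representation ℂ G (Fin n → ℂ)) (hdeg : n ^ 2 ≤ Nat.card ↥(P : Subgroup G))
    (f : (Fin n → ℂ) →ₗ[ℂ] (Fin n → ℂ)) (hf : ∀ h ∈ H, linHom ρ ρ h f = f) (g : G) :
    linHom ρ ρ g f = f := by
  classical
  have hG0 : (Fintype.card G : ℂ) ≠ 0 := by exact_mod_cast Fintype.card_ne_zero
  have hinvE : ∀ g : G, linHom ρ ρ g ((Fintype.card G : ℂ)⁻¹ • ∑ g' : G, linHom ρ ρ g' f) =
      (Fintype.card G : ℂ)⁻¹ • ∑ g' : G, linHom ρ ρ g' f := by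
    intro g
    rw [map_smul, map_sum]
    congr 1
    rw [← Equiv.sum_comp (Equiv.mulLeft g) (fun g' => linHom ρ ρ g' f)]
    apply Finset.sum_congr rfl
    intro g' _
    rw [Equiv.coe_mulLeft, map_mul]
    rfl
  have hw0H : ∀ h ∈ H, linHom ρ ρ h (f - (Fintype.card G : ℂ)⁻¹ • ∑ g' : G, linHom ρ ρ g' f) =
      f - (Fintype.card G : ℂ)⁻¹ • ∑ g' : G, linHom ρ ρ g' f := by
    intro h hh
    rw [map_sub, hf h hh, hinvE]
  have hsum0 : ∑ g : G, linHom ρ ρ g
      (f - (Fintype.card G : ℂ)⁻¹ • ∑ g' : G, linHom ρ ρ g' f) = 0 := by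
    have e : ∀ g : G, linHom ρ ρ g (f - (Fintype.card G : ℂ)⁻¹ • ∑ g' : G, linHom ρ ρ g' f) =
        linHom ρ ρ g f - (Fintype.card G : ℂ)⁻¹ • ∑ g' : G, linHom ρ ρ g' f := by
      intro g
      rw [map_sub, hinvE]
    rw [Finset.sum_congr rfl (fun g _ => e g), Finset.sum_sub_distrib, Finset.sum_const,
      Finset.card_univ, ← Nat.cast_smul_eq_nsmul ℂ, smul_smul, mul_inv_cancel₀ hG0, one_smul,
      sub_self]
  have hdim : Module.finrank ℂ (Submodule.span ℂ (Set.range fun g : G => linHom ρ ρ g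
      (f - (Fintype.card G : ℂ)⁻¹ • ∑ g' : G, linHom ρ ρ g' f))) <
      Nat.card ↥(P : Subgroup G) := by
    have hle : Submodule.span ℂ (Set.range fun g : G => linHom ρ ρ g
        (f - (Fintype.card G : ℂ)⁻¹ • ∑ g' : G, linHom ρ ρ g' f)) ≤
        LinearMap.ker (∑ g : G, linHom ρ ρ g) := by
      rw [Submodule.span_le]
      rintro _ ⟨g, rfl⟩
      rw [SetLike.mem_coe, LinearMap.mem_ker, LinearMap.sum_apply]
      rw [← hsum0, ← Equiv.sum_comp (Equiv.mulRight g) (fun g' => linHom ρ ρ g'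
        (f - (Fintype.card G : ℂ)⁻¹ • ∑ g' : G, linHom ρ ρ g' f))]
      apply Finset.sum_congr rfl
      intro g' _
      rw [Equiv.coe_mulRight, map_mul]
      rfl
    have h1 := Submodule.finrank_mono hle
    have hW : Module.finrank ℂ ((Fin n → ℂ) →ₗ[ℂ] (Fin n → ℂ)) = n * n := by
      rw [Module.finrank_linearMap, Module.finrank_fin_fun]
    rcases Nat.eq_zero_or_pos n with hn | hn
    · have h2 := Submodule.finrank_le (LinearMap.ker (∑ g : G, linHom ρ ρ g))
      rw [hW] at h2
      have h4 : n * n = 0 := by rw [hn]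
      have h3 : 0 < Nat.card ↥(P : Subgroup G) := Nat.card_pos
      omega
    · have hne : LinearMap.ker (∑ g : G, linHom ρ ρ g) ≠ ⊤ := by
        intro htop
        have hid : (LinearMap.id : (Fin n → ℂ) →ₗ[ℂ] (Fin n → ℂ)) ∈
            LinearMap.ker (∑ g : G, linHom ρ ρ g) := by rw [htop]; trivial
        rw [LinearMap.mem_ker, LinearMap.sum_apply] at hid
        have e : ∀ g : G, linHom ρ ρ g (LinearMap.id : (Fin n → ℂ) →ₗ[ℂ] (Fin n → ℂ)) =
            LinearMap.id := by
          intro g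
          rw [linHom_apply, LinearMap.id_comp]
          have : ρ g ∘ₗ ρ g⁻¹ = ρ (g * g⁻¹) := by rw [map_mul]; rfl
          rw [this, mul_inv_cancel, map_one]
          rfl
        rw [Finset.sum_congr rfl (fun g _ => e g), Finset.sum_const, Finset.card_univ,
          ← Nat.cast_smul_eq_nsmul ℂ, smul_eq_zero] at hid
        rcases hid with h0 | h0
        · exact hG0 h0
        · have h2 := LinearMap.congr_fun h0 (fun _ => (1 : ℂ))
          have h3 := congrFun h2 ⟨0, hn⟩
          simp at h3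
      have h2 := Submodule.finrank_lt hne
      rw [hW] at h2
      have h3 : n * n = n ^ 2 := by ring
      omega
  have hzero := Cfsg.Agent.Lib.Helper20.TILattice.fixed_eq_zero p P hTI H hH (linHom ρ ρ) _
    hw0H hsum0 hdim
  have hfe : f = (Fintype.card G : ℂ)⁻¹ • ∑ g' : G, linHom ρ ρ g' f := sub_eq_zero.mp hzero
  rw [hfe]
  exact hinvE g

/-- Let P be a Sylow p-subgroup of the finite group G that meets each conjugate g P g⁻¹ with g outside N_G(P) trivially, χ a character of G with χ(1)² ≤ |P|, and H a subgroup of G containing N_G(P). Then the inner product of χ with itself over G equals the inner product over H of the restriction of χ to H. -/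
theorem result {G : Type*} [Group G] [Fintype G] [DecidableEq G] (p : ℕ) [Fact p.Prime] (P : Sylow p G) (hTI : ∀ g : G, g ∉ Subgroup.normalizer ((P : Subgroup G) : Set G) → (P : Subgroup G) ⊓ (MulAut.conj g • (P : Subgroup G)) = ⊥) (χ : G → ℂ) (hχ : Cfsg.IsCharacter G χ) (hdeg : Cfsg.charDegree χ ^ 2 ≤ Nat.card ↥(P : Subgroup G)) (H : Subgroup G) [Fintype ↥H] (hH : Subgroup.normalizer ((P : Subgroup G) : Set G) ≤ H) : Cfsg.classInner χ χ = Cfsg.classInner (fun h : ↥H => χ h) (fun h : ↥H => χ h) := by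
  obtain ⟨n, ρ, rfl⟩ := hχ
  rw [Cfsg.Agent.Lib.Helper25.charDegree_rep] at hdeg
  obtain ⟨ρH, hρH⟩ : ∃ ρH : Representation ℂ ↥H (Fin n → ℂ), ∀ h : ↥H, ρH h = ρ (h : G) :=
    ⟨ρ.comp H.subtype, fun h => rfl⟩
  have hres : (fun h : ↥H => ρ.character (h : G)) = ρH.character := by
    funext h
    unfold Representation.character
    rw [hρH]
  rw [hres, classInner_self_eq_finrank ρ, classInner_self_eq_finrank ρH]
  have hlin : ∀ (h : ↥H) (f : (Fin n → ℂ) →ₗ[ℂ] (Fin n → ℂ)),
      linHom ρH ρH h f = linHom ρ ρ (h : G) f := by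
    intro h f
    rw [linHom_apply, linHom_apply, hρH, hρH]
    rfl
  have hinv : invariants (linHom ρ ρ) = invariants (linHom ρH ρH) := by
    ext f
    rw [mem_invariants, mem_invariants]
    constructor
    · intro hf h
      rw [hlin]
      exact hf (h : G)
    · intro hf g
      refine commutant_eq p P hTI H hH ρ hdeg f (fun h hh => ?_) g
      have := hf ⟨h, hh⟩
      rw [hlin] at this
      exact this
  rw [hinv]

end Cfsg.Agent.S4750
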