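import Cfsg.Statements.S4757
import Cfsg.Agent.Lib.Helper25.Codegree
import Cfsg.Agent.Lib.Helper1.Cores

set_option autoImplicit false
set_option linter.style.haveILetI false
open Cfsg

namespace Cfsg.Agent.S4757

open Cfsg.Agent.Lib.Helper25
open scoped ComplexConjugate

universe u

/-- If all terms `χ(1) χ(u)` are nonnegative reals and the principal one is `1`, we contradict
`∑ χ(1) χ(u) = 0`. -/
theorem contra_of_nonneg {G : Type u} [Group G] [Finite G] (u : G) (hu : u ≠ 1)
    (h : ∀ χ : IrrCharacter G, ∃ r : ℝ, (χ : G → ℂ) 1 * (χ : G → ℂ) u = (r : ℂ) ∧ 0 ≤ r ∧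
      (χ = irrOne G → r = 1)) : False := by
  classical
  haveI := Fintype.ofFinite G
  haveI : Fintype (IrrCharacter G) := Fintype.ofFinite _
  choose f hf using h
  have h0 := sum_degree_mul_char u hu
  simp_rw [fun χ => (hf χ).1] at h0
  rw [← Complex.ofReal_sum] at h0
  have h0' : ∑ χ : IrrCharacter G, f χ = 0 := by exact_mod_cast h0
  have h1 : f (irrOne G) ≤ ∑ χ : IrrCharacter G, f χ :=
    Finset.single_le_sum (fun χ _ => (hf χ).2.1) (Finset.mem_univ _)
  rw [h0', (hf (irrOne G)).2.2 rfl] at h1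
  linarith

/-- If the principal term is `1`, the term of `L` is `-1` and all other terms are nonnegative
reals, then all other terms vanish. -/
theorem zero_of_nonneg {G : Type u} [Group G] [Finite G] (u : G) (hu : u ≠ 1)
    (L : IrrCharacter G) (hL : L ≠ irrOne G) (hLu : (L : G → ℂ) 1 * (L : G → ℂ) u = -1)
    (h : ∀ χ : IrrCharacter G, χ ≠ irrOne G → χ ≠ L →
      ∃ r : ℝ, (χ : G → ℂ) 1 * (χ : G → ℂ) u = (r : ℂ) ∧ 0 ≤ r) :
    ∀ χ : IrrCharacter G, χ ≠ irrOne G → χ ≠ L → (χ : G → ℂ) u = 0 := by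
  classical
  haveI := Fintype.ofFinite G
  haveI : Fintype (IrrCharacter G) := Fintype.ofFinite _
  have h' : ∀ χ : IrrCharacter G, ∃ r : ℝ, (χ : G → ℂ) 1 * (χ : G → ℂ) u = (r : ℂ) ∧
      (χ ≠ irrOne G → χ ≠ L → 0 ≤ r) ∧ (χ = irrOne G → r = 1) ∧ (χ = L → r = -1) := by
    intro χ
    by_cases h1 : χ = irrOne G
    · refine ⟨1, ?_, fun h => absurd h1 h, fun _ => rfl, fun h2 => absurd (h2 ▸ h1) hL⟩
      rw [h1]
      change (1 : ℂ) * 1 = ((1 : ℝ) : ℂ)
      simp
    · by_cases h2 : χ = L
      · refine ⟨-1, ?_, fun _ h => absurd h2 h, fun h => absurd h h1, fun _ => rfl⟩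
        rw [h2, hLu]; simp
      · obtain ⟨r, hr, hr0⟩ := h χ h1 h2
        exact ⟨r, hr, fun _ _ => hr0, fun h => absurd h h1, fun h => absurd h h2⟩
  choose f hf using h'
  have h0 := sum_degree_mul_char u hu
  simp_rw [fun χ => (hf χ).1] at h0
  rw [← Complex.ofReal_sum] at h0
  have h0' : ∑ χ : IrrCharacter G, f χ = 0 := by exact_mod_cast h0
  -- split off the two special terms
  have hsplit : ∑ χ : IrrCharacter G, f χ =
      f (irrOne G) + f L + ∑ χ ∈ (Finset.univ.erase (irrOne G)).erase L, f χ := by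
    rw [← Finset.add_sum_erase Finset.univ f (Finset.mem_univ (irrOne G)),
      ← Finset.add_sum_erase (Finset.univ.erase (irrOne G)) f
        (Finset.mem_erase.2 ⟨hL, Finset.mem_univ _⟩), add_assoc]
  rw [hsplit, (hf (irrOne G)).2.2.1 rfl, (hf L).2.2.2 rfl] at h0'
  have hrest : ∑ χ ∈ (Finset.univ.erase (irrOne G)).erase L, f χ = 0 := by linarith
  have hnonneg : ∀ χ ∈ (Finset.univ.erase (irrOne G)).erase L, 0 ≤ f χ := by
    intro χ hχ
    rw [Finset.mem_erase, Finset.mem_erase] at hχ
    exact (hf χ).2.1 hχ.2.1 hχ.1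
  have hzero := (Finset.sum_eq_zero_iff_of_nonneg hnonneg).1 hrest
  intro χ h1 h2
  have hmem : χ ∈ (Finset.univ.erase (irrOne G)).erase L := by
    rw [Finset.mem_erase, Finset.mem_erase]
    exact ⟨h2, h1, Finset.mem_univ _⟩
  have h3 := (hf χ).1
  rw [hzero χ hmem, Complex.ofReal_zero] at h3
  rcases mul_eq_zero.1 h3 with h4 | h4
  · exact absurd h4 (irr_one_ne_zero χ.2)
  · exact h4

/-- The irreducible character attached to a homomorphism to `ℂˣ`. -/
noncomputable def chiOf {G : Type u} [Group G] (lam : G →* ℂˣ) : IrrCharacter G :=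
  ⟨fun g => ((lam g : ℂˣ) : ℂ), isIrrCharacter_of_hom lam⟩

theorem chiOf_apply {G : Type u} [Group G] (lam : G →* ℂˣ) (g : G) :
    (chiOf lam : G → ℂ) g = ((lam g : ℂˣ) : ℂ) := rfl

theorem chiOf_eq_irrOne_iff {G : Type u} [Group G] (lam : G →* ℂˣ) :
    chiOf lam = irrOne G ↔ lam = 1 := by
  constructor
  · intro h
    apply MonoidHom.ext
    intro g
    apply Units.ext
    have := congrFun (congrArg Subtype.val h) g
    exact this
  · intro h
    apply Subtype.ext
    funext g
    rw [h]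
    rfl

theorem chiOf_injective {G : Type u} [Group G] {lam mu : G →* ℂˣ} (h : chiOf lam = chiOf mu) :
    lam = mu := by
  apply MonoidHom.ext
  intro g
  apply Units.ext
  exact congrFun (congrArg Subtype.val h) g

theorem linear_is_chiOf {G : Type u} [Group G] (χ : IrrCharacter G)
    (h1 : (χ : G → ℂ) 1 = 1) : ∃ lam : G →* ℂˣ, χ = chiOf lam := by
  obtain ⟨lam, hlam⟩ := exists_hom_of_linear (isCharacter_of_irr χ.2) h1
  refine ⟨lam, ?_⟩
  apply Subtype.ext
  funext g
  exact hlam g

theorem degree_ge_two {G : Type u} [Group G] (χ : IrrCharacter G)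
    (h1 : (χ : G → ℂ) 1 ≠ 1) : 2 ≤ charDegree (χ : G → ℂ) := by
  have hpos := irr_degree_pos χ.2
  have hne : charDegree (χ : G → ℂ) ≠ 1 := by
    intro h
    apply h1
    rw [char_one_eq_charDegree (isCharacter_of_irr χ.2), h]
    simp
  omega

/-- `c = 2` forces a proper commutator subgroup. -/
theorem not_perfect_of_two {G : Type u} [Group G] [Finite G] (u : G) (hu : u ≠ 1)
    (hyp : ∀ χ : Cfsg.IrrCharacter G, (χ : G → ℂ) ≠ (fun _ => (1 : ℂ)) →
      ((χ : G → ℂ) 1 - (χ : G → ℂ) u = 2 ∨ (χ : G → ℂ) u = 0)) : commutator G ≠ ⊤ := by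
  intro hperf
  apply contra_of_nonneg u hu
  intro χ
  by_cases h1 : χ = irrOne G
  · refine ⟨1, ?_, zero_le_one, fun _ => rfl⟩
    rw [h1]
    change (1 : ℂ) * 1 = ((1 : ℝ) : ℂ)
    simp
  · have hnp : (χ : G → ℂ) ≠ fun _ => 1 := fun h => h1 (Subtype.ext h)
    have hlin : (χ : G → ℂ) 1 ≠ 1 := by
      intro h
      have hcard := card_linear_char (G := G)
      rw [hperf, Subgroup.index_top] at hcard
      haveI : Subsingleton {χ : IrrCharacter G // (χ : G → ℂ) 1 = 1} :=
        (Nat.card_eq_one_iff_unique.1 hcard).1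
      have : (⟨χ, h⟩ : {χ : IrrCharacter G // (χ : G → ℂ) 1 = 1}) = ⟨irrOne G, rfl⟩ :=
        Subsingleton.elim _ _
      exact h1 (congrArg Subtype.val this)
    have hd := degree_ge_two χ hlin
    have hχ1 := char_one_eq_charDegree (isCharacter_of_irr χ.2)
    rcases hyp χ hnp with h2 | h2
    · refine ⟨(charDegree (χ : G → ℂ) : ℝ) * ((charDegree (χ : G → ℂ) : ℝ) - 2), ?_, ?_,
        fun h => absurd h h1⟩
      · have : (χ : G → ℂ) u = (χ : G → ℂ) 1 - 2 := by linear_combination -h2
        rw [this, hχ1]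
        push_cast
        ring
      · have : (2 : ℝ) ≤ (charDegree (χ : G → ℂ) : ℝ) := by exact_mod_cast hd
        nlinarith
    · refine ⟨0, ?_, le_refl _, fun h => absurd h h1⟩
      rw [h2, mul_zero, Complex.ofReal_zero]

/-- The structure of the character values at `u` when `G` is not perfect. -/
theorem structure_of_not_perfect {G : Type u} [Group G] [Finite G] (u : G) (hu : u ≠ 1) (c : ℂ)
    (hyp : ∀ χ : Cfsg.IrrCharacter G, (χ : G → ℂ) ≠ (fun _ => (1 : ℂ)) →
      ((χ : G → ℂ) 1 - (χ : G → ℂ) u = c ∨ (χ : G → ℂ) u = 0))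
    (hnp : commutator G ≠ ⊤) :
    c = 2 ∧ ∃ L : IrrCharacter G, L ≠ irrOne G ∧ (L : G → ℂ) 1 = 1 ∧ (L : G → ℂ) u = -1 ∧
      ∀ χ : IrrCharacter G, χ ≠ irrOne G → χ ≠ L → (χ : G → ℂ) u = 0 := by
  classical
  -- the group of linear characters is nontrivial
  have hcardX : Nat.card (G →* ℂˣ) = (commutator G).index := by
    rw [← card_linear_char]
    exact Nat.card_congr (linearCharEquiv G).symm
  have hidx : (commutator G).index ≠ 1 := fun h => hnp (Subgroup.index_eq_one.1 h)
  have hidx0 : (commutator G).index ≠ 0 := Subgroup.index_ne_zero_of_finite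
  haveI : Finite (G →* ℂˣ) := Nat.finite_of_card_ne_zero (by rw [hcardX]; exact hidx0)
  haveI : Nontrivial (G →* ℂˣ) := by
    rw [← Finite.one_lt_card_iff_nontrivial, hcardX]
    omega
  -- values of nonprincipal linear characters at `u`
  have hX : ∀ lam : G →* ℂˣ, lam ≠ 1 → ((lam u : ℂˣ) : ℂ) = 1 - c := by
    intro lam hlam
    have hnp' : (chiOf lam : G → ℂ) ≠ fun _ => 1 := by
      intro h
      exact hlam ((chiOf_eq_irrOne_iff lam).1 (Subtype.ext h))
    rcases hyp (chiOf lam) hnp' with h | h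
    · rw [chiOf_apply, chiOf_apply, map_one, Units.val_one] at h
      linear_combination -h
    · rw [chiOf_apply] at h
      exact absurd h (Units.ne_zero _)
  -- some linear character is nontrivial at `u`
  have hex : ∃ lam : G →* ℂˣ, ((lam u : ℂˣ) : ℂ) ≠ 1 := by
    by_contra hall
    push Not at hall
    obtain ⟨lam, hlam⟩ := exists_ne (1 : G →* ℂˣ)
    have hc0 : c = 0 := by
      have := hX lam hlam
      rw [hall lam] at this
      linear_combination this
    apply contra_of_nonneg u hu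
    intro χ
    by_cases h1 : χ = irrOne G
    · refine ⟨1, ?_, zero_le_one, fun _ => rfl⟩
      rw [h1]
      change (1 : ℂ) * 1 = ((1 : ℝ) : ℂ)
      simp
    · have hnp' : (χ : G → ℂ) ≠ fun _ => 1 := fun h => h1 (Subtype.ext h)
      have hχ1 := char_one_eq_charDegree (isCharacter_of_irr χ.2)
      rcases hyp χ hnp' with h2 | h2
      · refine ⟨(charDegree (χ : G → ℂ) : ℝ) * (charDegree (χ : G → ℂ) : ℝ), ?_, ?_,
          fun h => absurd h h1⟩
        · have : (χ : G → ℂ) u = (χ : G → ℂ) 1 := by rw [hc0] at h2; linear_combination -h2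
          rw [this, hχ1]
          push_cast
          ring
        · positivity
      · refine ⟨0, ?_, le_refl _, fun h => absurd h h1⟩
        rw [h2, mul_zero, Complex.ofReal_zero]
  obtain ⟨lam₀, hlam₀⟩ := hex
  have hlam₀1 : lam₀ ≠ 1 := by
    intro h
    apply hlam₀
    rw [h]; rfl
  have hval₀ := hX lam₀ hlam₀1
  -- lam₀ has order two
  have hsq : lam₀ * lam₀ = 1 := by
    by_contra hne
    have h1 := hX (lam₀ * lam₀) hne
    rw [MonoidHom.mul_apply, Units.val_mul, ← hval₀] at h1
    have hu0 : ((lam₀ u : ℂˣ) : ℂ) ≠ 0 := Units.ne_zero _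
    apply hlam₀
    exact mul_left_cancel₀ hu0 (h1.trans (mul_one _).symm)
  have hvalm1 : ((lam₀ u : ℂˣ) : ℂ) = -1 := by
    have h1 : ((lam₀ u : ℂˣ) : ℂ) * ((lam₀ u : ℂˣ) : ℂ) = 1 := by
      have := congrArg (fun f : G →* ℂˣ => ((f u : ℂˣ) : ℂ)) hsq
      simpa using this
    rcases mul_self_eq_one_iff.1 h1 with h2 | h2
    · exact absurd h2 hlam₀
    · exact h2
  have hc2 : c = 2 := by
    rw [hvalm1] at hval₀
    linear_combination hval₀
  refine ⟨hc2, chiOf lam₀, ?_, ?_, ?_, ?_⟩
  · intro h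
    exact hlam₀1 ((chiOf_eq_irrOne_iff lam₀).1 h)
  · rw [chiOf_apply, map_one, Units.val_one]
  · rw [chiOf_apply, hvalm1]
  · -- uniqueness of the nonprincipal linear character
    have huniq : ∀ lam : G →* ℂˣ, lam ≠ 1 → lam = lam₀ := by
      intro lam hlam
      by_contra hne
      have hne' : lam * lam₀⁻¹ ≠ 1 := fun h => hne (mul_inv_eq_one.1 h)
      have h1 := hX (lam * lam₀⁻¹) hne'
      have h2 := hX lam hlam
      rw [MonoidHom.mul_apply, MonoidHom.inv_apply, Units.val_mul, Units.val_inv_eq_inv_val, h2,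
        hval₀, hc2] at h1
      norm_num at h1
    apply zero_of_nonneg u hu (chiOf lam₀)
    · intro h
      exact hlam₀1 ((chiOf_eq_irrOne_iff lam₀).1 h)
    · rw [chiOf_apply, chiOf_apply, map_one, Units.val_one, hvalm1, one_mul]
    · intro χ h1 h2
      have hnp' : (χ : G → ℂ) ≠ fun _ => 1 := fun h => h1 (Subtype.ext h)
      have hlin : (χ : G → ℂ) 1 ≠ 1 := by
        intro h
        obtain ⟨lam, rfl⟩ := linear_is_chiOf χ h
        by_cases hl : lam = 1
        · exact h1 ((chiOf_eq_irrOne_iff lam).2 hl)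
        · exact h2 (by rw [huniq lam hl])
      have hd := degree_ge_two χ hlin
      have hχ1 := char_one_eq_charDegree (isCharacter_of_irr χ.2)
      rcases hyp χ hnp' with h3 | h3
      · refine ⟨(charDegree (χ : G → ℂ) : ℝ) * ((charDegree (χ : G → ℂ) : ℝ) - 2), ?_, ?_⟩
        · have : (χ : G → ℂ) u = (χ : G → ℂ) 1 - 2 := by rw [hc2] at h3; linear_combination -h3
          rw [this, hχ1]
          push_cast
          ring
        · have : (2 : ℝ) ≤ (charDegree (χ : G → ℂ) : ℝ) := by exact_mod_cast hd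
          nlinarith
      · refine ⟨0, ?_, le_refl _⟩
        rw [h3, mul_zero, Complex.ofReal_zero]

/-- (a) implies that `G` is not perfect. -/
theorem not_perfect_of_a {G : Type u} [Group G] [Finite G] (u : G) (hord : orderOf u = 2)
    (hsup : Subgroup.zpowers u ⊔ Cfsg.oddCore G = ⊤) : commutator G ≠ ⊤ := by
  intro hperf
  haveI hOn : (Cfsg.oddCore G).Normal := Cfsg.Agent.Lib.Helper1.pPrimeCore_normal 2
  set O := Cfsg.oddCore G with hO
  have hgen : Subgroup.zpowers ((u : G) : G ⧸ O) = ⊤ := by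
    have h1 : Subgroup.map (QuotientGroup.mk' O) (Subgroup.zpowers u ⊔ O) = ⊤ := by
      rw [hsup, ← MonoidHom.range_eq_map,
        MonoidHom.range_eq_top_of_surjective _ (QuotientGroup.mk'_surjective O)]
    rw [Subgroup.map_sup, QuotientGroup.map_mk'_self, sup_bot_eq, MonoidHom.map_zpowers] at h1
    exact h1
  have hcommQ : ∀ a b : G ⧸ O, a * b = b * a := by
    intro a b
    have ha : a ∈ Subgroup.zpowers ((u : G) : G ⧸ O) := by rw [hgen]; exact Subgroup.mem_top a
    have hb : b ∈ Subgroup.zpowers ((u : G) : G ⧸ O) := by rw [hgen]; exact Subgroup.mem_top b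
    obtain ⟨i, rfl⟩ := Subgroup.mem_zpowers_iff.1 ha
    obtain ⟨j, rfl⟩ := Subgroup.mem_zpowers_iff.1 hb
    rw [← zpow_add, ← zpow_add, add_comm]
  have hle : commutator G ≤ O := by
    rw [commutator_def, Subgroup.commutator_le]
    intro a _ b _
    rw [← QuotientGroup.eq_one_iff, commutatorElement_def]
    have : (((a * b * a⁻¹ * b⁻¹ : G) : G) : G ⧸ O) =
        ((a : G) : G ⧸ O) * (b : G ⧸ O) * (a : G ⧸ O)⁻¹ * (b : G ⧸ O)⁻¹ := rfl
    rw [this, hcommQ (a : G ⧸ O) (b : G ⧸ O)]
    group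
  rw [hperf, top_le_iff] at hle
  have hcop := Cfsg.Agent.Lib.Helper1.pPrimeCore_coprime (G := G) 2
  change (Nat.card O).Coprime 2 at hcop
  rw [hle, Subgroup.card_top] at hcop
  have hdvd : 2 ∣ Nat.card G := hord ▸ orderOf_dvd_natCard u
  have := Nat.Coprime.eq_one_of_dvd hcop.symm hdvd
  omega

/-- Not perfect implies (a). -/
theorem a_of_not_perfect {G : Type u} [Group G] [Finite G] (u : G) (hu : u ≠ 1) (c : ℂ)
    (hyp : ∀ χ : Cfsg.IrrCharacter G, (χ : G → ℂ) ≠ (fun _ => (1 : ℂ)) →
      ((χ : G → ℂ) 1 - (χ : G → ℂ) u = c ∨ (χ : G → ℂ) u = 0))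
    (hnp : commutator G ≠ ⊤) :
    orderOf u = 2 ∧ Subgroup.zpowers u ⊔ Cfsg.oddCore G = ⊤ ∧
      Subgroup.centralizer ({u} : Set G) = Subgroup.zpowers u := by
  classical
  haveI := Fintype.ofFinite G
  haveI : Fintype (IrrCharacter G) := Fintype.ofFinite _
  obtain ⟨-, L, hL1, hLdeg, hLu, hrest⟩ := structure_of_not_perfect u hu c hyp hnp
  -- the centralizer of `u` has order two
  have hC2 : Nat.card (Subgroup.centralizer ({u} : Set G)) = 2 := by
    have h1 := second_orthogonality_self u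
    rw [Finset.sum_eq_add (irrOne G) L (Ne.symm hL1)
      (fun χ _ hχ => by rw [hrest χ hχ.1 hχ.2, zero_mul])
      (fun h => absurd (Finset.mem_univ _) h) (fun h => absurd (Finset.mem_univ _) h)] at h1
    rw [hLu] at h1
    have h2 : ((irrOne G : IrrCharacter G) : G → ℂ) u = 1 := rfl
    rw [h2] at h1
    have : ((2 : ℕ) : ℂ) = (Nat.card (Subgroup.centralizer ({u} : Set G)) : ℂ) := by
      rw [← h1]
      simp
      norm_num
    exact_mod_cast this.symm
  have hle : Subgroup.zpowers u ≤ Subgroup.centralizer ({u} : Set G) := by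
    rw [Subgroup.zpowers_le, Subgroup.mem_centralizer_singleton_iff]
  have hord : orderOf u = 2 := by
    have h1 : orderOf u ∣ 2 := by
      rw [← Nat.card_zpowers, ← hC2]
      exact Subgroup.card_dvd_of_le hle
    rcases (Nat.dvd_prime Nat.prime_two).1 h1 with h2 | h2
    · exact absurd (orderOf_eq_one_iff.1 h2) hu
    · exact h2
  have hCeq : Subgroup.centralizer ({u} : Set G) = Subgroup.zpowers u := by
    symm
    apply Subgroup.eq_of_le_of_card_ge hle
    rw [hC2, Nat.card_zpowers, hord]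
  -- elements of the centralizer
  have hCelem : ∀ z : G, z ∈ Subgroup.centralizer ({u} : Set G) → z = 1 ∨ z = u := by
    intro z hz
    by_contra hne
    push Not at hne
    obtain ⟨y, -, hy⟩ := (Nat.card_eq_two_iff' (1 : Subgroup.centralizer ({u} : Set G))).1 hC2
    have h1 : (⟨z, hz⟩ : Subgroup.centralizer ({u} : Set G)) = y :=
      hy _ (fun h => hne.1 (congrArg Subtype.val h))
    have h2 : (⟨u, hle (Subgroup.mem_zpowers u)⟩ : Subgroup.centralizer ({u} : Set G)) = y :=
      hy _ (fun h => hu (congrArg Subtype.val h))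
    exact hne.2 (congrArg Subtype.val (h1.trans h2.symm))
  refine ⟨hord, ?_, hCeq⟩
  -- the Sylow 2-subgroup
  haveI : Fact (Nat.Prime 2) := ⟨Nat.prime_two⟩
  have hzp : IsPGroup 2 (Subgroup.zpowers u) := by
    apply IsPGroup.of_card (n := 1)
    rw [Nat.card_zpowers, hord, pow_one]
  obtain ⟨P, hP⟩ := hzp.exists_le_sylow
  have huP : u ∈ (P : Subgroup G) := hP (Subgroup.mem_zpowers u)
  have hPle : (P : Subgroup G) ≤ Subgroup.centralizer ({u} : Set G) := by
    haveI : Nontrivial (P : Subgroup G) := by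
      refine ⟨⟨⟨u, huP⟩, 1, ?_⟩⟩
      intro h
      exact hu (congrArg Subtype.val h)
    have hcenter : Nontrivial (Subgroup.center (P : Subgroup G)) := P.isPGroup'.center_nontrivial
    obtain ⟨z, hz1⟩ := exists_ne (1 : Subgroup.center (P : Subgroup G))
    have hzG1 : ((z : (P : Subgroup G)) : G) ≠ 1 := by
      intro h
      apply hz1
      apply Subtype.ext
      apply Subtype.ext
      exact h
    have hzu : ((z : (P : Subgroup G)) : G) ∈ Subgroup.centralizer ({u} : Set G) := by
      rw [Subgroup.mem_centralizer_singleton_iff]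
      have := Subgroup.mem_center_iff.1 z.2 ⟨u, huP⟩
      exact (congrArg Subtype.val this).symm
    have hzeq : ((z : (P : Subgroup G)) : G) = u := by
      rcases hCelem _ hzu with h | h
      · exact absurd h hzG1
      · exact h
    intro x hx
    rw [Subgroup.mem_centralizer_singleton_iff]
    have := Subgroup.mem_center_iff.1 z.2 ⟨x, hx⟩
    have h2 := congrArg Subtype.val this
    simp only [Subgroup.coe_mul] at h2
    rw [hzeq] at h2
    exact h2
  have hPelem : ∀ x ∈ (P : Subgroup G), x = 1 ∨ x = u := fun x hx => hCelem x (hPle hx)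
  have hnorm : Subgroup.normalizer ((P : Subgroup G) : Set G) ≤
      Subgroup.centralizer ((P : Subgroup G) : Set G) := by
    intro g hg
    rw [Subgroup.mem_centralizer_iff]
    have hgu : g * u * g⁻¹ = u := by
      have h1 : g * u * g⁻¹ ∈ (P : Subgroup G) := (Subgroup.mem_normalizer_iff.1 hg u).1 huP
      rcases hPelem _ h1 with h | h
      · exfalso
        apply hu
        have : u = g⁻¹ * (g * u * g⁻¹) * g := by group
        rw [this, h]; group
      · exact h
    intro x hx
    rcases hPelem x hx with rfl | rfl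
    · rw [one_mul, mul_one]
    · calc x * g = (g * x * g⁻¹) * g := by rw [hgu]
        _ = g * x := by group
  have hcompl := MonoidHom.ker_transferSylow_isComplement' P hnorm
  set K := (MonoidHom.transferSylow P hnorm).ker with hK
  have hKn : K.Normal := MonoidHom.normal_ker _
  have hKcard : (Nat.card K).Coprime 2 := by
    have h1 := hcompl.card_mul_card
    have h2 := Subgroup.card_mul_index (P : Subgroup G)
    have h3 : Nat.card K = (P : Subgroup G).index := by
      have hpos : 0 < Nat.card (P : Subgroup G) := Nat.card_pos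
      apply Nat.eq_of_mul_eq_mul_left hpos
      rw [h2, mul_comm, h1]
    rw [h3, Nat.coprime_comm, Nat.Prime.coprime_iff_not_dvd Nat.prime_two]
    exact P.not_dvd_index
  have hKle : K ≤ Cfsg.oddCore G := Cfsg.Agent.Lib.Helper1.le_pPrimeCore hKn hKcard
  have hPz : (P : Subgroup G) ≤ Subgroup.zpowers u := by
    rw [← hCeq]; exact hPle
  rw [eq_top_iff, ← hcompl.sup_eq_top, sup_comm]
  exact sup_le_sup hPz hKle

/-- Let u ≠ 1 be an element of the finite group G and c a complex number such that every non-principal irreducible character χ satisfies χ(1) − χ(u) = c or χ(u) = 0. Then the following are equivalent: (a) u has order 2, G is generated by u together with O(G), the largest normal subgroup of G of odd order, and the centralizer of u is {1, u}; (b) G is not perfect; (c) c = 2. -/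
theorem result {G : Type*} [Group G] [Finite G] (u : G) (hu : u ≠ 1) (c : ℂ) (hyp : ∀ χ : Cfsg.IrrCharacter G, (χ : G → ℂ) ≠ (fun _ => (1 : ℂ)) → ((χ : G → ℂ) 1 - (χ : G → ℂ) u = c ∨ (χ : G → ℂ) u = 0)) : ((orderOf u = 2 ∧ Subgroup.zpowers u ⊔ Cfsg.oddCore G = ⊤ ∧ Subgroup.centralizer ({u} : Set G) = Subgroup.zpowers u) ↔ commutator G ≠ ⊤) ∧ (commutator G ≠ ⊤ ↔ c = 2) := by
  refine ⟨⟨fun h => not_perfect_of_a u h.1 h.2.1, fun h => a_of_not_perfect u hu c hyp h⟩,
    ⟨fun h => (structure_of_not_perfect u hu c hyp h).1, fun h => ?_⟩⟩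
  subst h
  exact not_perfect_of_two u hu hyp

end Cfsg.Agent.S4757
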