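import Cfsg.Statements.S4763
import Cfsg.Agent.Lib.Helper25.PResidualChars
import Cfsg.Agent.Lib.Helper25.CosetNorm
import Cfsg.Agent.Lib.Helper25.Ortho2
import Cfsg.Agent.Lib.Helper11.FreeOrbit
import Cfsg.Agent.Lib.Helper2.Integrality
import Cfsg.Agent.Lib.Helper7.ClassCount
import Cfsg.Agent.Lib.Helper7.PPrimeNormal
import Cfsg.Agent.Lib.Helper2.DualCount
import Cfsg.Agent.Lib.Helper25.NormalComplementSum

set_option autoImplicit false
open Cfsg

namespace Cfsg.Agent.S4763

open Cfsg.Agent.Lib.Helper2 Cfsg.Agent.Lib.Helper25 Cfsg.Agent.Lib.Helper7 Cfsg.Agent.Lib.Helper11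
open scoped ComplexConjugate

section Generic

/-- two maps with the same kernel relation have ranges of the same size -/
theorem card_range_eq {α β γ : Type*} (f : α → β) (g : α → γ)
    (h : ∀ a a', f a = f a' ↔ g a = g a') :
    Nat.card (Set.range f) = Nat.card (Set.range g) := by
  have e1 := Nat.card_congr (Setoid.quotientKerEquivRange f)
  have e2 := Nat.card_congr (Setoid.quotientKerEquivRange g)
  have hk : Setoid.ker f = Setoid.ker g := by
    ext a a'
    exact h a a'
  rw [← e1, ← e2, hk]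

/-- counting classes in a conjugation-invariant set via centralizer orders -/
theorem sum_card_centralizer_eq {G : Type*} [Group G] [Fintype G] (q : G → Prop) [DecidablePred q]
    (hq : ∀ x y : G, IsConj x y → q x → q y) :
    ∑ x : {x : G // q x}, Nat.card (Subgroup.centralizer ({x.1} : Set G)) =
      Nat.card {c : ConjClasses G // ∃ g : G, ConjClasses.mk g = c ∧ q g} * Nat.card G := by
  classical
  have : Fintype {c : ConjClasses G // ∃ g : G, ConjClasses.mk g = c ∧ q g} := Fintype.ofFinite _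
  let f : {x : G // q x} → {c : ConjClasses G // ∃ g : G, ConjClasses.mk g = c ∧ q g} :=
    fun x => ⟨ConjClasses.mk x.1, x.1, rfl, x.2⟩
  rw [← Fintype.sum_fiberwise f]
  have h2 : ∀ c : {c : ConjClasses G // ∃ g : G, ConjClasses.mk g = c ∧ q g},
      ∑ x : {x : {x : G // q x} // f x = c},
        Nat.card (Subgroup.centralizer ({x.1.1} : Set G)) = Nat.card G := by
    rintro ⟨c, g, rfl, hg⟩
    have hconst : ∀ x : {x : {x : G // q x} // f x = ⟨ConjClasses.mk g, g, rfl, hg⟩},
        Nat.card (Subgroup.centralizer ({x.1.1} : Set G))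
          = Nat.card (Subgroup.centralizer ({g} : Set G)) := by
      intro x
      have h1 := congrArg Subtype.val x.2
      have h3 : IsConj g x.1.1 := (ConjClasses.mk_eq_mk_iff_isConj.mp h1).symm
      have e1 := card_isConj_mul_card_centralizer g
      have e2 := card_isConj_mul_card_centralizer x.1.1
      have e3 : Nat.card {y : G // IsConj g y} = Nat.card {y : G // IsConj x.1.1 y} := by
        apply Nat.card_congr
        refine Equiv.subtypeEquivRight ?_
        intro y
        exact ⟨fun h => h3.symm.trans h, fun h => h3.trans h⟩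
      rw [e3] at e1
      have hpos : 0 < Nat.card {y : G // IsConj x.1.1 y} := by
        haveI : Nonempty {y : G // IsConj x.1.1 y} := ⟨⟨x.1.1, IsConj.refl _⟩⟩
        exact Nat.card_pos
      exact Nat.eq_of_mul_eq_mul_left hpos (e2.trans e1.symm)
    rw [Finset.sum_congr rfl (fun x _ => hconst x), Finset.sum_const, Finset.card_univ,
      smul_eq_mul, ← card_isConj_mul_card_centralizer g]
    congr 1
    rw [← Nat.card_eq_fintype_card]
    apply Nat.card_congr
    refine
      { toFun := fun x => ⟨x.1.1, ?_⟩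
        invFun := fun y => ⟨⟨y.1, hq g y.1 y.2 hg⟩, ?_⟩
        left_inv := fun x => rfl
        right_inv := fun y => rfl }
    · have := congrArg Subtype.val x.2
      exact (ConjClasses.mk_eq_mk_iff_isConj.mp this).symm
    · apply Subtype.ext
      exact (ConjClasses.mk_eq_mk_iff_isConj.mpr y.2).symm
  rw [Finset.sum_congr rfl (fun c _ => h2 c), Finset.sum_const, Finset.card_univ, smul_eq_mul,
    Nat.card_eq_fintype_card, Nat.card_eq_fintype_card]

end Generic

section GroupTheory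

variable {G : Type*} [Group G] [Finite G] {p : ℕ} [hp : Fact p.Prime] (N : Subgroup G)
  [hNn : N.Normal] (P : Sylow p G)

theorem inf_eq_bot (hN : (Nat.card N).Coprime p) : (P : Subgroup G) ⊓ N = ⊥ := by
  apply Subgroup.inf_eq_bot_of_coprime
  obtain ⟨n, hn⟩ := P.2.exists_card_eq
  rw [hn]
  exact Nat.Coprime.pow_left n hN.symm

theorem card_sylow (hN : (Nat.card N).Coprime p) {k : ℕ} (hidx : N.index = p ^ k) :
    Nat.card P = p ^ k := by
  rw [Sylow.card_eq_multiplicity, ← Subgroup.card_mul_index N, hidx]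
  congr 1
  have h1 : Nat.card N ≠ 0 := Nat.card_pos.ne'
  have h2 : p ^ k ≠ 0 := pow_ne_zero _ hp.out.ne_zero
  rw [Nat.factorization_mul h1 h2, Finsupp.add_apply, hp.out.factorization_pow]
  have h3 : (Nat.card N).factorization p = 0 := by
    apply Nat.factorization_eq_zero_of_not_dvd
    intro h
    have := Nat.Coprime.eq_one_of_dvd hN.symm h
    exact hp.out.one_lt.ne' this
  rw [h3]
  simp

theorem card_eq (hN : (Nat.card N).Coprime p) {k : ℕ} (hidx : N.index = p ^ k) :
    Nat.card G = Nat.card N * p ^ k := by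
  rw [← Subgroup.card_mul_index N, hidx]

theorem exists_mem_sylow (hN : (Nat.card N).Coprime p) {k : ℕ} (hidx : N.index = p ^ k) (g : G) :
    ∃ x ∈ (P : Subgroup G), x⁻¹ * g ∈ N := by
  have hc : Subgroup.IsComplement' (P : Subgroup G) N := by
    apply Subgroup.isComplement'_of_coprime
    · rw [card_sylow N P hN hidx, card_eq N hN hidx, mul_comm]
    · rw [card_sylow N P hN hidx]
      exact Nat.Coprime.pow_left k hN.symm
  obtain ⟨⟨x, n⟩, hxn, -⟩ := (Subgroup.isComplement_iff_existsUnique.1 hc) g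
  refine ⟨x.1, x.2, ?_⟩
  have : x.1⁻¹ * g = n.1 := by
    rw [← hxn]
    group
  rw [this]
  exact n.2

theorem sylow_le_centralizer (hN : (Nat.card N).Coprime p)
    (hab : ∀ x y : G, x * y * x⁻¹ * y⁻¹ ∈ N) :
    (P : Subgroup G) ≤ Subgroup.centralizer (P : Set G) := by
  intro x hx
  rw [Subgroup.mem_centralizer_iff]
  intro h hh
  have h1 : h * x * h⁻¹ * x⁻¹ ∈ (P : Subgroup G) ⊓ N := by
    refine ⟨?_, hab h x⟩
    have hh' : h ∈ (P : Subgroup G) := hh
    have hx' : x ∈ (P : Subgroup G) := hx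
    exact (P : Subgroup G).mul_mem ((P : Subgroup G).mul_mem ((P : Subgroup G).mul_mem hh' hx')
      ((P : Subgroup G).inv_mem hh')) ((P : Subgroup G).inv_mem hx')
  rw [inf_eq_bot N P hN, Subgroup.mem_bot] at h1
  calc h * x = h * x * h⁻¹ * x⁻¹ * x * h := by group
    _ = x * h := by rw [h1, one_mul]

theorem normalizer_le_centralizer (hN : (Nat.card N).Coprime p)
    (hab : ∀ x y : G, x * y * x⁻¹ * y⁻¹ ∈ N) :
    Subgroup.normalizer ((P : Subgroup G) : Set G) ≤ Subgroup.centralizer (P : Set G) := by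
  intro n hn
  rw [Subgroup.mem_centralizer_iff]
  intro h hh
  have h0 : n * h * n⁻¹ ∈ (P : Subgroup G) := (Subgroup.mem_normalizer_iff.1 hn h).1 hh
  have h1 : n * h * n⁻¹ * h⁻¹ ∈ (P : Subgroup G) ⊓ N := by
    refine ⟨?_, hab n h⟩
    have hh' : h ∈ (P : Subgroup G) := hh
    exact (P : Subgroup G).mul_mem h0 ((P : Subgroup G).inv_mem hh')
  rw [inf_eq_bot N P hN, Subgroup.mem_bot] at h1
  calc h * n = (n * h * n⁻¹ * h⁻¹)⁻¹ * n * h := by group
    _ = n * h := by rw [h1, inv_one, one_mul]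

theorem fusion (hN : (Nat.card N).Coprime p) (hab : ∀ x y : G, x * y * x⁻¹ * y⁻¹ ∈ N)
    {a b : G} (ha : a ∈ Subgroup.centralizer (P : Set G))
    (hb : b ∈ Subgroup.centralizer (P : Set G)) (h : IsConj a b) :
    ∃ d ∈ Subgroup.centralizer (P : Set G), d * a * d⁻¹ = b := by
  rw [isConj_iff] at h
  obtain ⟨c, hc⟩ := h
  have hy : (c⁻¹)⁻¹ * a * c⁻¹ ∈ Subgroup.centralizer (P : Set G) := by
    rw [inv_inv, hc]; exact hb
  obtain ⟨n, hn, hn2⟩ := Sylow.conj_eq_normalizer_conj_of_mem_centralizer P a c⁻¹ ha hy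
  refine ⟨n⁻¹, normalizer_le_centralizer N P hN hab (inv_mem hn), ?_⟩
  rw [inv_inv, ← hn2, inv_inv, hc]

theorem exists_conj_mem_centralizer {k : ℕ} (hcard : Nat.card P = p ^ k) (g : G)
    (hg : p ^ k ∣ Nat.card (Subgroup.centralizer ({g} : Set G))) :
    ∃ h : G, h * g * h⁻¹ ∈ Subgroup.centralizer (P : Set G) := by
  obtain ⟨K, hK⟩ := Sylow.exists_subgroup_card_pow_prime p hg
  obtain ⟨K', hK'⟩ : ∃ K' : Subgroup G, K' = K.map (Subgroup.centralizer ({g} : Set G)).subtype :=
    ⟨_, rfl⟩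
  have hcK' : Nat.card K' = p ^ k := by
    rw [hK', Subgroup.card_map_of_injective (Subgroup.subtype_injective _), hK]
  have hle : K' ≤ Subgroup.centralizer ({g} : Set G) := by
    rw [hK']
    exact Subgroup.map_subtype_le K
  have hpg : IsPGroup p K' := IsPGroup.of_card hcK'
  obtain ⟨Q, hQ⟩ := hpg.exists_le_sylow
  have hcQ : Nat.card Q = p ^ k := by
    rw [Sylow.card_eq_multiplicity, ← hcard, Sylow.card_eq_multiplicity]
  have hKQ : K' = (Q : Subgroup G) :=
    Subgroup.eq_of_le_of_card_ge hQ (by rw [hcK', hcQ])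
  obtain ⟨h, hh⟩ := MulAction.exists_smul_eq G P Q
  refine ⟨h⁻¹, ?_⟩
  rw [Subgroup.mem_centralizer_iff]
  intro x hx
  have h1 : h * x * h⁻¹ ∈ (Q : Subgroup G) := by
    rw [← hh, Sylow.coe_subgroup_smul]
    have := Subgroup.smul_mem_pointwise_smul x (MulAut.conj h) (P : Subgroup G) hx
    rwa [MulAut.smul_def, MulAut.conj_apply] at this
  rw [← hKQ] at h1
  have h2 := hle h1
  rw [Subgroup.mem_centralizer_iff] at h2
  have h3 := h2 g rfl
  calc x * (h⁻¹ * g * h⁻¹⁻¹) = h⁻¹ * (h * x * h⁻¹ * g)⁻¹⁻¹ * h := by group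
    _ = h⁻¹ * (g * (h * x * h⁻¹)) * h := by rw [inv_inv, ← h3]
    _ = h⁻¹ * g * h⁻¹⁻¹ * x := by group

theorem card_carrier_mul (a : G) :
    Nat.card (ConjClasses.mk a).carrier * Nat.card (Subgroup.centralizer ({a} : Set G))
      = Nat.card G := by
  rw [← card_isConj_mul_card_centralizer a]
  congr 1

theorem not_dvd_class_of_mem_centralizer (hN : (Nat.card N).Coprime p) {k : ℕ}
    (hidx : N.index = p ^ k) {a : G} (ha : a ∈ Subgroup.centralizer (P : Set G)) :
    ¬ p ∣ Nat.card (ConjClasses.mk a).carrier := by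
  have h1 := card_carrier_mul a
  have hle : (P : Subgroup G) ≤ Subgroup.centralizer ({a} : Set G) := by
    intro x hx
    rw [Subgroup.mem_centralizer_iff]
    intro y hy
    rw [Set.mem_singleton_iff] at hy
    rw [hy]
    rw [Subgroup.mem_centralizer_iff] at ha
    exact (ha x hx).symm
  obtain ⟨m, hm⟩ := Subgroup.card_dvd_of_le hle
  rw [card_sylow N P hN hidx] at hm
  rw [hm, card_eq N hN hidx] at h1
  have h2 : Nat.card (ConjClasses.mk a).carrier * m = Nat.card N := by
    have hpk : 0 < p ^ k := pow_pos hp.out.pos k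
    apply Nat.eq_of_mul_eq_mul_right hpk
    rw [← h1]; ring
  intro hdvd
  have h3 : p ∣ Nat.card N := by
    rw [← h2]; exact Dvd.dvd.mul_right hdvd m
  have := Nat.Coprime.eq_one_of_dvd hN.symm h3
  exact hp.out.one_lt.ne' this

theorem pow_dvd_centralizer_of_not_dvd (hN : (Nat.card N).Coprime p) {k : ℕ}
    (hidx : N.index = p ^ k) {a : G} (ha : ¬ p ∣ Nat.card (ConjClasses.mk a).carrier) :
    p ^ k ∣ Nat.card (Subgroup.centralizer ({a} : Set G)) := by
  have h1 := card_carrier_mul a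
  rw [card_eq N hN hidx] at h1
  have h2 : p ^ k ∣ Nat.card (ConjClasses.mk a).carrier
      * Nat.card (Subgroup.centralizer ({a} : Set G)) := by
    rw [h1]; exact Dvd.intro_left _ rfl
  have hcop : Nat.Coprime (p ^ k) (Nat.card (ConjClasses.mk a).carrier) :=
    Nat.Coprime.pow_left k ((Nat.Prime.coprime_iff_not_dvd hp.out).2 ha)
  exact hcop.dvd_of_dvd_mul_left h2

end GroupTheory

section Characters

variable {G : Type*} [Group G] [Fintype G] {p : ℕ} [hp : Fact p.Prime] (N : Subgroup G)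
  [hNn : N.Normal]

/-- the group of linear characters trivial on `N` -/
def Lam : Subgroup (G →* ℂˣ) where
  carrier := {l | ∀ n ∈ N, l n = 1}
  mul_mem' := by
    intro a b ha hb n hn
    rw [MonoidHom.mul_apply, ha n hn, hb n hn, one_mul]
  one_mem' := fun _ _ => rfl
  inv_mem' := by
    intro a ha n hn
    rw [MonoidHom.inv_apply, ha n hn, inv_one]

theorem mem_Lam (l : G →* ℂˣ) : l ∈ Lam N ↔ ∀ n ∈ N, l n = 1 := Iff.rfl

/-- the commutative group structure on an abelian quotient -/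
@[reducible] def quotCommGroup (hab : ∀ x y : G, x * y * x⁻¹ * y⁻¹ ∈ N) : CommGroup (G ⧸ N) :=
  { (inferInstance : Group (G ⧸ N)) with
    mul_comm := by
      intro a b
      induction a using QuotientGroup.induction_on with
      | H x =>
        induction b using QuotientGroup.induction_on with
        | H y =>
          rw [← QuotientGroup.mk_mul, ← QuotientGroup.mk_mul, QuotientGroup.eq]
          have := hab y⁻¹ x⁻¹
          have e : (x * y)⁻¹ * (y * x) = y⁻¹ * x⁻¹ * y⁻¹⁻¹ * x⁻¹⁻¹ := by group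
          rw [e]
          exact this }

theorem card_Lam (hab : ∀ x y : G, x * y * x⁻¹ * y⁻¹ ∈ N) : Nat.card (Lam N) = N.index := by
  letI : CommGroup (G ⧸ N) := quotCommGroup N hab
  have e : Lam N ≃ (G ⧸ N →* ℂˣ) :=
    { toFun := fun l => QuotientGroup.lift N l.1 (by
        intro n hn
        rw [MonoidHom.mem_ker]
        exact l.2 n hn)
      invFun := fun μ => ⟨μ.comp (QuotientGroup.mk' N), by
        intro n hn
        rw [MonoidHom.comp_apply, QuotientGroup.mk'_apply,
          (QuotientGroup.eq_one_iff n).mpr hn, map_one]⟩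
      left_inv := by
        intro l
        apply Subtype.ext
        ext a
        simp
      right_inv := by
        intro μ
        ext q
        simp }
  rw [Nat.card_congr e, DualCount.card_hom, Subgroup.index_eq_card]

theorem exists_Lam_ne_one (hab : ∀ x y : G, x * y * x⁻¹ * y⁻¹ ∈ N) {g : G} (hg : g ∉ N) :
    ∃ l ∈ Lam N, l g ≠ 1 := by
  letI : CommGroup (G ⧸ N) := quotCommGroup N hab
  have hne : (g : G ⧸ N) ≠ 1 := by
    intro h
    exact hg ((QuotientGroup.eq_one_iff g).mp h)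
  obtain ⟨μ, hμ⟩ := DualCount.exists_ne_one (g : G ⧸ N) hne
  refine ⟨μ.comp (QuotientGroup.mk' N), ?_, hμ⟩
  intro n hn
  rw [MonoidHom.comp_apply, QuotientGroup.mk'_apply,
    (QuotientGroup.eq_one_iff n).mpr hn, map_one]

/-- twisting an irreducible character by a linear character -/
noncomputable def twist (l : G →* ℂˣ) (ψ : IrrCharacter G) : IrrCharacter G :=
  ⟨coeFunHom G l * (ψ : G → ℂ),
    isIrrCharacter_linear_mul (isCharacter_coeFunHom l).1 (isCharacter_coeFunHom l).2 ψ.2⟩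

theorem twist_apply (l : G →* ℂˣ) (ψ : IrrCharacter G) (g : G) :
    (twist l ψ : G → ℂ) g = ((l g : ℂˣ) : ℂ) * (ψ : G → ℂ) g := rfl

theorem charDegree_twist (l : G →* ℂˣ) (ψ : IrrCharacter G) :
    charDegree (twist l ψ : G → ℂ) = charDegree (ψ : G → ℂ) := by
  have h1 := char_one_eq_charDegree (isCharacter_of_irr (twist l ψ).2)
  have h2 := char_one_eq_charDegree (isCharacter_of_irr ψ.2)
  rw [twist_apply, map_one, Units.val_one, one_mul, h2] at h1
  exact_mod_cast h1.symm

theorem twist_normSq (l : G →* ℂˣ) (ψ : IrrCharacter G) (g : G) :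
    (twist l ψ : G → ℂ) g * conj ((twist l ψ : G → ℂ) g)
      = (ψ : G → ℂ) g * conj ((ψ : G → ℂ) g) := by
  rw [twist_apply, map_mul]
  have := linear_mul_conj (isCharacter_coeFunHom l).1 (isCharacter_coeFunHom l).2 g
  rw [coeFunHom_apply] at this
  linear_combination ((ψ : G → ℂ) g * conj ((ψ : G → ℂ) g)) * this

variable (χ₀ : IrrCharacter G)

/-- the action of `Lam N` on the irreducible characters other than `χ₀` -/
noncomputable def twistAction (hχ₀ : p ∣ charDegree (χ₀ : G → ℂ))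
    (huniq : ∀ χ : IrrCharacter G, p ∣ charDegree (χ : G → ℂ) → χ = χ₀) :
    MulAction (Lam N) {ψ : IrrCharacter G // ψ ≠ χ₀} where
  smul l ψ := ⟨twist l.1 ψ.1, by
    intro h
    apply ψ.2
    apply huniq
    rw [← charDegree_twist l.1 ψ.1, h]
    exact hχ₀⟩
  one_smul ψ := by
    apply Subtype.ext
    apply Subtype.ext
    funext g
    show (twist (1 : G →* ℂˣ) ψ.1 : G → ℂ) g = _
    rw [twist_apply]
    simp
  mul_smul l l' ψ := by
    apply Subtype.ext
    apply Subtype.ext
    funext g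
    show (twist (l.1 * l'.1) ψ.1 : G → ℂ) g = (twist l.1 (twist l'.1 ψ.1) : G → ℂ) g
    rw [twist_apply, twist_apply, twist_apply, MonoidHom.mul_apply, Units.val_mul, mul_assoc]

theorem twist_chi0 (hχ₀ : p ∣ charDegree (χ₀ : G → ℂ))
    (huniq : ∀ χ : IrrCharacter G, p ∣ charDegree (χ : G → ℂ) → χ = χ₀) (l : G →* ℂˣ) :
    twist l χ₀ = χ₀ := by
  apply huniq
  rw [charDegree_twist]
  exact hχ₀

theorem vanish_off (hab : ∀ x y : G, x * y * x⁻¹ * y⁻¹ ∈ N)
    (hχ₀ : p ∣ charDegree (χ₀ : G → ℂ))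
    (huniq : ∀ χ : IrrCharacter G, p ∣ charDegree (χ : G → ℂ) → χ = χ₀) {g : G} (hg : g ∉ N) :
    (χ₀ : G → ℂ) g = 0 := by
  obtain ⟨l, -, hl⟩ := exists_Lam_ne_one N hab hg
  have h1 : (twist l χ₀ : G → ℂ) g = (χ₀ : G → ℂ) g := by
    rw [twist_chi0 χ₀ hχ₀ huniq l]
  rw [twist_apply] at h1
  have h2 : (((l g : ℂˣ) : ℂ) - 1) * (χ₀ : G → ℂ) g = 0 := by
    linear_combination h1
  rcases mul_eq_zero.1 h2 with h | h
  · exfalso
    apply hl
    apply Units.ext
    rw [Units.val_one]
    linear_combination h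
  · exact h

theorem pow_dvd_centralizer {k : ℕ} (hidx : N.index = p ^ k)
    (hab : ∀ x y : G, x * y * x⁻¹ * y⁻¹ ∈ N)
    (hχ₀ : p ∣ charDegree (χ₀ : G → ℂ))
    (huniq : ∀ χ : IrrCharacter G, p ∣ charDegree (χ : G → ℂ) → χ = χ₀)
    (hres : ∀ ψ : IrrCharacter G, ψ ≠ χ₀ → IsIrrCharacter N (fun n : N => (ψ : G → ℂ) n))
    {g : G} (hg : g ∉ N) :
    p ^ k ∣ Nat.card (Subgroup.centralizer ({g} : Set G)) := by
  classical
  letI := twistAction N χ₀ hχ₀ huniq
  haveI : Fintype (Lam N) := Fintype.ofFinite _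
  haveI : Fintype (IrrCharacter G) := Fintype.ofFinite _
  have hsmul : ∀ (l : Lam N) (ψ : {ψ : IrrCharacter G // ψ ≠ χ₀}),
      (l • ψ).1 = twist l.1 ψ.1 := fun _ _ => rfl
  have hint := sum_free_action_isIntegral (A := Lam N) (X := {ψ : IrrCharacter G // ψ ≠ χ₀})
    (fun ψ => (ψ.1 : G → ℂ) g * conj ((ψ.1 : G → ℂ) g))
    (by
      intro l ψ
      show ((l • ψ).1 : G → ℂ) g * conj (((l • ψ).1 : G → ℂ) g) = _
      rw [hsmul, twist_normSq])
    (by
      intro l ψ h
      have h1 : twist l.1 ψ.1 = ψ.1 := by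
        rw [← hsmul, h]
      apply Subtype.ext
      have h2 : coeFunHom G l.1 * (ψ.1 : G → ℂ) = (ψ.1 : G → ℂ) := congrArg Subtype.val h1
      exact hom_eq_one_of_twist_eq N ψ.1.2 (hres ψ.1 ψ.2) l.1 l.2 h2)
    (by
      intro ψ
      exact (irr_value_isIntegral ψ.1 g).mul (irr_value_conj_isIntegral ψ.1 g))
  have hsum : ∑ ψ : {ψ : IrrCharacter G // ψ ≠ χ₀}, (ψ.1 : G → ℂ) g * conj ((ψ.1 : G → ℂ) g)
      = (Nat.card (Subgroup.centralizer ({g} : Set G)) : ℂ) := by
    rw [← second_orthogonality_self g, Fintype.sum_eq_add_sum_subtype_ne _ χ₀,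
      vanish_off N χ₀ hab hχ₀ huniq hg, zero_mul, zero_add]
  rw [hsum, card_Lam N hab, hidx] at hint
  obtain ⟨z, hz⟩ := exists_int_of_isIntegral_of_rat
    ((Nat.card (Subgroup.centralizer ({g} : Set G)) : ℚ) / ((p ^ k : ℕ) : ℚ))
    (by push_cast; rfl) hint
  have hpk : ((p ^ k : ℕ) : ℂ) ≠ 0 := by
    exact_mod_cast pow_ne_zero k hp.out.ne_zero
  rw [div_eq_iff hpk] at hz
  have h1 : ((Nat.card (Subgroup.centralizer ({g} : Set G)) : ℤ) : ℂ) = ((z * (p ^ k : ℕ) : ℤ) : ℂ) := by
    push_cast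
    push_cast at hz
    exact hz
  have h2 : (Nat.card (Subgroup.centralizer ({g} : Set G)) : ℤ) = z * (p ^ k : ℕ) := by
    exact_mod_cast h1
  have h3 : ((p ^ k : ℕ) : ℤ) ∣ (Nat.card (Subgroup.centralizer ({g} : Set G)) : ℤ) :=
    Dvd.intro_left z h2.symm
  exact Int.natCast_dvd_natCast.1 h3

theorem restrict_irr [Fintype N] (hN : (Nat.card N).Coprime p) {k : ℕ} (hidx : N.index = p ^ k)
    (ψ : IrrCharacter G) (hψ : ¬ p ∣ charDegree (ψ : G → ℂ)) :
    IsIrrCharacter N (fun n : N => (ψ : G → ℂ) n) := by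
  apply restrict_irr_of_not_dvd N p hidx _ ψ hψ
  intro δ h
  have h1 := dvd_trans h (orderOf_hom_dvd_card δ)
  have := Nat.Coprime.eq_one_of_dvd hN.symm h1
  exact hp.out.one_lt.ne' this

theorem quotient_abelian [Fintype N] (hN : (Nat.card N).Coprime p) {k : ℕ}
    (hidx : N.index = p ^ k) (hnil : ¬ Group.IsNilpotent G)
    (hχ₀ : p ∣ charDegree (χ₀ : G → ℂ))
    (huniq : ∀ χ : IrrCharacter G, p ∣ charDegree (χ : G → ℂ) → χ = χ₀) :
    ∀ x y : G, x * y * x⁻¹ * y⁻¹ ∈ N := by
  classical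
  haveI : Fintype (IrrCharacter G) := Fintype.ofFinite _
  by_contra hcon
  have hncomm : ¬ (∀ a b : G ⧸ N, a * b = b * a) := by
    intro hc
    apply hcon
    intro x y
    rw [← QuotientGroup.eq_one_iff]
    have := hc (x : G ⧸ N) (y : G ⧸ N)
    simp only [QuotientGroup.mk_mul, QuotientGroup.mk_inv]
    rw [this]
    group
  rw [comm_iff_forall_irr_degree_one] at hncomm
  push Not at hncomm
  obtain ⟨β₀, hβ₀⟩ := hncomm
  have hdeg : p ∣ charDegree (β₀ : G ⧸ N → ℂ) := by
    have h1 := charDegree_dvd_card β₀.2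
    rw [← Subgroup.index_eq_card, hidx] at h1
    obtain ⟨j, -, hj2⟩ := (Nat.dvd_prime_pow hp.out).1 h1
    have hj0 : j ≠ 0 := by
      intro h0
      apply hβ₀
      rw [char_one_eq_charDegree (isCharacter_of_irr β₀.2), hj2, h0]
      simp
    rw [hj2]
    exact dvd_pow_self p hj0
  obtain ⟨β, hβdef⟩ : ∃ β : IrrCharacter G, β = inflIrr N β₀ := ⟨_, rfl⟩
  have hβ : β = χ₀ := huniq β (by rw [hβdef, charDegree_inflIrr]; exact hdeg)
  have hβN : ∀ n ∈ N, (β : G → ℂ) n = (β : G → ℂ) 1 := by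
    intro n hn
    rw [hβdef, inflIrr_apply, inflIrr_apply, (QuotientGroup.eq_one_iff n).2 hn,
      QuotientGroup.mk_one]
  have hβ1 : (β : G → ℂ) 1 ≠ 0 := by
    rw [char_one_eq_charDegree (isCharacter_of_irr β.2), hβ]
    intro h0
    have h00 : charDegree (χ₀ : G → ℂ) = 0 := by exact_mod_cast h0
    have h1 := charDegree_dvd_card χ₀.2
    rw [h00, zero_dvd_iff] at h1
    exact Nat.card_pos.ne' h1
  have hker : ∀ ψ : IrrCharacter G, ∀ n ∈ N, (ψ : G → ℂ) n = (ψ : G → ℂ) 1 := by
    intro ψ n hn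
    by_cases hψ : ψ = χ₀
    · rw [hψ, ← hβ]
      exact hβN n hn
    · have hnd : ¬ p ∣ charDegree (ψ : G → ℂ) := fun h => hψ (huniq ψ h)
      have hψN := restrict_irr N hN hidx ψ hnd
      have h1N : IsIrrCharacter N (fun _ : N => (1 : ℂ)) :=
        Cfsg.Agent.Lib.Helper25.isIrrCharacter_one
      have hinv1 : ∀ g : G, conjFn N g (fun _ : N => (1 : ℂ)) = fun _ : N => (1 : ℂ) := by
        intro g; rfl
      have hprodeq : ((fun _ : N => (1 : ℂ)) * fun n : N => (ψ : G → ℂ) n)
          = fun n : N => (ψ : G → ℂ) n := by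
        funext n
        rw [Pi.mul_apply, one_mul]
      have hprod : IsIrrCharacter N ((fun _ : N => (1 : ℂ)) * fun n : N => (ψ : G → ℂ) n) := by
        rw [hprodeq]; exact hψN
      obtain ⟨h1, -, -⟩ := gallagher_rigidity N h1N hinv1 (isCharacter_of_irr ψ.2) hprod
      have hβcf : IsClassFunction G (β : G → ℂ) :=
        isClassFunction_of_char (isCharacter_of_irr β.2)
      have hne : classInner (indFun N (fun _ : N => (1 : ℂ))) (β : G → ℂ) ≠ 0 := by
        rw [frobenius_reciprocity N _ _ hβcf]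
        have h3 : (fun h : N => (β : G → ℂ) h) = fun _ : N => (β : G → ℂ) 1 := by
          funext n
          exact hβN n n.2
        rw [h3]
        unfold classInner
        rw [Finset.sum_const, Finset.card_univ, nsmul_eq_mul, one_mul, ← mul_assoc,
          Nat.card_eq_fintype_card, inv_mul_cancel₀, one_mul]
        · intro h0
          apply hβ1
          have := congrArg conj h0
          rwa [Complex.conj_conj, map_zero] at this
        · exact_mod_cast Fintype.card_ne_zero
      obtain ⟨hirr, -⟩ := h1 (β : G → ℂ) β.2 hne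
      have hd : p ∣ charDegree ((β : G → ℂ) * (ψ : G → ℂ)) := by
        have e1 := char_one_eq_charDegree (isCharacter_of_irr hirr)
        rw [Pi.mul_apply, char_one_eq_charDegree (isCharacter_of_irr β.2),
          char_one_eq_charDegree (isCharacter_of_irr ψ.2)] at e1
        have e2 : charDegree ((β : G → ℂ) * (ψ : G → ℂ))
            = charDegree (β : G → ℂ) * charDegree (ψ : G → ℂ) := by
          exact_mod_cast e1.symm
        rw [e2, hβ]
        exact Dvd.dvd.mul_right hχ₀ _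
      have heq : (⟨(β : G → ℂ) * (ψ : G → ℂ), hirr⟩ : IrrCharacter G) = χ₀ := huniq _ hd
      have hfun : (β : G → ℂ) * (ψ : G → ℂ) = (β : G → ℂ) := by
        have h5 := congrArg Subtype.val heq
        rw [← hβ] at h5
        exact h5
      have hval : ∀ g : G, (β : G → ℂ) g ≠ 0 → (ψ : G → ℂ) g = 1 := by
        intro g hg
        have := congrFun hfun g
        rw [Pi.mul_apply] at this
        have h4 : (β : G → ℂ) g * ((ψ : G → ℂ) g - 1) = 0 := by linear_combination this
        rcases mul_eq_zero.1 h4 with h | h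
        · exact absurd h hg
        · linear_combination h
      rw [hval n (by rw [hβN n hn]; exact hβ1), hval 1 hβ1]
  have hbot : N = ⊥ := by
    rw [Subgroup.eq_bot_iff_forall]
    intro n hn
    by_contra hn1
    have hnc : ¬ IsConj n 1 := by
      rw [isConj_one_left]
      exact hn1
    have h1 := second_orthogonality_ne n 1 hnc
    have h2 := second_orthogonality_self (1 : G)
    have h3 : ∑ χ : IrrCharacter G, (χ : G → ℂ) n * conj ((χ : G → ℂ) 1)
        = ∑ χ : IrrCharacter G, (χ : G → ℂ) 1 * conj ((χ : G → ℂ) 1) := by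
      apply Finset.sum_congr rfl
      intro χ _
      rw [hker χ n hn]
    rw [h3, h2] at h1
    have : Nat.card (Subgroup.centralizer ({(1 : G)} : Set G)) ≠ 0 := Nat.card_pos.ne'
    exact this (by exact_mod_cast h1)
  apply hnil
  have hc : Nat.card G = p ^ k := by
    rw [card_eq N hN hidx, hbot, Subgroup.card_bot, one_mul]
  exact (IsPGroup.of_card hc).isNilpotent

end Characters

section Count

variable {G : Type*} [Group G] [Fintype G] {p : ℕ} [hp : Fact p.Prime] (N : Subgroup G)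
  [hNn : N.Normal] [Fintype N] (χ₀ : IrrCharacter G)

/-- the set of classes meeting the coset `y N` -/
def cosetClasses (y : G) : Set (ConjClasses G) :=
  {c | ∃ g : G, ConjClasses.mk g = c ∧ y⁻¹ * g ∈ N}

theorem card_cosetClasses_mul (hab : ∀ x y : G, x * y * x⁻¹ * y⁻¹ ∈ N) (y : G) :
    Nat.card (cosetClasses N y) * Nat.card G
      = ∑ n : N, Nat.card (Subgroup.centralizer ({y * (n : G)} : Set G)) := by
  classical
  have hq : ∀ a b : G, IsConj a b → y⁻¹ * a ∈ N → y⁻¹ * b ∈ N := by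
    intro a b hab' ha
    rw [isConj_iff] at hab'
    obtain ⟨c, rfl⟩ := hab'
    have h1 := hab a⁻¹ c
    have e : y⁻¹ * (c * a * c⁻¹) = y⁻¹ * a * (a⁻¹ * c * a⁻¹⁻¹ * c⁻¹) := by group
    rw [e]
    exact N.mul_mem ha h1
  have h1 := sum_card_centralizer_eq (fun g : G => y⁻¹ * g ∈ N) hq
  have h2 : Nat.card (cosetClasses N y)
      = Nat.card {c : ConjClasses G // ∃ g : G, ConjClasses.mk g = c ∧ y⁻¹ * g ∈ N} := rfl
  rw [h2, ← h1]
  apply Fintype.sum_equiv
    { toFun := fun x : {x : G // y⁻¹ * x ∈ N} => (⟨y⁻¹ * x.1, x.2⟩ : N)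
      invFun := fun n => ⟨y * (n : G), by simp⟩
      left_inv := by
        intro x
        apply Subtype.ext
        simp
      right_inv := by
        intro n
        apply Subtype.ext
        simp }
  intro x
  simp

theorem card_cosetClasses_complex (hab : ∀ x y : G, x * y * x⁻¹ * y⁻¹ ∈ N)
    (hres : ∀ ψ : IrrCharacter G, ψ ≠ χ₀ → IsIrrCharacter N (fun n : N => (ψ : G → ℂ) n))
    [Fintype (IrrCharacter G)] (y : G) :
    (Nat.card (cosetClasses N y) : ℂ) * (Nat.card G : ℂ)
      = ((Fintype.card (IrrCharacter G) : ℂ) - 1) * (Nat.card N : ℂ)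
        + ∑ n : N, (χ₀ : G → ℂ) (y * n) * conj ((χ₀ : G → ℂ) (y * n)) := by
  classical
  have h1 := card_cosetClasses_mul N hab y
  have h2 : (Nat.card (cosetClasses N y) : ℂ) * (Nat.card G : ℂ)
      = ∑ n : N, (Nat.card (Subgroup.centralizer ({y * (n : G)} : Set G)) : ℂ) := by
    exact_mod_cast h1
  rw [h2]
  have h3 : ∀ n : N, (Nat.card (Subgroup.centralizer ({y * (n : G)} : Set G)) : ℂ)
      = ∑ χ : IrrCharacter G, (χ : G → ℂ) (y * n) * conj ((χ : G → ℂ) (y * n)) :=
    fun n => (second_orthogonality_self (y * (n : G))).symm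
  rw [Finset.sum_congr rfl (fun n _ => h3 n), Finset.sum_comm,
    Fintype.sum_eq_add_sum_subtype_ne _ χ₀, add_comm]
  congr 1
  have h4 : ∀ ψ : {ψ : IrrCharacter G // ψ ≠ χ₀},
      ∑ n : N, (ψ.1 : G → ℂ) (y * n) * conj ((ψ.1 : G → ℂ) (y * n)) = (Nat.card N : ℂ) :=
    fun ψ => sum_coset_normSq N hab ψ.1.2 (hres ψ.1 ψ.2) y
  rw [Finset.sum_congr rfl (fun ψ _ => h4 ψ), Finset.sum_const, Finset.card_univ,
    nsmul_eq_mul]
  congr 1
  rw [Fintype.card_subtype_compl, Fintype.card_subtype_eq]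
  have hpos : 1 ≤ Fintype.card (IrrCharacter G) := Fintype.card_pos_iff.2 ⟨χ₀⟩
  push_cast [Nat.cast_sub hpos]
  ring

theorem sum_chi0_self (hvan : ∀ g : G, g ∉ N → (χ₀ : G → ℂ) g = 0) :
    ∑ n : N, (χ₀ : G → ℂ) (1 * n) * conj ((χ₀ : G → ℂ) (1 * n)) = (Nat.card G : ℂ) := by
  classical
  have h1 := irr_classInner χ₀.2 χ₀.2
  rw [if_pos rfl] at h1
  unfold classInner at h1
  have hG : (Nat.card G : ℂ) ≠ 0 := by exact_mod_cast Nat.card_pos.ne'
  have h2 : ∑ g : G, (χ₀ : G → ℂ) g * conj ((χ₀ : G → ℂ) g) = (Nat.card G : ℂ) := by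
    field_simp at h1
    linear_combination h1
  rw [← h2]
  have h3 : ∑ g : G, (χ₀ : G → ℂ) g * conj ((χ₀ : G → ℂ) g)
      = ∑ g ∈ Finset.univ.filter (fun g : G => g ∈ N),
          (χ₀ : G → ℂ) g * conj ((χ₀ : G → ℂ) g) := by
    symm
    apply Finset.sum_subset (Finset.filter_subset _ _)
    intro g _ hg
    rw [Finset.mem_filter] at hg
    push Not at hg
    rw [hvan g (hg (Finset.mem_univ _)), zero_mul]
  rw [h3, Finset.sum_subtype (Finset.univ.filter (fun g : G => g ∈ N))
    (p := fun g : G => g ∈ N) (by simp)]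
  apply Finset.sum_congr rfl
  intro n _
  rw [one_mul]

theorem card_cosetClasses_one (hab : ∀ x y : G, x * y * x⁻¹ * y⁻¹ ∈ N)
    (hres : ∀ ψ : IrrCharacter G, ψ ≠ χ₀ → IsIrrCharacter N (fun n : N => (ψ : G → ℂ) n))
    (hvan : ∀ g : G, g ∉ N → (χ₀ : G → ℂ) g = 0) {x : G} (hx : x ∉ N) :
    Nat.card (cosetClasses N (1 : G)) = Nat.card (cosetClasses N x) + 1 := by
  classical
  haveI : Fintype (IrrCharacter G) := Fintype.ofFinite _
  have h1 := card_cosetClasses_complex N χ₀ hab hres (1 : G)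
  have hx' := card_cosetClasses_complex N χ₀ hab hres x
  rw [sum_chi0_self N χ₀ hvan] at h1
  have h0 : ∑ n : N, (χ₀ : G → ℂ) (x * n) * conj ((χ₀ : G → ℂ) (x * n)) = 0 := by
    apply Finset.sum_eq_zero
    intro n _
    have : x * (n : G) ∉ N := by
      intro h
      apply hx
      have := N.mul_mem h (N.inv_mem n.2)
      simpa using this
    rw [hvan _ this, zero_mul]
  rw [h0, add_zero] at hx'
  have hG : (Nat.card G : ℂ) ≠ 0 := by exact_mod_cast Nat.card_pos.ne'
  have h2 : (Nat.card (cosetClasses N (1 : G)) : ℂ) * (Nat.card G : ℂ)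
      = ((Nat.card (cosetClasses N x) : ℂ) + 1) * (Nat.card G : ℂ) := by
    rw [h1, add_mul, hx', one_mul]
  have h3 := mul_right_cancel₀ hG h2
  exact_mod_cast h3

end Count

/-- Let p be a prime and G a finite group that is not nilpotent and has a normal p-complement (a normal subgroup of order prime to p and index a power of p). If G has exactly one irreducible complex character of degree divisible by p, then G has exactly one conjugacy class whose size is divisible by p. -/
theorem result {G : Type*} [Group G] [Finite G] (p : ℕ) [Fact p.Prime] (hnil : ¬ Group.IsNilpotent G) (N : Subgroup G) [N.Normal] (hN : (Nat.card N).Coprime p) (hidx : ∃ k : ℕ, N.index = p ^ k) (hone : Nat.card {χ : Cfsg.IrrCharacter G // p ∣ Cfsg.charDegree (χ : G → ℂ)} = 1) : Nat.card {C : ConjClasses G // p ∣ Nat.card C.carrier} = 1 := by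
  classical
  haveI : Fintype G := Fintype.ofFinite G
  haveI : Fintype N := Fintype.ofFinite N
  obtain ⟨k, hidx⟩ := hidx
  rw [Nat.card_eq_one_iff_unique] at hone
  obtain ⟨hsub, ⟨⟨χ₀, hχ₀⟩⟩⟩ := hone
  have huniq : ∀ χ : IrrCharacter G, p ∣ charDegree (χ : G → ℂ) → χ = χ₀ := by
    intro χ hχ
    have := hsub.elim ⟨χ, hχ⟩ ⟨χ₀, hχ₀⟩
    exact congrArg Subtype.val this
  have hab := quotient_abelian N χ₀ hN hidx hnil hχ₀ huniq
  have hres : ∀ ψ : IrrCharacter G, ψ ≠ χ₀ →
      IsIrrCharacter N (fun n : N => (ψ : G → ℂ) n) := by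
    intro ψ hψ
    exact restrict_irr N hN hidx ψ (fun h => hψ (huniq ψ h))
  have hvan : ∀ g : G, g ∉ N → (χ₀ : G → ℂ) g = 0 :=
    fun g hg => vanish_off N χ₀ hab hχ₀ huniq hg
  have hpow : ∀ g : G, g ∉ N → p ^ k ∣ Nat.card (Subgroup.centralizer ({g} : Set G)) :=
    fun g hg => pow_dvd_centralizer N χ₀ hidx hab hχ₀ huniq hres hg
  obtain ⟨P⟩ : Nonempty (Sylow p G) := inferInstance
  have hcP := card_sylow N P hN hidx
  have hbot := inf_eq_bot N P hN
  have hPC := sylow_le_centralizer N P hN hab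
  -- a nontrivial element of `P`
  obtain ⟨x, hxP, hx1⟩ : ∃ x ∈ (P : Subgroup G), x ≠ 1 := by
    by_contra hcon
    push Not at hcon
    have hPbot : (P : Subgroup G) = ⊥ := (Subgroup.eq_bot_iff_forall _).2 hcon
    have h1 : Nat.card (P : Subgroup G) = 1 := by rw [hPbot, Subgroup.card_bot]
    have h2 : p ^ k = 1 := by rw [← hcP]; exact h1
    have h3 : Nat.card G = Nat.card N := by rw [card_eq N hN hidx, h2, mul_one]
    have h4 := charDegree_dvd_card χ₀.2
    rw [h3] at h4
    have h5 := dvd_trans hχ₀ h4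
    have := Nat.Coprime.eq_one_of_dvd hN.symm h5
    exact (Fact.out : p.Prime).one_lt.ne' this
  have hxN : x ∉ N := by
    intro h
    have : x ∈ (P : Subgroup G) ⊓ N := ⟨hxP, h⟩
    rw [hbot, Subgroup.mem_bot] at this
    exact hx1 this
  have hcommx : ∀ d ∈ Subgroup.centralizer ((P : Subgroup G) : Set G), x * d = d * x :=
    fun d hd => (Subgroup.mem_centralizer_iff.1 hd) x hxP
  -- conjugation preserves cosets
  have hcoset : ∀ h g : G, (h * g * h⁻¹)⁻¹ * g ∈ N := by
    intro h g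
    have := hab h g⁻¹
    have e : (h * g * h⁻¹)⁻¹ * g = h * g⁻¹ * h⁻¹ * g⁻¹⁻¹ := by group
    rw [e]
    exact this
  -- the maps
  obtain ⟨C, hC⟩ : ∃ C : Subgroup G, C = Subgroup.centralizer ((P : Subgroup G) : Set G) ⊓ N :=
    ⟨_, rfl⟩
  have hCle : C ≤ Subgroup.centralizer ((P : Subgroup G) : Set G) ⊓ N := le_of_eq hC
  have hCP : ∀ c : C, (c : G) ∈ Subgroup.centralizer ((P : Subgroup G) : Set G) :=
    fun c => (hCle c.2).1
  have hCN : ∀ c : C, (c : G) ∈ N := fun c => (hCle c.2).2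
  obtain ⟨f, hf⟩ : ∃ f : G → C → ConjClasses G, ∀ y c, f y c = ConjClasses.mk (y * (c : G)) :=
    ⟨fun y c => ConjClasses.mk (y * (c : G)), fun _ _ => rfl⟩
  have hβ : Nat.card (Set.range (f x)) = Nat.card (Set.range (f 1)) := by
    apply card_range_eq
    intro c c'
    rw [hf, hf, hf, hf, ConjClasses.mk_eq_mk_iff_isConj, ConjClasses.mk_eq_mk_iff_isConj,
      one_mul, one_mul]
    constructor
    · intro h
      obtain ⟨d, hd, hd2⟩ := fusion N P hN hab
        ((Subgroup.centralizer _).mul_mem (hPC hxP) (hCP c))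
        ((Subgroup.centralizer _).mul_mem (hPC hxP) (hCP c')) h
      rw [isConj_iff]
      refine ⟨d, ?_⟩
      have e : d * (x * (c : G)) * d⁻¹ = x * (d * (c : G) * d⁻¹) := by
        calc d * (x * (c : G)) * d⁻¹ = (d * x) * (c : G) * d⁻¹ := by group
          _ = (x * d) * (c : G) * d⁻¹ := by rw [hcommx d hd]
          _ = x * (d * (c : G) * d⁻¹) := by group
      rw [e] at hd2
      exact mul_left_cancel hd2
    · intro h
      obtain ⟨d, hd, hd2⟩ := fusion N P hN hab (hCP c) (hCP c') h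
      rw [isConj_iff]
      refine ⟨d, ?_⟩
      calc d * (x * (c : G)) * d⁻¹ = (d * x) * (c : G) * d⁻¹ := by group
        _ = (x * d) * (c : G) * d⁻¹ := by rw [hcommx d hd]
        _ = x * (d * (c : G) * d⁻¹) := by group
        _ = x * (c' : G) := by rw [hd2]
  have hγ1 : Set.range (f x) = cosetClasses N x := by
    ext K
    constructor
    · rintro ⟨c, rfl⟩
      refine ⟨x * (c : G), (hf x c).symm, ?_⟩
      have : x⁻¹ * (x * (c : G)) = (c : G) := by group
      rw [this]
      exact hCN c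
    · rintro ⟨g, rfl, hg⟩
      have hgN : g ∉ N := by
        intro h
        apply hxN
        have := N.mul_mem h (N.inv_mem hg)
        have e : g * (x⁻¹ * g)⁻¹ = x := by group
        rwa [e] at this
      obtain ⟨h, hh⟩ := exists_conj_mem_centralizer P hcP g (hpow g hgN)
      obtain ⟨x', hx'P, hx'N⟩ := exists_mem_sylow N P hN hidx (h * g * h⁻¹)
      have hx'x : x' = x := by
        have h1 : x'⁻¹ * x ∈ (P : Subgroup G) ⊓ N := by
          refine ⟨(P : Subgroup G).mul_mem ((P : Subgroup G).inv_mem hx'P) hxP, ?_⟩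
          have e : x'⁻¹ * x = (x'⁻¹ * (h * g * h⁻¹)) * ((h * g * h⁻¹)⁻¹ * g) * (x⁻¹ * g)⁻¹ := by
            group
          rw [e]
          exact N.mul_mem (N.mul_mem hx'N (hcoset h g)) (N.inv_mem hg)
        rw [hbot, Subgroup.mem_bot] at h1
        calc x' = x' * (x'⁻¹ * x) := by rw [h1, mul_one]
          _ = x := by group
      have hcC : x'⁻¹ * (h * g * h⁻¹) ∈ C := by
        rw [hC]
        exact ⟨(Subgroup.centralizer _).mul_mem
          ((Subgroup.centralizer _).inv_mem (hPC hx'P)) hh, hx'N⟩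
      refine ⟨⟨x'⁻¹ * (h * g * h⁻¹), hcC⟩, ?_⟩
      rw [hf, ConjClasses.mk_eq_mk_iff_isConj, isConj_iff]
      refine ⟨h⁻¹, ?_⟩
      rw [← hx'x]
      show h⁻¹ * (x' * (x'⁻¹ * (h * g * h⁻¹))) * h⁻¹⁻¹ = g
      group
  have hsub1 : Set.range (f 1) ⊆ cosetClasses N 1 := by
    rintro K ⟨c, rfl⟩
    refine ⟨(c : G), by rw [hf, one_mul], ?_⟩
    rw [inv_one, one_mul]
    exact hCN c
  have hγ2 : {K : ConjClasses G | p ∣ Nat.card K.carrier}
      = cosetClasses N 1 \ Set.range (f 1) := by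
    ext K
    constructor
    · intro hK
      obtain ⟨g, rfl⟩ := ConjClasses.mk_surjective K
      have hK' : p ∣ Nat.card (ConjClasses.mk g).carrier := hK
      have hgN : g ∈ N := by
        by_contra hgN
        obtain ⟨h, hh⟩ := exists_conj_mem_centralizer P hcP g (hpow g hgN)
        have h1 := not_dvd_class_of_mem_centralizer N P hN hidx hh
        have h2 : ConjClasses.mk (h * g * h⁻¹) = ConjClasses.mk g := by
          rw [ConjClasses.mk_eq_mk_iff_isConj, isConj_iff]
          exact ⟨h⁻¹, by group⟩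
        rw [h2] at h1
        exact h1 hK'
      refine ⟨⟨g, rfl, ?_⟩, ?_⟩
      · rw [inv_one, one_mul]; exact hgN
      · rintro ⟨c, hc⟩
        rw [hf, one_mul] at hc
        have h1 := not_dvd_class_of_mem_centralizer N P hN hidx (hCP c)
        rw [hc] at h1
        exact h1 hK'
    · rintro ⟨⟨g, rfl, hg⟩, hnot⟩
      rw [inv_one, one_mul] at hg
      show p ∣ Nat.card (ConjClasses.mk g).carrier
      by_contra hnd
      have h1 := pow_dvd_centralizer_of_not_dvd N hN hidx hnd
      obtain ⟨h, hh⟩ := exists_conj_mem_centralizer P hcP g h1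
      have hmem : h * g * h⁻¹ ∈ C := by
        rw [hC]
        exact ⟨hh, ‹N.Normal›.conj_mem g hg h⟩
      apply hnot
      refine ⟨⟨h * g * h⁻¹, hmem⟩, ?_⟩
      rw [hf, one_mul, ConjClasses.mk_eq_mk_iff_isConj, isConj_iff]
      exact ⟨h⁻¹, by group⟩
  have hα := card_cosetClasses_one N χ₀ hab hres hvan hxN
  have e1 : Nat.card {C : ConjClasses G // p ∣ Nat.card C.carrier}
      = Set.ncard {K : ConjClasses G | p ∣ Nat.card K.carrier} :=
    Nat.card_coe_set_eq _
  rw [e1, hγ2, Set.ncard_diff hsub1 (Set.toFinite _), ← Nat.card_coe_set_eq,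
    ← Nat.card_coe_set_eq, hα, ← hβ, hγ1]
  omega

end Cfsg.Agent.S4763
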