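import Cfsg.Statements.S4774
import Cfsg.Agent.Lib.Helper14.SL2DegSetOdd

set_option autoImplicit false
open Cfsg

namespace Cfsg.Agent.S4774

/-- The arithmetic of the degree graph, given bounds on the degree set. -/
theorem graph_of_degrees (D : Set ℕ) (q t k : ℕ) (ht : t.Prime) (hqt : q = t ^ k) (hodd : Odd q)
    (h7 : 7 ≤ q)
    (hsub : D ⊆ {1, q, q + 1, q - 1, (q + 1) / 2, (q - 1) / 2})
    (hq : q ∈ D) (hp : q + 1 ∈ D) (hm : q - 1 ∈ D) :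
    {p : ℕ | p.Prime ∧ ∃ d ∈ D, p ∣ d} = {r : ℕ | r.Prime ∧ r ∣ q * (q ^ 2 - 1)} ∧
    ∀ r s : ℕ, (r ≠ s ∧ r.Prime ∧ s.Prime ∧ ∃ d ∈ D, r * s ∣ d) ↔
      (r ≠ s ∧ r.Prime ∧ s.Prime ∧ r ∣ q ^ 2 - 1 ∧ s ∣ q ^ 2 - 1 ∧
        (r = 2 ∨ s = 2 ∨ (r ∣ q + 1 ∧ s ∣ q + 1) ∨ (r ∣ q - 1 ∧ s ∣ q - 1))) := by
  have hsq : q ^ 2 - 1 = (q + 1) * (q - 1) := by
    have := Nat.sq_sub_sq q 1
    rwa [one_pow] at this
  obtain ⟨m, hm'⟩ := hodd
  have hhp : (q + 1) / 2 ∣ q + 1 := ⟨2, by omega⟩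
  have hhm : (q - 1) / 2 ∣ q - 1 := ⟨2, by omega⟩
  have h2p : 2 ∣ q + 1 := ⟨m + 1, by omega⟩
  have h2m : 2 ∣ q - 1 := ⟨m, by omega⟩
  -- divisors of members of `D`
  have key : ∀ d ∈ D, ∀ r : ℕ, r.Prime → r ∣ d → r ∣ q ∨ r ∣ q + 1 ∨ r ∣ q - 1 := by
    intro d hd r hr hrd
    have := hsub hd
    simp only [Set.mem_insert_iff, Set.mem_singleton_iff] at this
    rcases this with rfl | rfl | rfl | rfl | rfl | rfl
    · exact absurd (Nat.dvd_one.mp hrd) hr.one_lt.ne'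
    · exact Or.inl hrd
    · exact Or.inr (Or.inl hrd)
    · exact Or.inr (Or.inr hrd)
    · exact Or.inr (Or.inl (hrd.trans hhp))
    · exact Or.inr (Or.inr (hrd.trans hhm))
  constructor
  · ext r
    simp only [Set.mem_setOf_eq]
    rw [hsq]
    constructor
    · rintro ⟨hr, d, hd, hrd⟩
      refine ⟨hr, ?_⟩
      rcases key d hd r hr hrd with h | h | h
      · exact Dvd.dvd.mul_right h _
      · exact Dvd.dvd.mul_left (Dvd.dvd.mul_right h _) _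
      · exact Dvd.dvd.mul_left (Dvd.dvd.mul_left h _) _
    · rintro ⟨hr, hrd⟩
      refine ⟨hr, ?_⟩
      rcases (Nat.Prime.dvd_mul hr).mp hrd with h | h
      · exact ⟨q, hq, h⟩
      · rcases (Nat.Prime.dvd_mul hr).mp h with h | h
        · exact ⟨q + 1, hp, h⟩
        · exact ⟨q - 1, hm, h⟩
  · intro r s
    constructor
    · rintro ⟨hne, hr, hs, d, hd, hrs⟩
      have hr' : r ∣ d := (Dvd.intro _ rfl).trans hrs
      have hs' : s ∣ d := (Dvd.intro_left _ rfl).trans hrs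
      have := hsub hd
      simp only [Set.mem_insert_iff, Set.mem_singleton_iff] at this
      have hP : r ∣ q + 1 → s ∣ q + 1 → _ := fun h1 h2 =>
        (⟨hne, hr, hs, hsq ▸ Dvd.dvd.mul_right h1 _, hsq ▸ Dvd.dvd.mul_right h2 _,
          Or.inr (Or.inr (Or.inl ⟨h1, h2⟩))⟩ : r ≠ s ∧ r.Prime ∧ s.Prime ∧ r ∣ q ^ 2 - 1 ∧
            s ∣ q ^ 2 - 1 ∧ (r = 2 ∨ s = 2 ∨ (r ∣ q + 1 ∧ s ∣ q + 1) ∨ (r ∣ q - 1 ∧ s ∣ q - 1)))
      have hM : r ∣ q - 1 → s ∣ q - 1 → _ := fun h1 h2 =>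
        (⟨hne, hr, hs, hsq ▸ Dvd.dvd.mul_left h1 _, hsq ▸ Dvd.dvd.mul_left h2 _,
          Or.inr (Or.inr (Or.inr ⟨h1, h2⟩))⟩ : r ≠ s ∧ r.Prime ∧ s.Prime ∧ r ∣ q ^ 2 - 1 ∧
            s ∣ q ^ 2 - 1 ∧ (r = 2 ∨ s = 2 ∨ (r ∣ q + 1 ∧ s ∣ q + 1) ∨ (r ∣ q - 1 ∧ s ∣ q - 1)))
      rcases this with rfl | rfl | rfl | rfl | rfl | rfl
      · exact absurd (Nat.dvd_one.mp hr') hr.one_lt.ne'
      · exfalso
        rw [hqt] at hr' hs'
        have h1 := (Nat.prime_dvd_prime_iff_eq hr ht).mp (hr.dvd_of_dvd_pow hr')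
        have h2 := (Nat.prime_dvd_prime_iff_eq hs ht).mp (hs.dvd_of_dvd_pow hs')
        exact hne (h1.trans h2.symm)
      · exact hP hr' hs'
      · exact hM hr' hs'
      · exact hP (hr'.trans hhp) (hs'.trans hhp)
      · exact hM (hr'.trans hhm) (hs'.trans hhm)
    · rintro ⟨hne, hr, hs, hr2, hs2, h⟩
      refine ⟨hne, hr, hs, ?_⟩
      have hco : Nat.Coprime r s := (Nat.coprime_primes hr hs).mpr hne
      rw [hsq] at hr2 hs2
      rcases h with rfl | rfl | ⟨h1, h2⟩ | ⟨h1, h2⟩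
      · rcases (Nat.Prime.dvd_mul hs).mp hs2 with h | h
        · exact ⟨q + 1, hp, hco.mul_dvd_of_dvd_of_dvd h2p h⟩
        · exact ⟨q - 1, hm, hco.mul_dvd_of_dvd_of_dvd h2m h⟩
      · rcases (Nat.Prime.dvd_mul hr).mp hr2 with h | h
        · exact ⟨q + 1, hp, hco.mul_dvd_of_dvd_of_dvd h h2p⟩
        · exact ⟨q - 1, hm, hco.mul_dvd_of_dvd_of_dvd h h2m⟩
      · exact ⟨q + 1, hp, hco.mul_dvd_of_dvd_of_dvd h1 h2⟩
      · exact ⟨q - 1, hm, hco.mul_dvd_of_dvd_of_dvd h1 h2⟩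

/-- Let F be a finite field of odd characteristic t with q > 5 elements and let S be isomorphic to PSL(2,F) or to SL(2,F). Then the vertices of the character degree graph of S are the primes dividing q(q²−1); the prime t is adjacent to no vertex; two distinct primes dividing q² − 1 are adjacent exactly when one of them is 2, or both divide q + 1, or both divide q − 1. -/
theorem result (F : Type*) [Field F] [Fintype F] (t : ℕ) [Fact t.Prime] [CharP F t] (ht : t ≠ 2) (q : ℕ) (hq : Fintype.card F = q) (h5 : 5 < q) {S : Type*} [Group S] [Finite S] (hS : Nonempty (S ≃* Matrix.ProjectiveSpecialLinearGroup (Fin 2) F) ∨ Nonempty (S ≃* Matrix.SpecialLinearGroup (Fin 2) F)) : Cfsg.degreePrimes S = {r : ℕ | r.Prime ∧ r ∣ q * (q ^ 2 - 1)} ∧ ∀ r s : ℕ, (Cfsg.degreeGraph S).Adj r s ↔ (r ≠ s ∧ r.Prime ∧ s.Prime ∧ r ∣ q ^ 2 - 1 ∧ s ∣ q ^ 2 - 1 ∧ (r = 2 ∨ s = 2 ∨ (r ∣ q + 1 ∧ s ∣ q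 + 1) ∨ (r ∣ q - 1 ∧ s ∣ q - 1))) := by
  subst hq
  have htp : t.Prime := Fact.out
  obtain ⟨k, -, hk⟩ := FiniteField.card F t
  have hodd : Odd (Fintype.card F) := by
    rw [hk]
    exact Odd.pow (htp.odd_of_ne_two ht)
  have h7 : 7 ≤ Fintype.card F := by
    obtain ⟨m, hm⟩ := hodd
    omega
  have hD : Cfsg.charDegrees S ⊆ {1, Fintype.card F, Fintype.card F + 1, Fintype.card F - 1,
      (Fintype.card F + 1) / 2, (Fintype.card F - 1) / 2} ∧ Fintype.card F ∈ Cfsg.charDegrees S ∧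
      Fintype.card F + 1 ∈ Cfsg.charDegrees S ∧ Fintype.card F - 1 ∈ Cfsg.charDegrees S := by
    rcases hS with ⟨⟨e⟩⟩ | ⟨⟨e⟩⟩
    · rw [Cfsg.Agent.Lib.Helper14.charDegrees_congr e]
      exact Cfsg.Agent.Lib.Helper14.charDegrees_PSL2_odd hodd h7
    · rw [Cfsg.Agent.Lib.Helper14.charDegrees_congr e,
        Cfsg.Agent.Lib.Helper14.charDegrees_SL2_odd hodd (by omega)]
      refine ⟨subset_rfl, ?_, ?_, ?_⟩ <;> simp
  obtain ⟨h1, h2, h3, h4⟩ := hD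
  exact graph_of_degrees (Cfsg.charDegrees S) (Fintype.card F) t k htp hk hodd h7 h1 h2 h3 h4

end Cfsg.Agent.S4774
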