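import Cfsg.Statements.S4784
import Cfsg.Agent.Lib.Helper24.FrobSchur
import Cfsg.Agent.Lib.Helper2.Induction
import Cfsg.Agent.Lib.Helper2.Expansion
import Cfsg.Agent.Lib.Helper2.OddOrderChars
import Cfsg.Agent.Lib.Helper25.Kernel

set_option autoImplicit false
set_option linter.style.haveILetI false
set_option linter.unusedSectionVars false
open Cfsg

namespace Cfsg.Agent.S4784

open Cfsg.Agent.Lib.Helper24
open Cfsg.Agent.Lib.Helper2
open Cfsg.Agent.Lib.Helper25
open scoped ComplexConjugate

universe u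

section

variable {G : Type u} [Group G] [Fintype G] (H : Subgroup G) [Fintype H]

/-- Multiplicity in the permutation character. -/
theorem inner_perm (χ : Cfsg.IrrCharacter G) :
    Cfsg.classInner (Cfsg.indFun H (fun _ : H => (1 : ℂ))) (χ : G → ℂ)
      = (Nat.card H : ℂ)⁻¹ * ∑ h : H, conj ((χ : G → ℂ) h) := by
  classical
  rw [frobenius_reciprocity H _ _ (IrrCharacter.isClassFunction χ), classInner_def]
  congr 1
  apply Finset.sum_congr rfl
  intro h _
  rw [one_mul]

/-- A constituent of the permutation character has the normal core in its kernel. -/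
theorem core_le_ker (χ : Cfsg.IrrCharacter G)
    (h : Cfsg.classInner (Cfsg.indFun H (fun _ : H => (1 : ℂ))) (χ : G → ℂ) ≠ 0) :
    ∀ n ∈ H.normalCore, (χ : G → ℂ) n = (χ : G → ℂ) 1 := by
  classical
  haveI : Fintype H.normalCore := Fintype.ofFinite _
  rcases sum_normal_char χ.2 H.normalCore with h1 | h1
  · exact h1
  · exfalso
    apply h
    rw [inner_perm]
    have hsum : ∑ h : H, (χ : G → ℂ) h = 0 := by
      have h2 : (Nat.card H.normalCore : ℂ) * ∑ h : H, (χ : G → ℂ) h
          = ∑ h : H, ∑ n : H.normalCore, (χ : G → ℂ) ((h : G) * (n : G)) := by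
        rw [Finset.sum_comm]
        rw [Nat.card_eq_fintype_card, ← Finset.card_univ, ← nsmul_eq_mul, ← Finset.sum_const]
        apply Finset.sum_congr rfl
        intro n _
        symm
        exact Fintype.sum_equiv (Equiv.mulRight (⟨(n : G), H.normalCore_le n.2⟩ : H)) _ _
          (fun h => rfl)
      rw [Finset.sum_congr rfl (fun (h : H) _ => h1 (h : G)), Finset.sum_const_zero] at h2
      have hne : (Nat.card H.normalCore : ℂ) ≠ 0 := by
        exact_mod_cast Nat.card_pos.ne'
      exact (mul_eq_zero.1 h2).resolve_left hne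
    rw [← map_sum, hsum, map_zero, mul_zero]

/-- The principal character is a constituent of the permutation character. -/
theorem inner_perm_triv :
    Cfsg.classInner (Cfsg.indFun H (fun _ : H => (1 : ℂ))) ((trivIrr G : Cfsg.IrrCharacter G) : G → ℂ)
      = 1 := by
  classical
  rw [inner_perm]
  simp only [trivIrr_apply, map_one, Finset.sum_const, Finset.card_univ, nsmul_eq_mul, mul_one]
  rw [← Nat.card_eq_fintype_card]
  exact inv_mul_cancel₀ (by exact_mod_cast Nat.card_pos.ne')

omit [Fintype H] in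
theorem fs_triv : (Nat.card G : ℂ)⁻¹ * ∑ g : G, ((trivIrr G : Cfsg.IrrCharacter G) : G → ℂ) (g * g) = 1 := by
  simp only [trivIrr_apply, Finset.sum_const, Finset.card_univ, nsmul_eq_mul, mul_one]
  rw [← Nat.card_eq_fintype_card]
  exact inv_mul_cancel₀ (by exact_mod_cast Nat.card_pos.ne')

omit [Fintype H] in
/-- The Frobenius–Schur sum of the permutation character counts square roots of elements
of `H`. -/
theorem fs_perm :
    (Nat.card G : ℂ)⁻¹ * ∑ g : G, Cfsg.indFun H (fun _ : H => (1 : ℂ)) (g * g)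
      = (Nat.card H : ℂ)⁻¹ * (Nat.card {g : G // g * g ∈ H} : ℂ) := by
  classical
  have h1 : ∀ y : G, Cfsg.extendByZero H (fun _ : H => (1 : ℂ)) y = if y ∈ H then 1 else 0 := by
    intro y
    split_ifs with hy
    · rw [extendByZero_of_mem H _ hy]
    · rw [extendByZero_of_not_mem H _ hy]
  simp only [indFun_apply, h1]
  rw [← Finset.mul_sum, Finset.sum_comm]
  have h2 : ∀ x : G, ∑ g : G, (if x⁻¹ * (g * g) * x ∈ H then (1 : ℂ) else 0)
      = (Nat.card {g : G // g * g ∈ H} : ℂ) := by
    intro x
    rw [Nat.card_eq_fintype_card, Fintype.card_subtype, Finset.card_filter, Nat.cast_sum]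
    apply Fintype.sum_equiv (MulAut.conj x⁻¹).toEquiv
    intro g
    have : (MulAut.conj x⁻¹).toEquiv g * (MulAut.conj x⁻¹).toEquiv g = x⁻¹ * (g * g) * x := by
      simp only [MulEquiv.toEquiv_eq_coe, MulEquiv.coe_toEquiv, MulAut.conj_apply, inv_inv]
      group
    rw [this]
    split_ifs <;> simp
  rw [Finset.sum_congr rfl (fun x _ => h2 x), Finset.sum_const, Finset.card_univ, nsmul_eq_mul,
    ← Nat.card_eq_fintype_card]
  have hne : (Nat.card G : ℂ) ≠ 0 := by exact_mod_cast Nat.card_pos.ne'
  field_simp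

end

/-- Let H be a subgroup of the finite group G and consider the permutation character of G on the cosets of H (the function induced from the principal character of H). Then exactly one irreducible constituent of it is real-valued with Frobenius–Schur indicator +1 (namely the principal character) if and only if the normal core of H has odd index in G. -/
theorem result {G : Type*} [Group G] [Fintype G] (H : Subgroup G) : Nat.card {χ : Cfsg.IrrCharacter G // Cfsg.classInner (Cfsg.indFun H (fun _ : H => (1 : ℂ))) (χ : G → ℂ) ≠ 0 ∧ (∀ g : G, (starRingEnd ℂ) ((χ : G → ℂ) g) = (χ : G → ℂ) g) ∧ (Nat.card G : ℂ)⁻¹ * ∑ g : G, (χ : G → ℂ) (g * g) = 1} = 1 ↔ Odd H.normalCore.index := by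
  classical
  haveI : Fintype H := Fintype.ofFinite H
  haveI : Fintype (IrrCharacter G) := Fintype.ofFinite _
  set π : G → ℂ := Cfsg.indFun H (fun _ : H => (1 : ℂ)) with hπ
  have htriv : Cfsg.classInner π ((trivIrr G : Cfsg.IrrCharacter G) : G → ℂ) ≠ 0 ∧
      (∀ g : G, (starRingEnd ℂ) (((trivIrr G : Cfsg.IrrCharacter G) : G → ℂ) g)
        = ((trivIrr G : Cfsg.IrrCharacter G) : G → ℂ) g) ∧
      (Nat.card G : ℂ)⁻¹ * ∑ g : G, ((trivIrr G : Cfsg.IrrCharacter G) : G → ℂ) (g * g) = 1 := by
    refine ⟨?_, ?_, fs_triv⟩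
    · rw [hπ, inner_perm_triv]; exact one_ne_zero
    · intro g; simp [trivIrr_apply]
  constructor
  · intro hcard
    by_contra hodd
    rw [Nat.not_odd_iff_even] at hodd
    have huniq : ∀ χ : Cfsg.IrrCharacter G, (Cfsg.classInner π (χ : G → ℂ) ≠ 0 ∧
        (∀ g : G, (starRingEnd ℂ) ((χ : G → ℂ) g) = (χ : G → ℂ) g) ∧
        (Nat.card G : ℂ)⁻¹ * ∑ g : G, (χ : G → ℂ) (g * g) = 1) → χ = trivIrr G := by
      intro χ hχ
      rw [Nat.card_eq_one_iff_unique] at hcard
      obtain ⟨hsub, _⟩ := hcard
      exact congrArg Subtype.val (hsub.elim ⟨χ, hχ⟩ ⟨trivIrr G, htriv⟩)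
    -- an element `t ∉ H` with `t * t ∈ H`
    obtain ⟨t, htH, htt⟩ : ∃ t : G, t ∉ H ∧ t * t ∈ H := by
      have h2 : 2 ∣ Nat.card (G ⧸ H.normalCore) := by
        rw [← Subgroup.index_eq_card]; exact even_iff_two_dvd.1 hodd
      obtain ⟨q, hq⟩ := exists_prime_orderOf_dvd_card' (G := G ⧸ H.normalCore) 2 h2
      obtain ⟨t₀, rfl⟩ := QuotientGroup.mk_surjective q
      have hq1 : ((t₀ : G) : G ⧸ H.normalCore) ≠ 1 := by
        intro h1
        rw [h1, orderOf_one] at hq
        omega
      have hq2 : ((t₀ : G) : G ⧸ H.normalCore) ^ 2 = 1 := by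
        rw [← hq]; exact pow_orderOf_eq_one _
      have ht₀N : t₀ ∉ H.normalCore := by
        intro hmem
        exact hq1 ((QuotientGroup.eq_one_iff t₀).2 hmem)
      have ht₀2 : t₀ * t₀ ∈ H.normalCore := by
        rw [← QuotientGroup.eq_one_iff, QuotientGroup.mk_mul, ← pow_two]
        exact hq2
      -- conjugate outside `H`
      have : ∃ b : G, b * t₀ * b⁻¹ ∉ H := by
        by_contra hcon
        push Not at hcon
        exact ht₀N hcon
      obtain ⟨b, hb⟩ := this
      refine ⟨b * t₀ * b⁻¹, hb, ?_⟩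
      have h3 : b * t₀ * b⁻¹ * (b * t₀ * b⁻¹) = b * (t₀ * t₀) * b⁻¹ := by group
      rw [h3]
      exact H.normalCore_le (H.normalCore_normal.conj_mem _ ht₀2 b)
    -- counting
    have hcount : Nat.card H + 1 ≤ Nat.card {g : G // g * g ∈ H} := by
      have hH : Fintype.card H = (Finset.univ.filter (fun g : G => g ∈ H)).card :=
        Fintype.card_subtype _
      have hS : Fintype.card {g : G // g * g ∈ H}
          = (Finset.univ.filter (fun g : G => g * g ∈ H)).card := Fintype.card_subtype _
      rw [Nat.card_eq_fintype_card, Nat.card_eq_fintype_card, hH, hS]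
      have hsub : (Finset.univ.filter (fun g : G => g ∈ H)) ∪ {t}
          ⊆ Finset.univ.filter (fun g : G => g * g ∈ H) := by
        intro g hg
        rw [Finset.mem_union, Finset.mem_filter, Finset.mem_singleton] at hg
        rw [Finset.mem_filter]
        refine ⟨Finset.mem_univ _, ?_⟩
        rcases hg with ⟨_, hg⟩ | rfl
        · exact H.mul_mem hg hg
        · exact htt
      have hdisj : Disjoint (Finset.univ.filter (fun g : G => g ∈ H)) {t} := by
        rw [Finset.disjoint_singleton_right, Finset.mem_filter]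
        exact fun h => htH h.2
      have := Finset.card_le_card hsub
      rw [Finset.card_union_of_disjoint hdisj, Finset.card_singleton] at this
      exact this
    -- expansion of the Frobenius-Schur sum
    have hπcf : Cfsg.IsClassFunction G π := indFun_isClassFunction H _
    have hπchar : Cfsg.IsCharacter G π :=
      indFun_isCharacter H _ ⟨1, Representation.trivial ℂ H (Fin 1 → ℂ), by
        funext h; simp [Representation.character]⟩
    have hexp := Cfsg.Agent.Lib.Helper25.classFunction_expansion π hπcf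
    have hsum : (Nat.card G : ℂ)⁻¹ * ∑ g : G, π (g * g)
        = ∑ χ : Cfsg.IrrCharacter G, Cfsg.classInner π (χ : G → ℂ) *
            ((Nat.card G : ℂ)⁻¹ * ∑ g : G, (χ : G → ℂ) (g * g)) := by
      have h1 : ∀ g : G, π (g * g)
          = ∑ χ : Cfsg.IrrCharacter G, Cfsg.classInner π (χ : G → ℂ) * (χ : G → ℂ) (g * g) := by
        intro g
        exact hexp (g * g)
      rw [Finset.sum_congr rfl (fun g _ => h1 g), Finset.sum_comm, Finset.mul_sum]
      apply Finset.sum_congr rfl
      intro χ _
      rw [← Finset.mul_sum]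
      ring
    rw [fs_perm] at hsum
    -- each term other than the principal one has nonpositive real part
    have hterm : ∀ χ : Cfsg.IrrCharacter G, χ ≠ trivIrr G →
        ∃ z : ℤ, z ≤ 0 ∧ Cfsg.classInner π (χ : G → ℂ) *
            ((Nat.card G : ℂ)⁻¹ * ∑ g : G, (χ : G → ℂ) (g * g)) = (z : ℂ) := by
      intro χ hχ
      obtain ⟨m, hm⟩ := classInner_isCharacter_nat hπchar (IsIrrCharacter.isCharacter χ.2)
      obtain ⟨ε, hεabs, hε, hreal⟩ := irr_fsIndicator χ
      rw [hm, ← hε]
      refine ⟨(m : ℤ) * ε, ?_, by push_cast; ring⟩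
      by_cases hε1 : ε = 1
      · -- then `m = 0`
        have hm0 : m = 0 := by
          by_contra hm0
          apply hχ
          apply huniq
          refine ⟨?_, ?_, ?_⟩
          · rw [hm]; exact_mod_cast hm0
          · intro g
            exact Complex.conj_eq_iff_im.2 (hreal (by rw [hε1]; exact one_ne_zero) g)
          · rw [← hε, hε1, Int.cast_one]
        rw [hm0]; simp
      · have : ε ≤ 0 := by
          have := abs_le.1 hεabs
          omega
        exact mul_nonpos_of_nonneg_of_nonpos (Int.natCast_nonneg m) this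
    choose! z hz0 hz using hterm
    rw [← Finset.add_sum_erase Finset.univ _ (Finset.mem_univ (trivIrr G))] at hsum
    rw [hπ, inner_perm_triv, fs_triv, one_mul] at hsum
    rw [Finset.sum_congr rfl (fun χ hχ => hz χ (Finset.ne_of_mem_erase hχ))] at hsum
    have hHpos : 0 < Nat.card H := Nat.card_pos
    have hne : (Nat.card H : ℂ) ≠ 0 := by exact_mod_cast hHpos.ne'
    have hsum2 : (Nat.card {g : G // g * g ∈ H} : ℂ)
        = (Nat.card H : ℂ) * (1 + ∑ χ ∈ Finset.univ.erase (trivIrr G), (z χ : ℂ)) := by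
      rw [← hsum]; field_simp
    have hsum3 : (Nat.card {g : G // g * g ∈ H} : ℤ)
        = (Nat.card H : ℤ) * (1 + ∑ χ ∈ Finset.univ.erase (trivIrr G), z χ) := by
      have : ((Nat.card {g : G // g * g ∈ H} : ℤ) : ℂ)
          = (((Nat.card H : ℤ) * (1 + ∑ χ ∈ Finset.univ.erase (trivIrr G), z χ) : ℤ) : ℂ) := by
        push_cast
        exact hsum2
      exact_mod_cast this
    have hle : ∑ χ ∈ Finset.univ.erase (trivIrr G), z χ ≤ 0 :=
      Finset.sum_nonpos (fun χ hχ => hz0 χ (Finset.ne_of_mem_erase hχ))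
    have : (Nat.card {g : G // g * g ∈ H} : ℤ) ≤ (Nat.card H : ℤ) := by
      rw [hsum3]
      have h0 : (0 : ℤ) ≤ (Nat.card H : ℤ) := Int.natCast_nonneg _
      nlinarith
    have : Nat.card {g : G // g * g ∈ H} ≤ Nat.card H := by exact_mod_cast this
    omega
  · intro hodd
    rw [Nat.card_eq_one_iff_unique]
    refine ⟨⟨?_⟩, ⟨⟨trivIrr G, htriv⟩⟩⟩
    have key : ∀ χ : Cfsg.IrrCharacter G, (Cfsg.classInner π (χ : G → ℂ) ≠ 0 ∧
        (∀ g : G, (starRingEnd ℂ) ((χ : G → ℂ) g) = (χ : G → ℂ) g) ∧
        (Nat.card G : ℂ)⁻¹ * ∑ g : G, (χ : G → ℂ) (g * g) = 1) → χ = trivIrr G := by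
      rintro χ ⟨hc, hreal, _⟩
      have hker := core_le_ker H χ hc
      obtain ⟨ψ, hψ, hχψ⟩ := exists_deflation H.normalCore χ.2 hker
      haveI : Fintype (G ⧸ H.normalCore) := Fintype.ofFinite _
      have hoddq : Odd (Nat.card (G ⧸ H.normalCore)) := by
        rw [← Subgroup.index_eq_card]; exact hodd
      have hψreal : ∀ q : G ⧸ H.normalCore, (ψ q).im = 0 := by
        intro q
        obtain ⟨g, rfl⟩ := QuotientGroup.mk_surjective q
        rw [← hχψ g]
        exact Complex.conj_eq_iff_im.1 (hreal g)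
      have h1 := eq_trivial_of_real_of_odd hoddq ⟨ψ, hψ⟩ hψreal
      have h2 : ψ = fun _ => 1 := congrArg Subtype.val h1
      apply Subtype.ext
      funext g
      rw [hχψ g, h2]
      rfl
    intro a b
    apply Subtype.ext
    rw [key a.1 a.2, key b.1 b.2]

end Cfsg.Agent.S4784
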