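import Cfsg.Statements.S4856
import Cfsg.Agent.Lib.Helper25.GenOrtho

set_option autoImplicit false
set_option linter.style.haveILetI false
open Cfsg

namespace Cfsg.Agent.S4856

open Cfsg.Agent.Lib.Helper25
open scoped ComplexConjugate

/-- `δ_{w = 1} |G| = ∑ χ(1) χ(w)`. -/
theorem regular_char {G : Type*} [Group G] [Fintype G] [Fintype (IrrCharacter G)] [DecidableEq G]
    (w : G) :
    ∑ χ : IrrCharacter G, (χ : G → ℂ) 1 * (χ : G → ℂ) w =
      if w = 1 then (Nat.card G : ℂ) else 0 := by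
  by_cases h : w = 1
  · subst h
    rw [if_pos rfl, sum_degree_sq]
  · rw [if_neg h, sum_degree_mul_char w h]

theorem count_inv {G : Type*} [Group G] [Fintype G] [Fintype (IrrCharacter G)] (z : G) :
    (Nat.card {xy : G × G // xy.1 * xy.2 * xy.1⁻¹ * xy.2⁻¹ = z} : ℂ) =
      (Nat.card G : ℂ) * ∑ χ : IrrCharacter G, (χ : G → ℂ) z⁻¹ / (χ : G → ℂ) 1 := by
  classical
  have hG : (Nat.card G : ℂ) ≠ 0 := card_ne_zero_complex
  have h1 : (Nat.card {xy : G × G // xy.1 * xy.2 * xy.1⁻¹ * xy.2⁻¹ = z} : ℂ) =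
      ∑ y : G, ∑ x : G, if x * y * x⁻¹ * y⁻¹ * z⁻¹ = 1 then (1 : ℂ) else 0 := by
    rw [Nat.card_eq_fintype_card, Fintype.card_subtype, Finset.card_filter]
    push_cast
    rw [Fintype.sum_prod_type, Finset.sum_comm]
    apply Finset.sum_congr rfl; intro y _
    apply Finset.sum_congr rfl; intro x _
    congr 1
    apply propext
    constructor
    · intro h; rw [h, mul_inv_cancel]
    · intro h; exact mul_inv_eq_one.1 h
  have h2 : ∀ w : G, (if w = 1 then (1 : ℂ) else 0) =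
      (Nat.card G : ℂ)⁻¹ * ∑ χ : IrrCharacter G, (χ : G → ℂ) 1 * (χ : G → ℂ) w := by
    intro w
    rw [regular_char]
    split_ifs
    · rw [inv_mul_cancel₀ hG]
    · rw [mul_zero (M₀ := ℂ)]
  rw [h1]
  simp_rw [h2]
  simp_rw [Finset.mul_sum]
  rw [Finset.sum_comm]
  have h3 : ∀ y : G, (∑ x : G, ∑ χ : IrrCharacter G,
      (Nat.card G : ℂ)⁻¹ * ((χ : G → ℂ) 1 * (χ : G → ℂ) (x * y * x⁻¹ * y⁻¹ * z⁻¹))) =
      ∑ χ : IrrCharacter G, (χ : G → ℂ) (y⁻¹ * z⁻¹) * (χ : G → ℂ) y := by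
    intro y
    rw [Finset.sum_comm]
    apply Finset.sum_congr rfl; intro χ _
    have hcf := isClassFunction_of_char (isCharacter_of_irr χ.2)
    have h4 : ∀ x : G, (χ : G → ℂ) (x * y * x⁻¹ * y⁻¹ * z⁻¹) =
        (χ : G → ℂ) ((y⁻¹ * z⁻¹) * (x * y * x⁻¹)) := by
      intro x
      have := hcf ((y⁻¹ * z⁻¹) * (x * y * x⁻¹)) (x * y * x⁻¹)
      rw [← this]
      congr 1
      group
    simp_rw [h4]
    rw [← Finset.mul_sum, ← Finset.mul_sum, sum_char_mul_conj χ.2]
    have h1ne := irr_one_ne_zero χ.2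
    field_simp
  -- swap sums: currently ∑ x, ∑ y ... after sum_comm; make it ∑ y, ∑ x
  rw [Finset.sum_comm]
  simp_rw [h3]
  rw [Finset.sum_comm]
  apply Finset.sum_congr rfl; intro χ _
  have hcf := isClassFunction_of_char (isCharacter_of_irr χ.2)
  have h5 := sum_char_mul_char_inv χ.2 χ.2 z⁻¹
  rw [if_pos rfl] at h5
  rw [mul_div_assoc] at h5
  rw [← h5]
  apply Fintype.sum_equiv (Equiv.inv G)
  intro y
  simp only [Equiv.inv_apply, inv_inv]
  congr 1
  have := hcf (z⁻¹ * y⁻¹) y⁻¹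
  rw [← this]
  congr 1
  group

/-- For an element z of a finite group G, the number of pairs (x, y) of elements with x y x⁻¹ y⁻¹ = z equals the order of G times the sum over the irreducible characters χ of χ(z)/χ(1). -/
theorem result {G : Type*} [Group G] [Finite G] (z : G) : (Nat.card {xy : G × G // xy.1 * xy.2 * xy.1⁻¹ * xy.2⁻¹ = z} : ℂ) = (Nat.card G : ℂ) * ∑ᶠ χ : Cfsg.IrrCharacter G, (χ : G → ℂ) z / (χ : G → ℂ) 1 := by
  classical
  haveI := Fintype.ofFinite G
  haveI : Fintype (IrrCharacter G) := Fintype.ofFinite _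
  rw [finsum_eq_sum_of_fintype]
  have h := count_inv z
  have h' := congrArg (starRingEnd ℂ) h
  rw [map_natCast] at h'
  rw [h', map_mul, map_natCast, map_sum]
  congr 1
  apply Finset.sum_congr rfl; intro χ _
  rw [map_div₀, char_inv (isCharacter_of_irr χ.2), Complex.conj_conj]
  obtain ⟨n, hn⟩ := char_one_eq (isCharacter_of_irr χ.2)
  rw [hn, map_natCast]

end Cfsg.Agent.S4856
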