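import Cfsg.Statements.S4808
import Cfsg.Agent.S4856
import Cfsg.Agent.Lib.Helper25.Codegree

set_option autoImplicit false
set_option linter.style.haveILetI false
open Cfsg

namespace Cfsg.Agent.S4808

open Cfsg.Agent.Lib.Helper25
open scoped ComplexConjugate

universe u

/-- Sum of the squares of the degrees is the group order (in `ℕ`). -/
theorem sum_sq_nat {G : Type u} [Group G] [Fintype G] [Fintype (IrrCharacter G)] :
    ∑ χ : IrrCharacter G, charDegree (χ : G → ℂ) ^ 2 = Nat.card G := by
  have h := sum_degree_sq (G := G)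
  have h2 : ∀ χ : IrrCharacter G, (χ : G → ℂ) 1 * (χ : G → ℂ) 1 =
      ((charDegree (χ : G → ℂ) ^ 2 : ℕ) : ℂ) := by
    intro χ
    rw [char_one_eq_charDegree (isCharacter_of_irr χ.2)]
    push_cast
    ring
  simp_rw [h2] at h
  exact_mod_cast h

/-- Sum of the squares of the degrees of the characters with `N` in the kernel. -/
theorem sum_sq_ker_nat {G : Type u} [Group G] [Fintype G] [Fintype (IrrCharacter G)]
    (N : Subgroup G) [N.Normal] [DecidablePred fun χ : IrrCharacter G =>
      ∀ n ∈ N, (χ : G → ℂ) n = (χ : G → ℂ) 1] :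
    Nat.card N * ∑ χ ∈ Finset.univ.filter (fun χ : IrrCharacter G =>
      ∀ n ∈ N, (χ : G → ℂ) n = (χ : G → ℂ) 1), charDegree (χ : G → ℂ) ^ 2 = Nat.card G := by
  classical
  haveI : Fintype N := Fintype.ofFinite _
  have h1 : ∑ n : N, ∑ χ : IrrCharacter G, (χ : G → ℂ) 1 * (χ : G → ℂ) (n : G) =
      (Nat.card G : ℂ) := by
    simp_rw [Cfsg.Agent.S4856.regular_char]
    rw [Finset.sum_eq_single (1 : N)]
    · simp
    · intro n _ hn
      rw [if_neg]
      intro h
      apply hn
      exact Subtype.ext h
    · intro h; exact absurd (Finset.mem_univ _) h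
  rw [Finset.sum_comm] at h1
  have h2 : ∀ χ : IrrCharacter G, ∑ n : N, (χ : G → ℂ) 1 * (χ : G → ℂ) (n : G) =
      if (∀ n ∈ N, (χ : G → ℂ) n = (χ : G → ℂ) 1) then
        ((Nat.card N * charDegree (χ : G → ℂ) ^ 2 : ℕ) : ℂ) else 0 := by
    intro χ
    split_ifs with hk
    · have : ∀ n : N, (χ : G → ℂ) 1 * (χ : G → ℂ) (n : G) =
          (χ : G → ℂ) 1 * (χ : G → ℂ) 1 := fun n => by rw [hk n n.2]
      simp_rw [this]
      rw [Finset.sum_const, Finset.card_univ, nsmul_eq_mul, ← Nat.card_eq_fintype_card,
        char_one_eq_charDegree (isCharacter_of_irr χ.2)]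
      push_cast
      ring
    · rcases sum_normal_char χ.2 N with h3 | h3
      · exact absurd h3 hk
      · have := h3 1
        simp only [one_mul] at this
        rw [← Finset.mul_sum, this, mul_zero]
  simp_rw [h2] at h1
  rw [← Finset.sum_filter] at h1
  rw [Finset.mul_sum]
  rw [← Nat.cast_sum] at h1
  exact_mod_cast h1

theorem exists_codegree_dvd (p : ℕ) (hp : p.Prime) :
    ∀ (n : ℕ) (G : Type u) [Group G] [Finite G], Nat.card G = n → p ∣ n →
      ∃ χ : Cfsg.IrrCharacter G, p ∣ (Nat.card G /
        (Nat.card {g : G // (χ : G → ℂ) g = (χ : G → ℂ) 1} * Cfsg.charDegree (χ : G → ℂ))) := by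
  intro n
  induction n using Nat.strong_induction_on with
  | _ n ih =>
    intro G _ _ hcard hpn
    classical
    haveI := Fintype.ofFinite G
    haveI : Fintype (IrrCharacter G) := Fintype.ofFinite _
    haveI : Fact p.Prime := ⟨hp⟩
    by_cases hA : ∃ N : Subgroup G, N.Normal ∧ N ≠ ⊥ ∧ p ∣ N.index
    · obtain ⟨N, hNn, hNbot, hpN⟩ := hA
      haveI := hNn
      have hlt : N.index < n := by
        rw [← hcard, ← Subgroup.card_mul_index N]
        have h1 : 1 < Nat.card N := by
          rw [Subgroup.one_lt_card_iff_ne_bot]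
          exact hNbot
        have hidx : 0 < N.index := Nat.pos_of_ne_zero Subgroup.index_ne_zero_of_finite
        nlinarith
      obtain ⟨ψ, hψ⟩ := ih N.index hlt (G ⧸ N) (Subgroup.index_eq_card N).symm hpN
      refine ⟨⟨fun g => (ψ : G ⧸ N → ℂ) (g : G ⧸ N), isIrrCharacter_inflation N ψ.2⟩, ?_⟩
      have := codegree_inflation N ψ.2
      rw [← this] at hψ
      exact hψ
    · push Not at hA
      obtain ⟨x, hx⟩ := exists_prime_orderOf_dvd_card' (G := G) p (hcard ▸ hpn)
      have hx1 : x ≠ 1 := by
        intro h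
        rw [h, orderOf_one] at hx
        exact hp.one_lt.ne hx
      set M := Subgroup.normalClosure ({x} : Set G) with hM
      haveI : M.Normal := Subgroup.normalClosure_normal
      have hxM : x ∈ M := Subgroup.subset_normalClosure (Set.mem_singleton x)
      have hMbot : M ≠ ⊥ := by
        intro h
        rw [h, Subgroup.mem_bot] at hxM
        exact hx1 hxM
      have hmin : ∀ N : Subgroup G, N.Normal → N ≠ ⊥ → M ≤ N := by
        intro N hNn hNbot
        haveI := hNn
        apply Subgroup.normalClosure_le_normal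
        rw [Set.singleton_subset_iff]
        by_contra hxN
        apply hA N hNn hNbot
        have h1 : (x : G ⧸ N) ≠ 1 := by
          intro h
          exact hxN ((QuotientGroup.eq_one_iff x).1 h)
        have h2 : (x : G ⧸ N) ^ p = 1 := by
          rw [← QuotientGroup.mk_pow, ← hx, pow_orderOf_eq_one, QuotientGroup.mk_one]
        have h3 := orderOf_eq_prime h2 h1
        rw [Subgroup.index_eq_card, ← h3]
        exact orderOf_dvd_natCard _
      have hsum := sum_sq_nat (G := G)
      have hsumM := sum_sq_ker_nat (G := G) M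
      have hidx : ∑ χ ∈ Finset.univ.filter (fun χ : IrrCharacter G =>
          ∀ n ∈ M, (χ : G → ℂ) n = (χ : G → ℂ) 1), charDegree (χ : G → ℂ) ^ 2 = M.index := by
        have h1 := Subgroup.card_mul_index M
        rw [← hsumM] at h1
        have hpos : 0 < Nat.card M := Nat.card_pos
        exact (Nat.eq_of_mul_eq_mul_left hpos h1).symm
      have hrest : ¬ p ∣ ∑ χ ∈ Finset.univ.filter (fun χ : IrrCharacter G =>
          ¬ ∀ n ∈ M, (χ : G → ℂ) n = (χ : G → ℂ) 1), charDegree (χ : G → ℂ) ^ 2 := by
        intro hdvd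
        have hsplit := Finset.sum_filter_add_sum_filter_not (Finset.univ : Finset (IrrCharacter G))
          (fun χ : IrrCharacter G => ∀ n ∈ M, (χ : G → ℂ) n = (χ : G → ℂ) 1)
          (fun χ => charDegree (χ : G → ℂ) ^ 2)
        rw [hsum, hidx] at hsplit
        have hpG : p ∣ Nat.card G := hcard ▸ hpn
        rw [← hsplit] at hpG
        have := (Nat.dvd_add_left hdvd).1 hpG
        exact hA M inferInstance hMbot this
      have hex : ∃ χ ∈ Finset.univ.filter (fun χ : IrrCharacter G =>
          ¬ ∀ n ∈ M, (χ : G → ℂ) n = (χ : G → ℂ) 1), ¬ p ∣ charDegree (χ : G → ℂ) ^ 2 := by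
        by_contra hall
        apply hrest
        apply Finset.dvd_sum
        intro χ hχ
        by_contra hnd
        exact hall ⟨χ, hχ, hnd⟩
      obtain ⟨χ, hχmem, hχp⟩ := hex
      rw [Finset.mem_filter] at hχmem
      have hχM := hχmem.2
      refine ⟨χ, ?_⟩
      obtain ⟨K, hKn, hK⟩ := exists_kernel (isCharacter_of_irr χ.2)
      have hKbot : K = ⊥ := by
        by_contra hne
        apply hχM
        intro n hn
        exact (hK n).1 (hmin K hKn hne hn)
      have hfaith : ∀ g, (χ : G → ℂ) g = (χ : G → ℂ) 1 → g = 1 := by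
        intro g hg
        have := (hK g).2 hg
        rw [hKbot, Subgroup.mem_bot] at this
        exact this
      have hmul := codegree_mul_of_faithful χ.2 hfaith
      have hpG : p ∣ Nat.card G := hcard ▸ hpn
      rw [← hmul] at hpG
      rcases (Nat.Prime.dvd_mul hp).1 hpG with h1 | h1
      · exact h1
      · exfalso
        apply hχp
        exact Dvd.dvd.pow h1 (by norm_num)

/-- The codegree of an irreducible complex character χ of a finite group G is [G : ker χ] / χ(1), where ker χ is the set of elements at which χ takes the value χ(1). A prime divides the order of G if and only if it divides the codegree of some irreducible complex character of G. -/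
theorem result {G : Type*} [Group G] [Finite G] (p : ℕ) (hp : p.Prime) : p ∣ Nat.card G ↔ ∃ χ : Cfsg.IrrCharacter G, p ∣ (Nat.card G / (Nat.card {g : G // (χ : G → ℂ) g = (χ : G → ℂ) 1} * Cfsg.charDegree (χ : G → ℂ))) := by
  constructor
  · intro h
    exact exists_codegree_dvd p hp (Nat.card G) G rfl h
  · rintro ⟨χ, hχ⟩
    obtain ⟨K, hKn, hK⟩ := exists_kernel (isCharacter_of_irr χ.2)
    haveI := hKn
    have h1 := codegree_mul χ.2 K hK
    have h2 : p ∣ K.index := by
      rw [← h1]
      exact Dvd.dvd.mul_right hχ _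
    exact h2.trans (Subgroup.index_dvd_card K)

end Cfsg.Agent.S4808
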