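import Cfsg.Statements.S4796
import Cfsg.Agent.S4808
import Cfsg.Agent.Lib.Helper25.Codegree
import Cfsg.Agent.Lib.Helper25.Constituent
import Cfsg.Agent.Lib.Helper2.Clifford
import Cfsg.Agent.Lib.Helper22.Frobenius

set_option autoImplicit false
set_option linter.style.haveILetI false
open Cfsg

namespace Cfsg.Agent.S4796

open Cfsg.Agent.Lib.Helper25
open Cfsg.Agent.Lib.Helper2
open scoped ComplexConjugate

universe u

/-- If `θ ∈ Irr G` has degree `d` with `|G| = p d`, and `P` is a normal
subgroup of order `p`, then the centralizer of `P` has order at most `p`. -/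
theorem card_centralizer_le {G : Type u} [Group G] [Fintype G] (θ : Cfsg.IrrCharacter G)
    (p : ℕ) (hp : p.Prime)
    (hcard : Nat.card G = p * Cfsg.charDegree (θ : G → ℂ))
    (P : Subgroup G) [hPn : P.Normal] (hPcard : Nat.card P = p) :
    Nat.card (Subgroup.centralizer (P : Set G)) ≤ p := by
  classical
  haveI : Fintype P := Fintype.ofFinite P
  haveI : Fintype (IrrCharacter P) := Fintype.ofFinite _
  set d := charDegree (θ : G → ℂ) with hd
  have hdpos : 0 < d := irr_degree_pos θ.2
  have hθ1 : (θ : G → ℂ) 1 = (d : ℂ) := char_one_eq_charDegree (isCharacter_of_irr θ.2)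
  have hPidx : P.index = d := by
    have := Subgroup.card_mul_index P
    rw [hPcard, hcard] at this
    exact Nat.eq_of_mul_eq_mul_left hp.pos this
  haveI : Fact p.Prime := ⟨hp⟩
  haveI : IsCyclic P := isCyclic_of_prime_card hPcard
  have hPcomm : ∀ a b : P, a * b = b * a := fun a b =>
    (IsCyclic.commGroup (α := P)).mul_comm a b
  -- the restriction
  set res : P → ℂ := fun z : P => (θ : G → ℂ) z with hres
  have hresc : IsCharacter P res := IsCharacter.restrict (isCharacter_of_irr θ.2) P
  have hres0 : res ≠ 0 := by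
    intro h
    have := congrFun h 1
    simp only [hres, Pi.zero_apply, Subgroup.coe_one] at this
    rw [hθ1] at this
    exact hdpos.ne' (by exact_mod_cast this)
  obtain ⟨lam, Ψ, hΨ, hresΨ⟩ := exists_irr_add_of_ne_zero hresc hres0
  obtain ⟨m, hm⟩ := classInner_isCharacter_nat hresc (isCharacter_of_irr lam.2)
  have hlam1 : (lam : P → ℂ) 1 = ((1 : ℕ) : ℂ) := by
    rw [IsIrrCharacter.apply_one_of_comm hPcomm lam.2]; simp
  have hm0 : m ≠ 0 := by
    intro h0
    obtain ⟨k, hk⟩ := classInner_isCharacter_nat hΨ (isCharacter_of_irr lam.2)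
    rw [hresΨ, classInner_add_left, classInner_irrCharacter_self, hk, h0] at hm
    have : ((1 + k : ℕ) : ℂ) = ((0 : ℕ) : ℂ) := by push_cast; rw [hm]; simp
    have := Nat.cast_injective this
    omega
  have hmle : m * d ≤ P.index * 1 :=
    mult_restrict_mul_degree_le P θ (isCharacter_of_irr lam.2) hm hθ1 hlam1
  rw [hPidx, mul_one] at hmle
  have hm1 : m = 1 := by
    have : m ≤ 1 := by
      by_contra hcon
      push Not at hcon
      nlinarith
    omega
  -- Clifford
  have hconst : Cfsg.classInner (fun n : P => (θ : G → ℂ) n) (lam : P → ℂ) ≠ 0 := by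
    change Cfsg.classInner res (lam : P → ℂ) ≠ 0
    rw [hm, hm1]; simp
  have hcl := clifford_restriction P θ.2 lam.2 hconst
  change res = Cfsg.classInner res (lam : P → ℂ) • _ at hcl
  rw [hm, hm1, Nat.cast_one, one_smul] at hcl
  set S : Set (P → ℂ) := {ψ : P → ℂ | ∃ g : G, ψ = conjFun P g (lam : P → ℂ)} with hS
  have hfin : S.Finite := finite_conjugates P (lam : P → ℂ)
  rw [finsum_mem_eq_finite_toFinset_sum _ hfin] at hcl
  have hSd : hfin.toFinset.card = d := by
    have h1 := congrFun hcl 1
    rw [Finset.sum_apply] at h1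
    have h2 : ∀ ψ ∈ hfin.toFinset, ψ 1 = (1 : ℂ) := by
      intro ψ hψ
      rw [Set.Finite.mem_toFinset] at hψ
      obtain ⟨g, rfl⟩ := hψ
      exact IsIrrCharacter.apply_one_of_comm hPcomm (isIrrCharacter_conjFun P g lam.2)
    rw [Finset.sum_congr rfl h2] at h1
    simp only [hres, Subgroup.coe_one, Finset.sum_const, nsmul_eq_mul, mul_one] at h1
    rw [hθ1] at h1
    exact_mod_cast h1.symm
  -- the orbit map factors through G ⧸ C
  set C := Subgroup.centralizer (P : Set G) with hC
  have hfix : ∀ c ∈ C, conjFun P c (lam : P → ℂ) = (lam : P → ℂ) := by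
    intro c hc
    funext z
    rw [conjFun_apply]
    refine congrArg _ (Subtype.ext ?_)
    have := hc z z.2
    change c * z * c⁻¹ = z
    rw [← this]; group
  let f : Quotient (QuotientGroup.rightRel C) → (P → ℂ) := fun q =>
    Quotient.liftOn' q (fun g => conjFun P g (lam : P → ℂ)) (by
      intro a b hab
      rw [QuotientGroup.rightRel_apply] at hab
      have : b = (b * a⁻¹) * a := by group
      change conjFun P a (lam : P → ℂ) = conjFun P b (lam : P → ℂ)
      rw [this, conjFun_mul, hfix _ hab])
  have hrange : S = Set.range f := by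
    ext ψ
    constructor
    · rintro ⟨g, rfl⟩
      exact ⟨Quotient.mk'' g, rfl⟩
    · rintro ⟨q, rfl⟩
      induction q using Quotient.inductionOn' with
      | h g => exact ⟨g, rfl⟩
  have hle : hfin.toFinset.card ≤ C.index := by
    rw [← Set.ncard_eq_toFinset_card S hfin, hrange, ← Nat.card_coe_set_eq]
    calc Nat.card (Set.range f) ≤ Nat.card (Quotient (QuotientGroup.rightRel C)) :=
          Finite.card_range_le f
      _ = C.index := Nat.card_congr (QuotientGroup.quotientRightRelEquivQuotientLeftRel C)
  rw [hSd] at hle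
  have h1 := Subgroup.card_mul_index C
  rw [hcard] at h1
  have h2 : Nat.card C * d ≤ p * d := by
    rw [← h1]
    exact Nat.mul_le_mul_left _ hle
  exact Nat.le_of_mul_le_mul_right h2 hdpos

/-- Let G be a finite group with a faithful irreducible complex character χ whose codegree #G / χ(1) is a prime p (for a faithful character the kernel is trivial, so the codegree is #G / χ(1)). Then either G is cyclic of order p, or G is a Frobenius group whose Frobenius kernel has order p: some proper non-trivial subgroup H satisfies H ∩ gHg⁻¹ = 1 for every element g outside H, and the set of elements lying in no conjugate of H, together with the identity, has exactly p elements. -/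
theorem result {G : Type*} [Group G] [Finite G] (χ : Cfsg.IrrCharacter G) (hfaith : ∀ g : G, (χ : G → ℂ) g = (χ : G → ℂ) 1 → g = 1) (p : ℕ) (hp : p.Prime) (hcod : Nat.card G = p * Cfsg.charDegree (χ : G → ℂ)) : (IsCyclic G ∧ Nat.card G = p) ∨ ∃ H : Subgroup G, Cfsg.IsFrobeniusComplement H ∧ Nat.card ↥(Cfsg.frobeniusKernel H) = p := by
  classical
  haveI := Fintype.ofFinite G
  haveI : Fintype (IrrCharacter G) := Fintype.ofFinite _
  haveI : Fact p.Prime := ⟨hp⟩
  set d := charDegree (χ : G → ℂ) with hd
  have hdpos : 0 < d := irr_degree_pos χ.2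
  by_cases hd1 : d = 1
  · left
    rw [hd1, mul_one] at hcod
    exact ⟨isCyclic_of_prime_card hcod, hcod⟩
  right
  -- Step 1: d < p
  have hdp : d < p := by
    have hne : χ ≠ irrOne G := by
      intro h
      have hψ1 : (χ : G → ℂ) = fun _ => (1 : ℂ) := congrArg Subtype.val h
      have hall : ∀ q : G, q = 1 := fun q => hfaith q (by rw [hψ1])
      have : Nat.card G = 1 := by
        haveI : Subsingleton G := ⟨fun a b => by rw [hall a, hall b]⟩
        exact Nat.card_unique
      rw [this] at hcod
      have := Nat.eq_one_of_mul_eq_one_right hcod.symm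
      exact hp.one_lt.ne' this
    have hsum := Cfsg.Agent.S4808.sum_sq_nat (G := G)
    have hle : ∑ ψ ∈ ({χ, irrOne G} : Finset (IrrCharacter G)),
        charDegree (ψ : G → ℂ) ^ 2 ≤ ∑ ψ : IrrCharacter G, charDegree (ψ : G → ℂ) ^ 2 :=
      Finset.sum_le_sum_of_subset (Finset.subset_univ _)
    rw [Finset.sum_pair hne, hsum, hcod] at hle
    have h1 : charDegree ((irrOne G : IrrCharacter G) : G → ℂ) = 1 := by
      change charDegree (fun _ : G => (1 : ℂ)) = 1
      simp [charDegree]
    rw [h1] at hle
    change d ^ 2 + 1 ^ 2 ≤ p * d at hle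
    by_contra hcon
    push Not at hcon
    nlinarith
  have hpd : ¬ p ∣ d := fun h => absurd (Nat.le_of_dvd hdpos h) (not_le.2 hdp)
  -- Step 2: the Sylow p-subgroup has order p and is normal
  obtain ⟨P⟩ : Nonempty (Sylow p G) := inferInstance
  have hPcard : Nat.card P = p := by
    rw [Sylow.card_eq_multiplicity, hcod, Nat.factorization_mul hp.ne_zero hdpos.ne',
      Finsupp.add_apply, hp.factorization_self, Nat.factorization_eq_zero_of_not_dvd hpd]
    simp
  have hPidx : (P : Subgroup G).index = d := by
    have := Subgroup.card_mul_index (P : Subgroup G)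
    rw [hPcard, hcod] at this
    exact Nat.eq_of_mul_eq_mul_left hp.pos this
  have hnp : Nat.card (Sylow p G) = 1 := by
    have h1 := card_sylow_modEq_one p G
    have h2 := Sylow.card_dvd_index P
    rw [hPidx] at h2
    have h3 : Nat.card (Sylow p G) < p := lt_of_le_of_lt (Nat.le_of_dvd hdpos h2) hdp
    have h4 : Nat.card (Sylow p G) % p = 1 % p := h1
    rw [Nat.mod_eq_of_lt h3, Nat.mod_eq_of_lt hp.one_lt] at h4
    exact h4
  haveI : Subsingleton (Sylow p G) := (Nat.card_eq_one_iff_unique.1 hnp).1
  haveI hPn : (P : Subgroup G).Normal := Sylow.normal_of_subsingleton P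
  -- Step 3: the centralizer of P is P
  have hCle := card_centralizer_le χ p hp hcod (P : Subgroup G) hPcard
  haveI : IsCyclic (P : Subgroup G) := isCyclic_of_prime_card hPcard
  have hPC : (P : Subgroup G) ≤ Subgroup.centralizer ((P : Subgroup G) : Set G) := by
    intro x hx y hy
    have := (IsCyclic.commGroup (α := (P : Subgroup G))).mul_comm ⟨y, hy⟩ ⟨x, hx⟩
    exact congrArg Subtype.val this
  have hCP : Subgroup.centralizer ((P : Subgroup G) : Set G) = (P : Subgroup G) := by
    symm
    apply Subgroup.eq_of_le_of_card_ge hPC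
    rw [hPcard]; exact hCle
  -- Step 4: complement
  have hcop : Nat.Coprime (Nat.card (P : Subgroup G)) (P : Subgroup G).index := by
    rw [hPcard, hPidx]
    exact (Nat.Prime.coprime_iff_not_dvd hp).2 hpd
  obtain ⟨H, hH⟩ := Subgroup.exists_right_complement'_of_coprime hcop
  have hHcard : Nat.card H = d := by
    have := hH.card_mul_card
    rw [hPcard, hcod] at this
    exact Nat.eq_of_mul_eq_mul_left hp.pos this
  have hdisj : (P : Subgroup G) ⊓ H = ⊥ := hH.disjoint.eq_bot
  have hsup : (P : Subgroup G) ⊔ H = ⊤ := hH.sup_eq_top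
  have hPbot : (P : Subgroup G) ≠ ⊥ := by
    rw [← Subgroup.one_lt_card_iff_ne_bot, hPcard]
    exact hp.one_lt
  have hHbot : H ≠ ⊥ := by
    rw [← Subgroup.one_lt_card_iff_ne_bot, hHcard]
    omega
  have hfpf : ∀ h ∈ H, h ≠ 1 → ∀ n ∈ (P : Subgroup G), h * n = n * h → n = 1 := by
    intro h hh hh1 n hn hcomm
    by_contra hn1
    apply hh1
    -- n generates P
    have hgen : Subgroup.zpowers (⟨n, hn⟩ : (P : Subgroup G)) = ⊤ := by
      apply zpowers_eq_top_of_prime_card hPcard
      intro h1
      exact hn1 (congrArg Subtype.val h1)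
    have hhC : h ∈ Subgroup.centralizer ((P : Subgroup G) : Set G) := by
      intro y hy
      have hy' : (⟨y, hy⟩ : (P : Subgroup G)) ∈ Subgroup.zpowers (⟨n, hn⟩ : (P : Subgroup G)) := by
        rw [hgen]; exact Subgroup.mem_top _
      obtain ⟨k, hk⟩ := Subgroup.mem_zpowers_iff.1 hy'
      have hyk : y = n ^ k := by
        have := congrArg Subtype.val hk
        simpa using this.symm
      rw [hyk]
      exact ((Commute.zpow_right (show Commute h n from hcomm) k).eq).symm
    rw [hCP] at hhC
    have : h ∈ (P : Subgroup G) ⊓ H := ⟨hhC, hh⟩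
    rw [hdisj] at this
    exact Subgroup.mem_bot.1 this
  obtain ⟨hF, hK⟩ := Cfsg.Agent.Lib.Helper22.frobenius_of_fpf (P : Subgroup G) H hdisj hsup hPbot hHbot hfpf
  refine ⟨H, hF, ?_⟩
  rw [hK]
  exact hPcard

end Cfsg.Agent.S4796
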