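import Cfsg.Statements.S4797
import Cfsg.Agent.S4808
import Cfsg.Agent.Lib.Helper25.Codegree

set_option autoImplicit false
set_option linter.style.haveILetI false
open Cfsg

namespace Cfsg.Agent.S4797

open Cfsg.Agent.Lib.Helper25
open scoped ComplexConjugate

universe u

/-- A homomorphism from a perfect group to a commutative monoid is trivial. -/
theorem hom_eq_one_of_perfect {Q : Type*} [Group Q] (hperf : commutator Q = ⊤)
    {M : Type*} [CommMonoid M] (f : Q →* M) (q : Q) : f q = 1 := by
  have h1 : commutator Q ≤ f.toHomUnits.ker := Abelianization.commutator_subset_ker _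
  have h2 : q ∈ f.toHomUnits.ker := h1 (by rw [hperf]; exact Subgroup.mem_top q)
  rw [MonoidHom.mem_ker] at h2
  have := congrArg Units.val h2
  simpa [MonoidHom.coe_toHomUnits] using this

/-- Key lemma: a perfect group of order `p * d` has no faithful irreducible character of
degree `d`. -/
theorem no_faithful {Q : Type u} [Group Q] [Finite Q] (hperf : commutator Q = ⊤)
    {ψ : Q → ℂ} (hψ : IsIrrCharacter Q ψ) (hfaith : ∀ q, ψ q = ψ 1 → q = 1)
    (p : ℕ) (hp : p.Prime) (hcard : Nat.card Q = p * charDegree ψ) : False := by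
  classical
  haveI := Fintype.ofFinite Q
  haveI : Fintype (IrrCharacter Q) := Fintype.ofFinite _
  haveI : Fact p.Prime := ⟨hp⟩
  set d := charDegree ψ with hd
  have hdpos : 0 < d := irr_degree_pos hψ
  -- Step 1: d < p
  have hdp : d < p := by
    have hne : (⟨ψ, hψ⟩ : IrrCharacter Q) ≠ irrOne Q := by
      intro h
      have hψ1 : ψ = fun _ => (1 : ℂ) := congrArg Subtype.val h
      have hall : ∀ q : Q, q = 1 := fun q => hfaith q (by rw [hψ1])
      have : Nat.card Q = 1 := by
        haveI : Subsingleton Q := ⟨fun a b => by rw [hall a, hall b]⟩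
        exact Nat.card_unique
      rw [this] at hcard
      have := Nat.eq_one_of_mul_eq_one_right hcard.symm
      exact hp.one_lt.ne' this
    have hsum := Cfsg.Agent.S4808.sum_sq_nat (G := Q)
    have hle : ∑ χ ∈ ({⟨ψ, hψ⟩, irrOne Q} : Finset (IrrCharacter Q)),
        charDegree (χ : Q → ℂ) ^ 2 ≤ ∑ χ : IrrCharacter Q, charDegree (χ : Q → ℂ) ^ 2 :=
      Finset.sum_le_sum_of_subset (Finset.subset_univ _)
    rw [Finset.sum_pair hne, hsum, hcard] at hle
    have h1 : charDegree ((irrOne Q : IrrCharacter Q) : Q → ℂ) = 1 := by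
      change charDegree (fun _ : Q => (1 : ℂ)) = 1
      simp [charDegree]
    rw [h1] at hle
    change d ^ 2 + 1 ^ 2 ≤ p * d at hle
    by_contra hcon
    push Not at hcon
    nlinarith
  have hpd : ¬ p ∣ d := fun h => absurd (Nat.le_of_dvd hdpos h) (not_le.2 hdp)
  -- Step 2: the Sylow p-subgroup has order p and is normal
  obtain ⟨P⟩ : Nonempty (Sylow p Q) := inferInstance
  have hPcard : Nat.card P = p := by
    rw [Sylow.card_eq_multiplicity, hcard, Nat.factorization_mul hp.ne_zero hdpos.ne',
      Finsupp.add_apply, hp.factorization_self, Nat.factorization_eq_zero_of_not_dvd hpd]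
    simp
  have hPidx : (P : Subgroup Q).index = d := by
    have := Subgroup.card_mul_index (P : Subgroup Q)
    rw [hPcard, hcard] at this
    exact Nat.eq_of_mul_eq_mul_left hp.pos this
  have hnp : Nat.card (Sylow p Q) = 1 := by
    have h1 := card_sylow_modEq_one p Q
    have h2 := Sylow.card_dvd_index P
    rw [hPidx] at h2
    have h3 : Nat.card (Sylow p Q) < p := lt_of_le_of_lt (Nat.le_of_dvd hdpos h2) hdp
    have h4 : Nat.card (Sylow p Q) % p = 1 % p := h1
    rw [Nat.mod_eq_of_lt h3, Nat.mod_eq_of_lt hp.one_lt] at h4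
    exact h4
  haveI : Subsingleton (Sylow p Q) := (Nat.card_eq_one_iff_unique.1 hnp).1
  haveI hPn : (P : Subgroup Q).Normal := Sylow.normal_of_subsingleton P
  -- Step 3: P is central
  haveI : IsCyclic (P : Subgroup Q) := isCyclic_of_prime_card hPcard
  have hcentral : ∀ (q : Q) (z : Q), z ∈ (P : Subgroup Q) → q * z * q⁻¹ = z := by
    intro q z hz
    let f : Q →* (ZMod (Nat.card (P : Subgroup Q)))ˣ :=
      (IsCyclic.mulAutMulEquiv (P : Subgroup Q)).toMonoidHom.comp
        (MulAut.conjNormal (H := (P : Subgroup Q)))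
    have h1 : f q = 1 := hom_eq_one_of_perfect hperf f q
    have h2 : MulAut.conjNormal (H := (P : Subgroup Q)) q = 1 := by
      apply (IsCyclic.mulAutMulEquiv (P : Subgroup Q)).injective
      rw [map_one]
      exact h1
    have h3 := MulAut.conjNormal_apply (H := (P : Subgroup Q)) q ⟨z, hz⟩
    rw [h2] at h3
    exact h3.symm
  -- Step 4: a nontrivial central element acts as a scalar of order dividing gcd(p, d) = 1
  have hPbot : (P : Subgroup Q) ≠ ⊥ := by
    rw [← Subgroup.one_lt_card_iff_ne_bot, hPcard]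
    exact hp.one_lt
  obtain ⟨⟨z, hzP⟩, hz1⟩ := (Subgroup.ne_bot_iff_exists_ne_one).1 hPbot
  have hz1' : z ≠ 1 := fun h => hz1 (Subtype.ext h)
  have hzp : z ^ p = 1 := by
    have := pow_card_eq_one' (G := (P : Subgroup Q)) (x := ⟨z, hzP⟩)
    rw [hPcard] at this
    exact congrArg Subtype.val this
  obtain ⟨n, σ, hirr, rfl⟩ := hψ
  have hdn : d = n := by rw [hd, charDegree_rep]
  have hcomm : ∀ g, σ z ∘ₗ σ g = σ g ∘ₗ σ z := by
    intro g
    change σ z * σ g = σ g * σ z
    rw [← map_mul, ← map_mul]
    congr 1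
    have := hcentral g z hzP
    calc z * g = (g * z * g⁻¹) * g := by rw [this]
      _ = g * z := by group
  obtain ⟨c, hc⟩ := schur_scalar σ hirr (σ z) hcomm
  have hnne : (n : ℂ) ≠ 0 := by
    rw [← hdn]; exact_mod_cast hdpos.ne'
  have hcp : c ^ p = 1 := by
    have h1 : (σ z) ^ p = 1 := by rw [← map_pow, hzp, map_one]
    rw [hc, smul_pow] at h1
    have h2 : ((LinearMap.id : Module.End ℂ (Fin n → ℂ)) ^ p) = 1 := one_pow p
    rw [h2] at h1
    have h3 := congrArg (LinearMap.trace ℂ (Fin n → ℂ)) h1
    rw [map_smul] at h3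
    have h4 : LinearMap.trace ℂ (Fin n → ℂ) 1 = (n : ℂ) := by
      rw [LinearMap.trace_one, Module.finrank_fin_fun]
    rw [h4, smul_eq_mul] at h3
    exact mul_right_cancel₀ hnne (h3.trans (one_mul _).symm)
  have hcd : c ^ n = 1 := by
    have h1 := hom_eq_one_of_perfect hperf (LinearMap.det.comp σ) z
    rw [MonoidHom.comp_apply, hc, LinearMap.det_smul, Module.finrank_fin_fun] at h1
    have h2 : LinearMap.det (LinearMap.id : Module.End ℂ (Fin n → ℂ)) = 1 := LinearMap.det_id
    rw [h2, mul_one] at h1
    exact h1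
  have hcop : Nat.Coprime p n := by
    rw [← hdn]
    exact (Nat.Prime.coprime_iff_not_dvd hp).2 hpd
  have hc1 : c = 1 := (pow_eq_one_iff_of_coprime hcop).1 ⟨hcp, hcd⟩
  apply hz1'
  apply hfaith
  have : σ z = 1 := by
    rw [hc, hc1, one_smul]; rfl
  simp only [Representation.character, this, map_one]

/-- The codegree of an irreducible complex character χ of a finite group G is [G : ker χ] / χ(1), where ker χ is the set of elements at which χ takes the value χ(1). A non-trivial finite group is perfect if and only if no irreducible complex character of it has prime codegree. -/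
theorem result {G : Type*} [Group G] [Finite G] [Nontrivial G] : commutator G = ⊤ ↔ ∀ χ : Cfsg.IrrCharacter G, ¬ ((Nat.card G / (Nat.card {g : G // (χ : G → ℂ) g = (χ : G → ℂ) 1} * Cfsg.charDegree (χ : G → ℂ)))).Prime := by
  classical
  constructor
  · intro hperf χ hprime
    set p := Nat.card G / (Nat.card {g : G // (χ : G → ℂ) g = (χ : G → ℂ) 1} *
      Cfsg.charDegree (χ : G → ℂ)) with hpdef
    obtain ⟨K, hKn, hK⟩ := exists_kernel (isCharacter_of_irr χ.2)
    haveI := hKn
    have hmul := codegree_mul χ.2 K hK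
    rw [← hpdef] at hmul
    obtain ⟨ψ, hψ, hχψ⟩ := exists_deflation K χ.2 (fun n hn => (hK n).1 hn)
    have hdeg : charDegree (χ : G → ℂ) = charDegree ψ := by
      unfold charDegree
      rw [hχψ 1]
      rfl
    have hperfQ : commutator (G ⧸ K) = ⊤ := by
      haveI : Group.IsPerfect G := ⟨hperf⟩
      exact Group.IsPerfect.commutator_eq_top
    have hfaith : ∀ q : G ⧸ K, ψ q = ψ 1 → q = 1 := by
      intro q hq
      obtain ⟨g, rfl⟩ := QuotientGroup.mk_surjective q
      have h1 : (χ : G → ℂ) g = (χ : G → ℂ) 1 := by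
        rw [hχψ g, hχψ 1]
        exact hq
      exact (QuotientGroup.eq_one_iff g).2 ((hK g).2 h1)
    apply no_faithful hperfQ hψ hfaith p hprime
    rw [← Subgroup.index_eq_card, ← hmul, hdeg]
  · intro hall
    by_contra hnp
    -- the group of linear characters is nontrivial
    have hcardX : Nat.card (G →* ℂˣ) = (commutator G).index := by
      rw [← card_linear_char]
      exact Nat.card_congr (linearCharEquiv G).symm
    have hidx : (commutator G).index ≠ 1 := by
      intro h
      exact hnp (Subgroup.index_eq_one.1 h)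
    have hidx0 : (commutator G).index ≠ 0 := Subgroup.index_ne_zero_of_finite
    haveI : Finite (G →* ℂˣ) := Nat.finite_of_card_ne_zero (by rw [hcardX]; exact hidx0)
    obtain ⟨p, hp, hpdvd⟩ := Nat.exists_prime_and_dvd (by rw [hcardX]; exact hidx :
      Nat.card (G →* ℂˣ) ≠ 1)
    haveI : Fact p.Prime := ⟨hp⟩
    obtain ⟨lam, hlam⟩ := exists_prime_orderOf_dvd_card' (G := G →* ℂˣ) p hpdvd
    have hlam1 : lam ≠ 1 := by
      intro h
      rw [h, orderOf_one] at hlam
      exact hp.one_lt.ne hlam
    have hlamp : lam ^ p = 1 := by rw [← hlam, pow_orderOf_eq_one]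
    have hrange : lam.range ≤ rootsOfUnity p ℂ := by
      rintro _ ⟨g, rfl⟩
      rw [mem_rootsOfUnity]
      have := congrArg (fun f : G →* ℂˣ => f g) hlamp
      simpa using this
    have hcardroots : Nat.card (rootsOfUnity p ℂ) = p := by
      haveI : NeZero p := ⟨hp.ne_zero⟩
      exact Complex.card_rootsOfUnity p
    have hrange_dvd : Nat.card lam.range ∣ p := by
      rw [← hcardroots]
      exact Subgroup.card_dvd_of_le hrange
    have hrange_ne : Nat.card lam.range ≠ 1 := by
      intro h
      apply hlam1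
      have hbot : lam.range = ⊥ := Subgroup.card_eq_one.1 h
      apply MonoidHom.ext
      intro g
      have : lam g ∈ lam.range := ⟨g, rfl⟩
      rw [hbot, Subgroup.mem_bot] at this
      rw [this]; rfl
    have hrange_card : Nat.card lam.range = p := by
      rcases (Nat.dvd_prime hp).1 hrange_dvd with h | h
      · exact absurd h hrange_ne
      · exact h
    have hker_idx : lam.ker.index = p := by rw [Subgroup.index_ker, hrange_card]
    -- the corresponding irreducible character
    let χ : IrrCharacter G := ⟨fun g => ((lam g : ℂˣ) : ℂ), isIrrCharacter_of_hom lam⟩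
    apply hall χ
    have hK : ∀ g, g ∈ lam.ker ↔ (χ : G → ℂ) g = (χ : G → ℂ) 1 := by
      intro g
      rw [MonoidHom.mem_ker]
      change lam g = 1 ↔ ((lam g : ℂˣ) : ℂ) = ((lam 1 : ℂˣ) : ℂ)
      rw [map_one, Units.val_one, Units.val_eq_one]
    have hdeg : charDegree (χ : G → ℂ) = 1 := by
      change charDegree (fun g => ((lam g : ℂˣ) : ℂ)) = 1
      simp [charDegree]
    have hmul := codegree_mul χ.2 lam.ker hK
    rw [hdeg, mul_one] at hmul
    rw [hdeg, hmul, hker_idx]
    exact hp

end Cfsg.Agent.S4797
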