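import Mathlib
import Cfsg.Statements.S4798
import Cfsg.Agent.Lib.Helper25.CharBasic
import Cfsg.Agent.Lib.Helper25.Codegree
import Cfsg.Agent.Lib.Helper25.Constituent

set_option autoImplicit false
open Cfsg

namespace Cfsg.Agent.S4798

open Cfsg.Agent.Lib.Helper2 Cfsg.Agent.Lib.Helper25
open scoped ComplexConjugate

/-- In a multiset of irreducible characters whose total degree is not divisible by `q`, some
member has degree not divisible by `q`. -/
theorem exists_mem_not_dvd {P : Type*} [Group P] [Fintype P] (q : ℕ) :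
    ∀ (m : Multiset (Cfsg.IrrCharacter P)) (D : ℕ),
      (m.map (fun χ : Cfsg.IrrCharacter P => (χ : P → ℂ))).sum 1 = (D : ℂ) → ¬ q ∣ D →
      ∃ θ ∈ m, ¬ q ∣ Cfsg.charDegree (θ : P → ℂ) := by
  intro m
  induction m using Multiset.induction_on with
  | empty =>
    intro D hD hq
    exfalso
    apply hq
    have : (D : ℂ) = 0 := by rw [← hD]; simp
    have h0 : D = 0 := by exact_mod_cast this
    rw [h0]; exact dvd_zero q
  | cons a s ih =>
    intro D hD hq
    by_cases ha : q ∣ Cfsg.charDegree (a : P → ℂ)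
    · have hs : Cfsg.IsCharacter P (s.map (fun χ : Cfsg.IrrCharacter P => (χ : P → ℂ))).sum :=
        isCharacter_multiset_sum s
      have h1 := char_one_eq_charDegree hs
      have h2 := char_one_eq_charDegree (isCharacter_of_irr a.2)
      rw [Multiset.map_cons, Multiset.sum_cons, Pi.add_apply, h1, h2] at hD
      have h3 : Cfsg.charDegree (a : P → ℂ) +
          Cfsg.charDegree (s.map (fun χ : Cfsg.IrrCharacter P => (χ : P → ℂ))).sum = D := by
        exact_mod_cast hD
      have h4 : ¬ q ∣ Cfsg.charDegree (s.map (fun χ : Cfsg.IrrCharacter P => (χ : P → ℂ))).sum := by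
        intro h5
        apply hq
        rw [← h3]
        exact dvd_add ha h5
      obtain ⟨θ, hθ, hθq⟩ := ih _ h1 h4
      exact ⟨θ, Multiset.mem_cons_of_mem hθ, hθq⟩
    · exact ⟨a, Multiset.mem_cons_self a s, ha⟩

/-- A character of a `p`-group whose degree is not divisible by `p ^ (j+1)` has an irreducible
constituent of degree `p ^ a` with `a ≤ j`. -/
theorem exists_small_constituent {P : Type*} [Group P] [Fintype P] (p : ℕ) [Fact p.Prime] {n : ℕ}
    (hP : Nat.card P = p ^ n) {Φ : P → ℂ} (hΦ : Cfsg.IsCharacter P Φ) {D j : ℕ}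
    (hD : Φ 1 = (D : ℂ)) (hj : ¬ p ^ (j + 1) ∣ D) :
    ∃ (θ : Cfsg.IrrCharacter P) (Ψ : P → ℂ) (a : ℕ), Cfsg.IsCharacter P Ψ ∧
      Φ = (θ : P → ℂ) + Ψ ∧ a ≤ j ∧ (θ : P → ℂ) 1 = ((p ^ a : ℕ) : ℂ) := by
  classical
  obtain ⟨m, hm⟩ := IsCharacter.exists_multiset_irr hΦ
  have hD' : (m.map (fun χ : Cfsg.IrrCharacter P => (χ : P → ℂ))).sum 1 = (D : ℂ) := by
    rw [← hm]; exact hD
  obtain ⟨θ, hθm, hθq⟩ := exists_mem_not_dvd (p ^ (j + 1)) m D hD' hj
  obtain ⟨m', rfl⟩ := Multiset.exists_cons_of_mem hθm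
  have hdvd : Cfsg.charDegree (θ : P → ℂ) ∣ p ^ n := by
    rw [← hP]; exact charDegree_dvd_card θ.2
  obtain ⟨a, -, ha⟩ := (Nat.dvd_prime_pow (Fact.out : p.Prime)).mp hdvd
  refine ⟨θ, _, a, isCharacter_multiset_sum m', ?_, ?_, ?_⟩
  · rw [hm, Multiset.map_cons, Multiset.sum_cons]
  · by_contra hlt
    push Not at hlt
    apply hθq
    rw [ha]
    exact pow_dvd_pow p hlt
  · rw [char_one_eq_charDegree (isCharacter_of_irr θ.2), ha]

/-- A character of degree zero vanishes. -/
theorem eq_zero_of_apply_one_eq_zero {G : Type*} [Group G] [Fintype G] {Ψ : G → ℂ}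
    (hΨ : Cfsg.IsCharacter G Ψ) (h1 : Ψ 1 = 0) : Ψ = 0 := by
  by_contra hne
  obtain ⟨χ, Ψ', hΨ', hsum⟩ := exists_irr_add_of_ne_zero hΨ hne
  have h2 : Ψ 1 = (χ : G → ℂ) 1 + Ψ' 1 := by rw [hsum]; rfl
  rw [h1, char_one_eq_charDegree (isCharacter_of_irr χ.2), char_one_eq_charDegree hΨ'] at h2
  have h3 : 0 = Cfsg.charDegree (χ : G → ℂ) + Cfsg.charDegree Ψ' := by exact_mod_cast h2
  have := irr_degree_pos χ.2
  omega

theorem result {G : Type*} [Group G] [Fintype G] (p : ℕ) [Fact p.Prime] (χ : Cfsg.IrrCharacter G) (hfaith : ∀ g : G, (χ : G → ℂ) g = (χ : G → ℂ) 1 → g = 1) : (∃ k : ℕ, Nat.card G = p ^ k * Cfsg.charDegree (χ : G → ℂ)) ↔ ∃ (P : Sylow p G) (θ : ↥(P : Subgroup G) → ℂ), Cfsg.IsCharacter ↥(P : Subgroup G) θ ∧ (χ : G → ℂ) = Cfsg.indFun (P : Subgroup G) θ := by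
  classical
  have hp : p.Prime := Fact.out
  have hχc : Cfsg.IsCharacter G (χ : G → ℂ) := isCharacter_of_irr χ.2
  have hχ1 : (χ : G → ℂ) 1 = (Cfsg.charDegree (χ : G → ℂ) : ℂ) := char_one_eq_charDegree hχc
  have hdpos : 0 < Cfsg.charDegree (χ : G → ℂ) := irr_degree_pos χ.2
  set d := Cfsg.charDegree (χ : G → ℂ) with hd
  constructor
  · rintro ⟨k, hk⟩
    obtain ⟨P⟩ : Nonempty (Sylow p G) := inferInstance
    set n := (Nat.card G).factorization p with hn
    set j := d.factorization p with hj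
    have hPcard : Nat.card (P : Subgroup G) = p ^ n := Sylow.card_eq_multiplicity P
    have hnkj : n = k + j := by
      rw [hn, hk, Nat.factorization_mul (pow_ne_zero _ hp.ne_zero) hdpos.ne', Nat.factorization_pow]
      simp [hp.factorization_self, hj]
    have hjnd : ¬ p ^ (j + 1) ∣ d := Nat.pow_succ_factorization_not_dvd hdpos.ne' hp
    have hres : Cfsg.IsCharacter (P : Subgroup G) (fun h : (P : Subgroup G) => (χ : G → ℂ) h) :=
      IsCharacter.restrict hχc _
    have hres1 : (fun h : (P : Subgroup G) => (χ : G → ℂ) h) 1 = (d : ℂ) := by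
      show (χ : G → ℂ) ((1 : (P : Subgroup G)) : G) = _
      rw [OneMemClass.coe_one, hχ1]
    obtain ⟨θ, Ψ, a, hΨ, hsum, haj, hθ1⟩ := exists_small_constituent p hPcard hres hres1 hjnd
    -- the multiplicity of θ in χ_P
    obtain ⟨m0, hm0⟩ := classInner_isCharacter_nat hΨ (isCharacter_of_irr θ.2)
    have hmult : Cfsg.classInner (fun h : (P : Subgroup G) => (χ : G → ℂ) h) (θ : ↥(P : Subgroup G) → ℂ)
        = ((1 + m0 : ℕ) : ℂ) := by
      rw [hsum, classInner_add_left, classInner_irrCharacter_self, hm0]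
      push_cast; ring
    have hle := mult_restrict_mul_degree_le (P : Subgroup G) χ (isCharacter_of_irr θ.2) hmult hχ1 hθ1
    -- index computation
    have hidx : (P : Subgroup G).index * p ^ j = d := by
      have h1 : Nat.card (P : Subgroup G) * (P : Subgroup G).index = Nat.card G :=
        Subgroup.card_mul_index _
      rw [hPcard, hk, hnkj, pow_add] at h1
      have h2 : p ^ k * (p ^ j * (P : Subgroup G).index) = p ^ k * d := by
        rw [← h1]; ring
      have h3 := Nat.eq_of_mul_eq_mul_left (pow_pos hp.pos k) h2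
      rw [← h3]; ring
    have hpa : p ^ a ≤ p ^ j := Nat.pow_le_pow_right hp.pos haj
    have hle2 : (P : Subgroup G).index * p ^ a ≤ d := by
      rw [← hidx]; exact Nat.mul_le_mul_left _ hpa
    have hm00 : m0 = 0 := by
      by_contra hne
      have : 2 * d ≤ (1 + m0) * d := Nat.mul_le_mul_right _ (by omega)
      omega
    have hdeg : (P : Subgroup G).index * p ^ a = d := by
      rw [hm00] at hle
      omega
    -- now the induced character
    have hind : Cfsg.IsCharacter G (Cfsg.indFun (P : Subgroup G) (θ : ↥(P : Subgroup G) → ℂ)) :=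
      indFun_isCharacter _ _ (isCharacter_of_irr θ.2)
    have hinner : Cfsg.classInner (Cfsg.indFun (P : Subgroup G) (θ : ↥(P : Subgroup G) → ℂ))
        (χ : G → ℂ) = ((1 : ℕ) : ℂ) := by
      rw [frobenius_reciprocity (P : Subgroup G) _ _ (IrrCharacter.isClassFunction χ),
        ← classInner_conj_symm, hmult, hm00]
      simp
    obtain ⟨Ψ', hΨ', hsplit⟩ := exists_nsmul_add χ 1 hind hinner
    have hind1 : Cfsg.indFun (P : Subgroup G) (θ : ↥(P : Subgroup G) → ℂ) 1 = (d : ℂ) := by
      rw [indFun_apply_one, hθ1, ← hdeg]; push_cast; ring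
    have hΨ'1 : Ψ' 1 = 0 := by
      have h1 : Cfsg.indFun (P : Subgroup G) (θ : ↥(P : Subgroup G) → ℂ) 1 =
          (χ : G → ℂ) 1 + Ψ' 1 := by
        conv_lhs => rw [hsplit]
        simp
      rw [hind1, hχ1] at h1
      linear_combination -h1
    have hΨ'0 := eq_zero_of_apply_one_eq_zero hΨ' hΨ'1
    refine ⟨P, (θ : ↥(P : Subgroup G) → ℂ), isCharacter_of_irr θ.2, ?_⟩
    rw [hsplit, hΨ'0]; simp
  · rintro ⟨P, θ, hθ, hχθ⟩
    set n := (Nat.card G).factorization p with hn
    have hPcard : Nat.card (P : Subgroup G) = p ^ n := Sylow.card_eq_multiplicity P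
    have hθ1 := char_one_eq_charDegree hθ
    set e := Cfsg.charDegree θ with he
    have hde : d = (P : Subgroup G).index * e := by
      have h1 : (χ : G → ℂ) 1 = ((P : Subgroup G).index : ℂ) * θ 1 := by
        rw [hχθ, indFun_apply_one]
      rw [hχ1, hθ1] at h1
      exact_mod_cast h1
    have hdvd : d ∣ Nat.card G := charDegree_dvd_card χ.2
    have hcard : Nat.card G = (P : Subgroup G).index * p ^ n := by
      rw [← hPcard, mul_comm]; exact (Subgroup.card_mul_index _).symm
    have hidxpos : 0 < (P : Subgroup G).index := Nat.pos_of_ne_zero Subgroup.index_ne_zero_of_finite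
    have hedvd : e ∣ p ^ n := by
      rw [hde, hcard] at hdvd
      exact Nat.dvd_of_mul_dvd_mul_left hidxpos hdvd
    obtain ⟨a, han, hea⟩ := (Nat.dvd_prime_pow hp).mp hedvd
    refine ⟨n - a, ?_⟩
    rw [hcard, hde, hea]
    have : p ^ n = p ^ (n - a) * p ^ a := by rw [← pow_add]; congr 1; omega
    rw [this]; ring
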