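import Cfsg.Statements.S4801
import Cfsg.Agent.S4808
import Cfsg.Agent.Lib.Helper25.Codegree
import Cfsg.Agent.Lib.Helper25.Linear

set_option autoImplicit false
set_option linter.style.haveILetI false
open Cfsg

namespace Cfsg.Agent.S4801

open Cfsg.Agent.Lib.Helper25
open scoped ComplexConjugate

universe u

/-- The codegree of an irreducible character divides the group order. -/
theorem codegree_dvd_card {G : Type u} [Group G] [Finite G] {ψ : G → ℂ}
    (h : IsIrrCharacter G ψ) :
    Nat.card G / (Nat.card {g : G // ψ g = ψ 1} * charDegree ψ) ∣ Nat.card G := by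
  obtain ⟨K, hKn, hK⟩ := exists_kernel (isCharacter_of_irr h)
  haveI := hKn
  have h1 := codegree_mul h K hK
  have h2 : K.index ∣ Nat.card G := Subgroup.index_dvd_card K
  exact Dvd.dvd.trans (Dvd.intro _ h1) h2

/-- In a simple group, a non-principal irreducible character is faithful. -/
theorem faithful_of_simple {S : Type u} [Group S] [Finite S] (hS : IsSimpleGroup S)
    (χ : IrrCharacter S) (hχ : χ ≠ irrOne S) : ∀ g : S, (χ : S → ℂ) g = (χ : S → ℂ) 1 → g = 1 := by
  classical
  haveI := Fintype.ofFinite S
  obtain ⟨K, hKn, hK⟩ := exists_kernel (isCharacter_of_irr χ.2)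
  haveI := hKn
  rcases hS.eq_bot_or_eq_top_of_normal K hKn with h | h
  · intro g hg
    have : g ∈ K := (hK g).2 hg
    rw [h] at this
    exact Subgroup.mem_bot.1 this
  · exfalso
    apply hχ
    have hconst : ∀ g : S, (χ : S → ℂ) g = (χ : S → ℂ) 1 := by
      intro g
      exact (hK g).1 (by rw [h]; exact Subgroup.mem_top g)
    -- inner product with the trivial character is nonzero
    have hinner : classInner (χ : S → ℂ) ((irrOne S : IrrCharacter S) : S → ℂ) ≠ 0 := by
      change (Nat.card S : ℂ)⁻¹ * ∑ g : S, (χ : S → ℂ) g * conj (((irrOne S : IrrCharacter S) : S → ℂ) g) ≠ 0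
      have h1 : ∀ g : S, (χ : S → ℂ) g * conj (((irrOne S : IrrCharacter S) : S → ℂ) g)
          = (χ : S → ℂ) 1 := by
        intro g
        rw [hconst g]
        change (χ : S → ℂ) 1 * conj (1 : ℂ) = _
        simp
      rw [Finset.sum_congr rfl (fun g _ => h1 g), Finset.sum_const, Finset.card_univ,
        nsmul_eq_mul, ← Nat.card_eq_fintype_card, ← mul_assoc,
        inv_mul_cancel₀ (card_ne_zero_complex (G := S)), one_mul]
      exact irr_one_ne_zero χ.2
    by_contra hne
    apply hinner
    rw [irr_classInner χ.2 (irrOne S).2]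
    rw [if_neg]
    intro heq
    exact hne (Subtype.ext heq)

/-- The codegree of an irreducible complex character χ of a finite group G is [G : ker χ] / χ(1), where ker χ is the set of elements at which χ takes the value χ(1). Let S be a finite simple group and G a finite group such that every codegree of an irreducible character of S is a codegree of an irreducible character of G. Then the order of S divides the order of G. -/
theorem result {S : Type*} [Group S] [Finite S] (hS : IsSimpleGroup S) {G : Type*} [Group G] [Finite G] (hsub : ∀ χ : Cfsg.IrrCharacter S, ∃ ψ : Cfsg.IrrCharacter G, (Nat.card S / (Nat.card {g : S // (χ : S → ℂ) g = (χ : S → ℂ) 1} * Cfsg.charDegree (χ : S → ℂ))) = (Nat.card G / (Nat.card {g : G // (ψ : G → ℂ) g = (ψ : G → ℂ) 1} * Cfsg.charDegree (ψ : G → ℂ)))) : Nat.card S ∣ Nat.card G := by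
  classical
  haveI := Fintype.ofFinite S
  haveI : Fintype (IrrCharacter S) := Fintype.ofFinite _
  have hSpos : Nat.card S ≠ 0 := Nat.card_pos.ne'
  have hGpos : Nat.card G ≠ 0 := Nat.card_pos.ne'
  rw [← Nat.factorization_prime_le_iff_dvd hSpos hGpos]
  intro p hp
  by_cases hpS : p ∣ Nat.card S
  swap
  · rw [Nat.factorization_eq_zero_of_not_dvd hpS]; exact Nat.zero_le _
  -- a non-principal character of degree prime to p
  have hex : ∃ χ : IrrCharacter S, χ ≠ irrOne S ∧ ¬ p ∣ charDegree (χ : S → ℂ) := by
    by_contra hcon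
    push Not at hcon
    have hsum := Cfsg.Agent.S4808.sum_sq_nat (G := S)
    rw [← Finset.add_sum_erase Finset.univ _ (Finset.mem_univ (irrOne S))] at hsum
    have h1 : charDegree ((irrOne S : IrrCharacter S) : S → ℂ) = 1 := by
      change charDegree (fun _ : S => (1 : ℂ)) = 1
      simp [charDegree]
    rw [h1] at hsum
    have h2 : p ∣ ∑ χ ∈ Finset.univ.erase (irrOne S), charDegree (χ : S → ℂ) ^ 2 := by
      apply Finset.dvd_sum
      intro χ hχ
      have := hcon χ (Finset.ne_of_mem_erase hχ)
      exact Dvd.dvd.trans this (Dvd.intro_left _ (by ring))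
    have h3 : p ∣ 1 ^ 2 := (Nat.dvd_add_left h2).1 (by rw [hsum]; exact hpS)
    rw [one_pow] at h3
    exact hp.one_lt.ne' (Nat.dvd_one.1 h3)
  obtain ⟨χ, hχ1, hpχ⟩ := hex
  obtain ⟨ψ, hψ⟩ := hsub χ
  have hfaith := faithful_of_simple hS χ hχ1
  have hcod := codegree_mul_of_faithful χ.2 hfaith
  have hdvd := codegree_dvd_card ψ.2
  rw [← hψ] at hdvd
  set c := Nat.card S / (Nat.card {g : S // (χ : S → ℂ) g = (χ : S → ℂ) 1} * charDegree (χ : S → ℂ)) with hc
  have hcpos : c ≠ 0 := by
    intro h0
    rw [h0, zero_mul] at hcod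
    exact hSpos hcod.symm
  have hdpos : charDegree (χ : S → ℂ) ≠ 0 := (irr_degree_pos χ.2).ne'
  have h1 : (Nat.card S).factorization p = c.factorization p := by
    rw [← hcod, Nat.factorization_mul hcpos hdpos, Finsupp.add_apply,
      Nat.factorization_eq_zero_of_not_dvd hpχ, add_zero]
  rw [h1]
  exact (Nat.factorization_le_iff_dvd hcpos hGpos).2 hdvd p

end Cfsg.Agent.S4801
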