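import Cfsg.Statements.S4802
import Cfsg.Agent.Lib.Helper25.Kernel
import Cfsg.Agent.Lib.Helper2.Column

set_option autoImplicit false
set_option linter.style.haveILetI false
open Cfsg

namespace Cfsg.Agent.S4802

open Cfsg.Agent.Lib.Helper25
open scoped ComplexConjugate

/-- Let N < M be normal subgroups of the finite group G and g ∈ M ∖ N. Then the conjugacy class of g is exactly M ∖ N if and only if every irreducible complex character of G whose kernel contains N takes the same value at all elements of M ∖ N, and every irreducible complex character of G whose kernel does not contain N vanishes at g. -/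
theorem result {G : Type*} [Group G] [Finite G] (N M : Subgroup G) [N.Normal] [M.Normal] (hNM : N < M) (g : G) (hgM : g ∈ M) (hgN : g ∉ N) : {h : G | IsConj g h} = (M : Set G) \ (N : Set G) ↔ ((∀ χ : Cfsg.IrrCharacter G, (∀ x ∈ N, (χ : G → ℂ) x = (χ : G → ℂ) 1) → ∀ x ∈ M, x ∉ N → ∀ y ∈ M, y ∉ N → (χ : G → ℂ) x = (χ : G → ℂ) y) ∧ (∀ χ : Cfsg.IrrCharacter G, (∃ x ∈ N, (χ : G → ℂ) x ≠ (χ : G → ℂ) 1) → (χ : G → ℂ) g = 0)) := by
  classical
  haveI := Fintype.ofFinite G
  haveI : Fintype (IrrCharacter G) := Fintype.ofFinite _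
  have hcl : ∀ (χ : IrrCharacter G) (a b : G), IsConj a b → (χ : G → ℂ) a = (χ : G → ℂ) b :=
    fun χ a b hab => (Cfsg.Agent.Lib.Helper2.isConj_iff_forall_irrCharacter a b).1 hab χ
  constructor
  · intro hclass
    have hmem : ∀ x, x ∈ M → x ∉ N → IsConj g x := by
      intro x hxM hxN
      have : x ∈ {h : G | IsConj g h} := by
        rw [hclass]; exact ⟨hxM, hxN⟩
      exact this
    refine ⟨?_, ?_⟩
    · intro χ _ x hxM hxN y hyM hyN
      rw [← hcl χ g x (hmem x hxM hxN), ← hcl χ g y (hmem y hyM hyN)]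
    · rintro χ ⟨x, hxN, hx⟩
      rcases sum_normal_char χ.2 N with h1 | h1
      · exact absurd (h1 x hxN) hx
      · have h2 := h1 g
        have h3 : ∀ n : N, (χ : G → ℂ) (g * (n : G)) = (χ : G → ℂ) g := by
          intro n
          have hgnM : g * (n : G) ∈ M := M.mul_mem hgM (hNM.le n.2)
          have hgnN : g * (n : G) ∉ N := by
            intro hc
            apply hgN
            have := N.mul_mem hc (N.inv_mem n.2)
            simpa using this
          exact (hcl χ g _ (hmem _ hgnM hgnN)).symm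
        simp_rw [h3] at h2
        rw [Finset.sum_const, Finset.card_univ, nsmul_eq_mul] at h2
        rcases mul_eq_zero.1 h2 with h4 | h4
        · exfalso
          have : (Fintype.card N : ℂ) ≠ 0 := by
            exact_mod_cast Fintype.card_ne_zero
          exact this h4
        · exact h4
  · rintro ⟨hc1, hc2⟩
    -- (a) every element of the coset g N is conjugate to g
    have ha : ∀ n ∈ N, IsConj g (g * n) := by
      intro n hn
      by_contra hcon
      have h1 := second_orthogonality_ne g (g * n) hcon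
      have h2 : ∀ χ : IrrCharacter G, (χ : G → ℂ) g * conj ((χ : G → ℂ) (g * n)) =
          (χ : G → ℂ) g * conj ((χ : G → ℂ) g) := by
        intro χ
        by_cases hk : ∀ x ∈ N, (χ : G → ℂ) x = (χ : G → ℂ) 1
        · rw [(char_mul_of_mem_ker (isCharacter_of_irr χ.2) (hk n hn) g).1]
        · push Not at hk
          rw [hc2 χ hk, zero_mul, zero_mul]
      simp_rw [h2] at h1
      rw [second_orthogonality_self] at h1
      have : (Nat.card (Subgroup.centralizer ({g} : Set G)) : ℂ) ≠ 0 := by
        exact_mod_cast Nat.card_pos.ne'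
      exact this h1
    ext x
    simp only [Set.mem_ofPred_eq, Set.mem_sdiff, SetLike.mem_coe]
    constructor
    · intro hgx
      obtain ⟨c, rfl⟩ := isConj_iff.1 hgx
      refine ⟨Subgroup.Normal.conj_mem inferInstance g hgM c, fun hc => hgN ?_⟩
      have := Subgroup.Normal.conj_mem (inferInstance : N.Normal) _ hc c⁻¹
      simpa [mul_assoc] using this
    · rintro ⟨hxM, hxN⟩
      have hq : IsConj ((x : G ⧸ N)) ((g : G ⧸ N)) := by
        rw [Cfsg.Agent.Lib.Helper2.isConj_iff_forall_irrCharacter]
        intro ψ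
        let χ : IrrCharacter G := ⟨fun a => (ψ : G ⧸ N → ℂ) (a : G ⧸ N),
          isIrrCharacter_inflation N ψ.2⟩
        have hk : ∀ n ∈ N, (χ : G → ℂ) n = (χ : G → ℂ) 1 := by
          intro n hn
          change (ψ : G ⧸ N → ℂ) (n : G ⧸ N) = (ψ : G ⧸ N → ℂ) ((1 : G) : G ⧸ N)
          rw [(QuotientGroup.eq_one_iff n).2 hn, QuotientGroup.mk_one]
        exact hc1 χ hk x hxM hxN g hgM hgN
      obtain ⟨kbar, hk⟩ := isConj_iff.1 hq
      obtain ⟨k, rfl⟩ := QuotientGroup.mk_surjective kbar
      have h1 : ((k * x * k⁻¹ : G) : G ⧸ N) = (g : G ⧸ N) := by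
        rw [← hk]; rfl
      have h2 : g⁻¹ * (k * x * k⁻¹) ∈ N := by
        have := QuotientGroup.eq.1 h1.symm
        exact this
      have h3 : IsConj g (g * (g⁻¹ * (k * x * k⁻¹))) := ha _ h2
      rw [mul_inv_cancel_left] at h3
      exact h3.trans (isConj_iff.2 ⟨k, rfl⟩).symm

end Cfsg.Agent.S4802
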