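import Cfsg.Statements.S4813
import Cfsg.Agent.Lib.Helper24.PrimeDegD

set_option autoImplicit false
open Cfsg

namespace Cfsg.Agent.S4813

/-- If every irreducible complex character of the finite group G of degree greater than one has prime degree, then G has at most three distinct irreducible character degrees. -/
theorem result {G : Type*} [Group G] [Finite G] (hprime : ∀ d ∈ Cfsg.charDegrees G, d = 1 ∨ d.Prime) : Nat.card ↥(Cfsg.charDegrees G) ≤ 3 := by
  classical
  have h : Cfsg.Agent.Lib.Helper24.PrimeDeg.AllPrime G := by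
    intro χ hχ
    rcases hprime _ ⟨χ, rfl⟩ with h1 | h1
    · exact absurd h1 hχ
    · exact h1
  obtain ⟨a, b, hab⟩ := Cfsg.Agent.Lib.Helper24.PrimeDeg.exists_three_degrees h
  have hsub : Cfsg.charDegrees G ⊆ (({1, a, b} : Finset ℕ) : Set ℕ) := by
    rintro d ⟨χ, rfl⟩
    rcases hab χ with h1 | h1 | h1 <;> simp [h1]
  calc Nat.card ↥(Cfsg.charDegrees G) = (Cfsg.charDegrees G).ncard := rfl
    _ ≤ (({1, a, b} : Finset ℕ) : Set ℕ).ncard :=
        Set.ncard_le_ncard hsub (Finset.finite_toSet _)
    _ = ({1, a, b} : Finset ℕ).card := Set.ncard_coe_finset _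
    _ ≤ 3 := Finset.card_le_three

end Cfsg.Agent.S4813
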