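import Cfsg.Statements.S4814
import Cfsg.Agent.S4856
import Cfsg.Agent.Lib.Helper25.Linear

set_option autoImplicit false
set_option linter.style.haveILetI false
open Cfsg

namespace Cfsg.Agent.S4814

open Cfsg.Agent.Lib.Helper25
open scoped ComplexConjugate

/-- The number of ways of writing `g` as a product of two commutators, as a character sum. -/
theorem two_comm_count {G : Type*} [Group G] [Fintype G] [Fintype (IrrCharacter G)] (g : G) :
    ∑ z : G, (Nat.card {xy : G × G // xy.1 * xy.2 * xy.1⁻¹ * xy.2⁻¹ = z} : ℂ) *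
        (Nat.card {xy : G × G // xy.1 * xy.2 * xy.1⁻¹ * xy.2⁻¹ = z⁻¹ * g} : ℂ) =
      (Nat.card G : ℂ) ^ 3 * ∑ χ : IrrCharacter G, (χ : G → ℂ) g⁻¹ / ((χ : G → ℂ) 1) ^ 3 := by
  classical
  simp_rw [Cfsg.Agent.S4856.count_inv]
  have h1 : ∀ z : G, ((Nat.card G : ℂ) * ∑ χ : IrrCharacter G, (χ : G → ℂ) z⁻¹ / (χ : G → ℂ) 1) *
      ((Nat.card G : ℂ) * ∑ ψ : IrrCharacter G, (ψ : G → ℂ) (z⁻¹ * g)⁻¹ / (ψ : G → ℂ) 1) =
      (Nat.card G : ℂ) ^ 2 * ∑ χ : IrrCharacter G, ∑ ψ : IrrCharacter G,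
        ((ψ : G → ℂ) (g⁻¹ * z) * (χ : G → ℂ) z⁻¹) / ((χ : G → ℂ) 1 * (ψ : G → ℂ) 1) := by
    intro z
    rw [mul_mul_mul_comm, ← pow_two, Finset.sum_mul_sum]
    congr 1
    apply Finset.sum_congr rfl; intro χ _
    apply Finset.sum_congr rfl; intro ψ _
    rw [mul_inv_rev, inv_inv, div_mul_div_comm, mul_comm ((χ : G → ℂ) z⁻¹)]
  simp_rw [h1]
  rw [← Finset.mul_sum, Finset.sum_comm]
  have h2 : ∀ χ : IrrCharacter G, (∑ z : G, ∑ ψ : IrrCharacter G,
      ((ψ : G → ℂ) (g⁻¹ * z) * (χ : G → ℂ) z⁻¹) / ((χ : G → ℂ) 1 * (ψ : G → ℂ) 1)) =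
      (Nat.card G : ℂ) * ((χ : G → ℂ) g⁻¹ / ((χ : G → ℂ) 1) ^ 3) := by
    intro χ
    rw [Finset.sum_comm]
    have h3 : ∀ ψ : IrrCharacter G, (∑ z : G,
        ((ψ : G → ℂ) (g⁻¹ * z) * (χ : G → ℂ) z⁻¹) / ((χ : G → ℂ) 1 * (ψ : G → ℂ) 1)) =
        if ψ = χ then (Nat.card G : ℂ) * ((χ : G → ℂ) g⁻¹ / ((χ : G → ℂ) 1) ^ 3) else 0 := by
      intro ψ
      rw [← Finset.sum_div, sum_char_mul_char_inv ψ.2 χ.2 g⁻¹]
      by_cases hψ : ψ = χ
      · subst hψ
        rw [if_pos rfl, if_pos rfl]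
        have h1ne := irr_one_ne_zero ψ.2
        field_simp
      · have : ¬ ((ψ : G → ℂ) = (χ : G → ℂ)) := fun h => hψ (Subtype.ext h)
        rw [if_neg this, if_neg hψ, zero_div]
    simp_rw [h3]
    rw [Finset.sum_ite_eq' Finset.univ χ]
    simp
  simp_rw [h2]
  rw [← Finset.mul_sum, ← mul_assoc]
  congr 1

/-- Let G be a finite group such that the sum, over the irreducible complex characters χ of G, of 1/χ(1)² is less than 2. Then every element of G is a product of two commutators. -/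
theorem result {G : Type*} [Group G] [Finite G]
    (h : ∑ᶠ χ : Cfsg.IrrCharacter G, 1 / ‖(χ : G → ℂ) 1‖ ^ 2 < (2 : ℝ)) (g : G) :
    ∃ a b c d : G, (a * b * a⁻¹ * b⁻¹) * (c * d * c⁻¹ * d⁻¹) = g := by
  classical
  haveI := Fintype.ofFinite G
  haveI : Fintype (IrrCharacter G) := Fintype.ofFinite _
  rw [finsum_eq_sum_of_fintype] at h
  by_contra hne
  push Not at hne
  have hzero : ∀ z : G, (Nat.card {xy : G × G // xy.1 * xy.2 * xy.1⁻¹ * xy.2⁻¹ = z} : ℂ) *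
        (Nat.card {xy : G × G // xy.1 * xy.2 * xy.1⁻¹ * xy.2⁻¹ = z⁻¹ * g} : ℂ) = 0 := by
    intro z
    by_contra hz
    obtain ⟨hz1, hz2⟩ := mul_ne_zero_iff.1 hz
    have e1 : Nonempty {xy : G × G // xy.1 * xy.2 * xy.1⁻¹ * xy.2⁻¹ = z} := by
      by_contra hemp
      rw [not_nonempty_iff] at hemp
      apply hz1
      rw [Nat.card_of_isEmpty, Nat.cast_zero]
    have e2 : Nonempty {xy : G × G // xy.1 * xy.2 * xy.1⁻¹ * xy.2⁻¹ = z⁻¹ * g} := by
      by_contra hemp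
      rw [not_nonempty_iff] at hemp
      apply hz2
      rw [Nat.card_of_isEmpty, Nat.cast_zero]
    obtain ⟨⟨⟨a, b⟩, hab⟩⟩ := e1
    obtain ⟨⟨⟨c, d⟩, hcd⟩⟩ := e2
    apply hne a b c d
    simp only at hab hcd
    rw [hab, hcd, mul_inv_cancel_left]
  have hsum := two_comm_count g
  simp_rw [hzero] at hsum
  rw [Finset.sum_const_zero] at hsum
  have hG : (Nat.card G : ℂ) ≠ 0 := card_ne_zero_complex
  have hsum0 : ∑ χ : IrrCharacter G, (χ : G → ℂ) g⁻¹ / ((χ : G → ℂ) 1) ^ 3 = 0 := by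
    rcases mul_eq_zero.1 hsum.symm with h0 | h0
    · exact absurd (pow_eq_zero_iff (n := 3) (by norm_num) |>.1 h0) hG
    · exact h0
  -- split off the trivial character
  have hmem : irrOne G ∈ (Finset.univ : Finset (IrrCharacter G)) := Finset.mem_univ _
  rw [← Finset.add_sum_erase _ _ hmem] at hsum0 h
  have hone : ((irrOne G : IrrCharacter G) : G → ℂ) = fun _ => (1 : ℂ) := rfl
  rw [hone] at hsum0 h
  simp only [one_pow, div_one, norm_one] at hsum0 h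
  have hbound : ‖∑ χ ∈ (Finset.univ : Finset (IrrCharacter G)).erase (irrOne G),
      (χ : G → ℂ) g⁻¹ / ((χ : G → ℂ) 1) ^ 3‖ ≤
      ∑ χ ∈ (Finset.univ : Finset (IrrCharacter G)).erase (irrOne G),
        1 / ‖(χ : G → ℂ) 1‖ ^ 2 := by
    refine (norm_sum_le _ _).trans (Finset.sum_le_sum ?_)
    intro χ _
    have hc := isCharacter_of_irr χ.2
    have h1 := char_norm_le hc g⁻¹
    have h2 := char_one_eq_charDegree hc
    have h3 : ‖(χ : G → ℂ) 1‖ = (charDegree (χ : G → ℂ) : ℝ) := by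
      rw [h2, Complex.norm_natCast]
    have hpos : (0 : ℝ) < (charDegree (χ : G → ℂ) : ℝ) := by
      exact_mod_cast irr_degree_pos χ.2
    rw [norm_div, norm_pow, h3]
    rw [div_le_div_iff₀ (by positivity) (by positivity)]
    calc ‖(χ : G → ℂ) g⁻¹‖ * (charDegree (χ : G → ℂ) : ℝ) ^ 2
        ≤ (charDegree (χ : G → ℂ) : ℝ) * (charDegree (χ : G → ℂ) : ℝ) ^ 2 := by
          apply mul_le_mul_of_nonneg_right h1 (by positivity)
      _ = 1 * (charDegree (χ : G → ℂ) : ℝ) ^ 3 := by ring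
  have heq : ∑ χ ∈ (Finset.univ : Finset (IrrCharacter G)).erase (irrOne G),
      (χ : G → ℂ) g⁻¹ / ((χ : G → ℂ) 1) ^ 3 = -1 := by
    rw [eq_neg_iff_add_eq_zero, add_comm]
    exact hsum0
  rw [heq, norm_neg, norm_one] at hbound
  linarith

end Cfsg.Agent.S4814
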