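import Mathlib
import Cfsg.Statements.S4825
import Cfsg.Agent.Lib.Helper25.SectionVanish
import Cfsg.Agent.Lib.Helper2.Clifford
import Cfsg.Agent.Lib.Helper2.Induction
import Cfsg.Agent.Lib.Helper7.PCongr
import Cfsg.Agent.Lib.Helper7.PPart2
import Cfsg.Agent.Lib.Helper24.Loc
import Cfsg.Agent.Lib.Helper24.Contribution

set_option autoImplicit false
open Cfsg

namespace Cfsg.Agent.S4825

open Cfsg.Agent.Lib.Helper2 Cfsg.Agent.Lib.Helper7 Cfsg.Agent.Lib.Helper24
open scoped ComplexConjugate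

section

variable {G : Type*} [Group G] [Fintype G] {p : ℕ} [Fact p.Prime] {M : Ideal Cfsg.AlgInt}

/-- the key congruence: the `θ`-weighted degree sum of a block is divisible by `p` when some
`p`-element lies outside `N` -/
theorem key_dvd (hM : Cfsg.IsPModular p M) (B : Set (Cfsg.IrrCharacter G))
    (hB : Cfsg.IsPBlock M B) (N : Subgroup G) [N.Normal] [Fintype N] (u : G)
    (hu : ∃ k : ℕ, orderOf u = p ^ k) (huN : u ∉ N) (θ : Cfsg.IrrCharacter N)
    (e : Cfsg.IrrCharacter G → ℕ)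
    (he : ∀ χ : Cfsg.IrrCharacter G,
      Cfsg.classInner (fun n : N => (χ : G → ℂ) n) (θ : N → ℂ) = (e χ : ℂ))
    [Fintype (Cfsg.IrrCharacter G)] [DecidablePred (· ∈ B)] :
    p ∣ ∑ χ : Cfsg.IrrCharacter G,
      if χ ∈ B then e χ * Cfsg.charDegree (χ : G → ℂ) else 0 := by
  classical
  have hp : p.Prime := Fact.out
  set φ : G → ℂ := Cfsg.indFun N (θ : N → ℂ) with hφdef
  have hφ : Cfsg.IsClassFunction G φ := indFun_isClassFunction N _
  have hvan : ∀ c : Subgroup.centralizer ({u} : Set G), ¬ p ∣ orderOf c →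
      φ (u * (c : G)) = 0 := by
    intro c hc
    apply indFun_apply_not_mem
    intro hmem
    apply huN
    have hcomm : Commute u (c : G) := by
      have := c.2
      rw [Subgroup.mem_centralizer_singleton_iff] at this
      exact this.symm
    have hpp : Cfsg.IsPPart p (u * (c : G)) u :=
      ⟨(c : G), rfl, hcomm, hu, by rwa [Subgroup.orderOf_coe]⟩
    have h1 := isPPart_mem_zpowers p hpp
    exact (Subgroup.zpowers_le.mpr hmem) h1
  have h1reg : ¬ p ∣ orderOf (1 : Subgroup.centralizer ({u} : Set G)) := by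
    rw [orderOf_one]; exact Nat.Prime.not_dvd_one hp
  have h0 := Cfsg.Agent.Lib.Helper25.blockPart_section_vanish hM B hB φ hφ u hu hvan 1 h1reg
  rw [blockPart_apply, finsum_mem_eq_sum_ite] at h0
  have hcoef : ∀ χ : Cfsg.IrrCharacter G, Cfsg.classInner φ (χ : G → ℂ) = (e χ : ℂ) := by
    intro χ
    rw [hφdef, frobenius_reciprocity N _ _ (IrrCharacter.isClassFunction χ),
      ← classInner_conj_symm, he χ, Complex.conj_natCast]
  simp only [hcoef, OneMemClass.coe_one, mul_one] at h0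
  -- the congruence
  have hI : Cfsg.MemLocalIdeal M (((∑ χ : Cfsg.IrrCharacter G,
      if χ ∈ B then e χ * Cfsg.charDegree (χ : G → ℂ) else 0 : ℕ) : ℂ)) := by
    have e1 : ((∑ χ : Cfsg.IrrCharacter G,
        if χ ∈ B then e χ * Cfsg.charDegree (χ : G → ℂ) else 0 : ℕ) : ℂ)
        = ∑ χ : Cfsg.IrrCharacter G, (if χ ∈ B then
          (e χ : ℂ) * ((χ : G → ℂ) 1 - (χ : G → ℂ) u) else 0) := by
      have e2 : ∑ χ : Cfsg.IrrCharacter G, (if χ ∈ B then
          (e χ : ℂ) * ((χ : G → ℂ) 1 - (χ : G → ℂ) u) else 0)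
          = ∑ χ : Cfsg.IrrCharacter G, (if χ ∈ B then (e χ : ℂ) * (χ : G → ℂ) 1 else 0)
            - ∑ χ : Cfsg.IrrCharacter G, (if χ ∈ B then (e χ : ℂ) * (χ : G → ℂ) u else 0) := by
        rw [← Finset.sum_sub_distrib]
        apply Finset.sum_congr rfl; intro χ _
        split_ifs
        · ring
        · simp
      rw [e2, h0, sub_zero]
      push_cast
      apply Finset.sum_congr rfl; intro χ _
      split_ifs
      · rw [apply_one_eq_charDegree]
      · rfl
    rw [e1]
    apply memLocalIdeal_sum hM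
    intro χ _
    split_ifs
    · apply memLocalIdeal_mul_left hM (memLocalRing_natCast hM _)
      have h2 := char_mul_sub_memLocalIdeal hM (χ : G → ℂ) (IsIrrCharacter.isCharacter χ.2) u 1
        (by rw [mul_one, one_mul]) hu
      rw [mul_one] at h2
      have h3 := memLocalIdeal_neg h2
      rwa [neg_sub] at h3
    · exact memLocalIdeal_zero hM
  exact (memLocalIdeal_natCast_iff hM _).mp hI

omit [Fact p.Prime] in
/-- Clifford: the degrees of the characters over `θ` are `e_χ c` for a common `c` -/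
theorem exists_common_factor (N : Subgroup G) [N.Normal] [Fintype N] (θ : Cfsg.IrrCharacter N)
    (e : Cfsg.IrrCharacter G → ℕ)
    (he : ∀ χ : Cfsg.IrrCharacter G,
      Cfsg.classInner (fun n : N => (χ : G → ℂ) n) (θ : N → ℂ) = (e χ : ℂ)) :
    ∃ c : ℕ, ∀ χ : Cfsg.IrrCharacter G, e χ ≠ 0 → Cfsg.charDegree (χ : G → ℂ) = e χ * c := by
  classical
  have hfin := finite_conjugates (G := G) N (θ : N → ℂ)
  refine ⟨hfin.toFinset.card * Cfsg.charDegree (θ : N → ℂ), ?_⟩
  intro χ hχ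
  have hne : Cfsg.classInner (fun n : N => (χ : G → ℂ) n) (θ : N → ℂ) ≠ 0 := by
    rw [he χ]; exact_mod_cast hχ
  have h1 := clifford_restriction N χ.2 θ.2 hne
  have h2 := congrFun h1 1
  rw [finsum_mem_eq_finite_toFinset_sum _ hfin] at h2
  simp only [Pi.smul_apply, Finset.sum_apply, smul_eq_mul, OneMemClass.coe_one] at h2
  have h3 : ∀ ψ ∈ hfin.toFinset, ψ 1 = (θ : N → ℂ) 1 := by
    intro ψ hψ
    rw [Set.Finite.mem_toFinset] at hψ
    obtain ⟨g, rfl⟩ := hψ
    rw [conjFun_apply]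
    exact congrArg (θ : N → ℂ) (Subtype.ext (by simp))
  rw [Finset.sum_congr rfl h3, Finset.sum_const, nsmul_eq_mul, he χ, apply_one_eq_charDegree,
    apply_one_eq_charDegree] at h2
  exact_mod_cast h2

end

theorem sq_eq_one_two : ∀ a : ZMod 2, a ≠ 0 → a ^ 2 = 1 := by decide

theorem sq_eq_one_three : ∀ a : ZMod 3, a ≠ 0 → a ^ 2 = 1 := by decide

/-- the arithmetic core -/
theorem arith {ι : Type*} [DecidableEq ι] (p : ℕ) [Fact p.Prime] (Bf : Finset ι) (e deg : ι → ℕ)
    (c : ℕ) (hc : ∀ i, e i ≠ 0 → deg i = e i * c)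
    (hdvd : p ∣ ∑ i ∈ Bf, e i * deg i) :
    ((Bf.filter (fun i => ¬ p ∣ deg i ∧ e i ≠ 0)).card = 0 ∨
      2 ≤ (Bf.filter (fun i => ¬ p ∣ deg i ∧ e i ≠ 0)).card) ∧
    (p ≤ 3 → p ∣ (Bf.filter (fun i => ¬ p ∣ deg i ∧ e i ≠ 0)).card) := by
  have hp : p.Prime := Fact.out
  set X := Bf.filter (fun i => ¬ p ∣ deg i ∧ e i ≠ 0) with hX
  -- the sum over `X` in `ZMod p`
  have h1 : ∑ i ∈ X, ((e i : ZMod p)) ^ 2 * (c : ZMod p) = 0 := by
    have h2 : ((∑ i ∈ Bf, e i * deg i : ℕ) : ZMod p) = 0 :=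
      (ZMod.natCast_eq_zero_iff _ _).mpr hdvd
    rw [← h2]
    push_cast
    rw [hX, Finset.sum_filter]
    apply Finset.sum_congr rfl; intro i _
    split_ifs with h
    · rw [hc i h.2]; push_cast; ring
    · rw [not_and_or, not_not, not_not] at h
      rcases h with h | h
      · rw [(ZMod.natCast_eq_zero_iff _ _).mpr h, mul_zero]
      · rw [h]; simp
  by_cases hXe : X = ∅
  · rw [hXe]; simp
  obtain ⟨i₀, hi₀⟩ := Finset.nonempty_iff_ne_empty.mpr hXe
  have hmem : ∀ i ∈ X, (e i : ZMod p) ≠ 0 ∧ (c : ZMod p) ≠ 0 := by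
    intro i hi
    rw [hX, Finset.mem_filter] at hi
    obtain ⟨_, hnd, hne⟩ := hi
    rw [hc i hne] at hnd
    constructor
    · intro h
      exact hnd (Dvd.dvd.mul_right ((ZMod.natCast_eq_zero_iff _ _).mp h) _)
    · intro h
      exact hnd (Dvd.dvd.mul_left ((ZMod.natCast_eq_zero_iff _ _).mp h) _)
  have hc0 := (hmem i₀ hi₀).2
  rw [← Finset.sum_mul] at h1
  have h3 : ∑ i ∈ X, ((e i : ZMod p)) ^ 2 = 0 := by
    rcases mul_eq_zero.mp h1 with h | h
    · exact h
    · exact absurd h hc0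
  constructor
  · by_contra hcon
    push Not at hcon
    have h1c : X.card = 1 := by omega
    obtain ⟨j, hj⟩ := Finset.card_eq_one.mp h1c
    rw [hj, Finset.sum_singleton] at h3
    have : (e j : ZMod p) = 0 := by
      have := pow_eq_zero_iff (n := 2) (by norm_num) |>.mp h3
      exact this
    exact (hmem j (by rw [hj]; exact Finset.mem_singleton_self j)).1 this
  · intro hp3
    have hsq : ∀ i ∈ X, ((e i : ZMod p)) ^ 2 = 1 := by
      intro i hi
      have hne := (hmem i hi).1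
      have hp23 : p = 2 ∨ p = 3 := by
        have := hp.two_le
        omega
      rcases hp23 with h2 | h3
      · subst h2
        exact sq_eq_one_two _ hne
      · subst h3
        exact sq_eq_one_three _ hne
    rw [Finset.sum_congr rfl hsq, Finset.sum_const, nsmul_eq_mul, mul_one] at h3
    exact (ZMod.natCast_eq_zero_iff _ _).mp h3

/-- Let p be a prime, G a finite group with Sylow p-subgroup P, M a maximal ideal of the algebraic integers containing p, and B a p-block of G with defect group P. Let N be a normal subgroup of G not containing P and θ an irreducible character of N. Then the number of irreducible characters in B of degree prime to p lying over θ (having θ as a constituent on restriction to N) is either 0 or at least 2, and when p ≤ 3 it is divisible by p. -/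
theorem result {G : Type*} [Group G] [Fintype G] (p : ℕ) [Fact p.Prime] (P : Sylow p G) (M : Ideal Cfsg.AlgInt) (hM : Cfsg.IsPModular p M) (B : Set (Cfsg.IrrCharacter G)) (hB : Cfsg.IsPBlock M B) (hBP : Cfsg.IsDefectGroup p M B P) (N : Subgroup G) [N.Normal] [Fintype N] (hPN : ¬ (P : Subgroup G) ≤ N) (θ : Cfsg.IrrCharacter N) :
    (Nat.card {χ : Cfsg.IrrCharacter G // χ ∈ B ∧ ¬ p ∣ Cfsg.charDegree (χ : G → ℂ) ∧ Cfsg.classInner (fun n : N => (χ : G → ℂ) n) (θ : N → ℂ) ≠ 0} = 0 ∨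
      2 ≤ Nat.card {χ : Cfsg.IrrCharacter G // χ ∈ B ∧ ¬ p ∣ Cfsg.charDegree (χ : G → ℂ) ∧ Cfsg.classInner (fun n : N => (χ : G → ℂ) n) (θ : N → ℂ) ≠ 0}) ∧
    (p ≤ 3 → p ∣ Nat.card {χ : Cfsg.IrrCharacter G // χ ∈ B ∧ ¬ p ∣ Cfsg.charDegree (χ : G → ℂ) ∧ Cfsg.classInner (fun n : N => (χ : G → ℂ) n) (θ : N → ℂ) ≠ 0}) := by
  classical
  haveI : Fintype (Cfsg.IrrCharacter G) := Fintype.ofFinite _
  -- a `p`-element outside `N`
  obtain ⟨u, huP, huN⟩ : ∃ u ∈ (P : Subgroup G), u ∉ N := by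
    by_contra hcon
    push Not at hcon
    exact hPN hcon
  have hu : ∃ k : ℕ, orderOf u = p ^ k := by
    obtain ⟨k, hk⟩ := (IsPGroup.iff_orderOf.mp P.isPGroup') ⟨u, huP⟩
    exact ⟨k, by rw [← hk, Subgroup.orderOf_mk]⟩
  -- the multiplicities
  have hex : ∀ χ : Cfsg.IrrCharacter G, ∃ n : ℕ,
      Cfsg.classInner (fun n : N => (χ : G → ℂ) n) (θ : N → ℂ) = (n : ℂ) := fun χ =>
    classInner_isCharacter_nat (IsCharacter.restrict (IsIrrCharacter.isCharacter χ.2) N)
      (IsIrrCharacter.isCharacter θ.2)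
  choose e he using hex
  obtain ⟨c, hc⟩ := exists_common_factor N θ e he
  have hdvd := key_dvd hM B hB N u hu huN θ e he
  have hsum : ∑ χ : Cfsg.IrrCharacter G,
      (if χ ∈ B then e χ * Cfsg.charDegree (χ : G → ℂ) else 0)
      = ∑ χ ∈ Finset.univ.filter (fun χ : Cfsg.IrrCharacter G => χ ∈ B),
        e χ * Cfsg.charDegree (χ : G → ℂ) := by
    rw [Finset.sum_filter]
  rw [hsum] at hdvd
  have hmain := arith p (Finset.univ.filter (fun χ : Cfsg.IrrCharacter G => χ ∈ B)) e
    (fun χ => Cfsg.charDegree (χ : G → ℂ)) c hc hdvd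
  have hcard : Nat.card {χ : Cfsg.IrrCharacter G // χ ∈ B ∧ ¬ p ∣ Cfsg.charDegree (χ : G → ℂ) ∧ Cfsg.classInner (fun n : N => (χ : G → ℂ) n) (θ : N → ℂ) ≠ 0}
      = ((Finset.univ.filter (fun χ : Cfsg.IrrCharacter G => χ ∈ B)).filter
        (fun χ : Cfsg.IrrCharacter G => ¬ p ∣ Cfsg.charDegree (χ : G → ℂ) ∧ e χ ≠ 0)).card := by
    rw [Nat.card_eq_fintype_card, Fintype.card_subtype, Finset.filter_filter]
    apply congrArg Finset.card
    apply Finset.filter_congr
    intro χ _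
    rw [he χ]
    simp only [ne_eq, Nat.cast_eq_zero]
  rw [hcard]
  exact hmain

end Cfsg.Agent.S4825
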