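import Cfsg.Statements.S4835
import Cfsg.Agent.Lib.Helper25.Gagola

set_option autoImplicit false
set_option linter.style.haveILetI false
open Cfsg

namespace Cfsg.Agent.S4835

open Cfsg.Agent.Lib.Helper25
open scoped ComplexConjugate

/-- Let G be a finite group of order greater than 2 with an irreducible character χ that is nonzero on exactly two conjugacy classes. Then G has a unique minimal normal subgroup N; N is an elementary abelian p-group for some prime p; χ is nonzero exactly at the elements of N; and any two nonidentity elements of N are conjugate in G. -/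
theorem result {G : Type*} [Group G] [Finite G] (hG : 2 < Nat.card G) (χ : Cfsg.IrrCharacter G) (hχ : Nat.card {C : ConjClasses G // ∃ g ∈ C.carrier, (χ : G → ℂ) g ≠ 0} = 2) :
    ∃ N : Subgroup G, N.Normal ∧ N ≠ ⊥ ∧ (∀ K : Subgroup G, K.Normal → K ≠ ⊥ → N ≤ K) ∧
      (∃ p : ℕ, p.Prime ∧ Cfsg.IsElementaryAbelian p N) ∧
      (∀ g : G, (χ : G → ℂ) g ≠ 0 ↔ g ∈ N) ∧
      (∀ x ∈ N, ∀ y ∈ N, x ≠ 1 → y ≠ 1 → ∃ g : G, g * x * g⁻¹ = y) := by
  classical
  obtain ⟨x, hx1, hx, hall⟩ := two_class_data χ hχ
  obtain ⟨hfaith, hmul, -⟩ := gagola_main hG χ x hx1 hx hall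
  have hchar := isCharacter_of_irr χ.2
  have hcf := isClassFunction_of_char hchar
  have h1ne := irr_one_ne_zero χ.2
  let N : Subgroup G :=
    { carrier := {g | (χ : G → ℂ) g ≠ 0}
      mul_mem' := fun {a b} ha hb => hmul a b ha hb
      one_mem' := h1ne
      inv_mem' := fun {a} ha => by
        change (χ : G → ℂ) a⁻¹ ≠ 0
        rw [char_inv hchar]
        exact (map_ne_zero _).2 ha }
  have hmemN : ∀ g, g ∈ N ↔ (χ : G → ℂ) g ≠ 0 := fun g => Iff.rfl
  have hxN : x ∈ N := hx
  have hNconj : ∀ g, g ∈ N → g = 1 ∨ IsConj x g := fun g hg => hall g hg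
  have hNnormal : N.Normal := by
    refine ⟨fun n hn g => ?_⟩
    rw [hmemN, hcf n g]
    exact hn
  have hconjN : ∀ g, IsConj x g → g ∈ N := by
    intro g hg
    obtain ⟨k, rfl⟩ := isConj_iff.1 hg
    exact hNnormal.conj_mem x hxN k
  refine ⟨N, hNnormal, ?_, ?_, ?_, fun g => (hmemN g).symm, ?_⟩
  · intro h
    rw [h, Subgroup.mem_bot] at hxN
    exact hx1 hxN
  · -- unique minimal normal subgroup
    intro K hKn hKbot
    haveI := hKn
    haveI : Fintype K := Fintype.ofFinite _
    have hxK : x ∈ K := by
      rcases sum_normal_char χ.2 K with h1 | h1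
      · exfalso
        apply hKbot
        rw [Subgroup.eq_bot_iff_forall]
        intro k hk
        exact hfaith k (h1 k hk)
      · have h2 := h1 1
        simp only [one_mul] at h2
        by_contra hxK
        have h3 : ∀ k : K, k ≠ 1 → (χ : G → ℂ) (k : G) = 0 := by
          intro k hk
          by_contra h4
          rcases hall _ h4 with h5 | h5
          · exact hk (Subtype.ext h5)
          · obtain ⟨l, hl⟩ := isConj_iff.1 h5
            apply hxK
            have : x = l⁻¹ * (k : G) * l⁻¹⁻¹ := by rw [← hl]; group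
            rw [this]
            exact hKn.conj_mem _ k.2 _
        rw [Finset.sum_eq_single (1 : K) (fun k _ hk => h3 k hk)
          (fun h => absurd (Finset.mem_univ _) h)] at h2
        exact h1ne h2
    intro g hg
    rcases hNconj g hg with rfl | hg'
    · exact K.one_mem
    · obtain ⟨k, rfl⟩ := isConj_iff.1 hg'
      exact hKn.conj_mem x hxK k
  · -- elementary abelian
    have hNnontriv : Nontrivial N := by
      refine ⟨⟨⟨x, hxN⟩, 1, ?_⟩⟩
      intro h
      exact hx1 (congrArg Subtype.val h)
    have hcardN : Nat.card N ≠ 1 := by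
      intro h
      have := (Nat.card_eq_one_iff_unique.1 h).1
      exact not_subsingleton N this
    obtain ⟨p, hp, hpdvd⟩ := Nat.exists_prime_and_dvd hcardN
    haveI : Fact p.Prime := ⟨hp⟩
    obtain ⟨y, hy⟩ := exists_prime_orderOf_dvd_card' (G := N) p hpdvd
    have hy1 : (y : G) ≠ 1 := by
      intro h
      have : y = 1 := Subtype.ext h
      rw [this, orderOf_one] at hy
      exact hp.one_lt.ne hy
    have hxp : x ^ p = 1 := by
      rcases hNconj y y.2 with h | h
      · exact absurd h hy1
      · obtain ⟨k, hk⟩ := isConj_iff.1 h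
        have h1 : (y : G) ^ p = 1 := by
          have := pow_orderOf_eq_one y
          rw [hy] at this
          exact_mod_cast congrArg Subtype.val this
        rw [← hk, conj_pow] at h1
        have : x ^ p = k⁻¹ * (k * x ^ p * k⁻¹) * k := by group
        rw [this, h1]; group
    have hpow : ∀ g ∈ N, g ^ p = 1 := by
      intro g hg
      rcases hNconj g hg with rfl | hg'
      · exact one_pow p
      · obtain ⟨k, rfl⟩ := isConj_iff.1 hg'
        rw [conj_pow, hxp]; group
    have hNp : IsPGroup p N := by
      intro g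
      refine ⟨1, ?_⟩
      rw [pow_one]
      apply Subtype.ext
      rw [Subgroup.coe_pow]
      exact hpow g g.2
    haveI := hNnontriv
    have hcenter : Nontrivial (Subgroup.center N) := hNp.center_nontrivial
    obtain ⟨z, hz1⟩ := exists_ne (1 : Subgroup.center N)
    have hzG1 : ((z : N) : G) ≠ 1 := by
      intro h
      apply hz1
      apply Subtype.ext
      apply Subtype.ext
      exact h
    have hzcomm : ∀ n ∈ N, n * ((z : N) : G) = ((z : N) : G) * n := by
      intro n hn
      have := Subgroup.mem_center_iff.1 z.2 ⟨n, hn⟩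
      exact congrArg Subtype.val this
    -- `x` commutes with every element of `N`
    have hxcomm : ∀ n ∈ N, n * x = x * n := by
      intro n hn
      rcases hNconj _ (z : N).2 with h | h
      · exact absurd h hzG1
      · obtain ⟨k, hk⟩ := isConj_iff.1 h
        have hx' : x = k⁻¹ * ((z : N) : G) * k := by rw [← hk]; group
        have hkn : k * n * k⁻¹ ∈ N := hNnormal.conj_mem n hn k
        have h2 := hzcomm _ hkn
        calc n * x = k⁻¹ * ((k * n * k⁻¹) * ((z : N) : G)) * k := by rw [hx']; group
          _ = k⁻¹ * (((z : N) : G) * (k * n * k⁻¹)) * k := by rw [h2]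
          _ = x * n := by rw [hx']; group
    have hcomm : ∀ g ∈ N, ∀ h ∈ N, g * h = h * g := by
      intro g hg h hh
      rcases hNconj g hg with rfl | hg'
      · rw [one_mul, mul_one]
      · obtain ⟨l, rfl⟩ := isConj_iff.1 hg'
        have hlh : l⁻¹ * h * l⁻¹⁻¹ ∈ N := hNnormal.conj_mem h hh l⁻¹
        have h2 := hxcomm _ hlh
        calc l * x * l⁻¹ * h = l * (x * (l⁻¹ * h * l⁻¹⁻¹)) * l⁻¹ := by group
          _ = l * ((l⁻¹ * h * l⁻¹⁻¹) * x) * l⁻¹ := by rw [h2]
          _ = h * (l * x * l⁻¹) := by group
    refine ⟨p, hp, ⟨⟨fun a b => Subtype.ext (hcomm a a.2 b b.2)⟩⟩, hpow⟩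
  · intro u hu v hv hu1 hv1
    rcases hNconj u hu with h | h
    · exact absurd h hu1
    rcases hNconj v hv with h' | h'
    · exact absurd h' hv1
    exact isConj_iff.1 (h.symm.trans h')

end Cfsg.Agent.S4835
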