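import Cfsg.Statements.S4836
import Cfsg.Agent.S4835
import Cfsg.Agent.S4808

set_option autoImplicit false
set_option linter.style.haveILetI false
open Cfsg

namespace Cfsg.Agent.S4836

open Cfsg.Agent.Lib.Helper25
open scoped ComplexConjugate

/-- Let G be a finite group of order greater than 2 with an irreducible character χ that is nonzero on exactly two conjugacy classes. Then χ is faithful (it takes the value χ(1) only at the identity), it is the only faithful irreducible character of G, and it is the only irreducible character of G that is nonzero on exactly two conjugacy classes. -/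
theorem result {G : Type*} [Group G] [Finite G] (hG : 2 < Nat.card G) (χ : Cfsg.IrrCharacter G) (hχ : Nat.card {C : ConjClasses G // ∃ g ∈ C.carrier, (χ : G → ℂ) g ≠ 0} = 2) :
    (∀ g : G, (χ : G → ℂ) g = (χ : G → ℂ) 1 → g = 1) ∧
      (∀ ψ : Cfsg.IrrCharacter G, (∀ g : G, (ψ : G → ℂ) g = (ψ : G → ℂ) 1 → g = 1) → ψ = χ) ∧
      (∀ ψ : Cfsg.IrrCharacter G, Nat.card {C : ConjClasses G // ∃ g ∈ C.carrier, (ψ : G → ℂ) g ≠ 0} = 2 → ψ = χ) := by
  classical
  haveI := Fintype.ofFinite G
  haveI : Fintype (IrrCharacter G) := Fintype.ofFinite _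
  obtain ⟨x, hx1, hx, hall⟩ := two_class_data χ hχ
  obtain ⟨hfaith, -, hnum⟩ := gagola_main hG χ x hx1 hx hall
  have hfaithful_of : ∀ ψ : IrrCharacter G,
      Nat.card {C : ConjClasses G // ∃ g ∈ C.carrier, (ψ : G → ℂ) g ≠ 0} = 2 →
      ∀ g : G, (ψ : G → ℂ) g = (ψ : G → ℂ) 1 → g = 1 := by
    intro ψ hψ
    obtain ⟨y, hy1, hy, hally⟩ := two_class_data ψ hψ
    exact (gagola_main hG ψ y hy1 hy hally).1
  have huniq : ∀ ψ : Cfsg.IrrCharacter G,
      (∀ g : G, (ψ : G → ℂ) g = (ψ : G → ℂ) 1 → g = 1) → ψ = χ := by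
    intro ψ hψ
    by_contra hne
    obtain ⟨N, hNn, hNbot, -, -, hNmem, -⟩ := Cfsg.Agent.S4835.result hG χ hχ
    haveI := hNn
    have hxN : x ∈ N := (hNmem x).1 hx
    set c := Nat.card {g : G // IsConj x g} with hc
    -- the order of `N`
    have hNcard : Nat.card N = c + 1 := by
      have h1 : Nat.card N = (Finset.univ.filter (fun g : G => g ∈ N)).card := by
        rw [Nat.card_eq_fintype_card, Fintype.card_subtype]
      have hnm : (1 : G) ∉ Finset.univ.filter (fun g : G => IsConj x g) := by
        simp only [Finset.mem_filter, Finset.mem_univ, true_and]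
        intro h
        exact hx1 (isConj_one_left.1 h)
      have hu : Finset.univ.filter (fun g : G => g ∈ N) =
          insert 1 (Finset.univ.filter (fun g : G => IsConj x g)) := by
        ext g
        simp only [Finset.mem_univ, Finset.mem_insert, Finset.mem_filter, true_and]
        constructor
        · intro hg
          exact hall g ((hNmem g).2 hg)
        · rintro (rfl | hg)
          · exact N.one_mem
          · obtain ⟨k, rfl⟩ := isConj_iff.1 hg
            exact hNn.conj_mem x hxN k
      rw [h1, hu, Finset.card_insert_of_notMem hnm, hc, Nat.card_eq_fintype_card,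
        Fintype.card_subtype]
    have hsum := Cfsg.Agent.S4808.sum_sq_nat (G := G)
    have hsumN := Cfsg.Agent.S4808.sum_sq_ker_nat (G := G) N
    have hsplit := Finset.sum_filter_add_sum_filter_not (Finset.univ : Finset (IrrCharacter G))
      (fun φ : IrrCharacter G => ∀ n ∈ N, (φ : G → ℂ) n = (φ : G → ℂ) 1)
      (fun φ => charDegree (φ : G → ℂ) ^ 2)
    rw [hsum] at hsplit
    set A := ∑ φ ∈ Finset.univ.filter (fun φ : IrrCharacter G =>
      ∀ n ∈ N, (φ : G → ℂ) n = (φ : G → ℂ) 1), charDegree (φ : G → ℂ) ^ 2 with hA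
    set B := ∑ φ ∈ Finset.univ.filter (fun φ : IrrCharacter G =>
      ¬ ∀ n ∈ N, (φ : G → ℂ) n = (φ : G → ℂ) 1), charDegree (φ : G → ℂ) ^ 2 with hB
    rw [hNcard] at hsumN
    -- `B = d²`
    have hBeq : B = charDegree (χ : G → ℂ) ^ 2 := by
      have h1 : (c + 1) * B = (c + 1) * charDegree (χ : G → ℂ) ^ 2 := by
        have : (c + 1) * B + Nat.card G = (c + 1) * Nat.card G := by
          rw [← hsplit]
          nlinarith [hsumN]
        nlinarith [hnum, this]
      exact Nat.eq_of_mul_eq_mul_left (Nat.succ_pos c) h1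
    have hχmem : χ ∈ Finset.univ.filter (fun φ : IrrCharacter G =>
        ¬ ∀ n ∈ N, (φ : G → ℂ) n = (φ : G → ℂ) 1) := by
      rw [Finset.mem_filter]
      refine ⟨Finset.mem_univ _, fun h => hx1 (hfaith x (h x hxN))⟩
    have hψmem : ψ ∈ Finset.univ.filter (fun φ : IrrCharacter G =>
        ¬ ∀ n ∈ N, (φ : G → ℂ) n = (φ : G → ℂ) 1) := by
      rw [Finset.mem_filter]
      refine ⟨Finset.mem_univ _, fun h => hx1 (hψ x (h x hxN))⟩
    have hpair : ∑ φ ∈ ({χ, ψ} : Finset (IrrCharacter G)), charDegree (φ : G → ℂ) ^ 2 ≤ B := by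
      rw [hB]
      apply Finset.sum_le_sum_of_subset
      intro φ hφ
      rw [Finset.mem_insert, Finset.mem_singleton] at hφ
      rcases hφ with rfl | rfl
      · exact hχmem
      · exact hψmem
    rw [Finset.sum_pair (Ne.symm hne), hBeq] at hpair
    have hψpos : 0 < charDegree (ψ : G → ℂ) := irr_degree_pos ψ.2
    nlinarith
  exact ⟨hfaith, huniq, fun ψ hψ => huniq ψ (hfaithful_of ψ hψ)⟩

end Cfsg.Agent.S4836
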