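import Mathlib
import Cfsg.Statements.S4837
import Cfsg.Agent.Lib.Helper25.Gagola2
import Cfsg.Agent.Lib.Helper25.InvertSylow
import Cfsg.Agent.Lib.Helper2.Clifford
import Cfsg.Agent.Lib.Helper2.NormalInduction
import Cfsg.Agent.Lib.Helper2.Expansion

set_option autoImplicit false
set_option linter.style.haveILetI false
open Cfsg

namespace Cfsg.Agent.S4837

open Cfsg.Agent.Lib.Helper2 Cfsg.Agent.Lib.Helper25
open scoped ComplexConjugate

/-- Conjugation of irreducible characters of a normal subgroup. -/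
noncomputable def cIrr {G : Type*} [Group G] [Finite G] (N : Subgroup G) [N.Normal] (g : G)
    (μ : Cfsg.IrrCharacter N) : Cfsg.IrrCharacter N :=
  ⟨conjFun N g (μ : N → ℂ), isIrrCharacter_conjFun N g μ.2⟩

/-- The action of `G` on the irreducible characters of a normal subgroup. -/
@[reducible] noncomputable def irrAction {G : Type*} [Group G] [Finite G] (N : Subgroup G)
    [N.Normal] : MulAction G (Cfsg.IrrCharacter N) where
  smul g μ := cIrr N g⁻¹ μ
  one_smul μ := by
    apply Subtype.ext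
    show conjFun N (1 : G)⁻¹ (μ : N → ℂ) = _
    rw [inv_one, conjFun_one]
  mul_smul a b μ := by
    apply Subtype.ext
    show conjFun N (a * b)⁻¹ (μ : N → ℂ) = conjFun N a⁻¹ (conjFun N b⁻¹ (μ : N → ℂ))
    rw [mul_inv_rev, conjFun_mul]

/-- In a commutative group the number of irreducible characters is the group order. -/
theorem card_irr_of_comm {A : Type*} [Group A] [Finite A] (hA : ∀ a b : A, a * b = b * a) :
    Nat.card (Cfsg.IrrCharacter A) = Nat.card A := by
  haveI := Fintype.ofFinite A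
  rw [card_irrCharacter]
  symm
  apply Nat.card_congr
  refine Equiv.ofBijective ConjClasses.mk ⟨?_, ConjClasses.mk_surjective⟩
  intro a b h
  rw [ConjClasses.mk_eq_mk_iff_isConj] at h
  obtain ⟨k, hk⟩ := isConj_iff.1 h
  rw [← hk, hA k a, mul_inv_cancel_right]

theorem result {G : Type*} [Group G] [Finite G] (hG : 2 < Nat.card G) (χ : Cfsg.IrrCharacter G) (hχ : Nat.card {C : ConjClasses G // ∃ g ∈ C.carrier, (χ : G → ℂ) g ≠ 0} = 2) (p : ℕ) [Fact p.Prime] (N : Subgroup G) [N.Normal] (hN : ∀ g : G, g ∈ N ↔ (χ : G → ℂ) g ≠ 0) (hNp : IsPGroup p N) (hN1 : N ≠ ⊥) :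
    (∀ x ∈ N, x ≠ 1 → ∃ P : Sylow p G, Subgroup.centralizer ({x} : Set G) = P) ∧
      (∀ μ : Cfsg.IrrCharacter N, (μ : N → ℂ) ≠ (fun _ => (1 : ℂ)) → ∃ P : Sylow p G, ∀ g : G, g ∈ (P : Subgroup G) ↔ ∀ n n' : N, (n' : G) = g * n * g⁻¹ → (μ : N → ℂ) n' = (μ : N → ℂ) n) := by
  classical
  haveI := Fintype.ofFinite G
  have hp : p.Prime := Fact.out
  have hpart1 : ∀ x ∈ N, x ≠ 1 → ∃ P : Sylow p G, Subgroup.centralizer ({x} : Set G) = P := by
    intro x hx hx1
    have hcard := gagola_card_centralizer hG χ hχ p N hN hNp hx hx1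
    exact ⟨Sylow.ofCard _ hcard, (Sylow.coe_ofCard _ hcard).symm⟩
  refine ⟨hpart1, ?_⟩
  -- base point
  obtain ⟨x, hxN, hx1⟩ : ∃ x ∈ N, x ≠ 1 := by
    by_contra h
    push Not at h
    exact hN1 ((Subgroup.eq_bot_iff_forall N).2 h)
  have hχx : (χ : G → ℂ) x ≠ 0 := (hN x).1 hxN
  have hall := gagola_all_conj χ hχ hx1 hχx
  obtain ⟨hfaith, -, hmain⟩ := gagola_main hG χ x hx1 hχx hall
  have hcardN := gagola_card_N χ N hN hx1 hxN hall
  have hcardC := gagola_card_centralizer hG χ hχ p N hN hNp hxN hx1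
  have hmc := Cfsg.Agent.Lib.Helper2.card_centralizer_mul_card_conj x
  set c := Nat.card {g : G // IsConj x g} with hc
  have hcf := isClassFunction_of_char (isCharacter_of_irr χ.2)
  -- N is abelian
  have hNcomm : ∀ a b : N, a * b = b * a := by
    intro a b
    by_cases ha : (a : G) = 1
    · have : a = 1 := Subtype.ext ha
      rw [this, one_mul, mul_one]
    · obtain ⟨P, hP⟩ := hpart1 a a.2 ha
      have hb : (b : G) ∈ Subgroup.centralizer ({(a : G)} : Set G) := by
        rw [hP]
        exact IsPGroup.le_sylow_of_normal hNp P b.2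
      rw [mem_centralizer_singleton] at hb
      exact Subtype.ext hb
  have hcardIrr : Nat.card (Cfsg.IrrCharacter N) = c + 1 := by
    rw [card_irr_of_comm hNcomm, hcardN]
  -- values of χ on N
  set d : ℂ := (χ : G → ℂ) 1 with hd
  set a : ℂ := (χ : G → ℂ) x with ha
  have hda : d - a ≠ 0 := by
    intro h
    apply hx1
    apply hfaith
    linear_combination -h
  have hvalN : ∀ n : N, (χ : G → ℂ) n = (if n = 1 then d - a else 0) + a := by
    intro n
    by_cases hn : n = 1
    · rw [if_pos hn, hn, OneMemClass.coe_one]; ring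
    · rw [if_neg hn, zero_add]
      have hn1 : (n : G) ≠ 1 := fun h => hn (Subtype.ext h)
      rcases hall n ((hN n).1 n.2) with h | h
      · exact absurd h hn1
      · obtain ⟨k, hk⟩ := isConj_iff.1 h
        rw [← hk]
        exact hcf x k
  -- every nontrivial irreducible character of N is a constituent of χ_N
  have hconst : ∀ ψ : Cfsg.IrrCharacter N, (ψ : N → ℂ) ≠ (fun _ => (1 : ℂ)) →
      Cfsg.classInner (fun n : N => (χ : G → ℂ) n) (ψ : N → ℂ) ≠ 0 := by
    intro ψ hψ
    have h0 := irr_classInner ψ.2 (Cfsg.Agent.Lib.Helper25.isIrrCharacter_one (G := N))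
    rw [if_neg hψ] at h0
    unfold Cfsg.classInner at h0 ⊢
    have hcardne : (Nat.card N : ℂ) ≠ 0 := by
      have : 0 < Nat.card N := Nat.card_pos
      exact_mod_cast this.ne'
    have hsum0 : ∑ n : N, (ψ : N → ℂ) n = 0 := by
      rcases mul_eq_zero.1 h0 with h | h
      · exact absurd (inv_eq_zero.1 h) hcardne
      · rw [← h]
        apply Finset.sum_congr rfl
        intro n _
        rw [map_one, mul_one]
    have hsum0' : ∑ n : N, conj ((ψ : N → ℂ) n) = 0 := by
      rw [← map_sum, hsum0, map_zero]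
    have hsum : ∑ n : N, (χ : G → ℂ) n * conj ((ψ : N → ℂ) n) =
        (d - a) * conj ((ψ : N → ℂ) 1) := by
      simp_rw [hvalN, add_mul, ite_mul, zero_mul]
      rw [Finset.sum_add_distrib, Finset.sum_ite_eq' Finset.univ (1 : N),
        if_pos (Finset.mem_univ _), ← Finset.mul_sum, hsum0', mul_zero, add_zero]
    rw [hsum]
    refine mul_ne_zero (inv_ne_zero hcardne) (mul_ne_zero hda ?_)
    intro h
    have h1 : (ψ : N → ℂ) 1 = 0 := by
      have := congrArg conj h
      rwa [Complex.conj_conj, map_zero] at this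
    exact irr_one_ne_zero ψ.2 h1
  intro μ hμ
  letI : MulAction G (Cfsg.IrrCharacter N) := irrAction N
  have hsmul : ∀ (g : G) (ψ : Cfsg.IrrCharacter N), g • ψ = cIrr N g⁻¹ ψ := fun _ _ => rfl
  -- the orbit of μ
  have horbit : MulAction.orbit G μ = {ψ : Cfsg.IrrCharacter N | ψ ≠ irrOne N} := by
    ext ψ
    simp only [Set.mem_ofPred_eq]
    constructor
    · rintro ⟨g, rfl⟩ h
      apply hμ
      have h1 : conjFun N g⁻¹ (μ : N → ℂ) = fun _ => (1 : ℂ) := congrArg Subtype.val h
      have h2 : conjFun N g (conjFun N g⁻¹ (μ : N → ℂ)) = (μ : N → ℂ) := by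
        rw [← conjFun_mul, inv_mul_cancel, conjFun_one]
      rw [← h2, h1]
      rfl
    · intro hψ
      have hψ' : (ψ : N → ℂ) ≠ (fun _ => (1 : ℂ)) := fun h => hψ (Subtype.ext h)
      have h1 := hconst ψ hψ'
      have h2 : ¬ ∀ g : G, (ψ : N → ℂ) ≠ conjFun N g (μ : N → ℂ) := by
        intro h3
        exact h1 (classInner_restrict_eq_zero_of_not_conj N χ.2 μ.2 (hconst μ hμ) ψ.2 h3)
      push Not at h2
      obtain ⟨g, hg⟩ := h2
      refine ⟨g⁻¹, ?_⟩
      apply Subtype.ext
      show conjFun N (g⁻¹)⁻¹ (μ : N → ℂ) = _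
      rw [inv_inv, hg]
  have hcardorbit : (MulAction.orbit G μ).ncard = c := by
    rw [horbit]
    have h1 : {ψ : Cfsg.IrrCharacter N | ψ ≠ irrOne N} = ({irrOne N} : Set _)ᶜ := by
      ext ψ; simp
    rw [h1, Set.ncard_compl, Set.ncard_singleton, hcardIrr]
    omega
  set T := MulAction.stabilizer G μ with hT
  have hTcard : Nat.card T = p ^ (Nat.card G).factorization p := by
    have h1 := Subgroup.card_mul_index T
    rw [MulAction.index_stabilizer, hcardorbit] at h1
    have hcpos : 0 < c := by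
      rcases Nat.eq_zero_or_pos c with h | h
      · rw [h, mul_zero] at hmc
        have : 0 < Nat.card G := Nat.card_pos
        omega
      · exact h
    rw [← hcardC]
    apply Nat.eq_of_mul_eq_mul_right hcpos
    rw [h1, hmc]
  refine ⟨Sylow.ofCard T hTcard, ?_⟩
  intro g
  rw [Sylow.coe_ofCard]
  have hmem : g ∈ T ↔ conjFun N g (μ : N → ℂ) = (μ : N → ℂ) := by
    rw [← inv_mem_iff (H := T), hT, MulAction.mem_stabilizer_iff, hsmul, inv_inv]
    constructor
    · intro h; exact congrArg Subtype.val h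
    · intro h; exact Subtype.ext h
  rw [hmem]
  constructor
  · intro h n n' hn'
    have h1 := congrFun h n
    rw [conjFun_apply] at h1
    rw [← h1]
    have h2 : n' = ⟨g * n * g⁻¹, ‹N.Normal›.conj_mem n n.2 g⟩ := Subtype.ext hn'
    rw [h2]
  · intro h
    funext n
    rw [conjFun_apply]
    exact h n ⟨g * n * g⁻¹, _⟩ rfl
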