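import Mathlib
import Cfsg.Statements.S4838
import Cfsg.Agent.Lib.Helper25.Gagola2
import Cfsg.Agent.Lib.Helper25.InvertSylow

set_option autoImplicit false
set_option linter.style.haveILetI false
open Cfsg

namespace Cfsg.Agent.S4838

open Cfsg.Agent.Lib.Helper25
open scoped ComplexConjugate

/-- The key bound: for `z ∈ P` outside `N`, `|C_P(z)| * |N| ≤ |P|`. -/
theorem key_bound {G : Type*} [Group G] [Finite G] (hG : 2 < Nat.card G) (χ : Cfsg.IrrCharacter G)
    (hχ : Nat.card {C : ConjClasses G // ∃ g ∈ C.carrier, (χ : G → ℂ) g ≠ 0} = 2) (p : ℕ)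
    [Fact p.Prime] (N : Subgroup G) [N.Normal] (hN : ∀ g : G, g ∈ N ↔ (χ : G → ℂ) g ≠ 0)
    (hNp : IsPGroup p N) (hN1 : N ≠ ⊥) (P : Sylow p G) (z : ↥(P : Subgroup G))
    (hz : (z : G) ∉ N) :
    Nat.card (Subgroup.centralizer ({z} : Set ↥(P : Subgroup G))) * Nat.card N ≤
      Nat.card (P : Subgroup G) := by
  have hp : p.Prime := Fact.out
  set H : Subgroup G :=
    (Subgroup.centralizer ({z} : Set ↥(P : Subgroup G))).map (P : Subgroup G).subtype with hH
  have hHcard : Nat.card H = Nat.card (Subgroup.centralizer ({z} : Set ↥(P : Subgroup G))) :=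
    Subgroup.card_map_of_injective (Subgroup.subtype_injective _)
  have hHle : H ≤ Subgroup.centralizer ({(z : G)} : Set G) := by
    rintro _ ⟨y, hy, rfl⟩
    have hy' : y ∈ Subgroup.centralizer ({z} : Set ↥(P : Subgroup G)) := hy
    rw [mem_centralizer_singleton] at hy' ⊢
    exact congrArg Subtype.val hy'
  have h1 : Nat.card H ∣ Nat.card (Subgroup.centralizer ({(z : G)} : Set G)) :=
    Subgroup.card_dvd_of_le hHle
  rw [gagola_card_centralizer_quot hG χ hχ N hN hN1 (z : G) hz] at h1
  have h2 : Nat.card (Subgroup.centralizer ({((z : G) : G ⧸ N)} : Set (G ⧸ N))) ∣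
      Nat.card (G ⧸ N) := Subgroup.card_subgroup_dvd_card _
  obtain ⟨s, hs⟩ := IsPGroup.iff_card.1
    (P.isPGroup'.to_subgroup (Subgroup.centralizer ({z} : Set ↥(P : Subgroup G))))
  obtain ⟨a, ha⟩ := IsPGroup.iff_card.1 hNp
  have h3 : p ^ s ∣ Nat.card (G ⧸ N) := by
    rw [← hs, ← hHcard]; exact h1.trans h2
  have h4 : p ^ (s + a) ∣ Nat.card G := by
    rw [Subgroup.card_eq_card_quotient_mul_card_subgroup N, ha, pow_add]
    exact Nat.mul_dvd_mul h3 (dvd_refl _)
  have h5 : s + a ≤ (Nat.card G).factorization p :=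
    (hp.pow_dvd_iff_le_factorization Nat.card_pos.ne').1 h4
  rw [hs, ha, Sylow.card_eq_multiplicity P, ← pow_add]
  exact Nat.pow_le_pow_right hp.pos h5

theorem result {G : Type*} [Group G] [Finite G] (hG : 2 < Nat.card G) (χ : Cfsg.IrrCharacter G) (hχ : Nat.card {C : ConjClasses G // ∃ g ∈ C.carrier, (χ : G → ℂ) g ≠ 0} = 2) (p : ℕ) [Fact p.Prime] (N : Subgroup G) [N.Normal] (hN : ∀ g : G, g ∈ N ↔ (χ : G → ℂ) g ≠ 0) (hNp : IsPGroup p N) (hN1 : N ≠ ⊥) (P : Sylow p G) :
    (∀ x : G, x ∉ N → Nat.card (Subgroup.centralizer ({x} : Set G)) = Nat.card (Subgroup.centralizer ({(x : G ⧸ N)} : Set (G ⧸ N)))) ∧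
      ((Subgroup.center ↥(P : Subgroup G)).map (P : Subgroup G).subtype ≤ N ∧
        ((Subgroup.center ↥(P : Subgroup G)).map (P : Subgroup G).subtype = N ↔ (P : Subgroup G).Normal)) ∧
      (∃ i : ℕ, Subgroup.upperCentralSeries ↥(P : Subgroup G) i = N.subgroupOf (P : Subgroup G)) := by
  classical
  have hp : p.Prime := Fact.out
  have hNP : N ≤ (P : Subgroup G) := IsPGroup.le_sylow_of_normal hNp P
  have hcardN2 : 2 ≤ Nat.card N := by
    rcases Nat.lt_or_ge (Nat.card N) 2 with h | h
    · exfalso
      have h1 : Nat.card N = 1 := by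
        have : 0 < Nat.card N := Nat.card_pos
        omega
      exact hN1 ((Subgroup.card_eq_one).1 h1)
    · exact h
  have hPpos : 0 < Nat.card (P : Subgroup G) := Nat.card_pos
  have hcenterN : (Subgroup.center ↥(P : Subgroup G)).map (P : Subgroup G).subtype ≤ N := by
    rintro _ ⟨z, hz, rfl⟩
    by_contra hzN
    have hkey := key_bound hG χ hχ p N hN hNp hN1 P z hzN
    have htop : Subgroup.centralizer ({z} : Set ↥(P : Subgroup G)) = ⊤ := by
      rw [eq_top_iff]
      intro y _
      rw [mem_centralizer_singleton]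
      exact ((Subgroup.mem_center_iff.1 hz) y).symm
    rw [htop, Subgroup.card_top] at hkey
    nlinarith
  refine ⟨fun x hx => gagola_card_centralizer_quot hG χ hχ N hN hN1 x hx, ⟨hcenterN, ?_⟩, ?_⟩
  · constructor
    · -- Z(P) = N implies P normal
      intro hZN
      have hPeq : ∀ x ∈ N, x ≠ 1 → (P : Subgroup G) = Subgroup.centralizer ({x} : Set G) := by
        intro x hx hx1
        have hle : (P : Subgroup G) ≤ Subgroup.centralizer ({x} : Set G) := by
          intro y hy
          rw [mem_centralizer_singleton]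
          rw [← hZN] at hx
          obtain ⟨z, hz, rfl⟩ := hx
          have := (Subgroup.mem_center_iff.1 hz) ⟨y, hy⟩
          exact (congrArg Subtype.val this).symm
        apply Subgroup.eq_of_le_of_card_ge hle
        rw [gagola_card_centralizer hG χ hχ p N hN hNp hx hx1, Sylow.card_eq_multiplicity P]
      obtain ⟨x, hxN, hx1⟩ : ∃ x ∈ N, x ≠ 1 := by
        by_contra h
        push Not at h
        exact hN1 ((Subgroup.eq_bot_iff_forall N).2 h)
      constructor
      intro y hy g
      have hgx : g * x * g⁻¹ ∈ N := ‹N.Normal›.conj_mem x hxN g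
      have hgx1 : g * x * g⁻¹ ≠ 1 := by
        intro h
        apply hx1
        have : x = g⁻¹ * (g * x * g⁻¹) * g := by group
        rw [this, h]; group
      rw [hPeq (g * x * g⁻¹) hgx hgx1, mem_centralizer_singleton]
      rw [hPeq x hxN hx1, mem_centralizer_singleton] at hy
      calc g * x * g⁻¹ * (g * y * g⁻¹) = g * (x * y) * g⁻¹ := by group
        _ = g * (y * x) * g⁻¹ := by rw [hy]
        _ = g * y * g⁻¹ * (g * x * g⁻¹) := by group
    · -- P normal implies Z(P) = N
      intro hPn
      apply le_antisymm hcenterN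
      haveI : Nontrivial ↥(P : Subgroup G) := by
        obtain ⟨x, hxN, hx1⟩ : ∃ x ∈ N, x ≠ 1 := by
          by_contra h
          push Not at h
          exact hN1 ((Subgroup.eq_bot_iff_forall N).2 h)
        exact ⟨⟨⟨x, hNP hxN⟩, 1, fun h => hx1 (congrArg Subtype.val h)⟩⟩
      haveI := IsPGroup.center_nontrivial (P.isPGroup')
      obtain ⟨⟨z, hz⟩, hz1⟩ := exists_ne (1 : Subgroup.center ↥(P : Subgroup G))
      have hz1' : (z : G) ≠ 1 := by
        intro h
        apply hz1
        apply Subtype.ext
        apply Subtype.ext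
        exact h
      have hzN : (z : G) ∈ N := hcenterN ⟨z, hz, rfl⟩
      have hall := gagola_all_conj χ hχ hz1' ((hN _).1 hzN)
      intro n hn
      by_cases hn1 : n = 1
      · rw [hn1]; exact Subgroup.one_mem _
      · rcases hall n ((hN n).1 hn) with h | h
        · exact absurd h hn1
        · obtain ⟨k, hk⟩ := isConj_iff.1 h
          refine ⟨⟨n, hNP hn⟩, Subgroup.mem_center_iff.2 ?_, rfl⟩
          intro y
          apply Subtype.ext
          show (y : G) * n = n * (y : G)
          have hy' : k⁻¹ * (y : G) * k ∈ (P : Subgroup G) := by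
            have := hPn.conj_mem (y : G) y.2 k⁻¹
            rwa [inv_inv] at this
          have hcomm := (Subgroup.mem_center_iff.1 hz) ⟨k⁻¹ * (y : G) * k, hy'⟩
          have hcomm' : k⁻¹ * (y : G) * k * (z : G) = (z : G) * (k⁻¹ * (y : G) * k) :=
            congrArg Subtype.val hcomm
          rw [← hk]
          calc (y : G) * (k * (z : G) * k⁻¹) = k * (k⁻¹ * (y : G) * k * (z : G)) * k⁻¹ := by group
            _ = k * ((z : G) * (k⁻¹ * (y : G) * k)) * k⁻¹ := by rw [hcomm']
            _ = k * (z : G) * k⁻¹ * (y : G) := by group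
  · -- upper central series
    set N' : Subgroup ↥(P : Subgroup G) := N.subgroupOf (P : Subgroup G) with hN'
    have hcardN' : Nat.card N' = Nat.card N :=
      Nat.card_congr (Subgroup.subgroupOfEquivOfLe hNP).toEquiv
    haveI : Group.IsNilpotent ↥(P : Subgroup G) := IsPGroup.isNilpotent P.isPGroup'
    obtain ⟨k, hk⟩ := Group.IsNilpotent.nilpotent' (G := ↥(P : Subgroup G))
    by_cases htop : N' = ⊤
    · exact ⟨k, by rw [hk, htop]⟩
    · have hex : ∃ j, ¬ Subgroup.upperCentralSeries ↥(P : Subgroup G) j ≤ N' := by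
        refine ⟨k, ?_⟩
        rw [hk]
        intro h
        exact htop (top_le_iff.1 h)
      set j := Nat.find hex with hj
      have hjspec : ¬ Subgroup.upperCentralSeries ↥(P : Subgroup G) j ≤ N' := Nat.find_spec hex
      have hj0 : j ≠ 0 := by
        intro h0
        apply hjspec
        rw [h0, Subgroup.upperCentralSeries_zero]
        exact bot_le
      obtain ⟨i, hi⟩ := Nat.exists_eq_succ_of_ne_zero hj0
      have hile : Subgroup.upperCentralSeries ↥(P : Subgroup G) i ≤ N' := by
        by_contra h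
        have := Nat.find_min' hex h
        omega
      refine ⟨i, ?_⟩
      rw [hi] at hjspec
      obtain ⟨z, hzmem, hznot⟩ := SetLike.not_le_iff_exists.1 hjspec
      have hzN : (z : G) ∉ N := fun h => hznot (Subgroup.mem_subgroupOf.2 h)
      have hkey := key_bound hG χ hχ p N hN hNp hN1 P z hzN
      -- class of z injects into Z_i
      have hinj : Nat.card {y : ↥(P : Subgroup G) // IsConj z y} ≤
          Nat.card (Subgroup.upperCentralSeries ↥(P : Subgroup G) i) := by
        have hmem : ∀ y : {y : ↥(P : Subgroup G) // IsConj z y},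
            (y : ↥(P : Subgroup G)) * z⁻¹ ∈ Subgroup.upperCentralSeries ↥(P : Subgroup G) i := by
          rintro ⟨y, hy⟩
          obtain ⟨w, hw⟩ := isConj_iff.1 hy
          have h1 := (Subgroup.mem_upperCentralSeries_succ_iff.1 hzmem) w
          rw [commutatorElement_def] at h1
          have h2 : y * z⁻¹ = (z * w * z⁻¹ * w⁻¹)⁻¹ := by
            rw [← hw]; group
          show y * z⁻¹ ∈ _
          rw [h2]
          exact Subgroup.inv_mem _ h1
        apply Nat.card_le_card_of_injective
          (fun y : {y : ↥(P : Subgroup G) // IsConj z y} =>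
            (⟨(y : ↥(P : Subgroup G)) * z⁻¹, hmem y⟩ :
              Subgroup.upperCentralSeries ↥(P : Subgroup G) i))
        intro y₁ y₂ h
        have h1 : (y₁ : ↥(P : Subgroup G)) * z⁻¹ = (y₂ : ↥(P : Subgroup G)) * z⁻¹ :=
          congrArg Subtype.val h
        exact Subtype.ext (mul_right_cancel h1)
      have hclass := Cfsg.Agent.Lib.Helper2.card_centralizer_mul_card_conj z
      have hCpos : 0 < Nat.card (Subgroup.centralizer ({z} : Set ↥(P : Subgroup G))) :=
        Nat.card_pos
      have hle : Nat.card N' ≤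
          Nat.card (Subgroup.upperCentralSeries ↥(P : Subgroup G) i) := by
        rw [hcardN']
        have h1 : Nat.card (Subgroup.centralizer ({z} : Set ↥(P : Subgroup G))) * Nat.card N ≤
            Nat.card (Subgroup.centralizer ({z} : Set ↥(P : Subgroup G))) *
              Nat.card (Subgroup.upperCentralSeries ↥(P : Subgroup G) i) := by
          calc _ ≤ Nat.card (P : Subgroup G) := hkey
            _ = _ := hclass.symm
            _ ≤ _ := Nat.mul_le_mul_left _ hinj
        exact Nat.le_of_mul_le_mul_left h1 hCpos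
      exact Subgroup.eq_of_le_of_card_ge hile hle
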