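import Cfsg.Statements.S4859
import Cfsg.Agent.Lib.Helper24.FrobSchur
import Cfsg.Agent.Lib.Helper2.Column

set_option autoImplicit false
set_option linter.style.haveILetI false
open Cfsg

namespace Cfsg.Agent.S4859

open Cfsg.Agent.Lib.Helper24
open Cfsg.Agent.Lib.Helper2
open scoped ComplexConjugate

universe u

/-- If `g` is not a square then some non-principal real-valued irreducible character does not
vanish at `g`. -/
theorem exists_real_nonvanishing {G : Type u} [Group G] [Fintype G] (g : G)
    (hns : ¬ ∃ u : G, u * u = g) :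
    ∃ χ : Cfsg.IrrCharacter G, ¬ ((χ : G → ℂ) = fun _ => (1 : ℂ)) ∧
      (∀ h : G, ((χ : G → ℂ) h).im = 0) ∧ (χ : G → ℂ) g ≠ 0 := by
  classical
  haveI : Fintype (IrrCharacter G) := Fintype.ofFinite _
  set F : IrrCharacter G → ℂ := fun χ =>
    ((Nat.card G : ℂ)⁻¹ * ∑ s : G, (χ : G → ℂ) (s * s)) * conj ((χ : G → ℂ) g) with hF
  have hsum : ∑ χ : IrrCharacter G, F χ = 0 := by
    have h1 : ∀ χ : IrrCharacter G, F χ
        = (Nat.card G : ℂ)⁻¹ * ∑ s : G, (χ : G → ℂ) (s * s) * conj ((χ : G → ℂ) g) := by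
      intro χ
      simp only [hF]
      rw [mul_assoc, Finset.sum_mul]
    rw [Finset.sum_congr rfl (fun χ _ => h1 χ), ← Finset.mul_sum, Finset.sum_comm]
    have h2 : ∀ s : G, ∑ χ : IrrCharacter G, (χ : G → ℂ) (s * s) * conj ((χ : G → ℂ) g) = 0 := by
      intro s
      rw [column_orthogonality, if_neg]
      intro hconj
      apply hns
      obtain ⟨c, hc⟩ := isConj_iff.1 hconj
      refine ⟨c * s * c⁻¹, ?_⟩
      rw [← hc]; group
    rw [Finset.sum_congr rfl (fun s _ => h2 s)]
    simp
  have htriv : F (trivIrr G) = 1 := by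
    simp only [hF, trivIrr_apply]
    rw [Finset.sum_const, Finset.card_univ, nsmul_eq_mul, mul_one, map_one, mul_one,
      ← Nat.card_eq_fintype_card, inv_mul_cancel₀ card_ne_zero_complex]
  rw [← Finset.add_sum_erase Finset.univ F (Finset.mem_univ (trivIrr G)), htriv] at hsum
  have hne : ∑ χ ∈ Finset.univ.erase (trivIrr G), F χ ≠ 0 := by
    intro h0
    rw [h0, add_zero] at hsum
    exact one_ne_zero hsum
  obtain ⟨χ, hχmem, hχ⟩ := Finset.exists_ne_zero_of_sum_ne_zero hne
  have hχ1 : χ ≠ trivIrr G := Finset.ne_of_mem_erase hχmem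
  obtain ⟨ε, _, hε, hreal⟩ := irr_fsIndicator χ
  simp only [hF] at hχ
  have hA : (Nat.card G : ℂ)⁻¹ * ∑ s : G, (χ : G → ℂ) (s * s) ≠ 0 := left_ne_zero_of_mul hχ
  have hB : conj ((χ : G → ℂ) g) ≠ 0 := right_ne_zero_of_mul hχ
  refine ⟨χ, ?_, ?_, ?_⟩
  · intro h
    apply hχ1
    exact Subtype.ext h
  · apply hreal
    intro h0
    apply hA
    rw [← hε, h0, Int.cast_zero]
  · intro h0
    apply hB
    rw [h0, map_zero]

/-- Let p be an odd prime, G a finite group and x an element of G whose order is a power of p (possibly 1) and whose centralizer has even order. Let y be a 2-element of the centralizer of x whose order is largest among the 2-elements of that centralizer. Then x * y is not a square in G, and some non-principal real-valued irreducible character of G does not vanish at x * y. -/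
theorem result {G : Type*} [Group G] [Finite G] (p : ℕ) [Fact p.Prime] (hp : p ≠ 2) (x : G) (hx : ∃ k : ℕ, orderOf x = p ^ k) (heven : Even (Nat.card (Subgroup.centralizer ({x} : Set G)))) (y : G) (hy : y ∈ Subgroup.centralizer ({x} : Set G)) (hy2 : ∃ k : ℕ, orderOf y = 2 ^ k) (hmax : ∀ z ∈ Subgroup.centralizer ({x} : Set G), (∃ k : ℕ, orderOf z = 2 ^ k) → orderOf z ≤ orderOf y) : (¬ ∃ u : G, u * u = x * y) ∧ ∃ χ : Cfsg.IrrCharacter G, ¬ ((χ : G → ℂ) = fun _ => (1 : ℂ)) ∧ (∀ g : G, ((χ : G → ℂ) g).im = 0) ∧ (χ : G → ℂ) (x * y) ≠ 0 := by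
  classical
  haveI := Fintype.ofFinite G
  have hpp : p.Prime := Fact.out
  have hns : ¬ ∃ u : G, u * u = x * y := by
    rintro ⟨u, hu⟩
    obtain ⟨k, hk⟩ := hx
    obtain ⟨j, hj⟩ := hy2
    have hxy : Commute x y := by
      have := Subgroup.mem_centralizer_iff.1 hy x (Set.mem_singleton x)
      exact this
    -- y ≠ 1
    have hj1 : 1 ≤ j := by
      obtain ⟨z, hz⟩ := exists_prime_orderOf_dvd_card' (G := Subgroup.centralizer ({x} : Set G)) 2
        (even_iff_two_dvd.1 heven)
      have hz2 : orderOf (z : G) = 2 := by rw [Subgroup.orderOf_coe]; exact hz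
      have := hmax z z.2 ⟨1, by rw [hz2, pow_one]⟩
      rw [hz2, hj] at this
      by_contra hcon
      push Not at hcon
      have hj0 : j = 0 := by omega
      rw [hj0] at this
      norm_num at this
    -- u commutes with x
    have hodd_p : Odd p := hpp.odd_of_ne_two hp
    have hcop : Nat.Coprime (2 ^ j) (orderOf x) := by
      rw [hk]
      apply Nat.Coprime.pow
      exact (Nat.coprime_primes Nat.prime_two hpp).2 (Ne.symm hp)
    obtain ⟨n', hn'⟩ := exists_pow_eq_self_of_coprime hcop
    have hxpow : x = ((u * u) ^ (2 ^ j)) ^ n' := by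
      rw [hu, hxy.mul_pow, ← hj, pow_orderOf_eq_one, mul_one, hj, hn']
    have hux : Commute u x := by
      rw [hxpow]
      apply Commute.pow_right
      apply Commute.pow_right
      exact (Commute.refl u).mul_right (Commute.refl u)
    -- the element v
    set a := ordCompl[2] (orderOf u) * p ^ k with ha
    have hord_pos : 0 < orderOf u := orderOf_pos u
    have ha_odd : Odd a := by
      apply Odd.mul
      · rw [← Nat.not_even_iff_odd, even_iff_two_dvd]
        exact Nat.not_dvd_ordCompl Nat.prime_two hord_pos.ne'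
      · exact hodd_p.pow
    set v := u ^ a with hv
    have hvC : v ∈ Subgroup.centralizer ({x} : Set G) := by
      rw [Subgroup.mem_centralizer_iff]
      intro h hh
      rw [Set.mem_singleton_iff] at hh
      rw [hh]
      exact ((hux.pow_left a).eq).symm
    have hv2pow : v ^ (ordProj[2] (orderOf u)) = 1 := by
      rw [hv, ← pow_mul, ha]
      have : ordCompl[2] (orderOf u) * p ^ k * ordProj[2] (orderOf u)
          = orderOf u * p ^ k := by
        have := Nat.ordProj_mul_ordCompl_eq_self (orderOf u) 2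
        calc ordCompl[2] (orderOf u) * p ^ k * ordProj[2] (orderOf u)
            = (ordProj[2] (orderOf u) * ordCompl[2] (orderOf u)) * p ^ k := by ring
          _ = orderOf u * p ^ k := by rw [this]
      rw [this, pow_mul, pow_orderOf_eq_one, one_pow]
    obtain ⟨e, _, he⟩ := (Nat.dvd_prime_pow Nat.prime_two).1 (orderOf_dvd_of_pow_eq_one hv2pow)
    have hvle := hmax v hvC ⟨e, he⟩
    -- v ^ 2 = y ^ a
    have hvsq : v ^ 2 = y ^ a := by
      rw [hv, ← pow_mul, mul_comm, pow_mul, pow_two, hu, hxy.mul_pow]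
      have : x ^ a = 1 := by
        rw [ha, mul_comm, pow_mul, ← hk, pow_orderOf_eq_one, one_pow]
      rw [this, one_mul]
    have hya : orderOf (y ^ a) = orderOf y := by
      apply Nat.Coprime.orderOf_pow
      rw [hj]
      apply Nat.Coprime.pow_left
      rw [Nat.coprime_two_left]
      exact ha_odd
    have hvsq_ord : orderOf (v ^ 2) = 2 ^ j := by rw [hvsq, hya, hj]
    -- order of v is 2^(j+1)
    have he1 : e ≠ 0 := by
      intro h0
      rw [h0, pow_zero, orderOf_eq_one_iff] at he
      rw [he, one_pow, orderOf_one] at hvsq_ord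
      have : 2 ^ j ≥ 2 := by
        calc 2 ^ j ≥ 2 ^ 1 := Nat.pow_le_pow_right (by norm_num) hj1
          _ = 2 := by norm_num
      omega
    have h2dvd : 2 ∣ orderOf v := by
      rw [he]; exact dvd_pow_self 2 he1
    have := orderOf_pow_of_dvd (x := v) (n := 2) (by norm_num) h2dvd
    rw [hvsq_ord] at this
    have hvord : orderOf v = 2 * 2 ^ j := by
      obtain ⟨c, hc⟩ := h2dvd
      rw [hc, Nat.mul_div_cancel_left _ (by norm_num : 0 < 2)] at this
      rw [hc, this]
    rw [hvord, hj] at hvle
    have : 0 < 2 ^ j := Nat.pos_of_ne_zero (by positivity)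
    omega
  exact ⟨hns, exists_real_nonvanishing (x * y) hns⟩

end Cfsg.Agent.S4859
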