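import Cfsg.Statements.S4866
import Cfsg.Agent.Lib.Helper2.PermLemma
import Cfsg.Agent.Lib.Helper2.NormalInduction

set_option autoImplicit false
set_option linter.style.haveILetI false
set_option linter.unusedSectionVars false
open Cfsg

namespace Cfsg.Agent.S4866

open Cfsg.Agent.Lib.Helper2
open scoped ComplexConjugate

universe u

/-- Burnside's orbit counting lemma, with the orbit space written as a `Quot`. -/
theorem card_quot_mul_card (G α : Type*) [Group G] [Fintype G] [Fintype α] [MulAction G α] :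
    Nat.card (Quot (fun a b : α => ∃ g : G, b = g • a)) * Nat.card G
      = ∑ g : G, Nat.card (MulAction.fixedBy α g) := by
  classical
  have e : Quot (fun a b : α => ∃ g : G, b = g • a) ≃ Quotient (MulAction.orbitRel G α) :=
    Quot.congrRight (fun a b => by
      rw [MulAction.orbitRel_apply, MulAction.mem_orbit_iff]
      constructor
      · rintro ⟨g, rfl⟩; exact ⟨g⁻¹, by simp⟩
      · rintro ⟨g, rfl⟩; exact ⟨g⁻¹, by simp⟩)
  rw [Nat.card_congr e, Nat.card_eq_fintype_card, Nat.card_eq_fintype_card,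
    ← MulAction.sum_card_fixedBy_eq_card_orbits_mul_card_group]
  simp [Nat.card_eq_fintype_card]

section

variable {G : Type u} [Group G] [Finite G] (K : Subgroup G) [hK : K.Normal]

/-- Key fact for characters: if `conj ∘ θ^a = θ` and the index of `K` is odd, then `θ` is real
and `θ^a = θ`. -/
theorem char_key (hodd : Odd K.index) (θ : Cfsg.IrrCharacter K) (a : G)
    (h : ∀ k : K, conj (conjFun K a (θ : K → ℂ) k) = (θ : K → ℂ) k) :
    (∀ k : K, ((θ : K → ℂ) k).im = 0) ∧ conjFun K a (θ : K → ℂ) = (θ : K → ℂ) := by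
  classical
  haveI : Fintype K := Fintype.ofFinite K
  have hcf : Cfsg.IsClassFunction K (θ : K → ℂ) := IrrCharacter.isClassFunction θ
  have h1 : conjFun K a (θ : K → ℂ) = fun k => conj ((θ : K → ℂ) k) := by
    funext k
    rw [← h k, Complex.conj_conj]
  have h2 : conjFun K (a * a) (θ : K → ℂ) = (θ : K → ℂ) := by
    rw [conjFun_mul, h1, conjFun_conj, h1]
    funext k
    simp
  obtain ⟨j, hj⟩ := hodd
  have h3 : conjFun K (a ^ (K.index + 1)) (θ : K → ℂ) = (θ : K → ℂ) := by
    have : a ^ (K.index + 1) = (a * a) ^ (j + 1) := by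
      rw [← pow_two, ← pow_mul]
      congr 1
      omega
    rw [this]
    exact conjFun_pow K h2 _
  have h4 : conjFun K ((a ^ K.index)⁻¹) (θ : K → ℂ) = (θ : K → ℂ) :=
    conjFun_of_mem K hcf (K.inv_mem (Subgroup.pow_index_mem K a))
  have h5 : a = a ^ (K.index + 1) * (a ^ K.index)⁻¹ := by
    rw [pow_succ']; group
  have h6 : conjFun K a (θ : K → ℂ) = (θ : K → ℂ) := by
    conv_lhs => rw [h5]
    rw [conjFun_mul, h3, h4]
  refine ⟨?_, h6⟩
  intro k
  have := congrFun (h6.symm.trans h1) k
  exact Complex.conj_eq_iff_im.mp this.symm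

omit [Finite G] in
/-- Key fact for classes: if `(a k a⁻¹)⁻¹` is `K`-conjugate to `k` and the index of `K` is odd,
then `k` is real in `K` and `a k a⁻¹` is `K`-conjugate to `k`. -/
theorem class_key (hodd : Odd K.index) (k : K) (a : G)
    (h : IsConj ((MulAut.conjNormal (H := K) a k)⁻¹) k) :
    IsConj k k⁻¹ ∧ IsConj (MulAut.conjNormal (H := K) a k) k := by
  obtain ⟨u, hu⟩ := isConj_iff.1 h
  have huG : (u : G) * (a * k * a⁻¹)⁻¹ * (u : G)⁻¹ = k := by
    have := congrArg Subtype.val hu
    simpa [MulAut.conjNormal_apply] using this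
  set x : G := (u : G) * a with hx
  have hx1 : x * (k : G) * x⁻¹ = (k : G)⁻¹ := by
    have h1 : x * (k : G)⁻¹ * x⁻¹ = k := by
      calc x * (k : G)⁻¹ * x⁻¹ = (u : G) * (a * k * a⁻¹)⁻¹ * (u : G)⁻¹ := by rw [hx]; group
        _ = k := huG
    calc x * (k : G) * x⁻¹ = (x * (k : G)⁻¹ * x⁻¹)⁻¹ := by group
      _ = (k : G)⁻¹ := by rw [h1]
  have hx2 : Commute (x * x) (k : G) := by
    have : (x * x) * (k : G) * (x * x)⁻¹ = k := by
      calc (x * x) * (k : G) * (x * x)⁻¹ = x * (x * (k : G) * x⁻¹) * x⁻¹ := by group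
        _ = x * (k : G)⁻¹ * x⁻¹ := by rw [hx1]
        _ = (x * (k : G) * x⁻¹)⁻¹ := by group
        _ = k := by rw [hx1, inv_inv]
    change (x * x) * (k : G) = (k : G) * (x * x)
    calc (x * x) * (k : G) = ((x * x) * (k : G) * (x * x)⁻¹) * (x * x) := by group
      _ = (k : G) * (x * x) := by rw [this]
  obtain ⟨j, hj⟩ := hodd
  have hx3 : Commute (x ^ (K.index + 1)) (k : G) := by
    have : x ^ (K.index + 1) = (x * x) ^ (j + 1) := by
      rw [← pow_two, ← pow_mul]
      congr 1
      omega
    rw [this]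
    exact hx2.pow_left _
  have hvK : (x ^ K.index)⁻¹ ∈ K := K.inv_mem (Subgroup.pow_index_mem K x)
  have hx4 : x = (x ^ K.index)⁻¹ * x ^ (K.index + 1) := by
    rw [pow_succ]; group
  have hx5 : (x ^ K.index)⁻¹ * (k : G) * ((x ^ K.index)⁻¹)⁻¹ = (k : G)⁻¹ := by
    rw [← hx1]
    conv_rhs => rw [hx4]
    have := hx3.eq
    calc (x ^ K.index)⁻¹ * (k : G) * ((x ^ K.index)⁻¹)⁻¹
        = (x ^ K.index)⁻¹ * ((k : G) * x ^ (K.index + 1)) * (x ^ (K.index + 1))⁻¹
            * ((x ^ K.index)⁻¹)⁻¹ := by group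
      _ = (x ^ K.index)⁻¹ * (x ^ (K.index + 1) * (k : G)) * (x ^ (K.index + 1))⁻¹
            * ((x ^ K.index)⁻¹)⁻¹ := by rw [this]
      _ = (x ^ K.index)⁻¹ * x ^ (K.index + 1) * (k : G)
            * ((x ^ K.index)⁻¹ * x ^ (K.index + 1))⁻¹ := by group
  have hreal : IsConj k k⁻¹ := by
    rw [isConj_iff]
    refine ⟨⟨(x ^ K.index)⁻¹, hvK⟩, ?_⟩
    apply Subtype.ext
    simpa using hx5
  refine ⟨hreal, ?_⟩
  -- `a k a⁻¹ = u⁻¹ k⁻¹ u`
  have h2 : IsConj (MulAut.conjNormal (H := K) a k) k⁻¹ := by
    rw [isConj_iff]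
    refine ⟨u, ?_⟩
    have : u * (MulAut.conjNormal (H := K) a k)⁻¹ * u⁻¹ = k := hu
    calc u * (MulAut.conjNormal (H := K) a k) * u⁻¹
        = (u * (MulAut.conjNormal (H := K) a k)⁻¹ * u⁻¹)⁻¹ := by group
      _ = k⁻¹ := by rw [this]
  exact h2.trans hreal.symm

omit [Finite G] in
theorem isConj_inv_inv {a b : K} (h : IsConj a b) : IsConj a⁻¹ b⁻¹ := by
  obtain ⟨c, hc⟩ := isConj_iff.1 h
  rw [isConj_iff]
  exact ⟨c, by rw [← hc]; group⟩

omit [Finite G] in
theorem real_of_isConj {a b : K} (h : IsConj a b) (ha : IsConj a a⁻¹) : IsConj b b⁻¹ :=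
  (h.symm.trans ha).trans (isConj_inv_inv K h)

omit [Finite G] in
theorem cn_cn_inv (g : G) (k : K) :
    MulAut.conjNormal (H := K) g (MulAut.conjNormal (H := K) g⁻¹ k) = k := by
  apply Subtype.ext
  simp only [MulAut.conjNormal_apply]
  group

omit [Finite G] in
theorem cn_inv_cn (g : G) (k : K) :
    MulAut.conjNormal (H := K) g⁻¹ (MulAut.conjNormal (H := K) g k) = k := by
  apply Subtype.ext
  simp only [MulAut.conjNormal_apply]
  group

omit [Finite G] in
theorem cn_isConj (g : G) {a b : K} (h : IsConj a b) :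
    IsConj (MulAut.conjNormal (H := K) g a) (MulAut.conjNormal (H := K) g b) := by
  obtain ⟨c, hc⟩ := isConj_iff.1 h
  rw [isConj_iff]
  exact ⟨MulAut.conjNormal (H := K) g c, by rw [← hc]; simp⟩

/-- The real-valued irreducible characters of `K`. -/
abbrev RealIrr := {θ : Cfsg.IrrCharacter K // ∀ k : K, ((θ : K → ℂ) k).im = 0}

/-- The real classes of `K`. -/
abbrev RealCl := {C : ConjClasses K // ∀ k : K, ConjClasses.mk k = C → IsConj k k⁻¹}

/-- The real elements of `K`. -/
abbrev RealEl := {x : K // IsConj x x⁻¹}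

noncomputable instance instActIrr : MulAction G (RealIrr K) where
  smul g θ := ⟨⟨conjFun K g⁻¹ (θ.1 : K → ℂ), isIrrCharacter_conjFun K g⁻¹ θ.1.2⟩, fun _ => θ.2 _⟩
  one_smul θ := by
    apply Subtype.ext; apply Subtype.ext
    change conjFun K (1 : G)⁻¹ _ = _
    rw [inv_one, conjFun_one]
  mul_smul g h θ := by
    apply Subtype.ext; apply Subtype.ext
    change conjFun K (g * h)⁻¹ _ = conjFun K g⁻¹ (conjFun K h⁻¹ _)
    rw [mul_inv_rev, conjFun_mul]

theorem smulIrr_coe (g : G) (θ : RealIrr K) :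
    (((g • θ : RealIrr K).1 : Cfsg.IrrCharacter K) : K → ℂ) = conjFun K g⁻¹ (θ.1 : K → ℂ) := rfl

omit [Finite G] in
theorem real_map (g : G) (C : ConjClasses K)
    (hC : ∀ k : K, ConjClasses.mk k = C → IsConj k k⁻¹) :
    ∀ k : K, ConjClasses.mk k = ConjClasses.map (MulAut.conjNormal (H := K) g).toMonoidHom C →
      IsConj k k⁻¹ := by
  obtain ⟨k₀, rfl⟩ := ConjClasses.mk_surjective C
  intro k hk
  change ConjClasses.mk k = ConjClasses.mk (MulAut.conjNormal (H := K) g k₀) at hk
  rw [ConjClasses.mk_eq_mk_iff_isConj] at hk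
  have h1 : IsConj (MulAut.conjNormal (H := K) g k₀) (MulAut.conjNormal (H := K) g k₀)⁻¹ := by
    have := cn_isConj K g (hC k₀ rfl)
    rwa [map_inv] at this
  exact real_of_isConj K hk.symm h1

instance instActCl : MulAction G (RealCl K) where
  smul g C := ⟨ConjClasses.map (MulAut.conjNormal (H := K) g).toMonoidHom C.1, real_map K g C.1 C.2⟩
  one_smul C := by
    rcases C with ⟨C, hC⟩
    obtain ⟨k, rfl⟩ := ConjClasses.mk_surjective C
    apply Subtype.ext
    change ConjClasses.mk (MulAut.conjNormal (H := K) (1 : G) k) = ConjClasses.mk k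
    simp
  mul_smul g h C := by
    rcases C with ⟨C, hC⟩
    obtain ⟨k, rfl⟩ := ConjClasses.mk_surjective C
    apply Subtype.ext
    change ConjClasses.mk (MulAut.conjNormal (H := K) (g * h) k)
      = ConjClasses.mk (MulAut.conjNormal (H := K) g (MulAut.conjNormal (H := K) h k))
    simp

omit [Finite G] in
theorem smulCl_coe (g : G) (C : RealCl K) :
    ((g • C : RealCl K) : ConjClasses K)
      = ConjClasses.map (MulAut.conjNormal (H := K) g).toMonoidHom C.1 := rfl

instance instActEl : MulAction G (RealEl K) where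
  smul g x := ⟨MulAut.conjNormal (H := K) g x.1, by
    have := cn_isConj K g x.2
    rwa [map_inv] at this⟩
  one_smul x := by
    apply Subtype.ext
    change MulAut.conjNormal (H := K) (1 : G) x.1 = x.1
    simp
  mul_smul g h x := by
    apply Subtype.ext
    change MulAut.conjNormal (H := K) (g * h) x.1
      = MulAut.conjNormal (H := K) g (MulAut.conjNormal (H := K) h x.1)
    simp

omit [Finite G] in
theorem smulEl_coe (g : G) (x : RealEl K) :
    ((g • x : RealEl K) : K) = MulAut.conjNormal (H := K) g x.1 := rfl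

/-- The twisting map `k ↦ (g⁻¹ k g)⁻¹`. -/
def twist (g : G) : K → K := fun k => (MulAut.conjNormal (H := K) g⁻¹ k)⁻¹

omit [Finite G] in
theorem twist_isConj (g : G) {a b : K} (h : IsConj a b) : IsConj (twist K g a) (twist K g b) :=
  isConj_inv_inv K (cn_isConj K g⁻¹ h)

theorem comp_twist (g : G) (χ : Cfsg.IrrCharacter K) (k : K) :
    (χ : K → ℂ) (twist K g k) = conj (conjFun K g⁻¹ (χ : K → ℂ) k) := by
  rw [twist, IrrCharacter.apply_inv, conjFun_eq_comp]
  rfl

/-- Fixed points of `g` on the real characters. -/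
theorem card_fixedBy_irr (hodd : Odd K.index) (g : G) :
    Nat.card (MulAction.fixedBy (RealIrr K) g)
      = Nat.card {χ : Cfsg.IrrCharacter K // (χ : K → ℂ) ∘ twist K g = (χ : K → ℂ)} := by
  refine Nat.card_congr ((Equiv.subtypeSubtypeEquivSubtypeExists _ _).trans
    (Equiv.subtypeEquivRight ?_))
  intro χ
  constructor
  · rintro ⟨hreal, hfix⟩
    have hfix' : conjFun K g⁻¹ (χ : K → ℂ) = (χ : K → ℂ) := by
      have h1 : g • (⟨χ, hreal⟩ : RealIrr K) = ⟨χ, hreal⟩ := hfix
      have := congrArg (fun t : RealIrr K => ((t.1 : Cfsg.IrrCharacter K) : K → ℂ)) h1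
      exact this
    funext k
    rw [Function.comp_apply, comp_twist, hfix']
    exact Complex.conj_eq_iff_im.2 (hreal k)
  · intro h
    have h1 : ∀ k : K, conj (conjFun K g⁻¹ (χ : K → ℂ) k) = (χ : K → ℂ) k := by
      intro k
      rw [← comp_twist]
      exact congrFun h k
    obtain ⟨hreal, hfix⟩ := char_key K hodd χ g⁻¹ h1
    refine ⟨hreal, ?_⟩
    change g • (⟨χ, hreal⟩ : RealIrr K) = ⟨χ, hreal⟩
    apply Subtype.ext; apply Subtype.ext
    exact hfix

omit [Finite G] in
/-- Fixed points of `g` on the real classes. -/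
theorem card_fixedBy_cl (hodd : Odd K.index) (g : G) :
    Nat.card (MulAction.fixedBy (RealCl K) g)
      = Nat.card {C : ConjClasses K // ∀ k : K, ConjClasses.mk k = C → IsConj (twist K g k) k} := by
  refine Nat.card_congr ((Equiv.subtypeSubtypeEquivSubtypeExists _ _).trans
    (Equiv.subtypeEquivRight ?_))
  intro C
  constructor
  · rintro ⟨hreal, hfix⟩
    intro k hk
    have h1 : g • (⟨C, hreal⟩ : RealCl K) = ⟨C, hreal⟩ := hfix
    have h2 : ConjClasses.map (MulAut.conjNormal (H := K) g).toMonoidHom C = C :=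
      congrArg Subtype.val h1
    rw [← hk] at h2
    change ConjClasses.mk (MulAut.conjNormal (H := K) g k) = ConjClasses.mk k at h2
    rw [ConjClasses.mk_eq_mk_iff_isConj] at h2
    have h3 := cn_isConj K g⁻¹ h2
    rw [cn_inv_cn] at h3
    -- h3 : IsConj k (cn g⁻¹ k)
    have h4 : IsConj (twist K g k) k⁻¹ := isConj_inv_inv K h3.symm
    exact h4.trans (hreal k hk).symm
  · intro h
    obtain ⟨k₀, rfl⟩ := ConjClasses.mk_surjective C
    obtain ⟨hr, hc⟩ := class_key K hodd k₀ g⁻¹ (h k₀ rfl)
    have hreal : ∀ k : K, ConjClasses.mk k = ConjClasses.mk k₀ → IsConj k k⁻¹ := by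
      intro k hk
      rw [ConjClasses.mk_eq_mk_iff_isConj] at hk
      exact real_of_isConj K hk.symm hr
    refine ⟨hreal, ?_⟩
    change g • (⟨ConjClasses.mk k₀, hreal⟩ : RealCl K) = ⟨ConjClasses.mk k₀, hreal⟩
    apply Subtype.ext
    change ConjClasses.mk (MulAut.conjNormal (H := K) g k₀) = ConjClasses.mk k₀
    rw [ConjClasses.mk_eq_mk_iff_isConj]
    have := cn_isConj K g hc
    rw [cn_cn_inv] at this
    exact this.symm

/-- Brauer's permutation lemma for the twisted maps. -/
theorem card_twist_eq (g : G) :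
    Nat.card {χ : Cfsg.IrrCharacter K // (χ : K → ℂ) ∘ twist K g = (χ : K → ℂ)}
      = Nat.card {C : ConjClasses K // ∀ k : K, ConjClasses.mk k = C → IsConj (twist K g k) k} := by
  classical
  haveI : Fintype K := Fintype.ofFinite K
  have hφ : ∀ χ : Cfsg.IrrCharacter K, Cfsg.IsIrrCharacter K ((χ : K → ℂ) ∘ twist K g) := by
    intro χ
    have h1 := isIrrCharacter_comp_inv χ
    exact isIrrCharacter_comp_mulEquiv (MulAut.conjNormal (H := K) g⁻¹)
      ⟨(χ : K → ℂ) ∘ (fun k => k⁻¹), h1⟩
  have h1 := card_fixed_irr_eq_sum (G := K) (twist K g) hφ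
  have hP : ∀ k h : K, IsConj k h → (IsConj (twist K g k) k ↔ IsConj (twist K g h) h) := by
    intro k h hkh
    have ht := twist_isConj K g hkh
    constructor
    · intro h2; exact (ht.symm.trans h2).trans hkh
    · intro h2; exact (ht.trans h2).trans hkh.symm
  have h2 := sum_class_avg (G := K) (fun k => IsConj (twist K g k) k) hP
  rw [h2] at h1
  exact_mod_cast h1

omit [Finite G] in
/-- The class map from real elements to real classes. -/
def toCl (x : RealEl K) : RealCl K :=
  ⟨ConjClasses.mk x.1, fun k hk =>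
    real_of_isConj K (ConjClasses.mk_eq_mk_iff_isConj.1 hk).symm x.2⟩

omit [Finite G] in
theorem toCl_smul (g : G) (x : RealEl K) : toCl K (g • x) = g • toCl K x := rfl

omit [Finite G] in
/-- Orbits of `G` on real elements correspond to orbits on real classes. -/
theorem card_orbits_el_eq_cl :
    Nat.card (Quot (fun a b : RealEl K => ∃ g : G, b = g • a))
      = Nat.card (Quot (fun a b : RealCl K => ∃ g : G, b = g • a)) := by
  have e1 : Quot (fun a b : RealEl K => ∃ g : G, b = g • a)
      ≃ Quotient (MulAction.orbitRel G (RealEl K)) :=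
    Quot.congrRight (fun a b => by
      rw [MulAction.orbitRel_apply, MulAction.mem_orbit_iff]
      constructor
      · rintro ⟨g, rfl⟩; exact ⟨g⁻¹, by simp⟩
      · rintro ⟨g, rfl⟩; exact ⟨g⁻¹, by simp⟩)
  have e2 : Quot (fun a b : RealCl K => ∃ g : G, b = g • a)
      ≃ Quotient (MulAction.orbitRel G (RealCl K)) :=
    Quot.congrRight (fun a b => by
      rw [MulAction.orbitRel_apply, MulAction.mem_orbit_iff]
      constructor
      · rintro ⟨g, rfl⟩; exact ⟨g⁻¹, by simp⟩
      · rintro ⟨g, rfl⟩; exact ⟨g⁻¹, by simp⟩)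
  rw [Nat.card_congr e1, Nat.card_congr e2]
  have hmap : ∀ a b : RealEl K, (MulAction.orbitRel G (RealEl K)) a b →
      (MulAction.orbitRel G (RealCl K)) (toCl K a) (toCl K b) := by
    intro a b hab
    rw [MulAction.orbitRel_apply, MulAction.mem_orbit_iff] at hab ⊢
    obtain ⟨g, rfl⟩ := hab
    exact ⟨g, (toCl_smul K g b).symm⟩
  apply Nat.card_eq_of_bijective (Quotient.map (toCl K) hmap)
  constructor
  · intro q₁ q₂
    induction q₁ using Quotient.inductionOn with
    | h a =>
      induction q₂ using Quotient.inductionOn with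
      | h b =>
        intro hq
        rw [Quotient.map_mk, Quotient.map_mk, Quotient.eq] at hq
        apply Quotient.sound
        change (MulAction.orbitRel G (RealCl K)) (toCl K a) (toCl K b) at hq
        change (MulAction.orbitRel G (RealEl K)) a b
        rw [MulAction.orbitRel_apply, MulAction.mem_orbit_iff] at hq ⊢
        obtain ⟨g, hg⟩ := hq
        have h1 : ConjClasses.mk (MulAut.conjNormal (H := K) g b.1) = ConjClasses.mk a.1 :=
          congrArg Subtype.val hg
        rw [ConjClasses.mk_eq_mk_iff_isConj, isConj_iff] at h1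
        obtain ⟨c, hc⟩ := h1
        refine ⟨(c : G) * g, ?_⟩
        apply Subtype.ext
        rw [smulEl_coe]
        rw [← hc]
        apply Subtype.ext
        simp only [MulAut.conjNormal_apply, Subgroup.coe_mul, Subgroup.coe_inv]
        group
  · intro q
    induction q using Quotient.inductionOn with
    | h C =>
      rcases C with ⟨C, hC⟩
      obtain ⟨k, rfl⟩ := ConjClasses.mk_surjective C
      exact ⟨Quotient.mk _ ⟨k, hC k rfl⟩, rfl⟩

/-- The numbers of orbits on real characters and on real classes agree. -/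
theorem card_orbits_irr_eq_cl (hodd : Odd K.index) :
    Nat.card (Quot (fun a b : RealIrr K => ∃ g : G, b = g • a))
      = Nat.card (Quot (fun a b : RealCl K => ∃ g : G, b = g • a)) := by
  classical
  haveI := Fintype.ofFinite G
  haveI : Fintype (RealIrr K) := Fintype.ofFinite _
  haveI : Fintype (RealCl K) := Fintype.ofFinite _
  have h1 := card_quot_mul_card G (RealIrr K)
  have h2 := card_quot_mul_card G (RealCl K)
  have h3 : ∑ g : G, Nat.card (MulAction.fixedBy (RealIrr K) g)
      = ∑ g : G, Nat.card (MulAction.fixedBy (RealCl K) g) := by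
    apply Finset.sum_congr rfl
    intro g _
    rw [card_fixedBy_irr K hodd g, card_fixedBy_cl K hodd g, card_twist_eq K g]
  rw [h3, ← h2] at h1
  exact Nat.eq_of_mul_eq_mul_right Nat.card_pos h1

end

/-- Let K be a normal subgroup of odd index in the finite group G. Then G has as many orbits on the real-valued irreducible complex characters of K (acting by conjugation) as it has orbits on the conjugacy classes of K that are real in K; equivalently, the number of G-orbits of real-valued irreducible characters of K equals the number of G-conjugacy classes of elements of K that are conjugate in K to their inverses. -/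
theorem result {G : Type*} [Group G] [Finite G] (K : Subgroup G) [K.Normal] (hodd : Odd K.index) : Nat.card (Quot (fun θ η : {θ : Cfsg.IrrCharacter ↥K // (∀ k : ↥K, ((θ : ↥K → ℂ) k).im = 0)} => ∃ g : G, ∀ k k' : ↥K, (k' : G) = g * (k : G) * g⁻¹ → (η.1 : ↥K → ℂ) k' = (θ.1 : ↥K → ℂ) k)) = Nat.card (Quot (fun x y : {x : ↥K // IsConj x x⁻¹} => ∃ g : G, (y.1 : G) = g * x.1 * g⁻¹)) := by
  have eX : Quot (fun θ η : {θ : Cfsg.IrrCharacter ↥K // (∀ k : ↥K, ((θ : ↥K → ℂ) k).im = 0)} => ∃ g : G, ∀ k k' : ↥K, (k' : G) = g * (k : G) * g⁻¹ → (η.1 : ↥K → ℂ) k' = (θ.1 : ↥K → ℂ) k)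
      ≃ Quot (fun a b : RealIrr K => ∃ g : G, b = g • a) := by
    refine Quot.congrRight (fun θ η => ?_)
    constructor
    · rintro ⟨g, hg⟩
      refine ⟨g, ?_⟩
      apply Subtype.ext; apply Subtype.ext
      rw [smulIrr_coe]
      funext k'
      rw [Cfsg.Agent.Lib.Helper2.conjFun_apply]
      apply hg
      simp only
      group
    · rintro ⟨g, rfl⟩
      refine ⟨g, ?_⟩
      intro k k' hk
      rw [smulIrr_coe, Cfsg.Agent.Lib.Helper2.conjFun_apply]
      refine congrArg _ (Subtype.ext ?_)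
      simp only
      rw [hk]; group
  have eY : Quot (fun x y : {x : ↥K // IsConj x x⁻¹} => ∃ g : G, (y.1 : G) = g * x.1 * g⁻¹)
      ≃ Quot (fun a b : RealEl K => ∃ g : G, b = g • a) := by
    refine Quot.congrRight (fun x y => ?_)
    constructor
    · rintro ⟨g, hg⟩
      refine ⟨g, ?_⟩
      apply Subtype.ext
      rw [smulEl_coe]
      apply Subtype.ext
      rw [MulAut.conjNormal_apply]
      exact hg
    · rintro ⟨g, rfl⟩
      refine ⟨g, ?_⟩
      rw [smulEl_coe, MulAut.conjNormal_apply]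
  rw [Nat.card_congr eX, Nat.card_congr eY, card_orbits_irr_eq_cl K hodd, card_orbits_el_eq_cl K]

end Cfsg.Agent.S4866
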