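import Cfsg.Statements.S4871
import Cfsg.Agent.Lib.Helper25.AcdTwoB
import Cfsg.Agent.Lib.Helper2.Ito

set_option autoImplicit false
open Cfsg

namespace Cfsg.Agent.S4871

open Cfsg.Agent.Lib.Helper25.AcdTwo Cfsg.Agent.Lib.Helper11.FratIdx

/-- Let G be a finite group that is the semidirect product of a normal elementary abelian subgroup N of odd order by a non-trivial 2-subgroup P, with N the unique minimal normal subgroup of G. Consider the strongly real irreducible complex characters of G (Frobenius–Schur indicator +1) whose degree is 1 or even. Then their average degree is at least 4/3: four times their number is at most three times the sum of their degrees. -/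
theorem result {G : Type*} [Group G] [Finite G] (N P : Subgroup G) (hN : N.Normal) (q : ℕ) [Fact q.Prime] (hq : q ≠ 2) (hNel : Cfsg.IsElementaryAbelian q N) (hP : IsPGroup 2 ↥P) (hP1 : P ≠ ⊥) (hdisj : N ⊓ P = ⊥) (hprod : N ⊔ P = ⊤) (hmin : N ≠ ⊥ ∧ ∀ M : Subgroup G, M.Normal → M ≠ ⊥ → N ≤ M) : 4 * Nat.card {χ : Cfsg.IrrCharacter G // (Cfsg.charDegree (χ : G → ℂ) = 1 ∨ 2 ∣ Cfsg.charDegree (χ : G → ℂ)) ∧ (Nat.card G : ℂ)⁻¹ * ∑ᶠ g : G, (χ : G → ℂ) (g * g) = 1} ≤ 3 * (∑ᶠ χ : {χ : Cfsg.IrrCharacter G // (Cfsg.charDegree (χ : G → ℂ) = 1 ∨ 2 ∣ Cfsg.charDegree (χ : G → ℂ)) ∧ (Nat.card G : ℂ)⁻¹ * ∑ᶠ g : G, (χ : G → ℂ) (g * g) = 1}, Cfsg.charDegree (χ.1 : G → ℂ)) := by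
  classical
  haveI : Fintype G := Fintype.ofFinite G
  haveI : Fintype (IrrCharacter G) := Fintype.ofFinite _
  haveI := hN
  have hNab : IsMulCommutative ↥N := hNel.1
  have hcommN : ∀ a ∈ N, ∀ b ∈ N, a * b = b * a := by
    intro a ha b hb
    have := hNab.is_comm.comm (⟨a, ha⟩ : ↥N) ⟨b, hb⟩
    exact congrArg Subtype.val this
  have hqodd : Odd q := (Fact.out : q.Prime).odd_of_ne_two hq
  have hNodd : Odd (Nat.card ↥N) := by
    have hNp : IsPGroup q ↥N := by
      intro n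
      refine ⟨1, ?_⟩
      apply Subtype.ext
      rw [pow_one, Subgroup.coe_pow, Subgroup.coe_one]
      exact hNel.2 n n.2
    obtain ⟨k, hk⟩ := IsPGroup.iff_card.mp hNp
    rw [hk]
    exact hqodd.pow
  have hn3 : 3 ≤ Nat.card ↥N := by
    have h1 : 1 < Nat.card ↥N := N.one_lt_card_iff_ne_bot.mpr hmin.1
    obtain ⟨a, ha⟩ := hNodd
    omega
  have hNP := card_mul_card N P hN hdisj hprod
  have hidx : N.index = Nat.card ↥P := by
    have h1 := N.card_mul_index
    rw [← hNP] at h1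
    exact Nat.eq_of_mul_eq_mul_left Nat.card_pos h1
  obtain ⟨a, ha⟩ := IsPGroup.iff_card.mp hP
  have hdeg : ∀ χ : IrrCharacter G,
      charDegree (χ : G → ℂ) = 1 ∨ 2 ∣ charDegree (χ : G → ℂ) := by
    intro χ
    obtain ⟨d, hd, hdvd⟩ := Cfsg.Agent.Lib.Helper2.ito_aux (Nat.card G) G rfl (χ : G → ℂ) χ.2 N
      hcommN
    have hdd : charDegree (χ : G → ℂ) = d := by
      have h1 := Cfsg.Agent.Lib.Helper25.char_one_eq_charDegree
        (Cfsg.Agent.Lib.Helper25.isCharacter_of_irr χ.2)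
      rw [hd] at h1
      exact_mod_cast h1.symm
    rw [hdd]
    rw [hidx, ha] at hdvd
    obtain ⟨b, -, rfl⟩ := (Nat.dvd_prime_pow Nat.prime_two).mp hdvd
    rcases Nat.eq_zero_or_pos b with rfl | hb
    · left; rfl
    · right; exact dvd_pow_self 2 hb.ne'
  have hfin : ∀ χ : IrrCharacter G,
      (Nat.card G : ℂ)⁻¹ * ∑ᶠ g : G, (χ : G → ℂ) (g * g) = nu χ := by
    intro χ
    unfold nu
    rw [finsum_eq_sum_of_fintype]
  have hiff : ∀ χ : IrrCharacter G,
      χ ∈ Finset.univ.filter (fun χ : IrrCharacter G => nu χ = 1) ↔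
      ((charDegree (χ : G → ℂ) = 1 ∨ 2 ∣ charDegree (χ : G → ℂ)) ∧
        (Nat.card G : ℂ)⁻¹ * ∑ᶠ g : G, (χ : G → ℂ) (g * g) = 1) := by
    intro χ
    rw [Finset.mem_filter, hfin]
    constructor
    · intro h; exact ⟨hdeg χ, h.2⟩
    · intro h; exact ⟨Finset.mem_univ _, h.2⟩
  obtain ⟨S, hS⟩ : ∃ S : Finset (IrrCharacter G),
      S = Finset.univ.filter (fun χ : IrrCharacter G => nu χ = 1) := ⟨_, rfl⟩
  rw [← hS] at hiff
  have hcardX : Nat.card {χ : Cfsg.IrrCharacter G // (Cfsg.charDegree (χ : G → ℂ) = 1 ∨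
      2 ∣ Cfsg.charDegree (χ : G → ℂ)) ∧
      (Nat.card G : ℂ)⁻¹ * ∑ᶠ g : G, (χ : G → ℂ) (g * g) = 1} = S.card := by
    rw [Nat.card_eq_fintype_card, Fintype.card_subtype]
    congr 1
    ext χ
    rw [Finset.mem_filter, hiff]
    simp
  have hsumX : (∑ᶠ χ : {χ : Cfsg.IrrCharacter G // (Cfsg.charDegree (χ : G → ℂ) = 1 ∨
      2 ∣ Cfsg.charDegree (χ : G → ℂ)) ∧
      (Nat.card G : ℂ)⁻¹ * ∑ᶠ g : G, (χ : G → ℂ) (g * g) = 1},
      Cfsg.charDegree (χ.1 : G → ℂ)) = ∑ χ ∈ S, charDegree (χ : G → ℂ) := by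
    rw [finsum_eq_sum_of_fintype]
    exact (Finset.sum_subtype S hiff (fun χ => charDegree (χ : G → ℂ))).symm
  rw [hcardX, hsumX]
  -- the inequalities
  have hA := invol_le_sum_degree S (fun χ h => by rw [hS, Finset.mem_filter]; exact ⟨Finset.mem_univ _, h⟩)
  obtain ⟨z, hzP, hz1, hzz, hinv⟩ := exists_inverting N P hN hNab hP hP1 hdisj hprod hmin
  have hzN : z ∉ N := by
    intro h
    apply hz1
    have : z ∈ N ⊓ P := Subgroup.mem_inf.mpr ⟨h, hzP⟩
    rwa [hdisj, Subgroup.mem_bot] at this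
  have hB := invol_count N hzN hzz hinv
  have hSR := sr_bound N P hN hNab hNodd hP hdisj hprod hmin
  have hLcard := card_real_linear_le N P hN hNodd hdisj hprod hSR
    (S.filter (fun χ : IrrCharacter G => charDegree (χ : G → ℂ) = 1)) (by
      intro χ hχ
      rw [Finset.mem_filter, hS, Finset.mem_filter] at hχ
      refine ⟨?_, hχ.1.2⟩
      rw [Cfsg.Agent.Lib.Helper25.char_one_eq_charDegree
        (Cfsg.Agent.Lib.Helper25.isCharacter_of_irr χ.2), hχ.2, Nat.cast_one])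
  have hC := two_mul_two_pow_kb_le hn3 hNodd
  have hD : 2 * S.card ≤ (∑ χ ∈ S, charDegree (χ : G → ℂ)) +
      (S.filter (fun χ : IrrCharacter G => charDegree (χ : G → ℂ) = 1)).card := by
    have h1 : ∀ χ ∈ S, 2 ≤ charDegree (χ : G → ℂ) +
        (if charDegree (χ : G → ℂ) = 1 then 1 else 0) := by
      intro χ _
      rcases hdeg χ with h | h
      · rw [if_pos h, h]
      · have hpos := Cfsg.Agent.Lib.Helper25.irr_degree_pos χ.2
        have := Nat.le_of_dvd hpos h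
        omega
    calc 2 * S.card = ∑ _χ ∈ S, 2 := by rw [Finset.sum_const, smul_eq_mul, mul_comm]
      _ ≤ ∑ χ ∈ S, (charDegree (χ : G → ℂ) +
            (if charDegree (χ : G → ℂ) = 1 then 1 else 0)) := Finset.sum_le_sum h1
      _ = (∑ χ ∈ S, charDegree (χ : G → ℂ)) +
            (S.filter (fun χ : IrrCharacter G => charDegree (χ : G → ℂ) = 1)).card := by
          rw [Finset.sum_add_distrib, ← Finset.card_filter]
  generalize 2 ^ kb (Nat.card ↥N) = w at hLcard hC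
  omega

end Cfsg.Agent.S4871
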