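import Mathlib
import Cfsg.Statements.S4873
import Cfsg.Agent.Lib.Helper2.OddOrderChars
import Cfsg.Agent.Lib.Helper2.Clifford
import Cfsg.Agent.Lib.Helper2.DirectProduct
import Cfsg.Agent.Lib.Helper2.Induction
import Cfsg.Agent.Lib.Helper25.EvenDegree
import Cfsg.Agent.Lib.Helper25.FSInduced
import Cfsg.Agent.Lib.Helper25.ClassMult
import Cfsg.Agent.Lib.Helper25.CharBasic

set_option autoImplicit false
open Cfsg

namespace Cfsg.Agent.S4873

open Cfsg.Agent.Lib.Helper2 Cfsg.Agent.Lib.Helper25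
open scoped ComplexConjugate

theorem classInner_conj_conj {G : Type*} [Group G] [Fintype G] (f g : G → ℂ) :
    Cfsg.classInner (fun x => conj (f x)) (fun x => conj (g x)) = conj (Cfsg.classInner f g) := by
  rw [classInner_def, classInner_def, map_mul, map_inv₀, Complex.conj_natCast, map_sum]
  congr 1
  apply Finset.sum_congr rfl
  intro x _
  rw [map_mul]

theorem zmod2_aux : ∀ a b c : ZMod 2, a * b * c = 1 → a = 1 ∧ b = 1 ∧ c = 1 := by decide

/-- Parity of `[χ_N, χ'_N]` for real-valued irreducible characters and `N` of odd index. -/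
theorem parity {G : Type*} [Group G] [Fintype G] (N : Subgroup G) [N.Normal] [Fintype N]
    (hodd : Odd N.index) (χ χ' : Cfsg.IrrCharacter G) (hχ : barIrr χ = χ) (hχ' : barIrr χ' = χ')
    (m : ℕ) (hm : Cfsg.classInner (fun n : N => (χ : G → ℂ) n) (fun n : N => (χ' : G → ℂ) n) = m) :
    (m : ZMod 2) = if χ = χ' then 1 else 0 := by
  classical
  have : Fintype (G ⧸ N) := Fintype.ofFinite _
  have : Fintype (Cfsg.IrrCharacter (G ⧸ N)) := Fintype.ofFinite _
  have hQodd : Odd (Nat.card (G ⧸ N)) := by rwa [← Subgroup.index_eq_card]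
  have hreal : ∀ g : G, conj ((χ : G → ℂ) g) = (χ : G → ℂ) g :=
    fun g => congrFun (congrArg Subtype.val hχ) g
  have hreal' : ∀ g : G, conj ((χ' : G → ℂ) g) = (χ' : G → ℂ) g :=
    fun g => congrFun (congrArg Subtype.val hχ') g
  let infl : Cfsg.IrrCharacter (G ⧸ N) → G → ℂ := fun β g => (β : G ⧸ N → ℂ) (g : G ⧸ N)
  have hinflchar : ∀ β, Cfsg.IsCharacter G (infl β) := fun β =>
    IsCharacter.comp (isCharacter_of_irr β.2) (QuotientGroup.mk' N)
  have hd : ∀ β : Cfsg.IrrCharacter (G ⧸ N), ∃ d : ℕ, (β : G ⧸ N → ℂ) 1 = d :=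
    fun β => IsCharacter.apply_one (isCharacter_of_irr β.2)
  choose d hd using hd
  have ha : ∀ β, ∃ a : ℕ, Cfsg.classInner (infl β * (χ : G → ℂ)) (χ' : G → ℂ) = a := fun β =>
    classInner_isCharacter_nat (isCharacter_mul (hinflchar β) (isCharacter_of_irr χ.2))
      (isCharacter_of_irr χ'.2)
  choose a ha using ha
  -- the key identity
  have h1 : ∀ g : G, ∑ β : Cfsg.IrrCharacter (G ⧸ N),
      (β : G ⧸ N → ℂ) 1 * (β : G ⧸ N → ℂ) (g : G ⧸ N)
      = if g ∈ N then (Nat.card (G ⧸ N) : ℂ) else 0 := by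
    intro g
    rw [regular_char_sum]
    simp only [QuotientGroup.eq_one_iff]
  have hcard : (Nat.card G : ℂ) = (Nat.card (G ⧸ N) : ℂ) * (Nat.card N : ℂ) := by
    rw [← Nat.cast_mul, ← Subgroup.index_eq_card, mul_comm, Subgroup.card_mul_index]
  have hNne : (Nat.card N : ℂ) ≠ 0 := by exact_mod_cast Nat.card_pos.ne'
  have hQne : (Nat.card (G ⧸ N) : ℂ) ≠ 0 := by exact_mod_cast Nat.card_pos.ne'
  have hkey : (m : ℂ) = ∑ β : Cfsg.IrrCharacter (G ⧸ N), (d β : ℂ) * (a β : ℂ) := by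
    rw [← hm]
    simp only [← hd, ← ha]
    have hL : Cfsg.classInner (fun n : N => (χ : G → ℂ) n) (fun n : N => (χ' : G → ℂ) n)
        = (Nat.card N : ℂ)⁻¹ * ∑ g : G,
          (if g ∈ N then (χ : G → ℂ) g * conj ((χ' : G → ℂ) g) else 0) := by
      rw [classInner_def]
      congr 1
      rw [← sum_extendByZero N (fun n : N => (χ : G → ℂ) n * conj ((χ' : G → ℂ) n))]
      apply Finset.sum_congr rfl
      intro g _
      by_cases hg : g ∈ N
      · rw [if_pos hg, extendByZero_of_mem _ _ hg]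
      · rw [if_neg hg, extendByZero_of_not_mem _ _ hg]
    have hR : ∑ β : Cfsg.IrrCharacter (G ⧸ N), (β : G ⧸ N → ℂ) 1 *
        Cfsg.classInner (infl β * (χ : G → ℂ)) (χ' : G → ℂ)
        = (Nat.card G : ℂ)⁻¹ * ∑ g : G, (∑ β : Cfsg.IrrCharacter (G ⧸ N),
          (β : G ⧸ N → ℂ) 1 * (β : G ⧸ N → ℂ) (g : G ⧸ N)) *
            ((χ : G → ℂ) g * conj ((χ' : G → ℂ) g)) := by
      simp only [classInner_def, Pi.mul_apply, infl]
      simp only [Finset.mul_sum, Finset.sum_mul]
      rw [Finset.sum_comm]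
      apply Finset.sum_congr rfl
      intro g _
      apply Finset.sum_congr rfl
      intro β _
      ring
    rw [hL, hR]
    simp only [h1]
    rw [hcard, mul_inv, mul_comm ((Nat.card (G ⧸ N) : ℂ))⁻¹, mul_assoc]
    congr 1
    rw [Finset.mul_sum]
    apply Finset.sum_congr rfl
    intro g _
    by_cases hg : g ∈ N
    · rw [if_pos hg, if_pos hg]
      field_simp
    · rw [if_neg hg, if_neg hg]
      simp
  have hkeyN : m = ∑ β : Cfsg.IrrCharacter (G ⧸ N), d β * a β := by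
    have : (m : ℂ) = ((∑ β : Cfsg.IrrCharacter (G ⧸ N), d β * a β : ℕ) : ℂ) := by
      rw [hkey]; push_cast; rfl
    exact_mod_cast this
  -- symmetry under complex conjugation
  have hdbar : ∀ β, d (barIrr β) = d β := by
    intro β
    have h2 : ((d (barIrr β) : ℕ) : ℂ) = (d β : ℂ) := by
      rw [← hd, ← hd, barIrr_apply, hd, Complex.conj_natCast]
    exact_mod_cast h2
  have habar : ∀ β, a (barIrr β) = a β := by
    intro β
    have h2 : ((a (barIrr β) : ℕ) : ℂ) = (a β : ℂ) := by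
      rw [← ha, ← ha]
      have h3 : infl (barIrr β) * (χ : G → ℂ) = fun x => conj ((infl β * (χ : G → ℂ)) x) := by
        funext x
        simp only [Pi.mul_apply, infl, barIrr_apply, map_mul, hreal]
      have h4 : (χ' : G → ℂ) = fun x => conj ((χ' : G → ℂ) x) := by
        funext x; rw [hreal']
      rw [h3]
      conv_lhs => rw [h4]
      rw [classInner_conj_conj, ha, Complex.conj_natCast]
    exact_mod_cast h2
  -- the sum modulo 2
  rw [hkeyN]
  push_cast
  rw [← Finset.add_sum_erase Finset.univ _ (Finset.mem_univ (trivialIrr (G ⧸ N)))]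
  have hrest : ∑ β ∈ Finset.univ.erase (trivialIrr (G ⧸ N)), ((d β : ZMod 2) * (a β : ZMod 2)) = 0 := by
    apply Finset.sum_involution (fun β _ => barIrr β)
    · intro β _
      rw [hdbar, habar]
      exact CharTwo.add_self_eq_zero _
    · intro β hβ _ hfix
      rw [Finset.mem_erase] at hβ
      apply hβ.1
      apply eq_trivial_of_real_of_odd hQodd β
      intro g
      have := congrFun (congrArg Subtype.val hfix) g
      rw [barIrr_apply] at this
      exact Complex.conj_eq_iff_im.1 this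
    · intro β _
      exact barIrr_barIrr β
    · intro β hβ
      rw [Finset.mem_erase] at hβ ⊢
      refine ⟨?_, Finset.mem_univ _⟩
      intro h
      apply hβ.1
      rw [← barIrr_barIrr β, h]
      apply Subtype.ext
      funext g
      rw [barIrr_apply]
      simp [trivialIrr]
  rw [hrest, add_zero]
  have hd1 : d (trivialIrr (G ⧸ N)) = 1 := by
    have : ((d (trivialIrr (G ⧸ N)) : ℕ) : ℂ) = 1 := by rw [← hd]; rfl
    exact_mod_cast this
  have ha1 : (a (trivialIrr (G ⧸ N)) : ℂ) = if χ = χ' then 1 else 0 := by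
    rw [← ha, ← classInner_irrCharacter χ χ']
    congr 1
    funext g
    simp [infl, trivialIrr]
  rw [hd1]
  by_cases hχχ : χ = χ'
  · rw [if_pos hχχ] at ha1 ⊢
    have : a (trivialIrr (G ⧸ N)) = 1 := by exact_mod_cast ha1
    rw [this]; simp
  · rw [if_neg hχχ] at ha1 ⊢
    have : a (trivialIrr (G ⧸ N)) = 0 := by exact_mod_cast ha1
    rw [this]; simp


theorem main {G : Type*} [Group G] [Fintype G] (N : Subgroup G) [N.Normal] [Fintype N]
    (hodd : Odd N.index) (φ : Cfsg.IrrCharacter N)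
    (hφ : (Nat.card N : ℂ)⁻¹ * ∑ g : N, (φ : N → ℂ) (g * g) = 1) :
    ∃! χ : Cfsg.IrrCharacter G, (Nat.card G : ℂ)⁻¹ * ∑ g : G, (χ : G → ℂ) (g * g) = 1 ∧
      Cfsg.classInner (fun n : N => (χ : G → ℂ) n) (φ : N → ℂ) ≠ 0 := by
  classical
  have : Fintype (Cfsg.IrrCharacter G) := Fintype.ofFinite _
  have hQodd : Odd (Nat.card (G ⧸ N)) := by rwa [← Subgroup.index_eq_card]
  -- multiplicities
  have he : ∀ χ : Cfsg.IrrCharacter G, ∃ e : ℕ,
      Cfsg.classInner (fun n : N => (χ : G → ℂ) n) (φ : N → ℂ) = e :=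
    fun χ => classInner_isCharacter_nat (IsCharacter.restrict (isCharacter_of_irr χ.2) N)
      (isCharacter_of_irr φ.2)
  choose e he using he
  have hm : ∀ χ χ' : Cfsg.IrrCharacter G, ∃ m : ℕ,
      Cfsg.classInner (fun n : N => (χ : G → ℂ) n) (fun n : N => (χ' : G → ℂ) n) = m :=
    fun χ χ' => classInner_isCharacter_nat (IsCharacter.restrict (isCharacter_of_irr χ.2) N)
      (IsCharacter.restrict (isCharacter_of_irr χ'.2) N)
  choose m hm using hm
  set S : N → ℂ := ∑ᶠ ψ ∈ {ψ : N → ℂ | ∃ g : G, ψ = conjFun N g (φ : N → ℂ)}, ψ with hS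
  have hcliff : ∀ χ : Cfsg.IrrCharacter G, e χ ≠ 0 →
      (fun n : N => (χ : G → ℂ) n) = (e χ : ℂ) • S := by
    intro χ hne
    have h1 := clifford_restriction N χ.2 φ.2 (by rw [he]; exact_mod_cast hne)
    rw [he] at h1
    exact h1
  -- uniqueness among real characters
  have huniq : ∀ χ χ' : Cfsg.IrrCharacter G, barIrr χ = χ → barIrr χ' = χ' → e χ ≠ 0 →
      e χ' ≠ 0 → χ = χ' := by
    intro χ χ' hr hr' hne hne'
    have hmul : (m χ χ' : ℂ) * (m χ χ' : ℂ) = (m χ χ : ℂ) * (m χ' χ' : ℂ) := by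
      simp only [← hm]
      rw [hcliff χ hne, hcliff χ' hne']
      simp only [classInner_smul_left, classInner_smul_right, Complex.conj_natCast]
      ring
    have hmulN : m χ χ' * m χ χ' = m χ χ * m χ' χ' := by exact_mod_cast hmul
    have p1 := parity N hodd χ χ hr hr (m χ χ) (hm χ χ)
    have p2 := parity N hodd χ' χ' hr' hr' (m χ' χ') (hm χ' χ')
    have p3 := parity N hodd χ χ' hr hr' (m χ χ') (hm χ χ')
    rw [if_pos rfl] at p1 p2
    by_contra hne2
    rw [if_neg hne2] at p3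
    have h4 : ((m χ χ' * m χ χ' : ℕ) : ZMod 2) = ((m χ χ * m χ' χ' : ℕ) : ZMod 2) := by
      rw [hmulN]
    push_cast at h4
    rw [p1, p2, p3] at h4
    simp at h4
  -- squares
  have hsq : ∀ g : G, g * g ∈ N → g ∈ N := by
    intro g hg
    rw [← QuotientGroup.eq_one_iff] at hg ⊢
    have h2 : (g : G ⧸ N) ^ 2 = 1 := by rw [pow_two]; exact hg
    have hcard : (g : G ⧸ N) ^ (Nat.card (G ⧸ N)) = 1 := pow_card_eq_one'
    have h3 : orderOf (g : G ⧸ N) ∣ Nat.gcd 2 (Nat.card (G ⧸ N)) :=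
      Nat.dvd_gcd (orderOf_dvd_of_pow_eq_one h2) (orderOf_dvd_of_pow_eq_one hcard)
    have hcop : Nat.gcd 2 (Nat.card (G ⧸ N)) = 1 := by
      have := hQodd.coprime_two_left
      exact this
    rw [hcop, Nat.dvd_one, orderOf_eq_one_iff] at h3
    exact h3
  have hGne : (Nat.card G : ℂ) ≠ 0 := by exact_mod_cast Nat.card_pos.ne'
  have hNne : (Nat.card N : ℂ) ≠ 0 := by exact_mod_cast Nat.card_pos.ne'
  have hfs : (Nat.card G : ℂ)⁻¹ * ∑ g : G, Cfsg.indFun N (φ : N → ℂ) (g * g) = 1 := by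
    rw [sum_indFun_sq]
    have h1 : ∑ g : G, Cfsg.extendByZero N (φ : N → ℂ) (g * g) =
        ∑ n : N, (φ : N → ℂ) (n * n) := by
      apply sum_extendByZero_sq_eq N N le_rfl
      intro y hy
      apply Finset.sum_eq_zero
      intro k _
      apply extendByZero_of_not_mem
      intro h
      apply hy
      have h5 := hsq _ h
      have h2 := N.mul_mem h5 (N.inv_mem k.2)
      rwa [mul_inv_cancel_right] at h2
    rw [h1, ← hφ]
    field_simp
  have hcoef : ∀ χ : Cfsg.IrrCharacter G,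
      Cfsg.classInner (Cfsg.indFun N (φ : N → ℂ)) (χ : G → ℂ) = e χ := by
    intro χ
    rw [frobenius_reciprocity N _ _ (isClassFunction_of_char (isCharacter_of_irr χ.2)), ← classInner_conj_symm, he,
      Complex.conj_natCast]
  have hsum : ∑ χ : Cfsg.IrrCharacter G,
      (e χ : ℂ) * ((Nat.card G : ℂ)⁻¹ * ∑ g : G, (χ : G → ℂ) (g * g)) = 1 := by
    rw [← hfs]
    have hval := Lib.Helper25.classFunction_expansion (Cfsg.indFun N (φ : N → ℂ))
      (indFun_isClassFunction N _)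
    simp only [hcoef] at hval
    simp only [hval]
    rw [Finset.sum_comm, Finset.mul_sum]
    apply Finset.sum_congr rfl
    intro χ _
    rw [← Finset.mul_sum]; ring
  -- existence
  have hex : ∃ χ₀ : Cfsg.IrrCharacter G, barIrr χ₀ = χ₀ ∧ e χ₀ ≠ 0 := by
    by_contra hcon
    push Not at hcon
    have h0 : ∑ χ : Cfsg.IrrCharacter G,
        (e χ : ℂ) * ((Nat.card G : ℂ)⁻¹ * ∑ g : G, (χ : G → ℂ) (g * g)) = 0 := by
      apply Finset.sum_eq_zero
      intro χ _
      by_cases hr : barIrr χ = χ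
      · rw [hcon χ hr]; simp
      · rw [(fs_cases χ).1 hr, mul_zero]
    rw [hsum] at h0
    exact one_ne_zero h0
  obtain ⟨χ₀, hr₀, hne₀⟩ := hex
  have hsum0 : (e χ₀ : ℂ) * ((Nat.card G : ℂ)⁻¹ * ∑ g : G, (χ₀ : G → ℂ) (g * g)) = 1 := by
    rw [← hsum]
    symm
    apply Finset.sum_eq_single χ₀
    · intro χ _ hne
      by_cases hr : barIrr χ = χ
      · by_cases he0 : e χ = 0
        · rw [he0]; simp
        · exact absurd (huniq χ χ₀ hr hr₀ he0 hne₀) hne
      · rw [(fs_cases χ).1 hr, mul_zero]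
    · intro h; exact absurd (Finset.mem_univ _) h
  have hν0 : (Nat.card G : ℂ)⁻¹ * ∑ g : G, (χ₀ : G → ℂ) (g * g) = 1 := by
    rcases (fs_cases χ₀).2 hr₀ with h | h
    · exact h
    · exfalso
      rw [h] at hsum0
      have h3 : ((e χ₀ : ℤ) : ℂ) * (-1) = 1 := by exact_mod_cast hsum0
      have h4 : (e χ₀ : ℤ) * (-1) = 1 := by exact_mod_cast h3
      omega
  refine ⟨χ₀, ⟨hν0, by rw [he]; exact_mod_cast hne₀⟩, ?_⟩
  rintro χ ⟨h1, h2⟩
  have hr : barIrr χ = χ := by
    by_contra hr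
    rw [(fs_cases χ).1 hr] at h1
    exact zero_ne_one h1
  apply huniq χ χ₀ hr hr₀ _ hne₀
  intro h0
  apply h2
  rw [he, h0]; simp

/-- Let N be a normal subgroup of odd index in the finite group G. Then every irreducible complex character of N with Frobenius–Schur indicator +1 lies under exactly one irreducible character of G with Frobenius–Schur indicator +1. -/
theorem result {G : Type*} [Group G] [Finite G] (N : Subgroup G) [N.Normal] (hodd : Odd N.index) (φ : Cfsg.IrrCharacter ↥N) (hφ : (Nat.card ↥N : ℂ)⁻¹ * ∑ᶠ g : ↥N, (φ : ↥N → ℂ) (g * g) = 1) : ∃! χ : Cfsg.IrrCharacter G, (Nat.card G : ℂ)⁻¹ * ∑ᶠ g : G, (χ : G → ℂ) (g * g) = 1 ∧ (∑ᶠ n : ↥N, (χ : G → ℂ) n * (starRingEnd ℂ) ((φ : ↥N → ℂ) n)) ≠ 0 := by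
  classical
  have : Fintype G := Fintype.ofFinite G
  have : Fintype N := Fintype.ofFinite N
  rw [finsum_eq_sum_of_fintype] at hφ
  have hNne : ((Nat.card N : ℂ))⁻¹ ≠ 0 := by
    apply inv_ne_zero
    exact_mod_cast Nat.card_pos.ne'
  obtain ⟨χ₀, ⟨h1, h2⟩, h3⟩ := main N hodd φ hφ
  refine ⟨χ₀, ⟨?_, ?_⟩, ?_⟩
  · rw [finsum_eq_sum_of_fintype]; exact h1
  · rw [finsum_eq_sum_of_fintype]
    intro h; apply h2; rw [classInner_def, h, mul_zero]
  · rintro χ ⟨h4, h5⟩
    apply h3
    rw [finsum_eq_sum_of_fintype] at h4 h5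
    refine ⟨h4, ?_⟩
    intro h
    apply h5
    rw [classInner_def] at h
    rcases mul_eq_zero.1 h with h | h
    · exact absurd h hNne
    · exact h

end Cfsg.Agent.S4873
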