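import Cfsg.Statements.S4888
import Cfsg.Agent.Lib.Helper7.PrincipalLinear

set_option autoImplicit false
open Cfsg

namespace Cfsg.Agent.S4888

/-- Let G be a finite group, p a prime and M a maximal ideal of the algebraic integers containing p. Then all height-zero irreducible characters of the principal p-block of G (equivalently, all its characters of degree prime to p) have the same degree if and only if G has a normal p-complement. -/
theorem result {G : Type*} [Group G] [Finite G] (p : ℕ) [Fact p.Prime] (M : Ideal Cfsg.AlgInt) (hM : Cfsg.IsPModular p M) : (∃ d : ℕ, ∀ χ : Cfsg.IrrCharacter G, χ ∈ (Cfsg.principalBlock M G) → Cfsg.blockHeight p (Cfsg.principalBlock M G) (χ : G → ℂ) = 0 → Cfsg.charDegree (χ : G → ℂ) = d) ↔ Cfsg.HasNormalPComplement p G := by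
  have hp : p.Prime := Fact.out
  have htriv : Cfsg.charDegree ((Cfsg.Agent.Lib.Helper24.trivIrr G : Cfsg.IrrCharacter G) : G → ℂ) = 1 := by
    unfold Cfsg.charDegree
    simp [Cfsg.Agent.Lib.Helper24.trivIrr]
  constructor
  · rintro ⟨d, hd⟩
    have hd1 : d = 1 := by
      have h := hd (Cfsg.Agent.Lib.Helper24.trivIrr G)
        (Cfsg.Agent.Lib.Helper24.trivIrr_mem_principalBlock hM)
        (by rw [Cfsg.Agent.Lib.Helper7.blockHeight_principalBlock hM, htriv]; simp)
      rw [htriv] at h
      exact h.symm
    apply Cfsg.Agent.Lib.Helper7.hasNormalPComplement_of_principalBlock_linear hM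
    intro χ hχ hnd
    rw [← hd1]
    apply hd χ hχ
    rw [Cfsg.Agent.Lib.Helper7.blockHeight_principalBlock hM]
    exact Nat.factorization_eq_zero_of_not_dvd hnd
  · intro h
    refine ⟨1, ?_⟩
    intro χ hχ hht
    rw [Cfsg.Agent.Lib.Helper7.blockHeight_principalBlock hM] at hht
    have hdvd := Cfsg.Agent.Lib.Helper7.charDegree_dvd_of_hasNormalPComplement hM h χ hχ
    obtain ⟨j, _, hj⟩ := (Nat.dvd_prime_pow hp).mp hdvd
    rw [hj, hp.factorization_pow] at hht
    simp only [Finsupp.single_eq_same] at hht
    rw [hj, hht, pow_zero]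

end Cfsg.Agent.S4888
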