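import Cfsg.Statements.S4911
import Cfsg.Agent.Lib.Helper2.GlaubermanReal

set_option autoImplicit false
open Cfsg

namespace Cfsg.Agent.S4911

/-- Let P and K be subgroups of a finite group with P a p-group normalizing K and K of order prime to p. Then the number of P-invariant real-valued irreducible complex characters of K equals the number of conjugacy classes of K that are real (closed under inversion) and P-invariant. Moreover, if every real-valued irreducible character of K is P-invariant, then every real element of K (one conjugate in K to its inverse) is conjugate in K to an element centralized by P. -/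
theorem result {G : Type*} [Group G] [Finite G] (p : ℕ) [Fact p.Prime] (P K : Subgroup G) (hP : IsPGroup p ↥P) (hK : ¬ p ∣ Nat.card ↥K) (hPK : P ≤ Subgroup.normalizer (K : Set G)) : Nat.card {θ : Cfsg.IrrCharacter ↥K // (∀ k : ↥K, ((θ : ↥K → ℂ) k).im = 0) ∧ (∀ x ∈ P, ∀ k k' : ↥K, (k' : G) = x * (k : G) * x⁻¹ → (θ : ↥K → ℂ) k' = (θ : ↥K → ℂ) k)} = Nat.card {c : ConjClasses ↥K // (∀ k : ↥K, ConjClasses.mk k = c → IsConj k k⁻¹) ∧ ∀ k : ↥K, ConjClasses.mk k = c → ∀ x ∈ P, ∀ k' : ↥K, (k' : G) = x * (k : G) * x⁻¹ → ConjClasses.mk k' = c} ∧ ((∀ θ : Cfsg.IrrCharacter ↥K, (∀ k : ↥K, ((θ : ↥K → ℂ) k).im = 0) → (∀ x ∈ P, ∀ k k' : ↥K, (k' : G) = x * (k : G) * x⁻¹ → (θ : ↥K → ℂ) k' = (θ : ↥K → ℂ) k)) → ∀ k : ↥K, IsConj k k⁻¹ → ∃ k' : ↥K, IsConj k k' ∧ ∀ x ∈ P, x * (k' : G) * x⁻¹ = (k' : G)) := by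
  classical
  open Cfsg.Agent.Lib Cfsg.Agent.Lib.Helper2 Cfsg.Agent.Lib.Helper2.GlPG
    Cfsg.Agent.Lib.Helper2.GlSolv Cfsg.Agent.Lib.Helper2.GlReal in
  haveI : Fintype G := Fintype.ofFinite G
  have hp : p.Prime := Fact.out
  haveI : Fintype ↥K := Fintype.ofFinite _
  have hcop : (Nat.card ↥K).Coprime (Nat.card ↥P) := by
    obtain ⟨n, hn⟩ := IsPGroup.iff_card.1 hP
    rw [hn]
    exact Nat.Coprime.pow_right n ((Nat.Prime.coprime_iff_not_dvd hp).2 hK).symm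
  have hsolv : Group.IsSolvable ↥P := by
    haveI := hP.isNilpotent
    infer_instance
  obtain ⟨C, hC⟩ : ∃ C : Subgroup G, C = K ⊓ Subgroup.centralizer (P : Set G) := ⟨_, rfl⟩
  have hCK : C ≤ K := by rw [hC]; exact inf_le_left
  haveI : Fintype ↥C := Fintype.ofFinite _
  have HP := glP_pgroup hp (Nat.card ↥P) P rfl hP K hPK hcop C hC hCK
  have part1 := (card_real_inv_irr hp HP).trans
    ((card_real_irr_eq_card_real_classes (G := ↥C)).trans
      (card_real_inv_classes P K C hPK hcop.symm hsolv hC).symm)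
  refine ⟨part1, ?_⟩
  intro hall k hk
  have hcardK := card_real_irr_eq_card_real_classes (G := ↥K)
  have e1 : Nat.card {θ : Cfsg.IrrCharacter ↥K // ∀ k : ↥K, ((θ : ↥K → ℂ) k).im = 0} =
      Nat.card {θ : Cfsg.IrrCharacter ↥K // (∀ k : ↥K, ((θ : ↥K → ℂ) k).im = 0) ∧
        (∀ x ∈ P, ∀ k k' : ↥K, (k' : G) = x * (k : G) * x⁻¹ →
          (θ : ↥K → ℂ) k' = (θ : ↥K → ℂ) k)} :=
    Nat.card_congr (Equiv.subtypeEquivRight
      (fun θ => ⟨fun h => ⟨h, hall θ h⟩, fun h => h.1⟩))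
  have hcard : Nat.card {c : ConjClasses ↥K // ∀ k : ↥K, ConjClasses.mk k = c → IsConj k k⁻¹} =
      Nat.card {c : ConjClasses ↥K // (∀ k : ↥K, ConjClasses.mk k = c → IsConj k k⁻¹) ∧
        ∀ k : ↥K, ConjClasses.mk k = c → ∀ x ∈ P, ∀ k' : ↥K, (k' : G) = x * (k : G) * x⁻¹ →
          ConjClasses.mk k' = c} := by
    rw [← hcardK, e1, part1]
  have hι : Function.Injective
      (fun c : {c : ConjClasses ↥K // (∀ k : ↥K, ConjClasses.mk k = c → IsConj k k⁻¹) ∧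
        ∀ k : ↥K, ConjClasses.mk k = c → ∀ x ∈ P, ∀ k' : ↥K, (k' : G) = x * (k : G) * x⁻¹ →
          ConjClasses.mk k' = c} =>
        (⟨c.1, c.2.1⟩ : {c : ConjClasses ↥K // ∀ k : ↥K, ConjClasses.mk k = c →
          IsConj k k⁻¹})) :=
    fun a b h => Subtype.ext (congrArg (fun z : {c : ConjClasses ↥K // ∀ k : ↥K,
      ConjClasses.mk k = c → IsConj k k⁻¹} => z.1) h)
  have hbij := hι.bijective_of_nat_card_le (le_of_eq hcard)
  have hrk : ∀ k₁ : ↥K, ConjClasses.mk k₁ = ConjClasses.mk k → IsConj k₁ k₁⁻¹ := fun k₁ h1 =>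
    isConj_real_of_isConj (ConjClasses.mk_eq_mk_iff_isConj.1 h1).symm hk
  obtain ⟨⟨c, hcr, hci⟩, hc⟩ := hbij.2 ⟨ConjClasses.mk k, hrk⟩
  have hcc : c = ConjClasses.mk k := congrArg Subtype.val hc
  subst hcc
  have hx : ∀ s ∈ P, ∃ g ∈ K, s * (k : G) * s⁻¹ = g * (k : G) * g⁻¹ := by
    intro s hs
    have h1 := hci k rfl s hs ⟨s * k * s⁻¹, conj_mem_of_mem_normalizer (hPK hs) k.2⟩ rfl
    rw [ConjClasses.mk_eq_mk_iff_isConj, isConj_iff] at h1
    obtain ⟨h, hh⟩ := h1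
    have e1 : (h : G) * (s * k * s⁻¹) * (h : G)⁻¹ = k := congrArg Subtype.val hh
    refine ⟨(h : G)⁻¹, inv_mem h.2, ?_⟩
    have e3 : (h : G)⁻¹ * (k : G) * (h : G)⁻¹⁻¹ =
        (h : G)⁻¹ * ((h : G) * (s * k * s⁻¹) * (h : G)⁻¹) * (h : G)⁻¹⁻¹ := by rw [e1]
    rw [e3]
    group
  obtain ⟨g, hg, hgS⟩ := (fixed_class_core P K hPK hcop.symm hsolv (k : G) hx).1
  refine ⟨⟨g * (k : G) * g⁻¹, mul_mem (mul_mem hg k.2) (inv_mem hg)⟩,
    isConj_iff.2 ⟨⟨g, hg⟩, Subtype.ext rfl⟩, fun x hx => ?_⟩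
  have := (Subgroup.mem_centralizer_iff.1 hgS) x hx
  show x * (g * (k : G) * g⁻¹) * x⁻¹ = g * (k : G) * g⁻¹
  rw [this, mul_inv_cancel_right]

end Cfsg.Agent.S4911
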