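import Mathlib
import Cfsg.Statements.S4912
import Cfsg.Agent.Lib.Helper25.MinNormal
import Cfsg.Agent.Lib.Helper25.FSInduced
import Cfsg.Agent.Lib.Helper2.FrobeniusSchur

set_option autoImplicit false
set_option linter.style.haveILetI false
open Cfsg

namespace Cfsg.Agent.S4912

open Cfsg.Agent.Lib.Helper25
open scoped ComplexConjugate

/-- An irreducible character with Frobenius–Schur sum `1` is real-valued. -/
theorem real_of_fs_one {H : Type*} [Group H] [Fintype H] (ψ : Cfsg.IrrCharacter H)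
    (h : (Nat.card H : ℂ)⁻¹ * ∑ g : H, (ψ : H → ℂ) (g * g) = 1) (s : H) :
    conj ((ψ : H → ℂ) s) = (ψ : H → ℂ) s := by
  obtain ⟨n, ρ, hirr, hρ⟩ := ψ.2
  haveI := hirr
  have hfs := (Cfsg.Agent.Lib.Helper2.frobenius_schur ρ).2
  rw [hρ] at hfs
  have hne : ¬ ∃ s : H, ((ψ : H → ℂ) s).im ≠ 0 := by
    intro hex
    have := hfs.2 hex
    rw [h] at this
    exact one_ne_zero this
  push Not at hne
  exact Complex.conj_eq_iff_im.2 (hne s)

/-- A linear character with Frobenius–Schur sum `1` has trivial square. -/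
theorem linear_sq_of_fs_one {G : Type*} [Group G] [Fintype G] (lam : Cfsg.IrrCharacter G)
    (h1 : (lam : G → ℂ) 1 = 1)
    (h : (Nat.card G : ℂ)⁻¹ * ∑ g : G, (lam : G → ℂ) (g * g) = 1) (g : G) :
    (lam : G → ℂ) (g * g) = 1 := by
  have hc := isCharacter_of_irr lam.2
  have hirr2 : Cfsg.IsIrrCharacter G ((lam : G → ℂ) * (lam : G → ℂ)) :=
    isIrrCharacter_linear_mul hc h1 lam.2
  have hinner := irr_classInner hirr2 (Cfsg.Agent.Lib.Helper25.isIrrCharacter_one (G := G))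
  have hval : Cfsg.classInner ((lam : G → ℂ) * (lam : G → ℂ)) (fun _ => (1 : ℂ)) = 1 := by
    unfold Cfsg.classInner
    refine Eq.trans ?_ h
    congr 1
    apply Finset.sum_congr rfl
    intro k _
    rw [Pi.mul_apply, map_one, mul_one, linear_char_mul hc h1]
  rw [hval] at hinner
  by_cases heq : (lam : G → ℂ) * (lam : G → ℂ) = fun _ => (1 : ℂ)
  · rw [linear_char_mul hc h1]
    exact congrFun heq g
  · rw [if_neg heq] at hinner
    exact absurd hinner one_ne_zero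

theorem result {G : Type*} [Group G] [Finite G] (N : Subgroup G) (hN : N.Normal) (hN1 : N ≠ ⊥) (hmin : ∀ M : Subgroup G, M.Normal → M ≤ N → M = ⊥ ∨ M = N) (hna : ¬ IsMulCommutative ↥N) (φ : Cfsg.IrrCharacter ↥N) (I : Subgroup G) (hI : ∀ g : G, g ∈ I ↔ ∀ n n' : ↥N, (n' : G) = g * (n : G) * g⁻¹ → (φ : ↥N → ℂ) n' = (φ : ↥N → ℂ) n) (hNI : N ≤ I) (hext : ∃ ψ : Cfsg.IrrCharacter ↥I, (Nat.card ↥I : ℂ)⁻¹ * ∑ᶠ g : ↥I, (ψ : ↥I → ℂ) (g * g) = 1 ∧ ∀ n : ↥N, (ψ : ↥I → ℂ) (Subgroup.inclusion hNI n) = (φ : ↥N → ℂ) n) : Nat.card {χ : Cfsg.IrrCharacter G // Cfsg.charDegree (χ : G → ℂ) = 1 ∧ (Nat.card G : ℂ)⁻¹ * ∑ᶠ g : G, (χ : G → ℂ) (g * g) = 1} ≤ I.index * Nat.card {χ : Cfsg.IrrCharacter G // Cfsg.charDegree (χ : G → ℂ) = Cfsg.charDegree (φ : ↥N → ℂ) * I.index ∧ (Nat.card G : ℂ)⁻¹ * ∑ᶠ g : G, (χ : G → ℂ) (g * g) = 1} := by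
  classical
  haveI := Fintype.ofFinite G
  haveI : Fintype I := Fintype.ofFinite I
  haveI := hN
  obtain ⟨ψ, hψfs, hψ⟩ := hext
  rw [finsum_eq_sum_of_fintype] at hψfs
  have hψreal := real_of_fs_one ψ hψfs
  have hφreal : ∀ n : N, conj ((φ : N → ℂ) n) = (φ : N → ℂ) n := by
    intro n
    rw [← hψ n]
    exact hψreal _
  have hfs0 := fs_induced_eq N I hNI φ hI ψ hψ hφreal
  rw [hψfs] at hfs0
  apply minNormal_count N I hmin hna hNI φ hI ψ hψ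
    (fun χ => (Nat.card G : ℂ)⁻¹ * ∑ᶠ g : G, (χ : G → ℂ) (g * g) = 1)
    (fun χ => (Nat.card G : ℂ)⁻¹ * ∑ᶠ g : G, (χ : G → ℂ) (g * g) = 1)
  intro lam hlamdeg hlamfs χ hχ
  have hlam1 : (lam : G → ℂ) 1 = 1 := by
    rw [char_one_eq_charDegree (isCharacter_of_irr lam.2), hlamdeg, Nat.cast_one]
  have hlamfs' : (Nat.card G : ℂ)⁻¹ * ∑ᶠ g : G, (lam : G → ℂ) (g * g) = 1 := hlamfs
  show (Nat.card G : ℂ)⁻¹ * ∑ᶠ g : G, (χ : G → ℂ) (g * g) = 1
  rw [finsum_eq_sum_of_fintype] at hlamfs' ⊢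
  have hsq := linear_sq_of_fs_one lam hlam1 hlamfs'
  rw [← hfs0]
  congr 1
  apply Finset.sum_congr rfl
  intro g _
  rw [hχ, Pi.mul_apply, hsq g, one_mul]
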