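import Cfsg.Statements.S4914
import Cfsg.Agent.Lib.Helper2.RelGlauberman

set_option autoImplicit false
open Cfsg

namespace Cfsg.Agent.S4914

/-- Let P and K be subgroups of a finite group G with P a p-group normalizing K, and suppose K has a normal Sylow p-subgroup Q. Let C be the subgroup of those k ∈ K whose commutator with every element of P lies in Q (so that C/Q is the fixed-point subgroup of P on K/Q). Then there is a bijection f from the P-invariant irreducible complex characters of K onto the P-invariant irreducible complex characters of C such that, for every P-invariant irreducible character χ of K, the multiplicity of f(χ) in the restriction of χ to C is a natural number congruent to 1 or to −1 modulo p, every other P-invariant irreducible character of C occurs in that restriction with multiplicity divisible by p, and the degrees of χ and f(χ) are congruent modulo p up to sign. -/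
theorem result {G : Type*} [Group G] [Finite G] (p : ℕ) [Fact p.Prime] (P K Q C : Subgroup G) (hP : IsPGroup p ↥P) (hPK : P ≤ Subgroup.normalizer (K : Set G)) (hQK : Q ≤ K) (hQn : ∀ k ∈ K, ∀ q ∈ Q, k * q * k⁻¹ ∈ Q) (hQp : ∃ a : ℕ, Nat.card ↥Q = p ^ a) (hQsyl : ¬ p ∣ Q.relIndex K) (hCK : C ≤ K) (hC : ∀ k : G, k ∈ C ↔ (k ∈ K ∧ ∀ x ∈ P, x * k * x⁻¹ * k⁻¹ ∈ Q)) : ∃ f : {χ : Cfsg.IrrCharacter ↥K // (∀ x ∈ P, ∀ k k' : ↥K, (k' : G) = x * (k : G) * x⁻¹ → (χ : ↥K → ℂ) k' = (χ : ↥K → ℂ) k)} → {ξ : Cfsg.IrrCharacter ↥C // (∀ x ∈ P, ∀ k k' : ↥C, (k' : G) = x * (k : G) * x⁻¹ → (ξ : ↥C → ℂ) k' = (ξ : ↥C → ℂ) k)}, Function.Bijective f ∧ ∀ χ, (∀ ξ : {ξ : Cfsg.IrrCharacter ↥C // (∀ x ∈ P, ∀ k k' : ↥C, (k' : G) = x * (k : G) * x⁻¹ → (ξ : ↥C → ℂ) k' = (ξ : ↥C → ℂ) k)}, ∃ m : ℕ, (Nat.card ↥C : ℂ)⁻¹ * ∑ᶠ c : ↥C, (χ.1 : ↥K → ℂ) (Subgroup.inclusion hCK c) * (starRingEnd ℂ) ((ξ.1 : ↥C → ℂ) c) = (m : ℂ) ∧ (ξ = f χ → ((m : ZMod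 p) = 1 ∨ (m : ZMod p) = -1)) ∧ (ξ ≠ f χ → p ∣ m)) ∧ ((Cfsg.charDegree ((f χ).1 : ↥C → ℂ) : ZMod p) = (Cfsg.charDegree (χ.1 : ↥K → ℂ) : ZMod p) ∨ (Cfsg.charDegree ((f χ).1 : ↥C → ℂ) : ZMod p) = -(Cfsg.charDegree (χ.1 : ↥K → ℂ) : ZMod p)) := by
  classical
  open Cfsg.Agent.Lib.Helper2 Cfsg.Agent.Lib.Helper2.GlPG Cfsg.Agent.Lib.Helper2.Rel
    Cfsg.Agent.Lib.Helper2.RelGl in
  haveI : Fintype G := Fintype.ofFinite G
  have hp : p.Prime := Fact.out
  obtain ⟨a, ha⟩ := hQp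
  have hQpg : IsPGroup p ↥Q := IsPGroup.of_card ha
  have hKQ : K ≤ Subgroup.normalizer (Q : Set G) := le_normalizer_of_conj hQn
  haveI hQn' : (Q.subgroupOf K).Normal :=
    (Subgroup.normal_subgroupOf_iff_le_normalizer hQK).2 hKQ
  have hpel : ∀ y ∈ K, y ^ (p ^ a) = 1 → y ∈ Q := by
    intro y hy hy1
    have h1 : (⟨y, hy⟩ : K) ^ (Q.subgroupOf K).index ∈ Q.subgroupOf K :=
      Subgroup.pow_index_mem _ _
    have h2 : y ^ (Q.relIndex K) ∈ Q := by
      have h3 := Subgroup.mem_subgroupOf.1 h1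
      rwa [Subgroup.coe_pow] at h3
    have hord : orderOf y ∣ p ^ a := orderOf_dvd_of_pow_eq_one hy1
    have hcop : Nat.Coprime (Q.relIndex K) (orderOf y) := by
      apply Nat.Coprime.coprime_dvd_right hord
      exact Nat.Coprime.pow_right a ((Nat.Prime.coprime_iff_not_dvd hp).2 hQsyl).symm
    obtain ⟨m, hm⟩ := exists_pow_eq_self_of_coprime hcop
    rw [← hm]
    exact pow_mem h2 m
  have hPQ : P ≤ Subgroup.normalizer (Q : Set G) := by
    apply le_normalizer_of_conj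
    intro x hx q hq
    apply hpel _ (conj_mem_of_mem_normalizer (hPK hx) (hQK hq))
    rw [conj_pow]
    have hq1 : q ^ (p ^ a) = 1 := by
      have h3 := pow_card_eq_one' (G := ↥Q) (x := (⟨q, hq⟩ : Q))
      rw [ha] at h3
      have h4 := congrArg Subtype.val h3
      rwa [Subgroup.coe_pow] at h4
    rw [hq1, mul_one, mul_inv_cancel]
  have Gd : GData p P K Q C := ⟨hp, hP, hPK, hQK, hKQ, hPQ, hQpg, hQsyl, hC⟩
  obtain ⟨f, hbij, hf⟩ := Gd.main
  refine ⟨f, hbij, ?_⟩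
  intro χ
  obtain ⟨h1, h2⟩ := hf χ
  refine ⟨?_, h2⟩
  intro ξ
  obtain ⟨m, hm, hm1, hm0⟩ := h1 ξ
  refine ⟨m, ?_, hm1, hm0⟩
  rw [← hm]
  haveI : Fintype ↥C := Fintype.ofFinite _
  rw [cinn_eq, classInner_def, finsum_eq_sum_of_fintype]
  rfl

end Cfsg.Agent.S4914
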