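import Cfsg.Statements.S4916
import Cfsg.Agent.Lib.Helper24.BlockOrtho
import Cfsg.Agent.Lib.Helper7.DefectClass
import Cfsg.Agent.Lib.Helper25.Linear
import Cfsg.Agent.S4740

set_option autoImplicit false
open Cfsg

namespace Cfsg.Agent.S4916

open Cfsg.Agent.Lib.Helper24 Cfsg.Agent.Lib.Helper25 Cfsg.Agent.Lib.Helper7
open scoped ComplexConjugate

/-- Let G be a finite group, p a prime and M a maximal ideal of the algebraic integers containing p. Then the principal character is the only irreducible character of degree prime to p in the principal p-block of G if and only if p does not divide the order of G. -/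
theorem result {G : Type*} [Group G] [Finite G] (p : ℕ) [Fact p.Prime] (M : Ideal Cfsg.AlgInt) (hM : Cfsg.IsPModular p M) : (∀ χ : Cfsg.IrrCharacter G, χ ∈ Cfsg.principalBlock M G → ¬ p ∣ Cfsg.charDegree (χ : G → ℂ) → (χ : G → ℂ) = fun _ => (1 : ℂ)) ↔ ¬ p ∣ Nat.card G := by
  classical
  have : Fintype G := Fintype.ofFinite G
  have : Fintype (Cfsg.IrrCharacter G) := Fintype.ofFinite _
  have hp : p.Prime := Fact.out
  have hone : ((irrOne G : Cfsg.IrrCharacter G) : G → ℂ) = fun _ => (1 : ℂ) := rfl
  constructor
  · intro H hpG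
    obtain ⟨y, hy⟩ := exists_prime_orderOf_dvd_card' p hpG
    have hB : Cfsg.IsPBlock M (Cfsg.principalBlock M G) := ⟨irrOne G, rfl⟩
    have h0 := weak_block_orthogonality hM (Cfsg.principalBlock M G) hB 1 y
      (by rw [orderOf_one]; exact hp.one_lt.ne' ∘ Nat.dvd_one.1) (by rw [hy])
    rw [finsum_mem_eq_sum_ite] at h0
    -- split off the principal character
    have hmem1 : irrOne G ∈ Cfsg.principalBlock M G := by
      change Cfsg.SameBlock M (fun _ => (1 : ℂ)) ((irrOne G : Cfsg.IrrCharacter G) : G → ℂ)
      rw [hone]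
      exact sameBlock_refl hM _
    rw [← Finset.add_sum_erase Finset.univ _ (Finset.mem_univ (irrOne G)), if_pos hmem1] at h0
    have h1 : ((irrOne G : Cfsg.IrrCharacter G) : G → ℂ) 1 *
        conj (((irrOne G : Cfsg.IrrCharacter G) : G → ℂ) y) = 1 := by
      rw [hone]; simp
    rw [h1] at h0
    -- the remaining sum lies in the local ideal
    have h2 : Cfsg.MemLocalIdeal M (∑ χ ∈ Finset.univ.erase (irrOne G),
        if χ ∈ Cfsg.principalBlock M G then (χ : G → ℂ) 1 * conj ((χ : G → ℂ) y) else 0) := by
      apply memLocalIdeal_sum hM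
      intro χ hχ
      by_cases hχB : χ ∈ Cfsg.principalBlock M G
      · rw [if_pos hχB]
        have hdvd : p ∣ Cfsg.charDegree (χ : G → ℂ) := by
          by_contra hnd
          have := H χ hχB hnd
          have hχ1 : χ = irrOne G := Subtype.ext this
          exact (Finset.mem_erase.1 hχ).1 hχ1
        have hdeg : (χ : G → ℂ) 1 = (Cfsg.charDegree (χ : G → ℂ) : ℂ) :=
          char_one_eq_charDegree (isCharacter_of_irr χ.2)
        rw [hdeg]
        apply memLocalIdeal_mul_right hM
        · exact (memLocalIdeal_natCast_iff hM _).2 hdvd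
        · apply memLocalRing_of_isIntegral hM
          have := Cfsg.Agent.S4740.irr_value_isIntegral χ y⁻¹
          rw [char_inv (isCharacter_of_irr χ.2)] at this
          exact this
      · rw [if_neg hχB]
        have := (memLocalIdeal_natCast_iff hM 0).2 (dvd_zero p)
        simpa using this
    apply not_memLocalIdeal_one hM
    have h3 : (1 : ℂ) = -(∑ χ ∈ Finset.univ.erase (irrOne G),
        if χ ∈ Cfsg.principalBlock M G then (χ : G → ℂ) 1 * conj ((χ : G → ℂ) y) else 0) := by
      rw [eq_neg_iff_add_eq_zero]; exact h0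
    rw [h3]
    exact memLocalIdeal_neg h2
  · intro hpG χ hχ _
    have hA : ∀ g : G, Cfsg.MemLocalRing M (Cfsg.blockCoeff ({irrOne G} : Set (Cfsg.IrrCharacter G)) g) := by
      intro g
      unfold Cfsg.blockCoeff
      rw [finsum_mem_singleton, hone]
      simp only [map_one, mul_one]
      exact memLocalRing_natCast_inv hM hpG
    have hsub := blockOf_subset_of_memLocalRing hM ({irrOne G} : Set (Cfsg.IrrCharacter G)) hA
      (irrOne G) rfl
    have hχ' : χ ∈ Cfsg.blockOf M ((irrOne G : Cfsg.IrrCharacter G) : G → ℂ) := hχ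
    have := hsub hχ'
    rw [Set.mem_singleton_iff] at this
    rw [this, hone]

end Cfsg.Agent.S4916
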