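import Mathlib
import Cfsg.Statements.S4937
import Cfsg.Agent.Lib.Helper25.AlperinDade3

set_option autoImplicit false
open Cfsg

namespace Cfsg.Agent.S4937

open Cfsg.Agent.Lib.Helper25.AlperinDade Cfsg.Agent.Lib.Helper24

/-- Let G be a finite group, p a prime, M a maximal ideal of the algebraic integers containing p, N a normal subgroup of G and P a Sylow p-subgroup of N such that G = N·C_G(P). Let θ be an irreducible character in the principal p-block of N that is the restriction of some irreducible character of G. Then θ is the restriction of an irreducible character χ of G lying in the principal p-block of G such that, for every subgroup J of G containing N, the restriction of χ to J is an irreducible character of J lying in the principal p-block of J. -/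
theorem result {G : Type*} [Group G] [Finite G] (p : ℕ) [Fact p.Prime] (M : Ideal Cfsg.AlgInt) (hM : Cfsg.IsPModular p M) (N : Subgroup G) [N.Normal] (P : Sylow p ↥N)
    (hcov : N ⊔ Subgroup.centralizer (((P : Subgroup ↥N).map N.subtype : Subgroup G) : Set G) = ⊤)
    (θ : Cfsg.IrrCharacter ↥N) (hθ : θ ∈ Cfsg.principalBlock M ↥N)
    (hext : ∃ ψ : Cfsg.IrrCharacter G, ∀ x : ↥N, (ψ : G → ℂ) x = (θ : ↥N → ℂ) x) :
    ∃ χ : Cfsg.IrrCharacter G, χ ∈ Cfsg.principalBlock M G ∧ (∀ x : ↥N, (χ : G → ℂ) x = (θ : ↥N → ℂ) x) ∧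
      ∀ J : Subgroup G, N ≤ J → ∃ ξ : Cfsg.IrrCharacter ↥J, ξ ∈ Cfsg.principalBlock M ↥J ∧ ∀ y : ↥J, (ξ : ↥J → ℂ) y = (χ : G → ℂ) y := by
  classical
  have hp : p.Prime := Fact.out
  set S : Subgroup G := (P : Subgroup ↥N).map N.subtype with hS
  have hSN : S ≤ N := by
    rw [hS]
    exact Subgroup.map_subtype_le _
  have hidx : ¬ p ∣ S.relIndex N := by
    have h1 : S.subgroupOf N = (P : Subgroup ↥N) := by
      rw [hS]
      ext x
      rw [Subgroup.mem_subgroupOf, Subgroup.mem_map]
      constructor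
      · rintro ⟨y, hy, hxy⟩
        have : y = x := Subtype.ext hxy
        rwa [← this]
      · intro hx
        exact ⟨x, hx, rfl⟩
    show ¬ p ∣ (S.subgroupOf N).index
    rw [h1]
    exact P.not_dvd_index
  have hfac : ∀ x : G, ∃ y ∈ N, ∃ c ∈ Subgroup.centralizer (S : Set G), x = y * c := by
    intro x
    have hx : x ∈ ((N ⊔ Subgroup.centralizer (S : Set G) : Subgroup G) : Set G) := by
      rw [hcov]; trivial
    rw [Subgroup.normal_mul] at hx
    obtain ⟨y, hy, c, hc, hyc⟩ := Set.mem_mul.mp hx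
    exact ⟨y, hy, c, hc, hyc.symm⟩
  have D : ADHypRel p M N S := ⟨hM, hSN, hidx, hfac⟩
  obtain ⟨ψ, hψ⟩ := hext
  obtain ⟨χ, hχN, hχJ⟩ := exists_extension_principal D θ hθ ψ hψ
  refine ⟨χ, ?_, hχN, hχJ⟩
  obtain ⟨ξ, hξB, hξ⟩ := hχJ ⊤ le_top
  have h1 := principalBlock_irrMap (Subgroup.topEquiv (G := G)) ξ hξB
  have h2 : irrMap (Subgroup.topEquiv (G := G)) ξ = χ := by
    apply Subtype.ext
    funext g
    rw [irrMap_apply]
    exact hξ _
  rwa [h2] at h1

end Cfsg.Agent.S4937
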