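import Mathlib
import Cfsg.Statements.S4956

set_option autoImplicit false
set_option linter.unusedSectionVars false
open Cfsg

namespace Cfsg.Agent.S4956

section Abstract

variable {W : Type*} [Group W] [Finite W]

omit [Finite W] in
/-- For an endomorphism `α` of a finite abelian group of order prime to its period: a fixed point
which is a commutator `α w * w⁻¹` is trivial. -/
theorem fixed_comm_eq_one (α : MulAut W) (n : ℕ)
    (hn : α ^ n = 1) (hcop : n.Coprime (Nat.card W)) (u w : W) (hu : α u = u)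
    (hw : α w = u * w) : u = 1 := by
  have hiter : ∀ m : ℕ, (α ^ m) w = u ^ m * w := by
    intro m
    induction m with
    | zero => simp
    | succ m ih =>
      rw [pow_succ', MulAut.mul_apply, ih, map_mul, map_pow, hu, hw, pow_succ, mul_assoc]
  have h1 := hiter n
  rw [hn, MulAut.one_apply] at h1
  have h2 : u ^ n = 1 := by
    have : u ^ n * w = 1 * w := by rw [one_mul]; exact h1.symm
    exact mul_right_cancel this
  have h3 : orderOf u ∣ n := orderOf_dvd_of_pow_eq_one h2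
  have h4 : orderOf u ∣ Nat.card W := orderOf_dvd_natCard u
  have h5 : orderOf u = 1 := Nat.eq_one_of_dvd_coprimes hcop h3 h4
  exact orderOf_eq_one_iff.1 h5

/-- Coprime decomposition: every element is a fixed point times a commutator. -/
theorem exists_fixed_mul_comm (hcomm : ∀ a b : W, a * b = b * a) (α : MulAut W) (n : ℕ)
    (hn : α ^ n = 1) (hcop : n.Coprime (Nat.card W)) (v : W) :
    ∃ c u : W, α c = c ∧ v = c * (α u * u⁻¹) := by
  -- the commutator map is a homomorphism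
  let δ : W →* W :=
    { toFun := fun w => α w * w⁻¹
      map_one' := by simp
      map_mul' := fun a b => by
        rw [map_mul, mul_inv_rev]
        calc α a * α b * (b⁻¹ * a⁻¹) = α a * (α b * b⁻¹) * a⁻¹ := by group
          _ = α a * (a⁻¹ * (α b * b⁻¹)) := by rw [mul_assoc, hcomm (α b * b⁻¹) a⁻¹]
          _ = α a * a⁻¹ * (α b * b⁻¹) := by group }
  have hδ : ∀ w, δ w = α w * w⁻¹ := fun w => rfl
  have hcard : Nat.card δ.ker * Nat.card δ.range = Nat.card W := by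
    rw [Subgroup.card_eq_card_quotient_mul_card_subgroup δ.ker,
      Nat.card_congr (QuotientGroup.quotientKerEquivRange δ).toEquiv, mul_comm]
  have hdisj : Disjoint δ.ker δ.range := by
    rw [Subgroup.disjoint_def]
    intro x hx1 hx2
    rw [MonoidHom.mem_ker, hδ] at hx1
    obtain ⟨w, hw⟩ := MonoidHom.mem_range.1 hx2
    rw [hδ] at hw
    have hfix : α x = x := by
      have := mul_inv_eq_one.1 hx1
      exact this
    apply fixed_comm_eq_one α n hn hcop x w hfix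
    rw [← hw]; group
  have hcompl := Subgroup.isComplement'_of_card_mul_and_disjoint hcard hdisj
  obtain ⟨⟨⟨c, hc⟩, ⟨d, hd⟩⟩, hcd⟩ := hcompl.2 v
  obtain ⟨u, hu⟩ := MonoidHom.mem_range.1 hd
  refine ⟨c, u, ?_, ?_⟩
  · have hc' : c ∈ δ.ker := hc
    rw [MonoidHom.mem_ker, hδ] at hc'
    exact mul_inv_eq_one.1 hc'
  · rw [← hδ, hu]
    exact hcd.symm

end Abstract

section Concrete

variable {X : Type*} [Group X] [Finite X] (V : Subgroup X) [V.Normal] (G : Subgroup X)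

omit [Finite X] in
/-- Uniqueness of the decomposition `X = V G`. -/
theorem decomp_unique (hGV : Subgroup.IsComplement' V G) {v v' g g' : X} (hv : v ∈ V)
    (hv' : v' ∈ V) (hg : g ∈ G) (hg' : g' ∈ G) (h : v * g = v' * g') : v = v' ∧ g = g' := by
  have hdisj := hGV.disjoint
  rw [Subgroup.disjoint_def] at hdisj
  have h1 : v'⁻¹ * v = g' * g⁻¹ := by
    calc v'⁻¹ * v = v'⁻¹ * (v * g) * g⁻¹ := by group
      _ = v'⁻¹ * (v' * g') * g⁻¹ := by rw [h]
      _ = g' * g⁻¹ := by group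
  have h2 : v'⁻¹ * v = 1 := by
    apply hdisj (V.mul_mem (V.inv_mem hv') hv)
    rw [h1]
    exact G.mul_mem hg' (G.inv_mem hg)
  have h3 : v = v' := (inv_mul_eq_one.1 h2).symm
  refine ⟨h3, ?_⟩
  rw [h3] at h
  exact mul_left_cancel h

omit [Finite X] in
theorem exists_decomp (hGV : Subgroup.IsComplement' V G) (x : X) :
    ∃ v ∈ V, ∃ g ∈ G, x = v * g := by
  obtain ⟨⟨⟨v, hv⟩, ⟨g, hg⟩⟩, h⟩ := hGV.2 x
  exact ⟨v, hv, g, hg, h.symm⟩

/-- Conjugation by an element of `G` has order dividing `|G|` on `V`. -/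
theorem conjNormal_pow_card (g : X) (hg : g ∈ G) :
    (MulAut.conjNormal g : MulAut V) ^ (Nat.card G) = 1 := by
  rw [← map_pow]
  have h1 : g ^ Nat.card G = 1 := by
    have h2 : (⟨g, hg⟩ : G) ^ Nat.card G = 1 := pow_card_eq_one'
    exact congrArg Subtype.val h2
  rw [h1, map_one]

variable (hab : ∀ a ∈ V, ∀ b ∈ V, a * b = b * a) (hcop : (Nat.card V).Coprime (Nat.card G))

include hcop in
/-- A fixed point of `g ∈ G` on `V` which is a commutator with `g` is trivial. -/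
theorem fixed_comm_eq_one_X (g : X) (hg : g ∈ G) (u w : X) (hu : u ∈ V) (hw : w ∈ V)
    (hfix : g * u * g⁻¹ = u) (hcomm : g * w * g⁻¹ = u * w) : u = 1 := by
  have h := fixed_comm_eq_one (MulAut.conjNormal g : MulAut V) (Nat.card G)
    (conjNormal_pow_card V G g hg) hcop.symm ⟨u, hu⟩ ⟨w, hw⟩
    (by apply Subtype.ext; rw [MulAut.conjNormal_apply]; exact hfix)
    (by apply Subtype.ext; rw [MulAut.conjNormal_apply]; exact hcomm)
  exact congrArg Subtype.val h

include hab hcop in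
/-- Coprime decomposition in `X`. -/
theorem exists_fixed_mul_comm_X (g : X) (hg : g ∈ G) (v : X) (hv : v ∈ V) :
    ∃ c ∈ V, ∃ u ∈ V, g * c * g⁻¹ = c ∧ v = c * (g * u * g⁻¹ * u⁻¹) := by
  obtain ⟨c, u, hc, hcu⟩ := exists_fixed_mul_comm
    (fun a b : V => Subtype.ext (hab a a.2 b b.2)) (MulAut.conjNormal g : MulAut V) (Nat.card G)
    (conjNormal_pow_card V G g hg) hcop.symm ⟨v, hv⟩
  refine ⟨c, c.2, u, u.2, ?_, ?_⟩
  · have := congrArg Subtype.val hc
    rw [MulAut.conjNormal_apply] at this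
    exact this
  · have := congrArg Subtype.val hcu
    simp only [Subgroup.coe_mul, MulAut.conjNormal_apply, Subgroup.coe_inv] at this
    exact this

include hab hcop in
/-- **Claim A**: every element of `X` is conjugate to a product `v * c` of commuting elements
`v ∈ V`, `c ∈ G`. -/
theorem exists_conj_commuting (hGV : Subgroup.IsComplement' V G) (x : X) :
    ∃ v ∈ V, ∃ c ∈ G, v * c = c * v ∧ IsConj x (v * c) := by
  obtain ⟨v₀, hv₀, g, hg, rfl⟩ := exists_decomp V G hGV x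
  obtain ⟨c, hc, u, hu, hfix, hdec⟩ := exists_fixed_mul_comm_X V G hab hcop g hg v₀ hv₀
  refine ⟨c, hc, g, hg, ?_, ?_⟩
  · calc c * g = (g * c * g⁻¹) * g := by rw [hfix]
      _ = g * c := by group
  · rw [isConj_iff]
    refine ⟨u, ?_⟩
    -- `u (v₀ g) u⁻¹ = v₀ (u (g u⁻¹ g⁻¹)) g`
    have h1 : u * (v₀ * g) * u⁻¹ = (u * v₀) * (g * u⁻¹ * g⁻¹) * g := by group
    have hgu : g * u⁻¹ * g⁻¹ ∈ V := ‹V.Normal›.conj_mem _ (V.inv_mem hu) g
    have hgu' : g * u * g⁻¹ ∈ V := ‹V.Normal›.conj_mem _ hu g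
    have h2 : u * v₀ = v₀ * u := hab u hu v₀ hv₀
    rw [h1, h2, hdec]
    have h3 : c * (g * u * g⁻¹ * u⁻¹) * u * (g * u⁻¹ * g⁻¹) = c := by
      have : g * u * g⁻¹ * u⁻¹ * u * (g * u⁻¹ * g⁻¹) = 1 := by group
      calc c * (g * u * g⁻¹ * u⁻¹) * u * (g * u⁻¹ * g⁻¹)
          = c * (g * u * g⁻¹ * u⁻¹ * u * (g * u⁻¹ * g⁻¹)) := by group
        _ = c := by rw [this, mul_one]
    rw [h3]

include hab hcop in
/-- **Claim B**: commuting products `s c`, `s' c'` which are conjugate in `X` are conjugate under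
`G`. -/
theorem conj_commuting (hGV : Subgroup.IsComplement' V G) (s c s' c' : X) (hs : s ∈ V)
    (hc : c ∈ G) (hs' : s' ∈ V) (hc' : c' ∈ G) (hsc : s * c = c * s) (hsc' : s' * c' = c' * s')
    (hconj : IsConj (s * c) (s' * c')) : ∃ k ∈ G, k * s * k⁻¹ = s' ∧ k * c * k⁻¹ = c' := by
  obtain ⟨y, hy⟩ := isConj_iff.1 hconj
  obtain ⟨u, hu, k, hk, rfl⟩ := exists_decomp V G hGV y
  refine ⟨k, hk, ?_, ?_⟩
  all_goals
    have hs₁ : k * s * k⁻¹ ∈ V := ‹V.Normal›.conj_mem _ hs k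
    have hc₁ : k * c * k⁻¹ ∈ G := G.mul_mem (G.mul_mem hk hc) (G.inv_mem hk)
    have hcu : (k * c * k⁻¹) * u⁻¹ * (k * c * k⁻¹)⁻¹ ∈ V :=
      ‹V.Normal›.conj_mem _ (V.inv_mem hu) _
    have h1 : u * k * (s * c) * (u * k)⁻¹ =
        (u * (k * s * k⁻¹) * ((k * c * k⁻¹) * u⁻¹ * (k * c * k⁻¹)⁻¹)) * (k * c * k⁻¹) := by
      group
    rw [h1] at hy
    obtain ⟨hV, hG⟩ := decomp_unique V G hGV
      (V.mul_mem (V.mul_mem hu hs₁) hcu) hs' hc₁ hc' hy
  · -- `z = s' s₁⁻¹` is fixed by `c₁` and is a commutator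
    have hcomm₁ : (k * c * k⁻¹) * (k * s * k⁻¹) * (k * c * k⁻¹)⁻¹ = k * s * k⁻¹ := by
      have : c * s * c⁻¹ = s := by rw [← hsc]; group
      calc (k * c * k⁻¹) * (k * s * k⁻¹) * (k * c * k⁻¹)⁻¹ = k * (c * s * c⁻¹) * k⁻¹ := by group
        _ = k * s * k⁻¹ := by rw [this]
    have hcomm' : c' * s' * c'⁻¹ = s' := by rw [← hsc']; group
    set s₁ := k * s * k⁻¹ with hs₁def
    set c₁ := k * c * k⁻¹ with hc₁def
    have hz : s' * s₁⁻¹ = 1 := by
      apply fixed_comm_eq_one_X V G hcop c₁ hc₁ (s' * s₁⁻¹) u⁻¹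
        (V.mul_mem hs' (V.inv_mem hs₁)) (V.inv_mem hu)
      · rw [hG] at hcomm₁ ⊢
        calc c' * (s' * s₁⁻¹) * c'⁻¹ = (c' * s' * c'⁻¹) * (c' * s₁ * c'⁻¹)⁻¹ := by group
          _ = s' * s₁⁻¹ := by rw [hcomm', hcomm₁]
      · -- `c₁ u⁻¹ c₁⁻¹ = (s' s₁⁻¹) u⁻¹`
        rw [← hV]
        have h2 : s₁ * (c₁ * u⁻¹ * c₁⁻¹) = (c₁ * u⁻¹ * c₁⁻¹) * s₁ := hab s₁ hs₁ _ hcu
        have h3 : u * (c₁ * u⁻¹ * c₁⁻¹) = (c₁ * u⁻¹ * c₁⁻¹) * u := hab u hu _ hcu
        symm
        calc u * s₁ * (c₁ * u⁻¹ * c₁⁻¹) * s₁⁻¹ * u⁻¹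
            = u * (s₁ * (c₁ * u⁻¹ * c₁⁻¹)) * s₁⁻¹ * u⁻¹ := by group
          _ = u * ((c₁ * u⁻¹ * c₁⁻¹) * s₁) * s₁⁻¹ * u⁻¹ := by rw [h2]
          _ = (u * (c₁ * u⁻¹ * c₁⁻¹)) * u⁻¹ := by group
          _ = ((c₁ * u⁻¹ * c₁⁻¹) * u) * u⁻¹ := by rw [h3]
          _ = c₁ * u⁻¹ * c₁⁻¹ := by group
    have := mul_inv_eq_one.1 hz
    exact this.symm
  · exact hG

end Concrete

/-- Let X be a finite group, V an abelian normal subgroup of X (any two elements of V commute) and G a complement to V in X whose order is coprime to that of V. Let S be a set of representatives of the orbits of G on V under conjugation: S lies in V and every element of V is conjugate under G to exactly one member of S. Then the number of conjugacy classes of X equals the sum, over s in S, of the number of conjugacy classes of the centralizer of s in G. -/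
theorem result {X : Type*} [Group X] [Finite X] (V : Subgroup X) [V.Normal] (hab : ∀ a ∈ V, ∀ b ∈ V, a * b = b * a) (G : Subgroup X) (hGV : Subgroup.IsComplement' V G) (hcop : (Nat.card V).Coprime (Nat.card G)) (S : Finset X) (hSV : ∀ s ∈ S, s ∈ V) (hrep : ∀ v ∈ V, ∃! s, s ∈ S ∧ ∃ g ∈ G, g * v * g⁻¹ = s) : Nat.card (ConjClasses X) = ∑ s ∈ S, Nat.card (ConjClasses ↥(G ⊓ Subgroup.centralizer ({s} : Set X))) := by
  classical
  have hYcard : Nat.card (Σ s : ↥S, ConjClasses ↥(G ⊓ Subgroup.centralizer ({(s : X)} : Set X))) =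
      ∑ s ∈ S, Nat.card (ConjClasses ↥(G ⊓ Subgroup.centralizer ({s} : Set X))) := by
    rw [Nat.card_sigma]
    exact Finset.sum_coe_sort S
      (fun s => Nat.card (ConjClasses ↥(G ⊓ Subgroup.centralizer ({s} : Set X))))
  rw [← hYcard]
  symm
  -- membership facts
  have hmemC : ∀ (s k : X), k ∈ G ⊓ Subgroup.centralizer ({s} : Set X) →
      k ∈ G ∧ s * k = k * s := by
    intro s k hk
    obtain ⟨hk1, hk2⟩ := Subgroup.mem_inf.1 hk
    refine ⟨hk1, ?_⟩
    have := Subgroup.mem_centralizer_iff.1 hk2 s (Set.mem_singleton s)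
    exact this
  -- the map
  let Φ : (Σ s : ↥S, ConjClasses ↥(G ⊓ Subgroup.centralizer ({(s : X)} : Set X))) →
      ConjClasses X := fun y =>
    Quotient.liftOn y.2 (fun c => ConjClasses.mk ((y.1 : X) * (c : X))) (by
      intro a b hab'
      obtain ⟨k, hk⟩ := isConj_iff.1 hab'
      apply ConjClasses.mk_eq_mk_iff_isConj.2
      rw [isConj_iff]
      refine ⟨(k : X), ?_⟩
      obtain ⟨_, hks⟩ := hmemC _ _ k.2
      have hk' : (k : X) * (a : X) * (k : X)⁻¹ = (b : X) := by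
        have := congrArg Subtype.val hk
        simpa using this
      calc (k : X) * ((y.1 : X) * (a : X)) * (k : X)⁻¹
          = ((k : X) * (y.1 : X)) * (a : X) * (k : X)⁻¹ := by group
        _ = ((y.1 : X) * (k : X)) * (a : X) * (k : X)⁻¹ := by rw [hks]
        _ = (y.1 : X) * ((k : X) * (a : X) * (k : X)⁻¹) := by group
        _ = (y.1 : X) * (b : X) := by rw [hk'])
  have hΦ : ∀ (s : ↥S) (c : ↥(G ⊓ Subgroup.centralizer ({(s : X)} : Set X))),
      Φ ⟨s, ConjClasses.mk c⟩ = ConjClasses.mk ((s : X) * (c : X)) := fun s c => rfl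
  apply Nat.card_congr (Equiv.ofBijective Φ ⟨?_, ?_⟩)
  · -- injectivity
    rintro ⟨s, C⟩ ⟨s', C'⟩ h
    obtain ⟨c, rfl⟩ := ConjClasses.mk_surjective C
    obtain ⟨c', rfl⟩ := ConjClasses.mk_surjective C'
    rw [hΦ, hΦ] at h
    have hconj := ConjClasses.mk_eq_mk_iff_isConj.1 h
    obtain ⟨hcG, hsc⟩ := hmemC _ _ c.2
    obtain ⟨hcG', hsc'⟩ := hmemC _ _ c'.2
    obtain ⟨k, hk, hks, hkc⟩ := conj_commuting V G hab hcop hGV (s : X) (c : X) (s' : X) (c' : X)
      (hSV _ s.2) hcG (hSV _ s'.2) hcG' hsc hsc' hconj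
    -- `s = s'`
    obtain ⟨s₀, _, huniq⟩ := hrep (s : X) (hSV _ s.2)
    have h1 : (s : X) = s₀ := huniq _ ⟨s.2, 1, G.one_mem, by simp⟩
    have h2 : (s' : X) = s₀ := huniq _ ⟨s'.2, k, hk, hks⟩
    have hss : s = s' := Subtype.ext (h1.trans h2.symm)
    subst hss
    congr 1
    apply ConjClasses.mk_eq_mk_iff_isConj.2
    rw [isConj_iff]
    have hkmem : k ∈ G ⊓ Subgroup.centralizer ({(s : X)} : Set X) := by
      refine Subgroup.mem_inf.2 ⟨hk, ?_⟩
      rw [Subgroup.mem_centralizer_iff]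
      intro z hz
      rw [Set.mem_singleton_iff] at hz
      rw [hz]
      calc (s : X) * k = (k * (s : X) * k⁻¹) * k := by rw [hks]
        _ = k * (s : X) := by group
    refine ⟨⟨k, hkmem⟩, ?_⟩
    apply Subtype.ext
    simpa using hkc
  · -- surjectivity
    intro K
    obtain ⟨x, rfl⟩ := ConjClasses.mk_surjective K
    obtain ⟨v, hv, c, hc, hvc, hconj⟩ := exists_conj_commuting V G hab hcop hGV x
    obtain ⟨s, ⟨hsS, g, hg, hgv⟩, _⟩ := hrep v hv
    have hc₁ : g * c * g⁻¹ ∈ G ⊓ Subgroup.centralizer ({s} : Set X) := by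
      refine Subgroup.mem_inf.2 ⟨G.mul_mem (G.mul_mem hg hc) (G.inv_mem hg), ?_⟩
      rw [Subgroup.mem_centralizer_iff]
      intro z hz
      rw [Set.mem_singleton_iff] at hz
      rw [hz, ← hgv]
      calc g * v * g⁻¹ * (g * c * g⁻¹) = g * (v * c) * g⁻¹ := by group
        _ = g * (c * v) * g⁻¹ := by rw [hvc]
        _ = g * c * g⁻¹ * (g * v * g⁻¹) := by group
    refine ⟨⟨⟨s, hsS⟩, ConjClasses.mk ⟨g * c * g⁻¹, hc₁⟩⟩, ?_⟩
    rw [hΦ]
    apply ConjClasses.mk_eq_mk_iff_isConj.2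
    refine IsConj.trans ?_ hconj.symm
    rw [isConj_iff]
    refine ⟨g⁻¹, ?_⟩
    simp only
    rw [← hgv]
    group

end Cfsg.Agent.S4956
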