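import Cfsg.Statements.S4958
import Cfsg.Agent.Lib.Helper24.KGVMain

set_option autoImplicit false
open Cfsg

namespace Cfsg.Agent.S4958

/-- Let X be a finite group and V a normal subgroup of X in which every element has order dividing the prime p, whose index in X is prime to p and which is its own centralizer in X; so V is an elementary abelian normal Sylow p-subgroup, and any complement G to V in X is a group of order prime to p acting faithfully on the vector space V by conjugation (the coprime linear setting of the k(GV) problem). Let G be a complement to V in X and suppose that for some v in V the centralizer of v in G is abelian. Then the number of conjugacy classes of X is at most the order of V (the abelian-stabilizer criterion for the k(GV) problem). -/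
theorem result {X : Type*} [Group X] [Finite X] (p : ℕ) [Fact p.Prime] (V : Subgroup X) [V.Normal] (hVexp : ∀ v ∈ V, v ^ p = 1) (hidx : ¬ p ∣ V.index) (hself : Subgroup.centralizer (V : Set X) = V) (G : Subgroup X) (hGV : Subgroup.IsComplement' V G) (v : X) (hv : v ∈ V) (hab : ∀ a ∈ G ⊓ Subgroup.centralizer ({v} : Set X), ∀ b ∈ G ⊓ Subgroup.centralizer ({v} : Set X), a * b = b * a) : Nat.card (ConjClasses X) ≤ Nat.card V := by
  classical
  by_cases hv1 : v = 1
  · -- the stabilizer of `1` is all of `G`, so `G` is abelian
    subst hv1
    have hGab : ∀ a ∈ G, ∀ b ∈ G, a * b = b * a := by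
      intro a ha b hb
      have h1 : ∀ g : X, g ∈ Subgroup.centralizer ({(1 : X)} : Set X) := by
        intro g
        apply Subgroup.mem_centralizer_singleton_iff.2
        rw [one_mul, mul_one]
      exact hab a ⟨ha, h1 a⟩ b ⟨hb, h1 b⟩
    by_cases hVbot : V = ⊥
    · -- then `X` is trivial
      have htop : V = ⊤ := by
        rw [← hself, hVbot]
        ext g
        simp [Subgroup.mem_centralizer_iff]
      have hX : ∀ g : X, g = 1 := by
        intro g
        have : g ∈ V := by rw [htop]; exact Subgroup.mem_top g
        rw [hVbot] at this
        exact Subgroup.mem_bot.1 this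
      haveI : Subsingleton X := ⟨fun a b => by rw [hX a, hX b]⟩
      haveI : Subsingleton (ConjClasses X) := by
        refine ⟨fun a b => ?_⟩
        induction a using Quotient.inductionOn
        induction b using Quotient.inductionOn
        apply congrArg
        exact Subsingleton.elim _ _
      have h1 : Nat.card (ConjClasses X) ≤ 1 := Finite.card_le_one_iff_subsingleton.2 inferInstance
      have h2 : 0 < Nat.card V := Nat.card_pos
      omega
    · obtain ⟨⟨w, hwV⟩, hw1⟩ := (Subgroup.ne_bot_iff_exists_ne_one.1 hVbot)
      have hw1' : w ≠ 1 := fun h => hw1 (Subtype.ext h)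
      exact Cfsg.Agent.Lib.Helper24.KGV.card_conjClasses_le_aux p V hVexp hidx hself G hGV w hwV hw1'
        (fun a ha b hb => hGab a ha.1 b hb.1)
  · exact Cfsg.Agent.Lib.Helper24.KGV.card_conjClasses_le_aux p V hVexp hidx hself G hGV v hv hv1 hab

end Cfsg.Agent.S4958
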