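import Mathlib
import Cfsg.Statements.S4964
import Cfsg.Agent.Lib.Helper7.QuotientPGroup
import Cfsg.Agent.Lib.Helper7.DerivedCentralizer
import Cfsg.Agent.Lib.Helper25.PrincipalQuot
import Cfsg.Agent.Lib.Helper24.NormalPCentral

set_option autoImplicit false
open Cfsg

namespace Cfsg.Agent.S4964

open Cfsg.Agent.Lib.Helper7 Cfsg.Agent.Lib.Helper24

/-- inflation preserves lying in the same block (any normal subgroup) -/
theorem sameBlock_comp_mk {G : Type*} [Group G] [Finite G] {p : ℕ} {M : Ideal Cfsg.AlgInt}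
    (hM : Cfsg.IsPModular p M) (N : Subgroup G) [N.Normal] (χ ψ : G ⧸ N → ℂ)
    (h : Cfsg.SameBlock M χ ψ) :
    Cfsg.SameBlock M (χ ∘ QuotientGroup.mk) (ψ ∘ QuotientGroup.mk) := by
  intro g
  obtain ⟨r, hr⟩ := Cfsg.Agent.Lib.Helper25.index_centralizer_mk_dvd N g
  have h1 := h (g : G ⧸ N)
  have h2 : Cfsg.centralChar (χ ∘ QuotientGroup.mk) g - Cfsg.centralChar (ψ ∘ QuotientGroup.mk) g =
      (r : ℂ) * (Cfsg.centralChar χ (g : G ⧸ N) - Cfsg.centralChar ψ (g : G ⧸ N)) := by
    unfold Cfsg.centralChar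
    rw [hr]
    simp only [Function.comp_apply, QuotientGroup.mk_one]
    push_cast
    ring
  rw [h2]
  exact memLocalIdeal_mul_left hM (memLocalRing_natCast hM r) h1

/-- Let D be a normal p-subgroup of the finite group G, let D′ be its commutator subgroup (normal in G), and fix a maximal ideal M of the algebraic integers containing p. Then (i) two irreducible characters of G ⧸ D′ lie in the same p-block if and only if their inflations to G do, and (ii) every p-block of G contains the inflation of some irreducible character of G ⧸ D′; so inflation induces a bijection between the p-blocks of G ⧸ D′ and the p-blocks of G. -/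
theorem result {G : Type*} [Group G] [Finite G] (p : ℕ) [Fact p.Prime] (M : Ideal Cfsg.AlgInt) (hM : Cfsg.IsPModular p M) (D : Subgroup G) [D.Normal] (hD : IsPGroup p D) : (∀ χ ψ : Cfsg.IrrCharacter (G ⧸ ⁅D, D⁆), Cfsg.SameBlock M (χ : G ⧸ ⁅D, D⁆ → ℂ) (ψ : G ⧸ ⁅D, D⁆ → ℂ) ↔ Cfsg.SameBlock M ((χ : G ⧸ ⁅D, D⁆ → ℂ) ∘ QuotientGroup.mk) ((ψ : G ⧸ ⁅D, D⁆ → ℂ) ∘ QuotientGroup.mk)) ∧ ∀ B : Set (Cfsg.IrrCharacter G), Cfsg.IsPBlock M B → ∃ χ : Cfsg.IrrCharacter (G ⧸ ⁅D, D⁆), ∃ θ ∈ B, (θ : G → ℂ) = (χ : G ⧸ ⁅D, D⁆ → ℂ) ∘ QuotientGroup.mk := by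
  classical
  letI : Fintype G := Fintype.ofFinite G
  letI : Fintype (G ⧸ ⁅D, D⁆) := Fintype.ofFinite _
  have hND : ⁅D, D⁆ ≤ D := Subgroup.commutator_le_self D
  have hN : IsPGroup p ↥⁅D, D⁆ := hD.to_le hND
  constructor
  · intro χ ψ
    constructor
    · exact sameBlock_comp_mk hM _ _ _
    · intro h
      set f := QuotientGroup.mk' ⁅D, D⁆ with hf
      haveI : (D.map f).Normal :=
        Subgroup.Normal.map inferInstance f (QuotientGroup.mk'_surjective _)
      have hDbar : IsPGroup p (D.map f) := hD.map f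
      have h1 := mem_blockOf_of_regular hM χ ψ (by
        intro q hq
        by_cases hqc : q ∈ Subgroup.centralizer ((D.map f : Subgroup (G ⧸ ⁅D, D⁆)) : Set (G ⧸ ⁅D, D⁆))
        · obtain ⟨x, rfl, hx⟩ := exists_regular_lift ⁅D, D⁆ q hq
          have hxD : x ∈ Subgroup.centralizer (D : Set G) := by
            apply mem_centralizer_of_comm_mem_commutator D hD x hx
            intro d hd
            have h2 := (Subgroup.mem_centralizer_iff.mp hqc) (f d) (Subgroup.mem_map_of_mem f hd)
            have h3 : f (d⁻¹ * (x * d * x⁻¹)) = 1 := by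
              simp only [map_mul, map_inv]
              have h2' : f d * f x = f x * f d := h2
              rw [← h2']; group
            exact (QuotientGroup.eq_one_iff _).mp h3
          have hxN : x ∈ Subgroup.centralizer ((⁅D, D⁆ : Subgroup G) : Set G) :=
            Subgroup.centralizer_le (by exact_mod_cast hND) hxD
          have e1 := centralChar_inflation ⁅D, D⁆ hN x hx hxN (χ : G ⧸ ⁅D, D⁆ → ℂ)
          have e2 := centralChar_inflation ⁅D, D⁆ hN x hx hxN (ψ : G ⧸ ⁅D, D⁆ → ℂ)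
          rw [← e1, ← e2]
          exact h x
        · exact memLocalIdeal_sub hM
            (centralChar_memLocalIdeal_of_notMem_centralizer hM (D.map f) hDbar q hqc χ)
            (centralChar_memLocalIdeal_of_notMem_centralizer hM (D.map f) hDbar q hqc ψ))
      exact h1
  · intro B hB
    obtain ⟨ψ, hψ, hker⟩ := exists_mem_ker_of_normal_pgroup hM ⁅D, D⁆ hN B hB
    obtain ⟨ψ', hψ'irr, hψ'⟩ := Cfsg.Agent.Lib.Helper25.exists_deflation ⁅D, D⁆ ψ.2 hker
    refine ⟨⟨ψ', hψ'irr⟩, ψ, hψ, ?_⟩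
    funext g
    exact hψ' g

end Cfsg.Agent.S4964
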