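import Mathlib
import Cfsg.Statements.S4965

set_option autoImplicit false
open Cfsg

namespace Cfsg.Agent.S4965

/-- The key computation: commuting pairs of `X` over the same pair of cosets differ by a commuting
pair of the split extension. -/
theorem key {X : Type*} [Group X] (V : Subgroup X) [V.Normal] (φ : X ⧸ V →* MulAut ↥V)
    (hφ : ∀ (x : X) (v : ↥V), ((φ (QuotientGroup.mk x) v : ↥V) : X) = x * v * x⁻¹)
    (x y x₀ y₀ : X) (hxy : x * y = y * x) (h0 : x₀ * y₀ = y₀ * x₀)
    (hq : (QuotientGroup.mk x₀ : X ⧸ V) = QuotientGroup.mk x)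
    (hr : (QuotientGroup.mk y₀ : X ⧸ V) = QuotientGroup.mk y)
    (hx : x * x₀⁻¹ ∈ V) (hy : y * y₀⁻¹ ∈ V) :
    Commute (⟨⟨x * x₀⁻¹, hx⟩, QuotientGroup.mk x⟩ : SemidirectProduct ↥V (X ⧸ V) φ)
      ⟨⟨y * y₀⁻¹, hy⟩, QuotientGroup.mk y⟩ := by
  apply SemidirectProduct.ext
  · apply Subtype.ext
    rw [SemidirectProduct.mul_left, SemidirectProduct.mul_left]
    simp only [Subgroup.coe_mul]
    rw [← hq, ← hr, hφ, hφ]
    simp only
    have h3 : x * x₀⁻¹ * (x₀ * (y * y₀⁻¹) * x₀⁻¹) = x * y * (x₀ * y₀)⁻¹ := by group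
    have h4 : y * y₀⁻¹ * (y₀ * (x * x₀⁻¹) * y₀⁻¹) = y * x * (y₀ * x₀)⁻¹ := by group
    rw [h3, h4, hxy, h0]
  · rw [SemidirectProduct.mul_right, SemidirectProduct.mul_right]
    simp only
    rw [← QuotientGroup.mk_mul, ← QuotientGroup.mk_mul, hxy]

/-- Let X be a finite group with an abelian normal subgroup V (any two elements of V commute), and let φ be the action of X ⧸ V on V induced by conjugation (well defined because V is abelian; the hypothesis hφ says that the class of x acts as conjugation by x). Then X has at most as many conjugacy classes as the semidirect product of V by X ⧸ V formed with this action: the split extension has the largest class number among extensions with the given action. -/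
theorem result {X : Type*} [Group X] [Finite X] (V : Subgroup X) [V.Normal] (hab : ∀ a ∈ V, ∀ b ∈ V, a * b = b * a) (φ : X ⧸ V →* MulAut ↥V) (hφ : ∀ (x : X) (v : ↥V), ((φ (QuotientGroup.mk x) v : ↥V) : X) = x * v * x⁻¹) : Nat.card (ConjClasses X) ≤ Nat.card (ConjClasses (SemidirectProduct ↥V (X ⧸ V) φ)) := by
  classical
  have hfin : Finite (SemidirectProduct ↥V (X ⧸ V) φ) :=
    Finite.of_equiv _ (SemidirectProduct.equivProd (φ := φ)).symm
  have hX := card_comm_eq_card_conjClasses_mul_card X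
  have hS := card_comm_eq_card_conjClasses_mul_card (SemidirectProduct ↥V (X ⧸ V) φ)
  have hcard : Nat.card (SemidirectProduct ↥V (X ⧸ V) φ) = Nat.card X := by
    rw [SemidirectProduct.card, Subgroup.card_eq_card_quotient_mul_card_subgroup V, mul_comm]
  suffices hle : Nat.card {p : X × X // Commute p.1 p.2} ≤
      Nat.card {p : SemidirectProduct ↥V (X ⧸ V) φ × SemidirectProduct ↥V (X ⧸ V) φ //
        Commute p.1 p.2} by
    rw [hX, hS, hcard] at hle
    exact Nat.le_of_mul_le_mul_right hle Nat.card_pos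
  -- a choice of a commuting pair above each pair of cosets
  let ch : X ⧸ V → X ⧸ V → X × X := fun q r =>
    if h : ∃ p : X × X, Commute p.1 p.2 ∧ (QuotientGroup.mk p.1 : X ⧸ V) = q ∧
        (QuotientGroup.mk p.2 : X ⧸ V) = r then Classical.choose h else (1, 1)
  have hch : ∀ p : X × X, Commute p.1 p.2 →
      Commute (ch (QuotientGroup.mk p.1) (QuotientGroup.mk p.2)).1
        (ch (QuotientGroup.mk p.1) (QuotientGroup.mk p.2)).2 ∧
      (QuotientGroup.mk (ch (QuotientGroup.mk p.1) (QuotientGroup.mk p.2)).1 : X ⧸ V) =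
        QuotientGroup.mk p.1 ∧
      (QuotientGroup.mk (ch (QuotientGroup.mk p.1) (QuotientGroup.mk p.2)).2 : X ⧸ V) =
        QuotientGroup.mk p.2 := by
    intro p hp
    have h : ∃ p' : X × X, Commute p'.1 p'.2 ∧
        (QuotientGroup.mk p'.1 : X ⧸ V) = QuotientGroup.mk p.1 ∧
        (QuotientGroup.mk p'.2 : X ⧸ V) = QuotientGroup.mk p.2 := ⟨p, hp, rfl, rfl⟩
    have hdef : ch (QuotientGroup.mk p.1) (QuotientGroup.mk p.2) = Classical.choose h := by
      simp only [ch]
      rw [dif_pos h]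
    rw [hdef]
    exact Classical.choose_spec h
  -- membership in `V` of the quotients
  have hmem : ∀ x x₀ : X, (QuotientGroup.mk x₀ : X ⧸ V) = QuotientGroup.mk x → x * x₀⁻¹ ∈ V := by
    intro x x₀ h
    have h1 : x₀⁻¹ * x ∈ V := QuotientGroup.eq.1 h
    have h2 : x * x₀⁻¹ = x₀ * (x₀⁻¹ * x) * x₀⁻¹ := by group
    rw [h2]
    exact ‹V.Normal›.conj_mem _ h1 x₀
  -- the injection
  let f : {p : X × X // Commute p.1 p.2} →
      {p : SemidirectProduct ↥V (X ⧸ V) φ × SemidirectProduct ↥V (X ⧸ V) φ // Commute p.1 p.2} :=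
    fun p => ⟨(⟨⟨p.1.1 * (ch (QuotientGroup.mk p.1.1) (QuotientGroup.mk p.1.2)).1⁻¹,
        hmem _ _ (hch p.1 p.2).2.1⟩, QuotientGroup.mk p.1.1⟩,
      ⟨⟨p.1.2 * (ch (QuotientGroup.mk p.1.1) (QuotientGroup.mk p.1.2)).2⁻¹,
        hmem _ _ (hch p.1 p.2).2.2⟩, QuotientGroup.mk p.1.2⟩),
      key V φ hφ _ _ _ _ p.2.eq (hch p.1 p.2).1.eq (hch p.1 p.2).2.1 (hch p.1 p.2).2.2 _ _⟩
  have hf : Function.Injective f := by
    rintro ⟨⟨x, y⟩, hxy⟩ ⟨⟨x', y'⟩, hxy'⟩ h
    have h1 := congrArg Subtype.val h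
    simp only [f, Prod.mk.injEq] at h1
    obtain ⟨ha, hb⟩ := h1
    have hq : (QuotientGroup.mk x : X ⧸ V) = QuotientGroup.mk x' :=
      congrArg SemidirectProduct.right ha
    have hr : (QuotientGroup.mk y : X ⧸ V) = QuotientGroup.mk y' :=
      congrArg SemidirectProduct.right hb
    have ha' := congrArg (fun z => ((SemidirectProduct.left z : ↥V) : X)) ha
    have hb' := congrArg (fun z => ((SemidirectProduct.left z : ↥V) : X)) hb
    simp only at ha' hb'
    rw [← hq, ← hr] at ha' hb'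
    apply Subtype.ext
    simp only [Prod.mk.injEq]
    exact ⟨mul_right_cancel ha', mul_right_cancel hb'⟩
  exact Nat.card_le_card_of_injective f hf

end Cfsg.Agent.S4965
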