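import Mathlib
import Cfsg.Statements.S4966

set_option autoImplicit false
open Cfsg

namespace Cfsg.Agent.S4966

universe u v w

open LinearMap (BilinForm)

section Basic

variable {F : Type u} [Field F] {G : Type w} [Group G] {V : Type v} [AddCommGroup V] [Module F V]

theorem rho_apply_inv (ρ : Representation F G V) (g : G) (x : V) : ρ g (ρ g⁻¹ x) = x := by
  rw [← Module.End.mul_apply, ← map_mul, mul_inv_cancel, map_one]
  rfl

theorem rho_inv_apply (ρ : Representation F G V) (g : G) (x : V) : ρ g⁻¹ (ρ g x) = x := by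
  rw [← Module.End.mul_apply, ← map_mul, inv_mul_cancel, map_one]
  rfl

theorem exists_decomp {P M : Submodule F V} (h : IsCompl P M) (x : V) :
    ∃ a ∈ P, ∃ b ∈ M, a + b = x := by
  have hx : x ∈ P ⊔ M := by rw [h.sup_eq_top]; exact Submodule.mem_top
  exact Submodule.mem_sup.mp hx

theorem exists_proj {P M : Submodule F V} (h : IsCompl P M) :
    ∃ π : V →ₗ[F] V, (∀ x, π x ∈ P) ∧ (∀ x ∈ P, π x = x) ∧ (∀ x ∈ M, π x = 0) := by
  have h1 : ∀ x (_ : x ∈ P), LinearMap.ofIsCompl h P.subtype (0 : M →ₗ[F] V) x = x := by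
    intro x hx
    exact LinearMap.ofIsCompl_apply_left h (φ := P.subtype) (ψ := (0 : M →ₗ[F] V)) ⟨x, hx⟩
  have h2 : ∀ x (_ : x ∈ M), LinearMap.ofIsCompl h P.subtype (0 : M →ₗ[F] V) x = 0 := by
    intro x hx
    exact LinearMap.ofIsCompl_apply_right h (φ := P.subtype) (ψ := (0 : M →ₗ[F] V)) ⟨x, hx⟩
  refine ⟨LinearMap.ofIsCompl h P.subtype 0, fun x => ?_, h1, h2⟩
  obtain ⟨a, ha, b, hb, rfl⟩ := exists_decomp h x
  rw [map_add, h1 a ha, h2 b hb, add_zero]
  exact ha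

/-- Maschke: invariant subspaces have invariant complements. -/
theorem exists_inv_compl [Finite G] (ρ : Representation F G V) (hG : (Nat.card G : F) ≠ 0)
    (N : Submodule F V) (hN : ∀ g : G, ∀ x ∈ N, ρ g x ∈ N) :
    ∃ T : Submodule F V, (∀ g : G, ∀ x ∈ T, ρ g x ∈ T) ∧ IsCompl N T := by
  classical
  haveI := Fintype.ofFinite G
  obtain ⟨C₀, hC₀⟩ := Submodule.exists_isCompl N
  obtain ⟨π₀, hπ₀mem, hπ₀id, -⟩ := exists_proj hC₀
  obtain ⟨π, hπ⟩ : ∃ π : V →ₗ[F] V,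
      ∀ x, π x = (Nat.card G : F)⁻¹ • ∑ g : G, ρ g (π₀ (ρ g⁻¹ x)) :=
    ⟨(Nat.card G : F)⁻¹ • ∑ g : G, (ρ g).comp (π₀.comp (ρ g⁻¹)), fun x => by
      rw [LinearMap.smul_apply, LinearMap.sum_apply]
      rfl⟩
  have hπmem : ∀ x, π x ∈ N := fun x => by
    rw [hπ]
    exact N.smul_mem _ (N.sum_mem fun g _ => hN g _ (hπ₀mem _))
  have hπid : ∀ x ∈ N, π x = x := by
    intro x hx
    rw [hπ]
    have h1 : ∀ g : G, ρ g (π₀ (ρ g⁻¹ x)) = x := fun g => by
      rw [hπ₀id _ (hN g⁻¹ x hx), rho_apply_inv]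
    rw [Finset.sum_congr rfl (fun g _ => h1 g), Finset.sum_const, Finset.card_univ,
      ← Nat.card_eq_fintype_card, ← Nat.cast_smul_eq_nsmul F, smul_smul, inv_mul_cancel₀ hG,
      one_smul]
  have hπeq : ∀ h x, π (ρ h x) = ρ h (π x) := by
    intro h x
    rw [hπ, hπ, map_smul, map_sum]
    congr 1
    calc ∑ g : G, ρ g (π₀ (ρ g⁻¹ (ρ h x)))
        = ∑ g : G, ρ (h * g) (π₀ (ρ (h * g)⁻¹ (ρ h x))) :=
          (Equiv.sum_comp (Equiv.mulLeft h) (fun g => ρ g (π₀ (ρ g⁻¹ (ρ h x))))).symm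
      _ = ∑ g : G, ρ h (ρ g (π₀ (ρ g⁻¹ x))) := by
          refine Finset.sum_congr rfl fun g _ => ?_
          have e1 : ρ (h * g)⁻¹ (ρ h x) = ρ g⁻¹ x := by
            rw [mul_inv_rev, map_mul, Module.End.mul_apply, rho_inv_apply]
          rw [e1, map_mul, Module.End.mul_apply]
  refine ⟨LinearMap.ker π, ?_, ?_⟩
  · intro g x hx
    rw [LinearMap.mem_ker] at hx ⊢
    rw [hπeq, hx, map_zero]
  · constructor
    · rw [Submodule.disjoint_def]
      intro x hx hx'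
      rw [LinearMap.mem_ker] at hx'
      rw [← hπid x hx, hx']
    · rw [codisjoint_iff, eq_top_iff]
      intro x _
      refine Submodule.mem_sup.mpr ⟨π x, hπmem x, x - π x, ?_, by abel⟩
      rw [LinearMap.mem_ker, map_sub, hπid _ (hπmem x), sub_self]

/-- The right orthogonal complement of a subspace. -/
def rperp (B : BilinForm F V) (N : Submodule F V) : Submodule F V where
  carrier := {y | ∀ s ∈ N, B s y = 0}
  add_mem' := by
    intro a b ha hb s hs
    rw [map_add, ha s hs, hb s hs, add_zero]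
  zero_mem' := by
    intro s _
    rw [map_zero]
  smul_mem' := by
    intro c a ha s hs
    rw [map_smul, ha s hs, smul_zero]

theorem mem_rperp {B : BilinForm F V} {N : Submodule F V} {y : V} :
    y ∈ rperp B N ↔ ∀ s ∈ N, B s y = 0 := Iff.rfl

/-- `U` carries an invariant nondegenerate form which is alternating on `U`. -/
def TypeU (ρ : Representation F G V) (U : Submodule F V) : Prop :=
  ∃ A : BilinForm F V, (∀ x ∈ U, A x x = 0) ∧
    (∀ g : G, ∀ x ∈ U, ∀ y ∈ U, A (ρ g x) (ρ g y) = A x y) ∧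
    (∀ x ∈ U, (∀ y ∈ U, A x y = 0) → x = 0)

/-- `W` carries an invariant nondegenerate form which is symmetric on `W`
(and the action is trivial if `p = 2`). -/
def TypeW (p : ℕ) (ρ : Representation F G V) (W : Submodule F V) : Prop :=
  (∃ S : BilinForm F V, (∀ x ∈ W, ∀ y ∈ W, S x y = S y x) ∧
    (∀ g : G, ∀ x ∈ W, ∀ y ∈ W, S (ρ g x) (ρ g y) = S x y) ∧
    (∀ x ∈ W, (∀ y ∈ W, S x y = 0) → x = 0)) ∧
  (p = 2 → ∀ g : G, ∀ w ∈ W, ρ g w = w)

/-- The conclusion, with forms only required to be alternating / symmetric on the pieces. -/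
def GoodRel (p : ℕ) (ρ : Representation F G V) : Prop :=
  ∃ U W : Submodule F V, IsCompl U W ∧ (∀ g : G, ∀ u ∈ U, ρ g u ∈ U) ∧
    (∀ g : G, ∀ w ∈ W, ρ g w ∈ W) ∧ TypeU ρ U ∧ TypeW p ρ W

/-- Restriction of a representation to an invariant subspace. -/
def subRep (ρ : Representation F G V) (N : Submodule F V)
    (hN : ∀ g : G, ∀ x ∈ N, ρ g x ∈ N) : Representation F G N where
  toFun g := (ρ g).restrict (hN g)
  map_one' := LinearMap.ext fun x => Subtype.ext (by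
    show ρ 1 (x : V) = x
    rw [map_one]
    rfl)
  map_mul' g h := LinearMap.ext fun x => Subtype.ext (by
    show ρ (g * h) (x : V) = ρ g (ρ h x)
    rw [map_mul]
    rfl)

theorem subRep_coe (ρ : Representation F G V) (N : Submodule F V)
    (hN : ∀ g : G, ∀ x ∈ N, ρ g x ∈ N) (g : G) (x : N) :
    ((subRep ρ N hN g x : N) : V) = ρ g x := rfl

end Basic

section Step

variable {F : Type u} [Field F] {G : Type w} [Group G] {V : Type v} [AddCommGroup V] [Module F V]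
  [FiniteDimensional F V]
variable (ρ : Representation F G V) (B : BilinForm F V) (τ : V →ₗ[F] V)

theorem inv_left (hinv : ∀ g x y, B (ρ g x) (ρ g y) = B x y) (g : G) (x y : V) :
    B (ρ g x) y = B x (ρ g⁻¹ y) := by
  have h := hinv g x (ρ g⁻¹ y)
  rw [rho_apply_inv] at h
  exact h

theorem inv_right (hinv : ∀ g x y, B (ρ g x) (ρ g y) = B x y) (g : G) (x y : V) :
    B x (ρ g y) = B (ρ g⁻¹ x) y := by
  have h := hinv g (ρ g⁻¹ x) y
  rw [rho_apply_inv] at h
  exact h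

theorem exists_tau (hB : B.Nondegenerate) : ∃ τ : V →ₗ[F] V, ∀ x y, B y (τ x) = B x y := by
  refine ⟨(B.flip.toDual hB.flip).symm.toLinearMap.comp B, fun x y => ?_⟩
  have h := LinearMap.BilinForm.apply_toDual_symm_apply (B := B.flip) (hB := hB.flip) (B x) y
  rw [LinearMap.BilinForm.flip_apply] at h
  exact h

theorem tau_isom (hτ : ∀ x y, B y (τ x) = B x y) (x y : V) : B (τ x) (τ y) = B x y := by
  rw [hτ y (τ x), hτ x y]

theorem tau_inj (hB : B.Nondegenerate) (hτ : ∀ x y, B y (τ x) = B x y) :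
    Function.Injective τ := by
  rw [← LinearMap.ker_eq_bot, LinearMap.ker_eq_bot']
  intro x hx
  apply hB.1
  intro y
  rw [← hτ x y, hx, map_zero]

/-- Subspaces stable under the group and the asymmetry operator. -/
def Stab (N : Submodule F V) : Prop :=
  (∀ g : G, ∀ x ∈ N, ρ g x ∈ N) ∧ ∀ x ∈ N, τ x ∈ N

theorem stab_surj (hinj : Function.Injective τ) {N : Submodule F V}
    (hN : ∀ x ∈ N, τ x ∈ N) : ∀ x ∈ N, ∃ x' ∈ N, τ x' = x := by
  intro x hx
  have hinj' : Function.Injective (τ.restrict hN) := by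
    intro a b hab
    apply Subtype.ext
    apply hinj
    have h1 : ((τ.restrict hN a : N) : V) = ((τ.restrict hN b : N) : V) :=
      congrArg Subtype.val hab
    rw [LinearMap.coe_restrict_apply, LinearMap.coe_restrict_apply] at h1
    exact h1
  obtain ⟨x', hx'⟩ := (LinearMap.injective_iff_surjective.mp hinj') ⟨x, hx⟩
  refine ⟨x', x'.2, ?_⟩
  have h1 : ((τ.restrict hN x' : N) : V) = x := congrArg Subtype.val hx'
  rw [LinearMap.coe_restrict_apply] at h1
  exact h1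

theorem stab_bal (hτ : ∀ x y, B y (τ x) = B x y) (hinj : Function.Injective τ)
    {N : Submodule F V} (hN : Stab ρ τ N) (y : V) :
    (∀ s ∈ N, B s y = 0) ↔ (∀ s ∈ N, B y s = 0) := by
  constructor
  · intro h s hs
    obtain ⟨s', hs', rfl⟩ := stab_surj τ hinj hN.2 s hs
    rw [hτ s' y]
    exact h s' hs'
  · intro h s hs
    rw [← hτ s y]
    exact h _ (hN.2 s hs)

theorem rperp_inv (hinv : ∀ g x y, B (ρ g x) (ρ g y) = B x y) {N : Submodule F V}
    (hN : ∀ g : G, ∀ x ∈ N, ρ g x ∈ N) : ∀ g : G, ∀ x ∈ rperp B N, ρ g x ∈ rperp B N := by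
  intro g x hx
  rw [mem_rperp] at hx ⊢
  intro s hs
  rw [inv_right ρ B hinv]
  exact hx _ (hN g⁻¹ s hs)

theorem rperp_stab (hinv : ∀ g x y, B (ρ g x) (ρ g y) = B x y)
    (hτ : ∀ x y, B y (τ x) = B x y) (hinj : Function.Injective τ)
    {N : Submodule F V} (hN : Stab ρ τ N) : Stab ρ τ (rperp B N) := by
  refine ⟨rperp_inv ρ B hinv hN.1, fun x hx => ?_⟩
  rw [mem_rperp] at hx ⊢
  intro s hs
  rw [hτ x s]
  exact (stab_bal ρ B τ hτ hinj hN x).mp hx s hs

theorem isCompl_rperp {N : Submodule F V} (hN : N ⊓ rperp B N = ⊥) :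
    IsCompl N (rperp B N) := by
  refine ⟨disjoint_iff.mpr hN, codisjoint_iff.mpr ?_⟩
  rw [eq_top_iff]
  intro v _
  obtain ⟨φ, hφ⟩ : ∃ φ : N →ₗ[F] Module.Dual F N, ∀ n s : N, φ n s = B s n :=
    ⟨(B.restrict N).flip, fun n s => by
      rw [LinearMap.BilinForm.flip_apply, LinearMap.BilinForm.restrict_apply]
      rfl⟩
  have hinj : Function.Injective φ := by
    rw [← LinearMap.ker_eq_bot, LinearMap.ker_eq_bot']
    intro n hn
    have hmem : (n : V) ∈ N ⊓ rperp B N := by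
      refine ⟨n.2, mem_rperp.mpr fun s hs => ?_⟩
      have h1 := hφ n ⟨s, hs⟩
      rw [hn] at h1
      exact h1.symm
    rw [hN] at hmem
    exact Subtype.ext ((Submodule.mem_bot F).mp hmem)
  have hsurj : Function.Surjective φ :=
    (LinearMap.injective_iff_surjective_of_finrank_eq_finrank
      Subspace.dual_finrank_eq.symm).mp hinj
  obtain ⟨n₀, hn₀⟩ := hsurj ((B.flip v).comp N.subtype)
  refine Submodule.mem_sup.mpr ⟨n₀, n₀.2, v - n₀, mem_rperp.mpr fun s hs => ?_, by abel⟩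
  have h1 := hφ n₀ ⟨s, hs⟩
  rw [hn₀] at h1
  have h2 : B s v = B s n₀ := by
    rw [← h1]
    rfl
  rw [map_sub, h2, sub_self]

theorem restrict_nondeg (hB : B.Nondegenerate) {N : Submodule F V}
    (hN : N ⊓ rperp B N = ⊥) : (B.restrict (rperp B N)).Nondegenerate := by
  apply LinearMap.BilinForm.Nondegenerate.ofSeparatingRight
  intro y hy
  have h0 : (y : V) = 0 := by
    apply hB.2
    intro v
    obtain ⟨n, hn, m, hm, rfl⟩ := exists_decomp (isCompl_rperp B hN) v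
    rw [map_add, LinearMap.add_apply, mem_rperp.mp y.2 n hn, zero_add]
    have h1 := hy ⟨m, hm⟩
    rw [LinearMap.BilinForm.restrict_apply] at h1
    exact h1
  exact Subtype.ext h0

theorem case2 [Finite G] (hG : (Nat.card G : F) ≠ 0) (hB : B.Nondegenerate)
    (hinv : ∀ g x y, B (ρ g x) (ρ g y) = B x y) (hτ : ∀ x y, B y (τ x) = B x y)
    {S : Submodule F V} (hS : Stab ρ τ S) (hS0 : S ≠ ⊥) (hiso : S ≤ rperp B S) :
    ∃ P M' : Submodule F V, IsCompl P M' ∧ P ≠ ⊥ ∧ (∀ g : G, ∀ x ∈ P, ρ g x ∈ P) ∧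
      (∀ g : G, ∀ x ∈ M', ρ g x ∈ M') ∧ (B.restrict M').Nondegenerate ∧ TypeU ρ P := by
  have hinj := tau_inj B τ hB hτ
  have hbal := stab_bal ρ B τ hτ hinj hS
  obtain ⟨T, hTinv, hT⟩ := exists_inv_compl ρ hG (rperp B S) (rperp_inv ρ B hinv hS.1)
  have hTdisj : ∀ x ∈ rperp B S, x ∈ T → x = 0 := fun x h1 h2 =>
    Submodule.disjoint_def.mp hT.disjoint x h1 h2
  have hSS : ∀ s ∈ S, ∀ s' ∈ S, B s s' = 0 := fun s hs s' hs' => mem_rperp.mp (hiso hs') s hs
  have hPinv : ∀ g : G, ∀ x ∈ S ⊔ T, ρ g x ∈ S ⊔ T := by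
    intro g x hx
    obtain ⟨s, hs, t, ht, rfl⟩ := Submodule.mem_sup.mp hx
    rw [map_add]
    exact Submodule.mem_sup.mpr ⟨_, hS.1 g s hs, _, hTinv g t ht, rfl⟩
  have hPrad : (S ⊔ T) ⊓ rperp B (S ⊔ T) = ⊥ := by
    rw [eq_bot_iff]
    rintro y ⟨hyP, hyperp⟩
    obtain ⟨s, hs, t, ht, rfl⟩ := Submodule.mem_sup.mp hyP
    have hyperp' := mem_rperp.mp hyperp
    have ht0 : t = 0 := by
      refine hTdisj t (mem_rperp.mpr fun s' hs' => ?_) ht
      have h1 := hyperp' s' (Submodule.mem_sup_left hs')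
      rw [map_add, hSS s' hs' s hs, zero_add] at h1
      exact h1
    have hs0 : s = 0 := by
      apply hB.2
      intro v
      obtain ⟨z, hz, t', ht', rfl⟩ := exists_decomp hT v
      rw [map_add, LinearMap.add_apply, (hbal z).mp (mem_rperp.mp hz) s hs, zero_add]
      have h1 := hyperp' t' (Submodule.mem_sup_right ht')
      rw [ht0, add_zero] at h1
      exact h1
    rw [hs0, ht0, add_zero]
    exact Submodule.zero_mem _
  have hPne : S ⊔ T ≠ ⊥ := by
    intro h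
    apply hS0
    rw [eq_bot_iff, ← h]
    exact le_sup_left
  refine ⟨S ⊔ T, rperp B (S ⊔ T), isCompl_rperp B hPrad, hPne, hPinv,
    rperp_inv ρ B hinv hPinv, restrict_nondeg B hB hPrad, ?_⟩
  obtain ⟨q, -, hqid, hq0⟩ := exists_proj hT.symm
  obtain ⟨H, hH⟩ : ∃ H : BilinForm F V,
      ∀ x y, H x y = B (x - q x) (q y) - B (y - q y) (q x) :=
    ⟨(B.comp (LinearMap.id - q) q) - (B.comp (LinearMap.id - q) q).flip, fun x y => by
      rw [LinearMap.sub_apply, LinearMap.sub_apply, LinearMap.BilinForm.flip_apply,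
        LinearMap.BilinForm.comp_apply, LinearMap.BilinForm.comp_apply, LinearMap.sub_apply,
        LinearMap.sub_apply, LinearMap.id_apply, LinearMap.id_apply]⟩
  refine ⟨H, fun x _ => by rw [hH, sub_self], ?_, ?_⟩
  · intro g x hx y hy
    have hqg : ∀ x ∈ S ⊔ T, q (ρ g x) = ρ g (q x) := by
      intro x hx
      obtain ⟨s, hs, t, ht, rfl⟩ := Submodule.mem_sup.mp hx
      have e3 : ρ g (s + t) = ρ g s + ρ g t := map_add _ _ _
      rw [e3, map_add q (ρ g s) (ρ g t), map_add q s t, hq0 _ (hiso (hS.1 g s hs)),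
        hq0 _ (hiso hs), hqid _ (hTinv g t ht), hqid _ ht, zero_add, zero_add]
    have e1 : ρ g x - ρ g (q x) = ρ g (x - q x) := (map_sub (ρ g) x (q x)).symm
    have e2 : ρ g y - ρ g (q y) = ρ g (y - q y) := (map_sub (ρ g) y (q y)).symm
    rw [hH, hH, hqg x hx, hqg y hy, e1, e2, hinv, hinv]
  · intro x hx h
    obtain ⟨s, hs, t, ht, rfl⟩ := Submodule.mem_sup.mp hx
    have hqx : q (s + t) = t := by rw [map_add, hq0 _ (hiso hs), hqid _ ht, zero_add]
    have hs0 : s = 0 := by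
      apply hB.1
      intro v
      obtain ⟨z, hz, t', ht', rfl⟩ := exists_decomp hT v
      rw [map_add, mem_rperp.mp hz s hs, zero_add]
      have h1 := h t' (Submodule.mem_sup_right ht')
      rw [hH, hqx, hqid _ ht', sub_self, map_zero, LinearMap.zero_apply, sub_zero,
        add_sub_cancel_right] at h1
      exact h1
    have ht0 : t = 0 := by
      refine hTdisj t (mem_rperp.mpr fun s' hs' => ?_) ht
      have h1 := h s' (Submodule.mem_sup_left hs')
      rw [hH, hqx, hq0 _ (hiso hs'), map_zero, sub_zero, zero_sub, neg_eq_zero] at h1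
      exact h1
    rw [hs0, ht0, add_zero]

theorem case1 (p : ℕ) [Fact p.Prime] [CharP F p] (hB : B.Nondegenerate)
    (hinv : ∀ g x y, B (ρ g x) (ρ g y) = B x y) (hτ : ∀ x y, B y (τ x) = B x y)
    {S : Submodule F V} (hS : Stab ρ τ S)
    (hmin : ∀ N : Submodule F V, Stab ρ τ N → N ≤ S → N = ⊥ ∨ N = S)
    (hD : S ⊓ rperp B S = ⊥) : TypeU ρ S ∨ TypeW p ρ S := by
  have hinj := tau_inj B τ hB hτ
  have hsurj := stab_surj τ hinj hS.2
  have hbal := stab_bal ρ B τ hτ hinj hS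
  have hnd : ∀ x ∈ S, (∀ y ∈ S, B x y = 0) → x = 0 := by
    intro x hx h
    have hmem : x ∈ S ⊓ rperp B S := ⟨hx, mem_rperp.mpr ((hbal x).mpr h)⟩
    rw [hD] at hmem
    exact (Submodule.mem_bot F).mp hmem
  have hinvS : ∀ g : G, ∀ x ∈ S, ∀ y ∈ S, B (ρ g x) (ρ g y) = B x y :=
    fun g x _ y _ => hinv g x y
  obtain ⟨R, hR⟩ : ∃ R : Submodule F V,
      ∀ x, x ∈ R ↔ (x ∈ S ∧ ∀ y ∈ S, B x y + B y x = 0) :=
    ⟨{ carrier := {x | x ∈ S ∧ ∀ y ∈ S, B x y + B y x = 0}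
       add_mem' := by
         rintro a b ⟨ha, ha'⟩ ⟨hb, hb'⟩
         refine ⟨S.add_mem ha hb, fun y hy => ?_⟩
         simp only [map_add, LinearMap.add_apply]
         linear_combination ha' y hy + hb' y hy
       zero_mem' := ⟨S.zero_mem, fun y _ => by simp⟩
       smul_mem' := by
         rintro c a ⟨ha, ha'⟩
         refine ⟨S.smul_mem c ha, fun y hy => ?_⟩
         simp only [map_smul, LinearMap.smul_apply, smul_eq_mul]
         linear_combination c * ha' y hy }, fun x => Iff.rfl⟩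
  have hRstab : Stab ρ τ R := by
    constructor
    · intro g x hx
      rw [hR] at hx ⊢
      refine ⟨hS.1 g x hx.1, fun y hy => ?_⟩
      rw [inv_left ρ B hinv g x y, inv_right ρ B hinv g y x]
      exact hx.2 _ (hS.1 g⁻¹ y hy)
    · intro x hx
      rw [hR] at hx ⊢
      refine ⟨hS.2 x hx.1, fun y hy => ?_⟩
      obtain ⟨y', hy', rfl⟩ := hsurj y hy
      rw [tau_isom B τ hτ, tau_isom B τ hτ]
      exact hx.2 y' hy'
  have hRle : R ≤ S := fun x hx => ((hR x).mp hx).1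
  rcases hmin R hRstab hRle with hR0 | hRS
  · -- the symmetrisation is nondegenerate on `S`
    obtain ⟨Bs, hBs⟩ : ∃ Bs : BilinForm F V, ∀ x y, Bs x y = B x y + B y x :=
      ⟨B + B.flip, fun x y => by
        rw [LinearMap.add_apply, LinearMap.add_apply, LinearMap.BilinForm.flip_apply]⟩
    have hBs_nd : ∀ x ∈ S, (∀ y ∈ S, Bs x y = 0) → x = 0 := by
      intro x hx h
      have hmem : x ∈ R := (hR x).mpr ⟨hx, fun y hy => by
        have h1 := h y hy
        rw [hBs] at h1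
        exact h1⟩
      rw [hR0] at hmem
      exact (Submodule.mem_bot F).mp hmem
    have hBs_inv : ∀ g : G, ∀ x ∈ S, ∀ y ∈ S, Bs (ρ g x) (ρ g y) = Bs x y :=
      fun g x _ y _ => by rw [hBs, hBs, hinv, hinv]
    by_cases hp2 : p = 2
    · subst hp2
      left
      exact ⟨Bs, fun x _ => by rw [hBs]; exact CharTwo.add_self_eq_zero _, hBs_inv, hBs_nd⟩
    · right
      exact ⟨⟨Bs, fun x _ y _ => by rw [hBs, hBs, add_comm], hBs_inv, hBs_nd⟩,
        fun h => absurd h hp2⟩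
  · -- `B` is skew-symmetric on `S`
    have hskew : ∀ x ∈ S, ∀ y ∈ S, B x y + B y x = 0 := by
      intro x hx y hy
      have hxR : x ∈ R := by rw [hRS]; exact hx
      exact ((hR x).mp hxR).2 y hy
    by_cases hp2 : p = 2
    · subst hp2
      have h2 : ∀ a : F, a + a = 0 := fun a => CharTwo.add_self_eq_zero a
      have hsym : ∀ x ∈ S, ∀ y ∈ S, B x y = B y x := fun x hx y hy =>
        CharTwo.add_eq_zero.mp (hskew x hx y hy)
      obtain ⟨K, hK⟩ : ∃ K : Submodule F V, ∀ x, x ∈ K ↔ (x ∈ S ∧ B x x = 0) :=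
        ⟨{ carrier := {x | x ∈ S ∧ B x x = 0}
           add_mem' := by
             rintro a b ⟨ha, ha'⟩ ⟨hb, hb'⟩
             refine ⟨S.add_mem ha hb, ?_⟩
             simp only [map_add, LinearMap.add_apply]
             linear_combination ha' + hb' + hskew a ha b hb
           zero_mem' := ⟨S.zero_mem, by simp⟩
           smul_mem' := by
             rintro c a ⟨ha, ha'⟩
             refine ⟨S.smul_mem c ha, ?_⟩
             simp only [map_smul, LinearMap.smul_apply, smul_eq_mul]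
             linear_combination c * c * ha' }, fun x => Iff.rfl⟩
      have hKstab : Stab ρ τ K := by
        constructor
        · intro g x hx
          rw [hK] at hx ⊢
          exact ⟨hS.1 g x hx.1, by rw [hinv]; exact hx.2⟩
        · intro x hx
          rw [hK] at hx ⊢
          exact ⟨hS.2 x hx.1, by rw [tau_isom B τ hτ]; exact hx.2⟩
      have hKle : K ≤ S := fun x hx => ((hK x).mp hx).1
      rcases hmin K hKstab hKle with hK0 | hKS
      · right
        refine ⟨⟨B, hsym, hinvS, hnd⟩, fun _ g w hw => ?_⟩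
        have hz : ρ g w - w ∈ K := by
          rw [hK]
          refine ⟨S.sub_mem (hS.1 g w hw) hw, ?_⟩
          simp only [map_sub, LinearMap.sub_apply]
          linear_combination hinv g w w - hskew _ (hS.1 g w hw) _ hw + h2 (B w w)
        rw [hK0] at hz
        exact sub_eq_zero.mp ((Submodule.mem_bot F).mp hz)
      · left
        refine ⟨B, fun x hx => ?_, hinvS, hnd⟩
        have hxK : x ∈ K := by rw [hKS]; exact hx
        exact ((hK x).mp hxK).2
    · left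
      have h2 : (2 : F) ≠ 0 := by
        intro h
        have h' : ((2 : ℕ) : F) = 0 := by exact_mod_cast h
        rw [CharP.cast_eq_zero_iff F p] at h'
        exact hp2 ((Nat.prime_dvd_prime_iff_eq (Fact.out) Nat.prime_two).mp h')
      refine ⟨B, fun x hx => ?_, hinvS, hnd⟩
      have h1 := hskew x hx x hx
      rw [← two_mul] at h1
      exact (mul_eq_zero.mp h1).resolve_left h2

theorem step (p : ℕ) [Fact p.Prime] [CharP F p] [Finite G] (hG : (Nat.card G : F) ≠ 0)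
    [Nontrivial V] (hB : B.Nondegenerate) (hinv : ∀ g x y, B (ρ g x) (ρ g y) = B x y) :
    ∃ P M' : Submodule F V, IsCompl P M' ∧ P ≠ ⊥ ∧ (∀ g : G, ∀ x ∈ P, ρ g x ∈ P) ∧
      (∀ g : G, ∀ x ∈ M', ρ g x ∈ M') ∧ (B.restrict M').Nondegenerate ∧
      (TypeU ρ P ∨ TypeW p ρ P) := by
  obtain ⟨τ, hτ⟩ := exists_tau B hB
  have hinj := tau_inj B τ hB hτ
  classical
  have hex : ∃ n : ℕ, ∃ N : Submodule F V, Stab ρ τ N ∧ N ≠ ⊥ ∧ Module.finrank F N = n :=
    ⟨_, ⊤, ⟨fun _ _ _ => Submodule.mem_top, fun _ _ => Submodule.mem_top⟩, top_ne_bot, rfl⟩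
  obtain ⟨S, hS, hS0, hSn⟩ := Nat.find_spec hex
  have hmin : ∀ N : Submodule F V, Stab ρ τ N → N ≤ S → N = ⊥ ∨ N = S := by
    intro N hN hle
    by_contra hcon
    push Not at hcon
    obtain ⟨h1, h2⟩ := hcon
    have hlt : N < S := lt_of_le_of_ne hle h2
    have h3 := Submodule.finrank_lt_finrank_of_lt hlt
    rw [hSn] at h3
    exact Nat.find_min hex h3 ⟨N, hN, h1, rfl⟩
  have hDstab : Stab ρ τ (S ⊓ rperp B S) := by
    have h1 := rperp_stab ρ B τ hinv hτ hinj hS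
    exact ⟨fun g x hx => ⟨hS.1 g x hx.1, h1.1 g x hx.2⟩,
      fun x hx => ⟨hS.2 x hx.1, h1.2 x hx.2⟩⟩
  rcases hmin _ hDstab inf_le_left with hD | hD
  · exact ⟨S, rperp B S, isCompl_rperp B hD, hS0, hS.1, rperp_inv ρ B hinv hS.1,
      restrict_nondeg B hB hD, case1 ρ B τ p hB hinv hτ hS hmin hD⟩
  · have hiso : S ≤ rperp B S := inf_eq_left.mp hD
    obtain ⟨P, M', h1, h2, h3, h4, h5, h6⟩ := case2 ρ B τ hG hB hinv hτ hS hS0 hiso
    exact ⟨P, M', h1, h2, h3, h4, h5, Or.inl h6⟩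

end Step

section Assemble

variable {F : Type u} [Field F] {G : Type w} [Group G] {V : Type v} [AddCommGroup V] [Module F V]

theorem typeU_transfer (ρ : Representation F G V) {M : Submodule F V}
    (hM : ∀ g : G, ∀ x ∈ M, ρ g x ∈ M) (π : V →ₗ[F] M) (hπ : ∀ m : M, π m = m)
    {U' : Submodule F M} (h : TypeU (subRep ρ M hM) U') : TypeU ρ (U'.map M.subtype) := by
  obtain ⟨A, h1, h2, h3⟩ := h
  have e : ∀ (g : G) (w : M), π (ρ g (w : V)) = subRep ρ M hM g w :=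
    fun g w => hπ (subRep ρ M hM g w)
  refine ⟨A.comp π π, ?_, ?_, ?_⟩
  · rintro x ⟨u, hu, rfl⟩
    show A (π (u : V)) (π (u : V)) = 0
    rw [hπ]
    exact h1 u hu
  · rintro g x ⟨u, hu, rfl⟩ y ⟨u₂, hu₂, rfl⟩
    show A (π (ρ g (u : V))) (π (ρ g (u₂ : V))) = A (π (u : V)) (π (u₂ : V))
    rw [e, e, hπ, hπ]
    exact h2 g u hu u₂ hu₂
  · rintro x ⟨u, hu, rfl⟩ h
    have hu0 : u = 0 := h3 u hu (fun u₂ hu₂ => by
      have h4 : A (π (u : V)) (π (u₂ : V)) = 0 := h (u₂ : V) ⟨u₂, hu₂, rfl⟩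
      rw [hπ, hπ] at h4
      exact h4)
    rw [hu0, map_zero]

theorem typeW_transfer (p : ℕ) (ρ : Representation F G V) {M : Submodule F V}
    (hM : ∀ g : G, ∀ x ∈ M, ρ g x ∈ M) (π : V →ₗ[F] M) (hπ : ∀ m : M, π m = m)
    {W' : Submodule F M} (h : TypeW p (subRep ρ M hM) W') : TypeW p ρ (W'.map M.subtype) := by
  obtain ⟨⟨A, h1, h2, h3⟩, h5⟩ := h
  have e : ∀ (g : G) (w : M), π (ρ g (w : V)) = subRep ρ M hM g w :=
    fun g w => hπ (subRep ρ M hM g w)
  refine ⟨⟨A.comp π π, ?_, ?_, ?_⟩, ?_⟩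
  · rintro x ⟨u, hu, rfl⟩ y ⟨u₂, hu₂, rfl⟩
    show A (π (u : V)) (π (u₂ : V)) = A (π (u₂ : V)) (π (u : V))
    rw [hπ, hπ]
    exact h1 u hu u₂ hu₂
  · rintro g x ⟨u, hu, rfl⟩ y ⟨u₂, hu₂, rfl⟩
    show A (π (ρ g (u : V))) (π (ρ g (u₂ : V))) = A (π (u : V)) (π (u₂ : V))
    rw [e, e, hπ, hπ]
    exact h2 g u hu u₂ hu₂
  · rintro x ⟨u, hu, rfl⟩ h
    have hu0 : u = 0 := h3 u hu (fun u₂ hu₂ => by
      have h4 : A (π (u : V)) (π (u₂ : V)) = 0 := h (u₂ : V) ⟨u₂, hu₂, rfl⟩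
      rw [hπ, hπ] at h4
      exact h4)
    rw [hu0, map_zero]
  · rintro hp g x ⟨u, hu, rfl⟩
    exact congrArg Subtype.val (h5 hp g u hu)

theorem sum_form {P M : Submodule F V} (h : IsCompl P M) (β β' : BilinForm F V) :
    ∃ γ : BilinForm F V, ∀ a ∈ P, ∀ b ∈ M, ∀ a' ∈ P, ∀ b' ∈ M,
      γ (a + b) (a' + b') = β a a' + β' b b' := by
  obtain ⟨π₁, -, h1id, h10⟩ := exists_proj h
  obtain ⟨π₂, -, h2id, h20⟩ := exists_proj h.symm
  refine ⟨β.comp π₁ π₁ + β'.comp π₂ π₂, fun a ha b hb a' ha' b' hb' => ?_⟩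
  have e1 : π₁ (a + b) = a := by rw [map_add, h1id a ha, h10 b hb, add_zero]
  have e1' : π₁ (a' + b') = a' := by rw [map_add, h1id a' ha', h10 b' hb', add_zero]
  have e2 : π₂ (a + b) = b := by rw [map_add, h20 a ha, h2id b hb, zero_add]
  have e2' : π₂ (a' + b') = b' := by rw [map_add, h20 a' ha', h2id b' hb', zero_add]
  rw [LinearMap.add_apply, LinearMap.add_apply, LinearMap.BilinForm.comp_apply,
    LinearMap.BilinForm.comp_apply, e1, e1', e2, e2']

theorem typeU_sup (ρ : Representation F G V) {P M N : Submodule F V} (h : IsCompl P M)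
    (hP : TypeU ρ P) (hN : TypeU ρ N) (hNM : N ≤ M)
    (hPinv : ∀ g : G, ∀ x ∈ P, ρ g x ∈ P) (hNinv : ∀ g : G, ∀ x ∈ N, ρ g x ∈ N) :
    TypeU ρ (P ⊔ N) := by
  obtain ⟨β, b1, b2, b3⟩ := hP
  obtain ⟨β', c1, c2, c3⟩ := hN
  obtain ⟨γ, hγ⟩ := sum_form h β β'
  refine ⟨γ, ?_, ?_, ?_⟩
  · intro x hx
    obtain ⟨a, ha, b, hb, rfl⟩ := Submodule.mem_sup.mp hx
    rw [hγ a ha b (hNM hb) a ha b (hNM hb), b1 a ha, c1 b hb, add_zero]
  · intro g x hx y hy
    obtain ⟨a, ha, b, hb, rfl⟩ := Submodule.mem_sup.mp hx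
    obtain ⟨a', ha', b', hb', rfl⟩ := Submodule.mem_sup.mp hy
    rw [map_add (ρ g) a b, map_add (ρ g) a' b',
      hγ _ (hPinv g a ha) _ (hNM (hNinv g b hb)) _ (hPinv g a' ha') _
      (hNM (hNinv g b' hb')), hγ a ha b (hNM hb) a' ha' b' (hNM hb'), b2 g a ha a' ha',
      c2 g b hb b' hb']
  · intro x hx hx0
    obtain ⟨a, ha, b, hb, rfl⟩ := Submodule.mem_sup.mp hx
    have ha0 : a = 0 := b3 a ha (fun a' ha' => by
      have h1 := hx0 (a' + 0) (Submodule.mem_sup.mpr ⟨a', ha', 0, N.zero_mem, rfl⟩)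
      rw [hγ a ha b (hNM hb) a' ha' 0 M.zero_mem, map_zero, add_zero] at h1
      exact h1)
    have hb0 : b = 0 := c3 b hb (fun b' hb' => by
      have h1 := hx0 (0 + b') (Submodule.mem_sup.mpr ⟨0, P.zero_mem, b', hb', rfl⟩)
      rw [hγ a ha b (hNM hb) 0 P.zero_mem b' (hNM hb'), map_zero, zero_add] at h1
      exact h1)
    rw [ha0, hb0, add_zero]

theorem typeW_sup (p : ℕ) (ρ : Representation F G V) {P M N : Submodule F V} (h : IsCompl P M)
    (hP : TypeW p ρ P) (hN : TypeW p ρ N) (hNM : N ≤ M)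
    (hPinv : ∀ g : G, ∀ x ∈ P, ρ g x ∈ P) (hNinv : ∀ g : G, ∀ x ∈ N, ρ g x ∈ N) :
    TypeW p ρ (P ⊔ N) := by
  obtain ⟨⟨β, b1, b2, b3⟩, b4⟩ := hP
  obtain ⟨⟨β', c1, c2, c3⟩, c4⟩ := hN
  obtain ⟨γ, hγ⟩ := sum_form h β β'
  refine ⟨⟨γ, ?_, ?_, ?_⟩, ?_⟩
  · intro x hx y hy
    obtain ⟨a, ha, b, hb, rfl⟩ := Submodule.mem_sup.mp hx
    obtain ⟨a', ha', b', hb', rfl⟩ := Submodule.mem_sup.mp hy
    rw [hγ a ha b (hNM hb) a' ha' b' (hNM hb'), hγ a' ha' b' (hNM hb') a ha b (hNM hb),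
      b1 a ha a' ha', c1 b hb b' hb']
  · intro g x hx y hy
    obtain ⟨a, ha, b, hb, rfl⟩ := Submodule.mem_sup.mp hx
    obtain ⟨a', ha', b', hb', rfl⟩ := Submodule.mem_sup.mp hy
    rw [map_add (ρ g) a b, map_add (ρ g) a' b',
      hγ _ (hPinv g a ha) _ (hNM (hNinv g b hb)) _ (hPinv g a' ha') _
      (hNM (hNinv g b' hb')), hγ a ha b (hNM hb) a' ha' b' (hNM hb'), b2 g a ha a' ha',
      c2 g b hb b' hb']
  · intro x hx hx0
    obtain ⟨a, ha, b, hb, rfl⟩ := Submodule.mem_sup.mp hx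
    have ha0 : a = 0 := b3 a ha (fun a' ha' => by
      have h1 := hx0 (a' + 0) (Submodule.mem_sup.mpr ⟨a', ha', 0, N.zero_mem, rfl⟩)
      rw [hγ a ha b (hNM hb) a' ha' 0 M.zero_mem, map_zero, add_zero] at h1
      exact h1)
    have hb0 : b = 0 := c3 b hb (fun b' hb' => by
      have h1 := hx0 (0 + b') (Submodule.mem_sup.mpr ⟨0, P.zero_mem, b', hb', rfl⟩)
      rw [hγ a ha b (hNM hb) 0 P.zero_mem b' (hNM hb'), map_zero, zero_add] at h1
      exact h1)
    rw [ha0, hb0, add_zero]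
  · intro hp g x hx
    obtain ⟨a, ha, b, hb, rfl⟩ := Submodule.mem_sup.mp hx
    rw [map_add, b4 hp g a ha, c4 hp g b hb]

theorem isCompl_sup_of {P M X Y : Submodule F V} (h : IsCompl P M) (hX : X ≤ M) (hY : Y ≤ M)
    (hdisj : ∀ x ∈ X, x ∈ Y → x = 0) (hsup : ∀ m ∈ M, ∃ u ∈ X, ∃ w ∈ Y, u + w = m) :
    IsCompl (P ⊔ X) Y := by
  constructor
  · rw [Submodule.disjoint_def]
    intro x hx hxY
    obtain ⟨a, ha, u, hu, rfl⟩ := Submodule.mem_sup.mp hx
    have haM : a ∈ M := by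
      have h1 : a = (a + u) - u := by abel
      rw [h1]
      exact M.sub_mem (hY hxY) (hX hu)
    have ha0 : a = 0 := Submodule.disjoint_def.mp h.disjoint a ha haM
    rw [ha0, zero_add] at hxY ⊢
    exact hdisj u hu hxY
  · rw [codisjoint_iff, eq_top_iff]
    intro v _
    obtain ⟨a, ha, m, hm, rfl⟩ := exists_decomp h v
    obtain ⟨u, hu, w, hw, rfl⟩ := hsup m hm
    rw [← add_assoc]
    exact Submodule.add_mem_sup (Submodule.add_mem_sup ha hu) hw

theorem inv_sup (ρ : Representation F G V) {P N : Submodule F V}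
    (hP : ∀ g : G, ∀ x ∈ P, ρ g x ∈ P) (hN : ∀ g : G, ∀ x ∈ N, ρ g x ∈ N) :
    ∀ g : G, ∀ x ∈ P ⊔ N, ρ g x ∈ P ⊔ N := by
  intro g x hx
  obtain ⟨a, ha, b, hb, rfl⟩ := Submodule.mem_sup.mp hx
  rw [map_add]
  exact Submodule.add_mem_sup (hP g a ha) (hN g b hb)

theorem combine (p : ℕ) (ρ : Representation F G V) {P M : Submodule F V} (h : IsCompl P M)
    (hP : ∀ g : G, ∀ x ∈ P, ρ g x ∈ P) (hM : ∀ g : G, ∀ x ∈ M, ρ g x ∈ M)
    (hgood : GoodRel p (subRep ρ M hM)) (hty : TypeU ρ P ∨ TypeW p ρ P) : GoodRel p ρ := by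
  obtain ⟨U', W', hc, hU'inv, hW'inv, hU', hW'⟩ := hgood
  obtain ⟨π, hπ⟩ : ∃ π : V →ₗ[F] M, ∀ m : M, π m = m :=
    ⟨LinearMap.ofIsCompl h.symm LinearMap.id 0, fun m =>
      LinearMap.ofIsCompl_apply_left h.symm (φ := LinearMap.id) (ψ := (0 : P →ₗ[F] M)) m⟩
  have hU₀ : TypeU ρ (U'.map M.subtype) := typeU_transfer ρ hM π hπ hU'
  have hW₀ : TypeW p ρ (W'.map M.subtype) := typeW_transfer p ρ hM π hπ hW'
  have hU₀M : U'.map M.subtype ≤ M := by
    rintro x ⟨u, _, rfl⟩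
    exact u.2
  have hW₀M : W'.map M.subtype ≤ M := by
    rintro x ⟨u, _, rfl⟩
    exact u.2
  have hU₀inv : ∀ g : G, ∀ x ∈ U'.map M.subtype, ρ g x ∈ U'.map M.subtype := by
    rintro g x ⟨u, hu, rfl⟩
    exact ⟨subRep ρ M hM g u, hU'inv g u hu, rfl⟩
  have hW₀inv : ∀ g : G, ∀ x ∈ W'.map M.subtype, ρ g x ∈ W'.map M.subtype := by
    rintro g x ⟨u, hu, rfl⟩
    exact ⟨subRep ρ M hM g u, hW'inv g u hu, rfl⟩
  have hdisj : ∀ x ∈ U'.map M.subtype, x ∈ W'.map M.subtype → x = 0 := by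
    rintro x ⟨u, hu, rfl⟩ ⟨w, hw, hwu⟩
    have hwu' : w = u := Subtype.ext hwu
    rw [hwu'] at hw
    have hu0 : u = 0 := Submodule.disjoint_def.mp hc.disjoint u hu hw
    rw [hu0, map_zero]
  have hsup : ∀ m ∈ M, ∃ u ∈ U'.map M.subtype, ∃ w ∈ W'.map M.subtype, u + w = m := by
    intro m hm
    obtain ⟨u, hu, w, hw, huw⟩ := exists_decomp hc (⟨m, hm⟩ : M)
    exact ⟨u, ⟨u, hu, rfl⟩, w, ⟨w, hw, rfl⟩, congrArg Subtype.val huw⟩
  rcases hty with hty | hty
  · exact ⟨P ⊔ U'.map M.subtype, W'.map M.subtype,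
      isCompl_sup_of h hU₀M hW₀M hdisj hsup, inv_sup ρ hP hU₀inv, hW₀inv,
      typeU_sup ρ h hty hU₀ hU₀M hP hU₀inv, hW₀⟩
  · have hc' : IsCompl (P ⊔ W'.map M.subtype) (U'.map M.subtype) :=
      isCompl_sup_of h hW₀M hU₀M (fun x hx hx' => hdisj x hx' hx) (fun m hm => by
        obtain ⟨u, hu, w, hw, huw⟩ := hsup m hm
        exact ⟨w, hw, u, hu, by rw [add_comm]; exact huw⟩)
    exact ⟨U'.map M.subtype, P ⊔ W'.map M.subtype, hc'.symm, hU₀inv, inv_sup ρ hP hW₀inv,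
      hU₀, typeW_sup p ρ h hty hW₀ hW₀M hP hW₀inv⟩

end Assemble

section Main

variable {F : Type u} [Field F] {G : Type w} [Group G]

theorem main_ind (p : ℕ) [Fact p.Prime] [CharP F p] [Finite G]
    (hG : (Nat.card G : F) ≠ 0) :
    ∀ n : ℕ, ∀ (V : Type v) [AddCommGroup V] [Module F V] [FiniteDimensional F V]
      (ρ : Representation F G V) (B : BilinForm F V), B.Nondegenerate →
      (∀ g x y, B (ρ g x) (ρ g y) = B x y) → Module.finrank F V = n → GoodRel p ρ := by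
  intro n
  induction n using Nat.strong_induction_on with
  | _ n ih =>
    intro V _ _ _ ρ B hB hinv hn
    by_cases hV : Subsingleton V
    · refine ⟨⊥, ⊤, isCompl_bot_top, ?_, ?_, ?_, ?_⟩
      · intro g u hu
        rw [Submodule.mem_bot] at hu ⊢
        rw [hu, map_zero]
      · intro g w _
        exact Submodule.mem_top
      · exact ⟨0, fun x _ => by simp, fun g x _ y _ => by simp,
          fun x hx _ => (Submodule.mem_bot F).mp hx⟩
      · exact ⟨⟨0, fun x _ y _ => by simp, fun g x _ y _ => by simp,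
          fun x _ _ => Subsingleton.elim _ _⟩, fun _ g w _ => Subsingleton.elim _ _⟩
    · have hnt : Nontrivial V := not_subsingleton_iff_nontrivial.mp hV
      obtain ⟨P, M', hc, hP0, hPinv, hMinv, hnd, hty⟩ := step ρ B p hG hB hinv
      have hlt : Module.finrank F M' < n := by
        have h1 := Submodule.finrank_add_eq_of_isCompl hc
        have h2 : Module.finrank F P ≠ 0 := fun h => hP0 (Submodule.finrank_eq_zero.mp h)
        omega
      have hgood := ih _ hlt M' (subRep ρ M' hMinv) (B.restrict M') hnd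
        (fun g x y => hinv g x y) rfl
      exact combine p ρ hc hPinv hMinv hgood hty

end Main

/-- Let F be a finite field of characteristic p, G a finite group of order prime to p, and V a finite-dimensional representation of G over F carrying a nondegenerate G-invariant bilinear form (equivalently, V is self-dual). Then V is the direct sum of two G-invariant subspaces U and W such that U carries a G-invariant alternating bilinear form that is nondegenerate on U and W carries a G-invariant symmetric bilinear form that is nondegenerate on W; moreover when p = 2 the decomposition can be chosen with G acting trivially on W. -/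
theorem result {F : Type*} [Field F] [Fintype F] (p : ℕ) [Fact p.Prime] [CharP F p] {G : Type*} [Group G] [Finite G] (hcop : ¬ p ∣ Nat.card G) {V : Type*} [AddCommGroup V] [Module F V] [FiniteDimensional F V] (ρ : Representation F G V) (B : LinearMap.BilinForm F V) (hB : B.Nondegenerate) (hBinv : ∀ g : G, ∀ x y : V, B (ρ g x) (ρ g y) = B x y) : ∃ U W : Submodule F V, IsCompl U W ∧ (∀ g : G, ∀ u ∈ U, ρ g u ∈ U) ∧ (∀ g : G, ∀ w ∈ W, ρ g w ∈ W) ∧ (∃ A : LinearMap.BilinForm F V, (∀ x : V, A x x = 0) ∧ (∀ g : G, ∀ x ∈ U, ∀ y ∈ U, A (ρ g x) (ρ g y) = A x y) ∧ (∀ x ∈ U, (∀ y ∈ U, A x y = 0) → x = 0)) ∧ (∃ S : LinearMap.BilinForm F V, (∀ x y : V, S x y = S y x) ∧ (∀ g : G, ∀ x ∈ W, ∀ y ∈ W, S (ρ g x) (ρ g y) = S x y) ∧ (∀ x ∈ W, (∀ y ∈ W, S x y = 0) → x = 0)) ∧ (p = 2 → ∀ g : G, ∀ w ∈ W, ρ g w = w) := by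
  have hG : (Nat.card G : F) ≠ 0 := fun h => hcop ((CharP.cast_eq_zero_iff F p _).mp h)
  obtain ⟨U, W, hc, hU, hW, ⟨A, a1, a2, a3⟩, ⟨⟨S, s1, s2, s3⟩, s4⟩⟩ :=
    main_ind p hG _ V ρ B hB hBinv rfl
  obtain ⟨πU, hUmem, hUid, -⟩ := exists_proj hc
  obtain ⟨πW, hWmem, hWid, -⟩ := exists_proj hc.symm
  refine ⟨U, W, hc, hU, hW, ⟨A.comp πU πU, ?_, ?_, ?_⟩, ⟨S.comp πW πW, ?_, ?_, ?_⟩, s4⟩
  · intro x
    show A (πU x) (πU x) = 0
    exact a1 _ (hUmem x)
  · intro g x hx y hy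
    show A (πU (ρ g x)) (πU (ρ g y)) = A (πU x) (πU y)
    rw [hUid _ (hU g x hx), hUid _ (hU g y hy), hUid x hx, hUid y hy]
    exact a2 g x hx y hy
  · intro x hx h
    refine a3 x hx (fun y hy => ?_)
    have h1 : A (πU x) (πU y) = 0 := h y hy
    rw [hUid x hx, hUid y hy] at h1
    exact h1
  · intro x y
    show S (πW x) (πW y) = S (πW y) (πW x)
    exact s1 _ (hWmem x) _ (hWmem y)
  · intro g x hx y hy
    show S (πW (ρ g x)) (πW (ρ g y)) = S (πW x) (πW y)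
    rw [hWid _ (hW g x hx), hWid _ (hW g y hy), hWid x hx, hWid y hy]
    exact s2 g x hx y hy
  · intro x hx h
    refine s3 x hx (fun y hy => ?_)
    have h1 : S (πW x) (πW y) = 0 := h y hy
    rw [hWid x hx, hWid y hy] at h1
    exact h1

end Cfsg.Agent.S4966
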