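import Mathlib
import Cfsg.Statements.S4967

set_option autoImplicit false
open Cfsg

namespace Cfsg.Agent.S4967

universe u v w

/-- Powers of the Frobenius of a finite field extension, evaluated. -/
theorem frob_pow_apply {F L : Type*} [Field F] [Fintype F] [Field L] [Algebra F L]
    [Algebra.IsAlgebraic F L] (n : ℕ) (x : L) :
    (FiniteField.frobeniusAlgEquivOfAlgebraic F L ^ n) x = x ^ (Fintype.card F ^ n) := by
  rw [AlgEquiv.coe_pow, FiniteField.coe_frobeniusAlgEquivOfAlgebraic_iterate]

/-- Field-theoretic core: an `F`-endomorphism of a finite field `L` inverting a generating set. -/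
theorem core {F L : Type*} [Field F] [Fintype F] [Field L] [Algebra F L] [Finite L]
    (S : Set L) (hgen : Algebra.adjoin F S = ⊤) (hS0 : ∀ c ∈ S, c ≠ 0)
    (σ : L →ₐ[F] L) (hσ : ∀ c ∈ S, σ c = c⁻¹) :
    (∀ c ∈ S, c ^ 2 = 1) ∨ (Even (Module.finrank F L) ∧
      ∀ c ∈ S, c ^ (Fintype.card F ^ (Module.finrank F L / 2) + 1) = 1) := by
  have hinj : Function.Injective σ := σ.toRingHom.injective
  have hbij : Function.Bijective σ := Finite.injective_iff_bijective.mp hinj
  obtain ⟨j, hj⟩ := (FiniteField.bijective_frobeniusAlgEquivOfAlgebraic_pow F L).2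
    (AlgEquiv.ofBijective σ hbij)
  have hj' : FiniteField.frobeniusAlgEquivOfAlgebraic F L ^ j.1 =
      AlgEquiv.ofBijective σ hbij := hj
  have hpow : ∀ c ∈ S, c ^ (Fintype.card F ^ j.1) = c⁻¹ := by
    intro c hc
    have h1 := frob_pow_apply (F := F) j.1 c
    rw [hj'] at h1
    rw [← h1]
    show σ c = c⁻¹
    exact hσ c hc
  have hσσ : σ.comp σ = AlgHom.id F L := by
    apply AlgHom.ext_of_adjoin_eq_top hgen
    intro c hc
    show σ (σ c) = c
    rw [hσ c hc, map_inv₀, hσ c hc, inv_inv]
  have h2 : FiniteField.frobeniusAlgEquivOfAlgebraic F L ^ (2 * j.1) = 1 := by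
    rw [two_mul, pow_add, hj']
    refine AlgEquiv.ext fun x => ?_
    rw [AlgEquiv.mul_apply, AlgEquiv.one_apply]
    show σ (σ x) = x
    exact DFunLike.congr_fun hσσ x
  have hdvd : Module.finrank F L ∣ 2 * j.1 := by
    have h3 := orderOf_dvd_of_pow_eq_one h2
    rwa [FiniteField.orderOf_frobeniusAlgEquivOfAlgebraic F L] at h3
  have hjlt : j.1 < Module.finrank F L := j.2
  obtain ⟨k, hk⟩ := hdvd
  rcases Nat.lt_or_ge k 2 with hk2 | hk2
  · interval_cases k
    · left
      have hj0 : j.1 = 0 := by omega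
      intro c hc
      have h : c = c⁻¹ := by
        have := hpow c hc
        rwa [hj0, pow_zero, pow_one] at this
      calc c ^ 2 = c * c := pow_two c
        _ = c * c⁻¹ := by rw [← h]
        _ = 1 := mul_inv_cancel₀ (hS0 c hc)
    · right
      refine ⟨⟨j.1, by omega⟩, ?_⟩
      intro c hc
      have hn2 : Module.finrank F L / 2 = j.1 := by omega
      rw [hn2, pow_succ, hpow c hc, inv_mul_cancel₀ (hS0 c hc)]
  · exfalso
    have : Module.finrank F L * 2 ≤ Module.finrank F L * k := Nat.mul_le_mul_left _ hk2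
    omega

section AdjSec

variable {F L V : Type*} [Field F] [Field L] [Algebra F L] [AddCommGroup V] [Module F V]

/-- `c'` is a right adjoint of `c` with respect to `B`. -/
def Adj (ι : L →ₐ[F] Module.End F V) (B : LinearMap.BilinForm F V) (c c' : L) : Prop :=
  ∀ x y, B (ι c x) y = B x (ι c' y)

variable {ι : L →ₐ[F] Module.End F V} {B : LinearMap.BilinForm F V}

theorem adj_one : Adj ι B 1 1 := fun x y => by rw [map_one]; rfl

theorem adj_zero : Adj ι B 0 0 := fun x y => by
  rw [map_zero]; simp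

theorem adj_add {a a' b b' : L} (h1 : Adj ι B a a') (h2 : Adj ι B b b') :
    Adj ι B (a + b) (a' + b') := fun x y => by
  simp only [map_add, LinearMap.add_apply]
  rw [h1 x y, h2 x y]

theorem adj_mul {a a' b b' : L} (h1 : Adj ι B a a') (h2 : Adj ι B b b') :
    Adj ι B (a * b) (a' * b') := fun x y => by
  have e1 : ι (a' * b') y = ι b' (ι a' y) := by
    rw [mul_comm a' b', map_mul, Module.End.mul_apply]
  rw [map_mul, Module.End.mul_apply, h1 (ι b x) y, h2 x (ι a' y), e1]

theorem adj_algMap (r : F) : Adj ι B (algebraMap F L r) (algebraMap F L r) := fun x y => by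
  simp [Module.algebraMap_end_apply]

theorem adj_unique (hι : Function.Injective ι) (hB : B.Nondegenerate) {c a b : L}
    (h1 : Adj ι B c a) (h2 : Adj ι B c b) : a = b := by
  apply hι
  refine LinearMap.ext fun y => ?_
  have h3 : ∀ x, B x (ι a y - ι b y) = 0 := fun x => by
    rw [map_sub, ← h1 x y, ← h2 x y, sub_self]
  exact sub_eq_zero.mp (hB.2 _ h3)

end AdjSec

/-- From an invariant nondegenerate form we get an `F`-endomorphism of `L` inverting `φ H`. -/
theorem exists_sigma {F L V H : Type*} [Field F] [Field L] [Algebra F L] [AddCommGroup V]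
    [Module F V] [Group H] (ι : L →ₐ[F] Module.End F V) (hι : Function.Injective ι)
    (φ : H →* L) (hgen : Algebra.adjoin F (Set.range φ) = ⊤)
    (B : LinearMap.BilinForm F V) (hB : B.Nondegenerate)
    (hinv : ∀ h x y, B (ι (φ h) x) (ι (φ h) y) = B x y) :
    ∃ σ : L →ₐ[F] L, ∀ h, σ (φ h) = (φ h)⁻¹ := by
  have adj_gen : ∀ h, Adj ι B (φ h) (φ h⁻¹) := by
    intro h x y
    have h1 : ι (φ h) (ι (φ h⁻¹) y) = y := by
      rw [← Module.End.mul_apply, ← map_mul, ← map_mul, mul_inv_cancel, map_one, map_one]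
      rfl
    have h2 := hinv h x (ι (φ h⁻¹) y)
    rw [h1] at h2
    exact h2
  have adj_exists : ∀ c : L, ∃ c', Adj ι B c c' := by
    intro c
    have hc : c ∈ Algebra.adjoin F (Set.range φ) := by rw [hgen]; exact Algebra.mem_top
    induction hc using Algebra.adjoin_induction with
    | mem c hc =>
      obtain ⟨h, rfl⟩ := hc
      exact ⟨φ h⁻¹, adj_gen h⟩
    | algebraMap r => exact ⟨algebraMap F L r, adj_algMap r⟩
    | add a b _ _ ha hb =>
      obtain ⟨a', ha'⟩ := ha
      obtain ⟨b', hb'⟩ := hb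
      exact ⟨a' + b', adj_add ha' hb'⟩
    | mul a b _ _ ha hb =>
      obtain ⟨a', ha'⟩ := ha
      obtain ⟨b', hb'⟩ := hb
      exact ⟨a' * b', adj_mul ha' hb'⟩
  choose σ₀ hσ₀ using adj_exists
  refine ⟨{ toFun := σ₀, map_one' := ?_, map_mul' := ?_, map_zero' := ?_, map_add' := ?_,
            commutes' := ?_ }, ?_⟩
  · exact adj_unique hι hB (hσ₀ 1) adj_one
  · intro a b
    exact adj_unique hι hB (hσ₀ (a * b)) (adj_mul (hσ₀ a) (hσ₀ b))
  · exact adj_unique hι hB (hσ₀ 0) adj_zero
  · intro a b
    exact adj_unique hι hB (hσ₀ (a + b)) (adj_add (hσ₀ a) (hσ₀ b))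
  · intro r
    exact adj_unique hι hB (hσ₀ _) (adj_algMap r)
  · intro h
    have h1 : σ₀ (φ h) = φ h⁻¹ := adj_unique hι hB (hσ₀ _) (adj_gen h)
    show σ₀ (φ h) = (φ h)⁻¹
    rw [h1]
    exact eq_inv_of_mul_eq_one_right (by rw [← map_mul, mul_inv_cancel, map_one])

/-- The twisted trace-like form on a finite field extension. -/
theorem exists_form {F L : Type*} [Field F] [Fintype F] [Field L] [Algebra F L] [Finite L]
    (k : ℕ) :
    ∃ B : LinearMap.BilinForm F L, B.Nondegenerate ∧
      ∀ c : L, c ^ (Fintype.card F ^ k + 1) = 1 → ∀ x y, B (c * x) (c * y) = B x y := by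
  obtain ⟨τ, hτ⟩ : ∃ τ : Module.Dual F L, τ 1 ≠ 0 := by
    by_contra h
    push Not at h
    exact one_ne_zero ((Module.forall_dual_apply_eq_zero_iff F (1 : L)).mp h)
  obtain ⟨Φ, hΦc⟩ : ∃ Φ : L ≃ₐ[F] L, ∀ c : L, Φ c = c ^ (Fintype.card F ^ k) :=
    ⟨FiniteField.frobeniusAlgEquivOfAlgebraic F L ^ k, fun c => frob_pow_apply k c⟩
  obtain ⟨B, hBapp⟩ : ∃ B : LinearMap.BilinForm F L, ∀ x y, B x y = τ (x * Φ y) :=
    ⟨LinearMap.mk₂ F (fun x y => τ (x * Φ y))
      (fun m₁ m₂ n => by simp only [add_mul, map_add])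
      (fun c m n => by simp only [smul_mul_assoc, map_smul])
      (fun m n₁ n₂ => by simp only [map_add, mul_add])
      (fun c m n => by simp only [map_smul, mul_smul_comm]), fun x y => rfl⟩
  refine ⟨B, ⟨?_, ?_⟩, ?_⟩
  · intro x hx
    by_contra hx0
    have := hx (Φ.symm x⁻¹)
    rw [hBapp, AlgEquiv.apply_symm_apply, mul_inv_cancel₀ hx0] at this
    exact hτ this
  · intro y hy
    by_contra hy0
    have hΦy : Φ y ≠ 0 := fun h => hy0 (by
      have := Φ.injective (h.trans (map_zero Φ).symm)
      exact this)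
    have := hy (Φ y)⁻¹
    rw [hBapp, inv_mul_cancel₀ hΦy] at this
    exact hτ this
  · intro c hc x y
    rw [hBapp, hBapp, map_mul Φ c y, hΦc c]
    have : c * x * (c ^ (Fintype.card F ^ k) * Φ y) =
        c ^ (Fintype.card F ^ k + 1) * (x * Φ y) := by ring
    rw [this, hc, one_mul]

/-- A commutative algebra acting faithfully and commuting with an irreducible action is a
finite field. -/
theorem exists_schur_field_aux {F : Type u} [Field F] [Fintype F] {H : Type w} [CommGroup H]
    {V : Type v} [AddCommGroup V] [Module F V] [FiniteDimensional F V] [Nontrivial V]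
    (ρ : Representation F H V)
    (hirr : ∀ U : Submodule F V, (∀ h : H, ∀ u ∈ U, ρ h u ∈ U) → U = ⊥ ∨ U = ⊤)
    (A : Type v) [CommRing A] [Algebra F A] (ι : A →ₐ[F] Module.End F V)
    (hι : Function.Injective ι) (ψ : H → A) (hψ : ∀ h, ι (ψ h) = ρ h)
    (hgen : Algebra.adjoin F (Set.range ψ) = ⊤) :
    ∃ (L : Type v) (_ : Field L) (_ : Algebra F L) (_ : Finite L)
      (ι' : L →ₐ[F] Module.End F V) (φ : H →* L),
      (∀ h, ι' (φ h) = ρ h) ∧ Algebra.adjoin F (Set.range φ) = ⊤ := by
  classical
  have : Finite V := Module.finite_of_finite F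
  have : Finite (Module.End F V) :=
    Finite.of_injective (fun f : Module.End F V => (f : V → V)) DFunLike.coe_injective
  have : Finite A := Finite.of_injective ι hι
  obtain ⟨v₀, hv₀⟩ := exists_ne (0 : V)
  have : Nontrivial A := by
    refine ⟨⟨0, 1, fun h => ?_⟩⟩
    have h1 : ι 0 = ι 1 := by rw [h]
    rw [map_zero, map_one] at h1
    have h2 : (0 : V) = v₀ := LinearMap.congr_fun h1 v₀
    exact hv₀ h2.symm
  have hker : ∀ a : A, a ≠ 0 → Function.Injective (ι a) := by
    intro a ha
    have hU := hirr (LinearMap.ker (ι a)) (by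
      intro h u hu
      rw [LinearMap.mem_ker] at hu ⊢
      have h3 : ι a (ρ h u) = ρ h (ι a u) := by
        rw [← hψ h, ← Module.End.mul_apply, ← Module.End.mul_apply, ← map_mul, ← map_mul,
          mul_comm]
      rw [h3, hu, map_zero])
    rcases hU with hU | hU
    · exact LinearMap.ker_eq_bot.mp hU
    · exfalso
      apply ha
      apply hι
      rw [map_zero]
      exact LinearMap.ker_eq_top.mp hU
  have : NoZeroDivisors A := by
    refine ⟨fun {a b} hab => ?_⟩
    by_contra hcon
    push Not at hcon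
    obtain ⟨ha, hb⟩ := hcon
    apply hb
    apply hι
    rw [map_zero]
    refine LinearMap.ext fun x => ?_
    apply hker a ha
    rw [LinearMap.zero_apply, map_zero, ← Module.End.mul_apply, ← map_mul, hab, map_zero,
      LinearMap.zero_apply]
  have : IsDomain A := NoZeroDivisors.to_isDomain A
  have : Fintype A := Fintype.ofFinite A
  let φ : H →* A :=
    { toFun := ψ
      map_one' := hι (by rw [hψ, map_one, map_one])
      map_mul' := fun a b => hι (by rw [map_mul, hψ, hψ, hψ, map_mul]) }
  let _ : Field A := Fintype.fieldOfDomain A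
  exact ⟨A, inferInstance, inferInstance, inferInstance, ι, φ, hψ, hgen⟩

open scoped IsMulCommutative in
/-- The Schur field of a faithful irreducible module of an abelian group. -/
theorem exists_schur_field {F : Type u} [Field F] [Fintype F] {H : Type w} [CommGroup H]
    {V : Type v} [AddCommGroup V] [Module F V] [FiniteDimensional F V] [Nontrivial V]
    (ρ : Representation F H V)
    (hirr : ∀ U : Submodule F V, (∀ h : H, ∀ u ∈ U, ρ h u ∈ U) → U = ⊥ ∨ U = ⊤) :
    ∃ (L : Type v) (_ : Field L) (_ : Algebra F L) (_ : Finite L)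
      (ι' : L →ₐ[F] Module.End F V) (φ : H →* L),
      (∀ h, ι' (φ h) = ρ h) ∧ Algebra.adjoin F (Set.range φ) = ⊤ := by
  have hcomm : ∀ a ∈ Set.range ρ, ∀ b ∈ Set.range ρ, a * b = b * a := by
    rintro _ ⟨g, rfl⟩ _ ⟨h, rfl⟩
    rw [← map_mul, ← map_mul, mul_comm]
  have hmc := Algebra.isMulCommutative_adjoin F hcomm
  let ψ : H → Algebra.adjoin F (Set.range ρ) := fun h => ⟨ρ h, Algebra.subset_adjoin ⟨h, rfl⟩⟩
  have hrange : Set.range ψ =
      ((↑) : Algebra.adjoin F (Set.range ρ) → Module.End F V) ⁻¹' (Set.range ρ) := by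
    ext x
    constructor
    · rintro ⟨h, rfl⟩
      exact ⟨h, rfl⟩
    · rintro ⟨h, hh⟩
      exact ⟨h, Subtype.ext hh⟩
  have hgen : Algebra.adjoin F (Set.range ψ) = ⊤ := by
    rw [hrange]
    exact Algebra.adjoin_adjoin_coe_preimage
  exact exists_schur_field_aux ρ hirr (Algebra.adjoin F (Set.range ρ))
    (Algebra.adjoin F (Set.range ρ)).val Subtype.val_injective ψ (fun h => rfl) hgen

theorem main_aux {F : Type u} [Field F] [Fintype F] {H : Type w} [CommGroup H] [Finite H]
    {V : Type v} [AddCommGroup V] [Module F V] [FiniteDimensional F V] [Nontrivial V]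
    (ρ : Representation F H V) (hfaith : Function.Injective ρ)
    (hirr : ∀ U : Submodule F V, (∀ h : H, ∀ u ∈ U, ρ h u ∈ U) → U = ⊥ ∨ U = ⊤) :
    IsCyclic H ∧
    ((∀ h : H, h ^ 2 = 1) → Module.finrank F V = 1) ∧
    ((∃ B : LinearMap.BilinForm F V, B.Nondegenerate ∧
        ∀ h : H, ∀ x y : V, B (ρ h x) (ρ h y) = B x y) →
      (∀ h : H, h ^ 2 = 1) ∨ (Even (Module.finrank F V) ∧
        Nat.card H ∣ Fintype.card F ^ (Module.finrank F V / 2) + 1)) ∧
    (Nat.card H ∣ Fintype.card F ^ (Module.finrank F V / 2) + 1 →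
      ∃ B : LinearMap.BilinForm F V, B.Nondegenerate ∧
        ∀ h : H, ∀ x y : V, B (ρ h x) (ρ h y) = B x y) := by
  obtain ⟨L, _, _, _, ι, φ, hφ, hgen⟩ := exists_schur_field ρ hirr
  obtain ⟨v₀, hv₀⟩ := exists_ne (0 : V)
  have hφinj : Function.Injective φ := by
    intro a b hab
    apply hfaith
    rw [← hφ a, ← hφ b, hab]
  have hcyc : IsCyclic H := isCyclic_of_injective_ringHom φ hφinj
  have hunit : ∀ c : L, c ≠ 0 → ∀ x, ι c⁻¹ (ι c x) = x := by
    intro c hc x
    rw [← Module.End.mul_apply, ← map_mul, inv_mul_cancel₀ hc, map_one]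
    rfl
  have hι_inj : Function.Injective ι := by
    intro a b hab
    by_contra hne
    have hd : a - b ≠ 0 := sub_ne_zero.mpr hne
    have := hunit (a - b) hd v₀
    rw [map_sub, hab, sub_self, LinearMap.zero_apply, map_zero] at this
    exact hv₀ this.symm
  obtain ⟨e, he⟩ : ∃ e : L →ₗ[F] V, ∀ c, e c = ι c v₀ :=
    ⟨{ toFun := fun c => ι c v₀
       map_add' := fun a b => by rw [map_add, LinearMap.add_apply]
       map_smul' := fun r a => by rw [map_smul, LinearMap.smul_apply, RingHom.id_apply] },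
     fun c => rfl⟩
  have he_inj : Function.Injective e := by
    rw [← LinearMap.ker_eq_bot, LinearMap.ker_eq_bot']
    intro c hc
    by_contra hc0
    apply hv₀
    have := hunit c hc0 v₀
    rw [← he, hc, map_zero] at this
    exact this.symm
  have he_surj : Function.Surjective e := by
    rw [← LinearMap.range_eq_top]
    rcases hirr (LinearMap.range e) (by
      rintro h _ ⟨c, rfl⟩
      refine ⟨φ h * c, ?_⟩
      rw [he, he, map_mul, Module.End.mul_apply, hφ h]) with hr | hr
    · exfalso
      apply hv₀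
      have hmem : v₀ ∈ LinearMap.range e := ⟨1, by rw [he, map_one]; rfl⟩
      rw [hr] at hmem
      exact (Submodule.mem_bot F).mp hmem
    · exact hr
  obtain ⟨E, hEapp⟩ : ∃ E : L ≃ₗ[F] V, ∀ c, E c = ι c v₀ :=
    ⟨LinearEquiv.ofBijective e ⟨he_inj, he_surj⟩, fun c => he c⟩
  have hE : ∀ h c, E (φ h * c) = ρ h (E c) := by
    intro h c
    rw [hEapp, hEapp, map_mul, Module.End.mul_apply, hφ h]
  have hrank : Module.finrank F L = Module.finrank F V := LinearEquiv.finrank_eq E
  refine ⟨hcyc, ?_, ?_, ?_⟩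
  · -- all squares trivial forces dimension one
    intro h2
    have hS : Set.range φ ⊆ ((⊥ : Subalgebra F L) : Set L) := by
      rintro _ ⟨h, rfl⟩
      show φ h ∈ (⊥ : Subalgebra F L)
      have h3 : φ h * φ h = 1 := by rw [← map_mul, ← pow_two, h2 h, map_one]
      rcases mul_self_eq_one_iff.mp h3 with h1 | h1
      · rw [h1]; exact one_mem _
      · rw [h1]; exact neg_mem (one_mem _)
    have hle : (⊤ : Subalgebra F L) ≤ ⊥ := by
      rw [← hgen]
      exact Algebra.adjoin_le hS
    have hbt : (⊥ : Subalgebra F L) = ⊤ := le_antisymm bot_le hle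
    rw [← hrank]
    exact Subalgebra.bot_eq_top_iff_finrank_eq_one.mp hbt
  · -- forward direction
    rintro ⟨B, hB, hinv⟩
    obtain ⟨σ, hσ⟩ := exists_sigma ι hι_inj φ hgen B hB
      (fun h x y => by rw [hφ h]; exact hinv h x y)
    have hS0 : ∀ c ∈ Set.range φ, c ≠ 0 := by
      rintro _ ⟨h, rfl⟩ h0
      have h3 : φ h * φ h⁻¹ = 1 := by rw [← map_mul, mul_inv_cancel, map_one]
      rw [h0, zero_mul] at h3
      exact zero_ne_one h3
    rcases core (F := F) (Set.range φ) hgen hS0 σ
      (by rintro _ ⟨h, rfl⟩; exact hσ h) with h1 | ⟨hev, h1⟩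
    · left
      intro h
      apply hφinj
      rw [map_pow, map_one]
      exact h1 _ ⟨h, rfl⟩
    · right
      rw [← hrank]
      refine ⟨hev, ?_⟩
      haveI := hcyc
      obtain ⟨g, hg⟩ := IsCyclic.exists_generator (α := H)
      rw [← orderOf_eq_card_of_forall_mem_zpowers hg]
      apply orderOf_dvd_of_pow_eq_one
      apply hφinj
      rw [map_pow, map_one]
      exact h1 _ ⟨g, rfl⟩
  · -- converse
    intro hd
    obtain ⟨BL, hBL, hBLinv⟩ := exists_form (F := F) (L := L) (Module.finrank F V / 2)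
    have hφpow : ∀ h : H, (φ h) ^ (Fintype.card F ^ (Module.finrank F V / 2) + 1) = 1 := by
      intro h
      obtain ⟨t, ht⟩ := hd
      rw [← map_pow, ht, pow_mul, pow_card_eq_one', one_pow, map_one]
    have hEsymm : ∀ h x, E.symm (ρ h x) = φ h * E.symm x := by
      intro h x
      rw [LinearEquiv.symm_apply_eq, hE h (E.symm x), LinearEquiv.apply_symm_apply]
    obtain ⟨BV, hBV⟩ : ∃ BV : LinearMap.BilinForm F V,
        ∀ x y, BV x y = BL (E.symm x) (E.symm y) :=
      ⟨BL.comp E.symm.toLinearMap E.symm.toLinearMap, fun x y => rfl⟩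
    refine ⟨BV, ⟨?_, ?_⟩, ?_⟩
    · intro x hx
      have h3 : ∀ y', BL (E.symm x) y' = 0 := fun y' => by
        have := hx (E y')
        rwa [hBV, LinearEquiv.symm_apply_apply] at this
      exact E.symm.map_eq_zero_iff.mp (hBL.1 _ h3)
    · intro y hy
      have h3 : ∀ x', BL x' (E.symm y) = 0 := fun x' => by
        have := hy (E x')
        rwa [hBV, LinearEquiv.symm_apply_apply] at this
      exact E.symm.map_eq_zero_iff.mp (hBL.2 _ h3)
    · intro h x y
      rw [hBV, hBV, hEsymm, hEsymm]
      exact hBLinv (φ h) (hφpow h) _ _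

/-- Let F be a finite field with r elements and of characteristic p, H a finite abelian group of order prime to p, and V a faithful irreducible representation of H over F of dimension n (faithful: distinct elements act differently; irreducible: the only H-invariant subspaces are 0 and V). Call V self-dual when it carries a nondegenerate H-invariant bilinear form. If n = 1 and V is self-dual then H has order at most 2. If n ≥ 2 then V is self-dual if and only if n is even and the order of H divides r^(n/2) + 1. -/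
theorem result {F : Type*} [Field F] [Fintype F] (p : ℕ) [Fact p.Prime] [CharP F p] {H : Type*} [CommGroup H] [Finite H] (hcop : ¬ p ∣ Nat.card H) {V : Type*} [AddCommGroup V] [Module F V] [FiniteDimensional F V] (ρ : Representation F H V) (hfaith : Function.Injective ρ) (hirr : ∀ U : Submodule F V, (∀ h : H, ∀ u ∈ U, ρ h u ∈ U) → U = ⊥ ∨ U = ⊤) : (Module.finrank F V = 1 → (∃ B : LinearMap.BilinForm F V, B.Nondegenerate ∧ ∀ h : H, ∀ x y : V, B (ρ h x) (ρ h y) = B x y) → Nat.card H ≤ 2) ∧ (2 ≤ Module.finrank F V → ((∃ B : LinearMap.BilinForm F V, B.Nondegenerate ∧ ∀ h : H, ∀ x y : V, B (ρ h x) (ρ h y) = B x y) ↔ (Even (Module.finrank F V) ∧ Nat.card H ∣ Fintype.card F ^ (Module.finrank F V / 2) + 1))) := by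
  constructor
  · intro h1 hB
    have hnt : Nontrivial V := Module.nontrivial_of_finrank_pos (R := F) (by omega)
    obtain ⟨hcyc, hA, hfwd, hconv⟩ := main_aux ρ hfaith hirr
    rcases hfwd hB with h2 | ⟨hev, _⟩
    · haveI := hcyc
      obtain ⟨g, hg⟩ := IsCyclic.exists_generator (α := H)
      rw [← orderOf_eq_card_of_forall_mem_zpowers hg]
      exact Nat.le_of_dvd (by norm_num) (orderOf_dvd_of_pow_eq_one (h2 g))
    · rw [h1] at hev
      exact absurd hev Nat.not_even_one
  · intro h2
    have hnt : Nontrivial V := Module.nontrivial_of_finrank_pos (R := F) (by omega)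
    obtain ⟨hcyc, hA, hfwd, hconv⟩ := main_aux ρ hfaith hirr
    constructor
    · intro hB
      rcases hfwd hB with h2' | h
      · have := hA h2'
        omega
      · exact h
    · rintro ⟨_, hd⟩
      exact hconv hd

end Cfsg.Agent.S4967
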