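import Cfsg.Statements.S4969
import Cfsg.Agent.Lib.Helper25.Ortho2
import Cfsg.Agent.Lib.Helper2.Expansion

set_option autoImplicit false
set_option linter.style.haveILetI false
open Cfsg

namespace Cfsg.Agent.S4969

open Cfsg.Agent.Lib.Helper25
open scoped ComplexConjugate

/-- Let G be a finite group with k conjugacy classes, g ∈ G, and N > 0. Then the sum over the irreducible complex characters χ of G with χ(1) ≥ N of |χ(g)|/χ(1) is at most √(k · #C_G(g)) / N. -/
theorem result {G : Type*} [Group G] [Finite G] (g : G) (N : ℝ) (hN : 0 < N) :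
    ∑ᶠ χ : Cfsg.IrrCharacter G, (if N ≤ ‖(χ : G → ℂ) 1‖ then ‖(χ : G → ℂ) g‖ / ‖(χ : G → ℂ) 1‖ else 0) ≤
      Real.sqrt ((Nat.card (ConjClasses G) : ℝ) * (Nat.card ↥(Subgroup.centralizer ({g} : Set G)) : ℝ)) / N := by
  classical
  haveI := Fintype.ofFinite G
  haveI : Fintype (IrrCharacter G) := Fintype.ofFinite _
  rw [finsum_eq_sum_of_fintype]
  have h1 : ∀ χ : IrrCharacter G,
      (if N ≤ ‖(χ : G → ℂ) 1‖ then ‖(χ : G → ℂ) g‖ / ‖(χ : G → ℂ) 1‖ else 0) ≤
        ‖(χ : G → ℂ) g‖ / N := by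
    intro χ
    split_ifs with hle
    · exact div_le_div_of_nonneg_left (norm_nonneg _) hN hle
    · exact div_nonneg (norm_nonneg _) hN.le
  refine (Finset.sum_le_sum fun χ _ => h1 χ).trans ?_
  rw [← Finset.sum_div]
  apply div_le_div_of_nonneg_right _ hN.le
  have hsq : ∑ χ : IrrCharacter G, ‖(χ : G → ℂ) g‖ ^ 2 =
      (Nat.card ↥(Subgroup.centralizer ({g} : Set G)) : ℝ) := by
    have h2 := second_orthogonality_self g
    have h3 : ∀ χ : IrrCharacter G, (χ : G → ℂ) g * conj ((χ : G → ℂ) g) =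
        ((‖(χ : G → ℂ) g‖ ^ 2 : ℝ) : ℂ) := by
      intro χ
      rw [Complex.mul_conj, Complex.normSq_eq_norm_sq]
    simp_rw [h3] at h2
    rw [← Complex.ofReal_sum] at h2
    have h4 : ((Nat.card ↥(Subgroup.centralizer ({g} : Set G)) : ℂ)) =
        (((Nat.card ↥(Subgroup.centralizer ({g} : Set G)) : ℝ)) : ℂ) := by
      push_cast; rfl
    rw [h4] at h2
    exact Complex.ofReal_injective h2
  have hcs := sq_sum_le_card_mul_sum_sq (s := (Finset.univ : Finset (IrrCharacter G)))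
    (f := fun χ => ‖(χ : G → ℂ) g‖)
  rw [hsq, Finset.card_univ] at hcs
  have hk : (Fintype.card (IrrCharacter G) : ℝ) = (Nat.card (ConjClasses G) : ℝ) := by
    rw [← Nat.card_eq_fintype_card, Cfsg.Agent.Lib.Helper2.card_irrCharacter]
  rw [hk] at hcs
  exact (le_abs_self _).trans (Real.abs_le_sqrt hcs)

end Cfsg.Agent.S4969
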