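import Cfsg.Statements.S4989
import Cfsg.Agent.Lib.Helper24.GaloisProd
import Cfsg.Agent.Lib.Helper2.CharBasic
import Cfsg.Agent.Lib.Helper25.CharBasic

set_option autoImplicit false
set_option linter.style.haveILetI false
open Cfsg

namespace Cfsg.Agent.S4989

open Cfsg.Agent.Lib.Helper25
open Cfsg.Agent.Lib.Helper24
open scoped ComplexConjugate

section

variable {G : Type*} [Group G] [Fintype G]
variable {V : Type*} [AddCommGroup V] [Module ℂ V] [FiniteDimensional ℂ V]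

/-- Galois conjugates of a nonzero character value (after helper24's S4574). -/
theorem galois_bound' (ρ : Representation ℂ G V) [NeZero (Nat.card G)] (g : G)
    (h : ρ.character g ≠ 0) :
    (∀ k : (ZMod (Nat.card G))ˣ, ρ.character (g ^ (k : ZMod (Nat.card G)).val) ≠ 0) ∧
    (Fintype.card (ZMod (Nat.card G))ˣ : ℝ) ≤ ∑ k : (ZMod (Nat.card G))ˣ,
      ‖ρ.character (g ^ (k : ZMod (Nat.card G)).val)‖ ^ 2 := by
  obtain ⟨μ, hμ, h1, _⟩ := Cfsg.Agent.Lib.Helper2.exists_eigenvalues ρ g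
  have hμe : ∀ i, μ i ^ Nat.card G = 1 := by
    intro i
    obtain ⟨c, hc⟩ := orderOf_dvd_natCard g
    rw [hc, pow_mul, hμ i, one_pow]
  have h0 : (∑ i, μ i) ≠ 0 := by
    have := h1 1
    rw [pow_one] at this
    simp only [pow_one] at this
    rw [← this]; exact h
  obtain ⟨ha, hb⟩ := card_units_le_sum_normSq (Nat.card G) _ μ hμe h0
  simp only [← h1] at ha hb
  exact ⟨ha, hb⟩

omit [Fintype G] in
theorem pow_pow_inv' [NeZero (Nat.card G)] (k : (ZMod (Nat.card G))ˣ) (g : G) :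
    (g ^ (k : ZMod (Nat.card G)).val) ^ ((k⁻¹ : (ZMod (Nat.card G))ˣ) : ZMod (Nat.card G)).val
      = g := by
  rw [← pow_mul, ← pow_mod_natCard, ← ZMod.val_mul, ← Units.val_mul, mul_inv_cancel,
    Units.val_one, ZMod.val_one_eq_one_mod, pow_mod_natCard, pow_one]

/-- the power map as a permutation of `G` -/
noncomputable def powPerm' [NeZero (Nat.card G)] (k : (ZMod (Nat.card G))ˣ) : G ≃ G where
  toFun g := g ^ (k : ZMod (Nat.card G)).val
  invFun g := g ^ ((k⁻¹ : (ZMod (Nat.card G))ˣ) : ZMod (Nat.card G)).val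
  left_inv g := pow_pow_inv' k g
  right_inv g := by
    have := pow_pow_inv' k⁻¹ g
    rwa [inv_inv] at this

/-- On a set stable under the power maps where the character does not vanish, the sum of
`|χ|²` is at least the cardinality. -/
theorem card_le_sum_of_stable (ρ : Representation ℂ G V) [NeZero (Nat.card G)] (W : Finset G)
    (hstab1 : ∀ (k : (ZMod (Nat.card G))ˣ) (g : G), g ∈ W → powPerm' k g ∈ W)
    (hne : ∀ g ∈ W, ρ.character g ≠ 0) :
    (W.card : ℝ) ≤ ∑ g ∈ W, ‖ρ.character g‖ ^ 2 := by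
  have hstab : ∀ (k : (ZMod (Nat.card G))ˣ) (g : G), g ∈ W ↔ powPerm' k g ∈ W := by
    intro k g
    refine ⟨hstab1 k g, fun h => ?_⟩
    have := hstab1 k⁻¹ _ h
    rwa [show powPerm' k⁻¹ (powPerm' k g) = g from pow_pow_inv' k g] at this
  set φ : ℝ := (Fintype.card (ZMod (Nat.card G))ˣ : ℝ) with hφ
  have hφpos : 0 < φ := by
    rw [hφ]; exact_mod_cast Fintype.card_pos
  have h1 : φ * ∑ g ∈ W, ‖ρ.character g‖ ^ 2
      = ∑ g ∈ W, ∑ k : (ZMod (Nat.card G))ˣ,
          ‖ρ.character (g ^ (k : ZMod (Nat.card G)).val)‖ ^ 2 := by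
    rw [Finset.sum_comm]
    rw [hφ, ← nsmul_eq_mul, ← Finset.card_univ, ← Finset.sum_const]
    apply Finset.sum_congr rfl; intro k _
    symm
    apply Finset.sum_equiv (powPerm' k)
    · intro g; exact hstab k g
    · intro g _; rfl
  have h2 : ∑ g ∈ W, φ ≤ ∑ g ∈ W, ∑ k : (ZMod (Nat.card G))ˣ,
          ‖ρ.character (g ^ (k : ZMod (Nat.card G)).val)‖ ^ 2 := by
    apply Finset.sum_le_sum
    intro g hg
    exact (galois_bound' ρ g (hne g hg)).2
  rw [← h1, Finset.sum_const, nsmul_eq_mul, mul_comm] at h2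
  exact le_of_mul_le_mul_left h2 hφpos

end

/-- Let H be a subgroup of the finite group G and χ an irreducible complex character of G. Then the inner product of the restriction of χ to H with itself, (1/#H)·Σ_{h ∈ H} |χ(h)|², is at most 1 + #(Z ∖ H)/#H, where Z is the set of zeros of χ in G. -/
theorem result {G : Type*} [Group G] [Finite G] (H : Subgroup G) (χ : Cfsg.IrrCharacter G) : (Nat.card ↥H : ℝ)⁻¹ * ∑ᶠ h : ↥H, ‖(χ : G → ℂ) h‖ ^ 2 ≤ 1 + (Set.ncard ({x : G | (χ : G → ℂ) x = 0} \ (H : Set G)) : ℝ) / (Nat.card ↥H : ℝ) := by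
  classical
  haveI := Fintype.ofFinite G
  haveI : Fintype H := Fintype.ofFinite _
  haveI : NeZero (Nat.card G) := ⟨Nat.card_pos.ne'⟩
  rw [finsum_eq_sum_of_fintype]
  obtain ⟨n, ρ, hirr, hρ⟩ := χ.2
  have hχρ : ∀ g, (χ : G → ℂ) g = ρ.character g := fun g => by rw [hρ]
  -- total norm
  have hsum : ∑ g : G, ‖(χ : G → ℂ) g‖ ^ 2 = (Nat.card G : ℝ) := by
    have h1 := irr_classInner χ.2 χ.2
    rw [if_pos rfl] at h1
    unfold classInner at h1
    have hGne : (Nat.card G : ℂ) ≠ 0 := by exact_mod_cast Nat.card_pos.ne'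
    have h2 : ∑ g : G, (χ : G → ℂ) g * conj ((χ : G → ℂ) g) = (Nat.card G : ℂ) := by
      field_simp at h1
      exact h1
    have h3 : ∀ g : G, (χ : G → ℂ) g * conj ((χ : G → ℂ) g)
        = ((‖(χ : G → ℂ) g‖ ^ 2 : ℝ) : ℂ) := by
      intro g
      rw [Complex.mul_conj, Complex.normSq_eq_norm_sq]
    rw [Finset.sum_congr rfl (fun g _ => h3 g), ← Complex.ofReal_sum] at h2
    exact_mod_cast h2
  -- the three pieces
  set A : Finset G := Finset.univ.filter (fun g => g ∈ H) with hA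
  set Z : Finset G := Finset.univ.filter (fun g => g ∉ H ∧ (χ : G → ℂ) g = 0) with hZ
  set W : Finset G := Finset.univ.filter (fun g => g ∉ H ∧ (χ : G → ℂ) g ≠ 0) with hW
  have hAZ : Disjoint A Z := by
    rw [Finset.disjoint_left]
    intro g h1 h2
    rw [hA, Finset.mem_filter] at h1
    rw [hZ, Finset.mem_filter] at h2
    exact h2.2.1 h1.2
  have hAW : Disjoint A W := by
    rw [Finset.disjoint_left]
    intro g h1 h2
    rw [hA, Finset.mem_filter] at h1
    rw [hW, Finset.mem_filter] at h2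
    exact h2.2.1 h1.2
  have hZW : Disjoint Z W := by
    rw [Finset.disjoint_left]
    intro g h1 h2
    rw [hZ, Finset.mem_filter] at h1
    rw [hW, Finset.mem_filter] at h2
    exact h2.2.2 h1.2.2
  have hunion : Finset.univ = (A ∪ Z) ∪ W := by
    ext g
    simp only [Finset.mem_univ, Finset.mem_union, true_iff, hA, hZ, hW, Finset.mem_filter,
      true_and]
    by_cases h1 : g ∈ H
    · exact Or.inl (Or.inl h1)
    · by_cases h2 : (χ : G → ℂ) g = 0
      · exact Or.inl (Or.inr ⟨h1, h2⟩)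
      · exact Or.inr ⟨h1, h2⟩
  have hdisj : Disjoint (A ∪ Z) W := Finset.disjoint_union_left.mpr ⟨hAW, hZW⟩
  have hcard : (Nat.card G : ℝ) = (A.card : ℝ) + (Z.card : ℝ) + (W.card : ℝ) := by
    rw [Nat.card_eq_fintype_card, ← Finset.card_univ, hunion,
      Finset.card_union_of_disjoint hdisj, Finset.card_union_of_disjoint hAZ]
    push_cast; ring
  have hsplit : ∑ g : G, ‖(χ : G → ℂ) g‖ ^ 2 =
      ∑ g ∈ A, ‖(χ : G → ℂ) g‖ ^ 2 + ∑ g ∈ W, ‖(χ : G → ℂ) g‖ ^ 2 := by
    rw [hunion, Finset.sum_union hdisj, Finset.sum_union hAZ]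
    have h2 : ∑ g ∈ Z, ‖(χ : G → ℂ) g‖ ^ 2 = 0 := by
      apply Finset.sum_eq_zero
      intro g hg
      rw [hZ, Finset.mem_filter] at hg
      rw [hg.2.2, norm_zero]; ring
    rw [h2, add_zero]
  -- Galois stability of W
  have hWle : (W.card : ℝ) ≤ ∑ g ∈ W, ‖(χ : G → ℂ) g‖ ^ 2 := by
    simp_rw [hχρ]
    apply card_le_sum_of_stable ρ W
    · intro k g hg
      rw [hW, Finset.mem_filter] at hg ⊢
      refine ⟨Finset.mem_univ _, ?_, ?_⟩
      · intro hmem
        apply hg.2.1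
        have := H.pow_mem hmem ((k⁻¹ : (ZMod (Nat.card G))ˣ) : ZMod (Nat.card G)).val
        rwa [show powPerm' k g = g ^ (k : ZMod (Nat.card G)).val from rfl, pow_pow_inv'] at this
      · rw [hχρ]
        exact (galois_bound' ρ g (by rw [← hχρ]; exact hg.2.2)).1 k
    · intro g hg
      rw [hW, Finset.mem_filter] at hg
      rw [← hχρ]; exact hg.2.2
  -- cardinalities
  have hAcard : (A.card : ℝ) = (Nat.card H : ℝ) := by
    rw [hA, Nat.card_eq_fintype_card, Fintype.card_subtype]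
  have hZcard : (Z.card : ℝ) = (Set.ncard ({x : G | (χ : G → ℂ) x = 0} \ (H : Set G)) : ℝ) := by
    congr 1
    rw [← Set.ncard_coe_finset]
    congr 1
    ext g
    simp only [hZ, Finset.coe_filter, Finset.mem_univ, true_and, Set.mem_ofPred_eq, Set.mem_sdiff,
      SetLike.mem_coe]
    tauto
  have hAsum : ∑ h : H, ‖(χ : G → ℂ) h‖ ^ 2 = ∑ g ∈ A, ‖(χ : G → ℂ) g‖ ^ 2 := by
    symm
    apply Finset.sum_subtype A (p := fun g => g ∈ H)
    intro g
    rw [hA, Finset.mem_filter]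
    simp
  have hHpos : (0 : ℝ) < (Nat.card H : ℝ) := by exact_mod_cast Nat.card_pos
  rw [hAsum, ← hZcard]
  have hkey : ∑ g ∈ A, ‖(χ : G → ℂ) g‖ ^ 2 ≤ (Nat.card H : ℝ) + (Z.card : ℝ) := by
    rw [← hAcard]
    linarith
  rw [inv_mul_le_iff₀ hHpos]
  calc ∑ g ∈ A, ‖(χ : G → ℂ) g‖ ^ 2 ≤ (Nat.card H : ℝ) + (Z.card : ℝ) := hkey
    _ = (Nat.card H : ℝ) * (1 + (Z.card : ℝ) / (Nat.card H : ℝ)) := by
      rw [mul_add, mul_one, mul_div_cancel₀ _ hHpos.ne']

end Cfsg.Agent.S4989
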