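import Mathlib
import Cfsg.Statements.S4996
import Cfsg.Agent.Lib.Helper24.GaloisProd
import Cfsg.Agent.Lib.Helper25.Kernel
import Cfsg.Agent.Lib.Helper25.CharBasic
import Cfsg.Agent.Lib.Helper25.LinearChar
import Cfsg.Agent.Lib.Helper2.Expansion
import Cfsg.Agent.Lib.Helper2.Induction
import Cfsg.Agent.Lib.Helper2.NormalInduction
import Cfsg.Agent.Lib.Helper2.DirectProduct
import Cfsg.Agent.Lib.Helper2.CharBasic
import Cfsg.Agent.Lib.Helper2.Linear

set_option autoImplicit false
set_option linter.style.haveILetI false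
open Cfsg

namespace Cfsg.Agent.S4996

open Cfsg.Agent.Lib.Helper2 Cfsg.Agent.Lib.Helper25
open scoped ComplexConjugate

/-- For a character with nonnegative real values along the Galois class of `g` and `Θ g ≠ 0`, the
sum of the values over the Galois class is at least `φ(|G|)`. -/
theorem galois_sum_ge {G : Type*} [Group G] [Fintype G] {Θ : G → ℂ} (hΘ : Cfsg.IsCharacter G Θ)
    (r : G → ℝ) (hr : ∀ g, Θ g = (r g : ℂ)) (hr0 : ∀ g, 0 ≤ r g) (g : G) (hg : Θ g ≠ 0)
    [NeZero (Nat.card G)] :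
    (Fintype.card (ZMod (Nat.card G))ˣ : ℝ) ≤
      ∑ k : (ZMod (Nat.card G))ˣ, r (g ^ (k : ZMod (Nat.card G)).val) := by
  obtain ⟨n, ρ, rfl⟩ := hΘ
  obtain ⟨μ, hμ, h1, -⟩ := exists_eigenvalues ρ g
  have hμ' : ∀ i, μ i ^ Nat.card G = 1 := by
    intro i
    obtain ⟨c, hc⟩ := orderOf_dvd_natCard g
    rw [hc, pow_mul, hμ, one_pow]
  obtain ⟨z, hz, hz0⟩ := Cfsg.Agent.Lib.Helper24.prod_galois_conj (Nat.card G) _ μ hμ'
  have hsum1 : (∑ i, μ i) ≠ 0 := by
    have := h1 1
    rw [pow_one] at this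
    simp only [pow_one] at this
    rw [← this]
    exact hg
  have hzne := hz0 hsum1
  have hprod : (∏ k : (ZMod (Nat.card G))ˣ, r (g ^ (k : ZMod (Nat.card G)).val) : ℝ) = (z : ℝ) := by
    have h2 : ((∏ k : (ZMod (Nat.card G))ˣ, r (g ^ (k : ZMod (Nat.card G)).val) : ℝ) : ℂ) =
        (z : ℂ) := by
      rw [← hz]
      push_cast
      apply Finset.prod_congr rfl
      intro k _
      rw [← hr, h1]
    exact_mod_cast h2
  have hznn : (0 : ℝ) ≤ (z : ℝ) := by
    rw [← hprod]
    exact Finset.prod_nonneg (fun k _ => hr0 _)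
  have hz1 : (1 : ℤ) ≤ z := by
    have : (0 : ℤ) ≤ z := by exact_mod_cast hznn
    omega
  apply Cfsg.Agent.Lib.Helper24.card_le_sum_of_one_le_prod _ (fun k => hr0 _)
  rw [hprod]
  exact_mod_cast hz1

/-- Galois averaging over the group. -/
theorem sum_galois_avg {G : Type*} [Group G] [Fintype G] (f : G → ℝ) [NeZero (Nat.card G)] :
    ∑ g : G, ∑ k : (ZMod (Nat.card G))ˣ, f (g ^ (k : ZMod (Nat.card G)).val) =
      (Fintype.card (ZMod (Nat.card G))ˣ : ℝ) * ∑ g : G, f g := by
  rw [Finset.sum_comm]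
  have h1 : ∀ k : (ZMod (Nat.card G))ˣ, ∑ g : G, f (g ^ (k : ZMod (Nat.card G)).val) =
      ∑ g : G, f g := by
    intro k
    have hk : (Nat.card G).Coprime (k : ZMod (Nat.card G)).val :=
      (ZMod.val_coe_unit_coprime k).symm
    exact Fintype.sum_equiv (powCoprime hk) _ _ (fun g => rfl)
  rw [Finset.sum_congr rfl (fun k _ => h1 k), Finset.sum_const, Finset.card_univ, nsmul_eq_mul]

/-- The main construction: a character `Θ` of `G` with `|N| Θ(g) = ∑_{n ∈ N} |χ(n g)|²`. -/
theorem exists_coset_character {G : Type*} [Group G] [Fintype G] (N : Subgroup G) [N.Normal]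
    [Fintype N] (χ : Cfsg.IrrCharacter G) :
    ∃ Θ : G → ℂ, Cfsg.IsCharacter G Θ ∧ ∀ g : G,
      ∑ n : N, (χ : G → ℂ) ((n : G) * g) * conj ((χ : G → ℂ) ((n : G) * g)) =
        (Nat.card N : ℂ) * Θ g := by
  classical
  haveI : Fintype (Cfsg.IrrCharacter G) := Fintype.ofFinite _
  set Ψ : G → ℂ := (χ : G → ℂ) * (fun g => conj ((χ : G → ℂ) g)) with hΨ
  have hΨchar : Cfsg.IsCharacter G Ψ :=
    isCharacter_mul (isCharacter_of_irr χ.2) (isCharacter_of_irr (isIrrCharacter_conj χ.2))
  have hΨcf : Cfsg.IsClassFunction G Ψ := isClassFunction_of_char hΨchar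
  have hexp := Cfsg.Agent.Lib.Helper2.classFunction_expansion Ψ hΨcf
  have hnat : ∀ ψ : Cfsg.IrrCharacter G, ∃ a : ℕ, Cfsg.classInner Ψ (ψ : G → ℂ) = (a : ℂ) :=
    fun ψ => classInner_isCharacter_nat hΨchar (isCharacter_of_irr ψ.2)
  choose a ha using hnat
  set Θ : G → ℂ := ∑ ψ : Cfsg.IrrCharacter G,
    (if ∀ n ∈ N, (ψ : G → ℂ) n = (ψ : G → ℂ) 1 then a ψ else 0) • (ψ : G → ℂ) with hΘ
  refine ⟨Θ, ?_, ?_⟩
  · apply isCharacter_sum
    intro ψ _
    exact isCharacter_nsmul _ (isCharacter_of_irr ψ.2)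
  · intro g
    have hΨg : ∀ h : G, Ψ h = ∑ ψ : Cfsg.IrrCharacter G, (a ψ : ℂ) * (ψ : G → ℂ) h := by
      intro h
      have := congrFun hexp h
      rw [this, Finset.sum_apply]
      apply Finset.sum_congr rfl
      intro ψ _
      rw [Pi.smul_apply, ha, smul_eq_mul]
    have hlhs : ∑ n : N, (χ : G → ℂ) ((n : G) * g) * conj ((χ : G → ℂ) ((n : G) * g)) =
        ∑ n : N, Ψ ((n : G) * g) := rfl
    rw [hlhs]
    simp only [hΨg]
    rw [Finset.sum_comm]
    have hΘg : Θ g = ∑ ψ : Cfsg.IrrCharacter G,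
        (((if ∀ n ∈ N, (ψ : G → ℂ) n = (ψ : G → ℂ) 1 then a ψ else 0 : ℕ) : ℂ)) *
          (ψ : G → ℂ) g := by
      rw [hΘ, Finset.sum_apply]
      apply Finset.sum_congr rfl
      intro ψ _
      rw [Pi.smul_apply, nsmul_eq_mul]
    rw [hΘg, Finset.mul_sum]
    apply Finset.sum_congr rfl
    intro ψ _
    rw [← Finset.mul_sum]
    by_cases hK : ∀ n ∈ N, (ψ : G → ℂ) n = (ψ : G → ℂ) 1
    · rw [if_pos hK]
      have h1 : ∀ n : N, (ψ : G → ℂ) ((n : G) * g) = (ψ : G → ℂ) g := fun n =>
        (char_mul_of_mem_ker (isCharacter_of_irr ψ.2) (hK n n.2) g).2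
      rw [Finset.sum_congr rfl (fun n _ => h1 n), Finset.sum_const, Finset.card_univ,
        nsmul_eq_mul, Nat.card_eq_fintype_card]
      ring
    · rw [if_neg hK]
      rcases sum_normal_char ψ.2 N with h1 | h1
      · exact absurd h1 hK
      · have h2 : ∀ n : N, (ψ : G → ℂ) ((n : G) * g) = (ψ : G → ℂ) (g * (n : G)) := by
          intro n
          have hcf := isClassFunction_of_char (isCharacter_of_irr ψ.2) ((n : G) * g) g
          rw [← hcf]
          group
        rw [Finset.sum_congr rfl (fun n _ => h2 n), h1 g]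
        simp

/-- Let N be a normal subgroup of the finite group G and χ an irreducible complex character of G. Then the restriction of χ to N is not irreducible if and only if χ vanishes on some whole coset Nx of N in G. -/
theorem result {G : Type*} [Group G] [Finite G] (N : Subgroup G) [N.Normal] (χ : Cfsg.IrrCharacter G) : ¬ Cfsg.IsIrrCharacter ↥N (fun n : ↥N => (χ : G → ℂ) n) ↔ ∃ x : G, ∀ n : ↥N, (χ : G → ℂ) ((n : G) * x) = 0 := by
  classical
  haveI := Fintype.ofFinite G
  haveI : Fintype N := Fintype.ofFinite _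
  haveI : NeZero (Nat.card G) := ⟨Nat.card_pos.ne'⟩
  obtain ⟨Θ, hΘchar, hΘ⟩ := exists_coset_character N χ
  have hNne : (Nat.card N : ℂ) ≠ 0 := by exact_mod_cast Nat.card_pos.ne'
  have hNpos : (0 : ℝ) < (Nat.card N : ℝ) := by exact_mod_cast Nat.card_pos
  -- real form of Θ
  set r : G → ℝ := fun g => (Nat.card N : ℝ)⁻¹ *
    ∑ n : N, Complex.normSq ((χ : G → ℂ) ((n : G) * g)) with hr
  have hrΘ : ∀ g, Θ g = (r g : ℂ) := by
    intro g
    have h1 := hΘ g
    have h2 : Θ g = (Nat.card N : ℂ)⁻¹ *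
        ∑ n : N, (χ : G → ℂ) ((n : G) * g) * conj ((χ : G → ℂ) ((n : G) * g)) := by
      rw [h1]
      field_simp
    rw [h2, hr]
    push_cast
    congr 1
    apply Finset.sum_congr rfl
    intro n _
    rw [Complex.mul_conj]
  have hr0 : ∀ g, 0 ≤ r g := by
    intro g
    rw [hr]
    apply mul_nonneg (inv_nonneg.2 hNpos.le)
    exact Finset.sum_nonneg (fun n _ => Complex.normSq_nonneg _)
  have hvanish : ∀ x : G, (∀ n : N, (χ : G → ℂ) ((n : G) * x) = 0) ↔ Θ x = 0 := by
    intro x
    rw [hrΘ]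
    constructor
    · intro h
      have : r x = 0 := by
        rw [hr]
        simp only [h, map_zero, Finset.sum_const_zero, mul_zero]
      rw [this]
      simp
    · intro h n
      have h1 : r x = 0 := by exact_mod_cast h
      rw [hr] at h1
      have h2 : ∑ n : N, Complex.normSq ((χ : G → ℂ) ((n : G) * x)) = 0 := by
        rcases mul_eq_zero.1 h1 with h3 | h3
        · exact absurd (inv_eq_zero.1 h3) hNpos.ne'
        · exact h3
      have h3 := (Finset.sum_eq_zero_iff_of_nonneg (s := Finset.univ)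
        (f := fun n : N => Complex.normSq ((χ : G → ℂ) ((n : G) * x)))
        (fun n _ => Complex.normSq_nonneg _)).1 h2 n (Finset.mem_univ n)
      exact Complex.normSq_eq_zero.1 h3
  -- Θ 1 is the norm of the restriction
  have hΘ1 : Θ 1 = Cfsg.classInner (fun n : N => (χ : G → ℂ) n) (fun n : N => (χ : G → ℂ) n) := by
    have h1 := hΘ 1
    unfold Cfsg.classInner
    simp only [mul_one] at h1
    rw [h1]
    field_simp
  have hreschar : Cfsg.IsCharacter N (fun n : N => (χ : G → ℂ) n) :=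
    IsCharacter.restrict (isCharacter_of_irr χ.2) N
  constructor
  · intro hnot
    by_contra hno
    push Not at hno
    apply hnot
    apply isIrrCharacter_of_classInner_self_eq_one hreschar
    obtain ⟨c, hc⟩ := classInner_isCharacter_nat hreschar hreschar
    rw [hc]
    have hΘne : ∀ g, Θ g ≠ 0 := by
      intro g h0
      obtain ⟨n, hn⟩ := hno g
      exact hn (((hvanish g).2 h0) n)
    -- total sum
    have htotal : ∑ g : G, r g = (Nat.card G : ℝ) := by
      have h1 : ∑ g : G, r g = (Nat.card N : ℝ)⁻¹ *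
          ∑ n : N, ∑ g : G, Complex.normSq ((χ : G → ℂ) ((n : G) * g)) := by
        rw [hr, ← Finset.mul_sum, Finset.sum_comm]
      have h2 : ∀ n : N, ∑ g : G, Complex.normSq ((χ : G → ℂ) ((n : G) * g)) =
          ∑ g : G, Complex.normSq ((χ : G → ℂ) g) := by
        intro n
        exact Fintype.sum_equiv (Equiv.mulLeft (n : G)) _ _ (fun g => rfl)
      have h3 : ∑ g : G, Complex.normSq ((χ : G → ℂ) g) = (Nat.card G : ℝ) := by
        have h4 := irr_classInner χ.2 χ.2
        rw [if_pos rfl] at h4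
        unfold Cfsg.classInner at h4
        have hGne : (Nat.card G : ℂ) ≠ 0 := by exact_mod_cast Nat.card_pos.ne'
        have h5 : ∑ g : G, (χ : G → ℂ) g * conj ((χ : G → ℂ) g) = (Nat.card G : ℂ) := by
          field_simp at h4
          exact h4
        have h6 : ((∑ g : G, Complex.normSq ((χ : G → ℂ) g) : ℝ) : ℂ) = (Nat.card G : ℂ) := by
          rw [← h5]
          push_cast
          apply Finset.sum_congr rfl
          intro g _
          rw [Complex.mul_conj]
        exact_mod_cast h6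
      rw [h1, Finset.sum_congr rfl (fun n _ => h2 n), h3, Finset.sum_const, Finset.card_univ,
        nsmul_eq_mul, ← Nat.card_eq_fintype_card]
      field_simp
    -- Galois averaging
    have havg := sum_galois_avg r
    have hφpos : (0 : ℝ) < (Fintype.card (ZMod (Nat.card G))ˣ : ℝ) := by
      exact_mod_cast Fintype.card_pos
    have hge : ∀ g : G, g ≠ 1 → (Fintype.card (ZMod (Nat.card G))ˣ : ℝ) ≤
        ∑ k : (ZMod (Nat.card G))ˣ, r (g ^ (k : ZMod (Nat.card G)).val) :=
      fun g _ => galois_sum_ge hΘchar r hrΘ hr0 g (hΘne g)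
    have hone : ∑ k : (ZMod (Nat.card G))ˣ, r ((1 : G) ^ (k : ZMod (Nat.card G)).val) =
        (Fintype.card (ZMod (Nat.card G))ˣ : ℝ) * r 1 := by
      simp only [one_pow]
      rw [Finset.sum_const, Finset.card_univ, nsmul_eq_mul]
    have hsplit : ∑ g : G, ∑ k : (ZMod (Nat.card G))ˣ, r (g ^ (k : ZMod (Nat.card G)).val) ≥
        (Fintype.card (ZMod (Nat.card G))ˣ : ℝ) * r 1 +
          (Fintype.card (ZMod (Nat.card G))ˣ : ℝ) * ((Nat.card G : ℝ) - 1) := by
      rw [← Finset.add_sum_erase Finset.univ _ (Finset.mem_univ (1 : G)), hone]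
      have h1 : ∑ g ∈ Finset.univ.erase (1 : G),
          ∑ k : (ZMod (Nat.card G))ˣ, r (g ^ (k : ZMod (Nat.card G)).val) ≥
          ∑ g ∈ Finset.univ.erase (1 : G), (Fintype.card (ZMod (Nat.card G))ˣ : ℝ) := by
        apply Finset.sum_le_sum
        intro g hg
        exact hge g (Finset.ne_of_mem_erase hg)
      rw [Finset.sum_const, Finset.card_erase_of_mem (Finset.mem_univ _), Finset.card_univ,
        nsmul_eq_mul, ← Nat.card_eq_fintype_card] at h1
      have h2 : ((Nat.card G - 1 : ℕ) : ℝ) = (Nat.card G : ℝ) - 1 := by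
        rw [Nat.cast_sub Nat.card_pos]
        simp
      rw [h2] at h1
      linarith
    rw [havg, htotal] at hsplit
    have hr1 : r 1 ≤ 1 := by
      by_contra hcon
      push Not at hcon
      nlinarith
    have hc1 : (c : ℝ) = r 1 := by
      have h1 : ((c : ℝ) : ℂ) = ((r 1 : ℝ) : ℂ) := by
        rw [← hrΘ, hΘ1, hc]
        simp
      exact_mod_cast h1
    have hcpos : r 1 ≠ 0 := by
      intro h0
      have := (hvanish 1).2 (by rw [hrΘ, h0]; simp) 1
      simp only [OneMemClass.coe_one, mul_one] at this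
      exact irr_one_ne_zero χ.2 this
    have hcle : c ≤ 1 := by
      have : (c : ℝ) ≤ 1 := by rw [hc1]; exact hr1
      exact_mod_cast this
    have hcne : c ≠ 0 := by
      intro h0
      apply hcpos
      rw [← hc1, h0]
      simp
    have : c = 1 := by omega
    rw [this]
    simp
  · rintro ⟨x, hx⟩ hirr
    have h1 := irr_classInner hirr hirr
    rw [if_pos rfl] at h1
    rw [← hΘ1] at h1
    have h2 := norm_linear_char hΘchar h1 x
    rw [(hvanish x).1 hx] at h2
    simp at h2

end Cfsg.Agent.S4996
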