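import Cfsg.Statements.S5001
import Mathlib
import Cfsg.Agent.Lib.Helper7.HeightZero
import Cfsg.Agent.Lib.Helper7.CentralHom
import Cfsg.Agent.Lib.Helper7.LinearExt
import Cfsg.Agent.Lib.Helper2.Expansion
import Cfsg.Agent.Lib.Helper2.Induction
import Cfsg.Agent.Lib.Helper11.Clifford5
import Cfsg.Agent.Lib.Helper24.Defect
import Cfsg.Agent.Lib.Helper24.Loc

set_option autoImplicit false
open Cfsg

namespace Cfsg.Agent.S5001

open Cfsg.Agent.Lib.Helper2 Cfsg.Agent.Lib.Helper24 Cfsg.Agent.Lib.Helper7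
open scoped ComplexConjugate

/-- A constituent of a class function on which the central element `z` acts by the scalar `c`
has the same property. -/
theorem constituent_central {X : Type*} [Group X] [Fintype X] (θ : X → ℂ) (z : X)
    (hz : z ∈ Subgroup.center X) (c : ℂ) (hθz : ∀ a : X, θ (z * a) = c * θ a)
    (ψ : Cfsg.IrrCharacter X) (hne : Cfsg.classInner θ (ψ : X → ℂ) ≠ 0) :
    ∀ a : X, (ψ : X → ℂ) (z * a) = c * (ψ : X → ℂ) a := by
  obtain ⟨φ, hφ⟩ := exists_central_hom ψ (Subgroup.center X) le_rfl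
  intro a
  have hφz := hφ ⟨z, hz⟩
  simp only at hφz
  rw [hφz a]
  congr 1
  set w : ℂ := ((φ ⟨z, hz⟩ : ℂˣ) : ℂ) with hw
  have hnorm : ‖w‖ = 1 := by
    have hpow : w ^ orderOf (⟨z, hz⟩ : Subgroup.center X) = 1 := by
      rw [hw, ← Units.val_pow_eq_pow_val, ← map_pow, pow_orderOf_eq_one, map_one, Units.val_one]
    exact Complex.norm_eq_one_of_pow_eq_one hpow (orderOf_pos _).ne'
  have hsum : ∑ g : X, θ g * conj ((ψ : X → ℂ) g)
      = (c * conj w) * ∑ g : X, θ g * conj ((ψ : X → ℂ) g) := by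
    conv_lhs => rw [← Equiv.sum_comp (Equiv.mulLeft z)]
    rw [Finset.mul_sum]
    apply Finset.sum_congr rfl
    intro g _
    simp only [Equiv.coe_mulLeft]
    rw [hθz g, hφz g, map_mul]
    ring
  have hS : ∑ g : X, θ g * conj ((ψ : X → ℂ) g) ≠ 0 := by
    intro h0
    apply hne
    rw [classInner_def, h0, mul_zero]
  have h1 : c * conj w = 1 := by
    have h2 : (1 : ℂ) * ∑ g : X, θ g * conj ((ψ : X → ℂ) g)
        = (c * conj w) * ∑ g : X, θ g * conj ((ψ : X → ℂ) g) := by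
      rw [one_mul]; exact hsum
    exact (mul_right_cancel₀ hS h2).symm
  have h2 : w * conj w = 1 := by
    rw [Complex.mul_conj, Complex.normSq_eq_norm_sq, hnorm]
    simp
  have hne0 : conj w ≠ 0 := by
    intro h
    rw [h, mul_zero] at h2
    exact zero_ne_one h2
  exact mul_right_cancel₀ hne0 (h2.trans h1.symm)

/-- Let p be a prime, G a finite group and B a p-block of G (relative to a maximal ideal M of the algebraic integers containing p) with defect group D. Let Z be a central p-subgroup of G contained in D and λ a linear character of Z (a homomorphism to the nonzero complex numbers). Say an irreducible character χ of G lies over λ when χ(z) = χ(1)λ(z) for all z ∈ Z. If some irreducible character in B lying over λ has height zero, then λ extends to a linear character of D. -/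
theorem result {G : Type*} [Group G] [Finite G] (p : ℕ) [Fact p.Prime] (M : Ideal Cfsg.AlgInt) (hM : Cfsg.IsPModular p M) (B : Set (Cfsg.IrrCharacter G)) (hB : Cfsg.IsPBlock M B) (D : Subgroup G) (hD : Cfsg.IsDefectGroup p M B D) (Z : Subgroup G) (hZc : Z ≤ Subgroup.center G) (hZp : IsPGroup p ↥Z) (hZD : Z ≤ D) (lam : ↥Z →* ℂˣ) (χ : Cfsg.IrrCharacter G) (hχ : χ ∈ B) (hover : (∀ z : ↥Z, (χ : G → ℂ) z = (χ : G → ℂ) 1 * (lam z : ℂ))) (h0 : Cfsg.blockHeight p B (χ : G → ℂ) = 0) : (∃ μ : ↥D →* ℂˣ, ∀ z : ↥Z, μ ⟨(z : G), hZD z.2⟩ = lam z) := by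
  classical
  letI : Fintype G := Fintype.ofFinite G
  have hp : p.Prime := Fact.out
  by_contra hno
  obtain ⟨g₀, hg₀, hDle, hDc⟩ := exists_of_isDefectGroup hD
  apply not_memLocalIdeal_of_height_zero hM B hB g₀ hg₀ χ hχ h0
  have hne1 : (χ : G → ℂ) 1 ≠ 0 := IsIrrCharacter.apply_one_ne_zero χ.2
  have hχZ : ∀ (z : Z) (g : G), (χ : G → ℂ) ((z : G) * g) = ((lam z : ℂˣ) : ℂ) * (χ : G → ℂ) g := by
    intro z g
    have h1 := irr_mul_of_mem_center χ (hZc z.2) g
    rw [hover z] at h1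
    apply mul_right_cancel₀ hne1
    rw [h1]; ring
  -- the centralizer of the defect class element
  obtain ⟨C, hCdef⟩ : ∃ C : Subgroup G, C = Subgroup.centralizer ({g₀} : Set G) := ⟨_, rfl⟩
  rw [← hCdef] at hDle
  letI : Fintype C := Fintype.ofFinite _
  haveI : Fintype (Cfsg.IrrCharacter C) := Fintype.ofFinite _
  have hg₀C : g₀ ∈ C := by
    rw [hCdef, Subgroup.mem_centralizer_iff]
    intro u hu
    rw [Set.mem_singleton_iff] at hu
    rw [hu]
  have hg₀cen : (⟨g₀, hg₀C⟩ : C) ∈ Subgroup.center C := by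
    rw [Subgroup.mem_center_iff]
    intro c
    apply Subtype.ext
    have hc : (c : G) ∈ Subgroup.centralizer ({g₀} : Set G) := hCdef.le c.2
    rw [Subgroup.mem_centralizer_iff] at hc
    exact (hc g₀ (Set.mem_singleton g₀)).symm
  have hZC : Z ≤ C := by
    intro z hz
    rw [hCdef, Subgroup.mem_centralizer_iff]
    intro u _
    exact (Subgroup.mem_center_iff.mp (hZc hz)) u
  obtain ⟨θ, hθdef⟩ : ∃ θ : C → ℂ, θ = fun c : C => (χ : G → ℂ) (c : G) := ⟨_, rfl⟩
  have hθchar : Cfsg.IsCharacter C θ := by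
    rw [hθdef]; exact IsCharacter.restrict (IsIrrCharacter.isCharacter χ.2) C
  have hθcf : Cfsg.IsClassFunction C θ := IsCharacter.isClassFunction hθchar
  have hexp := classFunction_expansion θ hθcf
  have hval : (χ : G → ℂ) g₀ = ∑ ψ : Cfsg.IrrCharacter C,
      Cfsg.classInner θ (ψ : C → ℂ) * (ψ : C → ℂ) ⟨g₀, hg₀C⟩ := by
    have h1 := congrFun hexp ⟨g₀, hg₀C⟩
    rw [Finset.sum_apply] at h1
    rw [hθdef] at h1
    simp only [Pi.smul_apply, smul_eq_mul] at h1
    rw [← hθdef] at h1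
    exact h1
  rw [hval]
  apply memLocalIdeal_sum hM
  intro ψ _
  by_cases hψ0 : Cfsg.classInner θ (ψ : C → ℂ) = 0
  · rw [hψ0, zero_mul]; exact memLocalIdeal_zero hM
  obtain ⟨n, hn⟩ := classInner_isCharacter_nat hθchar (IsIrrCharacter.isCharacter ψ.2)
  rw [hn]
  apply memLocalIdeal_mul_left hM (memLocalRing_natCast hM n)
  -- `ψ` has central character `lam` on `Z`
  have hψZ : ∀ (z : Z) (a : C), (ψ : C → ℂ) ((⟨(z : G), hZC z.2⟩ : C) * a)
      = ((lam z : ℂˣ) : ℂ) * (ψ : C → ℂ) a := by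
    intro z
    apply constituent_central θ (⟨(z : G), hZC z.2⟩ : C) ?_ _ ?_ ψ hψ0
    · rw [Subgroup.mem_center_iff]
      intro c
      apply Subtype.ext
      exact (Subgroup.mem_center_iff.mp (hZc z.2)) (c : G)
    · intro a
      rw [hθdef]
      exact hχZ z (a : G)
  -- the value of `ψ` at the central element `g₀`
  obtain ⟨φ, hφ⟩ := exists_central_hom ψ (Subgroup.center C) le_rfl
  have h3 : (ψ : C → ℂ) ⟨g₀, hg₀C⟩
      = ((φ ⟨⟨g₀, hg₀C⟩, hg₀cen⟩ : ℂˣ) : ℂ) * (ψ : C → ℂ) 1 := by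
    have := hφ ⟨⟨g₀, hg₀C⟩, hg₀cen⟩ 1
    simpa using this
  rw [h3]
  have hint : IsIntegral ℤ ((φ ⟨⟨g₀, hg₀C⟩, hg₀cen⟩ : ℂˣ) : ℂ) := by
    obtain ⟨n₀, hn₀, hpow⟩ : ∃ n₀ : ℕ, n₀ ≠ 0 ∧
        ((φ ⟨⟨g₀, hg₀C⟩, hg₀cen⟩ : ℂˣ) : ℂ) ^ n₀ = 1 := by
      refine ⟨orderOf (⟨⟨g₀, hg₀C⟩, hg₀cen⟩ : Subgroup.center C), (orderOf_pos _).ne', ?_⟩
      rw [← Units.val_pow_eq_pow_val, ← map_pow, pow_orderOf_eq_one, map_one, Units.val_one]
    exact ⟨Polynomial.X ^ n₀ - 1,
      Polynomial.monic_X_pow_sub_C 1 hn₀, by simp [hpow]⟩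
  apply memLocalIdeal_mul_left hM (memLocalRing_of_isIntegral hM hint)
  -- restrict `ψ` to `D`
  letI : Fintype D := Fintype.ofFinite _
  haveI : Fintype (Cfsg.IrrCharacter D) := Fintype.ofFinite _
  obtain ⟨η, hηdef⟩ : ∃ η : D → ℂ,
      η = fun d : D => (ψ : C → ℂ) (Subgroup.inclusion hDle d) := ⟨_, rfl⟩
  have hηchar : Cfsg.IsCharacter D η := by
    rw [hηdef]
    exact IsCharacter.comp (IsIrrCharacter.isCharacter ψ.2) (Subgroup.inclusion hDle)
  have hηcf : Cfsg.IsClassFunction D η := IsCharacter.isClassFunction hηchar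
  have hexp2 := classFunction_expansion η hηcf
  have hval2 : (ψ : C → ℂ) 1 = ∑ μ : Cfsg.IrrCharacter D,
      Cfsg.classInner η (μ : D → ℂ) * (μ : D → ℂ) 1 := by
    have h1 := congrFun hexp2 1
    rw [Finset.sum_apply] at h1
    rw [hηdef] at h1
    simp only [Pi.smul_apply, smul_eq_mul, map_one] at h1
    rw [← hηdef] at h1
    exact h1
  rw [hval2]
  apply memLocalIdeal_sum hM
  intro μ _
  by_cases hμ0 : Cfsg.classInner η (μ : D → ℂ) = 0
  · rw [hμ0, zero_mul]; exact memLocalIdeal_zero hM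
  obtain ⟨n', hn'⟩ := classInner_isCharacter_nat hηchar (IsIrrCharacter.isCharacter μ.2)
  rw [hn']
  apply memLocalIdeal_mul_left hM (memLocalRing_natCast hM n')
  obtain ⟨d, hd1, hddvd⟩ := Cfsg.Agent.Lib.Helper11.IsIrrCharacter.exists_degree_dvd_card μ.2
  rw [hd1, memLocalIdeal_natCast_iff hM]
  rw [hDc] at hddvd
  obtain ⟨j, hj, rfl⟩ := (Nat.dvd_prime_pow hp).mp hddvd
  rcases Nat.eq_zero_or_pos j with rfl | hjpos
  · exfalso
    apply hno
    rw [pow_zero, Nat.cast_one] at hd1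
    obtain ⟨μh, hμh⟩ := exists_hom_of_linear (IsIrrCharacter.isCharacter μ.2) hd1
    refine ⟨μh, ?_⟩
    intro z
    have hμZ : ∀ a : D, (μ : D → ℂ) ((⟨(z : G), hZD z.2⟩ : D) * a)
        = ((lam z : ℂˣ) : ℂ) * (μ : D → ℂ) a := by
      apply constituent_central η (⟨(z : G), hZD z.2⟩ : D) ?_ _ ?_ μ hμ0
      · rw [Subgroup.mem_center_iff]
        intro c
        apply Subtype.ext
        exact (Subgroup.mem_center_iff.mp (hZc z.2)) (c : G)
      · intro a
        rw [hηdef]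
        simp only
        rw [map_mul]
        exact hψZ z (Subgroup.inclusion hDle a)
    have h5 := hμZ 1
    rw [mul_one, hd1, mul_one] at h5
    apply Units.ext
    rw [← h5, ← hμh]
    rfl
  · exact dvd_pow_self p hjpos.ne'

end Cfsg.Agent.S5001
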