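import Cfsg.Statements.S5005
import Cfsg.Agent.Lib.Helper20.OneBlock
import Cfsg.Agent.Lib.Helper20.OneBlockCount
import Cfsg.Agent.Lib.Helper13.M22Count

set_option autoImplicit false
open Cfsg

namespace Cfsg.Agent.S5005

open Cfsg.Agent.Lib.Helper13.M22Count in
/-- All irreducible complex characters of the Mathieu group `M₂₂` lie in a single 2-block: any two of them lie in the same block relative to every maximal ideal of the algebraic integers containing 2. -/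
theorem result (M : Ideal Cfsg.AlgInt) (hM : Cfsg.IsPModular 2 M)
    (χ ψ : Cfsg.IrrCharacter ↥Cfsg.Spor.M22) : Cfsg.SameBlock M (χ : ↥Cfsg.Spor.M22 → ℂ) (ψ : ↥Cfsg.Spor.M22 → ℂ) := by
  haveI : Fact (Nat.Prime 2) := ⟨Nat.prime_two⟩
  haveI : Fintype ↥Cfsg.Spor.M22 := Fintype.ofFinite _
  obtain ⟨n5, hn5⟩ := norm5
  obtain ⟨n7, hn7⟩ := norm7
  obtain ⟨n11, hn11⟩ := norm11
  obtain ⟨E, hE, hE3⟩ := syl3
  refine Cfsg.Agent.Lib.Helper20.OneBlock.sameBlock_of_dvd hM ?_ χ ψ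
  exact Cfsg.Agent.Lib.Helper20.OneBlock.dvd_of_data
    (by rw [card_M22]; norm_num) g3 g5 g7 g11 n5 n7 n11 orderOf_g5 orderOf_g7 orderOf_g11
    card_cent5 card_cent7 card_cent11 hn5 hn7 hn11 E hE
    (fun x hx hx1 => by
      obtain ⟨k, hk⟩ := hE3 x hx hx1
      exact ⟨k, Or.inl hk⟩)
    even_N3 even_N5 even_N7 even_N11

end Cfsg.Agent.S5005
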