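import Cfsg.Statements.S5006
import Cfsg.Agent.Lib.Helper24.M24Blk.CoverAll
import Cfsg.Agent.Lib.Helper13.OctCounts

set_option autoImplicit false
open Cfsg

namespace Cfsg.Agent.S5006

open Cfsg.Agent.Lib.Helper24.M24Blk Cfsg.Agent.Lib.Helper13.OctBS in
/-- All irreducible complex characters of the Mathieu group `M₂₄` lie in a single 2-block: any two of them lie in the same block relative to every maximal ideal of the algebraic integers containing 2. -/
theorem result (M : Ideal Cfsg.AlgInt) (hM : Cfsg.IsPModular 2 M)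
    (χ ψ : Cfsg.IrrCharacter ↥Cfsg.M24) : Cfsg.SameBlock M (χ : ↥Cfsg.M24 → ℂ) (ψ : ↥Cfsg.M24 → ℂ) :=
  sameBlock_of_counts
    (fun d hd γ κ a b c => counts_D3A d hd γ κ a b c)
    (fun d hd γ κ a b c => counts_D3B d hd γ κ a b c)
    (fun d hd γ κ a b c => counts_D5A d hd γ κ a b c)
    (fun d hd γ κ a b c => counts_D7A d hd γ κ a b c)
    (fun d hd γ κ a b c => counts_D11A d hd γ κ a b c)
    (fun d hd γ κ a b c => counts_D15A d hd γ κ a b c)
    (fun d hd γ κ a b c => counts_D21A d hd γ κ a b c)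
    (fun d hd γ κ a b c => counts_D23A d hd γ κ a b c)
    M hM χ ψ

end Cfsg.Agent.S5006
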