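import Cfsg.Statements.S5011
-- import your own Cfsg.Agent.* helpers here

set_option autoImplicit false
open Cfsg

namespace Cfsg.Agent.S5011

/-- Let G be a finite non-abelian simple group and ρ an irreducible complex representation of G on a space of dimension greater than one (irreducible in the sense that the only subspaces invariant under every ρ(x) are 0 and the whole space). Then for every non-identity element g of G, the centralizer of g does not act irreducibly: there is a non-zero proper subspace invariant under ρ(c) for every c commuting with g. -/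
theorem result {G : Type*} [Group G] [Finite G] [IsSimpleGroup G]
    (hG : ¬ IsMulCommutative G) {V : Type*} [AddCommGroup V] [Module ℂ V] [FiniteDimensional ℂ V]
    (ρ : Representation ℂ G V)
    (hirr : ∀ W : Submodule ℂ V, (∀ x : G, ∀ v ∈ W, ρ x v ∈ W) → W = ⊥ ∨ W = ⊤)
    (hdim : 1 < Module.finrank ℂ V) (g : G) (hg : g ≠ 1) :
    ∃ W : Submodule ℂ V, W ≠ ⊥ ∧ W ≠ ⊤ ∧ ∀ c ∈ Subgroup.centralizer ({g} : Set G), ∀ v ∈ W, ρ c v ∈ W := by
  have hnt : Nontrivial V := by
    apply Module.nontrivial_of_finrank_pos (R := ℂ)
    omega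
  obtain ⟨μ, hμ⟩ := Module.End.exists_eigenvalue (ρ g)
  refine ⟨Module.End.eigenspace (ρ g) μ, hμ, ?_, ?_⟩
  · intro htop
    -- ρ g = μ • 1
    have hscal : ∀ v : V, ρ g v = μ • v := by
      intro v
      have : v ∈ Module.End.eigenspace (ρ g) μ := by rw [htop]; trivial
      exact Module.End.mem_eigenspace_iff.mp this
    -- the subgroup of scalar elements
    let Z : Subgroup G :=
      { carrier := {x | ∃ ν : ℂ, ∀ v : V, ρ x v = ν • v}
        one_mem' := ⟨1, fun v => by simp⟩
        mul_mem' := by
          rintro a b ⟨ν₁, h₁⟩ ⟨ν₂, h₂⟩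
          refine ⟨ν₁ * ν₂, fun v => ?_⟩
          rw [map_mul, Module.End.mul_apply, h₂, map_smul, h₁, smul_smul, mul_comm]
        inv_mem' := by
          rintro a ⟨ν, h⟩
          have hν : ν ≠ 0 := by
            rintro rfl
            obtain ⟨v, hv⟩ := exists_ne (0 : V)
            have h1 : ρ a⁻¹ (ρ a v) = v := by
              rw [← Module.End.mul_apply, ← map_mul]; simp
            rw [h v, zero_smul, map_zero] at h1
            exact hv h1.symm
          refine ⟨ν⁻¹, fun v => ?_⟩
          have h1 : ρ a⁻¹ (ρ a v) = v := by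
            rw [← Module.End.mul_apply, ← map_mul]; simp
          rw [h v, map_smul] at h1
          calc ρ a⁻¹ v = ν⁻¹ • (ν • ρ a⁻¹ v) := by rw [smul_smul, inv_mul_cancel₀ hν, one_smul]
            _ = ν⁻¹ • v := by rw [h1] }
    have hZn : Z.Normal := by
      constructor
      rintro n ⟨ν, h⟩ x
      refine ⟨ν, fun v => ?_⟩
      rw [map_mul, map_mul, Module.End.mul_apply, Module.End.mul_apply, h, map_smul,
        ← Module.End.mul_apply, ← map_mul]
      simp
    have hgZ : g ∈ Z := ⟨μ, hscal⟩
    have hZtop : Z = ⊤ := by
      rcases hZn.eq_bot_or_eq_top with h | h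
      · exfalso
        rw [h] at hgZ
        exact hg (Subgroup.mem_bot.mp hgZ)
      · exact h
    -- every subspace is invariant
    obtain ⟨v, hv⟩ := exists_ne (0 : V)
    have hinv : ∀ x : G, ∀ w ∈ Submodule.span ℂ {v}, ρ x w ∈ Submodule.span ℂ {v} := by
      intro x w hw
      have hx : x ∈ Z := by rw [hZtop]; trivial
      obtain ⟨ν, h⟩ := hx
      rw [h]
      exact Submodule.smul_mem _ _ hw
    rcases hirr _ hinv with h | h
    · exact hv ((Submodule.span_singleton_eq_bot).mp h)
    · have := finrank_span_singleton (K := ℂ) hv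
      rw [h, finrank_top] at this
      omega
  · intro c hc v hv
    rw [Module.End.mem_eigenspace_iff] at hv ⊢
    have hcg : c * g = g * c := by
      have := Subgroup.mem_centralizer_iff.mp hc g (Set.mem_singleton g)
      exact this.symm
    rw [← Module.End.mul_apply, ← map_mul, ← hcg, map_mul, Module.End.mul_apply, hv, map_smul]

end Cfsg.Agent.S5011
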