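import Cfsg.Statements.S5014
import Cfsg.Agent.H26.RankOne

set_option autoImplicit false
open Cfsg

namespace Cfsg.Agent.S5014

open Cfsg.Agent.H26

/-- Let X = ⟨A, B⟩ be a rank one group with unipotent subgroups A and B and let Ω be the set of conjugates of A under X. Then Ω has at least three members, X acts doubly transitively on Ω by conjugation (any two ordered pairs of distinct members are carried to one another by a single element of X), and A acts regularly on Ω with A removed: for C, D in Ω different from A there is exactly one element of A conjugating C to D. -/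
theorem result {G : Type*} [Group G] {A B : Subgroup G} (h : Cfsg.IsRankOnePair A B) :
    (∃ C₁ ∈ Cfsg.unipotentSubgroups A B, ∃ C₂ ∈ Cfsg.unipotentSubgroups A B, ∃ C₃ ∈ Cfsg.unipotentSubgroups A B,
      C₁ ≠ C₂ ∧ C₁ ≠ C₃ ∧ C₂ ≠ C₃) ∧
    (∀ C₁ ∈ Cfsg.unipotentSubgroups A B, ∀ C₂ ∈ Cfsg.unipotentSubgroups A B, ∀ D₁ ∈ Cfsg.unipotentSubgroups A B,
      ∀ D₂ ∈ Cfsg.unipotentSubgroups A B, C₁ ≠ C₂ → D₁ ≠ D₂ →
        ∃ x ∈ A ⊔ B, Cfsg.conjBy C₁ x = D₁ ∧ Cfsg.conjBy C₂ x = D₂) ∧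
    (∀ C ∈ Cfsg.unipotentSubgroups A B, ∀ D ∈ Cfsg.unipotentSubgroups A B, C ≠ A → D ≠ A →
      ∃! a : G, a ∈ A ∧ Cfsg.conjBy C a = D) := by
  refine ⟨?_, ?_, ?_⟩
  · obtain ⟨a, ha, ha1, hm, hneA, hneB⟩ := RankOne.three_members h
    exact ⟨A, self_mem_unipotentSubgroups A B, B, RankOne.right_mem_unipotentSubgroups h,
      conjBy B a, hm, h.ne, hneA.symm, hneB.symm⟩
  · intro C₁ hC₁ C₂ hC₂ D₁ hD₁ D₂ hD₂ hC hD
    exact RankOne.two_transitive h hC₁ hC₂ hD₁ hD₂ hC hD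
  · intro C hC D hD hCA hDA
    obtain ⟨a, ha, haa⟩ := RankOne.transitive_left h hC hCA hD hDA
    refine ⟨a, ⟨ha, haa⟩, ?_⟩
    rintro a' ⟨ha', haa'⟩
    have h1 : conjBy C (a⁻¹ * a') = C := by
      rw [← conjBy_conjBy, haa', ← haa, conjBy_conjBy, inv_mul_cancel, conjBy_one]
    have := RankOne.regular_left h hC hCA (A.mul_mem (A.inv_mem ha) ha') h1
    have h2 : a' = a * (a⁻¹ * a') := by group
    rw [h2, this]; group

end Cfsg.Agent.S5014
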