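import Cfsg.Statements.S5015
import Cfsg.Agent.H26.RankOne

set_option autoImplicit false
open Cfsg

namespace Cfsg.Agent.S5015

open Cfsg.Agent.H26

/-- Let a group Y act doubly transitively on a set Ω with at least three points, and suppose that the stabilizer of a point α contains a nilpotent subgroup A, normalized by that stabilizer, which acts regularly on the points other than α. Then for any y in Y moving α, the subgroups A and y A y⁻¹ are the unipotent subgroups of a rank one group, and the normal closure of A in Y (the subgroup generated by all conjugates of A) is generated by A and y A y⁻¹ alone. -/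
theorem result {Y Ω : Type*} [Group Y] [MulAction Y Ω]
    (h2 : MulAction.IsMultiplyPretransitive Y Ω 2) (hΩ : 3 ≤ ENat.card Ω) (α : Ω) (A : Subgroup Y)
    (hA : A ≤ MulAction.stabilizer Y α) (hAn : ∀ y ∈ MulAction.stabilizer Y α, Cfsg.conjBy A y = A)
    (hnil : Group.IsNilpotent A) (hreg : ∀ β γ : Ω, β ≠ α → γ ≠ α → ∃! a : Y, a ∈ A ∧ a • β = γ)
    (y : Y) (hy : y ∉ MulAction.stabilizer Y α) :
    Cfsg.IsRankOnePair A (Cfsg.conjBy A y) ∧ Subgroup.normalClosure (A : Set Y) = A ⊔ Cfsg.conjBy A y := by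
  classical
  set β := y • α with hβ
  have hβα : β ≠ α := by
    intro hh; exact hy (MulAction.mem_stabilizer_iff.mpr hh)
  set B := Cfsg.conjBy A y with hB
  -- (F1)
  have F1 : ∀ g g' : Y, g • α = g' • α → Cfsg.conjBy A g = Cfsg.conjBy A g' := by
    intro g g' hgg
    have hs : g⁻¹ * g' ∈ MulAction.stabilizer Y α := by
      rw [MulAction.mem_stabilizer_iff, mul_smul, ← hgg, inv_smul_smul]
    have : g' = g * (g⁻¹ * g') := by group
    rw [this, ← conjBy_conjBy, hAn _ hs]
  have F2 : ∀ a ∈ A, a • α = α := fun a ha => MulAction.mem_stabilizer_iff.mp (hA ha)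
  have F3 : ∀ b ∈ B, b • β = β := by
    intro b hb
    rw [hB, mem_conjBy] at hb
    have := F2 _ hb
    rw [mul_smul, mul_smul, inv_smul_eq_iff] at this
    exact this
  have F4 : ∀ δ : Ω, δ ≠ α → ∀ a ∈ A, a • δ = δ → a = 1 := by
    intro δ hδ a ha had
    obtain ⟨a₀, -, huniq⟩ := hreg δ δ hδ hδ
    rw [huniq a ⟨ha, had⟩, huniq 1 ⟨A.one_mem, one_smul _ _⟩]
  have F5 : ∀ γ δ : Ω, γ ≠ β → δ ≠ β → ∃ b ∈ B, b • γ = δ := by
    intro γ δ hγ hδ
    have hγ' : y⁻¹ • γ ≠ α := by
      intro hh; apply hγ; rw [hβ, ← hh, smul_inv_smul]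
    have hδ' : y⁻¹ • δ ≠ α := by
      intro hh; apply hδ; rw [hβ, ← hh, smul_inv_smul]
    obtain ⟨a, ⟨ha, haa⟩, -⟩ := hreg _ _ hγ' hδ'
    refine ⟨y * a * y⁻¹, conj_mem_conjBy ha, ?_⟩
    rw [mul_smul, mul_smul, haa, smul_inv_smul]
  have F5' : ∀ δ : Ω, δ ≠ β → ∀ b ∈ B, b • δ = δ → b = 1 := by
    intro δ hδ b hb hbd
    rw [hB, mem_conjBy] at hb
    have hδ' : y⁻¹ • δ ≠ α := by
      intro hh; apply hδ; rw [hβ, ← hh, smul_inv_smul]
    have := F4 _ hδ' _ hb (by rw [mul_smul, mul_smul, smul_inv_smul, hbd])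
    calc b = y * (y⁻¹ * b * y) * y⁻¹ := by group
      _ = 1 := by rw [this]; group
  -- a third point
  have F6 : ∃ γ : Ω, γ ≠ α ∧ γ ≠ β := by
    by_contra hcon
    push Not at hcon
    have hsub : (Set.univ : Set Ω) ⊆ {α, β} := by
      intro γ _
      by_cases hγ : γ = α
      · left; exact hγ
      · right; exact hcon γ hγ
    have h1 : (Set.univ : Set Ω).encard ≤ ({α, β} : Set Ω).encard := Set.encard_le_encard hsub
    rw [Set.encard_univ, Set.encard_pair hβα.symm] at h1
    have : (3 : ℕ∞) ≤ 2 := le_trans hΩ h1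
    exact absurd this (by decide)
  obtain ⟨γ₀, hγ₀α, hγ₀β⟩ := F6
  have hne : A ≠ B := by
    intro hAB
    obtain ⟨a, ⟨ha, haa⟩, -⟩ := hreg β γ₀ hβα hγ₀α
    have := F3 a (hAB ▸ ha)
    rw [haa] at this
    exact hγ₀β this
  have hnilB : Group.IsNilpotent B := by
    haveI := hnil
    exact Group.nilpotent_of_mulEquiv (A.equivMapOfInjective _ (MulAut.conj y).injective)
  have hpair : Cfsg.IsRankOnePair A B := by
    refine ⟨hne, hnil, hnilB, ?_, ?_⟩
    · intro a ha ha1
      have hγβ : a⁻¹ • β ≠ β := by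
        intro hh
        have := F4 β hβα a⁻¹ (A.inv_mem ha) hh
        exact ha1 (inv_eq_one.mp this)
      have hγα : a⁻¹ • β ≠ α := by
        intro hh
        apply hβα
        rw [inv_smul_eq_iff, F2 a ha] at hh
        exact hh
      obtain ⟨b', hb', hb'a⟩ := F5 α (a⁻¹ • β) hβα.symm hγβ
      refine ⟨b'⁻¹, B.inv_mem hb', ?_, ?_⟩
      · intro hh
        rw [inv_eq_one] at hh
        rw [hh, one_smul] at hb'a
        exact hγα hb'a.symm
      · rw [inv_inv, hB, conjBy_conjBy]
        apply F1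
        rw [hb'a, mul_smul]
    · intro b hb hb1
      have hγα : b⁻¹ • α ≠ α := by
        intro hh
        have := F5' α hβα.symm b⁻¹ (B.inv_mem hb) hh
        exact hb1 (inv_eq_one.mp this)
      have hγβ : b⁻¹ • α ≠ β := by
        intro hh
        apply hβα
        rw [inv_smul_eq_iff, F3 b hb] at hh
        exact hh.symm
      obtain ⟨a', ⟨ha', ha'a⟩, -⟩ := hreg β (b⁻¹ • α) hβα hγα
      refine ⟨a'⁻¹, A.inv_mem ha', ?_, ?_⟩
      · intro hh
        rw [inv_eq_one] at hh
        rw [hh, one_smul] at ha'a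
        exact hγβ ha'a.symm
      · rw [inv_inv, hB, conjBy_conjBy]
        apply F1
        rw [mul_smul, ha'a]
  refine ⟨hpair, ?_⟩
  -- every conjugate of A lies in A ⊔ B
  have hconj : ∀ g : Y, Cfsg.conjBy A g ≤ A ⊔ B := by
    intro g
    by_cases hg : g • α = α
    · rw [hAn g (MulAction.mem_stabilizer_iff.mpr hg)]; exact le_sup_left
    · obtain ⟨a, ⟨ha, haa⟩, -⟩ := hreg β (g • α) hβα hg
      have : Cfsg.conjBy A g = Cfsg.conjBy B a := by
        rw [hB, conjBy_conjBy]
        apply F1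
        rw [mul_smul, haa]
      rw [this]
      exact conjBy_le_of_mem le_sup_right (Subgroup.mem_sup_left ha)
  apply le_antisymm
  · rw [Subgroup.normalClosure, Subgroup.closure_le]
    intro x hx
    rw [Group.mem_conjugatesOfSet_iff] at hx
    obtain ⟨a, ha, hconj'⟩ := hx
    rw [isConj_iff] at hconj'
    obtain ⟨c, rfl⟩ := hconj'
    exact hconj c (conj_mem_conjBy ha)
  · rw [sup_le_iff]
    refine ⟨Subgroup.le_normalClosure, ?_⟩
    intro x hx
    rw [hB, mem_conjBy] at hx
    have h1 : y⁻¹ * x * y ∈ Subgroup.normalClosure (A : Set Y) := Subgroup.le_normalClosure hx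
    have h2 := (Subgroup.normalClosure_normal (s := (A : Set Y))).conj_mem _ h1 y
    have : y * (y⁻¹ * x * y) * y⁻¹ = x := by group
    rwa [this] at h2

end Cfsg.Agent.S5015
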