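import Cfsg.Statements.S5021
import Cfsg.Agent.H26.RankOne4

set_option autoImplicit false
open Cfsg

namespace Cfsg.Agent.S5021

/-- In a special rank one group with abelian unipotent subgroups A and B, either A is an elementary abelian p-group for some prime p, or A is torsion-free and divisible (every element of A has an n-th root in A for every positive n). -/
theorem result {X : Type*} [Group X] {A B : Subgroup X} (h : Cfsg.IsRankOneGroup X A B)
    (hs : Cfsg.IsSpecialRankOnePair A B) (hab : Cfsg.HasAbelianUnipotents A B) :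
    (∃ p : ℕ, p.Prime ∧ Cfsg.IsElementaryAbelian p A) ∨
    ((∀ a ∈ A, a ≠ 1 → ¬ IsOfFinOrder a) ∧ ∀ a ∈ A, ∀ n : ℕ, 0 < n → ∃ c ∈ A, c ^ n = a) := by
  open Cfsg.Agent.H26 in
  have hS : SAUS A B := saus_of hs hab
  -- divisibility helper: elements with nontrivial n-th power of the partner
  open Cfsg.Agent.H26 in
  have hroot : ∀ (n : ℕ) (u : X), u ∈ A → u ^ n ≠ 1 → ∃ w ∈ A, w ^ n = u := by
    intro n u hu hun
    have hu1 : u ≠ 1 := by
      intro hh; rw [hh, one_pow] at hun; exact hun rfl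
    obtain ⟨bu, hbu⟩ := exists_match_left hS.pair hu hu1
    have hbun : bu ^ n ≠ 1 := fun hh => hun ((hbu.pow_eq_one_iff hS n).mpr hh)
    obtain ⟨g, hg, hgn⟩ := powProp_all n hS.symm bu u hbu.symm hbun
    exact ⟨g, hg.2.2.1, hgn⟩
  by_cases hfin : ∃ a ∈ A, a ≠ 1 ∧ IsOfFinOrder a
  · left
    obtain ⟨a, ha, ha1, hfo⟩ := hfin
    have hn0 : orderOf a ≠ 0 := (orderOf_pos_iff.mpr hfo).ne'
    have hn1 : orderOf a ≠ 1 := fun hh => ha1 (orderOf_eq_one_iff.mp hh)
    have hp : (orderOf a).minFac.Prime := Nat.minFac_prime hn1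
    set p := (orderOf a).minFac with hpdef
    have hpn : p ∣ orderOf a := Nat.minFac_dvd _
    set a₀ := a ^ (orderOf a / p) with ha₀def
    have ho : orderOf a₀ = p := orderOf_pow_orderOf_div hn0 hpn
    have ha₀ : a₀ ∈ A := pow_mem ha _
    have ha₀1 : a₀ ≠ 1 := by
      intro hh
      rw [hh, orderOf_one] at ho
      exact hp.one_lt.ne ho
    have ha₀p : a₀ ^ p = 1 := by rw [← ho]; exact pow_orderOf_eq_one a₀
    -- a₀ is not a p-th power
    open Cfsg.Agent.H26 in
    have hnot : ∀ y ∈ A, y ^ p ≠ a₀ := by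
      intro y hy hyp
      have hy1 : y ≠ 1 := by
        intro hh; rw [hh, one_pow] at hyp; exact ha₀1 hyp.symm
      obtain ⟨by', hby⟩ := exists_match_left hS.pair hy hy1
      have hyp1 : y ^ p ≠ 1 := by rw [hyp]; exact ha₀1
      obtain ⟨f, hf, hfp⟩ := powProp_all p hS y by' hby hyp1
      rw [hyp] at hf
      have : f ^ p = 1 := (hf.pow_eq_one_iff hS p).mp ha₀p
      rw [this] at hfp
      exact hby.2.2.2.1 hfp.symm
    refine ⟨p, hp, hab.1, ?_⟩
    intro a' ha'
    by_contra hne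
    open Cfsg.Agent.H26 in
    have hcomm : Commute a₀ a' := hS.commA a₀ ha₀ a' ha'
    have h1 : (a₀ * a') ^ p ≠ 1 := by
      rw [hcomm.mul_pow, ha₀p, one_mul]; exact hne
    obtain ⟨w, hw, hwp⟩ := hroot p (a₀ * a') (mul_mem ha₀ ha') h1
    obtain ⟨w', hw', hwp'⟩ := hroot p a' ha' hne
    apply hnot (w * w'⁻¹) (mul_mem hw (inv_mem hw'))
    open Cfsg.Agent.H26 in
    have hc2 : Commute w w'⁻¹ := hS.commA w hw w'⁻¹ (inv_mem hw')
    rw [hc2.mul_pow, inv_pow, hwp, hwp', mul_inv_cancel_right]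
  · right
    refine ⟨fun a ha ha1 hfo => hfin ⟨a, ha, ha1, hfo⟩, ?_⟩
    intro a ha n hn
    by_cases ha1 : a = 1
    · exact ⟨1, one_mem _, by rw [ha1, one_pow]⟩
    · apply hroot n a ha
      intro hh
      exact hfin ⟨a, ha, ha1, isOfFinOrder_iff_pow_eq_one.mpr ⟨n, hn, hh⟩⟩

end Cfsg.Agent.S5021
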