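-- Statement S5022
import Cfsg.Statements.S5022
import Mathlib
import Cfsg.Agent.Lib.Helper6.SpecSL2B

set_option autoImplicit false
open Cfsg

namespace Cfsg.Agent.S5022

/-- Let X be a special rank one group with abelian unipotent subgroups A and B, where A is an elementary abelian p-group for the prime p. Then for every non-identity a in A and the non-identity b in B with b⁻¹ A b = a⁻¹ B a, the subgroup generated by a and b is isomorphic to SL₂(p) or to PSL₂(p). -/
theorem result {X : Type*} [Group X] {A B : Subgroup X} (h : Cfsg.IsRankOneGroup X A B)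
    (hs : Cfsg.IsSpecialRankOnePair A B) (hab : Cfsg.HasAbelianUnipotents A B)
    {p : ℕ} [Fact p.Prime] (hA : Cfsg.IsElementaryAbelian p A)
    {a b : X} (ha : a ∈ A) (ha1 : a ≠ 1) (hb : b ∈ B) (hb1 : b ≠ 1) (hab' : Cfsg.conjBy A b⁻¹ = Cfsg.conjBy B a⁻¹) :
    Nonempty (↥(Subgroup.closure ({a, b} : Set X)) ≃* Matrix.SpecialLinearGroup (Fin 2) (ZMod p)) ∨
    Nonempty (↥(Subgroup.closure ({a, b} : Set X)) ≃* Matrix.ProjectiveSpecialLinearGroup (Fin 2) (ZMod p)) := by
  open Cfsg.Agent.H26 Cfsg.Agent.Helper6.SpecSL2 in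
  have hS : SAUS A B := saus_of hs hab
  open Cfsg.Agent.H26 in
  have hm : Match A B a b := ⟨ha, ha1, hb, hb1, hab'⟩
  have hap : a ^ p = 1 := hA.2 a ha
  obtain ⟨φ, hrange, hker⟩ := Cfsg.Agent.Helper6.SpecSL2.exists_hom hS hm hap
  by_cases hk : φ.ker = ⊥
  · left
    have hinj : Function.Injective φ := (MonoidHom.ker_eq_bot_iff φ).mp hk
    exact ⟨((MonoidHom.ofInjective hinj).trans (MulEquiv.subgroupCongr hrange)).symm⟩
  · right
    have hkc : φ.ker = Subgroup.center (Matrix.SpecialLinearGroup (Fin 2) (ZMod p)) := by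
      apply le_antisymm hker
      obtain ⟨⟨g, hg⟩, hg1⟩ := (Subgroup.ne_bot_iff_exists_ne_one).mp hk
      have hg1' : g ≠ 1 := fun hh => hg1 (Subtype.ext hh)
      have hcen : ∀ z ∈ Subgroup.center (Matrix.SpecialLinearGroup (Fin 2) (ZMod p)),
          z = 1 ∨ (z : Matrix (Fin 2) (Fin 2) (ZMod p)) = -1 := by
        intro z hz
        rw [Matrix.SpecialLinearGroup.mem_center_iff] at hz
        obtain ⟨r, hr, hrz⟩ := hz
        rw [Fintype.card_fin, sq_eq_one_iff] at hr
        rcases hr with rfl | rfl
        · left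
          apply Subtype.ext
          rw [← hrz]
          simp
        · right
          rw [← hrz]
          ext i j
          fin_cases i <;> fin_cases j <;> simp
      have hgm : (g : Matrix (Fin 2) (Fin 2) (ZMod p)) = -1 := by
        rcases hcen g (hker hg) with h1 | h1
        · exact absurd h1 hg1'
        · exact h1
      intro z hz
      rcases hcen z hz with h1 | h1
      · rw [h1]; exact one_mem _
      · have : z = g := Subtype.ext (h1.trans hgm.symm)
        rw [this]; exact hg
    have e1 : Matrix.ProjectiveSpecialLinearGroup (Fin 2) (ZMod p) ≃* (Matrix.SpecialLinearGroup (Fin 2) (ZMod p) ⧸ φ.ker) :=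
      QuotientGroup.quotientMulEquivOfEq hkc.symm
    exact ⟨((e1.trans (QuotientGroup.quotientKerEquivRange φ)).trans (MulEquiv.subgroupCongr hrange)).symm⟩

end Cfsg.Agent.S5022
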