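import Cfsg.Statements.S5023
import Cfsg.Agent.H26.RankOne2

set_option autoImplicit false
open Cfsg

namespace Cfsg.Agent.S5023

/-- Let X be a rank one group with unipotent subgroups A and B that acts faithfully on an abelian group V (written additively) with A acting quadratically: a' • (a • v − v) = a • v − v for all a, a' in A and v in V. Then A is either torsion-free or an elementary abelian p-group for some prime p. -/
theorem result {X : Type*} [Group X] {A B : Subgroup X} (h : Cfsg.IsRankOneGroup X A B)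
    {V : Type*} [AddCommGroup V] [DistribMulAction X V] (hf : ∀ x : X, (∀ v : V, x • v = v) → x = 1)
    (hq : ∀ a ∈ A, ∀ a' ∈ A, ∀ v : V, a' • (a • v - v) = a • v - v) :
    (∀ a ∈ A, a ≠ 1 → ¬ IsOfFinOrder a) ∨ ∃ p : ℕ, p.Prime ∧ Cfsg.IsElementaryAbelian p A := by
  open Cfsg.Agent.H26 in
  have hA : QuadOn V A := (quadOn_iff A).mpr hq
  open Cfsg.Agent.H26 in
  have hB := quadOn_right h.2 hA
  -- faithfulness in ring form
  open Cfsg.Agent.H26 in
  have hfaith : ∀ x y : X, dE V x = dE V y → x = y := by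
    intro x y hxy
    have h1 : rho V x = rho V y := by rw [rho_eq, rho_eq, hxy]
    have h2 : x * y⁻¹ = 1 := by
      apply hf
      intro v
      have : rho V (x * y⁻¹) = 1 := by rw [map_mul, h1, rho_mul_inv]
      have := DFunLike.congr_fun this v
      exact this
    exact mul_inv_eq_one.mp h2
  open Cfsg.Agent.H26 in
  have hcomm : ∀ a ∈ A, ∀ a' ∈ A, a * a' = a' * a := by
    intro a ha a' ha'
    apply hfaith
    rw [dE_mul, dE_mul, hA a' ha' a ha, hA a ha a' ha', add_comm (dE V a)]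
  have hcommA : IsMulCommutative A := ⟨⟨fun a b => Subtype.ext (hcomm a.1 a.2 b.1 b.2)⟩⟩
  open Cfsg.Agent.H26 in
  have hnz : ¬ ∀ a' ∈ A, ∀ b' ∈ B, dE V a' * dE V b' = 0 ∧ dE V b' * dE V a' = 0 := by
    intro hz
    have hcab : ∀ a' ∈ A, ∀ b' ∈ B, a' * b' = b' * a' := by
      intro a' ha' b' hb'
      apply hfaith
      rw [dE_mul, dE_mul, (hz a' ha' b' hb').1, (hz a' ha' b' hb').2, add_comm (dE V a')]
    obtain ⟨a, ha1⟩ := (Subgroup.ne_bot_iff_exists_ne_one).mp (rankOnePair_ne_bot h.2)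
    obtain ⟨b, hb, hb1, hab⟩ := h.2.cond_left a.1 a.2 (fun hh => ha1 (Subtype.ext hh))
    apply h.2.ne
    have e1 : conjBy A b⁻¹ = A := by
      ext x
      constructor
      · intro hx
        obtain ⟨a', ha', rfl⟩ := exists_of_mem_conjBy_inv hx
        rw [mul_assoc, hcab a' ha' b hb, inv_mul_cancel_left]
        exact ha'
      · intro hx
        have := mem_conjBy_inv hx b
        rwa [mul_assoc, hcab x hx b hb, inv_mul_cancel_left] at this
    have e2 : conjBy B a.1⁻¹ = B := by
      ext x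
      constructor
      · intro hx
        obtain ⟨b', hb', rfl⟩ := exists_of_mem_conjBy_inv hx
        rw [mul_assoc, ← hcab a.1 a.2 b' hb', inv_mul_cancel_left]
        exact hb'
      · intro hx
        have := mem_conjBy_inv hx a.1
        rwa [mul_assoc, ← hcab a.1 a.2 x hx, inv_mul_cancel_left] at this
    rw [← e1, hab, e2]
  by_cases hfin : ∃ a ∈ A, a ≠ 1 ∧ IsOfFinOrder a
  · right
    obtain ⟨a, ha, ha1, hfo⟩ := hfin
    have hn0 : orderOf a ≠ 0 := (orderOf_pos_iff.mpr hfo).ne'
    have hn1 : orderOf a ≠ 1 := fun hh => ha1 (orderOf_eq_one_iff.mp hh)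
    have hp : (orderOf a).minFac.Prime := Nat.minFac_prime hn1
    set p := (orderOf a).minFac with hpdef
    have hpn : p ∣ orderOf a := Nat.minFac_dvd _
    set a₀ := a ^ (orderOf a / p) with ha₀def
    have ho : orderOf a₀ = p := orderOf_pow_orderOf_div hn0 hpn
    have ha₀ : a₀ ∈ A := pow_mem ha _
    have ha₀1 : a₀ ≠ 1 := by
      intro hh
      rw [hh, orderOf_one] at ho
      exact hp.one_lt.ne ho
    have ha₀p : a₀ ^ p = 1 := by rw [← ho]; exact pow_orderOf_eq_one a₀
    open Cfsg.Agent.H26 in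
    have hpα : p • dE V a₀ = 0 := by
      rw [← dE_pow_of_quad (hA a₀ ha₀ a₀ ha₀), ha₀p, dE_one]
    obtain ⟨b₀, hb₀, -, hab₀⟩ := h.2.cond_left a₀ ha₀ ha₀1
    refine ⟨p, hp, hcommA, ?_⟩
    intro a' ha'
    by_contra hne
    apply hnz
    open Cfsg.Agent.H26 in
    apply all_zero_of_R h.2 hA (pow_mem ha' p) hne
    intro b' hb'
    open Cfsg.Agent.H26 in
    rw [dE_pow_of_quad (hA a' ha' a' ha'), smul_mul_assoc, rel_one hA hB ha₀ hb₀ hab₀ ha' hb']
    open Cfsg.Agent.H26 in
    calc p • (dE V a' * dE V b₀ * dE V a₀ * dE V b')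
        = dE V a' * dE V b₀ * (p • dE V a₀) * dE V b' := by
          rw [mul_smul_comm, smul_mul_assoc]
      _ = 0 := by rw [hpα, mul_zero, zero_mul]
  · left
    intro a ha ha1 hfo
    exact hfin ⟨a, ha, ha1, hfo⟩

end Cfsg.Agent.S5023
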