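import Cfsg.Statements.S5024
import Cfsg.Agent.H26.RootSubA3

set_option autoImplicit false
open Cfsg

namespace Cfsg.Agent.S5024

open Cfsg.Agent.H26

/-- Let S be a set of abstract root subgroups of G, A and C members of S, B a rank one partner of A in S and D a rank one partner of C in S. If the rank one group ⟨A, B⟩ is contained in ⟨C, D⟩ then the two coincide, and C and D are conjugates of A inside ⟨A, B⟩. -/
theorem result {G : Type*} [Group G] {S : Set (Subgroup G)} (hS : Cfsg.IsRootSubgroupSet S)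
    {A B C D : Subgroup G} (hA : A ∈ S) (hC : C ∈ S) (hB : B ∈ Cfsg.rankOnePartners S A) (hD : D ∈ Cfsg.rankOnePartners S C)
    (hle : A ⊔ B ≤ C ⊔ D) : A ⊔ B = C ⊔ D ∧ C ∈ Cfsg.unipotentSubgroups A B ∧ D ∈ Cfsg.unipotentSubgroups A B := by
  obtain ⟨hBS, hAB⟩ := hB
  obtain ⟨hDS, hCD⟩ := hD
  have hAY : A ≤ C ⊔ D := le_trans le_sup_left hle
  have hBY : B ≤ C ⊔ D := le_trans le_sup_right hle
  have hAΩ : A ∈ Cfsg.unipotentSubgroups C D :=
    RootSet.mem_unipotentSubgroups_of_le hS hA hBS hC hDS hAB hCD hAY hBY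
  have hBΩ : B ∈ Cfsg.unipotentSubgroups C D :=
    RootSet.mem_unipotentSubgroups_of_le hS hBS hA hC hDS (Cfsg.RankOnePair_symm hAB) hCD hBY hAY
  obtain ⟨y, hy, hy1, hy2⟩ := RankOne.two_transitive hCD (self_mem_unipotentSubgroups C D)
    (RankOne.right_mem_unipotentSubgroups hCD) hAΩ hBΩ hCD.ne hAB.ne
  have heq : A ⊔ B = C ⊔ D := by
    rw [← hy1, ← hy2, ← conjBy_sup, conjBy_self_of_mem hy]
  have hyinv : y⁻¹ ∈ A ⊔ B := by rw [heq]; exact Subgroup.inv_mem _ hy
  refine ⟨heq, ?_, ?_⟩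
  · refine ⟨y⁻¹, hyinv, ?_⟩
    rw [← hy1, conjBy_conjBy, inv_mul_cancel, conjBy_one]
  · have hD' : D = Cfsg.conjBy B y⁻¹ := by
      rw [← hy2, conjBy_conjBy, inv_mul_cancel, conjBy_one]
    rw [hD']
    exact conjBy_mem_unipotentSubgroups (RankOne.right_mem_unipotentSubgroups hAB) hyinv

end Cfsg.Agent.S5024
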