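import Cfsg.Statements.S5026
import Cfsg.Agent.H26.RootSubA3

set_option autoImplicit false
open Cfsg

namespace Cfsg.Agent.S5026

open Cfsg.Agent.H26

/-- Let S be a degenerate set of abstract root subgroups of G (a set of abstract transvection groups) and let a, b be commuting non-identity elements of members of S with a b ≠ 1. Then the members of S centralizing a b are exactly those centralizing both a and b. -/
theorem result {G : Type*} [Group G] {S : Set (Subgroup G)} (hS : Cfsg.IsRootSubgroupSet S) (hdeg : Cfsg.IsDegenerateRootSet S)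
    {a b : G} (ha : a ∈ Cfsg.rootElements S) (hb : b ∈ Cfsg.rootElements S) (hab : a * b = b * a) (hab1 : a * b ≠ 1) :
    Cfsg.centralizingMembers S (Subgroup.zpowers (a * b)) =
      Cfsg.centralizingMembers S (Subgroup.zpowers a) ∩ Cfsg.centralizingMembers S (Subgroup.zpowers b) := by
  ext C
  simp only [Cfsg.centralizingMembers, Set.mem_ofPred_eq, Set.mem_inter_iff, le_centralizer_zpowers_iff]
  constructor
  · rintro ⟨hCS, hC⟩
    have hCa : ∀ c ∈ C, c * a = a * c := RootSet.centralizing_mul hS hdeg ha hb hab hab1 hCS hC
    refine ⟨⟨hCS, hCa⟩, hCS, ?_⟩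
    intro c hc
    have h1 := hC c hc
    have h2 := hCa c hc
    calc c * b = a⁻¹ * (a * c) * b := by group
      _ = a⁻¹ * (c * a) * b := by rw [h2]
      _ = a⁻¹ * (c * (a * b)) := by group
      _ = a⁻¹ * ((a * b) * c) := by rw [h1]
      _ = b * c := by group
  · rintro ⟨⟨hCS, hCa⟩, -, hCb⟩
    refine ⟨hCS, ?_⟩
    intro c hc
    calc c * (a * b) = (c * a) * b := by group
      _ = (a * c) * b := by rw [hCa c hc]
      _ = a * (c * b) := by group
      _ = a * (b * c) := by rw [hCb c hc]
      _ = a * b * c := by group

end Cfsg.Agent.S5026
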