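import Cfsg.Statements.S5027
import Cfsg.Agent.H26.RootSubA2

set_option autoImplicit false
open Cfsg

namespace Cfsg.Agent.S5027

open Cfsg.Agent.H26

/-- Let S be a set of abstract root subgroups of G such that every member of S has a rank one partner in S (the graph of rank one pairs on S has no isolated vertex). Then the second centre of G equals its centre. -/
theorem result {G : Type*} [Group G] {S : Set (Subgroup G)} (hS : Cfsg.IsRootSubgroupSet S)
    (hF : ∀ A ∈ S, ¬ Cfsg.IsIsolatedIn (Cfsg.FAdj S) S A) : Subgroup.upperCentralSeries G 2 = Subgroup.center G := by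
  have hF' : ∀ A ∈ S, ∃ B ∈ S, Cfsg.IsRankOnePair A B :=
    fun A hA => RootSet.partner_of_not_isolated hA (hF A hA)
  apply le_antisymm
  · intro z hz
    rw [show (2 : ℕ) = 1 + 1 from rfl, Subgroup.mem_upperCentralSeries_succ_iff] at hz
    apply RootSet.central_of_commutators_central hS hF'
    intro x
    have := hz x
    rw [Subgroup.upperCentralSeries_one, commutatorElement_def] at this
    exact this
  · rw [← Subgroup.upperCentralSeries_one]
    exact Subgroup.upperCentralSeries_mono G (by norm_num)

end Cfsg.Agent.S5027
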