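import Cfsg.Statements.S5035
import Cfsg.Agent.H26.RootSub1

set_option autoImplicit false
open Cfsg

namespace Cfsg.Agent.S5035

/-- Let S be a set of abstract root subgroups of G whose graph of rank one pairs is connected, and f a homomorphism from G onto a group H. Then either the images of the members of S form a set of abstract root subgroups of H whose graph of rank one pairs is again connected, or H equals the image of a member of S. -/
theorem result {G H : Type*} [Group G] [Group H] {S : Set (Subgroup G)} (hS : Cfsg.IsRootSubgroupSet S)
    (hc : Cfsg.IsConnectedFamily (Cfsg.FAdj S) S) (f : G →* H) (hf : Function.Surjective f) :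
    (Cfsg.IsRootSubgroupSet ((fun A : Subgroup G => A.map f) '' S) ∧
      Cfsg.IsConnectedFamily (Cfsg.FAdj ((fun A : Subgroup G => A.map f) '' S)) ((fun A : Subgroup G => A.map f) '' S)) ∨
    ∃ A ∈ S, A.map f = ⊤ := by
  open Cfsg.Agent.H26 in
  by_cases h0 : ∃ A ∈ S, A.map f = ⊥
  · right
    obtain ⟨A, hA, hA0⟩ := h0
    have hall' : ∀ B, Relation.ReflTransGen (Cfsg.FAdj S) A B → B.map f = ⊥ := by
      intro B hpath
      induction hpath with
      | refl => exact hA0
      | @tail B' C' _ hstep ih =>
        obtain ⟨g, rfl⟩ := rankOnePair_exists_conj hstep.2.2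
        rw [conjBy_map, ih]
        exact Subgroup.map_bot _
    have hall : ∀ B ∈ S, B.map f = ⊥ := fun B hB => hall' B (hc A hA B hB)
    have htop : (⊤ : Subgroup H) = ⊥ := by
      rw [← Subgroup.map_top_of_surjective f hf, ← hS.generates, Subgroup.map_iSup]
      apply le_antisymm _ bot_le
      apply iSup_le
      intro B
      rw [Subgroup.map_iSup]
      apply iSup_le
      intro hB
      rw [hall B hB]
    exact ⟨A, hA, by rw [hA0, htop]⟩
  · left
    push Not at h0
    have hroot : Cfsg.IsRootSubgroupSet ((fun A : Subgroup G => A.map f) '' S) := by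
      refine ⟨?_, ?_, ?_, ?_, ?_⟩
      · rintro _ ⟨A, hA, rfl⟩
        haveI := hS.commutative A hA
        exact Subgroup.map_isMulCommutative A f
      · rintro _ ⟨A, hA, rfl⟩
        exact h0 A hA
      · rw [iSup_image]
        have : (⨆ A ∈ S, (A.map f)) = (⨆ A ∈ S, A).map f := by
          rw [Subgroup.map_iSup]
          congr 1
          ext A
          rw [Subgroup.map_iSup]
        rw [this, hS.generates, Subgroup.map_top_of_surjective f hf]
      · rintro _ ⟨A, hA, rfl⟩ h
        obtain ⟨g, rfl⟩ := hf h
        exact ⟨conjBy A g, hS.conj_mem A hA g, conjBy_map f A g⟩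
      · rintro _ ⟨A, hA, rfl⟩ _ ⟨B, hB, rfl⟩
        rcases hS.pair A hA B hB with h1 | h1 | h1
        · left
          show ⁅A.map f, B.map f⁆ = ⊥
          rw [← map_commutator', h1, Subgroup.map_bot]
        · by_cases hne : A.map f = B.map f
          · left
            show ⁅A.map f, B.map f⁆ = ⊥
            rw [← hne]
            haveI := hS.commutative A hA
            have hcm : IsMulCommutative (A.map f) := Subgroup.map_isMulCommutative A f
            rw [Subgroup.commutator_eq_bot_iff_le_centralizer]
            intro x hx y hy
            have := hcm.is_comm.comm ⟨y, hy⟩ ⟨x, hx⟩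
            exact congrArg Subtype.val this
          · right; left
            exact rankOnePair_map h1 f hne
        · right; right
          exact rootCommutatorCase_map h1 f
    refine ⟨hroot, ?_⟩
    rintro _ ⟨A, hA, rfl⟩ _ ⟨B, hB, rfl⟩
    have hlift : ∀ B, Relation.ReflTransGen (Cfsg.FAdj S) A B →
        Relation.ReflTransGen (Cfsg.FAdj ((fun A : Subgroup G => A.map f) '' S)) (A.map f) (B.map f) := by
      intro B hpath
      induction hpath with
      | refl => exact Relation.ReflTransGen.refl
      | @tail B' C' _ hstep ih =>
        by_cases hne : B'.map f = C'.map f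
        · rw [← hne]; exact ih
        · exact Relation.ReflTransGen.tail ih
            ⟨⟨B', hstep.1, rfl⟩, ⟨C', hstep.2.1, rfl⟩, rankOnePair_map hstep.2.2 f hne⟩
    exact hlift B (hc A hA B hB)

end Cfsg.Agent.S5035
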