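import Cfsg.Statements.S5045
import Cfsg.Agent.H26.RootInv2

set_option autoImplicit false
open Cfsg

namespace Cfsg.Agent.S5045

/-- Let G be a finite group generated by a set D of root involutions, and W the set of members of D whose product with every other member of D has even order or is trivial (the isolated vertices of the odd-order-product graph on D). Then W is conjugation-invariant and generates a normal 2-subgroup of G meeting D in exactly W; the commutator of two members of D lying in different connected components of that graph, each with more than one member, lies in the subgroup generated by W; and for a in such a component, every member of D commuting with a, different from a and with product with a in D, lies in that component or in W. -/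
theorem result {G : Type*} [Group G] [Finite G] {D : Set G} (hD : Cfsg.IsRootInvolutionSet D) :
    (∀ w ∈ {w | Cfsg.IsIsolatedElem (Cfsg.OddAdj D) D w}, ∀ g : G, g * w * g⁻¹ ∈ {w | Cfsg.IsIsolatedElem (Cfsg.OddAdj D) D w}) ∧
    (Subgroup.closure {w | Cfsg.IsIsolatedElem (Cfsg.OddAdj D) D w}).Normal ∧
    IsPGroup 2 ↥(Subgroup.closure {w | Cfsg.IsIsolatedElem (Cfsg.OddAdj D) D w}) ∧
    (Subgroup.closure {w | Cfsg.IsIsolatedElem (Cfsg.OddAdj D) D w} : Set G) ∩ D = {w | Cfsg.IsIsolatedElem (Cfsg.OddAdj D) D w} ∧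
    (∀ a ∈ D, ∀ b ∈ D, (∃ a' ∈ Cfsg.elemComponentOf (Cfsg.OddAdj D) D a, a' ≠ a) →
      (∃ b' ∈ Cfsg.elemComponentOf (Cfsg.OddAdj D) D b, b' ≠ b) →
      Cfsg.elemComponentOf (Cfsg.OddAdj D) D a ≠ Cfsg.elemComponentOf (Cfsg.OddAdj D) D b →
        a * b * a⁻¹ * b⁻¹ ∈ Subgroup.closure {w | Cfsg.IsIsolatedElem (Cfsg.OddAdj D) D w}) ∧
    (∀ a ∈ D, (∃ a' ∈ Cfsg.elemComponentOf (Cfsg.OddAdj D) D a, a' ≠ a) →
      Cfsg.productPartners D a ⊆ Cfsg.elemComponentOf (Cfsg.OddAdj D) D a ∪ {w | Cfsg.IsIsolatedElem (Cfsg.OddAdj D) D w}) := by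
  classical
  open Cfsg.Agent.H26 in
  set W : Set G := {w | Cfsg.IsIsolatedElem (Cfsg.OddAdj D) D w} with hW
  have hWiff : ∀ w, w ∈ W ↔ w ∈ D ∧ ∀ b ∈ D, b ≠ w → ¬ Odd (orderOf (w * b)) := by
    intro w
    constructor
    · rintro ⟨hw, h⟩
      exact ⟨hw, fun b hb hne hodd => (h b).1 ⟨hw, hb, hne.symm, hodd⟩⟩
    · rintro ⟨hw, h⟩
      refine ⟨hw, fun b => ⟨?_, ?_⟩⟩
      · rintro ⟨-, hb, hne, hodd⟩; exact h b hb hne.symm hodd
      · rintro ⟨hb, -, hne, hodd⟩
        exact h b hb hne (by rwa [Cfsg.Agent.H26.orderOf_mul_comm_eq])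
  have hconj : ∀ w ∈ W, ∀ g : G, g * w * g⁻¹ ∈ W := by
    intro w hw g
    rw [hWiff] at hw ⊢
    refine ⟨hD.conj_mem w hw.1 g, fun b hb hne hodd => ?_⟩
    have hb' : g⁻¹ * b * g ∈ D := Cfsg.Agent.H26.ri_conj hD hb g
    have hne' : g⁻¹ * b * g ≠ w := by
      intro h; apply hne; rw [← h]; group
    apply hw.2 _ hb' hne'
    have : w * (g⁻¹ * b * g) = g⁻¹ * (g * w * g⁻¹ * b) * g⁻¹⁻¹ := by group
    rw [this, Cfsg.Agent.H26.orderOf_conj_eq]; exact hodd
  have hnormal : (Subgroup.closure W).Normal := Cfsg.Agent.H26.closure_normal_of_conj_inv hconj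
  have hpc : ∀ w ∈ W, w ∈ Cfsg.pCore 2 G := by
    haveI : Fact (Nat.Prime 2) := ⟨Nat.prime_two⟩
    apply Cfsg.Agent.Lib.Helper1.baer_suzuki W (fun g x hx => hconj x hx g)
    intro x hx y hy
    rw [hWiff] at hx hy
    apply Cfsg.Agent.H26.isPGroup_two_closure_pair (Cfsg.Agent.H26.ri_mul_self hD hx.1)
      (Cfsg.Agent.H26.ri_mul_self hD hy.1)
    rcases hD.pair x hx.1 y hy.1 with hc | ho | ⟨h4, -⟩
    · have := Cfsg.Agent.H26.ri_sq_of_comm hD hx.1 hy.1 hc
      rw [show 4 = 2 * 2 from rfl, pow_mul, this, one_pow]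
    · by_cases hxy : y = x
      · subst hxy; rw [Cfsg.Agent.H26.ri_mul_self hD hx.1, one_pow]
      · exact absurd ho (hx.2 y hy.1 hxy)
    · rw [← h4]; exact pow_orderOf_eq_one _
  have hle : Subgroup.closure W ≤ Cfsg.pCore 2 G := (Subgroup.closure_le _).mpr hpc
  have hp : IsPGroup 2 ↥(Subgroup.closure W) := (Cfsg.Agent.Lib.Helper1.pCore_isPGroup 2).to_le hle
  have h4 : (Subgroup.closure W : Set G) ∩ D = W := by
    apply Set.Subset.antisymm
    · rintro d ⟨hdN, hdD⟩
      rw [hWiff]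
      refine ⟨hdD, fun b hb hne hodd => ?_⟩
      -- (d b)^2 = d * (b d b⁻¹) ∈ N
      have hmem : (d * b) ^ 2 ∈ Subgroup.closure W := by
        have h1 : (d * b) ^ 2 = d * (b * d * b⁻¹) := by
          rw [Cfsg.Agent.H26.ri_inv hD hb, sq]; group
        rw [h1]
        exact Subgroup.mul_mem _ hdN (hnormal.conj_mem d hdN b)
      obtain ⟨k, hk⟩ := hp ⟨(d * b) ^ 2, hmem⟩
      have hk' : ((d * b) ^ 2) ^ (2 ^ k) = 1 := by
        have := congrArg Subtype.val hk
        simpa using this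
      have hdvd : orderOf ((d * b) ^ 2) ∣ 2 ^ k := orderOf_dvd_of_pow_eq_one hk'
      have hodd2 : Odd (orderOf ((d * b) ^ 2)) := Cfsg.Agent.H26.odd_orderOf_sq hodd
      have hcop : Nat.Coprime (orderOf ((d * b) ^ 2)) (2 ^ k) :=
        Nat.Coprime.pow_right k hodd2.coprime_two_right
      have h1 : orderOf ((d * b) ^ 2) = 1 := Nat.Coprime.eq_one_of_dvd hcop hdvd
      have h2 : (d * b) ^ 2 = 1 := orderOf_eq_one_iff.mp h1
      have h3 := Cfsg.Agent.H26.odd_orderOf_eq_one_of_sq hodd h2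
      apply hne
      have : d = b⁻¹ := eq_inv_of_mul_eq_one_left h3
      rw [this, Cfsg.Agent.H26.ri_inv hD hb]
    · intro w hw
      exact ⟨Subgroup.subset_closure hw, ((hWiff w).mp hw).1⟩
  have h6 : ∀ a ∈ D, (∃ a' ∈ Cfsg.elemComponentOf (Cfsg.OddAdj D) D a, a' ≠ a) →
      Cfsg.productPartners D a ⊆ Cfsg.elemComponentOf (Cfsg.OddAdj D) D a ∪ W := by
    rintro a ha ⟨a', ha', hne⟩ e he
    obtain ⟨⟨heD, hcomm, hea⟩, hprod⟩ := he
    by_cases heW : e ∈ W
    · exact Or.inr heW
    · left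
      refine ⟨heD, ?_⟩
      obtain ⟨g, hag⟩ : ∃ g, Cfsg.OddAdj D a g := by
        rcases Relation.ReflTransGen.cases_head ha'.2 with h | ⟨c, hac, -⟩
        · exact absurd h.symm hne
        · exact ⟨c, hac⟩
      obtain ⟨f, hef⟩ : ∃ f, Cfsg.OddAdj D e f := by
        by_contra hcon
        push Not at hcon
        exact heW ⟨heD, fun b => ⟨hcon b, fun h => hcon b (Cfsg.Agent.H26.oddAdj_symm h)⟩⟩
      exact Cfsg.Agent.H26.ri_line_conn hD ha heD (by rw [← hcomm]; exact hprod) hcomm.symm hag hef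
  refine ⟨hconj, hnormal, hp, h4, ?_, h6⟩
  intro a ha b hb hna hnb hcomp
  have ha2 := Cfsg.Agent.H26.ri_mul_self hD ha
  have hb2 := Cfsg.Agent.H26.ri_mul_self hD hb
  have hcomm_eq : a * b * a⁻¹ * b⁻¹ = (a * b) ^ 2 := by
    rw [Cfsg.Agent.H26.ri_inv hD ha, Cfsg.Agent.H26.ri_inv hD hb, sq]; group
  rw [hcomm_eq]
  rcases hD.pair a ha b hb with hc | ho | ⟨h4o, hsq⟩
  · rw [Cfsg.Agent.H26.ri_sq_of_comm hD ha hb hc]; exact Subgroup.one_mem _
  · exfalso
    apply hcomp
    by_cases hab : a = b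
    · rw [hab]
    · exact Cfsg.Agent.H26.elemComponentOf_eq_of_conn (Relation.ReflTransGen.single ⟨ha, hb, hab, ho⟩)
  · -- c = (ab)^2 ∈ X_a ∩ X_b
    have h1 : (a * b) ^ 4 = 1 := by rw [← h4o]; exact pow_orderOf_eq_one _
    set c := (a * b) ^ 2 with hc
    have hc2 : c * c = 1 := by
      rw [hc, ← pow_add]; exact h1
    have hcne : c ≠ 1 := Cfsg.Agent.H26.ri_ne_one hD hsq
    have hca : c * a = a * (b * a * b⁻¹) * a⁻¹ := by
      rw [Cfsg.Agent.H26.ri_inv hD ha, Cfsg.Agent.H26.ri_inv hD hb, hc, sq]; group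
    have hcaD : c * a ∈ D := by
      rw [hca]; exact hD.conj_mem _ (hD.conj_mem a ha b) a
    have hcb : c * b = a * b * a⁻¹ := by
      rw [Cfsg.Agent.H26.ri_inv hD ha, hc, sq]
      calc a * b * (a * b) * b = a * b * a * (b * b) := by group
        _ = a * b * a := by rw [hb2, mul_one]
    have hcbD : c * b ∈ D := by
      rw [hcb]; exact hD.conj_mem b hb a
    have hca_comm : c * a = a * c := by
      -- a c a = c⁻¹ = c
      have h2 : a * c * a = c⁻¹ := by
        apply eq_inv_of_mul_eq_one_left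
        rw [hc, sq]
        calc a * (a * b * (a * b)) * a * (a * b * (a * b)) = (a * a) * b * a * b * (a * a) * b * a * b := by group
          _ = b * (a * b * (b * a)) * b := by rw [ha2]; group
          _ = 1 := by
            have : a * b * (b * a) = 1 := by
              calc a * b * (b * a) = a * (b * b) * a := by group
                _ = 1 := by rw [hb2, mul_one, ha2]
            rw [this, mul_one, hb2]
      have h3 : c⁻¹ = c := inv_eq_of_mul_eq_one_left hc2
      rw [h3] at h2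
      calc c * a = (a * c * a) * a := by rw [h2]
        _ = a * c * (a * a) := by group
        _ = a * c := by rw [ha2, mul_one]
    have hcb_comm : c * b = b * c := by
      have h2 : b * c * b = c⁻¹ := by
        apply eq_inv_of_mul_eq_one_left
        rw [hc, sq]
        calc b * (a * b * (a * b)) * b * (a * b * (a * b)) = b * a * b * a * (b * b) * a * b * a * b := by group
          _ = b * a * b * (a * a) * b * a * b := by rw [hb2]; group
          _ = b * a * (b * b) * a * b := by rw [ha2]; group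
          _ = b * (a * a) * b := by rw [hb2]; group
          _ = 1 := by rw [ha2, mul_one, hb2]
      have h3 : c⁻¹ = c := inv_eq_of_mul_eq_one_left hc2
      rw [h3] at h2
      calc c * b = (b * c * b) * b := by rw [h2]
        _ = b * c * (b * b) := by group
        _ = b * c := by rw [hb2, mul_one]
    have hc_ne_a : c ≠ a := by
      intro h
      -- c a = 1 ∈ D impossible
      rw [h, ha2] at hcaD
      exact Cfsg.Agent.H26.ri_ne_one hD hcaD rfl
    have hc_ne_b : c ≠ b := by
      intro h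
      rw [h, hb2] at hcbD
      exact Cfsg.Agent.H26.ri_ne_one hD hcbD rfl
    have hXa : c ∈ Cfsg.productPartners D a := ⟨⟨hsq, hca_comm, hc_ne_a⟩, hcaD⟩
    have hXb : c ∈ Cfsg.productPartners D b := ⟨⟨hsq, hcb_comm, hc_ne_b⟩, hcbD⟩
    rcases h6 a ha hna hXa with hca' | hcW
    · rcases h6 b hb hnb hXb with hcb' | hcW
      · exfalso
        apply hcomp
        rw [Cfsg.Agent.H26.elemComponentOf_eq_of_conn hca'.2, Cfsg.Agent.H26.elemComponentOf_eq_of_conn hcb'.2]
      · exact Subgroup.subset_closure hcW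
    · exact Subgroup.subset_closure hcW

end Cfsg.Agent.S5045
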