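-- Statement S5046 (row 5046): Timmesfeld (2.3), E_d described by C_D(d) ∪ V_d.
import Cfsg.Statements.S5046
import Cfsg.Agent.Lib.Helper3.Red.Main

set_option autoImplicit false
open Cfsg

namespace Cfsg.Agent.S5046

/-- Let G be a finite group generated by a set D of root involutions whose odd-order-product graph is connected, and d ∈ D. Then the members e of D with the same commuting members as d are exactly those for which the union of the commuting members of d and the members whose product with d has order 4 equals the corresponding union for e. -/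
theorem result {G : Type*} [Group G] [Finite G] {D : Set G} (hD : Cfsg.IsRootInvolutionSet D)
    (hc : Cfsg.IsConnectedSet (Cfsg.OddAdj D) D) {d : G} (hd : d ∈ D) :
    Cfsg.sameCommutingClass D d =
      {e | e ∈ D ∧ Cfsg.commutingMembers D d ∪ Cfsg.fourPartners D d = Cfsg.commutingMembers D e ∪ Cfsg.fourPartners D e} := by
  ext e
  simp only [sameCommutingClass, Set.mem_ofPred_eq]
  constructor
  · rintro ⟨he, hC⟩
    exact ⟨he, (Cfsg.Agent.Lib.Helper3.Red.union_eq_iff hD hd he).2
      (Cfsg.Agent.Lib.Helper3.Red.odd_eq_of_comm_eq hD hd he hC)⟩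
  · rintro ⟨he, hU⟩
    have hA := (Cfsg.Agent.Lib.Helper3.Red.union_eq_iff hD hd he).1 hU
    exact ⟨he, Set.Subset.antisymm
      (Cfsg.Agent.Lib.Helper3.Red.comm_subset_of_odd_eq hD hc hd he hA)
      (Cfsg.Agent.Lib.Helper3.Red.comm_subset_of_odd_eq hD hc he hd hA.symm)⟩

end Cfsg.Agent.S5046
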