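import Cfsg.Statements.S5047
import Cfsg.Agent.S5046
import Cfsg.Agent.Lib.Helper2.RedPART
import Cfsg.Agent.Lib.Helper4.RedCONJ
import Cfsg.Agent.Lib.Helper2.Ri24

set_option autoImplicit false
open Cfsg

namespace Cfsg.Agent.S5047

/-- Let G be a finite group generated by a set D of root involutions whose odd-order-product graph is connected, a ∈ D, and b a member of D different from a, commuting with a, with ab ∈ D, but not having the same commuting members as a. Then some member x of D with bx of order 4 has ax of order 3. -/
theorem result {G : Type*} [Group G] [Finite G] {D : Set G} (hD : Cfsg.IsRootInvolutionSet D)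
    (hc : Cfsg.IsConnectedSet (Cfsg.OddAdj D) D) {a b : G} (ha : a ∈ D) (hb : b ∈ Cfsg.productPartners D a)
    (hbE : b ∉ Cfsg.sameCommutingClass D a) : ∃ x ∈ Cfsg.fourPartners D b, orderOf (a * x) = 3 := by
  have hbD : b ∈ D := hb.1.1
  have hcard : ∀ a ∈ D, ∀ b ∈ D, (oddPartners D a).ncard = (oddPartners D b).ncard :=
    fun a ha b hb => Cfsg.Agent.Lib.Helper3.Red.ncard_oddPartners_eq hD hc ha hb
  -- Timmesfeld (2.3) = S5046: equal odd partners force equal commuting members
  have h23 : ∀ d ∈ D, ∀ e ∈ D, oddPartners D d = oddPartners D e →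
      commutingMembers D d = commutingMembers D e := by
    intro d hd e he h
    have hmem : e ∈ sameCommutingClass D d := by
      rw [Cfsg.Agent.S5046.result hD hc hd]
      exact ⟨he, (Cfsg.Agent.Lib.Helper3.Red.union_eq_iff hD hd he).mpr h⟩
    exact hmem.2
  have hne : oddPartners D a ≠ oddPartners D b := fun h => hbE ⟨hbD, h23 a ha b hbD h⟩
  exact Cfsg.Agent.Lib.Helper2.Ri24.exists_order_three hD hcard h23 ha hb hne

end Cfsg.Agent.S5047
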