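import Cfsg.Statements.S5048
import Cfsg.Agent.Lib.Helper26.RootInvNormal

set_option autoImplicit false
open Cfsg

namespace Cfsg.Agent.S5048

open Cfsg.Agent.H26 Cfsg.Agent.Lib.Helper26.RIN Cfsg.Agent.Lib.Helper3.Red
open scoped commutatorElement

/-- Let G be a finite group generated by a set D of root involutions whose odd-order-product graph is connected, with some product of two different commuting members of D again in D. Then the largest solvable normal subgroup of G is the preimage of the centre of G/O₂(G), and the quotient of G by it is a simple group. -/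
theorem result {G : Type*} [Group G] [Finite G] {D : Set G} (hD : Cfsg.IsRootInvolutionSet D)
    (hc : Cfsg.IsConnectedSet (Cfsg.OddAdj D) D) (hDD : (D ∩ Cfsg.commutingProducts D).Nonempty) :
    Cfsg.solvableRadical G = Cfsg.twoZCore G ∧ IsSimpleGroup (G ⧸ Cfsg.twoZCore G) := by
  classical
  haveI : Fact (Nat.Prime 2) := ⟨Nat.prime_two⟩
  -- a line `a, b, a b` in `D`
  obtain ⟨x, hxD, a, ha, b, hb, hab, hab1, rfl⟩ := hDD
  have hane : a ≠ b := by
    intro h
    subst h
    exact hab1 (ri_mul_self hD ha)
  -- every member of `D` has a line partner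
  have hX : ∀ d ∈ D, ∃ b' ∈ D, b' * d ∈ D ∧ b' * d = d * b' := by
    intro d hd
    obtain ⟨w, rfl⟩ := conj_of_conn hD hc ha hd
    refine ⟨w * b * w⁻¹, hD.conj_mem b hb w, ?_, ?_⟩
    · have h1 : w * b * w⁻¹ * (w * a * w⁻¹) = w * (b * a) * w⁻¹ := by group
      rw [h1, ← hab]
      exact hD.conj_mem _ hxD w
    · have h1 : w * b * w⁻¹ * (w * a * w⁻¹) = w * (b * a) * w⁻¹ := by group
      have h2 : w * a * w⁻¹ * (w * b * w⁻¹) = w * (a * b) * w⁻¹ := by group
      rw [h1, h2, hab]
  -- normal subgroups missing `D` lie in `O_{2,Z}(G)`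
  have hA : ∀ N : Subgroup G, N.Normal → (∀ x ∈ D, x ∉ N) → N ≤ twoZCore G := by
    intro N hN hND
    haveI := hN
    apply le_twoZCore hD N
    intro d hd n hn
    obtain ⟨b', hb', hbd, hcomm⟩ := hX d hd
    exact comm_conj_of_normal hD N hND hd hb' hbd hcomm hn
  -- normal subgroups meeting `D` are everything
  have hB : ∀ N : Subgroup G, N.Normal → (∃ x ∈ D, x ∈ N) → N = ⊤ := by
    rintro N hN ⟨x, hx, hxN⟩
    rw [eq_top_iff, ← hD.generates, Subgroup.closure_le]
    intro d hd
    obtain ⟨w, rfl⟩ := conj_of_conn hD hc hx hd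
    exact hN.conj_mem x hxN w
  -- an odd edge at `a`
  obtain ⟨c, hac⟩ : ∃ c, OddAdj D a c := by
    have hpath := hc a ha b hb
    rcases Relation.ReflTransGen.cases_head hpath with h | ⟨c, hc1, -⟩
    · exact absurd h hane
    · exact ⟨c, hc1⟩
  have hcD : c ∈ D := hac.2.1
  have hac_ne : a ≠ c := hac.2.2.1
  have hodd : Odd (orderOf (a * c)) := hac.2.2.2
  have hOn : (pCore 2 G).Normal := Cfsg.Agent.Lib.Helper1.pCore_normal 2
  have hOp : IsPGroup 2 (pCore 2 G) := Cfsg.Agent.Lib.Helper1.pCore_isPGroup 2
  have hainv := ri_inv hD ha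
  have hcinv := ri_inv hD hcD
  -- `a c ∉ O_{2,Z}(G)`
  have hr : a * c ∉ twoZCore G := by
    intro hmem
    have h1 : (QuotientGroup.mk' (pCore 2 G)) (a * c) ∈ Subgroup.center (G ⧸ pCore 2 G) := hmem
    rw [Subgroup.mem_center_iff] at h1
    have h2 := h1 ((QuotientGroup.mk' (pCore 2 G)) a)
    have h3 : (QuotientGroup.mk' (pCore 2 G)) (a * (a * c))
        = (QuotientGroup.mk' (pCore 2 G)) (a * c * a) := by
      rw [map_mul (QuotientGroup.mk' (pCore 2 G)) a (a * c),
        map_mul (QuotientGroup.mk' (pCore 2 G)) (a * c) a]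
      exact h2
    have h4 : (a * (a * c))⁻¹ * (a * c * a) ∈ pCore 2 G := QuotientGroup.eq.1 h3
    have h5 : (a * (a * c))⁻¹ * (a * c * a) = (c * a) ^ 2 := by
      have e1 : a * (a * c) = c := by rw [← mul_assoc, ri_mul_self hD ha, one_mul]
      rw [e1, hcinv, sq]
      group
    rw [h5] at h4
    obtain ⟨k, hk⟩ := hOp ⟨(c * a) ^ 2, h4⟩
    have hk' : ((c * a) ^ 2) ^ (2 ^ k) = 1 := by
      have := congrArg Subtype.val hk
      simpa using this
    have hdvd : orderOf ((c * a) ^ 2) ∣ 2 ^ k := orderOf_dvd_of_pow_eq_one hk'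
    have hodd' : Odd (orderOf (c * a)) := by rw [orderOf_mul_comm_eq]; exact hodd
    have hodd2 : Odd (orderOf ((c * a) ^ 2)) := odd_orderOf_sq hodd'
    have hcop : Nat.Coprime (orderOf ((c * a) ^ 2)) (2 ^ k) :=
      Nat.Coprime.pow_right k (Nat.coprime_two_right.2 hodd2)
    have h6 : orderOf ((c * a) ^ 2) = 1 := Nat.Coprime.eq_one_of_dvd hcop hdvd
    have h7 : (c * a) ^ 2 = 1 := orderOf_eq_one_iff.1 h6
    have h8 : c * a = 1 := odd_orderOf_eq_one_of_sq hodd' h7
    have h9 : c = a⁻¹ := eq_inv_of_mul_eq_one_left h8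
    rw [hainv] at h9
    exact hac_ne h9.symm
  -- `a c` is a commutator
  have hrc : a * c ∈ commutator G := by
    obtain ⟨w, hw⟩ := conj_of_oddAdj hD hac
    have h1 : a * c = ⁅a, w⁆ := by
      rw [hw, commutatorElement_def, hainv]
      group
    rw [h1]
    exact Subgroup.commutator_mem_commutator (Subgroup.mem_top a) (Subgroup.mem_top w)
  -- `G` is perfect
  have hperf : commutator G = ⊤ := by
    by_contra hne
    have hND : ∀ x ∈ D, x ∉ commutator G := by
      intro x hx hxN
      exact hne (hB _ inferInstance ⟨x, hx, hxN⟩)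
    exact hr (hA _ inferInstance hND hrc)
  have hnontriv : Nontrivial G := ⟨⟨a, 1, ri_ne_one hD ha⟩⟩
  have hnotsolv : ¬ Group.IsSolvable G := by
    intro hs
    haveI := hs
    exact (Group.IsSolvable.commutator_lt_top_of_nontrivial G).ne hperf
  refine ⟨?_, ?_⟩
  · -- the solvable radical
    apply le_antisymm
    · apply sSup_le
      rintro N ⟨hN, hNs⟩
      by_cases hND : ∃ x ∈ D, x ∈ N
      · exfalso
        have htop := hB N hN hND
        subst htop
        apply hnotsolv
        haveI := hNs
        exact Group.isSolvable_of_surjective (f := (Subgroup.topEquiv (G := G)).toMonoidHom)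
          (Subgroup.topEquiv (G := G)).surjective
      · push Not at hND
        exact hA N hN hND
    · apply le_sSup
      exact ⟨inferInstance, twoZCore_isSolvable⟩
  · -- simplicity of the quotient
    refine { exists_pair_ne := ?_, eq_bot_or_eq_top_of_normal := ?_ }
    · refine ⟨(QuotientGroup.mk' (twoZCore G)) (a * c), 1, ?_⟩
      intro h
      exact hr ((QuotientGroup.eq_one_iff _).1 h)
    · intro H hH
      have hMn : (H.comap (QuotientGroup.mk' (twoZCore G))).Normal := hH.comap _
      by_cases hND : ∃ x ∈ D, x ∈ H.comap (QuotientGroup.mk' (twoZCore G))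
      · right
        have htop := hB _ hMn hND
        have := Subgroup.map_comap_eq_self_of_surjective
          (QuotientGroup.mk'_surjective (twoZCore G)) H
        rw [htop] at this
        rw [← this, ← MonoidHom.range_eq_map, MonoidHom.range_eq_top]
        exact QuotientGroup.mk'_surjective _
      · left
        push Not at hND
        have hle := hA _ hMn hND
        rw [eq_bot_iff]
        intro q hq
        obtain ⟨g, rfl⟩ := QuotientGroup.mk'_surjective (twoZCore G) q
        have hg : g ∈ H.comap (QuotientGroup.mk' (twoZCore G)) := hq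
        rw [Subgroup.mem_bot]
        exact (QuotientGroup.eq_one_iff g).2 (hle hg)

end Cfsg.Agent.S5048
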