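import Cfsg.Statements.S5049
-- import your own Cfsg.Agent.* helpers here

set_option autoImplicit false
open Cfsg

namespace Cfsg.Agent.S5049

open scoped commutatorElement

theorem eq_one_of_two_pow_of_odd {G : Type*} [Group G] {x : G} {k m : ℕ} (h2 : x ^ (2 ^ k) = 1)
    (hm : Odd m) (h : x ^ m = 1) : x = 1 := by
  have h1 : orderOf x ∣ 2 ^ k := orderOf_dvd_of_pow_eq_one h2
  have h3 : orderOf x ∣ m := orderOf_dvd_of_pow_eq_one h
  have hc : Nat.Coprime m (2 ^ k) := Nat.Coprime.pow_right k hm.coprime_two_right
  have h4 := Nat.dvd_gcd h3 h1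
  rw [hc] at h4
  exact orderOf_eq_one_iff.mp (Nat.dvd_one.mp h4)

/-- Let G be a finite group generated by a set D of odd transpositions (root involutions with no product of order 4), Q = O₂(G), and for a ∈ D let Q_a be the commutator subgroup of Q with a. Then every member of D commuting with a centralizes Q_a; and for b ∈ D with ab of odd order greater than 1, the centralizer of ab in Q is the intersection of the centralizers of a and b in Q. -/
theorem result {G : Type*} [Group G] [Finite G] {D : Set G} (hD : Cfsg.IsOddTranspositionSet D) {a : G} (ha : a ∈ D) :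
    (∀ e ∈ Cfsg.commutingMembers D a, ∀ q ∈ ⁅Cfsg.pCore 2 G, Subgroup.zpowers a⁆, e * q = q * e) ∧
    (∀ b ∈ Cfsg.oddPartners D a,
      Cfsg.pCore 2 G ⊓ Subgroup.centralizer {a * b} = Cfsg.pCore 2 G ⊓ Subgroup.centralizer {a} ⊓ Subgroup.centralizer {b}) := by
  obtain ⟨hR, h4⟩ := hD
  have hQn : (Cfsg.pCore 2 G).Normal := Subgroup.sSup_normal _ (fun _ h => h.1)
  have hQp : IsPGroup 2 (Cfsg.pCore 2 G) := Sylow.sSup_of_normal _ (fun _ h => h.2) (fun _ h => h.1)
  have hinv : ∀ d ∈ D, d * d = 1 := by
    intro d hd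
    have := hR.orderOf_eq d hd
    rw [← sq, ← this]; exact pow_orderOf_eq_one d
  have hinv' : ∀ d ∈ D, d⁻¹ = d := fun d hd => inv_eq_of_mul_eq_one_right (hinv d hd)
  have hQpow : ∀ q ∈ Cfsg.pCore 2 G, ∃ k : ℕ, q ^ (2 ^ k) = 1 := by
    intro q hq
    obtain ⟨k, hk⟩ := hQp ⟨q, hq⟩
    exact ⟨k, congrArg Subtype.val hk⟩
  have hpair : ∀ x ∈ D, ∀ y ∈ D, x * y = y * x ∨ Odd (orderOf (x * y)) := by
    intro x hx y hy
    rcases hR.pair x hx y hy with h | h | ⟨h, -⟩
    · exact Or.inl h
    · exact Or.inr h
    · exact absurd h (h4 x hx y hy)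
  constructor
  · -- Part 1
    rintro e ⟨heD, hea⟩ q hq
    have hle : ⁅Cfsg.pCore 2 G, Subgroup.zpowers a⁆ ≤ Subgroup.centralizer {e} := by
      rw [Subgroup.commutator_le]
      intro x hx z hz
      obtain ⟨z, rfl⟩ := Subgroup.mem_zpowers_iff.mp hz
      have hz2 : a ^ z = a ^ (z % (2 : ℤ)) := by
        have := zpow_mod_orderOf a z
        rw [hR.orderOf_eq a ha] at this
        exact_mod_cast this.symm
      rcases Int.emod_two_eq_zero_or_one z with h0 | h1
      · rw [hz2, h0, zpow_zero, commutatorElement_one_right]; exact Subgroup.one_mem _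
      · rw [hz2, h1, zpow_one, Subgroup.mem_centralizer_singleton_iff]
        have ha'D : x * a * x⁻¹ ∈ D := hR.conj_mem a ha x
        have hcomm : e * (x * a * x⁻¹) = (x * a * x⁻¹) * e := by
          rcases hpair e heD _ ha'D with h | h
          · exact h
          · -- odd order and 2-power order, so trivial
            have hu : a * (x * a * x⁻¹) ∈ Cfsg.pCore 2 G := by
              have h1 : a * x * a⁻¹ ∈ Cfsg.pCore 2 G := hQn.conj_mem x hx a
              have h2 := Subgroup.mul_mem _ h1 (Subgroup.inv_mem _ hx)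
              rw [hinv' a ha] at h2
              have e1 : a * (x * a * x⁻¹) = a * x * a * x⁻¹ := by group
              rw [e1]; exact h2
            have htt : (e * a) * (e * a) = 1 := by
              calc (e * a) * (e * a) = e * (a * e) * a := by group
                _ = e * (e * a) * a := by rw [hea]
                _ = (e * e) * (a * a) := by group
                _ = 1 := by rw [hinv e heD, hinv a ha, one_mul]
            have htinv : (e * a)⁻¹ = e * a := inv_eq_of_mul_eq_one_right htt
            have hy : e * (x * a * x⁻¹) = (e * a) * (a * (x * a * x⁻¹)) := by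
              calc e * (x * a * x⁻¹) = e * (1 * (x * a * x⁻¹)) := by rw [one_mul]
                _ = e * ((a * a) * (x * a * x⁻¹)) := by rw [hinv a ha]
                _ = (e * a) * (a * (x * a * x⁻¹)) := by group
            have hy2 : (e * (x * a * x⁻¹)) ^ 2 ∈ Cfsg.pCore 2 G := by
              have h1 := hQn.conj_mem _ hu (e * a)
              have h2 := Subgroup.mul_mem _ h1 hu
              rw [htinv] at h2
              rw [sq, hy]
              have e1 : e * a * (a * (x * a * x⁻¹)) * (e * a * (a * (x * a * x⁻¹))) =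
                  e * a * (a * (x * a * x⁻¹)) * (e * a) * (a * (x * a * x⁻¹)) := by group
              rw [e1]; exact h2
            obtain ⟨k, hk⟩ := hQpow _ hy2
            rw [← pow_mul, ← pow_succ'] at hk
            have h1 := eq_one_of_two_pow_of_odd hk h (pow_orderOf_eq_one _)
            have h2 : x * a * x⁻¹ = e⁻¹ := eq_inv_of_mul_eq_one_right h1
            rw [h2, mul_inv_cancel, inv_mul_cancel]
        have hea' : e * a⁻¹ = a⁻¹ * e := by rw [hinv' a ha]; exact hea
        rw [commutatorElement_def]
        calc x * a * x⁻¹ * a⁻¹ * e = x * a * x⁻¹ * (a⁻¹ * e) := by group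
          _ = x * a * x⁻¹ * (e * a⁻¹) := by rw [hea']
          _ = (x * a * x⁻¹ * e) * a⁻¹ := by group
          _ = (e * (x * a * x⁻¹)) * a⁻¹ := by rw [hcomm]
          _ = e * (x * a * x⁻¹ * a⁻¹) := by group
    have := hle hq
    rw [Subgroup.mem_centralizer_singleton_iff] at this
    exact this.symm
  · -- Part 2
    rintro b ⟨hbD, hba, hodd⟩
    ext q
    simp only [Subgroup.mem_inf, Subgroup.mem_centralizer_singleton_iff]
    constructor
    · rintro ⟨hqQ, hqy⟩
      -- notation
      have haa := hinv a ha
      have hbb := hinv b hbD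
      have hainv := hinv' a ha
      have hbinv := hinv' b hbD
      have ha'D : q * a * q⁻¹ ∈ D := hR.conj_mem a ha q
      have ha'a' := hinv _ ha'D
      -- c = a' * a ∈ Q
      have hcQ : q * a * q⁻¹ * a ∈ Cfsg.pCore 2 G := by
        have h1 : a * q⁻¹ * a⁻¹ ∈ Cfsg.pCore 2 G := hQn.conj_mem _ (Subgroup.inv_mem _ hqQ) a
        have h2 := Subgroup.mul_mem _ hqQ h1
        rw [hainv] at h2
        have e1 : q * a * q⁻¹ * a = q * (a * q⁻¹ * a) := by group
        rw [e1]; exact h2
      -- a inverts y
      have hyinv : (a * b)⁻¹ = b * a := by rw [mul_inv_rev, hainv, hbinv]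
      have hay : a * (a * b) = (b * a) * a := by
        calc a * (a * b) = (a * a) * b := by group
          _ = b * (a * a) := by rw [haa, one_mul, mul_one]
          _ = (b * a) * a := by group
      have hqy' : q⁻¹ * (a * b) = (a * b) * q⁻¹ := by
        calc q⁻¹ * (a * b) = q⁻¹ * ((a * b) * q) * q⁻¹ := by group
          _ = q⁻¹ * (q * (a * b)) * q⁻¹ := by rw [hqy]
          _ = (a * b) * q⁻¹ := by group
      have hqyi : q * (b * a) = (b * a) * q := by
        rw [← hyinv]
        calc q * (a * b)⁻¹ = (a * b)⁻¹ * ((a * b) * q) * (a * b)⁻¹ := by group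
          _ = (a * b)⁻¹ * (q * (a * b)) * (a * b)⁻¹ := by rw [hqy]
          _ = (a * b)⁻¹ * q := by group
      have ha'y : (q * a * q⁻¹) * (a * b) = (b * a) * (q * a * q⁻¹) := by
        calc (q * a * q⁻¹) * (a * b) = q * a * (q⁻¹ * (a * b)) := by group
          _ = q * a * ((a * b) * q⁻¹) := by rw [hqy']
          _ = q * (a * (a * b)) * q⁻¹ := by group
          _ = q * ((b * a) * a) * q⁻¹ := by rw [hay]
          _ = (q * (b * a)) * a * q⁻¹ := by group
          _ = ((b * a) * q) * a * q⁻¹ := by rw [hqyi]
          _ = (b * a) * (q * a * q⁻¹) := by group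
      have ha'yi : (q * a * q⁻¹) * (b * a) = (a * b) * (q * a * q⁻¹) := by
        have h1 : (a * b) * (b * a) = 1 := by
          calc (a * b) * (b * a) = a * (b * b) * a := by group
            _ = 1 := by rw [hbb, mul_one, haa]
        calc (q * a * q⁻¹) * (b * a) = ((a * b) * (b * a)) * (q * a * q⁻¹) * (b * a) := by rw [h1, one_mul]
          _ = (a * b) * ((b * a) * (q * a * q⁻¹)) * (b * a) := by group
          _ = (a * b) * ((q * a * q⁻¹) * (a * b)) * (b * a) := by rw [ha'y]
          _ = (a * b) * (q * a * q⁻¹) * ((a * b) * (b * a)) := by group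
          _ = (a * b) * (q * a * q⁻¹) := by rw [h1, mul_one]
      have hcy : Commute (q * a * q⁻¹ * a) (a * b) := by
        show (q * a * q⁻¹ * a) * (a * b) = (a * b) * (q * a * q⁻¹ * a)
        calc (q * a * q⁻¹ * a) * (a * b) = (q * a * q⁻¹) * (a * (a * b)) := by group
          _ = (q * a * q⁻¹) * ((b * a) * a) := by rw [hay]
          _ = ((q * a * q⁻¹) * (b * a)) * a := by group
          _ = ((a * b) * (q * a * q⁻¹)) * a := by rw [ha'yi]
          _ = (a * b) * (q * a * q⁻¹ * a) := by group
      -- a' * b = c * y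
      have ha'b : (q * a * q⁻¹) * b = (q * a * q⁻¹ * a) * (a * b) := by
        calc (q * a * q⁻¹) * b = (q * a * q⁻¹) * ((a * a) * b) := by rw [haa, one_mul]
          _ = (q * a * q⁻¹ * a) * (a * b) := by group
      obtain ⟨k, hk⟩ := hQpow _ hcQ
      have hyn : (a * b) ^ orderOf (a * b) = 1 := pow_orderOf_eq_one _
      have hc1 : q * a * q⁻¹ * a = 1 := by
        rcases hpair _ ha'D b hbD with h | h
        · exfalso
          -- (a' b)^2 = 1
          have h1 : ((q * a * q⁻¹ * a) * (a * b)) ^ 2 = 1 := by
            rw [← ha'b, sq]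
            calc (q * a * q⁻¹) * b * ((q * a * q⁻¹) * b) = (q * a * q⁻¹) * (b * (q * a * q⁻¹)) * b := by group
              _ = (q * a * q⁻¹) * ((q * a * q⁻¹) * b) * b := by rw [h]
              _ = ((q * a * q⁻¹) * (q * a * q⁻¹)) * (b * b) := by group
              _ = 1 := by rw [ha'a', hbb, one_mul]
          rw [hcy.mul_pow] at h1
          have h2 : (a * b) ^ 2 = ((q * a * q⁻¹ * a) ^ 2)⁻¹ := eq_inv_of_mul_eq_one_right h1
          have h3 : ((a * b) ^ 2) ^ (2 ^ k) = 1 := by
            rw [h2, inv_pow, ← pow_mul, mul_comm, pow_mul, hk, one_pow, inv_one]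
          have h4 : ((a * b) ^ 2) ^ orderOf (a * b) = 1 := by
            rw [← pow_mul, mul_comm, pow_mul, hyn, one_pow]
          have h5 : (a * b) ^ 2 = 1 := eq_one_of_two_pow_of_odd h3 hodd h4
          have h6 : (a * b) ^ (2 ^ 1) = 1 := by rw [pow_one]; exact h5
          have h7 : a * b = 1 := eq_one_of_two_pow_of_odd h6 hodd hyn
          apply hba
          have h8 : b = a⁻¹ := eq_inv_of_mul_eq_one_right h7
          rw [h8, hainv]
        · rw [ha'b] at h
          have h1 : ((q * a * q⁻¹ * a) * (a * b)) ^ orderOf ((q * a * q⁻¹ * a) * (a * b)) = 1 :=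
            pow_orderOf_eq_one _
          have h2 : ((q * a * q⁻¹ * a) * (a * b)) ^
              (orderOf ((q * a * q⁻¹ * a) * (a * b)) * orderOf (a * b)) = 1 := by
            rw [pow_mul, h1, one_pow]
          rw [hcy.mul_pow] at h2
          have h3 : (a * b) ^ (orderOf ((q * a * q⁻¹ * a) * (a * b)) * orderOf (a * b)) = 1 := by
            rw [mul_comm, pow_mul, hyn, one_pow]
          rw [h3, mul_one] at h2
          exact eq_one_of_two_pow_of_odd hk (h.mul hodd) h2
      have hqa : q * a = a * q := by
        have h1 : q * a * q⁻¹ = a⁻¹ := eq_inv_of_mul_eq_one_left hc1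
        rw [hainv] at h1
        calc q * a = (q * a * q⁻¹) * q := by group
          _ = a * q := by rw [h1]
      refine ⟨⟨hqQ, hqa⟩, ?_⟩
      have hb : b = a * (a * b) := by
        calc b = (a * a) * b := by rw [haa, one_mul]
          _ = a * (a * b) := by group
      calc q * b = q * (a * (a * b)) := by rw [← hb]
        _ = (q * a) * (a * b) := by group
        _ = (a * q) * (a * b) := by rw [hqa]
        _ = a * (q * (a * b)) := by group
        _ = a * ((a * b) * q) := by rw [hqy]
        _ = (a * (a * b)) * q := by group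
        _ = b * q := by rw [← hb]
    · rintro ⟨⟨hqQ, hqa⟩, hqb⟩
      refine ⟨hqQ, ?_⟩
      calc q * (a * b) = (q * a) * b := by group
        _ = (a * q) * b := by rw [hqa]
        _ = a * (q * b) := by group
        _ = a * (b * q) := by rw [hqb]
        _ = a * b * q := by group

end Cfsg.Agent.S5049
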