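import Cfsg.Statements.S5057
-- import your own Cfsg.Agent.* helpers here

set_option autoImplicit false
open Cfsg

namespace Cfsg.Agent.S5057

open Equiv Equiv.Perm

theorem pow_eq_one_of_even : ∀ g : Equiv.Perm (Fin 6), Equiv.Perm.sign g = 1 →
    (g = 1 ∨ g ^ 2 = 1 ∨ g ^ 3 = 1 ∨ g ^ 4 = 1 ∨ g ^ 5 = 1) := by decide +kernel

theorem orderOf_mem_range (g : ↥(alternatingGroup (Fin 6))) : 1 ≤ orderOf g ∧ orderOf g ≤ 5 := by
  have h := pow_eq_one_of_even g.1 (Equiv.Perm.mem_alternatingGroup.mp g.2)
  have key : ∀ k : ℕ, 0 < k → k ≤ 5 → (g : Perm (Fin 6)) ^ k = 1 → 1 ≤ orderOf g ∧ orderOf g ≤ 5 := by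
    intro k hk0 hk hg
    have hg' : g ^ k = 1 := by
      apply Subtype.ext
      rw [Subgroup.coe_pow]; exact hg
    have hdvd := orderOf_dvd_of_pow_eq_one hg'
    have hle := Nat.le_of_dvd hk0 hdvd
    have hpos : 0 < orderOf g := Nat.pos_of_dvd_of_pos hdvd hk0
    omega
  rcases h with h | h | h | h | h
  · exact key 1 (by norm_num) (by norm_num) (by rw [pow_one]; exact h)
  · exact key 2 (by norm_num) (by norm_num) h
  · exact key 3 (by norm_num) (by norm_num) h
  · exact key 4 (by norm_num) (by norm_num) h
  · exact key 5 (by norm_num) (by norm_num) h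

theorem cycleType_of_orderOf_two (g : Perm (Fin 6)) (hs : sign g = 1) (h2 : orderOf g = 2) :
    g.cycleType = {2, 2} := by
  have hp : (orderOf g).Prime := by rw [h2]; exact Nat.prime_two
  obtain ⟨n, hn⟩ := cycleType_prime_order hp
  rw [h2] at hn
  have hsum : g.cycleType.sum ≤ 6 := by
    rw [sum_cycleType]
    exact le_trans (Finset.card_le_univ _) (by simp)
  rw [hn, Multiset.sum_replicate, smul_eq_mul] at hsum
  have hsign := sign_of_cycleType g
  rw [hs, hn, Multiset.sum_replicate, Multiset.card_replicate, smul_eq_mul] at hsign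
  have hn2 : n ≤ 2 := by omega
  interval_cases n
  · exact absurd hsign (by decide)
  · rw [hn]; rfl
  · exact absurd hsign (by decide)

theorem orderOf_of_cycleType (g : ↥(alternatingGroup (Fin 6))) (h : (g : Perm (Fin 6)).cycleType = {2, 2}) :
    orderOf g = 2 := by
  rw [← Subgroup.orderOf_coe, ← lcm_cycleType, h]
  rfl

/-- The involutions of the alternating group of degree 6 form a class of root involutions (a single conjugacy class of involutions generating the group, any two of which commute, have product of odd order, or have product of order 4 whose square is again an involution of the class), and the product of any two of them has order at most 5. -/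
theorem result :
    Cfsg.IsRootInvolutionClass {g : ↥(alternatingGroup (Fin 6)) | orderOf g = 2} ∧
    ∀ d ∈ {g : ↥(alternatingGroup (Fin 6)) | orderOf g = 2}, ∀ e ∈ {g : ↥(alternatingGroup (Fin 6)) | orderOf g = 2},
      orderOf (d * e) ≤ 5 := by
  have hct : ∀ g : ↥(alternatingGroup (Fin 6)), orderOf g = 2 → (g : Perm (Fin 6)).cycleType = {2, 2} := by
    intro g hg
    apply cycleType_of_orderOf_two _ (Equiv.Perm.mem_alternatingGroup.mp g.2)
    rw [Subgroup.orderOf_coe]; exact hg
  have hgen : Subgroup.closure {g : ↥(alternatingGroup (Fin 6)) | orderOf g = 2} = ⊤ := by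
    rw [eq_top_iff, ← alternatingGroup.closure_cycleType_eq_two_two_eq_top (α := Fin 6) (by simp)]
    apply Subgroup.closure_mono
    intro g hg
    exact orderOf_of_cycleType g hg
  refine ⟨⟨⟨fun d hd => hd, hgen, ?_, ?_⟩, ?_, ?_⟩, ?_⟩
  · intro d hd g
    show orderOf (g * d * g⁻¹) = 2
    rw [← MulAut.conj_apply, MulEquiv.orderOf_eq]
    exact hd
  · intro a ha b hb
    have haa : a * a = 1 := by
      have : a ^ 2 = 1 := by rw [← ha.out]; exact pow_orderOf_eq_one a
      rwa [sq] at this
    have hbb : b * b = 1 := by
      have : b ^ 2 = 1 := by rw [← hb.out]; exact pow_orderOf_eq_one b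
      rwa [sq] at this
    obtain ⟨h1, h5⟩ := orderOf_mem_range (a * b)
    have hpow := pow_orderOf_eq_one (a * b)
    generalize hn : orderOf (a * b) = n at *
    interval_cases n
    · left
      rw [pow_one] at hpow
      have hb' : b = a⁻¹ := eq_inv_of_mul_eq_one_right hpow
      rw [hb', mul_inv_cancel, inv_mul_cancel]
    · left
      rw [sq] at hpow
      calc a * b = a * (a * b * (a * b)) * b := by rw [hpow, mul_one]
        _ = (a * a) * (b * a) * (b * b) := by group
        _ = b * a := by rw [haa, hbb, one_mul, mul_one]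
    · right; left; decide
    · right; right
      refine ⟨rfl, ?_⟩
      show orderOf ((a * b) ^ 2) = 2
      rw [orderOf_pow, hn]
      rfl
    · right; left; decide
  · rw [Set.nonempty_iff_ne_empty]
    intro hempty
    rw [hempty, Subgroup.closure_empty] at hgen
    have : Nontrivial ↥(alternatingGroup (Fin 6)) :=
      alternatingGroup.nontrivial_of_three_le_card (by simp)
    exact bot_ne_top hgen
  · intro a ha b hb
    have hconj : IsConj a b := by
      apply alternatingGroup.isConj_of (isConj_iff_cycleType_eq.2 ((hct a ha).trans (hct b hb).symm))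
      rw [← sum_cycleType, hct a ha]
      simp
    obtain ⟨c, hc⟩ := isConj_iff.1 hconj
    exact ⟨c, hc.symm⟩
  · intro d _ e _
    exact (orderOf_mem_range (d * e)).2

end Cfsg.Agent.S5057
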