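-- Statement S5058
import Cfsg.Statements.S5058
import Mathlib
import Cfsg.Agent.Lib.Helper6.RootInvSL

set_option autoImplicit false
open Cfsg

namespace Cfsg.Agent.S5058

open Matrix Cfsg.Agent.Lib.Helper13 Cfsg.Agent.Lib.Helper15 Cfsg.Agent.Lib.Helper6.RootInvSL

section
variable {F : Type*} [Field F] {n : ℕ}

/-- the set of transvections of `SL_{n+3}(F)` -/
def Dset (F : Type*) [Field F] (n : ℕ) : Set (Matrix.SpecialLinearGroup (Fin (n + 3)) F) :=
  {t | ∃ c : F, c ≠ 0 ∧
    ∃ g : Matrix.SpecialLinearGroup (Fin (n + 3)) F, ((g⁻¹ * t * g : Matrix.SpecialLinearGroup (Fin (n + 3)) F) :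
      Matrix (Fin (n + 3)) (Fin (n + 3)) F) = Matrix.transvection 0 1 c}

theorem coe_conj (g t : Matrix.SpecialLinearGroup (Fin (n + 3)) F) :
    ((g⁻¹ * t * g : Matrix.SpecialLinearGroup (Fin (n + 3)) F) :
      Matrix (Fin (n + 3)) (Fin (n + 3)) F) = (g⁻¹).1 * t.1 * g.1 := by
  rw [Matrix.SpecialLinearGroup.coe_mul, Matrix.SpecialLinearGroup.coe_mul]

theorem mem_Dset_iff (t : Matrix.SpecialLinearGroup (Fin (n + 3)) F) :
    t ∈ Dset F n ↔ ∃ a φ : Fin (n + 3) → F, a ≠ 0 ∧ φ ≠ 0 ∧ φ ⬝ᵥ a = 0 ∧ t.1 = tv a φ := by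
  constructor
  · rintro ⟨c, hc, g, hg⟩
    rw [coe_conj, transvection_eq_tv] at hg
    have hgg : g.1 * (g⁻¹).1 = 1 := by
      rw [← Matrix.SpecialLinearGroup.coe_mul, mul_inv_cancel, Matrix.SpecialLinearGroup.coe_one]
    have hgg' : (g⁻¹).1 * g.1 = 1 := by
      rw [← Matrix.SpecialLinearGroup.coe_mul, inv_mul_cancel, Matrix.SpecialLinearGroup.coe_one]
    have ht : t.1 = g.1 * tv (Pi.single 0 1) (c • Pi.single 1 1) * (g⁻¹).1 := by
      rw [← hg]
      have : g.1 * ((g⁻¹).1 * t.1 * g.1) * (g⁻¹).1 = (g.1 * (g⁻¹).1) * t.1 * (g.1 * (g⁻¹).1) := by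
        simp only [Matrix.mul_assoc]
      rw [this, hgg, one_mul, mul_one]
    rw [conj_tv_SL] at ht
    refine ⟨_, _, ?_, ?_, ?_, ht⟩
    · intro h0
      have := congrArg (fun x => (g⁻¹).1 *ᵥ x) h0
      simp only [mulVec_mulVec, hgg', one_mulVec, mulVec_zero] at this
      have h1 := congrFun this 0
      simp at h1
    · intro h0
      have := congrArg (fun x => x ᵥ* g.1) h0
      simp only [vecMul_vecMul, hgg', vecMul_one, zero_vecMul] at this
      have h1 := congrFun this 1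
      simp at h1
      exact hc h1
    · rw [← dotProduct_mulVec, mulVec_mulVec, hgg', one_mulVec]
      simp
  · rintro ⟨a, φ, ha, hφ, h, ht⟩
    obtain ⟨g, hg⟩ := exists_conj_std a φ ha hφ h
    refine ⟨1, one_ne_zero, g, ?_⟩
    rw [coe_conj, ht, hg]

theorem Dset_sq (t : Matrix.SpecialLinearGroup (Fin (n + 3)) F) [CharP F 2] (ht : t ∈ Dset F n) :
    t * t = 1 ∧ t ≠ 1 := by
  obtain ⟨a, φ, ha, hφ, h, ht⟩ := (mem_Dset_iff t).mp ht
  constructor
  · apply Subtype.ext
    rw [Matrix.SpecialLinearGroup.coe_mul, Matrix.SpecialLinearGroup.coe_one, ht, tv_sq a φ h]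
  · intro h1
    apply tv_ne_one ha hφ
    rw [← ht, h1]
    rfl

theorem Dset_conj (t g : Matrix.SpecialLinearGroup (Fin (n + 3)) F) (ht : t ∈ Dset F n) :
    g * t * g⁻¹ ∈ Dset F n := by
  obtain ⟨c, hc, k, hk⟩ := ht
  refine ⟨c, hc, g * k, ?_⟩
  have : (g * k)⁻¹ * (g * t * g⁻¹) * (g * k) = k⁻¹ * t * k := by
    simp [mul_assoc]
  rw [this, hk]

theorem Dset_generates : Subgroup.closure (Dset F n) = ⊤ := by
  rw [eq_top_iff]
  intro A _
  refine SLn_transvection_induction (fun A => A ∈ Subgroup.closure (Dset F n)) ?_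
    (fun _ _ => Subgroup.mul_mem _) A
  intro i j hij c
  by_cases hc : c = 0
  · subst hc
    rw [Matrix.SpecialLinearGroup.transvection_coeff_zero]
    exact Subgroup.one_mem _
  · apply Subgroup.subset_closure
    rw [mem_Dset_iff]
    refine ⟨Pi.single i 1, c • Pi.single j 1, ?_, ?_, ?_, ?_⟩
    · intro h0
      have := congrFun h0 i
      simp at this
    · intro h0
      have := congrFun h0 j
      simp at this
      exact hc this
    · simp [hij]
    · change Matrix.transvection i j c = _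
      rw [Matrix.transvection, tv]
      congr 1
      ext k l
      rw [vecMulVec_apply, Matrix.single_apply, Pi.smul_apply, Pi.single_apply, Pi.single_apply]
      rcases eq_or_ne k i with rfl | hk <;> rcases eq_or_ne l j with rfl | hl <;>
        simp [*, Ne.symm]

theorem Dset_isConj (a b : Matrix.SpecialLinearGroup (Fin (n + 3)) F) (ha : a ∈ Dset F n)
    (hb : b ∈ Dset F n) : ∃ g : Matrix.SpecialLinearGroup (Fin (n + 3)) F, b = g * a * g⁻¹ := by
  obtain ⟨u, φ, hu, hφ, h, hat⟩ := (mem_Dset_iff a).mp ha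
  obtain ⟨v, ψ, hv, hψ, h', hbt⟩ := (mem_Dset_iff b).mp hb
  obtain ⟨g₁, hg₁⟩ := exists_conj_std u φ hu hφ h
  obtain ⟨g₂, hg₂⟩ := exists_conj_std v ψ hv hψ h'
  have e : g₁⁻¹ * a * g₁ = g₂⁻¹ * b * g₂ := by
    apply Subtype.ext
    rw [coe_conj, coe_conj, hat, hbt, hg₁, hg₂]
  refine ⟨g₂ * g₁⁻¹, ?_⟩
  have : b = g₂ * (g₂⁻¹ * b * g₂) * g₂⁻¹ := by group
  rw [this, ← e]
  group

open Polynomial in
/-- the three cases for a pair of transvections -/
theorem Dset_pair [Fintype F] [CharP F 2] (a b : Matrix.SpecialLinearGroup (Fin (n + 3)) F)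
    (ha : a ∈ Dset F n) (hb : b ∈ Dset F n) :
    (a * b = b * a ∧ (a * b) ^ 2 = 1) ∨ (orderOf (a * b) = 4 ∧ (a * b) ^ 2 ∈ Dset F n) ∨
      ∃ t : F, t ≠ 0 ∧
        aeval (a * b).1 ((X + 1) * (X ^ 2 + C t * X + 1) : F[X]) = 0 := by
  obtain ⟨u, φ, hu, hφ, h, hat⟩ := (mem_Dset_iff a).mp ha
  obtain ⟨v, ψ, hv, hψ, h', hbt⟩ := (mem_Dset_iff b).mp hb
  have hab : (a * b).1 = tv u φ * tv v ψ := by
    rw [Matrix.SpecialLinearGroup.coe_mul, hat, hbt]
  have hab2 : ((a * b) ^ 2).1 = (tv u φ * tv v ψ) * (tv u φ * tv v ψ) := by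
    rw [pow_two, Matrix.SpecialLinearGroup.coe_mul, hab]
  have four : ∀ (w χ : Fin (n + 3) → F), w ≠ 0 → χ ≠ 0 → χ ⬝ᵥ w = 0 →
      ((a * b) ^ 2).1 = tv w χ → orderOf (a * b) = 4 ∧ (a * b) ^ 2 ∈ Dset F n := by
    intro w χ hw hχ hwχ hsq
    have hmem : (a * b) ^ 2 ∈ Dset F n := (mem_Dset_iff _).mpr ⟨w, χ, hw, hχ, hwχ, hsq⟩
    refine ⟨?_, hmem⟩
    have := Dset_sq _ hmem
    have h4 : orderOf (a * b) = 2 ^ (1 + 1) := by
      apply orderOf_eq_prime_pow
      · rw [pow_one]; exact this.2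
      · rw [pow_succ, pow_one, pow_mul, pow_two ((a * b) ^ 2)]
        exact this.1
    rw [h4]
    norm_num
  by_cases h1 : φ ⬝ᵥ v = 0
  · by_cases h2 : ψ ⬝ᵥ u = 0
    · left
      have hc : a * b = b * a := by
        apply Subtype.ext
        rw [Matrix.SpecialLinearGroup.coe_mul, Matrix.SpecialLinearGroup.coe_mul, hat, hbt,
          tv_comm u φ v ψ h1 h2]
      refine ⟨hc, ?_⟩
      rw [pow_two]
      calc a * b * (a * b) = a * (b * a) * b := by group
        _ = a * (a * b) * b := by rw [hc]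
        _ = (a * a) * (b * b) := by group
        _ = 1 := by rw [(Dset_sq a ha).1, (Dset_sq b hb).1, one_mul]
    · right; left
      apply four v ((ψ ⬝ᵥ u) • φ) hv (smul_ne_zero h2 hφ)
      · rw [smul_dotProduct, h1, smul_zero]
      · rw [hab2, tv_mul_tv_sq_of_left u φ v ψ h h' h1]
  · by_cases h2 : ψ ⬝ᵥ u = 0
    · right; left
      apply four u ((φ ⬝ᵥ v) • ψ) hu (smul_ne_zero h1 hψ)
      · rw [smul_dotProduct, h2, smul_zero]
      · rw [hab2, tv_mul_tv_sq_of_right u φ v ψ h h' h2]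
    · right; right
      refine ⟨(φ ⬝ᵥ v) * (ψ ⬝ᵥ u), mul_ne_zero h1 h2, ?_⟩
      rw [hab]
      exact aeval_tv_mul_tv u φ v ψ h h'

theorem Dset_rootInv [Fintype F] [CharP F 2] : Cfsg.IsRootInvolutionSet (Dset F n) := by
  have : Fact (Nat.Prime 2) := ⟨Nat.prime_two⟩
  refine ⟨?_, Dset_generates, fun d hd g => Dset_conj d g hd, ?_⟩
  · intro d hd
    have := Dset_sq d hd
    exact orderOf_eq_prime (by rw [pow_two]; exact this.1) this.2
  · intro a ha b hb
    rcases Dset_pair a b ha hb with h | h | ⟨t, ht, h⟩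
    · exact Or.inl h.1
    · exact Or.inr (Or.inr h)
    · exact Or.inr (Or.inl (odd_orderOf_of_aeval _ t ht h))

end

/-- Let F be a finite field of characteristic 2 and n a natural number. Then the transvections of SL_{n+3}(F) (so in every dimension at least 3) (the conjugates of the elementary matrices 1 + c E₁₂, c ≠ 0) form a class of root involutions of SL_{n+3}(F); when F has two elements they form a class of {3,4}⁺-transpositions (every product of odd order has order 1 or 3). -/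
theorem result (F : Type*) [Field F] [Fintype F] [CharP F 2] (n : ℕ) :
    Cfsg.IsRootInvolutionClass {t : Matrix.SpecialLinearGroup (Fin (n + 3)) F | ∃ c : F, c ≠ 0 ∧
        ∃ g : Matrix.SpecialLinearGroup (Fin (n + 3)) F, ((g⁻¹ * t * g : Matrix.SpecialLinearGroup (Fin (n + 3)) F) :
          Matrix (Fin (n + 3)) (Fin (n + 3)) F) = Matrix.transvection 0 1 c} ∧
    (Fintype.card F = 2 → Cfsg.IsThreeFourPlusTranspositionSet {t : Matrix.SpecialLinearGroup (Fin (n + 3)) F | ∃ c : F, c ≠ 0 ∧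
        ∃ g : Matrix.SpecialLinearGroup (Fin (n + 3)) F, ((g⁻¹ * t * g : Matrix.SpecialLinearGroup (Fin (n + 3)) F) :
          Matrix (Fin (n + 3)) (Fin (n + 3)) F) = Matrix.transvection 0 1 c}) := by
  change Cfsg.IsRootInvolutionClass (Dset F n) ∧
    (Fintype.card F = 2 → Cfsg.IsThreeFourPlusTranspositionSet (Dset F n))
  refine ⟨⟨Dset_rootInv, ?_, fun a ha b hb => Dset_isConj a b ha hb⟩, ?_⟩
  · obtain ⟨s, hs⟩ : ∃ s : Matrix.SpecialLinearGroup (Fin (n + 3)) F,
        s.1 = tv (Pi.single 0 1) (Pi.single 1 1) := ⟨⟨_, tv_det _ _ (by simp)⟩, rfl⟩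
    refine ⟨s, ?_⟩
    rw [mem_Dset_iff]
    refine ⟨Pi.single 0 1, Pi.single 1 1, ?_, ?_, by simp, hs⟩
    · intro h0
      have := congrFun h0 0
      simp at this
    · intro h0
      have := congrFun h0 1
      simp at this
  · intro hcard
    refine ⟨Dset_rootInv, ?_⟩
    intro a ha b hb hodd
    rcases Dset_pair a b ha hb with h | h | ⟨t, ht, h⟩
    · left
      have hdvd := orderOf_dvd_of_pow_eq_one h.2
      rcases (Nat.dvd_prime Nat.prime_two).mp hdvd with h1 | h1
      · exact h1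
      · rw [h1] at hodd
        exact absurd hodd (by decide)
    · rw [h.1] at hodd
      exact absurd hodd (by decide)
    · -- over the field with two elements `t = 1`
      have ht1 : t = 1 := by
        have := FiniteField.pow_card_sub_one_eq_one t ht
        rw [hcard] at this
        simpa using this
      subst ht1
      have h2 : (2 : F) = 0 := two_eq_zero'
      have hp : ((Polynomial.X + 1) * (Polynomial.X ^ 2 + Polynomial.C (1 : F) * Polynomial.X + 1) :
          Polynomial F) = Polynomial.X ^ 3 + 1 := by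
        have h2' : (2 : Polynomial F) = 0 := by
          rw [← Polynomial.C_ofNat, h2, Polynomial.C_0]
        rw [Polynomial.C_1]
        linear_combination (Polynomial.X ^ 2 + Polynomial.X) * h2'
      rw [hp] at h
      simp only [map_add, map_pow, Polynomial.aeval_X, map_one] at h
      have h3 : (a * b) ^ 3 = 1 := by
        apply Subtype.ext
        rw [Matrix.SpecialLinearGroup.coe_pow, Matrix.SpecialLinearGroup.coe_one]
        have : (a * b).1 ^ 3 = -1 := eq_neg_of_add_eq_zero_left h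
        rw [this, neg_eq_iff_add_eq_zero, add_self_mat]
      have hdvd := orderOf_dvd_of_pow_eq_one h3
      rcases (Nat.dvd_prime Nat.prime_three).mp hdvd with h1 | h1
      · exact Or.inl h1
      · exact Or.inr h1

end Cfsg.Agent.S5058
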