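import Cfsg.Statements.S5059
-- import your own Cfsg.Agent.* helpers here

set_option autoImplicit false
universe u
open Cfsg

namespace Cfsg.Agent.S5059

section
variable {k : Type*} [Field k] {M : Type*} [AddCommGroup M] [Module k M]

/-- The nilpotent part of a unit. -/
def nilPart (x : LinearMap.GeneralLinearGroup k M) : M →ₗ[k] M := (x : M →ₗ[k] M) - 1

theorem val_eq (x : LinearMap.GeneralLinearGroup k M) : (x : M →ₗ[k] M) = 1 + nilPart x := by
  unfold nilPart; abel

/-- Auxiliary set: elements of `G` whose nilpotent part kills `C`, has range in `W`, with scalar family in `G`. -/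
def auxSet (G : Subgroup (LinearMap.GeneralLinearGroup k M)) (C W : Submodule k M) :
    Set (LinearMap.GeneralLinearGroup k M) :=
  {x | x ∈ G ∧ C ≤ LinearMap.ker (nilPart x) ∧ LinearMap.range (nilPart x) ≤ W ∧
    ∀ c : k, ∃ τ ∈ G, (τ : M →ₗ[k] M) = 1 + c • nilPart x}

theorem nil_mul_nil {G : Subgroup (LinearMap.GeneralLinearGroup k M)} {C W : Submodule k M} (hWC : W ≤ C)
    {x y : LinearMap.GeneralLinearGroup k M} (hx : x ∈ auxSet G C W) (hy : y ∈ auxSet G C W) :
    nilPart x * nilPart y = 0 := by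
  ext m
  rw [Module.End.mul_apply, LinearMap.zero_apply]
  have h1 : nilPart y m ∈ W := hy.2.2.1 ⟨m, rfl⟩
  exact hx.2.1 (hWC h1)

theorem nilPart_mul {G : Subgroup (LinearMap.GeneralLinearGroup k M)} {C W : Submodule k M} (hWC : W ≤ C)
    {x y : LinearMap.GeneralLinearGroup k M} (hx : x ∈ auxSet G C W) (hy : y ∈ auxSet G C W) :
    nilPart (x * y) = nilPart x + nilPart y := by
  have h := nil_mul_nil hWC hx hy
  unfold nilPart at *
  rw [Units.val_mul]
  have : (x : M →ₗ[k] M) * (y : M →ₗ[k] M) =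
      ((x : M →ₗ[k] M) - 1) * ((y : M →ₗ[k] M) - 1) + (x : M →ₗ[k] M) + (y : M →ₗ[k] M) - 1 := by
    noncomm_ring
  rw [this, h]
  abel

theorem nilPart_inv {G : Subgroup (LinearMap.GeneralLinearGroup k M)} {C W : Submodule k M} (hWC : W ≤ C)
    {x : LinearMap.GeneralLinearGroup k M} (hx : x ∈ auxSet G C W) :
    nilPart x⁻¹ = - nilPart x := by
  have h := nil_mul_nil hWC hx hx
  have h1 : (x : M →ₗ[k] M) * (1 - nilPart x) = 1 := by
    rw [val_eq x]
    have : (1 + nilPart x) * (1 - nilPart x) = 1 - nilPart x * nilPart x := by noncomm_ring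
    rw [this, h, sub_zero]
  have h2 : ((x⁻¹ : LinearMap.GeneralLinearGroup k M) : M →ₗ[k] M) = 1 - nilPart x := by
    calc ((x⁻¹ : LinearMap.GeneralLinearGroup k M) : M →ₗ[k] M)
        = ((x⁻¹ : LinearMap.GeneralLinearGroup k M) : M →ₗ[k] M) * ((x : M →ₗ[k] M) * (1 - nilPart x)) := by
          rw [h1, mul_one]
      _ = (((x⁻¹ : LinearMap.GeneralLinearGroup k M) : M →ₗ[k] M) * (x : M →ₗ[k] M)) * (1 - nilPart x) := by
          rw [mul_assoc]
      _ = 1 - nilPart x := by rw [Units.inv_mul, one_mul]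
  show ((x⁻¹ : LinearMap.GeneralLinearGroup k M) : M →ₗ[k] M) - 1 = - nilPart x
  rw [h2]; abel

theorem one_mem_auxSet (G : Subgroup (LinearMap.GeneralLinearGroup k M)) (C W : Submodule k M) :
    (1 : LinearMap.GeneralLinearGroup k M) ∈ auxSet G C W := by
  have h0 : nilPart (1 : LinearMap.GeneralLinearGroup k M) = 0 := by
    unfold nilPart; rw [Units.val_one, sub_self]
  refine ⟨G.one_mem, ?_, ?_, ?_⟩
  · rw [h0]; intro m _; simp
  · rw [h0]; rintro _ ⟨m, rfl⟩; simp
  · intro c
    refine ⟨1, G.one_mem, ?_⟩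
    rw [h0, smul_zero, add_zero, Units.val_one]

theorem mul_mem_auxSet {G : Subgroup (LinearMap.GeneralLinearGroup k M)} {C W : Submodule k M} (hWC : W ≤ C)
    {x y : LinearMap.GeneralLinearGroup k M} (hx : x ∈ auxSet G C W) (hy : y ∈ auxSet G C W) :
    x * y ∈ auxSet G C W := by
  have hN := nilPart_mul hWC hx hy
  refine ⟨G.mul_mem hx.1 hy.1, ?_, ?_, ?_⟩
  · intro m hm
    rw [LinearMap.mem_ker, hN, LinearMap.add_apply]
    have h1 := hx.2.1 hm
    have h2 := hy.2.1 hm
    rw [LinearMap.mem_ker] at h1 h2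
    rw [h1, h2, add_zero]
  · rintro _ ⟨m, rfl⟩
    rw [hN, LinearMap.add_apply]
    exact W.add_mem (hx.2.2.1 ⟨m, rfl⟩) (hy.2.2.1 ⟨m, rfl⟩)
  · intro c
    obtain ⟨τ₁, hτ₁, h1⟩ := hx.2.2.2 c
    obtain ⟨τ₂, hτ₂, h2⟩ := hy.2.2.2 c
    refine ⟨τ₁ * τ₂, G.mul_mem hτ₁ hτ₂, ?_⟩
    rw [Units.val_mul, h1, h2, hN]
    have h := nil_mul_nil hWC hx hy
    have : (1 + c • nilPart x) * (1 + c • nilPart y) =
        1 + c • nilPart x + c • nilPart y + (c * c) • (nilPart x * nilPart y) := by
      rw [mul_add, add_mul, add_mul, one_mul, one_mul, mul_one, smul_mul_smul_comm]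
      abel
    rw [this, h, smul_zero, add_zero, smul_add, add_assoc]

theorem inv_mem_auxSet {G : Subgroup (LinearMap.GeneralLinearGroup k M)} {C W : Submodule k M} (hWC : W ≤ C)
    {x : LinearMap.GeneralLinearGroup k M} (hx : x ∈ auxSet G C W) :
    x⁻¹ ∈ auxSet G C W := by
  have hN := nilPart_inv hWC hx
  refine ⟨G.inv_mem hx.1, ?_, ?_, ?_⟩
  · intro m hm
    rw [LinearMap.mem_ker, hN, LinearMap.neg_apply]
    have h1 := hx.2.1 hm
    rw [LinearMap.mem_ker] at h1
    rw [h1, neg_zero]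
  · rintro _ ⟨m, rfl⟩
    rw [hN, LinearMap.neg_apply]
    exact W.neg_mem (hx.2.2.1 ⟨m, rfl⟩)
  · intro c
    obtain ⟨τ, hτ, h1⟩ := hx.2.2.2 (-c)
    refine ⟨τ, hτ, ?_⟩
    rw [h1, hN, neg_smul, smul_neg]

/-- The auxiliary subgroup. -/
def auxSubgroup (G : Subgroup (LinearMap.GeneralLinearGroup k M)) (C W : Submodule k M) (hWC : W ≤ C) :
    Subgroup (LinearMap.GeneralLinearGroup k M) where
  carrier := auxSet G C W
  mul_mem' := fun hx hy => mul_mem_auxSet hWC hx hy
  one_mem' := one_mem_auxSet G C W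
  inv_mem' := fun hx => inv_mem_auxSet hWC hx

theorem commute_of_mem_auxSet {G : Subgroup (LinearMap.GeneralLinearGroup k M)} {C W : Submodule k M} (hWC : W ≤ C)
    {x y : LinearMap.GeneralLinearGroup k M} (hx : x ∈ auxSet G C W) (hy : y ∈ auxSet G C W) :
    x * y = y * x := by
  apply Units.ext
  have h1 := nilPart_mul hWC hx hy
  have h2 := nilPart_mul hWC hy hx
  rw [val_eq (x * y), val_eq (y * x), h1, h2, add_comm (nilPart x)]

theorem pow_val_of_mem_auxSet {G : Subgroup (LinearMap.GeneralLinearGroup k M)} {C W : Submodule k M} (hWC : W ≤ C)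
    {x : LinearMap.GeneralLinearGroup k M} (hx : x ∈ auxSet G C W) (j : ℕ) :
    x ^ j ∈ auxSet G C W ∧ nilPart (x ^ j) = j • nilPart x := by
  induction j with
  | zero =>
    refine ⟨by rw [pow_zero]; exact one_mem_auxSet G C W, ?_⟩
    rw [pow_zero, zero_smul]
    unfold nilPart; rw [Units.val_one, sub_self]
  | succ j ih =>
    refine ⟨by rw [pow_succ]; exact mul_mem_auxSet hWC ih.1 hx, ?_⟩
    rw [pow_succ, nilPart_mul hWC ih.1 hx, ih.2, succ_nsmul]

end

/-- Let k be a field of characteristic not 2 with k not of order 3, M a finite-dimensional k-vector space and G ≤ GL(M) such that (G, M) is a quadratic pair (M irreducible for G, and G generated by its quadratically acting elements σ whose scalar family 1 + c(σ − 1), c ∈ k, lies in G). Write 𝒬_d for the quadratic elements of G of minimal commutator rank, E(σ) for the subgroup generated by the members of 𝒬_d with the same fixed space and commutator space as σ, and Σ for the set of these subgroups. Then for σ ∈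 𝒬_d the subgroup E(σ) consists exactly of those members together with the identity, it is abelian, and if k has prime characteristic p every element of E(σ) has order dividing p. -/
theorem result {k : Type u} [Field k] (hk2 : ringChar k ≠ 2) (hk3 : Nat.card k ≠ 3)
    {M : Type u} [AddCommGroup M] [Module k M] [FiniteDimensional k M]
    {G : Subgroup (LinearMap.GeneralLinearGroup k M)} (hG : Cfsg.IsQuadraticPair G)
    {σ : LinearMap.GeneralLinearGroup k M} (hσ : σ ∈ Cfsg.minimalQuadraticElements G) :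
    (Cfsg.sameActionSubgroup G σ : Set (LinearMap.GeneralLinearGroup k M)) = Cfsg.sameActionClass G σ ∪ {1} ∧
    IsMulCommutative ↥(Cfsg.sameActionSubgroup G σ) ∧
    (∀ p : ℕ, p.Prime → ringChar k = p → ∀ x ∈ Cfsg.sameActionSubgroup G σ, x ^ p = 1) := by
  obtain ⟨⟨hσG, ⟨hσsq, hσne⟩, hσfam⟩, hσmin⟩ := hσ
  -- W ≤ C
  have hWC : LinearMap.range ((σ : M →ₗ[k] M) - 1) ≤ LinearMap.ker ((σ : M →ₗ[k] M) - 1) := by
    rintro _ ⟨m, rfl⟩
    rw [LinearMap.mem_ker, ← Module.End.mul_apply, hσsq, LinearMap.zero_apply]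
  -- members of E_σ lie in the auxiliary set
  have hsub : Cfsg.sameActionClass G σ ⊆
      auxSet G (LinearMap.ker ((σ : M →ₗ[k] M) - 1)) (LinearMap.range ((σ : M →ₗ[k] M) - 1)) := by
    rintro τ ⟨⟨⟨hτG, ⟨hτsq, hτne⟩, hτfam⟩, hτmin⟩, hker, hrange⟩
    refine ⟨hτG, le_of_eq hker.symm, le_of_eq hrange, ?_⟩
    intro c
    have h1 : (1 + c • ((τ : M →ₗ[k] M) - 1)) * (1 + (-c) • ((τ : M →ₗ[k] M) - 1)) = 1 := by
      rw [mul_add, add_mul, add_mul, one_mul, one_mul, mul_one, smul_mul_smul_comm, hτsq, smul_zero, add_zero,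
        neg_smul]
      abel
    have h2 : (1 + (-c) • ((τ : M →ₗ[k] M) - 1)) * (1 + c • ((τ : M →ₗ[k] M) - 1)) = 1 := by
      rw [mul_add, add_mul, add_mul, one_mul, one_mul, mul_one, smul_mul_smul_comm, hτsq, smul_zero, add_zero,
        neg_smul]
      abel
    let u : LinearMap.GeneralLinearGroup k M := ⟨_, _, h1, h2⟩
    exact ⟨u, hτfam ⟨c, rfl⟩, rfl⟩
  have hle : Cfsg.sameActionSubgroup G σ ≤
      auxSubgroup G (LinearMap.ker ((σ : M →ₗ[k] M) - 1)) (LinearMap.range ((σ : M →ₗ[k] M) - 1)) hWC := by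
    unfold Cfsg.sameActionSubgroup
    rw [Subgroup.closure_le]
    exact hsub
  have hσq : σ ∈ Cfsg.quadraticElements G := ⟨hσG, ⟨hσsq, hσne⟩, hσfam⟩
  -- non-identity elements of the auxiliary set are in E_σ
  have hback : ∀ x ∈ auxSet G (LinearMap.ker ((σ : M →ₗ[k] M) - 1)) (LinearMap.range ((σ : M →ₗ[k] M) - 1)),
      x ≠ 1 → x ∈ Cfsg.sameActionClass G σ := by
    intro x hx hx1
    have hNN := nil_mul_nil hWC hx hx
    have hxq : x ∈ Cfsg.quadraticElements G := by
      refine ⟨hx.1, ⟨hNN, ?_⟩, ?_⟩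
      · intro h0
        apply hx1
        apply Units.ext
        rw [Units.val_one]
        exact sub_eq_zero.mp h0
      · rintro τ ⟨c, hc⟩
        obtain ⟨τ', hτ', hc'⟩ := hx.2.2.2 c
        have : τ = τ' := Units.ext (hc.trans hc'.symm)
        rw [this]; exact hτ'
    have hrank1 : Cfsg.commutatorRank σ ≤ Cfsg.commutatorRank x := hσmin x hxq
    have hrank2 : Cfsg.commutatorRank x ≤ Cfsg.commutatorRank σ := Submodule.finrank_mono hx.2.2.1
    have hrange : LinearMap.range ((x : M →ₗ[k] M) - 1) = LinearMap.range ((σ : M →ₗ[k] M) - 1) :=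
      Submodule.eq_of_le_of_finrank_eq hx.2.2.1 (le_antisymm hrank2 hrank1)
    have hker : LinearMap.ker ((x : M →ₗ[k] M) - 1) = LinearMap.ker ((σ : M →ₗ[k] M) - 1) := by
      symm
      apply Submodule.eq_of_le_of_finrank_eq hx.2.1
      have e1 := LinearMap.finrank_range_add_finrank_ker ((x : M →ₗ[k] M) - 1)
      have e2 := LinearMap.finrank_range_add_finrank_ker ((σ : M →ₗ[k] M) - 1)
      have e3 : Module.finrank k (LinearMap.range ((x : M →ₗ[k] M) - 1)) =
          Module.finrank k (LinearMap.range ((σ : M →ₗ[k] M) - 1)) := by rw [hrange]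
      show Module.finrank k (LinearMap.ker ((σ : M →ₗ[k] M) - 1)) = Module.finrank k (LinearMap.ker (nilPart x))
      unfold nilPart
      omega
    refine ⟨⟨hxq, fun τ hτ => le_trans hrank2 (hσmin τ hτ)⟩, hker, hrange⟩
  refine ⟨?_, ?_, ?_⟩
  · ext x
    constructor
    · intro hx
      by_cases hx1 : x = 1
      · right; exact hx1
      · left; exact hback x (hle hx) hx1
    · rintro (hx | hx)
      · exact Subgroup.subset_closure hx
      · rw [Set.mem_singleton_iff] at hx
        rw [hx]; exact Subgroup.one_mem _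
  · refine ⟨⟨fun x y => ?_⟩⟩
    apply Subtype.ext
    exact commute_of_mem_auxSet hWC (hle x.2) (hle y.2)
  · intro p hp hchar x hx
    have h1 := pow_val_of_mem_auxSet hWC (hle hx) p
    apply Units.ext
    rw [val_eq (x ^ p), h1.2, Units.val_one]
    have hp0 : ((p : ℕ) : k) = 0 := by
      rw [← hchar]; exact ringChar.Nat.cast_ringChar
    rw [← Nat.cast_smul_eq_nsmul k, hp0, zero_smul, add_zero]

end Cfsg.Agent.S5059
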