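import Cfsg.Statements.S5060
import Cfsg.Agent.Lib.Helper22.SL2E

set_option autoImplicit false
open Cfsg

namespace Cfsg.Agent.S5060

open Cfsg.Agent.Lib.Helper22.SL2G

/-- an element `r ≠ 0` with `r² ≠ 1` exists in a field of characteristic `≠ 2` and order `≠ 3` -/
lemma exists_r {k : Type*} [Field k] (hk2 : ringChar k ≠ 2) (hk3 : Nat.card k ≠ 3) :
    ∃ r : k, r ≠ 0 ∧ r ^ 2 ≠ 1 := by
  by_contra h
  simp only [not_exists, not_and, not_not] at h
  have h2 : (2 : k) ≠ 0 := Ring.two_ne_zero hk2
  apply hk3
  rw [← Set.ncard_univ, Set.ncard_eq_three]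
  refine ⟨0, 1, -1, zero_ne_one, ?_, ?_, ?_⟩
  · intro h0
    have : (1 : k) = 0 := by linear_combination h0
    exact one_ne_zero this
  · intro h1
    apply h2
    linear_combination h1
  · ext r
    simp only [Set.mem_univ, Set.mem_insert_iff, Set.mem_singleton_iff, true_iff]
    by_cases hr : r = 0
    · exact Or.inl hr
    · right
      have h1 := h r hr
      have : (r - 1) * (r + 1) = 0 := by linear_combination h1
      rcases mul_eq_zero.mp this with h3 | h3
      · left; linear_combination h3
      · right; linear_combination h3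

/-- Let k ⊆ K be fields with the characteristic of k not 2 and k not of order 3, and let α ∈ K be a non-zero element algebraic over k. Then the subgroup of SL₂(K) generated by the upper unitriangular matrices with entry c and the lower unitriangular matrices with entry cα, c ranging over k, is exactly the group of matrices of SL₂(K) with all entries in k(α). -/
theorem result {k K : Type*} [Field k] [Field K] [Algebra k K] (hk2 : ringChar k ≠ 2) (hk3 : Nat.card k ≠ 3)
    (α : K) (hα : IsAlgebraic k α) (hα0 : α ≠ 0) :
    (Subgroup.closure ({g : Matrix.SpecialLinearGroup (Fin 2) K | ∃ c : k, (g : Matrix (Fin 2) (Fin 2) K) = !![1, algebraMap k K c; 0, 1]} ∪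
        {g : Matrix.SpecialLinearGroup (Fin 2) K | ∃ c : k, (g : Matrix (Fin 2) (Fin 2) K) = !![1, 0; algebraMap k K c * α, 1]}) :
      Set (Matrix.SpecialLinearGroup (Fin 2) K)) =
    {g : Matrix.SpecialLinearGroup (Fin 2) K | ∀ i j : Fin 2, (g : Matrix (Fin 2) (Fin 2) K) i j ∈ IntermediateField.adjoin k ({α} : Set K)} := by
  -- the subfield `F`, image of `k`
  have hFmem : ∀ c : k, algebraMap k K c ∈ (algebraMap k K).fieldRange := fun c => ⟨c, rfl⟩
  -- the closure is `XG F α`
  have hX : Subgroup.closure ({g : Matrix.SpecialLinearGroup (Fin 2) K | ∃ c : k, (g : Matrix (Fin 2) (Fin 2) K) = !![1, algebraMap k K c; 0, 1]} ∪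
        {g : Matrix.SpecialLinearGroup (Fin 2) K | ∃ c : k, (g : Matrix (Fin 2) (Fin 2) K) = !![1, 0; algebraMap k K c * α, 1]}) =
      XG (algebraMap k K).fieldRange α := by
    apply le_antisymm
    · rw [Subgroup.closure_le]
      rintro g (⟨c, hc⟩ | ⟨c, hc⟩)
      · have : g = ua (algebraMap k K c) := Subtype.ext hc
        rw [this]
        exact ua_mem_XG _ α (hFmem c)
      · have : g = lb (algebraMap k K c * α) := Subtype.ext hc
        rw [this]
        exact lb_mem_XG _ α (hFmem c)
    · apply XG_le
      · rintro c ⟨c', rfl⟩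
        exact Subgroup.subset_closure (Or.inl ⟨c', rfl⟩)
      · rintro c ⟨c', rfl⟩
        exact Subgroup.subset_closure (Or.inr ⟨c', rfl⟩)
  rw [hX]
  -- basic facts
  have h2k : (2 : k) ≠ 0 := Ring.two_ne_zero hk2
  have h2 : (2 : K) ≠ 0 := by
    intro h
    apply h2k
    apply (algebraMap k K).injective
    rw [map_ofNat, map_zero]
    exact h
  obtain ⟨r, hr0, hr1⟩ := exists_r hk2 hk3
  have hr0' : algebraMap k K r ≠ 0 := (map_ne_zero (algebraMap k K)).mpr hr0
  have hr1' : (algebraMap k K r) ^ 2 ≠ 1 := by
    intro h
    apply hr1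
    apply (algebraMap k K).injective
    rw [map_pow, map_one, h]
  -- algebraicity over `F`
  have halg : IsAlgebraic (algebraMap k K).fieldRange α := by
    obtain ⟨p, hp0, hp⟩ := hα
    refine ⟨p.map (algebraMap k K).rangeRestrictField, ?_, ?_⟩
    · exact (Polynomial.map_ne_zero_iff (RingHom.injective _)).mpr hp0
    · rw [Polynomial.aeval_def, Polynomial.eval₂_map]
      have : (algebraMap (algebraMap k K).fieldRange K).comp (algebraMap k K).rangeRestrictField =
          algebraMap k K := RingHom.ext (fun x => rfl)
      rw [this, ← Polynomial.aeval_def]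
      exact hp
  -- the two adjoins agree
  have hadj : ∀ t : K, t ∈ IntermediateField.adjoin k ({α} : Set K) ↔
      t ∈ IntermediateField.adjoin (algebraMap k K).fieldRange ({α} : Set K) := by
    intro t
    rw [← IntermediateField.mem_toSubfield, ← IntermediateField.mem_toSubfield,
      IntermediateField.adjoin_toSubfield, IntermediateField.adjoin_toSubfield]
    have : Set.range (algebraMap (algebraMap k K).fieldRange K) = Set.range (algebraMap k K) := by
      ext x
      constructor
      · rintro ⟨⟨y, c, rfl⟩, rfl⟩
        exact ⟨c, rfl⟩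
      · rintro ⟨c, rfl⟩
        exact ⟨⟨algebraMap k K c, c, rfl⟩, rfl⟩
    rw [this]
  ext g
  simp only [SetLike.mem_coe, Set.mem_ofPred_eq]
  constructor
  · intro hg i j
    rw [hadj]
    have hle : XG (algebraMap k K).fieldRange α ≤ entriesSubgroup
        (IntermediateField.adjoin (algebraMap k K).fieldRange ({α} : Set K)).toSubfield := by
      apply XG_le
      · intro c hc
        apply ua_mem_entries
        exact (IntermediateField.adjoin (algebraMap k K).fieldRange ({α} : Set K)).algebraMap_mem
          (⟨c, hc⟩ : (algebraMap k K).fieldRange)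
      · intro c hc
        apply lb_mem_entries
        exact (IntermediateField.adjoin (algebraMap k K).fieldRange ({α} : Set K)).mul_mem
          ((IntermediateField.adjoin (algebraMap k K).fieldRange ({α} : Set K)).algebraMap_mem
            (⟨c, hc⟩ : (algebraMap k K).fieldRange))
          (IntermediateField.mem_adjoin_simple_self _ α)
    exact hle hg i j
  · intro hg
    apply mem_of_entries
      (IntermediateField.adjoin (algebraMap k K).fieldRange ({α} : Set K)).toSubfield
      (XG (algebraMap k K).fieldRange α) _ _ g
    · intro i j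
      exact (hadj _).mp (hg i j)
    · intro c hc
      exact (mem_XG_main _ h2 (algebraMap k K r) (hFmem r) hr0' hr1' α hα0 halg c hc).1
    · intro c hc
      exact (mem_XG_main _ h2 (algebraMap k K r) (hFmem r) hr0' hr1' α hα0 halg c hc).2

end Cfsg.Agent.S5060
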