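import Cfsg.Statements.S5061
import Cfsg.Agent.H26.UnipBridge

set_option autoImplicit false
open Cfsg

namespace Cfsg.Agent.S5061

/-- Let M be a finite-dimensional vector space over a field k, G ≤ GL(M), and 𝒲 a set of subgroups of G, invariant under conjugation by G, such that any two members of 𝒲 generate a subgroup acting unipotently on M (for some n all products of n endomorphisms g − 1 from it vanish). Then the subgroup generated by all members of 𝒲 acts unipotently on M and is normal in G. -/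
theorem result {k : Type*} [Field k] {M : Type*} [AddCommGroup M] [Module k M] [FiniteDimensional k M]
    {G : Subgroup (LinearMap.GeneralLinearGroup k M)} {W : Set (Subgroup (LinearMap.GeneralLinearGroup k M))} (hWG : ∀ A ∈ W, A ≤ G)
    (hWW : ∀ A ∈ W, ∀ B ∈ W, Cfsg.IsUnipotentOn (A ⊔ B)) (hWconj : ∀ A ∈ W, ∀ g ∈ G, Cfsg.conjBy A g ∈ W) :
    Cfsg.IsUnipotentOn (⨆ A ∈ W, A) ∧ ∀ g ∈ G, Cfsg.conjBy (⨆ A ∈ W, A) g = ⨆ A ∈ W, A := by
  have hgen : (⨆ A ∈ W, A) = Cfsg.Agent.H26.genS (R := M →ₗ[k] M) W := rfl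
  constructor
  · rw [hgen]
    apply Cfsg.Agent.H26.isUnipotentOn_of_unip
    exact Cfsg.Agent.H26.unip_genS (k := k) (R := M →ₗ[k] M) (G := G) hWG
      (fun A hA B hB => Cfsg.Agent.H26.unip_of_isUnipotentOn (hWW A hA B hB))
      (fun A hA g hg => hWconj A hA g hg)
  · intro g hg
    show (⨆ A ∈ W, A).map (MulAut.conj g).toMonoidHom = ⨆ A ∈ W, A
    apply le_antisymm
    · rw [Subgroup.map_iSup]
      refine iSup_le fun A => ?_
      rw [Subgroup.map_iSup]
      refine iSup_le fun hA => ?_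
      exact le_biSup (fun A => A) (hWconj A hA g hg)
    · refine iSup₂_le fun A hA => ?_
      have hA' := hWconj A hA g⁻¹ (G.inv_mem hg)
      have hle : Cfsg.conjBy A g⁻¹ ≤ ⨆ A ∈ W, A := le_biSup (fun A => A) hA'
      intro a ha
      refine ⟨g⁻¹ * a * g, hle ⟨a, ha, by simp⟩, ?_⟩
      simp [mul_assoc]

end Cfsg.Agent.S5061
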