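import Cfsg.Statements.S5079
import Cfsg.Agent.Lib.Helper27.FusionSat

set_option autoImplicit false
open Cfsg

namespace Cfsg.Agent.S5079

open Cfsg.Agent.Lib.Helper27 Cfsg.FusionSystem

/-- In any fusion system over a finite p-group S: if P is fully automized and receptive and Q is conjugate to P in the system, then there is a map of the system with source N_S(Q) and values in N_S(P) carrying Q onto P. -/
theorem result {Ω : Type*} [Group Ω] {S : Subgroup Ω} [Finite S] (p : ℕ) [Fact p.Prime] (hS : IsPGroup p S) (F : Cfsg.FusionSystem S) (P Q : Subgroup Ω) (h₁ : F.IsFullyAutomized p P) (h₂ : F.IsReceptive P) (hQ : F.IsConj Q P) : ∃ φ ∈ F.Hom (Cfsg.FusionSystem.normalizerIn S Q), (∀ x, φ x ∈ Cfsg.FusionSystem.normalizerIn S P) ∧ (Q.subgroupOf (Cfsg.FusionSystem.normalizerIn S Q)).map φ = P := by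
  have hQS : Q ≤ S := isConj_le_left F hQ
  have hPS : P ≤ S := isConj_le_right F hQ
  haveI : Finite P := Finite.of_injective (Subgroup.inclusion hPS) (Subgroup.inclusion_injective hPS)
  obtain ⟨φ, hφ, χ, -, hφχ⟩ := exists_hom_normalizerIn hS h₁ h₂ hQ
  have hφχ' : ∀ x : Q, φ ⟨x, le_normalizerIn hQS x.2⟩ = χ x := fun x => hφχ x x.2 _
  refine ⟨φ, hφ, fun x => hom_normalizerIn_mem_normalizerIn hQS hφ hφχ' x, ?_⟩
  ext y
  constructor
  · rintro ⟨n, hn, rfl⟩
    have hn' : (n : Ω) ∈ Q := hn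
    have := hφχ (n : Ω) hn' n.2
    rw [this]
    exact (χ _).2
  · intro hy
    refine ⟨⟨χ.symm ⟨y, hy⟩, le_normalizerIn hQS (χ.symm ⟨y, hy⟩).2⟩, ?_, ?_⟩
    · exact (χ.symm ⟨y, hy⟩).2
    · rw [hφχ' (χ.symm ⟨y, hy⟩)]
      simp

end Cfsg.Agent.S5079
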