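import Cfsg.Statements.S5081
import Cfsg.Agent.H26.Essential2

set_option autoImplicit false
open Cfsg

namespace Cfsg.Agent.S5081

open Cfsg.Agent.H26 Cfsg.FusionSystem Cfsg.Agent.Lib.Helper27

/-- Let F be a saturated fusion system over a finite p-group S, P a proper subgroup of S that is fully normalized, and H the subgroup of Aut_F(P) generated by the automorphisms that extend to maps of the system defined on strictly larger subgroups of S. Then either P is not essential and H is all of Aut_F(P), or P is essential and the image of H in Out_F(P) = Aut_F(P)/Inn(P) is strongly p-embedded there. -/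
theorem result {Ω : Type*} [Group Ω] {S : Subgroup Ω} [Finite S] (p : ℕ) [Fact p.Prime] (hS : IsPGroup p S) (F : Cfsg.FusionSystem S) (hF : F.IsSaturated p) (P : Subgroup Ω) (hPS : P < S) (hPn : F.IsFullyNormalized P) (H : Subgroup (MulAut P)) (hH : H = Subgroup.closure {α : MulAut P | ∃ (Q : Subgroup Ω) (hPQ : P < Q) (φ : Q →* Ω), φ ∈ F.Hom Q ∧ ∀ x : P, φ (Subgroup.inclusion hPQ.le x) = α x}) : (¬ F.IsEssential p P ∧ H = F.autGroup P) ∨ (F.IsEssential p P ∧ ∃ _ : ((Cfsg.Inn P).subgroupOf (F.autGroup P)).Normal, Cfsg.IsStronglyPEmbedded p ((H.subgroupOf (F.autGroup P)).map (QuotientGroup.mk' ((Cfsg.Inn P).subgroupOf (F.autGroup P))))) := by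
  subst hH
  have hPS' : P ≤ S := hPS.le
  haveI : Finite P := Finite.of_injective (Subgroup.inclusion hPS') (Subgroup.inclusion_injective hPS')
  obtain ⟨hfa, hrec, hfc⟩ := fa_receptive_of_fullyNormalized hS hF hPn
  obtain ⟨-, P₀, hP₀⟩ := hfa
  have hI := inn_subgroupOf_normal F P
  have hπ : Function.Surjective (QuotientGroup.mk' ((Cfsg.Inn P).subgroupOf (F.autGroup P))) :=
    QuotientGroup.mk'_surjective _
  set gens : Set (MulAut P) := {α : MulAut P | ∃ (Q : Subgroup Ω) (hPQ : P < Q) (φ : Q →* Ω), φ ∈ F.Hom Q ∧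
    ∀ x : P, φ (Subgroup.inclusion hPQ.le x) = α x} with hgens
  -- (a)
  have hHA : Subgroup.closure gens ≤ F.autGroup P := by
    rw [Subgroup.closure_le]
    rintro α ⟨Q, hPQ, φ, hφ, hφα⟩
    rw [SetLike.mem_coe, mem_autGroup_iff F hPS']
    have h1 := hom_restrict F hPQ.le hφ
    have e : P.subtype.comp ((α : P ≃* P)).toMonoidHom = φ.comp (Subgroup.inclusion hPQ.le) := by
      ext x; exact (hφα x).symm
    unfold IsIso
    rw [e]; exact h1
  -- (b)
  have hb : ∀ α : F.autGroup P,
      (∃ g ∈ Cfsg.FusionSystem.extender S P (P.subtype.comp ((α : MulAut P) : P ≃* P).toMonoidHom), g ∉ P) →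
      (α : MulAut P) ∈ Subgroup.closure gens := by
    rintro α ⟨g, hgN, hgP⟩
    apply Subgroup.subset_closure
    have hαiso := (mem_autGroup_iff F hPS' _).mp α.2
    obtain ⟨ψ, hψ, hψα⟩ := receptive_exists_extension hrec hαiso
    have hle := le_extender_of_isIso hαiso
    exact ⟨_, lt_of_le_of_ne hle (fun h => hgP (h ▸ hgN)), ψ, hψ, fun x => hψα x x.2 _⟩
  have hInnH : (Cfsg.Inn P).subgroupOf (F.autGroup P) ≤ (Subgroup.closure gens).subgroupOf (F.autGroup P) := by
    intro x hx
    rw [Subgroup.mem_subgroupOf] at hx ⊢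
    rw [mem_inn_iff] at hx
    obtain ⟨g, hg⟩ := hx
    apply Subgroup.subset_closure
    refine ⟨S, hPS, Cfsg.conjHom S g, F.conj_mem le_rfl (hPS' g.2), fun y => ?_⟩
    rw [hg y]; rfl
  by_cases hess : F.IsEssential p P
  · right
    refine ⟨hess, hI, ?_⟩
    obtain ⟨hc, -, hI', Y, hY⟩ := hess
    refine ⟨hY.1, ?_, P₀.mapSurjective hπ,
      gammaCore_le_map hPS' P₀ hP₀ hI hπ _ (fun α h => Subgroup.mem_subgroupOf.mpr (hb α h))⟩
    obtain ⟨a, ha⟩ := exists_conj_of_spe hS hPS' hc P₀ hP₀ hI Y hY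
    intro htop
    have key : ∀ y ∈ Subgroup.closure gens, ∀ hy : y ∈ F.autGroup P,
        (QuotientGroup.mk' ((Cfsg.Inn P).subgroupOf (F.autGroup P))) ⟨y, hy⟩ ∈
          Y.map (MulAut.conj a).toMonoidHom := by
      intro y hy
      induction hy using Subgroup.closure_induction with
      | mem y hy => intro hyA; exact ha ⟨y, hyA⟩ hy
      | one =>
        intro h1
        have : (⟨1, h1⟩ : F.autGroup P) = 1 := rfl
        rw [this, map_one]; exact Subgroup.one_mem _
      | mul y z hy hz ihy ihz =>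
        intro hyz
        have hyA := hHA hy
        have hzA := hHA hz
        have : (⟨y * z, hyz⟩ : F.autGroup P) = ⟨y, hyA⟩ * ⟨z, hzA⟩ := rfl
        rw [this, map_mul]
        exact Subgroup.mul_mem _ (ihy hyA) (ihz hzA)
      | inv y hy ihy =>
        intro hyi
        have hyA := hHA hy
        have : (⟨y⁻¹, hyi⟩ : F.autGroup P) = (⟨y, hyA⟩ : F.autGroup P)⁻¹ := rfl
        rw [this, map_inv]
        exact Subgroup.inv_mem _ (ihy hyA)
    have hle : ((Subgroup.closure gens).subgroupOf (F.autGroup P)).map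
        (QuotientGroup.mk' ((Cfsg.Inn P).subgroupOf (F.autGroup P))) ≤ Y.map (MulAut.conj a).toMonoidHom := by
      rintro _ ⟨x, hx, rfl⟩
      rw [SetLike.mem_coe, Subgroup.mem_subgroupOf] at hx
      exact key _ hx x.2
    rw [htop] at hle
    have hYtop : Y = ⊤ := by
      rw [eq_top_iff]
      intro y _
      have h1 := hle (Subgroup.mem_top (a * y * a⁻¹))
      rw [Cfsg.Agent.Lib.Helper17.mem_map_conj] at h1
      have e : a⁻¹ * (a * y * a⁻¹) * a = y := by group
      rwa [e] at h1
    exact hY.2.1 hYtop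
  · left
    refine ⟨hess, le_antisymm hHA ?_⟩
    by_cases hc : F.IsCentric P
    · have hnspe : ∀ Y : Subgroup (F.autGroup P ⧸ (Cfsg.Inn P).subgroupOf (F.autGroup P)),
          ¬ Cfsg.IsStronglyPEmbedded p Y := fun Y hY => hess ⟨hc, hPn, hI, Y, hY⟩
      have htop := eq_top_of_no_spe hS hPS hc P₀ hP₀ hI hnspe
        ((Subgroup.closure gens).subgroupOf (F.autGroup P)) hInnH
        (fun α h => Subgroup.mem_subgroupOf.mpr (hb α h))
      intro α hα
      have h1 : (⟨α, hα⟩ : F.autGroup P) ∈ (Subgroup.closure gens).subgroupOf (F.autGroup P) := by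
        rw [htop]; exact Subgroup.mem_top _
      exact Subgroup.mem_subgroupOf.mp h1
    · obtain ⟨g, hgC, hgP⟩ := exists_mem_centralizerIn_not_mem_of_not_centric hfc hc
      intro α hα
      exact hb ⟨α, hα⟩ ⟨g, centralizerIn_le_extender _ hgC, hgP⟩

end Cfsg.Agent.S5081
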