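import Cfsg.Statements.S5088
import Cfsg.Agent.Lib.Helper27.FusionNormal
import Cfsg.Agent.Lib.Helper27.FusionNormalCrit
import Cfsg.Agent.Lib.Helper27.FusionUCS

set_option autoImplicit false
open Cfsg

namespace Cfsg.Agent.S5088

open Cfsg.FusionSystem Cfsg.Agent.Lib.Helper27
open scoped commutatorElement

theorem stronglyClosed_bot {Ω : Type*} [Group Ω] {S : Subgroup Ω} (F : Cfsg.FusionSystem S) :
    F.StronglyClosed ⊥ := by
  refine ⟨bot_le, fun R hR φ _ x => ?_⟩
  have hx : (x : Ω) = 1 := Subgroup.mem_bot.mp (hR x.2)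
  have : x = 1 := Subtype.ext hx
  rw [this, map_one]
  exact Subgroup.one_mem _

/-- In a saturated fusion system over a finite p-group, a subgroup Q is normal in the system if and only if there is a chain of subgroups 1 = Q₀ ≤ Q₁ ≤ ⋯ ≤ Qₙ = Q such that each Qᵢ with i ≥ 1 is strongly closed in the system and [Q, Qᵢ] ≤ Qᵢ₋₁. -/
theorem result {Ω : Type*} [Group Ω] {S : Subgroup Ω} [Finite S] (p : ℕ) [Fact p.Prime] (hS : IsPGroup p S) (F : Cfsg.FusionSystem S) (hF : F.IsSaturated p) (Q : Subgroup Ω) : F.IsNormal Q ↔ ∃ (n : ℕ) (Qs : Fin (n + 1) → Subgroup Ω), Qs 0 = ⊥ ∧ Qs (Fin.last n) = Q ∧ Monotone Qs ∧ ∀ i : Fin n, F.StronglyClosed (Qs i.succ) ∧ ⁅Q, Qs i.succ⁆ ≤ Qs (Fin.castSucc i) := by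
  constructor
  · intro hQ
    have hQS : Q ≤ S := hQ.1
    haveI : Finite Q := Finite.of_injective (Subgroup.inclusion hQS) (Subgroup.inclusion_injective hQS)
    have hpQ : IsPGroup p Q := hS.of_injective (Subgroup.inclusion hQS) (Subgroup.inclusion_injective hQS)
    obtain ⟨n, hn⟩ := exists_ucs_eq hpQ
    refine ⟨n, fun i => ucs Q i, ucs_zero Q, hn, ?_, ?_⟩
    · intro i j hij
      exact ucs_mono Q hij
    · intro i
      constructor
      · refine ⟨le_trans (ucs_le Q _) hQS, fun R hR φ hφ x => ?_⟩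
        obtain ⟨ψ, -, hψφ, α, -, hαψ⟩ := normal_exists_extension hQ hφ
        have hxQ : (x : Ω) ∈ Q := ucs_le Q _ (hR x.2)
        have h1 : φ x = ((α ⟨x, hxQ⟩ : Q) : Ω) := by
          rw [← hψφ x, hαψ]
          rfl
        rw [h1]
        exact (ucs_aut_mem Q _ α ⟨x, hxQ⟩).mpr (hR x.2)
      · rw [Subgroup.commutator_comm, Subgroup.commutator_le]
        intro x hx q hq
        have := ucs_comm_mem Q i (by simpa using hx) hq
        rw [commutatorElement_def]
        simpa using this
  · rintro ⟨n, C, hC0, hCn, hmono, hsc⟩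
    have hQ : F.StronglyClosed Q := by
      rcases Nat.eq_zero_or_pos n with h0 | hpos
      · subst h0
        have : Q = ⊥ := by rw [← hCn, ← hC0]; rfl
        rw [this]; exact stronglyClosed_bot F
      · have h1 := (hsc ⟨n - 1, by omega⟩).1
        have h2 : Fin.succ (⟨n - 1, by omega⟩ : Fin n) = Fin.last n := by
          apply Fin.ext
          simp only [Fin.val_succ, Fin.val_last]
          omega
        rw [h2, hCn] at h1
        exact h1
    let c : ℕ → Subgroup Ω := fun j => if h : j < n + 1 then C ⟨j, h⟩ else Q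
    have hc : ∀ (j : ℕ) (h : j < n + 1), c j = C ⟨j, h⟩ := fun j h => by
      show (if h : j < n + 1 then C ⟨j, h⟩ else Q) = _
      rw [dif_pos h]
    refine isNormal_of_central_series hS hF hQ c n ?_ ?_ ?_ ?_ ?_
    · rw [hc 0 (Nat.succ_pos n)]; exact hC0
    · rw [hc n (Nat.lt_succ_self n)]; exact hCn
    · intro j hj
      rw [hc j (by omega), ← hCn]
      exact hmono (Fin.le_last _)
    · intro j hj
      rcases Nat.eq_zero_or_pos j with h0 | hpos
      · subst h0
        rw [hc 0 (Nat.succ_pos n)]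
        have : C ⟨0, Nat.succ_pos n⟩ = ⊥ := hC0
        rw [this]
        exact weaklyClosed_of_stronglyClosed (stronglyClosed_bot F)
      · rw [hc j (by omega)]
        have h1 := (hsc ⟨j - 1, by omega⟩).1
        have h2 : Fin.succ (⟨j - 1, by omega⟩ : Fin n) = ⟨j, by omega⟩ := by
          apply Fin.ext
          simp only [Fin.val_succ]
          omega
        rw [h2] at h1
        exact weaklyClosed_of_stronglyClosed h1
    · intro j hj x hx q hq
      rw [hc (j + 1) (by omega)] at hx
      rw [hc j (by omega)]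
      have h1 := (hsc ⟨j, hj⟩).2
      rw [Subgroup.commutator_comm] at h1
      have h2 : (⁅x, q⁆ : Ω) ∈ ⁅C (Fin.succ ⟨j, hj⟩), Q⁆ := Subgroup.commutator_mem_commutator hx hq
      have h3 := h1 h2
      rw [commutatorElement_def] at h3
      exact h3

end Cfsg.Agent.S5088
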