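import Cfsg.Statements.S5084
import Cfsg.Agent.Lib.Helper27.FusionNormal
import Cfsg.Agent.Lib.Helper27.FusionNormalCrit
import Cfsg.Agent.S5088

set_option autoImplicit false
open Cfsg

namespace Cfsg.Agent.S5084

open Cfsg.FusionSystem Cfsg.Agent.Lib.Helper27

/-- In a saturated fusion system over a finite p-group S, a subgroup Q is central in the system if and only if Q ≤ S and no element of Q is conjugate in the system to any element other than itself. -/
theorem result {Ω : Type*} [Group Ω] {S : Subgroup Ω} [Finite S] (p : ℕ) [Fact p.Prime] (hS : IsPGroup p S) (F : Cfsg.FusionSystem S) (hF : F.IsSaturated p) (Q : Subgroup Ω) : F.IsCentral Q ↔ (Q ≤ S ∧ ∀ x ∈ Q, ∀ y : Ω, F.IsConjElt x y → y = x) := by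
  constructor
  · intro hQ
    refine ⟨hQ.1, fun x hx y hxy => ?_⟩
    obtain ⟨φ, hφ, hφx⟩ := hxy
    obtain ⟨ψ, -, hψφ, hψQ⟩ := hQ.2 _ φ hφ
    have h1 := hψφ ⟨x, Subgroup.mem_zpowers x⟩
    have h2 := hψQ ⟨x, hx⟩
    have h3 : (Subgroup.inclusion (le_sup_left : Subgroup.zpowers x ≤ Subgroup.zpowers x ⊔ Q)
        ⟨x, Subgroup.mem_zpowers x⟩) = Subgroup.inclusion (le_sup_right : Q ≤ Subgroup.zpowers x ⊔ Q) ⟨x, hx⟩ :=
      Subtype.ext rfl
    rw [← hφx, ← h1, h3, h2]
  · rintro ⟨hQS, H⟩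
    -- key property
    have K : ∀ (P : Subgroup Ω) (φ : P →* Ω), φ ∈ F.Hom P → ∀ x : P, (x : Ω) ∈ Q → φ x = x := by
      intro P φ hφ x hx
      have hle : Subgroup.zpowers (x : Ω) ≤ P := by
        rw [Subgroup.zpowers_le]; exact x.2
      have h1 := hom_restrict F hle hφ
      have h2 : F.IsConjElt (x : Ω) (φ x) := ⟨_, h1, by
        show φ (Subgroup.inclusion hle ⟨x, Subgroup.mem_zpowers (x : Ω)⟩) = φ x
        congr 1⟩
      exact H x hx _ h2
    have hsc : F.StronglyClosed Q := by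
      refine ⟨hQS, fun R hR φ hφ x => ?_⟩
      rw [K R φ hφ x (hR x.2)]
      exact hR x.2
    have hcomm : ∀ x ∈ Q, ∀ q ∈ Q, x * q * x⁻¹ * q⁻¹ = 1 := by
      intro x hx q hq
      have h1 := K Q (Cfsg.conjHom Q x) (F.conj_mem hQS (hQS hx)) ⟨q, hq⟩ hq
      have h2 : x * q * x⁻¹ = q := h1
      rw [h2, mul_inv_cancel]
    have hQn : F.IsNormal Q := by
      let c : ℕ → Subgroup Ω := fun j => if j = 0 then ⊥ else Q
      refine isNormal_of_central_series hS hF hsc c 1 rfl rfl ?_ ?_ ?_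
      · intro j hj
        by_cases h0 : j = 0
        · simp [c, h0]
        · simp [c, h0]
      · intro j hj
        by_cases h0 : j = 0
        · have : c j = ⊥ := by simp [c, h0]
          rw [this]
          exact weaklyClosed_of_stronglyClosed (Cfsg.Agent.S5088.stronglyClosed_bot F)
        · have : c j = Q := by simp [c, h0]
          rw [this]
          exact weaklyClosed_of_stronglyClosed hsc
      · intro j hj x hx q hq
        have hj0 : j = 0 := by omega
        subst hj0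
        have hx' : x ∈ Q := hx
        show x * q * x⁻¹ * q⁻¹ ∈ (⊥ : Subgroup Ω)
        rw [Subgroup.mem_bot]
        exact hcomm x hx' q hq
    refine ⟨hQS, fun P φ hφ => ?_⟩
    obtain ⟨ψ, hψ, hψφ, -⟩ := hQn.2 P φ hφ
    exact ⟨ψ, hψ, hψφ, fun q => K _ ψ hψ _ q.2⟩

end Cfsg.Agent.S5084
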