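import Cfsg.Statements.S5085
import Cfsg.Agent.H26.Fusion

set_option autoImplicit false
open Cfsg

namespace Cfsg.Agent.S5085

open Cfsg.Agent.H26

/-- In any fusion system, a characteristic subgroup of a subgroup that is normal in the system is itself normal in the system. -/
theorem result {Ω : Type*} [Group Ω] {S : Subgroup Ω} (F : Cfsg.FusionSystem S) (Q U : Subgroup Ω) (hQ : F.IsNormal Q) (hUQ : U ≤ Q) (hU : (U.subgroupOf Q).Characteristic) : F.IsNormal U := by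
  obtain ⟨hQS, hQext⟩ := hQ
  refine ⟨le_trans hUQ hQS, ?_⟩
  intro P φ hφ
  obtain ⟨ψ₀, hψ₀, hext, hmap⟩ := hQext P φ hφ
  have hle : P ⊔ U ≤ P ⊔ Q := sup_le_sup_left hUQ P
  have hinj : Function.Injective ψ₀ := F.injective_of_mem hψ₀
  -- ψ₀ maps Q into Q
  have hQQ : ∀ q : Q, ψ₀ ⟨q, (le_sup_right : Q ≤ P ⊔ Q) q.2⟩ ∈ Q := by
    intro q
    apply le_of_eq hmap
    exact ⟨⟨q, (le_sup_right : Q ≤ P ⊔ Q) q.2⟩, Subgroup.mem_subgroupOf.mpr q.2, rfl⟩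
  let α₀ : Q →* Q :=
    { toFun := fun q => ⟨ψ₀ ⟨q, (le_sup_right : Q ≤ P ⊔ Q) q.2⟩, hQQ q⟩
      map_one' := by
        apply Subtype.ext
        show ψ₀ ⟨1, _⟩ = 1
        exact map_one ψ₀
      map_mul' := by
        intro a b
        apply Subtype.ext
        show ψ₀ ⟨a * b, _⟩ = ψ₀ ⟨a, _⟩ * ψ₀ ⟨b, _⟩
        rw [← map_mul]
        rfl }
  have hα₀inj : Function.Injective α₀ := by
    intro a b hab
    have h1 : ψ₀ ⟨a, (le_sup_right : Q ≤ P ⊔ Q) a.2⟩ = ψ₀ ⟨b, (le_sup_right : Q ≤ P ⊔ Q) b.2⟩ :=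
      congrArg Subtype.val hab
    have h2 := hinj h1
    have h3 : (a : Ω) = (b : Ω) := congrArg (fun z : ↥(P ⊔ Q) => (z : Ω)) h2
    exact Subtype.ext h3
  have hα₀surj : Function.Surjective α₀ := by
    intro y
    have hy : (y : Ω) ∈ (Q.subgroupOf (P ⊔ Q)).map ψ₀ := by rw [hmap]; exact y.2
    obtain ⟨x, hx, hxy⟩ := hy
    refine ⟨⟨x, Subgroup.mem_subgroupOf.mp hx⟩, ?_⟩
    apply Subtype.ext
    exact hxy
  let α : Q ≃* Q := MulEquiv.ofBijective α₀ ⟨hα₀inj, hα₀surj⟩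
  have hfix := hU.fixed α
  have hαU : ∀ q : Q, (α q : Ω) ∈ U ↔ (q : Ω) ∈ U := by
    intro q
    have : q ∈ (U.subgroupOf Q).comap α.toMonoidHom ↔ q ∈ U.subgroupOf Q := by rw [hfix]
    simpa [Subgroup.mem_subgroupOf] using this
  refine ⟨ψ₀.comp (Subgroup.inclusion hle), Fus.restrict_mem F hle hψ₀, ?_, ?_⟩
  · intro x
    rw [← hext x]
    rfl
  · ext y
    constructor
    · rintro ⟨x, hx, rfl⟩
      have hxU : (x : Ω) ∈ U := Subgroup.mem_subgroupOf.mp hx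
      have := (hαU ⟨x, hUQ hxU⟩).mpr hxU
      exact this
    · intro hy
      obtain ⟨q, hq⟩ := hα₀surj ⟨y, hUQ hy⟩
      have hqU : (q : Ω) ∈ U := by
        rw [← hαU q]
        show ((α₀ q : Q) : Ω) ∈ U
        rw [hq]; exact hy
      refine ⟨⟨q, (le_sup_right : U ≤ P ⊔ U) hqU⟩, Subgroup.mem_subgroupOf.mpr hqU, ?_⟩
      have := congrArg Subtype.val hq
      exact this

end Cfsg.Agent.S5085
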