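import Cfsg.Statements.S5089
import Cfsg.Agent.Lib.Helper27.FusionNormal
import Cfsg.Agent.Lib.Helper27.FusionNormalCrit
import Cfsg.Agent.Lib.Helper27.FusionUCS
import Cfsg.Agent.S5088

set_option autoImplicit false
open Cfsg

namespace Cfsg.Agent.S5089

open Cfsg.FusionSystem Cfsg.Agent.Lib.Helper27

theorem ucs_stronglyClosed {Ω : Type*} [Group Ω] {S : Subgroup Ω} [Finite S] {F : Cfsg.FusionSystem S}
    {Q : Subgroup Ω} (hQ : F.IsNormal Q) (j : ℕ) : F.StronglyClosed (ucs Q j) := by
  have hQS : Q ≤ S := hQ.1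
  haveI : Finite Q := Finite.of_injective (Subgroup.inclusion hQS) (Subgroup.inclusion_injective hQS)
  refine ⟨le_trans (ucs_le Q _) hQS, fun R hR φ hφ x => ?_⟩
  obtain ⟨ψ, -, hψφ, α, -, hαψ⟩ := normal_exists_extension hQ hφ
  have hxQ : (x : Ω) ∈ Q := ucs_le Q _ (hR x.2)
  have h1 : φ x = ((α ⟨x, hxQ⟩ : Q) : Ω) := by
    rw [← hψφ x, hαψ]
    rfl
  rw [h1]
  exact (ucs_aut_mem Q _ α ⟨x, hxQ⟩).mpr (hR x.2)

/-- A saturated fusion system over a finite p-group has a nontrivial subgroup that is normal in the system (O_p(F) ≠ 1) if and only if some nontrivial abelian subgroup is strongly closed in the system. -/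
theorem result {Ω : Type*} [Group Ω] {S : Subgroup Ω} [Finite S] (p : ℕ) [Fact p.Prime] (hS : IsPGroup p S) (F : Cfsg.FusionSystem S) (hF : F.IsSaturated p) : F.core ≠ ⊥ ↔ ∃ Q : Subgroup Ω, Q ≠ ⊥ ∧ IsMulCommutative Q ∧ F.StronglyClosed Q := by
  constructor
  · intro hne
    have hR : F.IsNormal F.core := isNormal_core F
    have hRS : F.core ≤ S := hR.1
    haveI : Finite F.core := Finite.of_injective (Subgroup.inclusion hRS) (Subgroup.inclusion_injective hRS)
    have hpR : IsPGroup p F.core := hS.of_injective (Subgroup.inclusion hRS) (Subgroup.inclusion_injective hRS)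
    haveI : Nontrivial F.core := (Subgroup.nontrivial_iff_ne_bot _).mpr hne
    refine ⟨ucs F.core 1, ?_, ?_, ucs_stronglyClosed hR 1⟩
    · unfold ucs
      rw [Subgroup.upperCentralSeries_one]
      intro h
      rw [Subgroup.map_eq_bot_iff_of_injective _ (Subgroup.subtype_injective _)] at h
      have := hpR.center_nontrivial
      rw [h] at this
      exact not_nontrivial _ this
    · refine ⟨⟨fun x y => ?_⟩⟩
      apply Subtype.ext
      have h1 := ucs_comm_mem F.core 0 x.2 (ucs_le _ _ y.2)
      rw [ucs_zero, Subgroup.mem_bot] at h1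
      show (x : Ω) * y = y * x
      calc (x : Ω) * y = ((x : Ω) * y * (x : Ω)⁻¹ * (y : Ω)⁻¹) * (y * x) := by group
        _ = y * x := by rw [h1, one_mul]
  · rintro ⟨Q, hne, hab, hsc⟩
    have hQn : F.IsNormal Q := by
      let c : ℕ → Subgroup Ω := fun j => if j = 0 then ⊥ else Q
      refine isNormal_of_central_series hS hF hsc c 1 rfl rfl ?_ ?_ ?_
      · intro j hj
        by_cases h0 : j = 0
        · simp [c, h0]
        · simp [c, h0]
      · intro j hj
        by_cases h0 : j = 0
        · have : c j = ⊥ := by simp [c, h0]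
          rw [this]
          exact weaklyClosed_of_stronglyClosed (Cfsg.Agent.S5088.stronglyClosed_bot F)
        · have : c j = Q := by simp [c, h0]
          rw [this]
          exact weaklyClosed_of_stronglyClosed hsc
      · intro j hj x hx q hq
        have hj0 : j = 0 := by omega
        subst hj0
        have hx' : x ∈ Q := hx
        show x * q * x⁻¹ * q⁻¹ ∈ (⊥ : Subgroup Ω)
        rw [Subgroup.mem_bot]
        have hcomm : x * q = q * x := congrArg Subtype.val (hab.is_comm.comm ⟨x, hx'⟩ ⟨q, hq⟩)
        rw [hcomm]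
        group
    intro hcore
    apply hne
    have := le_core hQn
    rw [hcore] at this
    exact le_bot_iff.mp this

end Cfsg.Agent.S5089
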