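import Cfsg.Statements.S5095
import Cfsg.Agent.H26.CentricConj

set_option autoImplicit false
open Cfsg

namespace Cfsg.Agent.S5095

open Cfsg.Agent.H26 Cfsg.FusionSystem Cfsg.Agent.Lib.Helper27

/-- In a saturated fusion system over a finite p-group S: if Q ≤ P ≤ S with Q centric, and two maps of the system with source P agree on Q, then they differ by an inner automorphism of P induced by an element of the centre of Q. -/
theorem result {Ω : Type*} [Group Ω] {S : Subgroup Ω} [Finite S] (p : ℕ) [Fact p.Prime] (hS : IsPGroup p S) (F : Cfsg.FusionSystem S) (hF : F.IsSaturated p) (P Q : Subgroup Ω) (hQP : Q ≤ P) (hQ : F.IsCentric Q) (φ φ' : P →* Ω) (hφ : φ ∈ F.Hom P) (hφ' : φ' ∈ F.Hom P) (h : ∀ x : P, (x : Ω) ∈ Q → φ x = φ' x) : ∃ z : P, (z : Ω) ∈ Q ∧ (z : Ω) ∈ Subgroup.centralizer (Q : Set Ω) ∧ ∀ y : P, φ' y = φ (z * y * z⁻¹) := by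
  have hPS : P ≤ S := hom_le F hφ
  obtain ⟨e, he, heφ⟩ := exists_isIso_of_hom F hφ (rfl : φ.range = φ.range)
  -- ψ = φ' ∘ e⁻¹
  have hcm : ∀ x : φ.range, (P.subtype.comp e.symm.toMonoidHom) x ∈ P := fun x => (e.symm x).2
  have hψ := F.comp_mem he.symm hφ' hcm
  have hψapply : ∀ x : φ.range,
      (φ'.comp ((P.subtype.comp e.symm.toMonoidHom).codRestrict P hcm)) x = φ' (e.symm x) := by
    intro x
    simp only [MonoidHom.coe_comp, Function.comp_apply]
    congr 1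
  -- Q₁ = φ(Q)
  have hQ₁conj : F.IsConj Q ((Q.subgroupOf P).map φ) := by
    refine ⟨φ.comp (Subgroup.inclusion hQP), hom_restrict F hQP hφ, ?_⟩
    ext y
    constructor
    · rintro ⟨x, rfl⟩
      exact ⟨Subgroup.inclusion hQP x, Subgroup.mem_subgroupOf.mpr x.2, rfl⟩
    · rintro ⟨x, hx, rfl⟩
      exact ⟨⟨x, Subgroup.mem_subgroupOf.mp hx⟩, rfl⟩
  have hQ₁c : F.IsCentric ((Q.subgroupOf P).map φ) := isCentric_of_isConj hQ hQ₁conj
  have hQ₁P₁ : (Q.subgroupOf P).map φ ≤ φ.range := by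
    rintro _ ⟨x, -, rfl⟩
    exact ⟨x, rfl⟩
  have hfix : ∀ x : φ.range, (x : Ω) ∈ (Q.subgroupOf P).map φ →
      (φ'.comp ((P.subtype.comp e.symm.toMonoidHom).codRestrict P hcm)) x = x := by
    rintro x ⟨q, hq, hqx⟩
    rw [hψapply]
    have hex : e q = x := Subtype.ext (by rw [heφ]; exact hqx)
    rw [← hex, MulEquiv.symm_apply_apply, ← h q (Subgroup.mem_subgroupOf.mp hq), heφ]
  obtain ⟨z₁, ⟨z, hzQ, rfl⟩, hzc, hz⟩ := exists_center_conj_of_fix_centric hS hF hQ₁c hQ₁P₁ hψ hfix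
  have hzQ' : (z : Ω) ∈ Q := Subgroup.mem_subgroupOf.mp hzQ
  refine ⟨z, hzQ', ?_, fun y => ?_⟩
  · rw [Subgroup.mem_centralizer_iff]
    intro q hq
    have h1 := hzc (φ ⟨q, hQP hq⟩) ⟨⟨q, hQP hq⟩, Subgroup.mem_subgroupOf.mpr hq, rfl⟩
    rw [← map_mul, ← map_mul] at h1
    have h2 := F.injective_of_mem hφ h1
    exact congrArg (fun u : P => (u : Ω)) h2
  · have h1 := hz (e y)
    rw [hψapply, MulEquiv.symm_apply_apply, heφ] at h1
    rw [h1, map_mul, map_mul, map_inv]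

end Cfsg.Agent.S5095
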