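import Cfsg.Statements.S5102
import Cfsg.Agent.H26.FusionNormal
import Cfsg.Agent.H26.StronglyEmbedded

set_option autoImplicit false
open Cfsg

namespace Cfsg.Agent.S5102

open Cfsg.Agent.H26

/-- A normal p-subgroup of a finite group G is normal in the fusion system of G on a Sylow p-subgroup. -/
theorem result {G : Type*} [Group G] [Finite G] (p : ℕ) [Fact p.Prime] (S : Sylow p G) (R : Subgroup G) [R.Normal] (hR : IsPGroup p R) : (Cfsg.groupFusionSystem (S : Subgroup G)).IsNormal R := by
  have hRn : R.Normal := inferInstance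
  have hRS : R ≤ (S : Subgroup G) := normal_pSubgroup_le_sylow hRn hR S
  refine ⟨hRS, ?_⟩
  rintro P φ ⟨hP, hφS, g, hg⟩
  have hPR : P ⊔ R ≤ (S : Subgroup G) := sup_le hP hRS
  have hval : ∀ x : ↥(P ⊔ R), g * (x : G) * g⁻¹ ∈ (S : Subgroup G) := by
    have hle : P ⊔ R ≤ (S : Subgroup G).comap (MulAut.conj g).toMonoidHom := by
      rw [sup_le_iff]
      constructor
      · intro x hx
        show g * x * g⁻¹ ∈ (S : Subgroup G)
        rw [← hg ⟨x, hx⟩]; exact hφS _
      · intro x hx
        exact hRS (hRn.conj_mem x hx g)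
    intro x
    exact hle x.2
  refine ⟨Cfsg.conjHom (P ⊔ R) g, ⟨hPR, hval, g, fun x => rfl⟩, ?_, ?_⟩
  · intro x
    rw [hg x]; rfl
  · ext y
    rw [mem_map_subgroupOf]
    constructor
    · rintro ⟨x, hx, rfl⟩
      exact hRn.conj_mem _ hx g
    · intro hy
      refine ⟨⟨g⁻¹ * y * g, (le_sup_right : R ≤ P ⊔ R) ?_⟩, ?_, ?_⟩
      · have := hRn.conj_mem y hy g⁻¹
        simpa using this
      · have := hRn.conj_mem y hy g⁻¹
        simpa using this
      · show g * (g⁻¹ * y * g) * g⁻¹ = y
        group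

end Cfsg.Agent.S5102
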