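import Cfsg.Statements.S5105
import Cfsg.Agent.H26.SylowRigid
import Cfsg.Agent.Lib.Helper1.Cores

set_option autoImplicit false
open Cfsg

namespace Cfsg.Agent.S5105

open Cfsg.Agent.H26 Cfsg.FusionSystem Cfsg.Agent.Lib.Helper1

/-- Model Theorem, rigidity: if G is a model of a constrained fusion system over a finite p-group S (through ι : S → G), then every automorphism of G fixing ι(S) elementwise is conjugation by ι(z) for some z in the centre of S. -/
theorem result {Ω : Type*} [Group Ω] {S : Subgroup Ω} [Finite S] (p : ℕ) [Fact p.Prime] (hS : IsPGroup p S) (F : Cfsg.FusionSystem S) (hF : F.IsConstrained p) {G : Type*} [Group G] (ι : S →* G) (hG : F.IsModel p G ι) (ψ : G ≃* G) (hψ : ∀ x : S, ψ (ι x) = ι x) : ∃ z : S, z ∈ Subgroup.center S ∧ ∀ g : G, ψ g = ι z * g * (ι z)⁻¹ := by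
  obtain ⟨hfin, ⟨hinj, hreal⟩, ⟨T, hT⟩, hcent⟩ := hG
  haveI := hfin
  haveI hQn : (pCore p G).Normal := pCore_normal (G := G) p
  haveI hAn : (Subgroup.centralizer ((pCore p G : Subgroup G) : Set G)).Normal :=
    Subgroup.normal_centralizer
  have hQT : pCore p G ≤ T := pCore_le_sylow T
  haveI hAc : IsMulCommutative (Subgroup.centralizer ((pCore p G : Subgroup G) : Set G)) :=
    ⟨⟨fun a b => Subtype.ext ((Subgroup.mem_centralizer_iff.mp a.2) b (hcent b.2)).symm⟩⟩
  have hψT : ∀ t ∈ (T : Subgroup G), ψ t = t := by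
    intro t ht
    rw [hT] at ht
    obtain ⟨x, rfl⟩ := ht
    exact hψ x
  have hA : ∀ g, ψ g * g⁻¹ ∈ Subgroup.centralizer ((pCore p G : Subgroup G) : Set G) := by
    intro g
    rw [Subgroup.mem_centralizer_iff]
    intro q hq
    have hq' : g⁻¹ * q * g ∈ pCore p G := by simpa using hQn.conj_mem q hq g⁻¹
    have h1 : ψ (g⁻¹ * q * g) = g⁻¹ * q * g := hψT _ (hQT hq')
    have h2 : ψ q = q := hψT _ (hQT hq)
    rw [map_mul, map_mul, map_inv, h2] at h1
    calc q * (ψ g * g⁻¹) = ψ g * ((ψ g)⁻¹ * q * ψ g) * g⁻¹ := by group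
      _ = ψ g * (g⁻¹ * q * g) * g⁻¹ := by rw [h1]
      _ = ψ g * g⁻¹ * q := by group
  obtain ⟨v, hvA, hv⟩ := aut_fix_sylow_eq_conj T _ (hcent.trans hQT) ψ hψT hA
  have hvT : v ∈ (T : Subgroup G) := hQT (hcent hvA)
  rw [hT] at hvT
  obtain ⟨z, rfl⟩ := hvT
  refine ⟨z, ?_, hv⟩
  rw [Subgroup.mem_center_iff]
  intro s
  apply hinj
  rw [map_mul, map_mul]
  have := hv (ι s)
  rw [hψ s] at this
  calc ι s * ι z = (ι z * ι s * (ι z)⁻¹) * ι z := by rw [← this]
    _ = ι z * ι s := by group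

end Cfsg.Agent.S5105
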