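import Cfsg.Statements.S5106
import Cfsg.Agent.Lib.Helper27.FusionNormal
import Cfsg.Agent.Lib.Helper27.FusionNormalCrit
import Cfsg.Agent.Lib.Helper27.FusionUCS
import Cfsg.Agent.S5088

set_option autoImplicit false
open Cfsg

namespace Cfsg.Agent.S5106

open Cfsg.FusionSystem Cfsg.Agent.Lib.Helper27
open scoped commutatorElement

/-- In a saturated fusion system over a finite p-group S, a subgroup R ≤ S is normal in the system if and only if every map of the system whose source is a subgroup of R is the restriction of an element of Aut_F(R). -/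
theorem result {Ω : Type*} [Group Ω] {S : Subgroup Ω} [Finite S] (p : ℕ) [Fact p.Prime] (hS : IsPGroup p S) (F : Cfsg.FusionSystem S) (hF : F.IsSaturated p) (R : Subgroup Ω) (hRS : R ≤ S) : F.IsNormal R ↔ ∀ (P : Subgroup Ω) (hPR : P ≤ R) (φ : P →* Ω), φ ∈ F.Hom P → ∃ α ∈ F.autGroup R, ∀ x : P, ((α (Subgroup.inclusion hPR x) : R) : Ω) = φ x := by
  haveI : Finite R := Finite.of_injective (Subgroup.inclusion hRS) (Subgroup.inclusion_injective hRS)
  have hpR : IsPGroup p R := hS.of_injective (Subgroup.inclusion hRS) (Subgroup.inclusion_injective hRS)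
  constructor
  · intro hR P hPR φ hφ
    obtain ⟨ψ, -, hψφ, α, hα, hαψ⟩ := normal_exists_extension hR hφ
    refine ⟨α, (mem_autGroup_iff F hRS α).mpr hα, fun x => ?_⟩
    rw [← hψφ x]
    exact hαψ (Subgroup.inclusion hPR x)
  · intro h
    rw [Cfsg.Agent.S5088.result p hS F hF R]
    obtain ⟨n, hn⟩ := exists_ucs_eq hpR
    refine ⟨n, fun i => ucs R i, ucs_zero R, hn, ?_, ?_⟩
    · intro i j hij
      exact ucs_mono R hij
    · intro i
      constructor
      · refine ⟨le_trans (ucs_le R _) hRS, fun P hP φ hφ x => ?_⟩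
        obtain ⟨α, -, hαφ⟩ := h P (le_trans hP (ucs_le R _)) φ hφ
        rw [← hαφ x]
        exact (ucs_aut_mem R _ α _).mpr (hP x.2)
      · rw [Subgroup.commutator_comm, Subgroup.commutator_le]
        intro x hx q hq
        have := ucs_comm_mem R i (by simpa using hx) hq
        rw [commutatorElement_def]
        simpa using this

end Cfsg.Agent.S5106
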