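import Cfsg.Statements.S5107
import Cfsg.Agent.H26.GroupFusionSat
import Cfsg.Agent.Lib.Helper27.FusionNormalCrit

set_option autoImplicit false
open Cfsg

namespace Cfsg.Agent.S5107

open Cfsg.Agent.H26 Cfsg.FusionSystem Cfsg.Agent.Lib.Helper27
open scoped commutatorElement

/-- If a Sylow p-subgroup S of a finite group G has nilpotency class at most two and its centre is strongly closed in S with respect to G, then every map of the fusion system of G on S is conjugation by an element of N_G(S), and S is the largest subgroup normal in that fusion system. -/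
theorem result {G : Type*} [Group G] [Finite G] (p : ℕ) [Fact p.Prime] (S : Sylow p G) (hcl : ⁅(S : Subgroup G), (S : Subgroup G)⁆ ≤ (S : Subgroup G) ⊓ Subgroup.centralizer ((S : Subgroup G) : Set G)) (hZ : Cfsg.IsStronglyClosed ((S : Subgroup G) ⊓ Subgroup.centralizer ((S : Subgroup G) : Set G)) (S : Subgroup G)) : (∀ (P : Subgroup G) (φ : P →* G), φ ∈ (Cfsg.groupFusionSystem (S : Subgroup G)).Hom P → ∃ g ∈ Subgroup.normalizer ((S : Subgroup G) : Set G), ∀ x : P, φ x = g * (x : G) * g⁻¹) ∧ (Cfsg.groupFusionSystem (S : Subgroup G)).core = S := by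
  have hSp : IsPGroup p (S : Subgroup G) := S.isPGroup'
  have hF := groupFusion_saturated S
  -- Z(S) is strongly closed in the system
  have hZsc : (Cfsg.groupFusionSystem (S : Subgroup G)).StronglyClosed
      ((S : Subgroup G) ⊓ Subgroup.centralizer ((S : Subgroup G) : Set G)) := by
    refine ⟨inf_le_left, fun R hR φ hφ x => ?_⟩
    obtain ⟨-, hφS, g, hg⟩ := hφ
    rw [hg x]
    apply hZ.2 _ (hR x.2) g
    rw [← hg x]
    exact hφS x
  have hSsc : (Cfsg.groupFusionSystem (S : Subgroup G)).StronglyClosed (S : Subgroup G) :=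
    ⟨le_rfl, fun R hR φ hφ x => (hφ.2.1 x)⟩
  have hbot : (Cfsg.groupFusionSystem (S : Subgroup G)).WeaklyClosed (⊥ : Subgroup G) := by
    refine ⟨bot_le, fun φ hφ => ?_⟩
    rw [eq_bot_iff]
    rintro _ ⟨x, rfl⟩
    have : x = 1 := Subsingleton.elim _ _
    rw [this, map_one]
    exact Subgroup.one_mem _
  have hnorm : (Cfsg.groupFusionSystem (S : Subgroup G)).IsNormal (S : Subgroup G) := by
    apply isNormal_of_central_series hSp hF hSsc
      (fun j => if j = 0 then ⊥ else if j = 1 then
        ((S : Subgroup G) ⊓ Subgroup.centralizer ((S : Subgroup G) : Set G)) else (S : Subgroup G)) 2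
    · simp
    · simp
    · intro j hj
      split_ifs
      · exact bot_le
      · exact inf_le_left
      · exact le_rfl
    · intro j hj
      split_ifs
      · exact hbot
      · exact weaklyClosed_of_stronglyClosed hZsc
      · exact weaklyClosed_of_stronglyClosed hSsc
    · intro j hj x hx q hq
      interval_cases j
      · simp only [zero_add, one_ne_zero, if_false, if_true] at hx ⊢
        have := (Subgroup.mem_centralizer_iff.mp hx.2) q hq
        rw [Subgroup.mem_bot]
        rw [← this]
        group
      · simp only [if_true, if_false] at hx ⊢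
        norm_num at hx ⊢
        apply hcl
        have : x * q * x⁻¹ * q⁻¹ = ⁅x, q⁆ := by rw [commutatorElement_def]
        rw [this]
        exact Subgroup.commutator_mem_commutator hx hq
  refine ⟨fun P φ hφ => ?_, ?_⟩
  · obtain ⟨ψ, hψ, hψφ, hψS⟩ := hnorm.2 P φ hφ
    obtain ⟨-, -, g, hg⟩ := hψ
    refine ⟨g, ?_, fun x => ?_⟩
    · apply mem_normalizer_of_conj_mem
      intro y hy
      have hy' : y ∈ P ⊔ (S : Subgroup G) := Subgroup.mem_sup_right hy
      have h1 : ψ ⟨y, hy'⟩ ∈ ((S : Subgroup G).subgroupOf (P ⊔ (S : Subgroup G))).map ψ :=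
        ⟨⟨y, hy'⟩, Subgroup.mem_subgroupOf.mpr hy, rfl⟩
      rw [hψS, hg] at h1
      exact h1
    · rw [← hψφ x, hg]
      rfl
  · apply le_antisymm
    · unfold FusionSystem.core
      apply sSup_le
      intro Q hQ
      exact hQ.1
    · unfold FusionSystem.core
      exact le_sSup hnorm

end Cfsg.Agent.S5107
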