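import Cfsg.Statements.S5112
import Cfsg.Agent.H26.AutTwoGroup
import Cfsg.Agent.H26.Fusion

set_option autoImplicit false
open Cfsg

namespace Cfsg.Agent.S5112

open Cfsg.Agent.H26 Cfsg.FusionSystem

/-- If S is a dihedral or generalized quaternion 2-group of order at least 16, then in every saturated fusion system over S (at the prime 2) the automorphism group Aut_F(S) consists of the inner automorphisms of S. -/
theorem result {Ω : Type*} [Group Ω] {S : Subgroup Ω} [Finite S] (n : ℕ) (hn : 4 ≤ n) (hshape : Nonempty (S ≃* DihedralGroup (2 ^ (n - 1))) ∨ Nonempty (S ≃* QuaternionGroup (2 ^ (n - 2)))) (F : Cfsg.FusionSystem S) (hF : F.IsSaturated 2) : F.autGroup S = Cfsg.Inn S := by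
  have hAut : IsPGroup 2 (MulAut S) := by
    rcases hshape with ⟨⟨e⟩⟩ | ⟨⟨e⟩⟩
    · exact (isPGroup_two_mulAut_dihedral n hn).of_equiv (MulAut.congr e).symm
    · exact (isPGroup_two_mulAut_quaternion n hn).of_equiv (MulAut.congr e).symm
  obtain ⟨Q, ⟨φ, hφ, hφQ⟩, ⟨hQS, R, hR⟩, -⟩ := hF S le_rfl
  have hQ : Q = S := by
    have hinj := F.injective_of_mem hφ
    have hcard : Nat.card S = Nat.card Q := by
      rw [← hφQ]
      exact Nat.card_congr (MonoidHom.ofInjective hinj).toEquiv
    exact Subgroup.eq_of_le_of_card_ge hQS (le_of_eq hcard)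
  subst hQ
  have hRtop : (⊤ : Subgroup (F.autGroup Q)) = (R : Subgroup (F.autGroup Q)) :=
    R.is_maximal' ((hAut.to_subgroup _).to_subgroup _) le_top
  have h1 : F.autGroup Q ≤ Cfsg.autInducedBy Q Q := by
    rw [hR] at hRtop
    exact Subgroup.subgroupOf_eq_top.mp hRtop.symm
  have h2 : Cfsg.autInducedBy Q Q ≤ Cfsg.Inn Q := by
    unfold Cfsg.autInducedBy
    rw [Subgroup.closure_le]
    rintro α ⟨g, hg, hα⟩
    refine ⟨⟨g, hg⟩, ?_⟩
    ext x
    rw [hα x]
    rfl
  have h3 : Cfsg.Inn Q ≤ F.autGroup Q := by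
    rintro _ ⟨g, rfl⟩
    apply Subgroup.subset_closure
    have := F.conj_mem (le_refl Q) g.2
    exact this
  exact le_antisymm (le_trans h1 h2) h3

end Cfsg.Agent.S5112
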