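import Cfsg.Statements.S5122
import Cfsg.Agent.H26.GroupFusion2

set_option autoImplicit false
open Cfsg

namespace Cfsg.Agent.S5122

open Cfsg.Agent.H26

theorem normalizerIn_le {G : Type*} [Group G] (S P : Subgroup G) :
    Cfsg.FusionSystem.normalizerIn S P ≤ Subgroup.normalizer (P : Set G) := inf_le_right

theorem centralizerIn_le {G : Type*} [Group G] (S P : Subgroup G) :
    Cfsg.FusionSystem.centralizerIn S P ≤ Subgroup.centralizer (P : Set G) := inf_le_right

/-- Let G be a finite group with Sylow p-subgroup S. Every subgroup P of S has a G-conjugate Q ≤ S such that N_S(Q) is a Sylow p-subgroup of N_G(Q); and for any Q ≤ S with that property, C_S(Q) is a Sylow p-subgroup of C_G(Q) and the automorphisms of Q induced by N_S(Q) form a Sylow p-subgroup of those induced by N_G(Q). -/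
theorem result {G : Type*} [Group G] [Finite G] (p : ℕ) [Fact p.Prime] (S : Sylow p G) : (∀ P : Subgroup G, P ≤ S → ∃ g : G, P.map (MulAut.conj g).toMonoidHom ≤ S ∧ (∃ R : Sylow p ↥(Subgroup.normalizer ((P.map (MulAut.conj g).toMonoidHom : Subgroup G) : Set G)), (R : Subgroup ↥(Subgroup.normalizer ((P.map (MulAut.conj g).toMonoidHom : Subgroup G) : Set G))) = (Cfsg.FusionSystem.normalizerIn (S : Subgroup G) (P.map (MulAut.conj g).toMonoidHom)).subgroupOf (Subgroup.normalizer ((P.map (MulAut.conj g).toMonoidHom : Subgroup G) : Set G)))) ∧ ∀ Q : Subgroup G, Q ≤ S → (∃ R : Sylow p ↥(Subgroup.normalizer (Q : Set G)), (R : Subgroup ↥(Subgroup.normalizer (Q : Set G))) = (Cfsg.FusionSystem.normalizerIn (S : Subgroup G) Q).subgroupOf (Subgroup.normalizer (Q : Set G))) → (∃ R : Sylow p ↥(Subgroup.centralizer (Q : Set G)), (R : Subgroup ↥(Subgroup.centralizer (Q : Set G))) = (Cfsg.FusionSystem.centralizerIn (S : Subgroup G) Q).subgroupOf (Subgroup.centralizer (Q : Set G))) ∧ (∃ R : Sylow p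 ↥(Cfsg.autInducedBy ⊤ Q), (R : Subgroup ↥(Cfsg.autInducedBy ⊤ Q)) = (Cfsg.autInducedBy (S : Subgroup G) Q).subgroupOf (Cfsg.autInducedBy ⊤ Q)) := by
  refine ⟨?_, ?_⟩
  · intro P hP
    obtain ⟨g, hgS, hcard⟩ := exists_conj_normalizer_sylow S hP
    refine ⟨g, hgS, ?_⟩
    apply (exists_sylow_eq_subgroupOf_iff (normalizerIn_le (S : Subgroup G) (Cfsg.conjBy P g))).mpr
    rw [hcard, card_normalizer_conjBy]
  · intro Q hQ hN
    refine ⟨?_, autInducedBy_sylow S hN⟩
    have hN' := (exists_sylow_eq_subgroupOf_iff (normalizerIn_le (S : Subgroup G) Q)).mp hN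
    apply (exists_sylow_eq_subgroupOf_iff (centralizerIn_le (S : Subgroup G) Q)).mpr
    exact centralizerIn_card_of_normalizerIn_card S hN'

end Cfsg.Agent.S5122
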