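import Cfsg.Statements.S5125
import Cfsg.Agent.Lib.Helper27.FusionNormalCrit
import Cfsg.Agent.Lib.Helper27.FusionNormal
import Cfsg.Agent.Lib.Helper27.FusionLift
import Cfsg.Agent.H26.Stancu
import Cfsg.Agent.S5086

set_option autoImplicit false
open Cfsg

namespace Cfsg.Agent.S5125

open Cfsg.Agent.H26 Cfsg.FusionSystem Cfsg.Agent.Lib.Helper27
open scoped commutatorElement

/-- Let F be a saturated fusion system over a finite p-group S and Q a subgroup strongly closed in F. If Q has a subgroup Q₁ that is normal in F, with Q/Q₁ abelian and Aut_F(Q₁) a p-group, then Q is normal in F. -/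
theorem result {Ω : Type*} [Group Ω] {S : Subgroup Ω} [Finite S] (p : ℕ) [Fact p.Prime] (hS : IsPGroup p S) (F : Cfsg.FusionSystem S) (hF : F.IsSaturated p) (Q Q₁ : Subgroup Ω) (hQ : F.StronglyClosed Q) (hQ₁Q : Q₁ ≤ Q) (hQ₁ : F.IsNormal Q₁) (hab : ⁅Q, Q⁆ ≤ Q₁) (hAut : IsPGroup p ↥(F.autGroup Q₁)) : F.IsNormal Q := by
  have hQS : Q ≤ S := hQ.1
  have hQ₁wc := normal_weaklyClosed hQ₁
  apply isNormal_of_le_frc hS hF hQ
  intro R hRlt hfn hc hr
  have hRS : R ≤ S := hc.1
  haveI : Finite R := Finite.of_injective (Subgroup.inclusion hRS) (Subgroup.inclusion_injective hRS)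
  have hQ₁R : Q₁ ≤ R := Cfsg.Agent.S5086.normal_le_centric_radical hS hQ₁ hc hr
  have hQ₁S : Q₁ ≤ S := hQ₁.1
  haveI : Finite Q₁ := Finite.of_injective (Subgroup.inclusion hQ₁S) (Subgroup.inclusion_injective hQ₁S)
  apply le_of_inf_normalizer_le hS hRS hQS (fun s hs d hd => stronglyClosed_conj_mem hQ hs hd)
  intro g hgQ hgN
  have hg : g ∈ normalizerIn S R := ⟨hQS hgQ, hgN⟩
  -- the chains
  let b : ℕ → Subgroup Ω := fun j => if j = 0 then ⊥ else if j = 1 then Q₁ else if j = 2 then Q else ⊤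
  have hb0 : b 0 = ⊥ := by simp [b]
  have hb1 : b 1 = Q₁ := by simp [b]
  have hb2 : b 2 = Q := by simp [b]
  have hb3 : b 3 = ⊤ := by simp [b]
  have hinv : ∀ j, ∀ α : F.autGroup R, ∀ x : R, (x : Ω) ∈ b j → ((((α : MulAut R) x : R)) : Ω) ∈ b j := by
    intro j α x hx
    have hα : IsIso F ((α : MulAut R) : R ≃* R) := (mem_autGroup_iff F hRS α).mp α.2
    by_cases h0 : j = 0
    · subst h0
      rw [hb0, Subgroup.mem_bot] at hx ⊢
      have : x = 1 := Subtype.ext hx
      rw [this, map_one]; rfl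
    by_cases h1 : j = 1
    · subst h1
      rw [hb1] at hx ⊢
      exact weaklyClosed_aut_mem hQ₁wc hQ₁R hα x hx
    by_cases h2 : j = 2
    · subst h2
      rw [hb2] at hx ⊢
      exact stronglyClosed_aut_mem hQ hα hx
    · have : b j = ⊤ := by simp [b, h0, h1, h2]
      rw [this]
      exact Subgroup.mem_top _
  have hinv' : ∀ j, ∀ α : F.autGroup R, ∀ x : R, (x : Ω) ∈ b (j + 1) →
      ((((α : MulAut R) x : R)) : Ω) ∈ b (j + 1) := fun j => hinv (j + 1)
  have hKn := chainStabilizer_normal F R (fun j => b (j + 1)) 2 hinv'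
  have hKp : IsPGroup p (chainStabilizer F R (fun j => b (j + 1)) 2 hinv') := by
    intro γ
    -- restriction of γ to Q₁
    have hγiso : IsIso F (((γ : F.autGroup R) : MulAut R) : R ≃* R) :=
      (mem_autGroup_iff F hRS _).mp (γ : F.autGroup R).2
    obtain ⟨α₁, hα₁, hα₁γ⟩ := exists_aut_restrict F hQ₁R hγiso
      (fun x hx => weaklyClosed_aut_mem hQ₁wc hQ₁R hγiso x hx)
    have hα₁A : (α₁ : MulAut Q₁) ∈ F.autGroup Q₁ := (mem_autGroup_iff F hQ₁S _).mpr hα₁
    obtain ⟨a, ha⟩ := hAut ⟨α₁, hα₁A⟩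
    have ha' : (α₁ : MulAut Q₁) ^ p ^ a = 1 := by
      have := congrArg (fun z : F.autGroup Q₁ => (z : MulAut Q₁)) ha
      simpa using this
    have hcompat := pow_restrict_compat hQ₁R ((γ : F.autGroup R) : MulAut R) (α₁ : MulAut Q₁)
      (fun x => (hα₁γ x).symm) (p ^ a)
    -- δ = γ ^ p ^ a fixes Q₁ pointwise
    have hδfix : ∀ x : R, (x : Ω) ∈ Q₁ →
        ((((γ : F.autGroup R) : MulAut R) ^ p ^ a) x) = x := by
      intro x hx
      apply Subtype.ext
      have := hcompat ⟨x, hx⟩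
      rw [ha'] at this
      exact this
    have hδmem : ((γ ^ p ^ a : chainStabilizer F R (fun j => b (j + 1)) 2 hinv') : F.autGroup R) ∈
        chainStabilizer F R b 3 hinv := by
      intro j hj x hx
      have hcoe : (((γ ^ p ^ a : chainStabilizer F R (fun j => b (j + 1)) 2 hinv') : F.autGroup R) :
          MulAut R) = ((γ : F.autGroup R) : MulAut R) ^ p ^ a := by simp
      interval_cases j
      · rw [hb0, Subgroup.mem_bot]
        rw [zero_add, hb1] at hx
        rw [hcoe, hδfix x hx]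
        simp
      · exact (γ ^ p ^ a).2 0 (by norm_num) x hx
      · exact (γ ^ p ^ a).2 1 (by norm_num) x hx
    obtain ⟨k, hk⟩ := chainStabilizer_isPGroup hS F hRS b 3 hinv hb0 (by rw [hb3]; exact le_top)
      ⟨_, hδmem⟩
    refine ⟨a + k, ?_⟩
    have hk' := congrArg (fun z : chainStabilizer F R b 3 hinv => (z : F.autGroup R)) hk
    simp only [Subgroup.coe_pow, Subgroup.coe_one] at hk'
    apply Subtype.ext
    rw [pow_add, pow_mul]
    simp only [Subgroup.coe_pow, Subgroup.coe_one]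
    exact hk'
  have hX := Cfsg.Agent.Lib.Helper1.le_pCore hKn hKp
  have h1 : conjAutHom S R ⟨g, hg⟩ ∈ autInducedBy S R := by
    rw [← conjAutHom_range]; exact ⟨_, rfl⟩
  have h1A : conjAutHom S R ⟨g, hg⟩ ∈ F.autGroup R := autInducedBy_le_autGroup F hRS h1
  have h2 : (⟨conjAutHom S R ⟨g, hg⟩, h1A⟩ : F.autGroup R) ∈
      chainStabilizer F R (fun j => b (j + 1)) 2 hinv' := by
    intro j hj x hx
    show (x : Ω)⁻¹ * (g * x * g⁻¹) ∈ b (j + 1)
    interval_cases j
    · rw [hb1]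
      have hx' : (x : Ω) ∈ Q := by rw [← hb2]; exact hx
      apply hab
      have : (x : Ω)⁻¹ * (g * x * g⁻¹) = ⁅(x : Ω)⁻¹, g⁆ := by
        rw [commutatorElement_def]; group
      rw [this]
      exact Subgroup.commutator_mem_commutator (Q.inv_mem hx') hgQ
    · rw [hb2]
      have h3 : (x : Ω)⁻¹ * g * ((x : Ω)⁻¹)⁻¹ ∈ Q :=
        stronglyClosed_conj_mem hQ (S.inv_mem (hRS x.2)) hgQ
      have : (x : Ω)⁻¹ * (g * x * g⁻¹) = ((x : Ω)⁻¹ * g * ((x : Ω)⁻¹)⁻¹) * g⁻¹ := by group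
      rw [this]
      exact Q.mul_mem h3 (Q.inv_mem hgQ)
  apply mem_of_conjAutHom_mem_inn hc hg
  rw [← hr.2]
  exact ⟨_, hX h2, rfl⟩

end Cfsg.Agent.S5125
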