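import Cfsg.Statements.S5130
import Cfsg.Agent.H26.DirectFactor

set_option autoImplicit false
open Cfsg

namespace Cfsg.Agent.S5130

open Cfsg.Agent.H26 Cfsg.FusionSystem Cfsg.Agent.Lib.Helper27

/-- Let F be a saturated fusion system over a finite p-group S that is the direct product of two subgroups S₁ and S₂, each strongly closed in F. Let R be the full subsystem of F over S₁ (all maps of F between subgroups of S₁) and R′ the subsystem over S₁ of those maps that extend to the subgroup generated with S₂ fixing S₂ elementwise. Then R and R′ are saturated, R′ is normal in F and in R, and R is weakly normal in F. -/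
theorem result {Ω : Type*} [Group Ω] {S : Subgroup Ω} [Finite S] (p : ℕ) [Fact p.Prime] (hS : IsPGroup p S) (F : Cfsg.FusionSystem S) (hF : F.IsSaturated p) (S₁ S₂ : Subgroup Ω) (hprod : Cfsg.IsInternalDirectProduct S₁ S₂ S) (h₁ : F.StronglyClosed S₁) (h₂ : F.StronglyClosed S₂) (R R' : Cfsg.FusionSystem S₁) (hR : ∀ P : Subgroup Ω, P ≤ S₁ → R.Hom P = F.Hom P) (hR' : ∀ P : Subgroup Ω, P ≤ S₁ → R'.Hom P = F.centralizerHom S₂ P) : R.IsSaturated p ∧ R'.IsSaturated p ∧ R'.IsNormalIn F p ∧ R'.IsNormalIn R p ∧ R.IsWeaklyNormalIn F p := by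
  have h1S : S₁ ≤ S := h₁.1
  haveI : Finite S₁ := Finite.of_injective (Subgroup.inclusion h1S) (Subgroup.inclusion_injective h1S)
  have hS₁ : IsPGroup p S₁ := hS.to_le h1S
  have hRsat : R.IsSaturated p := full_saturated_of_prod hF hprod h₁ R hR
  have hR'sat : R'.IsSaturated p := centralizer_saturated_of_prod hS hF hprod h₁ h₂ R' hR'
  have hR'F : R'.IsSubsystemOf F := fun P φ hφ => by
    have hP := (R'.le_of_mem hφ).1
    rw [hR' P hP] at hφ
    exact hφ.1
  have hRF : R.IsSubsystemOf F := fun P φ hφ => by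
    have hP := (R.le_of_mem hφ).1
    rw [hR P hP] at hφ
    exact hφ
  have hR'R : R'.IsSubsystemOf R := fun P φ hφ => by
    have hP := (R'.le_of_mem hφ).1
    rw [hR P hP]
    exact hR'F P hφ
  have hSI := strongInv_centralizer_of_prod hS hF hprod h₁ h₂ R' hR'
  have hSI' : StrongInv R' R := by
    intro P Q hPQ hQ φ hφ hφQ ψ hψ
    rw [hR Q hQ] at hψ
    exact hSI P Q hPQ hQ φ hφ hφQ ψ hψ
  have hSIR : StrongInv R F := by
    intro P Q hPQ hQ φ hφ hφQ ψ hψ
    rw [hR P (hPQ.trans hQ)] at hφ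
    obtain ⟨χ, hχ, h⟩ := strongInv_self F P Q hPQ (hQ.trans h1S) φ hφ hφQ ψ hψ
    refine ⟨χ, ?_, h⟩
    have hle : (P.subgroupOf Q).map ψ ≤ S₁ := by
      rintro _ ⟨w, -, rfl⟩
      exact h₁.2 Q hQ ψ hψ w
    rw [hR _ hle]
    exact hχ
  exact ⟨hRsat, hR'sat,
    ⟨⟨hR'sat, hF, (isInvariantIn_iff_strongInv hS hF hR'F h₁).mpr hSI⟩, ext_cond_of_prod hprod R' hR'⟩,
    ⟨⟨hR'sat, hRsat, (isInvariantIn_iff_strongInv hS₁ hRsat hR'R (⟨le_rfl, fun _ _ _ hφ x => (R.le_of_mem hφ).2 x⟩ : R.StronglyClosed S₁)).mpr hSI'⟩,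
      ext_cond_same R' R hR'R⟩,
    ⟨hRsat, hF, (isInvariantIn_iff_strongInv hS hF hRF h₁).mpr hSIR⟩⟩

end Cfsg.Agent.S5130
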