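import Cfsg.Statements.S5135
import Cfsg.Agent.H26.FusionFactor
import Cfsg.Agent.H26.GroupFusion2

set_option autoImplicit false
open Cfsg

namespace Cfsg.Agent.S5135

open Cfsg.Agent.H26 Cfsg.FusionSystem
open scoped Pointwise

theorem sylow_card_of_le {G : Type*} [Group G] [Finite G] {p : ℕ} [hp : Fact p.Prime] (S : Sylow p G)
    {K : Subgroup G} (hSK : (S : Subgroup G) ≤ K) :
    Nat.card (S : Subgroup G) = p ^ (Nat.card K).factorization p := by
  have h1 : Nat.card (S : Subgroup G) = p ^ (Nat.card G).factorization p := S.card_eq_multiplicity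
  have hK0 : Nat.card K ≠ 0 := Nat.card_pos.ne'
  have hG0 : Nat.card G ≠ 0 := Nat.card_pos.ne'
  have h2 : p ^ (Nat.card G).factorization p ∣ Nat.card K := h1 ▸ Subgroup.card_dvd_of_le hSK
  have h3 := (hp.out.pow_dvd_iff_le_factorization hK0).mp h2
  have h4 : (Nat.card K).factorization p ≤ (Nat.card G).factorization p :=
    (Nat.factorization_le_iff_dvd hK0 hG0).mpr (Subgroup.card_subgroup_dvd_card K) p
  rw [h1, le_antisymm h4 h3]

/-- Let G be a finite group, S a Sylow p-subgroup and H a normal subgroup of G. Then the fusion system of G/H on the image SH/H of S is the factor system of the fusion system of G on S modulo S ∩ H, read through the quotient map restricted to S: for each subgroup P' of SH/H, the conjugation maps by elements of G/H defined on P' with values in SH/H are exactly the homomorphisms induced by the conjugation maps by elements of G defined on the full preimage of P' in S with values in S. -/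
theorem result {G : Type*} [Group G] [Finite G] (p : ℕ) [Fact p.Prime] (S : Sylow p G) (H : Subgroup G) [H.Normal] : (Cfsg.groupFusionSystem (S : Subgroup G)).IsFactorSystem ((S : Subgroup G) ⊓ H) ((QuotientGroup.mk' H).comp (S : Subgroup G).subtype) (Cfsg.groupFusionSystem ((S : Subgroup G).map (QuotientGroup.mk' H))) := by
  have hrange : ((QuotientGroup.mk' H).comp (S : Subgroup G).subtype).range =
      (S : Subgroup G).map (QuotientGroup.mk' H) := by
    rw [MonoidHom.range_comp, Subgroup.range_subtype]
  refine ⟨inf_le_left, ?_, hrange, ?_⟩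
  · intro s
    show ((s : G) : G ⧸ H) = 1 ↔ _
    rw [QuotientGroup.eq_one_iff]
    exact ⟨fun h => ⟨s.2, h⟩, fun h => h.2⟩
  · intro P' φ'
    constructor
    · rintro ⟨hP', hφ'S, gbar, hg⟩
      obtain ⟨g, rfl⟩ := QuotientGroup.mk'_surjective H gbar
      refine ⟨hP', ?_⟩
      have hPS := preimageAlong_le ((QuotientGroup.mk' H).comp (S : Subgroup G).subtype) P'
      have h1 : conjBy (preimageAlong ((QuotientGroup.mk' H).comp (S : Subgroup G).subtype) P') g ≤
          (S : Subgroup G) ⊔ H := by
        intro y hy
        rw [mem_conjBy] at hy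
        obtain ⟨hyS, hyP'⟩ := mem_preimageAlong.mp hy
        have hmem := hφ'S ⟨_, hyP'⟩
        rw [hg] at hmem
        obtain ⟨s, hs, hs'⟩ := hmem
        have e1 : (QuotientGroup.mk' H) s = (QuotientGroup.mk' H) y := by
          rw [hs']
          show (QuotientGroup.mk' H) g * (QuotientGroup.mk' H) (g⁻¹ * y * g) * ((QuotientGroup.mk' H) g)⁻¹ = _
          rw [← map_inv, ← map_mul, ← map_mul]
          congr 1
          group
        have e2 : s⁻¹ * y ∈ H := QuotientGroup.eq.mp e1
        have e3 : y = s * (s⁻¹ * y) := by group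
        rw [e3]
        exact Subgroup.mul_mem _ (Subgroup.mem_sup_left hs) (Subgroup.mem_sup_right e2)
      have hPp : IsPGroup p (preimageAlong ((QuotientGroup.mk' H).comp (S : Subgroup G).subtype) P') :=
        S.2.to_le hPS
      have hcp := isPGroup_conjBy hPp g
      obtain ⟨k, hk, hkS⟩ := exists_mem_conjBy_le (le_sup_left : (S : Subgroup G) ≤ (S : Subgroup G) ⊔ H)
        (sylow_card_of_le S le_sup_left) h1 hcp
      obtain ⟨s, hs, h, hh, rfl⟩ : ∃ s ∈ (S : Subgroup G), ∃ h ∈ H, s * h = k := by
        have : k ∈ ((S : Subgroup G) : Set G) * (H : Set G) := by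
          rw [← Subgroup.mul_normal]; exact hk
        exact Set.mem_mul.mp this
      have h2 : conjBy (preimageAlong ((QuotientGroup.mk' H).comp (S : Subgroup G).subtype) P') (h * g) ≤ S := by
        have h3 := conjBy_mono hkS s⁻¹
        rw [conjBy_conjBy, conjBy_conjBy, conjBy_self_of_mem ((S : Subgroup G).inv_mem hs)] at h3
        have e : s⁻¹ * (s * h) * g = h * g := by group
        rw [e] at h3
        exact h3
      have h4 : ∀ x : preimageAlong ((QuotientGroup.mk' H).comp (S : Subgroup G).subtype) P',
          h * g * (x : G) * (h * g)⁻¹ ∈ (S : Subgroup G) := by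
        intro x
        apply h2
        rw [mem_conjBy]
        have e : (h * g)⁻¹ * (h * g * (x : G) * (h * g)⁻¹) * (h * g) = x := by group
        rw [e]
        exact x.2
      refine ⟨conjHom _ (h * g), ⟨hPS, h4, h * g, fun x => rfl⟩, hPS, h4, ?_, ?_⟩
      · intro x
        exact (mem_preimageAlong.mp x.2).2
      · intro x
        rw [hg]
        have hh1 : (QuotientGroup.mk' H) h = 1 := (QuotientGroup.eq_one_iff h).mpr hh
        show (QuotientGroup.mk' H) g * (QuotientGroup.mk' H) (x : G) * ((QuotientGroup.mk' H) g)⁻¹ =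
          (QuotientGroup.mk' H) (h * g * (x : G) * (h * g)⁻¹)
        rw [map_mul, map_mul, map_mul, map_inv, map_mul, hh1, one_mul]
    · rintro ⟨hP', φ, ⟨hPS, hφS, g, hg⟩, hPS', hφS', hPP', hind⟩
      have hP'' : P' ≤ ((QuotientGroup.mk' H).comp (S : Subgroup G).subtype).range := by
        rw [hrange]; exact hP'
      refine ⟨hP', ?_, (QuotientGroup.mk' H) g, ?_⟩
      · intro x
        obtain ⟨a, ha⟩ := exists_preimageAlong hP'' x
        have hx' : x = ⟨_, hPP' a⟩ := Subtype.ext ha.symm
        rw [hx', hind a]
        exact ⟨_, hφS a, rfl⟩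
      · intro x
        obtain ⟨a, ha⟩ := exists_preimageAlong hP'' x
        have hx' : x = ⟨_, hPP' a⟩ := Subtype.ext ha.symm
        rw [hx', hind a]
        show (QuotientGroup.mk' H) (φ a) = (QuotientGroup.mk' H) g * (QuotientGroup.mk' H) (a : G) * ((QuotientGroup.mk' H) g)⁻¹
        rw [hg a, map_mul, map_mul, map_inv]

end Cfsg.Agent.S5135
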