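import Cfsg.Statements.S5136
import Cfsg.Agent.H26.Fusion

set_option autoImplicit false
open Cfsg

namespace Cfsg.Agent.S5136

open Cfsg.Agent.H26 Cfsg.FusionSystem

section
variable {Ω₁ Ω₂ : Type*} [Group Ω₁] [Group Ω₂]

theorem fst_mem {P : Subgroup (Ω₁ × Ω₂)} (x : P) :
    (x : Ω₁ × Ω₂).1 ∈ P.map (MonoidHom.fst Ω₁ Ω₂) := ⟨x, x.2, rfl⟩

theorem snd_mem {P : Subgroup (Ω₁ × Ω₂)} (x : P) :
    (x : Ω₁ × Ω₂).2 ∈ P.map (MonoidHom.snd Ω₁ Ω₂) := ⟨x, x.2, rfl⟩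

variable {S₁ : Subgroup Ω₁} {S₂ : Subgroup Ω₂}

theorem map_fst_le {P : Subgroup (Ω₁ × Ω₂)} (hP : P ≤ S₁.prod S₂) :
    P.map (MonoidHom.fst Ω₁ Ω₂) ≤ S₁ := by
  rintro _ ⟨x, hx, rfl⟩
  exact (Subgroup.mem_prod.mp (hP hx)).1

theorem map_snd_le {P : Subgroup (Ω₁ × Ω₂)} (hP : P ≤ S₁.prod S₂) :
    P.map (MonoidHom.snd Ω₁ Ω₂) ≤ S₂ := by
  rintro _ ⟨x, hx, rfl⟩
  exact (Subgroup.mem_prod.mp (hP hx)).2

/-- The direct product of two fusion systems. -/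
def productSystem (F₁ : Cfsg.FusionSystem S₁) (F₂ : Cfsg.FusionSystem S₂) :
    Cfsg.FusionSystem (S₁.prod S₂) where
  Hom P := {φ | P ≤ S₁.prod S₂ ∧
      ∃ φ₁ ∈ F₁.Hom (P.map (MonoidHom.fst Ω₁ Ω₂)), ∃ φ₂ ∈ F₂.Hom (P.map (MonoidHom.snd Ω₁ Ω₂)),
        ∀ (x : P) (h₁ : (x : Ω₁ × Ω₂).1 ∈ P.map (MonoidHom.fst Ω₁ Ω₂))
          (h₂ : (x : Ω₁ × Ω₂).2 ∈ P.map (MonoidHom.snd Ω₁ Ω₂)),
          φ x = (φ₁ ⟨(x : Ω₁ × Ω₂).1, h₁⟩, φ₂ ⟨(x : Ω₁ × Ω₂).2, h₂⟩)}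
  le_of_mem := by
    rintro P φ ⟨hP, φ₁, hφ₁, φ₂, hφ₂, h⟩
    refine ⟨hP, fun x => ?_⟩
    rw [h x (fst_mem x) (snd_mem x)]
    exact Subgroup.mem_prod.mpr ⟨(F₁.le_of_mem hφ₁).2 _, (F₂.le_of_mem hφ₂).2 _⟩
  injective_of_mem := by
    rintro P φ ⟨hP, φ₁, hφ₁, φ₂, hφ₂, h⟩ a b hab
    rw [h a (fst_mem a) (snd_mem a), h b (fst_mem b) (snd_mem b), Prod.ext_iff] at hab
    have h1 := F₁.injective_of_mem hφ₁ hab.1
    have h2 := F₂.injective_of_mem hφ₂ hab.2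
    apply Subtype.ext
    apply Prod.ext
    · exact congrArg Subtype.val h1
    · exact congrArg Subtype.val h2
  conj_mem := by
    intro P g hP hg
    have hg' := Subgroup.mem_prod.mp hg
    refine ⟨hP, Cfsg.conjHom _ g.1, F₁.conj_mem (map_fst_le hP) hg'.1,
      Cfsg.conjHom _ g.2, F₂.conj_mem (map_snd_le hP) hg'.2, fun x h₁ h₂ => rfl⟩
  comp_mem := by
    rintro P R φ ψ ⟨hP, φ₁, hφ₁, φ₂, hφ₂, hφ⟩ ⟨hR, ψ₁, hψ₁, ψ₂, hψ₂, hψ⟩ h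
    have h1 : ∀ x : P.map (MonoidHom.fst Ω₁ Ω₂), φ₁ x ∈ R.map (MonoidHom.fst Ω₁ Ω₂) := by
      rintro ⟨_, x, hx, rfl⟩
      refine ⟨φ ⟨x, hx⟩, h ⟨x, hx⟩, ?_⟩
      rw [hφ ⟨x, hx⟩ (fst_mem _) (snd_mem _)]
      rfl
    have h2 : ∀ x : P.map (MonoidHom.snd Ω₁ Ω₂), φ₂ x ∈ R.map (MonoidHom.snd Ω₁ Ω₂) := by
      rintro ⟨_, x, hx, rfl⟩
      refine ⟨φ ⟨x, hx⟩, h ⟨x, hx⟩, ?_⟩
      rw [hφ ⟨x, hx⟩ (fst_mem _) (snd_mem _)]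
      rfl
    refine ⟨hP, ψ₁.comp (φ₁.codRestrict _ h1), F₁.comp_mem hφ₁ hψ₁ h1,
      ψ₂.comp (φ₂.codRestrict _ h2), F₂.comp_mem hφ₂ hψ₂ h2, fun x hx₁ hx₂ => ?_⟩
    show ψ ⟨φ x, h x⟩ = _
    rw [hψ ⟨φ x, h x⟩ (fst_mem _) (snd_mem _)]
    apply Prod.ext
    · show ψ₁ _ = ψ₁ _
      congr 1
      apply Subtype.ext
      show (φ x).1 = φ₁ _
      rw [hφ x hx₁ hx₂]
    · show ψ₂ _ = ψ₂ _
      congr 1
      apply Subtype.ext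
      show (φ x).2 = φ₂ _
      rw [hφ x hx₁ hx₂]
  inv_mem := by
    rintro P φ ⟨hP, φ₁, hφ₁, φ₂, hφ₂, hφ⟩
    obtain ⟨θ₁, hθ₁, hinv₁⟩ := F₁.inv_mem hφ₁
    obtain ⟨θ₂, hθ₂, hinv₂⟩ := F₂.inv_mem hφ₂
    have hle1 : φ.range.map (MonoidHom.fst Ω₁ Ω₂) ≤ φ₁.range := by
      rintro _ ⟨_, ⟨x, rfl⟩, rfl⟩
      refine ⟨⟨_, fst_mem x⟩, ?_⟩
      rw [hφ x (fst_mem _) (snd_mem _)]
      rfl
    have hle2 : φ.range.map (MonoidHom.snd Ω₁ Ω₂) ≤ φ₂.range := by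
      rintro _ ⟨_, ⟨x, rfl⟩, rfl⟩
      refine ⟨⟨_, snd_mem x⟩, ?_⟩
      rw [hφ x (fst_mem _) (snd_mem _)]
      rfl
    have hrange : φ.range ≤ S₁.prod S₂ := by
      rintro _ ⟨x, rfl⟩
      rw [hφ x (fst_mem _) (snd_mem _)]
      exact Subgroup.mem_prod.mpr ⟨(F₁.le_of_mem hφ₁).2 _, (F₂.le_of_mem hφ₂).2 _⟩
    let ψ : φ.range →* Ω₁ × Ω₂ :=
      { toFun := fun y => (θ₁ (Subgroup.inclusion hle1 ⟨(y : Ω₁ × Ω₂).1, fst_mem y⟩),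
                           θ₂ (Subgroup.inclusion hle2 ⟨(y : Ω₁ × Ω₂).2, snd_mem y⟩))
        map_one' := by
          apply Prod.ext
          · exact map_one θ₁
          · exact map_one θ₂
        map_mul' := by
          intro a b
          apply Prod.ext
          · show θ₁ _ = θ₁ _ * θ₁ _
            rw [← map_mul]
            rfl
          · show θ₂ _ = θ₂ _ * θ₂ _
            rw [← map_mul]
            rfl }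
    refine ⟨ψ, ⟨hrange, θ₁.comp (Subgroup.inclusion hle1), Fus.restrict_mem F₁ hle1 hθ₁,
      θ₂.comp (Subgroup.inclusion hle2), Fus.restrict_mem F₂ hle2 hθ₂, fun x h₁ h₂ => rfl⟩, ?_⟩
    intro x
    apply Prod.ext
    · show θ₁ _ = _
      have : (Subgroup.inclusion hle1 ⟨((⟨φ x, ⟨x, rfl⟩⟩ : φ.range) : Ω₁ × Ω₂).1, fst_mem _⟩ : φ₁.range) =
          ⟨φ₁ ⟨(x : Ω₁ × Ω₂).1, fst_mem x⟩, ⟨_, rfl⟩⟩ := by
        apply Subtype.ext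
        show (φ x).1 = _
        rw [hφ x (fst_mem _) (snd_mem _)]
      rw [this, hinv₁]
    · show θ₂ _ = _
      have : (Subgroup.inclusion hle2 ⟨((⟨φ x, ⟨x, rfl⟩⟩ : φ.range) : Ω₁ × Ω₂).2, snd_mem _⟩ : φ₂.range) =
          ⟨φ₂ ⟨(x : Ω₁ × Ω₂).2, snd_mem x⟩, ⟨_, rfl⟩⟩ := by
        apply Subtype.ext
        show (φ x).2 = _
        rw [hφ x (fst_mem _) (snd_mem _)]
      rw [this, hinv₂]

end

/-- Let F₁ and F₂ be fusion systems over finite p-groups S₁ and S₂ (inside ambient groups Ω₁ and Ω₂). Then their direct product exists: there is a fusion system over S₁ × S₂ inside Ω₁ × Ω₂ whose maps with source P ≤ S₁ × S₂ are exactly the restrictions to P of the homomorphisms (x₁, x₂) ↦ (φ₁ x₁, φ₂ x₂) with φ₁ a map of F₁ on the first projection of P and φ₂ a map of F₂ on the second projection. -/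
theorem result {Ω₁ Ω₂ : Type*} [Group Ω₁] [Group Ω₂] {S₁ : Subgroup Ω₁} {S₂ : Subgroup Ω₂} [Finite S₁] [Finite S₂] (p : ℕ) [Fact p.Prime] (h₁ : IsPGroup p S₁) (h₂ : IsPGroup p S₂) (F₁ : Cfsg.FusionSystem S₁) (F₂ : Cfsg.FusionSystem S₂) : ∃ E : Cfsg.FusionSystem (S₁.prod S₂), Cfsg.FusionSystem.IsProductSystem F₁ F₂ E := by
  exact ⟨productSystem F₁ F₂, fun P φ => Iff.rfl⟩

end Cfsg.Agent.S5136
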