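import Cfsg.Statements.S5148
import Cfsg.Agent.H26.FusionFactor
import Cfsg.Agent.Lib.Helper27.FusionAbelian
import Cfsg.Agent.Lib.Helper27.FusionFrobenius
import Cfsg.Agent.Lib.Helper27.FusionUCS
import Cfsg.Agent.Lib.Helper27.FusionNormal
import Cfsg.Agent.S5256

set_option autoImplicit false
open Cfsg

namespace Cfsg.Agent.S5148

open Cfsg.Agent.H26 Cfsg.FusionSystem Cfsg.Agent.Lib.Helper27

theorem stronglyClosed_of_isCentral {Ω : Type*} [Group Ω] {S : Subgroup Ω} {F : Cfsg.FusionSystem S}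
    {Q : Subgroup Ω} (hQ : F.IsCentral Q) : F.StronglyClosed Q := by
  refine ⟨hQ.1, fun R hR φ hφ x => ?_⟩
  obtain ⟨ψ, -, h1, h2⟩ := hQ.2 R φ hφ
  have h3 := h2 ⟨x, hR x.2⟩
  have h4 : Subgroup.inclusion (le_sup_right : Q ≤ R ⊔ Q) ⟨x, hR x.2⟩ =
      Subgroup.inclusion (le_sup_left : R ≤ R ⊔ Q) x := Subtype.ext rfl
  rw [h4, h1 x] at h3
  rw [h3]
  exact hR x.2

/-- For a saturated system over an abelian group, the inner system is a normal subsystem. -/
theorem inner_isNormalIn_of_comm {Ω : Type*} [Group Ω] {S : Subgroup Ω} [Finite S] {p : ℕ} [Fact p.Prime]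
    (hS : IsPGroup p S) {F : Cfsg.FusionSystem S} (hF : F.IsSaturated p)
    (hab : ∀ x ∈ S, ∀ y ∈ S, x * y = y * x) : (Cfsg.innerFusionSystem S).IsNormalIn F p := by
  have hid : ∀ {P : Subgroup Ω} {φ : P →* Ω}, φ ∈ (Cfsg.innerFusionSystem S).Hom P → ∀ x : P, φ x = x := by
    rintro P φ ⟨hP, g, hg, h⟩ x
    rw [h x, hab g hg x (hP x.2), mul_inv_cancel_right]
  refine ⟨⟨inner_isSaturated hS, hF, fun P => inner_le F P, ⟨le_rfl, fun R _ φ hφ x => (F.le_of_mem hφ).2 x⟩,
    ?_, ?_⟩, ?_⟩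
  · intro P hPT φ hφ α hα
    have hαiso := (mem_autGroup_iff F le_rfl α).mp hα
    refine ⟨Subgroup.subtype _, ⟨?_, 1, S.one_mem, fun x => by rw [one_mul, inv_one, mul_one]; rfl⟩,
      fun x hφx hαx => ?_⟩
    · rintro _ ⟨y, -, rfl⟩
      exact (α y).2
    · show ((α ⟨x, hPT x.2⟩ : S) : Ω) = ((α ⟨φ x, hφx⟩ : S) : Ω)
      congr 2
      exact Subtype.ext (hid hφ x).symm
  · intro P hPT φ hφ
    obtain ⟨α, hα, hαφ⟩ := exists_aut_extension_of_comm hF hab hφ
    refine ⟨α, (mem_autGroup_iff F le_rfl α).mpr hα, P.subtype, ⟨hPT, 1, S.one_mem, fun x => by simp⟩,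
      fun x hx => ?_⟩
    rw [← hαφ x]
    rfl
  · intro α hα
    have hαiso := (mem_autGroup_iff (Cfsg.innerFusionSystem S) le_rfl α).mp hα
    refine ⟨1, Subgroup.one_mem _, fun x => ?_, fun c _ => ?_⟩
    · have := hid hαiso x
      simp only [MonoidHom.coe_comp, Subgroup.coe_subtype, Function.comp_apply, MulEquiv.coe_toMonoidHom] at this
      rw [this]
      rfl
    · rw [MulAut.one_apply, inv_mul_cancel]
      exact Subgroup.one_mem _

/-- A quasisimple fusion system over a finite p-group S (saturated, equal to its p-residual subsystem, with simple — in particular nontrivial — factor system modulo its centre) has S nonabelian. -/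
theorem result {Ω : Type*} [Group Ω] {S : Subgroup Ω} [Finite S] (p : ℕ) [Fact p.Prime] (hS : IsPGroup p S) (F : Cfsg.FusionSystem S) (hq : F.Quasisimple p) : ¬ IsMulCommutative S := by
  intro hcomm
  obtain ⟨hF, hhyp, hsimple⟩ := hq
  have hZc := isCentral_center F
  have hZsc := stronglyClosed_of_isCentral hZc
  have hker : ∀ s : S, QuotientGroup.mk' ((F.center).subgroupOf S) s = 1 ↔ (s : Ω) ∈ F.center := by
    intro s
    rw [QuotientGroup.mk'_apply, QuotientGroup.eq_one_iff, Subgroup.mem_subgroupOf]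
  have hrange : (QuotientGroup.mk' ((F.center).subgroupOf S)).range = ⊤ :=
    MonoidHom.range_eq_top.mpr (QuotientGroup.mk'_surjective _)
  obtain ⟨E, hE⟩ := exists_factorSystem F F.center hZsc (QuotientGroup.mk' ((F.center).subgroupOf S))
    hker hrange
  obtain ⟨hEsat, hne, hEsimple⟩ := hsimple E hE
  have hS' : IsPGroup p ↥(⊤ : Subgroup (↥S ⧸ (F.center).subgroupOf S)) :=
    (hS.to_quotient _).to_subgroup _
  have hab : ∀ x ∈ (⊤ : Subgroup (↥S ⧸ (F.center).subgroupOf S)),
      ∀ y ∈ (⊤ : Subgroup (↥S ⧸ (F.center).subgroupOf S)), x * y = y * x := by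
    intro x _ y _
    obtain ⟨a, rfl⟩ := QuotientGroup.mk'_surjective _ x
    obtain ⟨b, rfl⟩ := QuotientGroup.mk'_surjective _ y
    rw [← map_mul, ← map_mul]
    congr 1
    exact hcomm.is_comm.comm a b
  have hnormal := inner_isNormalIn_of_comm hS' hEsat hab
  rcases hEsimple _ _ hnormal with hbot | ⟨-, hHom⟩
  · exact hne hbot
  · -- E is the inner system of an abelian group: its hyperfocal subgroup is trivial
    have hhypE : E.hyperfocalSubgroup p = ⊥ := by
      unfold hyperfocalSubgroup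
      rw [Subgroup.closure_eq_bot_iff]
      rintro y ⟨P, α, x, hP, -, rfl⟩
      have hαiso := (mem_autGroup_iff E hP _).mp α.2
      have hαiso' : P.subtype.comp ((α : MulAut P) : P ≃* P).toMonoidHom ∈
          (Cfsg.innerFusionSystem (⊤ : Subgroup (↥S ⧸ (F.center).subgroupOf S))).Hom P := by
        rw [hHom P]; exact hαiso
      obtain ⟨-, g, hg, h⟩ := hαiso'
      have := h x
      simp only [MonoidHom.coe_comp, Subgroup.coe_subtype, Function.comp_apply,
        MulEquiv.coe_toMonoidHom] at this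
      rw [Set.mem_singleton_iff, this, hab g hg x (hP x.2), mul_inv_cancel_right, inv_mul_cancel]
    have h256 := Cfsg.Agent.S5256.result p hS F hF F.center hZsc _ E hE
    rw [hhypE, hhyp] at h256
    apply hne
    rw [h256, eq_comm, eq_top_iff]
    intro y _
    obtain ⟨a, rfl⟩ := QuotientGroup.mk'_surjective _ y
    exact ⟨a, Subgroup.mem_subgroupOf.mpr a.2, rfl⟩

end Cfsg.Agent.S5148
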