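import Cfsg.Statements.S5155
import Cfsg.Agent.Lib.Helper27.CEO
import Cfsg.Agent.Lib.Helper27.PPowJ
import Cfsg.Agent.Lib.Helper27.CBThompson
import Cfsg.Agent.H26.PPowerNormal
import Cfsg.Agent.H26.DirectFactor

set_option autoImplicit false
open Cfsg

namespace Cfsg.Agent.S5155

open Cfsg.FusionSystem Cfsg.Agent.Lib.Helper27 Cfsg.Agent.Lib.Helper27.CE Cfsg.Agent.H26
  Cfsg.Agent.Lib.Helper27.WN Cfsg.Agent.Lib.Helper17

/-- Let F be a saturated fusion system over a finite p-group S, E a normal subsystem over T, and Y the largest subgroup of C_S(T) such that E is a subsystem of the centralizer system of Y (every map of E extends to a map of F fixing Y elementwise). Then there is a normal subsystem of F over Y that is a subsystem of the centralizer system of T. -/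
theorem result {Ω : Type*} [Group Ω] {S : Subgroup Ω} [Finite S] (p : ℕ) [Fact p.Prime] (hS : IsPGroup p S) (F : Cfsg.FusionSystem S) (hF : F.IsSaturated p) {T : Subgroup Ω} (E : Cfsg.FusionSystem T) (hE : E.IsNormalIn F p) (Y : Subgroup Ω) (hY : Y ≤ Cfsg.FusionSystem.centralizerIn S T) (hEY : ∀ P : Subgroup Ω, E.Hom P ⊆ F.centralizerHom Y P) (hmax : ∀ Y' : Subgroup Ω, Y' ≤ Cfsg.FusionSystem.centralizerIn S T → (∀ P : Subgroup Ω, E.Hom P ⊆ F.centralizerHom Y' P) → Y' ≤ Y) : ∃ D : Cfsg.FusionSystem Y, D.IsNormalIn F p ∧ ∀ P : Subgroup Ω, D.Hom P ⊆ F.centralizerHom T P := by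
  have hYeq : Y = cse p F E := le_antisymm (le_cse hS hF hE hY hEY)
    (hmax _ (cse_le p F E) (hom_subset_centralizerHom_cse hS hF hE))
  subst hYeq
  have hT : F.StronglyClosed T := hE.1.2.2.2.1
  have hTS := hT.1
  have hYsc := cse_stronglyClosed hS hF hE
  have hYS := hYsc.1
  have hCS : centralizerIn S T ≤ S := centralizerIn_le_S S T
  haveI : Finite ↥(centralizerIn S T) := finite_of_le hCS
  have hCp : IsPGroup p ↥(centralizerIn S T) := hS.to_le hCS
  obtain ⟨C, hC⟩ := Cfsg.Agent.S5097.result F T hTS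
  have hCsat : C.IsSaturated p :=
    centralizerSystem_saturated hS hF (isFullyCentralized_of_stronglyClosed hT) C hC
  have hkey : ∀ (W : Subgroup Ω) (hTW : T ≤ W) (c : Ω) (hcW : c ∈ W), c ∈ centralizerIn S T →
      ∀ Φ : W →* Ω, Φ ∈ F.Hom W → (∀ t : T, Φ (Subgroup.inclusion hTW t) = t) →
        c⁻¹ * Φ ⟨c, hcW⟩ ∈ cse p F E :=
    fun W hTW c hcW hc Φ hΦ hΦT => inv_mul_mem_cse (E := E) hS hF hE hTW hcW hc hΦ hΦT
  have hhyp : C.hyperfocalSubgroup p ≤ cse p F E := by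
    refine (CB.hyperfocal_le_focal C p).trans ?_
    unfold focalSubgroup
    rw [Subgroup.closure_le]
    rintro y ⟨P, φ, x, hφ, rfl⟩
    rw [hC P] at hφ
    obtain ⟨-, hPC, -, ψ, hψ, hψP, hψT⟩ := hφ
    have h2 := hkey (P ⊔ T) le_sup_right (x : Ω) (Subgroup.mem_sup_left x.2) (hPC x.2) ψ hψ hψT
    have h3 : ψ ⟨(x : Ω), Subgroup.mem_sup_left x.2⟩ = φ x := hψP x
    rw [h3] at h2
    exact h2
  have hYn : ((cse p F E).subgroupOf (centralizerIn S T)).Normal :=
    (Subgroup.normal_subgroupOf_iff_le_normalizer (cse_le p F E)).mpr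
      (hCS.trans (le_normalizer_of_stronglyClosed hYsc))
  obtain ⟨D₀, hD₀sat, hD₀idx⟩ := PPow.exists_pPowerIndex hCp hCsat (cse_le p F E) hhyp
  have hD₀C : D₀.IsNormalIn C p :=
    isNormalIn_of_pPowerIndex hCp hCsat (cse_le p F E) hYn hhyp D₀ hD₀sat hD₀idx
  have hCF : C.IsSubsystemOf F := fun Q ψ hψ => by
    rw [hC Q] at hψ
    exact hψ.1
  have hD₀F : D₀.IsSubsystemOf F := fun Q ψ hψ => hCF Q (hD₀idx.1 Q hψ)
  have hInv : InvCond D₀ F := invCond_of_pPowerIndex_of_congr hS hCS hD₀sat hD₀idx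
    (fun α hα P U₁ hPU e he γ hγ => cen_congr hS hF hT hC (cse_le p F E) hα P U₁ hPU e he hγ)
  have hinvF : D₀.IsInvariantIn F := ⟨hD₀F, hYsc, hInv, fun P hPY φ hφ =>
    cen_frat hS hF hT hC (cse_le p F E) hYsc hD₀C.1.2.2 hPY hφ⟩
  have hwn : D₀.IsWeaklyNormalIn F p := ⟨hD₀sat, hF, hinvF⟩
  refine ⟨D₀, ⟨hwn, ?_⟩, fun P φ hφ => by
    have := hD₀idx.1 P hφ
    rw [hC P] at this
    exact this⟩
  haveI : Finite ↥(cse p F E) := finite_of_le hYS
  have hwcD : D₀.WeaklyClosed (cse p F E) := by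
    refine ⟨le_rfl, fun φ hφ => ?_⟩
    have hle : φ.range ≤ cse p F E := by
      rintro _ ⟨x, rfl⟩
      exact (D₀.le_of_mem hφ).2 x
    apply Subgroup.eq_of_le_of_card_ge hle
    rw [Nat.card_congr (MonoidHom.ofInjective (D₀.injective_of_mem hφ)).toEquiv]
  have hfaD := weaklyClosed_isFullyAutomized hD₀sat hwcD
  have hle := autGroup_le_of_fullyAutomized hfaD (extAut F (cse p F E) hYS) ?_ ?_
  · intro α hα
    exact hle hα
  · exact autInducedBy_le_extAut hYsc
  · intro ν hν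
    have h1 : (pResidual p (D₀.autGroup (cse p F E))).map (D₀.autGroup (cse p F E)).subtype ≤
        extAut F (cse p F E) hYS := by
      rw [map_subtype_pResidual, Subgroup.closure_le]
      rintro α ⟨hαD, hcop⟩
      exact cen_coprime_mem_extAut hS hF hT hC (cse_le p F E) hYsc hkey
        (Cfsg.Agent.H26.autGroup_le_of_subsystem hD₀idx.1 le_rfl (cse_le p F E) hαD) hcop
    exact h1 ⟨ν, hν, rfl⟩

end Cfsg.Agent.S5155
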