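import Cfsg.Statements.S5157
import Cfsg.Agent.H26.Solvable
import Cfsg.Agent.S5088

set_option autoImplicit false
open Cfsg

namespace Cfsg.Agent.S5157

open Cfsg.Agent.H26 Cfsg.FusionSystem Cfsg.Agent.Lib.Helper27

/-- A saturated fusion system F over a finite p-group S is solvable (for every subgroup R other than S that is strongly closed in F, the factor system of F modulo R has a nontrivial subgroup normal in it) if and only if there is a chain 1 = S₀ ≤ S₁ ≤ ⋯ ≤ Sₘ = S of subgroups strongly closed in F with every quotient Sᵢ₊₁/Sᵢ abelian. -/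
theorem result {Ω : Type*} [Group Ω] {S : Subgroup Ω} [Finite S] (p : ℕ) [Fact p.Prime] (hS : IsPGroup p S) (F : Cfsg.FusionSystem S) (hF : F.IsSaturated p) : F.IsSolvableSystem ↔ ∃ (n : ℕ) (T : Fin (n + 1) → Subgroup Ω), T 0 = ⊥ ∧ T (Fin.last n) = S ∧ Monotone T ∧ (∀ i, F.StronglyClosed (T i)) ∧ ∀ i : Fin n, ⁅T i.succ, T i.succ⁆ ≤ T (Fin.castSucc i) := by
  constructor
  · intro hsol
    obtain ⟨n, T, h0, hlast, hmono, hsc, hc⟩ :=
      exists_chain_from hS hF hsol ⊥ (Cfsg.Agent.S5088.stronglyClosed_bot F)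
    exact ⟨n, T, h0, hlast, hmono, hsc, hc⟩
  · rintro ⟨n, T, h0, hlast, -, hsc, hc⟩
    exact solvable_of_chain hS hF T h0 hlast hsc hc

end Cfsg.Agent.S5157
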