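import Cfsg.Statements.S5158
import Cfsg.Agent.H26.Solvable
import Cfsg.Agent.S5086
import Cfsg.Agent.S5088
import Cfsg.Agent.Lib.Helper27.FusionLift

set_option autoImplicit false
open Cfsg

namespace Cfsg.Agent.S5158

open Cfsg.Agent.H26 Cfsg.FusionSystem Cfsg.Agent.Lib.Helper27
open scoped commutatorElement Pointwise

/-- A solvable saturated fusion system over a finite p-group (solvable: for every subgroup R other than S that is strongly closed in F, the factor system of F modulo R has a nontrivial subgroup normal in it) is constrained. -/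
theorem result {Ω : Type*} [Group Ω] {S : Subgroup Ω} [Finite S] (p : ℕ) [Fact p.Prime] (hS : IsPGroup p S) (F : Cfsg.FusionSystem S) (hF : F.IsSaturated p) (h : F.IsSolvableSystem) : F.IsConstrained p := by
  obtain ⟨n, T, h0, hlast, hmono, hsc, hcT⟩ :=
    exists_chain_from hS hF h ⊥ (Cfsg.Agent.S5088.stronglyClosed_bot F)
  have hQ := isNormal_core F
  have hQS : F.core ≤ S := hQ.1
  have hQwc := normal_weaklyClosed hQ
  have hCsc := centralizerIn_stronglyClosed_of_normal hQ
  -- key: C_S(Q) ∩ T i ≤ Q
  have key : ∀ i : Fin (n + 1), centralizerIn S F.core ⊓ T i ≤ F.core := by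
    intro i
    induction i using Fin.induction with
    | zero => rw [h0, inf_bot_eq]; exact bot_le
    | succ i ih =>
      have hDsc : F.StronglyClosed (centralizerIn S F.core ⊓ T i.succ) :=
        stronglyClosed_inf hCsc (hsc i.succ)
      have hDS : centralizerIn S F.core ⊓ T i.succ ≤ S := hDsc.1
      have hDD : ∀ a ∈ centralizerIn S F.core ⊓ T i.succ, ∀ b ∈ centralizerIn S F.core ⊓ T i.succ,
          ⁅a, b⁆ ∈ F.core := by
        intro a ha b hb
        apply ih
        refine ⟨?_, hcT i (Subgroup.commutator_mem_commutator ha.2 hb.2)⟩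
        rw [commutatorElement_def]
        exact Subgroup.mul_mem _ (Subgroup.mul_mem _ (Subgroup.mul_mem _ ha.1 hb.1)
          (Subgroup.inv_mem _ ha.1)) (Subgroup.inv_mem _ hb.1)
      have hWsc := Cfsg.Agent.S5128.result p hS F hF _ _ (normal_stronglyClosed hQ) hDsc
      have hWn : F.IsNormal (F.core ⊔ (centralizerIn S F.core ⊓ T i.succ)) := by
        apply isNormal_of_le_frc hS hF hWsc
        intro R hRlt hfn hc hr
        have hRS : R ≤ S := hc.1
        have hQR : F.core ≤ R := Cfsg.Agent.S5086.normal_le_centric_radical hS hQ hc hr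
        apply sup_le hQR
        apply le_of_inf_normalizer_le hS hRS hDS (fun s hs d hd => stronglyClosed_conj_mem hDsc hs hd)
        intro d hdD hdN
        have hg : d ∈ normalizerIn S R := ⟨hDS hdD, hdN⟩
        have hdC := (mem_centralizerIn_iff.mp hdD.1).2
        apply mem_of_stabilizes_chain hS hc hr
          (fun j => if j = 0 then ⊥ else if j = 1 then F.core else if j = 2 then
            F.core ⊔ (centralizerIn S F.core ⊓ T i.succ) else ⊤) 3 ?_ (by simp) (by simp) hg ?_
        · intro j α hα x hx
          by_cases h0 : j = 0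
          · subst h0
            simp only [if_true] at hx ⊢
            rw [Subgroup.mem_bot] at hx ⊢
            have : x = 1 := Subtype.ext hx
            rw [this, map_one]; rfl
          by_cases h1 : j = 1
          · subst h1
            simp only [one_ne_zero, if_false, if_true] at hx ⊢
            exact weaklyClosed_aut_mem hQwc hQR hα x hx
          by_cases h2 : j = 2
          · subst h2
            norm_num at hx ⊢
            exact stronglyClosed_aut_mem hWsc hα hx
          · simp only [h0, h1, h2, if_false]
            exact Subgroup.mem_top _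
        · intro j hj x hxR hx
          interval_cases j
          · simp only [zero_add, one_ne_zero, if_false, if_true] at hx ⊢
            rw [Subgroup.mem_bot]
            have := hdC x hx
            calc x⁻¹ * (d * x * d⁻¹) = x⁻¹ * (d * x) * d⁻¹ := by group
              _ = x⁻¹ * (x * d) * d⁻¹ := by rw [this]
              _ = 1 := by group
          · norm_num at hx ⊢
            have hx' : x ∈ ((F.core ⊔ (centralizerIn S F.core ⊓ T i.succ) : Subgroup Ω) : Set Ω) := hx
            rw [Subgroup.coe_mul_of_left_le_normalizer_right _ _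
              (hQS.trans (le_normalizer_of_stronglyClosed hDsc))] at hx'
            obtain ⟨q, hq, e, he, rfl⟩ := hx'
            have hqd := hdC q hq
            have h3 : (q * e)⁻¹ * (d * (q * e) * d⁻¹) = ⁅e⁻¹, d⁆ := by
              rw [commutatorElement_def]
              calc (q * e)⁻¹ * (d * (q * e) * d⁻¹) = e⁻¹ * q⁻¹ * (d * q) * e * d⁻¹ := by group
                _ = e⁻¹ * q⁻¹ * (q * d) * e * d⁻¹ := by rw [hqd]
                _ = e⁻¹ * d * e⁻¹⁻¹ * d⁻¹ := by group
            show (q * e)⁻¹ * (d * (q * e) * d⁻¹) ∈ F.core
            rw [h3]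
            exact hDD _ (Subgroup.inv_mem _ he) _ hdD
          · norm_num at hx ⊢
            apply Subgroup.mem_sup_right
            have h3 : x⁻¹ * d * x⁻¹⁻¹ ∈ centralizerIn S F.core ⊓ T i.succ :=
              stronglyClosed_conj_mem hDsc (S.inv_mem (hRS hxR)) hdD
            have : x⁻¹ * (d * x * d⁻¹) = (x⁻¹ * d * x⁻¹⁻¹) * d⁻¹ := by group
            rw [this]
            exact Subgroup.mul_mem _ h3 (Subgroup.inv_mem _ hdD)
      exact le_sup_right.trans (le_core hWn)
  have hCQ : centralizerIn S F.core ≤ F.core := by
    have := key (Fin.last n)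
    rw [hlast] at this
    intro x hx
    exact this ⟨hx, (centralizerIn_le_S S F.core) hx⟩
  refine ⟨hF, F.core, hQ, hQS, fun Q' hQ' => ?_⟩
  obtain ⟨φ, hφ, hr⟩ := hQ'
  have hQ'eq : Q' = F.core := by rw [← hr]; exact hQwc.2 φ hφ
  rw [hQ'eq]
  exact hCQ

end Cfsg.Agent.S5158
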