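import Cfsg.Statements.S5159
import Cfsg.Agent.Lib.Helper27.SolvNormalC
import Cfsg.Agent.S5134
import Cfsg.Agent.S5088

set_option autoImplicit false
open Cfsg

namespace Cfsg.Agent.S5159

/-- Let F be a saturated fusion system over a finite p-group S, E a normal subsystem over T, and D the factor system of F modulo T (read through any homomorphism on S with kernel T). Then F is solvable if and only if E and D are solvable (solvable, for a system over a subgroup S: for every subgroup R other than S that is strongly closed in F, the factor system of F modulo R has a nontrivial subgroup normal in it). -/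
theorem result {Ω : Type*} [Group Ω] {S : Subgroup Ω} [Finite S] (p : ℕ) [Fact p.Prime] (hS : IsPGroup p S) (F : Cfsg.FusionSystem S) (hF : F.IsSaturated p) {T : Subgroup Ω} (E : Cfsg.FusionSystem T) (hE : E.IsNormalIn F p) {Ω' : Type*} [Group Ω'] {S' : Subgroup Ω'} (θ : S →* Ω') (D : Cfsg.FusionSystem S') (hD : F.IsFactorSystem T θ D) : F.IsSolvableSystem ↔ (E.IsSolvableSystem ∧ D.IsSolvableSystem) := by
  classical
  have hEinv : E.IsInvariantIn F := hE.1.2.2
  have hEsat : E.IsSaturated p := hE.1.1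
  have hTsc : F.StronglyClosed T := hEinv.2.1
  have hTS : T ≤ S := hTsc.1
  haveI : Finite T := Finite.of_injective (Subgroup.inclusion hTS) (Subgroup.inclusion_injective hTS)
  have hTp : IsPGroup p T := hS.to_le hTS
  have hker := hD.2.1
  have hrange := hD.2.2.1
  haveI : Finite S' := Cfsg.Agent.H26.Tr.finite_image hrange
  have hS'p : IsPGroup p S' := Cfsg.Agent.H26.Tr.isPGroup_image hS hrange
  have hDsat : D.IsSaturated p := Cfsg.Agent.H26.factor_saturated hS hF hTsc hD
  have hmor : F.IsMorphism D θ := (Cfsg.Agent.S5134.result p hS F hF T hTsc θ D hD).1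
  have hbotF : F.StronglyClosed ⊥ := Cfsg.Agent.S5088.stronglyClosed_bot F
  have hbotE : E.StronglyClosed ⊥ := Cfsg.Agent.S5088.stronglyClosed_bot E
  have hbotD : D.StronglyClosed ⊥ := Cfsg.Agent.S5088.stronglyClosed_bot D
  constructor
  · intro hsol
    obtain ⟨n, U, h0, hlast, -, hsc, hc⟩ := Cfsg.Agent.H26.exists_chain_from hS hF hsol ⊥ hbotF
    have hch : Cfsg.Agent.Lib.Helper27.SolvN.AbChain F ⊥ S := by
      have := Cfsg.Agent.Lib.Helper27.SolvN.AbChain.of_fin U hsc hc
      rwa [h0, hlast] at this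
    constructor
    · have h1 := Cfsg.Agent.Lib.Helper27.SolvN.abChain_inf hEinv.1 hch
      rw [bot_inf_eq, inf_eq_right.mpr hTS] at h1
      obtain ⟨n, U, h0, hl, hsc, hc⟩ := h1.to_fin
      exact Cfsg.Agent.H26.solvable_of_chain hTp hEsat U h0 hl hsc hc
    · have h1 := Cfsg.Agent.Lib.Helper27.SolvN.abChain_image hS hF hTsc hD hch
      have hb : Cfsg.FusionSystem.imageAlong θ ⊥ = ⊥ := by
        unfold Cfsg.FusionSystem.imageAlong
        rw [Subgroup.bot_subgroupOf, Subgroup.map_bot]
      rw [hb, Cfsg.Agent.H26.Tr.imageAlong_top, hrange] at h1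
      obtain ⟨n, U, h0, hl, hsc, hc⟩ := h1.to_fin
      exact Cfsg.Agent.H26.solvable_of_chain hS'p hDsat U h0 hl hsc hc
  · rintro ⟨hEs, hDs⟩
    obtain ⟨n, U, h0, hlast, -, hsc, hc⟩ := Cfsg.Agent.H26.exists_chain_from hTp hEsat hEs ⊥ hbotE
    have hchE : Cfsg.Agent.Lib.Helper27.SolvN.AbChain E ⊥ T := by
      have := Cfsg.Agent.Lib.Helper27.SolvN.AbChain.of_fin U hsc hc
      rwa [h0, hlast] at this
    have hch1 : Cfsg.Agent.Lib.Helper27.SolvN.AbChain F ⊥ T :=
      Cfsg.Agent.Lib.Helper27.SolvN.abChain_of_invariant hEinv hchE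
    obtain ⟨n', U', h0', hlast', -, hsc', hc'⟩ := Cfsg.Agent.H26.exists_chain_from hS'p hDsat hDs ⊥ hbotD
    have hchD : Cfsg.Agent.Lib.Helper27.SolvN.AbChain D ⊥ S' := by
      have := Cfsg.Agent.Lib.Helper27.SolvN.AbChain.of_fin U' hsc' hc'
      rwa [h0', hlast'] at this
    have hch2 := Cfsg.Agent.Lib.Helper27.SolvN.abChain_preimage hmor hchD
    have hp1 : Cfsg.FusionSystem.preimageAlong θ ⊥ = T := by
      ext z
      rw [Cfsg.Agent.H26.mem_preimageAlong]
      constructor
      · rintro ⟨h, hz⟩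
        exact (hker ⟨z, h⟩).mp (Subgroup.mem_bot.mp hz)
      · intro hz
        exact ⟨hTS hz, Subgroup.mem_bot.mpr ((hker ⟨z, hTS hz⟩).mpr hz)⟩
    have hp2 : Cfsg.FusionSystem.preimageAlong θ S' = S := by
      ext z
      rw [Cfsg.Agent.H26.mem_preimageAlong]
      constructor
      · rintro ⟨h, -⟩
        exact h
      · intro hz
        refine ⟨hz, ?_⟩
        rw [← hrange]
        exact ⟨_, rfl⟩
    rw [hp1, hp2] at hch2
    obtain ⟨m, W, hW0, hWl, hWsc, hWc⟩ := (hch1.trans hch2).to_fin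
    exact Cfsg.Agent.H26.solvable_of_chain hS hF W hW0 hWl hWsc hWc

end Cfsg.Agent.S5159
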