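import Cfsg.Statements.S5160
import Cfsg.Agent.H26.PPrime4
import Cfsg.Agent.H26.GroupFusionSat
import Cfsg.Agent.H26.GroupFusion2

set_option autoImplicit false
open Cfsg

namespace Cfsg.Agent.S5160

open Cfsg.Agent.H26 Cfsg.FusionSystem Cfsg.Agent.Lib.Helper27

/-- Let G be a finite group with nontrivial Sylow p-subgroup S and F its fusion system on S. Suppose (a) no nontrivial proper subgroup of S is strongly closed in F, and (b) the automorphisms of S induced by G are generated by those induced, for R running over the fully normalized radical centric subgroups of F, by the subgroup of N_G(R) generated by its elements of p-power order. Then F is simple. -/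
theorem result {G : Type*} [Group G] [Finite G] (p : ℕ) [Fact p.Prime] (S : Sylow p G) (hS1 : (S : Subgroup G) ≠ ⊥) (ha : ∀ T : Subgroup G, (Cfsg.groupFusionSystem (S : Subgroup G)).StronglyClosed T → T = ⊥ ∨ T = (S : Subgroup G)) (hb : Cfsg.autInducedBy ⊤ (S : Subgroup G) = ⨆ (R : Subgroup G) (_ : (Cfsg.groupFusionSystem (S : Subgroup G)).IsFullyNormalized R ∧ (Cfsg.groupFusionSystem (S : Subgroup G)).IsRadical p R ∧ (Cfsg.groupFusionSystem (S : Subgroup G)).IsCentric R), Cfsg.autInducedBy (Subgroup.closure {g : G | g ∈ Subgroup.normalizer (R : Set G) ∧ ∃ k : ℕ, orderOf g = p ^ k}) (S : Subgroup G)) : (Cfsg.groupFusionSystem (S : Subgroup G)).IsSimple p := by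
  classical
  obtain ⟨F, hFdef⟩ : ∃ F, F = groupFusionSystem (S : Subgroup G) := ⟨_, rfl⟩
  rw [← hFdef] at ha hb ⊢
  have hSp : IsPGroup p (S : Subgroup G) := S.isPGroup'
  haveI : Finite (S : Subgroup G) := inferInstance
  have hF : F.IsSaturated p := by rw [hFdef]; exact groupFusion_saturated S
  refine ⟨hF, hS1, ?_⟩
  intro T E hE
  obtain ⟨⟨hEsat, -, hEF, hTsc, hInv, hFrat⟩, -⟩ := hE
  rcases ha T hTsc with hT | hT
  · exact Or.inl hT
  right
  subst hT
  refine ⟨rfl, fun P => Set.Subset.antisymm (hEF P) ?_⟩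
  have hSI : StrongInv E F := strongInv_of_invariant hInv hFrat
  -- (A) p-power order automorphisms of fully normalized subgroups lie in `E`
  have hA : ∀ R : Subgroup G, F.IsFullyNormalized R → ∀ γ : F.autGroup R, ∀ k : ℕ, orderOf γ = p ^ k →
      (γ : MulAut R) ∈ E.autGroup R := by
    intro R hfn γ k hk
    have hRS : R ≤ (S : Subgroup G) := hfn.1
    haveI : Finite R := Finite.of_injective (Subgroup.inclusion hRS) (Subgroup.inclusion_injective hRS)
    haveI : Finite (MulAut R) := inferInstance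
    obtain ⟨⟨-, Rs, hRs⟩, -, -⟩ := fa_receptive_of_fullyNormalized hSp hF hfn
    have hXp : IsPGroup p (Subgroup.zpowers γ) := by
      apply IsPGroup.of_card (n := k)
      rw [Nat.card_zpowers]
      exact hk
    obtain ⟨b, -, hb'⟩ := exists_conj_mem_sylow_of_le_normal ⊤ Rs _ le_top hXp
    have h1 := hb' _ (Subgroup.mem_zpowers _)
    rw [hRs, Subgroup.mem_subgroupOf] at h1
    have h2 : ((b * γ * b⁻¹ : F.autGroup R) : MulAut R) ∈ E.autGroup R :=
      autInducedBy_le_autGroup E hRS h1
    have h3 := StrongInv.conj_mem hSI le_rfl hRS (Subgroup.inv_mem _ b.2) h2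
    have h4 : ((b : MulAut R))⁻¹ * ((b * γ * b⁻¹ : F.autGroup R) : MulAut R) * ((b : MulAut R))⁻¹⁻¹ =
        (γ : MulAut R) := by
      push_cast
      group
    rw [h4] at h3
    exact h3
  -- (B) `Aut_F(S) ≤ Aut_E(S)`
  have hB : F.autGroup (S : Subgroup G) ≤ E.autGroup (S : Subgroup G) := by
    have h0 : F.autGroup (S : Subgroup G) = autInducedBy ⊤ (S : Subgroup G) := by
      rw [hFdef]; exact groupFusion_autGroup_eq le_rfl
    rw [h0, hb]
    apply iSup₂_le
    rintro R ⟨hfn, -, hcen⟩
    have hRS : R ≤ (S : Subgroup G) := hfn.1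
    haveI : Finite R := Finite.of_injective (Subgroup.inclusion hRS) (Subgroup.inclusion_injective hRS)
    have hFR : F.autGroup R = autInducedBy ⊤ R := by
      rw [hFdef]; exact groupFusion_autGroup_eq hRS
    -- every element of `K_R` induces an element of `Aut_E(R)`
    have hK : ∀ g ∈ Subgroup.closure {g : G | g ∈ Subgroup.normalizer (R : Set G) ∧
        ∃ k : ℕ, orderOf g = p ^ k}, ∃ hN : g ∈ Subgroup.normalizer (R : Set G),
        Subgroup.normalizerMonoidHom R ⟨g, hN⟩ ∈ E.autGroup R := by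
      intro g hg
      induction hg using Subgroup.closure_induction with
      | mem g hg =>
        obtain ⟨hN, k, hk⟩ := hg
        refine ⟨hN, ?_⟩
        have hmemF : Subgroup.normalizerMonoidHom R ⟨g, hN⟩ ∈ F.autGroup R := by
          rw [hFR, autInducedBy_top_eq_range]
          exact ⟨_, rfl⟩
        have hdvd : orderOf (⟨Subgroup.normalizerMonoidHom R ⟨g, hN⟩, hmemF⟩ : F.autGroup R) ∣ p ^ k := by
          rw [Subgroup.orderOf_mk, ← hk]
          have : orderOf (⟨g, hN⟩ : Subgroup.normalizer (R : Set G)) = orderOf g := Subgroup.orderOf_mk _ _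
          rw [← this]
          exact orderOf_map_dvd _ _
        obtain ⟨j, -, hj⟩ := (Nat.dvd_prime_pow (Fact.out : p.Prime)).mp hdvd
        exact hA R hfn ⟨_, hmemF⟩ j hj
      | one =>
        refine ⟨Subgroup.one_mem _, ?_⟩
        have : (⟨1, Subgroup.one_mem _⟩ : Subgroup.normalizer (R : Set G)) = 1 := rfl
        rw [this, map_one]
        exact Subgroup.one_mem _
      | mul a b _ _ iha ihb =>
        obtain ⟨ha', ha''⟩ := iha
        obtain ⟨hb', hb''⟩ := ihb
        refine ⟨Subgroup.mul_mem _ ha' hb', ?_⟩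
        have : (⟨a * b, Subgroup.mul_mem _ ha' hb'⟩ : Subgroup.normalizer (R : Set G)) =
            ⟨a, ha'⟩ * ⟨b, hb'⟩ := rfl
        rw [this, map_mul]
        exact Subgroup.mul_mem _ ha'' hb''
      | inv a _ iha =>
        obtain ⟨ha', ha''⟩ := iha
        refine ⟨Subgroup.inv_mem _ ha', ?_⟩
        have : (⟨a⁻¹, Subgroup.inv_mem _ ha'⟩ : Subgroup.normalizer (R : Set G)) = (⟨a, ha'⟩)⁻¹ := rfl
        rw [this, map_inv]
        exact Subgroup.inv_mem _ ha''
    intro α hα
    rw [mem_autInducedBy_iff] at hα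
    obtain ⟨g, hgK, hg⟩ := hα
    obtain ⟨hN, hgE⟩ := hK g hgK
    have hαF : α ∈ F.autGroup (S : Subgroup G) := by
      rw [h0, mem_autInducedBy_iff]
      exact ⟨g, Subgroup.mem_top g, hg⟩
    rw [mem_autGroup_iff E le_rfl]
    have hαF' := (mem_autGroup_iff F le_rfl α).mp hαF
    refine hom_of_restrict_centric hSp hF hEsat hEF hcen hRS hαF' ?_
    have hgE' := (mem_autGroup_iff E hRS _).mp hgE
    unfold IsIso at hgE'
    convert hgE' using 1
    ext x
    show ((α ⟨x, hRS x.2⟩ : (S : Subgroup G)) : G) = ((Subgroup.normalizerMonoidHom R ⟨g, hN⟩ x : R) : G)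
    rw [Subgroup.normalizerMonoidHom_apply_apply_coe, hg]
  -- (C)
  intro φ hφ
  obtain ⟨α, hα, φ₀, hφ₀, h⟩ := hFrat P (hom_le F hφ) φ hφ
  have hαE := (mem_autGroup_iff E le_rfl α).mp (hB hα)
  have hval : ∀ x : P, φ₀ x ∈ (S : Subgroup G) := (E.le_of_mem hφ₀).2
  have hcomp := E.comp_mem hφ₀ hαE hval
  have heq : φ = ((S : Subgroup G).subtype.comp (α : (S : Subgroup G) ≃* (S : Subgroup G)).toMonoidHom).comp
      (φ₀.codRestrict _ hval) := by
    ext x
    exact h x (hval x)
  rw [heq]
  exact hcomp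

end Cfsg.Agent.S5160
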