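-- Statement S5164.
import Cfsg.Statements.S5164

set_option autoImplicit false
open Cfsg

namespace Cfsg.Agent.S5164

/-- A finite `p`-group acting faithfully on fewer than `p ^ 2` points is commutative. -/
theorem comm_of_card_lt {p : ℕ} [Fact p.Prime] {P : Type*} [Group P] [Finite P] {α : Type*} [Fintype α]
    [MulAction P α] [FaithfulSMul P α] (hP : IsPGroup p P) (hα : Fintype.card α < p ^ 2) (g h : P) :
    g * h = h * g := by
  have hp : p.Prime := Fact.out
  apply FaithfulSMul.eq_of_smul_eq_smul (α := α)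
  intro x
  obtain ⟨k, hk⟩ := hP.index (MulAction.stabilizer P x)
  have hidx : (MulAction.stabilizer P x).index ≤ Fintype.card α := by
    rw [MulAction.index_stabilizer, ← Nat.card_eq_fintype_card, ← Set.ncard_univ]
    exact Set.ncard_le_ncard (Set.subset_univ _) Set.finite_univ
  have hk1 : k < 2 := by
    rw [hk] at hidx
    exact (Nat.pow_lt_pow_iff_right hp.one_lt).mp (lt_of_le_of_lt hidx hα)
  have hmem : (h * g)⁻¹ * (g * h) ∈ MulAction.stabilizer P x := by
    interval_cases k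
    · rw [pow_zero, Subgroup.index_eq_one] at hk
      rw [hk]; trivial
    · rw [pow_one] at hk
      obtain ⟨j, hj⟩ := (IsPGroup.iff_card.mp hP)
      have hj0 : j ≠ 0 := by
        rintro rfl
        rw [pow_zero] at hj
        have := Subgroup.index_dvd_card (MulAction.stabilizer P x)
        rw [hk, hj, Nat.dvd_one] at this
        exact hp.one_lt.ne' this
      have hnorm : (MulAction.stabilizer P x).Normal := by
        apply Subgroup.normal_of_index_eq_minFac_card
        rw [hk, hj, hp.pow_minFac hj0]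
      have hcard : Nat.card (P ⧸ MulAction.stabilizer P x) = p := by
        rw [← Subgroup.index_eq_card, hk]
      have hcyc : IsCyclic (P ⧸ MulAction.stabilizer P x) := isCyclic_of_prime_card hcard
      have h1 : ((g * h : P) : P ⧸ MulAction.stabilizer P x) = ((h * g : P) : P ⧸ MulAction.stabilizer P x) := by
        rw [QuotientGroup.mk_mul, QuotientGroup.mk_mul]
        exact (IsCyclic.commGroup (α := P ⧸ MulAction.stabilizer P x)).mul_comm _ _
      exact QuotientGroup.eq.mp h1.symm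
  rw [MulAction.mem_stabilizer_iff, mul_smul, inv_smul_eq_iff] at hmem
  exact hmem

section heis
variable (p : ℕ) [Fact p.Prime]

/-- affine maps `(i,j) ↦ (i + s, j + t i + u)` -/
def heis (v : ZMod p × ZMod p × ZMod p) : Equiv.Perm (ZMod p × ZMod p) where
  toFun x := (x.1 + v.1, x.2 + v.2.1 * x.1 + v.2.2)
  invFun x := (x.1 - v.1, x.2 - v.2.1 * (x.1 - v.1) - v.2.2)
  left_inv x := by
    ext
    · simp
    · simp only [add_sub_cancel_right]; ring
  right_inv x := by
    ext
    · simp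
    · simp only; ring

theorem heis_apply (v : ZMod p × ZMod p × ZMod p) (x : ZMod p × ZMod p) :
    heis p v x = (x.1 + v.1, x.2 + v.2.1 * x.1 + v.2.2) := rfl

theorem heis_mul (v w : ZMod p × ZMod p × ZMod p) :
    heis p w * heis p v = heis p (v.1 + w.1, v.2.1 + w.2.1, v.2.2 + w.2.2 + w.2.1 * v.1) := by
  ext x
  · simp only [Equiv.Perm.mul_apply, heis_apply]; ring
  · simp only [Equiv.Perm.mul_apply, heis_apply]; ring

theorem heis_zero : heis p (0, 0, 0) = 1 := by
  ext x
  · simp [heis_apply]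
  · simp [heis_apply]

theorem heis_injective : Function.Injective (heis p) := by
  intro v w h
  have h0 := congrArg (fun f : Equiv.Perm (ZMod p × ZMod p) => f (0, 0)) h
  have h1 := congrArg (fun f : Equiv.Perm (ZMod p × ZMod p) => f (1, 0)) h
  simp only [heis_apply, Prod.mk.injEq, zero_add, mul_zero, add_zero, mul_one] at h0 h1
  obtain ⟨h01, h02⟩ := h0
  obtain ⟨_, h12⟩ := h1
  rw [h02] at h12
  have := add_right_cancel h12
  ext
  · exact h01
  · exact this
  · exact h02

def heisGroup : Subgroup (Equiv.Perm (ZMod p × ZMod p)) where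
  carrier := Set.range (heis p)
  mul_mem' := by
    rintro _ _ ⟨v, rfl⟩ ⟨w, rfl⟩
    exact ⟨_, (heis_mul p w v).symm⟩
  one_mem' := ⟨_, heis_zero p⟩
  inv_mem' := by
    rintro _ ⟨v, rfl⟩
    refine ⟨(-v.1, -v.2.1, v.2.1 * v.1 - v.2.2), ?_⟩
    apply eq_inv_of_mul_eq_one_left
    rw [heis_mul, ← heis_zero]
    congr 1
    ext
    · simp
    · simp
    · simp only; ring

theorem card_heisGroup : Nat.card (heisGroup p) = p ^ 3 := by
  have : Nat.card (heisGroup p) = Nat.card (Set.range (heis p)) := rfl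
  rw [this, Nat.card_range_of_injective (heis_injective p), Nat.card_prod, Nat.card_prod, Nat.card_zmod]
  ring

theorem isPGroup_heisGroup : IsPGroup p (heisGroup p) := IsPGroup.of_card (card_heisGroup p)

theorem heis_not_comm : heis p (0, 1, 0) * heis p (1, 0, 0) ≠ heis p (1, 0, 0) * heis p (0, 1, 0) := by
  intro h
  have h0 := congrArg (fun f : Equiv.Perm (ZMod p × ZMod p) => f (0, 0)) h
  simp [heis_apply] at h0

end heis

theorem sign_eq_one_of_odd_pgroup {p : ℕ} [Fact p.Prime] (hp2 : p ≠ 2) {X : Type*} [Fintype X] [DecidableEq X]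
    {H : Subgroup (Equiv.Perm X)} (hH : IsPGroup p H) : H ≤ alternatingGroup X := by
  intro h hh
  rw [Equiv.Perm.mem_alternatingGroup]
  have hp : p.Prime := Fact.out
  obtain ⟨k, hk⟩ := hH ⟨h, hh⟩
  have hk' : h ^ p ^ k = 1 := by
    have := congrArg Subtype.val hk
    simpa using this
  have h1 : (Equiv.Perm.sign h) ^ p ^ k = 1 := by rw [← map_pow, hk', map_one]
  rcases Int.units_eq_one_or (Equiv.Perm.sign h) with h2 | h2
  · exact h2
  · rw [h2] at h1
    have hodd : Odd (p ^ k) := (hp.odd_of_ne_two hp2).pow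
    rw [hodd.neg_one_pow] at h1
    exact absurd h1 (by decide)

theorem not_comm_of_embedding {n p : ℕ} [Fact p.Prime] {X : Type*} [Fintype X] [DecidableEq X]
    (ι : X ↪ Fin n) (H : Subgroup (Equiv.Perm X)) (hH : IsPGroup p H) (hsign : H ≤ alternatingGroup X)
    {x y : Equiv.Perm X} (hx : x ∈ H) (hy : y ∈ H) (hxy : x * y ≠ y * x)
    (S : Sylow p (alternatingGroup (Fin n))) : ¬ IsMulCommutative S := by
  classical
  let f : X ≃ {z // z ∈ Set.range ι} := Equiv.ofInjective ι ι.injective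
  let e : Equiv.Perm X →* Equiv.Perm (Fin n) := Equiv.Perm.extendDomainHom f
  have he : Function.Injective e := Equiv.Perm.extendDomainHom_injective f
  have halt : ∀ h : H, e h ∈ alternatingGroup (Fin n) := by
    intro h
    rw [Equiv.Perm.mem_alternatingGroup]
    show Equiv.Perm.sign ((h : Equiv.Perm X).extendDomain f) = 1
    rw [Equiv.Perm.sign_extendDomain]
    exact Equiv.Perm.mem_alternatingGroup.mp (hsign h.2)
  let φ : H →* alternatingGroup (Fin n) := (e.comp H.subtype).codRestrict _ halt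
  have hQ : IsPGroup p φ.range := hH.of_surjective φ.rangeRestrict φ.rangeRestrict_surjective
  obtain ⟨S', hS'⟩ := hQ.exists_le_sylow
  obtain ⟨g, hg⟩ := MulAction.exists_smul_eq (alternatingGroup (Fin n)) S' S
  intro hcomm
  rw [isMulCommutative_iff] at hcomm
  have hconj : ∀ z ∈ (S' : Subgroup (alternatingGroup (Fin n))), g * z * g⁻¹ ∈ (S : Subgroup _) := by
    intro z hz
    rw [← hg, Sylow.coe_subgroup_smul]
    have := Subgroup.smul_mem_pointwise_smul z (MulAut.conj g) _ hz
    rwa [MulAut.smul_def, MulAut.conj_apply] at this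
  have hX := hconj _ (hS' ⟨⟨x, hx⟩, rfl⟩)
  have hY := hconj _ (hS' ⟨⟨y, hy⟩, rfl⟩)
  have h1 := hcomm ⟨_, hX⟩ ⟨_, hY⟩
  have h2 := congrArg Subtype.val h1
  simp only [Subgroup.coe_mul] at h2
  have h3 : φ ⟨x, hx⟩ * φ ⟨y, hy⟩ = φ ⟨y, hy⟩ * φ ⟨x, hx⟩ := by
    have : g * φ ⟨x, hx⟩ * g⁻¹ * (g * φ ⟨y, hy⟩ * g⁻¹) = g * (φ ⟨x, hx⟩ * φ ⟨y, hy⟩) * g⁻¹ := by group
    rw [this] at h2
    have : g * φ ⟨y, hy⟩ * g⁻¹ * (g * φ ⟨x, hx⟩ * g⁻¹) = g * (φ ⟨y, hy⟩ * φ ⟨x, hx⟩) * g⁻¹ := by group
    rw [this] at h2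
    exact mul_left_cancel (mul_right_cancel h2)
  have h4 := congrArg Subtype.val h3
  simp only [Subgroup.coe_mul] at h4
  have h5 : e x * e y = e y * e x := h4
  rw [← map_mul, ← map_mul] at h5
  exact hxy (he h5)

theorem isPGroup_zpowers {G : Type*} [Group G] {p k : ℕ} (x : G) (hx : x ^ p ^ k = 1) :
    IsPGroup p (Subgroup.zpowers x) := by
  rintro ⟨g, hg⟩
  obtain ⟨i, rfl⟩ := Subgroup.mem_zpowers_iff.mp hg
  refine ⟨k, ?_⟩
  ext
  simp only [Subgroup.coe_pow, Subgroup.coe_one]
  rw [← zpow_natCast, ← zpow_mul, mul_comm, zpow_mul, zpow_natCast, hx, one_zpow]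

def x6 : Equiv.Perm (Fin 6) := c[0, 1, 2, 3] * c[4, 5]
def y6 : Equiv.Perm (Fin 6) := c[0, 1] * c[2, 3]

theorem x6_pow : x6 ^ 2 ^ 2 = 1 := by decide
theorem y6_pow : y6 ^ 2 ^ 1 = 1 := by decide
theorem y6_conj : y6 * x6 * y6⁻¹ = x6⁻¹ := by decide
theorem x6_sign : Equiv.Perm.sign x6 = 1 := by decide
theorem y6_sign : Equiv.Perm.sign y6 = 1 := by decide
theorem xy6 : x6 * y6 ≠ y6 * x6 := by decide

def H2 : Subgroup (Equiv.Perm (Fin 6)) := Subgroup.zpowers y6 ⊔ Subgroup.zpowers x6

theorem isPGroup_H2 : IsPGroup 2 H2 := by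
  apply IsPGroup.to_sup_of_normal_right' (isPGroup_zpowers y6 y6_pow) (isPGroup_zpowers x6 x6_pow)
  rw [Subgroup.zpowers_le]
  apply Subgroup.mem_normalizer_fintype
  intro n hn
  obtain ⟨i, rfl⟩ := Subgroup.mem_zpowers_iff.mp hn
  rw [SetLike.mem_coe, ← conj_zpow, y6_conj]
  exact Subgroup.zpow_mem _ (Subgroup.inv_mem _ (Subgroup.mem_zpowers x6)) i

theorem H2_le : H2 ≤ alternatingGroup (Fin 6) := by
  apply sup_le
  · rw [Subgroup.zpowers_le, Equiv.Perm.mem_alternatingGroup]; exact y6_sign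
  · rw [Subgroup.zpowers_le, Equiv.Perm.mem_alternatingGroup]; exact x6_sign

theorem x6_mem : x6 ∈ H2 := (le_sup_right : Subgroup.zpowers x6 ≤ H2) (Subgroup.mem_zpowers x6)
theorem y6_mem : y6 ∈ H2 := (le_sup_left : Subgroup.zpowers y6 ≤ H2) (Subgroup.mem_zpowers y6)

/-- For n ≥ 6 and a prime p, a nontrivial Sylow p-subgroup of the alternating group of degree n is abelian if and only if n < p². -/
theorem result (n p : ℕ) (hn : 6 ≤ n) [Fact p.Prime] (S : Sylow p (alternatingGroup (Fin n))) (hS : (S : Subgroup (alternatingGroup (Fin n))) ≠ ⊥) : IsMulCommutative S ↔ n < p ^ 2 := by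
  constructor
  · intro hc
    by_contra hlt
    push Not at hlt
    by_cases hp2 : p = 2
    · subst hp2
      exact not_comm_of_embedding (Fin.castLEEmb hn) H2 isPGroup_H2 H2_le x6_mem y6_mem xy6 S hc
    · have hcard : Fintype.card (ZMod p × ZMod p) ≤ Fintype.card (Fin n) := by
        rw [Fintype.card_prod, ZMod.card, Fintype.card_fin, ← sq]
        exact hlt
      obtain ⟨ι⟩ := Function.Embedding.nonempty_of_card_le hcard
      exact not_comm_of_embedding ι (heisGroup p) (isPGroup_heisGroup p)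
        (sign_eq_one_of_odd_pgroup hp2 (isPGroup_heisGroup p)) ⟨_, rfl⟩ ⟨_, rfl⟩ (heis_not_comm p) S hc
  · intro hlt
    rw [isMulCommutative_iff]
    intro g h
    exact comm_of_card_lt (α := Fin n) S.isPGroup' (by rw [Fintype.card_fin]; exact hlt) g h

end Cfsg.Agent.S5164
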