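import Cfsg.Statements.S5178
import Cfsg.Agent.Lib.Helper27.CommP

set_option autoImplicit false
universe u
open Cfsg

namespace Cfsg.Agent.S5178

open Cfsg.FusionSystem Cfsg.Agent.Lib.Helper27
open scoped commutatorElement

/-- Let p be an odd prime, S a finite p-group containing an extraspecial subgroup Q of index p, and F a saturated fusion system over S whose largest subgroup normal in F is trivial. Then the centre of S equals the centre of Q. -/
theorem result {Ω : Type u} [Group Ω] {S : Subgroup Ω} [Finite S] (p : ℕ) [Fact p.Prime] (hp : Odd p) (hS : IsPGroup p S)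
    (Q : Subgroup Ω) (hQS : Q ≤ S) (hQ : Cfsg.IsExtraspecial p ↥Q) (hQi : (Q.subgroupOf S).index = p)
    (F : Cfsg.FusionSystem S) (hF : F.IsSaturated p) (hO : F.core = ⊥) :
    S ⊓ Subgroup.centralizer (S : Set Ω) = Q ⊓ Subgroup.centralizer (Q : Set Ω) := by
  have hpp : p.Prime := Fact.out
  have hp2 : p ≠ 2 := by
    rintro rfl
    exact absurd hp (by decide)
  obtain ⟨⟨hQp, hfr, hcomm⟩, hcard⟩ := hQ
  have hZ₀card : Nat.card ↥(Q ⊓ Subgroup.centralizer (Q : Set Ω)) = p := by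
    rw [← center_map_subtype (S := Q), Subgroup.card_map_of_injective Q.subtype_injective]
    exact hcard
  have hN : (Q.subgroupOf S).Normal := normal_of_index_prime_of_isPGroup hS hQi
  have hconjQ : ∀ s ∈ S, ∀ q ∈ Q, s * q * s⁻¹ ∈ Q := by
    intro s hs q hq
    have := hN.conj_mem ⟨q, hQS hq⟩ (Subgroup.mem_subgroupOf.mpr hq) ⟨s, hs⟩
    exact Subgroup.mem_subgroupOf.mp this
  have hZ₀le : Q ⊓ Subgroup.centralizer (Q : Set Ω) ≤ S := inf_le_left.trans hQS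
  have hZ₀n : ∀ s ∈ S, ∀ z ∈ Q ⊓ Subgroup.centralizer (Q : Set Ω),
      s * z * s⁻¹ ∈ Q ⊓ Subgroup.centralizer (Q : Set Ω) := by
    intro s hs z hz
    obtain ⟨hzQ, hzc⟩ := Subgroup.mem_inf.mp hz
    refine Subgroup.mem_inf.mpr ⟨hconjQ s hs z hzQ, ?_⟩
    rw [Subgroup.mem_centralizer_iff] at hzc ⊢
    intro q hq
    have h1 : s⁻¹ * q * s⁻¹⁻¹ ∈ Q := hconjQ s⁻¹ (S.inv_mem hs) q hq
    have h2 := hzc _ h1
    calc q * (s * z * s⁻¹) = s * ((s⁻¹ * q * s⁻¹⁻¹) * z) * s⁻¹ := by group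
      _ = s * (z * (s⁻¹ * q * s⁻¹⁻¹)) * s⁻¹ := by rw [h2]
      _ = s * z * s⁻¹ * q := by group
  have hZ₀c := central_of_card_prime hS hZ₀le hZ₀card hZ₀n
  have hZ₀ZS : Q ⊓ Subgroup.centralizer (Q : Set Ω) ≤ S ⊓ Subgroup.centralizer (S : Set Ω) := by
    intro z hz
    refine Subgroup.mem_inf.mpr ⟨hZ₀le hz, ?_⟩
    rw [Subgroup.mem_centralizer_iff]
    exact fun s hs => hZ₀c z hz s hs
  apply le_antisymm _ hZ₀ZS
  by_cases hle : S ⊓ Subgroup.centralizer (S : Set Ω) ≤ Q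
  · intro z hz
    refine Subgroup.mem_inf.mpr ⟨hle hz, ?_⟩
    rw [Subgroup.mem_centralizer_iff]
    intro q hq
    exact Subgroup.mem_centralizer_iff.mp (Subgroup.mem_inf.mp hz).2 q (hQS hq)
  · exfalso
    obtain ⟨u, hu, huQ⟩ := SetLike.not_le_iff_exists.mp hle
    have huS : u ∈ S := (Subgroup.mem_inf.mp hu).1
    have huc : ∀ s ∈ S, s * u = u * s := fun s hs =>
      Subgroup.mem_centralizer_iff.mp (Subgroup.mem_inf.mp hu).2 s hs
    have hcommQ : ∀ a ∈ Q, ∀ b ∈ Q,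
        a * b * a⁻¹ * b⁻¹ ∈ Q ⊓ Subgroup.centralizer (Q : Set Ω) := by
      intro a ha b hb
      have h1 : ⁅(⟨a, ha⟩ : Q), ⟨b, hb⟩⁆ ∈ commutator ↥Q := by
        rw [commutator_def]
        exact Subgroup.commutator_mem_commutator (Subgroup.mem_top _) (Subgroup.mem_top _)
      rw [hcomm] at h1
      rw [← center_map_subtype (S := Q)]
      exact ⟨_, h1, rfl⟩
    have hCP : CommP S (Q ⊓ Subgroup.centralizer (Q : Set Ω)) p := by
      refine ⟨hS, hZ₀le, hZ₀card, ?_, hZ₀c⟩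
      intro x hx y hy
      obtain ⟨a, ha, k, rfl⟩ := exists_mul_zpow_of_index_prime hN hQi huS huQ hx
      obtain ⟨b, hb, l, rfl⟩ := exists_mul_zpow_of_index_prime hN hQi huS huQ hy
      have hck : ∀ s ∈ S, s * u ^ k = u ^ k * s := fun s hs =>
        (Commute.zpow_right (huc s hs) k).eq
      have hcl : ∀ s ∈ S, s * u ^ l = u ^ l * s := fun s hs =>
        (Commute.zpow_right (huc s hs) l).eq
      have hai : a⁻¹ ∈ S := S.inv_mem (hQS ha)
      have e : a * u ^ k * (b * u ^ l) * (a * u ^ k)⁻¹ * (b * u ^ l)⁻¹ = a * b * a⁻¹ * b⁻¹ := by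
        calc a * u ^ k * (b * u ^ l) * (a * u ^ k)⁻¹ * (b * u ^ l)⁻¹
            = a * (u ^ k * (b * u ^ l)) * (u ^ k)⁻¹ * a⁻¹ * (b * u ^ l)⁻¹ := by group
          _ = a * ((b * u ^ l) * u ^ k) * (u ^ k)⁻¹ * a⁻¹ * (b * u ^ l)⁻¹ := by
              rw [← hck (b * u ^ l) hy]
          _ = a * b * (u ^ l * a⁻¹) * (u ^ l)⁻¹ * b⁻¹ := by group
          _ = a * b * (a⁻¹ * u ^ l) * (u ^ l)⁻¹ * b⁻¹ := by rw [← hcl a⁻¹ hai]
          _ = a * b * a⁻¹ * b⁻¹ := by group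
      rw [e]
      exact hcommQ a ha b hb
    have := hCP.center_le hF hp2 hO
    exact huQ (Subgroup.mem_inf.mp (this hu)).1

end Cfsg.Agent.S5178
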