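import Cfsg.Statements.S5179
import Cfsg.Agent.Lib.Helper27.CommP2

set_option autoImplicit false
universe u
open Cfsg

namespace Cfsg.Agent.S5179

open Cfsg.FusionSystem Cfsg.Agent.Lib.Helper27

/-- Let p be an odd prime, S a finite p-group of order at least p⁶ containing an extraspecial subgroup Q of index p, and F a saturated fusion system over S whose largest subgroup normal in F is trivial. Then no proper subgroup of Q is essential in F: an essential subgroup of F contained in Q equals Q. -/
theorem result {Ω : Type u} [Group Ω] {S : Subgroup Ω} [Finite S] (p : ℕ) [Fact p.Prime] (hp : Odd p) (hS : IsPGroup p S)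
    (Q : Subgroup Ω) (hQS : Q ≤ S) (hQ : Cfsg.IsExtraspecial p ↥Q) (hQi : (Q.subgroupOf S).index = p)
    (h6 : p ^ 6 ≤ Nat.card S)
    (F : Cfsg.FusionSystem S) (hF : F.IsSaturated p) (hO : F.core = ⊥)
    (E : Subgroup Ω) (hEQ : E ≤ Q) (hE : F.IsEssential p E) : E = Q := by
  have hpp : p.Prime := Fact.out
  have hCP := commP_of_isExtraspecial hQ
  by_contra hne
  have hex : ∃ g ∈ Q, g ∉ E := by
    by_contra hcon
    push Not at hcon
    exact hne (le_antisymm hEQ hcon)
  have hrad := Cfsg.Agent.S5080.result p hS F hF E hE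
  have hab := hCP.essential_comm' hS hQS hE.1 hrad hEQ hex
  obtain ⟨y, hyE, hy⟩ := hCP.essential_exists' hS hQS hF hE hEQ
  have : Finite Q := Finite.of_injective (Subgroup.inclusion hQS) (Subgroup.inclusion_injective hQS)
  have hidx := hCP.index_center_le hEQ hab hyE hy
  have hcQ : Nat.card Q ≤ p ^ 3 := by
    rw [← Subgroup.card_mul_index (Subgroup.center ↥Q), hQ.2]
    calc p * (Subgroup.center ↥Q).index ≤ p * p ^ 2 := Nat.mul_le_mul_left _ hidx
      _ = p ^ 3 := by ring
  have hcS : Nat.card S = Nat.card Q * p := by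
    rw [← hQi, ← Subgroup.card_mul_index (Q.subgroupOf S)]
    congr 1
    exact Nat.card_congr (Subgroup.subgroupOfEquivOfLe hQS).toEquiv
  have h64 : p ^ 6 ≤ p ^ 4 := by
    calc p ^ 6 ≤ Nat.card S := h6
      _ = Nat.card Q * p := hcS
      _ ≤ p ^ 3 * p := Nat.mul_le_mul_right _ hcQ
      _ = p ^ 4 := by ring
  have h2 : 6 ≤ 4 := (Nat.pow_le_pow_iff_right hpp.one_lt).mp h64
  omega

end Cfsg.Agent.S5179
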