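import Cfsg.Statements.S5185
import Cfsg.Agent.Lib.Helper27.RankTwoSL
import Cfsg.Agent.H26.StronglyEmbedded

set_option autoImplicit false
universe u
open Cfsg

namespace Cfsg.Agent.S5185

open Cfsg.Agent.Lib.Helper27

/-- If `I = ⊥` and `Γ ⧸ I` has a strongly `p`-embedded subgroup then `p ∣ |Γ|` and `Γ` has no
nontrivial normal `p`-subgroup. -/
theorem out_facts {Γ : Type*} [Group Γ] {p : ℕ} [Fact p.Prime] (I : Subgroup Γ)
    [hI : I.Normal] (hbot : I = ⊥) (E : Subgroup (Γ ⧸ I)) (hE : IsStronglyPEmbedded p E) :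
    p ∣ Nat.card Γ ∧ ∀ N : Subgroup Γ, N.Normal → IsPGroup p N → N = ⊥ := by
  constructor
  · have h1 := hE.1
    have h2 : Nat.card Γ = Nat.card (Γ ⧸ I) * Nat.card I :=
      Subgroup.card_eq_card_quotient_mul_card_subgroup I
    rw [h2]
    exact Dvd.dvd.mul_right h1 _
  · intro N hN hNp
    have hmap : (N.map (QuotientGroup.mk' I)).Normal :=
      hN.map _ (QuotientGroup.mk'_surjective I)
    have hp' : IsPGroup p (N.map (QuotientGroup.mk' I)) := hNp.map _
    have hb := Cfsg.Agent.H26.normal_pSubgroup_eq_bot_of_stronglyPEmbedded hE hmap hp'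
    rw [eq_bot_iff]
    intro x hx
    have h3 : (QuotientGroup.mk' I) x ∈ N.map (QuotientGroup.mk' I) :=
      Subgroup.mem_map_of_mem _ hx
    rw [hb, Subgroup.mem_bot] at h3
    have h4 : x ∈ I := (QuotientGroup.eq_one_iff x).mp h3
    rw [hbot] at h4
    exact h4

/-- Let F be a saturated fusion system over a finite p-group S and H an essential subgroup of order p². Then H is elementary abelian (isomorphic to C_p × C_p) and its F-automorphism group contains a subgroup isomorphic to SL(2,p). -/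
theorem result {Ω : Type u} [Group Ω] {S : Subgroup Ω} [Finite S] (p : ℕ) [Fact p.Prime] (hS : IsPGroup p S)
    (F : Cfsg.FusionSystem S) (hF : F.IsSaturated p) (H : Subgroup Ω) (hH : F.IsEssential p H) (hcard : Nat.card H = p ^ 2) :
    Cfsg.IsElementaryAbelian p H ∧
      ∃ K : Subgroup ↥(F.autGroup H), Nonempty (↥K ≃* Matrix.SpecialLinearGroup (Fin 2) (ZMod p)) := by
  classical
  have hp : p.Prime := Fact.out
  have hfin : Finite H := Nat.finite_of_card_ne_zero (by rw [hcard]; exact pow_ne_zero 2 hp.ne_zero)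
  have hcomm : ∀ x y : H, x * y = y * x := IsPGroup.commutative_of_card_eq_prime_sq hcard
  obtain ⟨-, -, hnormal, E, hE⟩ := hH
  have hInn : Inn H = ⊥ := by
    rw [eq_bot_iff]
    rintro _ ⟨g, rfl⟩
    rw [Subgroup.mem_bot]
    refine MulEquiv.ext (fun x => ?_)
    show g * x * g⁻¹ = x
    rw [hcomm g x, mul_inv_cancel_right]
  have hbot : (Inn H).subgroupOf (F.autGroup H) = ⊥ := by
    rw [hInn]; exact Subgroup.bot_subgroupOf _
  obtain ⟨hdvd, hOp⟩ := out_facts (p := p) ((Inn H).subgroupOf (F.autGroup H)) hbot E hE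
  have hexp : ∀ x : H, x ^ p = 1 := by
    by_contra hne
    push Not at hne
    obtain ⟨x, hx⟩ := hne
    have hdiv : orderOf x ∣ p ^ 2 := by rw [← hcard]; exact orderOf_dvd_natCard x
    obtain ⟨k, hk, hkeq⟩ := (Nat.dvd_prime_pow hp).mp hdiv
    have hk2 : k = 2 := by
      interval_cases k
      · exfalso
        apply hx
        rw [pow_zero, orderOf_eq_one_iff] at hkeq
        rw [hkeq, one_pow]
      · exfalso
        apply hx
        rw [pow_one] at hkeq
        rw [← hkeq]
        exact pow_orderOf_eq_one x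
      · rfl
    subst hk2
    have hcyc : IsCyclic H := isCyclic_of_orderOf_eq_card x (by rw [hkeq, hcard])
    have hΓcomm : ∀ α β : F.autGroup H, α * β = β * α := by
      intro α β
      apply Subtype.ext
      apply (IsCyclic.mulAutMulEquiv H).injective
      rw [Subgroup.coe_mul, Subgroup.coe_mul, map_mul, map_mul, mul_comm]
    obtain ⟨a', ha'⟩ := exists_prime_orderOf_dvd_card' p hdvd
    have hnorm : (Subgroup.zpowers a').Normal :=
      ⟨fun n hn g => by rw [hΓcomm g n, mul_inv_cancel_right]; exact hn⟩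
    have hpg : IsPGroup p (Subgroup.zpowers a') :=
      IsPGroup.of_card (n := 1) (by rw [Nat.card_zpowers, ha', pow_one])
    have h0 := hOp _ hnorm hpg
    have h1 : a' = 1 := Subgroup.zpowers_eq_bot.mp h0
    rw [h1, orderOf_one] at ha'
    exact hp.one_lt.ne ha'
  refine ⟨⟨⟨⟨hcomm⟩⟩, fun a ha => ?_⟩, ?_⟩
  · have h1 := congrArg Subtype.val (hexp ⟨a, ha⟩)
    simpa using h1
  · exact exists_subgroup_SL2 hcomm hexp hcard (F.autGroup H) hdvd hOp

end Cfsg.Agent.S5185
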