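import Cfsg.Statements.S5186
import Cfsg.Agent.Lib.Helper27.EssentialChain
import Cfsg.Agent.Lib.Helper27.OrderPCube
import Cfsg.Agent.Lib.Helper27.CenterIdxFinal

set_option autoImplicit false
universe u
open Cfsg

namespace Cfsg.Agent.S5186

open Cfsg.Agent.Lib.Helper27

/-- Let F be a saturated fusion system over a finite p-group S and H an essential subgroup of order p³. Then H is elementary abelian, or p is odd and H is extraspecial of exponent p, or p = 2 and H is the quaternion group of order 8. -/
theorem result {Ω : Type u} [Group Ω] {S : Subgroup Ω} [Finite S] (p : ℕ) [Fact p.Prime] (hS : IsPGroup p S)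
    (F : Cfsg.FusionSystem S) (hF : F.IsSaturated p) (H : Subgroup Ω) (hH : F.IsEssential p H) (hcard : Nat.card H = p ^ 3) :
    Cfsg.IsElementaryAbelian p H ∨ (Odd p ∧ Cfsg.IsExtraspecial p ↥H ∧ ∀ x ∈ H, x ^ p = 1) ∨
      (p = 2 ∧ Nonempty (↥H ≃* QuaternionGroup 2)) := by
  classical
  have hp : p.Prime := Fact.out
  have hHS : H ≤ S := hH.1.1
  have hfinH : Finite H :=
    Finite.of_injective (Subgroup.inclusion hHS) (Subgroup.inclusion_injective hHS)
  have hchain : ¬ CharChain p ↥H := by
    rintro ⟨c, hc0, hc3, hchar, hstep⟩
    exact essential_no_chain hS hF hH c 3 hc0 hc3 hchar hstep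
  by_cases hcomm : ∀ x y : H, x * y = y * x
  · rcases abelian_cube hcard hcomm with h | h
    · left
      exact ⟨⟨⟨hcomm⟩⟩, fun a ha => congrArg Subtype.val (h ⟨a, ha⟩)⟩
    · exact absurd h hchain
  · have hZ := card_center_of_cube hcard hcomm
    have hZcard : Nat.card ↥(H ⊓ Subgroup.centralizer (H : Set Ω)) = p := by
      rw [← center_map_subtype, Subgroup.card_map_of_injective (Subgroup.subtype_injective H)]
      exact hZ
    have hci : CIdx H p := by
      refine ⟨IsPGroup.of_card hcard, ?_, ?_⟩
      · by_contra hcon
        push Not at hcon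
        apply hcomm
        intro x y
        exact Subtype.ext (hcon x x.2 y y.2)
      · show ((H ⊓ Subgroup.centralizer (H : Set Ω)).subgroupOf H).index = p ^ 2
        rw [center_subgroupOf]
        have h1 := Subgroup.card_mul_index (Subgroup.center ↥H)
        rw [hZ, hcard] at h1
        have h2 : (Subgroup.center ↥H).index * p = p ^ 2 * p := by rw [mul_comm, h1]; ring
        exact Nat.eq_of_mul_eq_mul_right hp.pos h2
    obtain ⟨hes, -⟩ := hci.isExtraspecial hZcard
    by_cases hp2 : p = 2
    · right; right
      refine ⟨hp2, ?_⟩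
      subst hp2
      rcases extraspecial_cube_two hcard hes with h | h
      · exact h
      · exact absurd h hchain
    · right; left
      rcases extraspecial_cube_odd hcard hes hp2 with h | h
      · exact ⟨hp.odd_of_ne_two hp2, hes, fun x hx => congrArg Subtype.val (h ⟨x, hx⟩)⟩
      · exact absurd h hchain

end Cfsg.Agent.S5186
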