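import Cfsg.Statements.S5187
import Cfsg.Agent.Lib.Helper1.Frattini
import Cfsg.Agent.Lib.Helper27.EssentialAbelian
import Cfsg.Agent.Lib.Helper27.LiftOrderP

set_option autoImplicit false
universe u
open Cfsg

namespace Cfsg.Agent.S5187

open Cfsg.FusionSystem Cfsg.Agent.Lib.Helper27

/-- Let F be a saturated fusion system over a finite p-group S and H an abelian essential subgroup that can be generated by two elements (its Frattini quotient has order at most p²). Then H is elementary abelian of order p², or p ≤ 3 and H is homocyclic of rank two, that is isomorphic to C_{pᵏ} × C_{pᵏ} for some k. -/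
theorem result {Ω : Type u} [Group Ω] {S : Subgroup Ω} [Finite S] (p : ℕ) [Fact p.Prime] (hS : IsPGroup p S)
    (F : Cfsg.FusionSystem S) (hF : F.IsSaturated p) (H : Subgroup Ω) (hH : F.IsEssential p H) (hab : IsMulCommutative ↥H) (hrk : (frattini ↥H).index ≤ p ^ 2) :
    (Cfsg.IsElementaryAbelian p H ∧ Nat.card H = p ^ 2) ∨
      (p ≤ 3 ∧ ∃ k : ℕ, Nonempty (↥H ≃* Multiplicative (ZMod (p ^ k) × ZMod (p ^ k)))) := by
  have hp : p.Prime := Fact.out
  have hcen : F.IsCentric H := hH.1
  have hHS : H ≤ S := hcen.1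
  have hfinH : Finite H :=
    Finite.of_injective (Subgroup.inclusion hHS) (Subgroup.inclusion_injective hHS)
  have hpH : IsPGroup p H := hS.to_le hHS
  have hc : ∀ x y : H, x * y = y * x := fun x y => hab.is_comm.comm x y
  -- the Frattini subgroup lies in the subgroup of `p`-th powers
  have hΦ : frattini H ≤ ATG.pw hc p ⊤ := by
    apply Cfsg.Agent.Lib.Helper1.frattini_le_of_commutator_le_of_pow_mem (p := p)
    · rw [commutator_def, Subgroup.commutator_le]
      intro g₁ _ g₂ _
      rw [commutatorElement_def, hc g₁ g₂, mul_inv_cancel_right, mul_inv_cancel]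
      exact Subgroup.one_mem _
    · intro x
      exact (ATG.mem_pw hc).mpr ⟨x, Subgroup.mem_top x, rfl⟩
  have h1 := ATG.card_eq_om_mul_pw hc p (⊤ : Subgroup H)
  have hom : Nat.card (ATG.om hc p (⊤ : Subgroup H)) ≤ p ^ 2 := by
    have h2 := Subgroup.card_mul_index (ATG.pw hc p (⊤ : Subgroup H))
    have h3 : Nat.card (ATG.om hc p (⊤ : Subgroup H)) = (ATG.pw hc p (⊤ : Subgroup H)).index := by
      rw [Subgroup.card_top] at h1
      have hpos : 0 < Nat.card (ATG.pw hc p (⊤ : Subgroup H)) := Nat.card_pos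
      have h4 : Nat.card (ATG.pw hc p (⊤ : Subgroup H)) * Nat.card (ATG.om hc p (⊤ : Subgroup H)) =
          Nat.card (ATG.pw hc p (⊤ : Subgroup H)) * (ATG.pw hc p (⊤ : Subgroup H)).index := by
        rw [h2, h1, mul_comm]
      exact Nat.eq_of_mul_eq_mul_left hpos h4
    rw [h3]
    exact le_trans (Nat.le_of_dvd (Nat.pos_of_ne_zero Subgroup.index_ne_zero_of_finite)
      (Subgroup.index_dvd_of_le hΦ)) hrk
  rcases ATG.main_claim hc hpH _ (⊤ : Subgroup H) rfl ATG.isChr_top hom with
    ⟨k, hk1, hk2⟩ | ⟨hR, -⟩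
  swap
  · obtain ⟨m, c, h0, hm, hch, hst⟩ := hR
    exact (essential_no_chain hS hF hH c m h0 hm hch hst).elim
  rw [Subgroup.card_top] at hk1
  have hexp : ∀ x : H, x ^ (p ^ k) = 1 := fun x => hk2 x (Subgroup.mem_top x)
  -- `k = 0` is impossible
  rcases Nat.eq_zero_or_pos k with hk0 | hkpos
  · exfalso
    rw [hk0, Nat.mul_zero, pow_zero] at hk1
    have hsub : (⊥ : Subgroup H) = ⊤ := by
      apply (Subgroup.card_eq_iff_eq_top ⊥).mp
      rw [Subgroup.card_bot, hk1]
    exact essential_no_chain hS hF hH (fun _ => ⊥) 0 rfl hsub (fun _ => ATG.isChr_bot)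
      (fun j hj => absurd hj (Nat.not_lt_zero j))
  -- the isomorphism
  have hq : 1 < p ^ k := Nat.one_lt_pow (by omega) hp.one_lt
  have hcardq : Nat.card H = p ^ k * p ^ k := by rw [hk1, ← pow_add, two_mul]
  obtain ⟨a, b, hgen⟩ := ATG.exists_two_gen hpH hrk
  obtain ⟨e⟩ := ATG.exists_iso hc hq hcardq hexp a b hgen
  rcases (by omega : k = 1 ∨ 2 ≤ k) with hk1' | hk2'
  · left
    rw [hk1'] at hk1 hexp
    refine ⟨⟨hab, ?_⟩, by rw [hk1]⟩
    intro x hx
    have h5 := hexp ⟨x, hx⟩
    rw [pow_one] at h5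
    have h6 := congrArg Subtype.val h5
    simpa using h6
  · right
    refine ⟨?_, k, ⟨e⟩⟩
    by_contra hp3
    have hp5 : 5 ≤ p := by
      rcases (by omega : p = 4 ∨ 5 ≤ p) with h4 | h5
      · exfalso
        rw [h4] at hp
        exact absurd hp (by norm_num)
      · exact h5
    obtain ⟨K, -, -, -, ⟨g, hgN, hgH⟩, -⟩ := essential_exists_subgroup hS hF hH
    obtain ⟨g', hg'N, hg'H, hg'p⟩ := exists_outer_pow_mem hS hgN hgH
    have hu : (conjAutHom S H ⟨g', hg'N⟩) ^ p = 1 := by
      rw [← map_pow]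
      refine MulEquiv.ext (fun x => Subtype.ext ?_)
      rw [conjAutHom_apply]
      show g' ^ p * (x : Ω) * (g' ^ p)⁻¹ = (x : Ω)
      have h7 := congrArg Subtype.val (hc ⟨g' ^ p, hg'p⟩ x)
      have h8 : g' ^ p * (x : Ω) = (x : Ω) * g' ^ p := h7
      rw [h8, mul_inv_cancel_right]
    exact essential_not_trivial_mod_pow hS hF hH hc k hexp hg'N hg'H
      (LOP.claim2 hp hp5 hk2' e _ hu)

end Cfsg.Agent.S5187
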