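import Cfsg.Statements.S5188
import Cfsg.Agent.S5187
import Cfsg.Agent.Lib.Helper27.P4G

set_option autoImplicit false
universe u
open Cfsg

namespace Cfsg.Agent.S5188

open Cfsg.FusionSystem Cfsg.Agent.Lib.Helper27 Cfsg.Agent.Lib.Helper27.P4

/-- Let F be a saturated fusion system over a finite p-group S and H an essential subgroup of order p⁴. Then H is isomorphic to one of: C_p⁴ or C_{p²} × C_p × C_p (any p); C_{p²} × C_{p²} with p ∈ {2, 3}; p^{1+2}_+ × C_p with p odd (the direct product of an extraspecial group of order p³ and exponent p with a group of order p); Q₈ × C₂ (p = 2); or the non-abelian group of order p⁴ of exponent p² whose centre is cyclic of order p² (the central product of an extraspecial group of order p³ with a cyclic group of order p²; for p = 2 this is D₈ ∘ C₄). -/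
theorem result {Ω : Type u} [Group Ω] {S : Subgroup Ω} [Finite S] (p : ℕ) [Fact p.Prime] (hS : IsPGroup p S)
    (F : Cfsg.FusionSystem S) (hF : F.IsSaturated p) (H : Subgroup Ω) (hH : F.IsEssential p H) (hcard : Nat.card H = p ^ 4) :
    Cfsg.IsElementaryAbelian p H ∨
      Nonempty (↥H ≃* Multiplicative (ZMod (p ^ 2) × ZMod p × ZMod p)) ∨
      ((p = 2 ∨ p = 3) ∧ Nonempty (↥H ≃* Multiplicative (ZMod (p ^ 2) × ZMod (p ^ 2)))) ∨
      (Odd p ∧ ∃ (E : Type) (_ : Group E) (_ : Finite E), Cfsg.IsExtraspecial p E ∧ Nat.card E = p ^ 3 ∧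
        (∀ x : E, x ^ p = 1) ∧ Nonempty (↥H ≃* E × Multiplicative (ZMod p))) ∨
      (p = 2 ∧ Nonempty (↥H ≃* QuaternionGroup 2 × Multiplicative (ZMod 2))) ∨
      (¬ IsMulCommutative ↥H ∧ (∀ x ∈ H, x ^ (p ^ 2) = 1) ∧ IsCyclic ↥(Subgroup.center ↥H) ∧
        Nat.card (Subgroup.center ↥H) = p ^ 2) := by
  have hp : p.Prime := Fact.out
  have hcen : F.IsCentric H := hH.1
  have hHS : H ≤ S := hcen.1
  haveI hfinH : Finite H :=
    Finite.of_injective (Subgroup.inclusion hHS) (Subgroup.inclusion_injective hHS)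
  rcases classify (P := ↥H) hcard with h | ⟨hcomm, hrk⟩ | ⟨hcomm, hexp⟩ | h | ⟨hp2, h⟩ | ⟨hp2, h⟩ |
    ⟨hnc, hexp, hcyc, hZ⟩
  · -- a characteristic chain
    exfalso
    obtain ⟨c, hc0, hc4, hchar, hstep⟩ := h
    exact essential_no_chain hS hF hH c 4 hc0 hc4 hchar hstep
  · -- abelian of rank at most two
    rcases Cfsg.Agent.S5187.result p hS F hF H hH ⟨⟨hcomm⟩⟩ hrk with ⟨-, h2⟩ | ⟨hp3, k, ⟨e⟩⟩
    · exfalso
      rw [hcard] at h2
      have := Nat.pow_right_injective hp.two_le h2
      omega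
    · right; right; left
      have hk : k = 2 := by
        have h1 := Nat.card_congr e.toEquiv
        have h2 : Nat.card (Multiplicative (ZMod (p ^ k) × ZMod (p ^ k))) =
            Nat.card (ZMod (p ^ k) × ZMod (p ^ k)) := rfl
        rw [hcard, h2, Nat.card_prod, Nat.card_zmod, ← pow_add] at h1
        have := Nat.pow_right_injective hp.two_le h1
        omega
      subst hk
      refine ⟨?_, ⟨e⟩⟩
      have h2 := hp.two_le
      rcases (by omega : p = 2 ∨ p = 3) with h | h
      · exact Or.inl h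
      · exact Or.inr h
  · -- elementary abelian
    left
    refine ⟨⟨⟨hcomm⟩⟩, fun a ha => ?_⟩
    have := hexp ⟨a, ha⟩
    exact congrArg Subtype.val this
  · right; left
    exact h
  · -- Heisenberg times cyclic
    right; right; right; left
    refine ⟨hp.odd_of_ne_two hp2, ?_⟩
    obtain ⟨C⟩ : Nonempty (Cfsg.Agent.Lib.Helper16.HeisCoord (ZMod p)
        ↥(Cfsg.Agent.Lib.Helper16.affS (ZMod p))) := ⟨Cfsg.Agent.Lib.Helper16.heisCoord (ZMod p)⟩
    obtain ⟨hes, hcE, -⟩ := C.isExtraspecial p hp2 (Nat.card_zmod p)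
    have hfinE : Finite ↥(Cfsg.Agent.Lib.Helper16.affS (ZMod p)) :=
      Nat.finite_of_card_ne_zero (by rw [hcE]; exact pow_ne_zero _ hp.ne_zero)
    exact ⟨↥(Cfsg.Agent.Lib.Helper16.affS (ZMod p)), inferInstance, hfinE, hes, hcE,
      C.h_pow_char p hp2, h⟩
  · right; right; right; right; left
    exact ⟨hp2, h⟩
  · right; right; right; right; right
    refine ⟨fun hc => hnc (fun x y => hc.is_comm.comm x y), fun x hx => ?_, hcyc, hZ⟩
    have := hexp ⟨x, hx⟩
    exact congrArg Subtype.val this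

end Cfsg.Agent.S5188
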