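import Cfsg.Statements.S5193
import Cfsg.Agent.Lib.Helper18.FusCenterFree
import Cfsg.Agent.Lib.Helper18.GlaubermanTwoD
import Cfsg.Agent.Lib.Helper27.LG2CenterQuad

set_option autoImplicit false
open Cfsg

namespace Cfsg.Agent.S5193

universe u

open Cfsg.FusionSystem Cfsg.Agent.Lib.Helper27 Cfsg.Agent.Lib.Helper27.LG2 Cfsg.Agent.Lib.Helper18
  Cfsg.Agent.Lib.Helper18.FusFree Cfsg.Agent.Lib.Helper18.GlaubermanTwo
  Cfsg.Agent.Lib.Helper18.ThompsonRepl in
theorem main {Ω : Type u} [Group Ω] {S : Subgroup Ω} [Finite S] (p : ℕ) [Fact p.Prime]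
    (hS : IsPGroup p S) (F : Cfsg.FusionSystem S) (hF : F.IsSaturated p)
    (N : Cfsg.FusionSystem (Cfsg.FusionSystem.normalizerIn S (Cfsg.thompsonSubgroupAOf S)))
    (hN : F.IsNormalizerSystem (Cfsg.thompsonSubgroupAOf S) N) :
    Subgroup.closure ((fun z : Ω => z ^ p) '' ((S ⊓ Subgroup.centralizer (S : Set Ω) : Subgroup Ω) : Set Ω)) ⊓
        N.center ≤ F.center ∧
      (p ≠ 2 ∨ F.IsSectionFree p (Equiv.Perm (Fin 4)) → N.center = F.center) := by
  have hW : Cfsg.IsCharPFunctor.{u} p (fun (Q : Type u) [Group Q] => Cfsg.thompsonSubgroupA Q) :=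
    isCharPFunctor_thompsonA p
  have hWZ : ∀ (Q : Type u) [Group Q] [Finite Q], IsPGroup p Q →
      Subgroup.center Q ≤ Cfsg.thompsonSubgroupA Q := fun Q _ _ _ => center_le_thompsonSubgroupA Q
  have hWnS : normalizerIn S (Cfsg.thompsonSubgroupAOf S) ≤ S := inf_le_left
  haveI : Finite ↥(normalizerIn S (Cfsg.thompsonSubgroupAOf S)) :=
    Finite.of_injective (Subgroup.inclusion hWnS) (Subgroup.inclusion_injective hWnS)
  have hWn : normalizerIn S (Cfsg.thompsonSubgroupAOf S) = S := normalizerIn_wsub hW S hS
  constructor
  · have hGCp : GroupCenter p p (fun (Q : Type u) [Group Q] => Cfsg.thompsonSubgroupA Q) :=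
      groupCenter_of_quadratic hW hWZ (fun G _ _ P hn => exists_quadratic P hn)
    exact center_le hW hWZ hGCp hS hF N hN
  · intro h
    apply le_antisymm
    · have hle : powCenter 1 S ⊓ N.center ≤ F.center := by
        rcases h with hp | hfree
        · have hGC1 : GroupCenter p 1 (fun (Q : Type u) [Group Q] => Cfsg.thompsonSubgroupA Q) := by
            intro G _ _ P hcen x hx hxc
            rw [powCenter_one] at hx
            exact groupCenter_J (Or.inl hp) P hcen x hx hxc
          exact center_le hW hWZ hGC1 hS hF N hN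
        · have hGC1 : GroupCenterFree (Equiv.Perm (Fin 4)) p 1
              (fun (Q : Type u) [Group Q] => Cfsg.thompsonSubgroupA Q) := by
            intro G _ _ P hGfree hcen x hx hxc
            rw [powCenter_one] at hx
            exact groupCenter_J (Or.inr hGfree) P hcen x hx hxc
          exact center_le_free hW hWZ hGC1 hS hF hfree N hN
      refine le_trans ?_ hle
      refine le_inf ?_ le_rfl
      rw [powCenter_one]
      intro z hz
      have h4 := isCentral_le_centerS (isCentral_center N) hz
      refine ⟨hWnS h4.1, Subgroup.mem_centralizer_iff.mpr fun s hs => ?_⟩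
      have hs' : s ∈ normalizerIn S (Cfsg.thompsonSubgroupAOf S) := by rw [hWn]; exact hs
      exact (Subgroup.mem_centralizer_iff.mp h4.2) s hs'
    · exact center_le_center_nsys hW hWZ hS N hN

/-- Glauberman's Theorem for fusion systems. Let F be a saturated fusion system over a finite p-group S, let J(S) be the subgroup generated by the abelian subgroups of S of largest order, and let N be the normalizer fusion system of J(S) in F (a fusion system over N_S(J(S)) = S). Then every p-th power of an element of Z(S) that lies in the centre of N lies in the centre of F; and if p is odd, or if the symmetric group of degree 4 is not involved in any model of the normalizer system of a fully normalized F-centric subgroup (F is S₄-free), then the centre of N equals the centre of F. -/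
theorem result {Ω : Type*} [Group Ω] {S : Subgroup Ω} [Finite S] (p : ℕ) [Fact p.Prime] (hS : IsPGroup p S) (F : Cfsg.FusionSystem S) (hF : F.IsSaturated p) (N : Cfsg.FusionSystem (Cfsg.FusionSystem.normalizerIn S (Cfsg.thompsonSubgroupAOf S))) (hN : F.IsNormalizerSystem (Cfsg.thompsonSubgroupAOf S) N) : Subgroup.closure ((fun z : Ω => z ^ p) '' ((S ⊓ Subgroup.centralizer (S : Set Ω) : Subgroup Ω) : Set Ω)) ⊓ N.center ≤ F.center ∧ (p ≠ 2 ∨ F.IsSectionFree p (Equiv.Perm (Fin 4)) → N.center = F.center) := by
  exact main p hS F hF N hN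

end Cfsg.Agent.S5193
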