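import Cfsg.Statements.S5195
import Cfsg.Agent.Lib.Helper18.FusChar

set_option autoImplicit false
open Cfsg Cfsg.FusionSystem Cfsg.Agent.Lib.Helper27 Cfsg.Agent.H26 Cfsg.Agent.Lib.Helper27.LG Cfsg.Agent.Lib.Helper18.FusFree

namespace Cfsg.Agent.S5195

universe u

theorem aux {p : ℕ} [Fact p.Prime] : ∀ (n : ℕ) (Ω : Type u) [Group Ω] (S : Subgroup Ω) [Finite S],
    Nat.card S = n → IsPGroup p S → ∀ F : FusionSystem S, F.IsSaturated p →
      (p ≠ 2 ∨ LocFree (Equiv.Perm (Fin 4)) p F) → NonInner p F →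
      ∃ Q : Subgroup Ω, Q ≤ S ∧ Q ≠ ⊥ ∧ (Q.subgroupOf S).Characteristic ∧ ¬ IsPGroup p (F.autGroup Q) := by
  intro n
  induction n using Nat.strong_induction_on with
  | _ n IH =>
  intro Ω _ S _ hn hS F hF hInv hNI
  obtain ⟨V, hV1, hVS, hVchar, hVb⟩ := thompson_exists_char_bad hS hF hInv hNI
  by_cases hpg : IsPGroup p (F.autGroup V)
  swap
  · exact ⟨V, hVS, hV1, hVchar, hpg⟩
  have : Finite ↥V := Finite.of_injective (Subgroup.inclusion hVS) (Subgroup.inclusion_injective hVS)
  have hT : normalizerIn S V = S := normalizerIn_eq_of_char hVS hVchar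
  have hVfn : F.IsFullyNormalized V := isFullyNormalized_of_normal F hVS hT
  have hTS : normalizerIn S V ≤ S := inf_le_left
  have : Finite ↥(normalizerIn S V) :=
    Finite.of_injective (Subgroup.inclusion hTS) (Subgroup.inclusion_injective hTS)
  have hTp : IsPGroup p ↥(normalizerIn S V) :=
    hS.of_injective (Subgroup.inclusion hTS) (Subgroup.inclusion_injective hTS)
  obtain ⟨E, hE⟩ : ∃ E : FusionSystem (normalizerIn S V), F.IsNormalizerSystem V E :=
    ⟨nsys F V hVS, nsys_spec F V hVS⟩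
  have hEsat : E.IsSaturated p := normalizerSystem_saturated hS hF hVfn E hE
  have hEF : ∀ P : Subgroup Ω, E.Hom P ⊆ F.Hom P := normalizerSystem_hom_subset hE
  have hEb : Bad p E V := hVb.to_nsys hVS hE
  have hEn : E.IsNormal V := normalizerSystem_isNormal hVS hE
  have hEinv : p ≠ 2 ∨ LocFree (Equiv.Perm (Fin 4)) p E :=
    hInv.imp id (fun h => locFree_normalizerSystem hS hF h hVfn hE)
  obtain ⟨P, α, hVP, hPN, hαE, hαV, h1, h2⟩ := hEb
  have hfix : ∀ x : P, (x : Ω) ∈ V → α x = x :=
    fix_of_isPGroup_autGroup hVS hpg hVP (hEF P hαE) hαV h2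
  -- the factor system
  have hUsc : E.StronglyClosed V := normal_stronglyClosed hEn
  haveI : (V.subgroupOf (normalizerIn S V)).Normal :=
    Subgroup.normal_subgroupOf_of_le_normalizer inf_le_right
  obtain ⟨E', hfac⟩ := Cfsg.Agent.S5132.result p hTp E V hUsc
  have hsm := Cfsg.Agent.S5134.result p hTp E hEsat V hUsc _ E' hfac
  have hE'sat : E'.IsSaturated p := Cfsg.Agent.S5133.result p hTp E hEsat E' _ hsm
  have hNI' : NonInner p E' := nonInner_factor hTp hEsat hUsc hfac hVP hαE hfix h1 h2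
  have : Finite ↥(⊤ : Subgroup (↥(normalizerIn S V) ⧸ V.subgroupOf (normalizerIn S V))) :=
    inferInstance
  have hp' : IsPGroup p ↥(⊤ : Subgroup (↥(normalizerIn S V) ⧸ V.subgroupOf (normalizerIn S V))) :=
    (hTp.to_quotient _).to_subgroup _
  have hcard' : Nat.card ↥(⊤ : Subgroup (↥(normalizerIn S V) ⧸ V.subgroupOf (normalizerIn S V))) < n := by
    rw [Subgroup.card_top, ← hn]
    have h3 := Subgroup.card_eq_card_quotient_mul_card_subgroup (V.subgroupOf (normalizerIn S V))
    have h4 : Nat.card (V.subgroupOf (normalizerIn S V)) = Nat.card V :=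
      Nat.card_congr (Subgroup.subgroupOfEquivOfLe (le_normalizerIn hVS)).toEquiv
    have h5 : 1 < Nat.card V := by
      rw [Subgroup.one_lt_card_iff_ne_bot]
      exact hV1
    have h6 : Nat.card ↥(normalizerIn S V) = Nat.card S := by rw [hT]
    rw [h4, h6] at h3
    have h7 : 0 < Nat.card (↥(normalizerIn S V) ⧸ V.subgroupOf (normalizerIn S V)) := Nat.card_pos
    nlinarith
  have hE'inv : p ≠ 2 ∨ LocFree (Equiv.Perm (Fin 4)) p E' :=
    hEinv.imp id (fun h => locFree_factor hTp hEsat h hEn hfac)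
  obtain ⟨Q', hQ'le, hQ'1, hQ'char, hQ'np⟩ := IH _ hcard' _ ⊤ rfl hp' E' hE'sat hE'inv hNI'
  -- the preimage
  have hVcharT : (V.subgroupOf (normalizerIn S V)).Characteristic := char_subgroupOf_congr hT hVchar
  have hQchar := char_preimage hVcharT (char_of_char_top hQ'char)
  obtain ⟨hUT, hker, hrange, -⟩ := hfac
  have hQT : preimageAlong (QuotientGroup.mk' (V.subgroupOf (normalizerIn S V))) Q' ≤ normalizerIn S V :=
    preimageAlong_le _ _
  refine ⟨preimageAlong (QuotientGroup.mk' (V.subgroupOf (normalizerIn S V))) Q', hQT.trans hTS, ?_, ?_, ?_⟩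
  · exact ne_bot_of_gt (lt_preimage hUT hker hrange hQ'le hQ'1)
  · exact char_subgroupOf_congr hT.symm hQchar
  · intro hpF
    apply hQ'np
    have hpE : IsPGroup p (E.autGroup (preimageAlong (QuotientGroup.mk' (V.subgroupOf (normalizerIn S V))) Q')) :=
      hpF.to_le (Cfsg.Agent.Lib.Helper27.autGroup_le_of_subsystem hEF _)
    obtain ⟨ρ, hρs, -⟩ := exists_rho hsm hQ'le
    exact hpE.of_surjective ρ hρs

/-- A strengthened Frobenius normal p-complement criterion for fusion systems. Let F be a saturated fusion system over a finite p-group S such that p is odd or F is S₄-free (the symmetric group of degree 4 is not involved in any model of the normalizer system of a fully normalized F-centric subgroup). If Aut_F(Q) is a p-group for every nontrivial characteristic subgroup Q of S, then F is the inner fusion system of S. -/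
theorem result {Ω : Type*} [Group Ω] {S : Subgroup Ω} [Finite S] (p : ℕ) [Fact p.Prime] (hS : IsPGroup p S) (F : Cfsg.FusionSystem S) (hF : F.IsSaturated p) (hp : p ≠ 2 ∨ F.IsSectionFree p (Equiv.Perm (Fin 4))) (h : ∀ Q : Subgroup Ω, Q ≤ S → Q ≠ ⊥ → (Q.subgroupOf S).Characteristic → IsPGroup p (F.autGroup Q)) : ∀ P : Subgroup Ω, F.Hom P = (Cfsg.innerFusionSystem S).Hom P := by
  by_contra hne
  have hNI := nonInner_of_ne_inner hS hF hne
  have hInv : p ≠ 2 ∨ LocFree (Equiv.Perm (Fin 4)) p F :=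
    hp.imp id (fun h => locFree_of_isSectionFree hS hF h)
  obtain ⟨Q, hQS, hQ1, hQchar, hQnp⟩ := aux _ Ω S rfl hS F hF hInv hNI
  exact hQnp (h Q hQS hQ1 hQchar)

end Cfsg.Agent.S5195
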