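import Cfsg.Statements.S5196
import Cfsg.Agent.Lib.Helper27.LG2CenterModel

set_option autoImplicit false
universe u
open Cfsg

namespace Cfsg.Agent.S5196

/-- Let p be an odd prime and W a positive characteristic p-functor: W assigns to every finite p-group Q (in a fixed universe) a subgroup W(Q), nontrivial when Q is, carried to W(R) by every isomorphism Q ≅ R; assume also Z(Q) ≤ W(Q) for every finite p-group Q. Suppose W satisfies the local condition: for every finite group G with Sylow p-subgroup P, O_p(G) ∩ Z(G) = O_p(G) ∩ Z(N_G(W(P))). Then W controls weak closure of elements in every saturated fusion system F over a finite p-group S: the centre of the normalizer fusion system of W(S) in F equals the centre of F. (For p = 2 no functor satisfies the local condition, so p is taken odd.) -/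
theorem result {p : ℕ} [Fact p.Prime] (hp : p ≠ 2) (W : ∀ (Q : Type u) [Group Q], Subgroup Q) (hW1 : ∀ (Q : Type u) [Group Q] [Finite Q], IsPGroup p Q → Nontrivial Q → W Q ≠ ⊥) (hW2 : ∀ (Q R : Type u) [Group Q] [Group R] [Finite Q], IsPGroup p Q → ∀ φ : Q ≃* R, (W Q).map φ.toMonoidHom = W R) (hWZ : ∀ (Q : Type u) [Group Q] [Finite Q], IsPGroup p Q → Subgroup.center Q ≤ W Q) (hC : ∀ (G : Type u) [Group G] [Finite G] (P : Sylow p G), Cfsg.pCore p G ⊓ Subgroup.center G = Cfsg.pCore p G ⊓ (Subgroup.center ↥(Subgroup.normalizer (((W ↥(P : Subgroup G)).map (P : Subgroup G).subtype : Subgroup G) : Set G))).map (Subgroup.normalizer (((W ↥(P : Subgroup G)).map (P : Subgroup G).subtype : Subgroup G) : Set G)).subtype) {Ω : Type u} [Group Ω] {S : Subgroup Ω} [Finite S] (hS : IsPGroup p S) (F : Cfsg.FusionSystem S) (hF : F.IsSaturated p) (N : Cfsg.FusionSystem (Cfsg.FusionSystem.normalizerIn S ((W ↥S).map S.subtype))) (hN : F.IsNormalizerSystem ((W ↥S).map S.subtype) N) : N.center = F.center := by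
  open Cfsg.FusionSystem Cfsg.Agent.Lib.Helper27 Cfsg.Agent.Lib.Helper27.LG2 in
  have hW : Cfsg.IsCharPFunctor.{u} p W := ⟨hW1, hW2⟩
  have hGC : GroupCenter p 1 W := by
    intro G _ _ P hcen x hx hxc
    rw [powCenter_one] at hx
    have hle : Cfsg.pCore p G ≤ (P : Subgroup G) := Cfsg.Agent.Lib.Helper16.pCore_le_sylow P
    have hxQ : x ∈ Cfsg.pCore p G := hcen (Subgroup.centralizer_le hle hx.2)
    have hPN : (P : Subgroup G) ≤
        Subgroup.normalizer ((wsub W (P : Subgroup G) : Subgroup G) : Set G) :=
      le_normalizer_wsub hW _ P.2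
    have hxN : x ∈ Subgroup.normalizer ((wsub W (P : Subgroup G) : Subgroup G) : Set G) := hPN hx.1
    have h1 : x ∈ Cfsg.pCore p G ⊓
        (Subgroup.center ↥(Subgroup.normalizer ((wsub W (P : Subgroup G) : Subgroup G) : Set G))).map
          (Subgroup.normalizer ((wsub W (P : Subgroup G) : Subgroup G) : Set G)).subtype := by
      refine ⟨hxQ, ⟨x, hxN⟩, ?_, rfl⟩
      rw [SetLike.mem_coe, Subgroup.mem_center_iff]
      intro n
      exact Subtype.ext ((Subgroup.mem_centralizer_iff.mp hxc) n n.2)
    have h2 := hC G P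
    have h3 : x ∈ Cfsg.pCore p G ⊓ Subgroup.center G := by
      rw [h2]
      exact h1
    exact h3.2
  have hWnS : normalizerIn S (wsub W S) ≤ S := inf_le_left
  haveI : Finite ↥(normalizerIn S (wsub W S)) :=
    Finite.of_injective (Subgroup.inclusion hWnS) (Subgroup.inclusion_injective hWnS)
  haveI : Finite ↥(normalizerIn S ((W ↥S).map S.subtype)) :=
    Finite.of_injective (Subgroup.inclusion hWnS) (Subgroup.inclusion_injective hWnS)
  have hWn : normalizerIn S (wsub W S) = S := normalizerIn_wsub hW S hS
  apply le_antisymm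
  · have h := center_le hW hWZ hGC hS hF N hN
    refine le_trans ?_ h
    refine le_inf ?_ le_rfl
    rw [powCenter_one]
    intro z hz
    have h4 := isCentral_le_centerS (isCentral_center N) hz
    refine ⟨hWnS h4.1, Subgroup.mem_centralizer_iff.mpr fun s hs => ?_⟩
    have hs' : s ∈ normalizerIn S (wsub W S) := by rw [hWn]; exact hs
    exact (Subgroup.mem_centralizer_iff.mp h4.2) s hs'
  · exact center_le_center_nsys hW hWZ hS N hN

end Cfsg.Agent.S5196
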