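import Cfsg.Statements.S5198
import Cfsg.Agent.Lib.Helper27.FusionLift
import Cfsg.Agent.Lib.Helper17.PResidual

set_option autoImplicit false
open Cfsg

namespace Cfsg.Agent.S5198

open Cfsg.FusionSystem Cfsg.Agent.Lib.Helper27

variable {Ω : Type*} [Group Ω] {S : Subgroup Ω}

/-- The elements of `S` acting on `T` as an element of `O^p(Aut_F(T)) Inn(T)`. -/
def hypKer (F : Cfsg.FusionSystem S) (p : ℕ) (T : Subgroup Ω) : Subgroup Ω where
  carrier := {x | x ∈ S ∧ ∃ α ∈ ((Cfsg.pResidual p ↥(F.autGroup T)).map (F.autGroup T).subtype ⊔ Cfsg.Inn ↥T :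
    Subgroup (MulAut ↥T)), ∀ t : ↥T, ((α t : ↥T) : Ω) = x * (t : Ω) * x⁻¹}
  one_mem' := ⟨S.one_mem, 1, Subgroup.one_mem _, fun t => by simp⟩
  mul_mem' := by
    rintro x y ⟨hx, α, hα, hαx⟩ ⟨hy, β, hβ, hβy⟩
    refine ⟨S.mul_mem hx hy, α * β, Subgroup.mul_mem _ hα hβ, fun t => ?_⟩
    rw [MulAut.mul_apply, hαx, hβy]
    group
  inv_mem' := by
    rintro x ⟨hx, α, hα, hαx⟩
    refine ⟨S.inv_mem hx, α⁻¹, Subgroup.inv_mem _ hα, fun t => ?_⟩
    have h1 := hαx (α⁻¹ t)
    rw [MulAut.apply_inv_self] at h1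
    rw [h1]
    group

theorem mem_K_of_coprime {F : Cfsg.FusionSystem S} {p : ℕ} {T : Subgroup Ω} {β : MulAut ↥T}
    (hβ : β ∈ F.autGroup T) (hcop : (orderOf β).Coprime p) :
    β ∈ ((Cfsg.pResidual p ↥(F.autGroup T)).map (F.autGroup T).subtype ⊔ Cfsg.Inn ↥T :
      Subgroup (MulAut ↥T)) := by
  apply (le_sup_left : _ ≤ ((Cfsg.pResidual p ↥(F.autGroup T)).map (F.autGroup T).subtype ⊔ Cfsg.Inn ↥T :
      Subgroup (MulAut ↥T)))
  refine ⟨⟨β, hβ⟩, ?_, rfl⟩
  apply Cfsg.Agent.Lib.Helper17.mem_pResidual_of_coprime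
  rw [Subgroup.orderOf_mk]
  exact hcop

theorem le_hypKer (F : Cfsg.FusionSystem S) (p : ℕ) {T : Subgroup Ω} (hTS : T ≤ S) : T ≤ hypKer F p T := by
  intro s hs
  refine ⟨hTS hs, MulAut.conj (⟨s, hs⟩ : T), ?_, fun t => ?_⟩
  · apply (le_sup_right : _ ≤ ((Cfsg.pResidual p ↥(F.autGroup T)).map (F.autGroup T).subtype ⊔ Cfsg.Inn ↥T :
      Subgroup (MulAut ↥T)))
    exact ⟨_, rfl⟩
  · simp [MulAut.conj_apply]

/-- Let F be a saturated fusion system over a finite p-group S and T a subgroup of S strongly closed in F (so T is normal in S). Then every element x of the hyperfocal subgroup of F acts on T by conjugation as an element of O^p(Aut_F(T))·Inn(T): there is an automorphism of T in the subgroup generated by the elements of Aut_F(T) of order prime to p together with the inner automorphisms of T that agrees with conjugation by x. -/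
theorem result {Ω : Type*} [Group Ω] {S : Subgroup Ω} [Finite S] (p : ℕ) [Fact p.Prime] (hS : IsPGroup p S) (F : Cfsg.FusionSystem S) (hF : F.IsSaturated p) (T : Subgroup Ω) (hT : F.StronglyClosed T) : ∀ x ∈ F.hyperfocalSubgroup p, ∃ α ∈ ((Cfsg.pResidual p ↥(F.autGroup T)).map (F.autGroup T).subtype ⊔ Cfsg.Inn ↥T : Subgroup (MulAut ↥T)), ∀ t : ↥T, ((α t : ↥T) : Ω) = x * (t : Ω) * x⁻¹ := by
  have hTS : T ≤ S := hT.1
  haveI : Finite T := Finite.of_injective (Subgroup.inclusion hTS) (Subgroup.inclusion_injective hTS)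
  have hSN : S ≤ normalizerIn S T := fun s hs => ⟨hs, le_normalizer_of_stronglyClosed hT hs⟩
  -- the coprime case
  have hcop : ∀ (P : Subgroup Ω), P ≤ S → ∀ α : F.autGroup P, (orderOf α).Coprime p → ∀ x : P,
      (x : Ω)⁻¹ * (((α : MulAut P) x : P) : Ω) ∈ hypKer F p T := by
    intro P hPS α hα x
    have hαiso : IsIso F ((α : MulAut P) : P ≃* P) := (mem_autGroup_iff F hPS α).mp α.2
    have hα' : (orderOf (α : MulAut P)).Coprime p := by
      rw [Subgroup.orderOf_coe]; exact hα
    obtain ⟨u, hu, hucop, huα⟩ := exists_lift_coprime hS hF hT hαiso hα'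
    have hPTS : P ⊔ T ≤ S := sup_le hPS hTS
    -- u preserves T
    have huT : ∀ z : ↥(P ⊔ T), (z : Ω) ∈ T → ((u z : ↥(P ⊔ T)) : Ω) ∈ T :=
      fun z hz => stronglyClosed_aut_mem hT hu hz
    -- restriction of u to T
    let β₀ : T →* T :=
      { toFun := fun t => ⟨((u (Subgroup.inclusion le_sup_right t) : ↥(P ⊔ T)) : Ω), huT _ t.2⟩
        map_one' := by
          apply Subtype.ext
          simp
        map_mul' := by
          intro s t
          apply Subtype.ext
          simp }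
    have hβ₀inj : Function.Injective β₀ := by
      intro s t h
      have h1 : ((u (Subgroup.inclusion le_sup_right s) : ↥(P ⊔ T)) : Ω) =
          ((u (Subgroup.inclusion le_sup_right t) : ↥(P ⊔ T)) : Ω) :=
        congrArg (fun z : T => (z : Ω)) h
      have h2 := u.injective (Subtype.ext h1)
      exact Subtype.ext (congrArg (fun z : ↥(P ⊔ T) => (z : Ω)) h2)
    let β : T ≃* T := MulEquiv.ofBijective β₀ ⟨hβ₀inj, Finite.injective_iff_surjective.mp hβ₀inj⟩
    have hβu : ∀ t : T, ((β t : T) : Ω) = ((u (Subgroup.inclusion le_sup_right t) : ↥(P ⊔ T)) : Ω) :=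
      fun t => rfl
    have hβiso : IsIso F β :=
      isIso_of_hom_of_eq (hom_restrict F (le_sup_right : T ≤ P ⊔ T) hu) (fun t => hβu t)
    have hβA : (β : MulAut T) ∈ F.autGroup T := (mem_autGroup_iff F hTS β).mpr hβiso
    -- order of β
    have hβpow : ∀ (n : ℕ) (t : T), ((((β : MulAut T) ^ n) t : T) : Ω) =
        ((((u : MulAut ↥(P ⊔ T)) ^ n) (Subgroup.inclusion le_sup_right t) : ↥(P ⊔ T)) : Ω) := by
      intro n
      induction n with
      | zero => intro t; simp
      | succ n ih =>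
        intro t
        rw [pow_succ, pow_succ, MulAut.mul_apply, MulAut.mul_apply, ih]
        congr 2
    have hβcop : (orderOf (β : MulAut T)).Coprime p := by
      refine Nat.Coprime.coprime_dvd_left (orderOf_dvd_of_pow_eq_one ?_) hucop
      ext t
      rw [hβpow, pow_orderOf_eq_one]
      simp
    -- conjugation by x on T
    have hxN : (x : Ω) ∈ normalizerIn S T := hSN (hPS x.2)
    have hcx : conjAutHom S T ⟨x, hxN⟩ ∈ F.autGroup T := by
      apply autInducedBy_le_autGroup F hTS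
      rw [← conjAutHom_range]; exact ⟨_, rfl⟩
    -- x⁻¹ u(x) ∈ hypKer
    have h1 : (x : Ω)⁻¹ * ((u (Subgroup.inclusion le_sup_left x) : ↥(P ⊔ T)) : Ω) ∈ hypKer F p T := by
      refine ⟨S.mul_mem (S.inv_mem (hPS x.2)) (hPTS (u _).2),
        ((conjAutHom S T ⟨x, hxN⟩)⁻¹ * β * conjAutHom S T ⟨x, hxN⟩) * β⁻¹, ?_, fun t => ?_⟩
      · refine Subgroup.mul_mem _ ?_ (Subgroup.inv_mem _ (mem_K_of_coprime hβA hβcop))
        apply mem_K_of_coprime
        · exact Subgroup.mul_mem _ (Subgroup.mul_mem _ (Subgroup.inv_mem _ hcx) hβA) hcx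
        · have : orderOf ((conjAutHom S T ⟨x, hxN⟩)⁻¹ * β * conjAutHom S T ⟨x, hxN⟩) = orderOf (β : MulAut T) := by
            have := (MulAut.conj (conjAutHom S T ⟨x, hxN⟩)⁻¹).orderOf_eq (β : MulAut T)
            simpa [MulAut.conj_apply] using this
          rw [this]; exact hβcop
      · -- compute
        set s : T := (β : MulAut T)⁻¹ t with hs
        have hβs : β s = t := by
          rw [hs]; exact MulAut.apply_inv_self T (β : MulAut T) t
        have h2 : ((((conjAutHom S T ⟨x, hxN⟩)⁻¹ * β * conjAutHom S T ⟨x, hxN⟩) * β⁻¹) t) =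
            (conjAutHom S T ⟨x, hxN⟩)⁻¹ (β (conjAutHom S T ⟨x, hxN⟩ s)) := by
          simp only [MulAut.mul_apply]
          rfl
        rw [h2]
        -- (c_x)⁻¹ y = x⁻¹ y x
        have hinv : ∀ y : T, (((conjAutHom S T ⟨x, hxN⟩)⁻¹ y : T) : Ω) = (x : Ω)⁻¹ * y * x := by
          intro y
          have h3 := conjAutHom_apply S T ⟨x, hxN⟩ ((conjAutHom S T ⟨x, hxN⟩)⁻¹ y)
          rw [MulAut.apply_inv_self] at h3
          simp only at h3
          rw [h3]; group
        rw [hinv, hβu]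
        have h4 : Subgroup.inclusion le_sup_right (conjAutHom S T ⟨x, hxN⟩ s) =
            Subgroup.inclusion le_sup_left x * Subgroup.inclusion le_sup_right s *
              (Subgroup.inclusion le_sup_left x)⁻¹ := by
          apply Subtype.ext
          simp [conjAutHom_apply]
        rw [h4, map_mul, map_mul, map_inv]
        have h5 : ((u (Subgroup.inclusion le_sup_right s) : ↥(P ⊔ T)) : Ω) = t := by
          rw [← hβu, hβs]
        simp only [Subgroup.coe_mul, Subgroup.coe_inv]
        rw [h5]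
        group
    have h2 : (x : Ω)⁻¹ * (((α : MulAut P) x : P) : Ω) =
        ((x : Ω)⁻¹ * ((u (Subgroup.inclusion le_sup_left x) : ↥(P ⊔ T)) : Ω)) *
          ((((α : MulAut P) x : P) : Ω)⁻¹ * ((u (Subgroup.inclusion le_sup_left x) : ↥(P ⊔ T)) : Ω))⁻¹ := by
      group
    rw [h2]
    exact Subgroup.mul_mem _ h1 (Subgroup.inv_mem _ (le_hypKer F p hTS (huα x)))
  -- the general case
  have hgen : F.hyperfocalSubgroup p ≤ hypKer F p T := by
    unfold FusionSystem.hyperfocalSubgroup
    rw [Subgroup.closure_le]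
    rintro y ⟨P, α, x, hPS, hα, rfl⟩
    revert x
    unfold Cfsg.pResidual at hα
    induction hα using Subgroup.closure_induction with
    | mem α hα => exact fun x => hcop P hPS α hα x
    | one =>
      intro x
      simp only [Subgroup.coe_one, MulAut.one_apply, inv_mul_cancel]
      exact Subgroup.one_mem _
    | mul α β _ _ ihα ihβ =>
      intro x
      have h1 := ihβ x
      have h2 := ihα ((β : MulAut P) x)
      have h3 : (x : Ω)⁻¹ * ((((α * β : F.autGroup P) : MulAut P) x : P) : Ω) =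
          ((x : Ω)⁻¹ * (((β : MulAut P) x : P) : Ω)) *
            ((((β : MulAut P) x : P) : Ω)⁻¹ * (((α : MulAut P) ((β : MulAut P) x) : P) : Ω)) := by
        simp only [Subgroup.coe_mul, MulAut.mul_apply]
        group
      rw [h3]
      exact Subgroup.mul_mem _ h1 h2
    | inv α _ ih =>
      intro x
      have h1 := ih (((α⁻¹ : F.autGroup P) : MulAut P) x)
      have h2 : ((α : MulAut P) (((α⁻¹ : F.autGroup P) : MulAut P) x)) = x := by simp
      rw [h2] at h1
      have h3 := Subgroup.inv_mem _ h1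
      have h4 : (((((α⁻¹ : F.autGroup P) : MulAut P) x : P) : Ω)⁻¹ * (x : Ω))⁻¹ =
          (x : Ω)⁻¹ * ((((α⁻¹ : F.autGroup P) : MulAut P) x : P) : Ω) := by group
      rw [h4] at h3
      exact h3
  intro x hx
  exact (hgen hx).2

end Cfsg.Agent.S5198
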