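import Cfsg.Statements.S5201
import Cfsg.Agent.Lib.Helper27.CEG

set_option autoImplicit false
open Cfsg

namespace Cfsg.Agent.S5201

open Cfsg.FusionSystem Cfsg.Agent.Lib.Helper27 Cfsg.Agent.Lib.Helper27.CE Cfsg.Agent.Lib.Helper27.RL
  Cfsg.Agent.Lib.Helper27.WN

/-- A reduction to normal subsystems. Let F be a saturated fusion system over a finite p-group S and E a normal subsystem of F over T whose centralizer in S lies in T (every subgroup Y of C_S(T) with E contained in the centralizer fusion system of Y in F satisfies Y ≤ T), and suppose Aut_F(T)/Aut_E(T) is p-solvable. Then F and E have the same residual limit: if F∞ is the residual limit of F (reached by alternately passing to the p-residual and the p'-residual subsystem until nothing changes) and E∞ that of E, then F∞ and E∞ have the same maps. -/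
theorem result {Ω : Type*} [Group Ω] {S : Subgroup Ω} [Finite S] (p : ℕ) [Fact p.Prime] (hS : IsPGroup p S) (F : Cfsg.FusionSystem S) (hF : F.IsSaturated p) {T : Subgroup Ω} (E : Cfsg.FusionSystem T) (hE : E.IsNormalIn F p) (hCE : ∀ Y : Subgroup Ω, Y ≤ Cfsg.FusionSystem.centralizerIn S T → (∀ C : Cfsg.FusionSystem (Cfsg.FusionSystem.centralizerIn S Y), F.IsCentralizerSystem Y C → E.IsSubsystemOf C) → Y ≤ T) [hn : ((E.autGroup T).subgroupOf (F.autGroup T)).Normal] (hsolv : Cfsg.IsPSolvable p (↥(F.autGroup T) ⧸ (E.autGroup T).subgroupOf (F.autGroup T))) {U V : Subgroup Ω} (Finf : Cfsg.FusionSystem U) (hFinf : Finf.IsResidualLimitOf F p) (Einf : Cfsg.FusionSystem V) (hEinf : Einf.IsResidualLimitOf E p) : ∀ P : Subgroup Ω, Finf.Hom P = Einf.Hom P := by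
  have hTsc : F.StronglyClosed T := hE.1.2.2.2.1
  have hTS : T ≤ S := hTsc.1
  have hcse : cse p F E ≤ T := hCE _ (cse_le p F E) (fun C hC P => by
    rw [hC P]; exact hom_subset_centralizerHom_cse hS hF hE P)
  obtain ⟨D, G, hG⟩ := Env.exists_good hS hF hE hsolv
  have hD : D = T ⊔ centralizerIn S T := hG.base.trans (Env.SK_autE_eq hS hE)
  subst hD
  have hDS : T ⊔ centralizerIn S T ≤ S := sup_le_S hTS
  haveI : Finite ↥(T ⊔ centralizerIn S T) := finite_of_le hDS
  have hDp : IsPGroup p ↥(T ⊔ centralizerIn S T) := hS.to_le hDS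
  have hTG : G.StronglyClosed T := hG.nE.1.2.2.2.1
  have hEG : E.IsSubsystemOf G := hG.nE.1.2.2.1
  have hidx : E.HasPPowerIndexIn G p := by
    refine ⟨hEG, ?_, ?_⟩
    · unfold hyperfocalSubgroup
      rw [Subgroup.closure_le]
      rintro y ⟨P, α, x, hP, -, rfl⟩
      exact focal_le_of_cse_le hS hF hE hcse hG.sat hG.sub hTG hG.aut.le
        ((mem_autGroup_iff G hP _).mp α.2) x
    · intro P hPT
      rintro _ ⟨γ, -, rfl⟩
      show (γ : MulAut P) ∈ E.autGroup P
      have hγ := (mem_autGroup_iff G (hPT.trans hTG.1) _).mp γ.2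
      obtain ⟨α, hα, φ₀, hφ₀, e⟩ := hG.nE.1.2.2.2.2.2 P hPT _ hγ
      rw [hG.aut] at hα
      have hαE := (mem_autGroup_iff E le_rfl α).mp hα
      have hval : ∀ x : P, φ₀ x ∈ T := (E.le_of_mem hφ₀).2
      have h1 := E.comp_mem hφ₀ hαE hval
      rw [mem_autGroup_iff E hPT]
      have heq : P.subtype.comp ((γ : MulAut P) : P ≃* P).toMonoidHom =
          (T.subtype.comp (α : T ≃* T).toMonoidHom).comp (φ₀.codRestrict T hval) := by
        ext x
        exact e x (hval x)
      unfold IsIso
      rw [heq]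
      exact h1
  have h1 : RLEq p G E := rlEq_of_pPowerIndex hDp G E hTG hG.sat hE.1.1 hidx
  have h2 : RLEq p F E := hG.lim.symm.trans (exists_limit hDp hG.sat) h1
  exact h2 U Finf hFinf V Einf hEinf

end Cfsg.Agent.S5201
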