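import Cfsg.Statements.S5204
import Cfsg.Agent.Lib.Helper27.LGFinal

set_option autoImplicit false
open Cfsg

namespace Cfsg.Agent.S5204

/-- The Glauberman–Thompson normal p-complement criterion for fusion systems, p odd. Let F be a saturated fusion system over a finite p-group S with p odd, and let Z(J(S)) be the centre of the subgroup generated by the abelian subgroups of S of largest order. Then F is the inner fusion system of S if and only if the normalizer fusion system of Z(J(S)) in F is the inner fusion system of N_S(Z(J(S))) = S. -/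
theorem result {Ω : Type*} [Group Ω] {S : Subgroup Ω} [Finite S] (p : ℕ) [Fact p.Prime] (hS : IsPGroup p S) (F : Cfsg.FusionSystem S) (hF : F.IsSaturated p) (hp : p ≠ 2) : (∀ P : Subgroup Ω, F.Hom P = (Cfsg.innerFusionSystem S).Hom P) ↔ ∀ N : Cfsg.FusionSystem (Cfsg.FusionSystem.normalizerIn S (Cfsg.centerThompsonAOf S)), F.IsNormalizerSystem (Cfsg.centerThompsonAOf S) N → ∀ P : Subgroup Ω, N.Hom P = (Cfsg.innerFusionSystem (Cfsg.FusionSystem.normalizerIn S (Cfsg.centerThompsonAOf S))).Hom P := by
  open Cfsg.Agent.Lib.Helper27 Cfsg.Agent.Lib.Helper27.LG in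
  constructor
  · intro hF N hN P
    have hWS := centerThompsonAOf_le S
    haveI : Finite ↥(Cfsg.centerThompsonAOf S) :=
      Finite.of_injective (Subgroup.inclusion hWS) (Subgroup.inclusion_injective hWS)
    exact normalizerSystem_inner hF N hN P
  · intro hN
    by_contra hne
    have hNI := nonInner_of_ne_inner hS hF hne
    rcases alt (good_ZJ hp) hS hF hNI with ⟨V, hV, hb⟩ | ⟨V, hV, -⟩ | ⟨V, hV, -⟩
    · rw [Set.mem_singleton_iff.mp hV] at hb
      have hWS := centerThompsonAOf_le S
      exact hb.not_inner_nsys hS hWS _ (nsys_spec F _ hWS) (hN _ (nsys_spec F _ hWS))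
    · exact absurd hV (Set.notMem_empty _)
    · exact absurd hV (Set.notMem_empty _)

end Cfsg.Agent.S5204
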