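import Cfsg.Statements.S5206
import Mathlib
import Cfsg.Agent.H5.QdClimb
import Cfsg.Agent.Lib.Helper27.ModelMain
import Cfsg.Agent.Lib.Helper27.LGNormalizer
import Cfsg.Agent.H26.GroupFusionSat
import Cfsg.Agent.H26.NormalizerConstrained

set_option autoImplicit false
universe u
open Cfsg

namespace Cfsg.Agent.S5206

/-- Let p be an odd prime, G a finite group and P a Sylow p-subgroup of G. Then the fusion system of G on P is Qd(p)-free (Qd(p), the natural semidirect product of an elementary abelian group of order p² by SL₂(p), is not involved in any model of the normalizer system of a fully normalized centric subgroup) if and only if Qd(p) is not involved in G. -/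
theorem result {G : Type u} [Group G] [Finite G] {p : ℕ} [Fact p.Prime] (hp : p ≠ 2) (P : Sylow p G) : (Cfsg.groupFusionSystem (P : Subgroup G)).IsSectionFree p ↥(Cfsg.qd p) ↔ ¬ Cfsg.Involves ↥(Cfsg.qd p) G := by
  have hS : IsPGroup p ↥(P : Subgroup G) := P.isPGroup'
  have hreal := Cfsg.Agent.H26.groupFusionSystem_isRealizedBy (P : Subgroup G)
  have hsat := Cfsg.Agent.H26.groupFusion_saturated P
  constructor
  · intro hfree hinv
    obtain ⟨U, f, hUP, hG⟩ := Cfsg.H5.QdR.exists_isGDat_of_involves P hinv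
    have hUr : U ≤ (P : Subgroup G).subtype.range := by
      rw [Subgroup.range_subtype]
      exact hUP
    have hD := Cfsg.H5.QdF.IsDat.ofGDat hreal hUr hG
    obtain ⟨Q, U', f', hfn, hcen, hIn⟩ := Cfsg.H5.QdF.exists_centric_datIn hS hsat hD
    have hQS : Q ≤ (P : Subgroup G) := hfn.1
    have : Finite ↥Q := Finite.of_injective (Subgroup.inclusion hQS) (Subgroup.inclusion_injective hQS)
    have hN := Cfsg.Agent.Lib.Helper27.LG.nsys_spec (Cfsg.groupFusionSystem (P : Subgroup G)) Q hQS
    have hDN := hIn.toNsys hN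
    have hTS : Cfsg.FusionSystem.normalizerIn (P : Subgroup G) Q ≤ (P : Subgroup G) := inf_le_left
    have : Finite ↥(Cfsg.FusionSystem.normalizerIn (P : Subgroup G) Q) :=
      Finite.of_injective (Subgroup.inclusion hTS) (Subgroup.inclusion_injective hTS)
    have hTp : IsPGroup p ↥(Cfsg.FusionSystem.normalizerIn (P : Subgroup G) Q) :=
      hS.of_injective (Subgroup.inclusion hTS) (Subgroup.inclusion_injective hTS)
    have hcons := Cfsg.Agent.H26.normalizerSystem_constrained hS hsat hfn hcen hN
    obtain ⟨L, hL, ι, hM⟩ := Cfsg.Agent.Lib.Helper27.Mod.exists_model hTp hcons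
    have : Finite L := hM.1
    obtain ⟨f'', hG'⟩ := hDN.toGDat hTp hM.2.1
    exact hfree Q hfn hcen _ hN L ι hM (Cfsg.H5.QdR.involves_of_isGDat hp hG')
  · intro hno Q hfn hcen N hN L _ ι hM hinvL
    obtain ⟨hfin, hreal', ⟨T, hT⟩, hcc⟩ := hM
    have : Finite L := hfin
    obtain ⟨U, f, hUT, hG⟩ := Cfsg.H5.QdR.exists_isGDat_of_involves T hinvL
    have hUr : U ≤ ι.range := by
      rw [← hT]
      exact hUT
    have hD := Cfsg.H5.QdF.IsDat.ofGDat hreal' hUr hG
    have hD' := hD.mono (inf_le_left : Cfsg.FusionSystem.normalizerIn (P : Subgroup G) Q ≤ (P : Subgroup G))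
      (Cfsg.Agent.Lib.Helper27.normalizerSystem_hom_subset hN)
    obtain ⟨f'', hG'⟩ := hD'.toGDat hS hreal
    exact hno (Cfsg.H5.QdR.involves_of_isGDat hp hG')

end Cfsg.Agent.S5206
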