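import Cfsg.Statements.S5212
import Mathlib
import Cfsg.Agent.H5.MetaTwo3
import Cfsg.Agent.S1896
import Cfsg.Agent.Lib.Helper27.FusionFrobenius
import Cfsg.Agent.Lib.Helper27.FusionNormal

set_option autoImplicit false
open Cfsg

namespace Cfsg.Agent.S5212

/-- Let S be a finite metacyclic 2-group that is not homocyclic abelian (a direct product of cyclic groups of one common order), not dihedral, not semidihedral and not generalized quaternion. Then every saturated fusion system over S is the inner fusion system of S. -/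
theorem result {Ω : Type*} [Group Ω] {S : Subgroup Ω} [Finite S] (hS : IsPGroup 2 S) (F : Cfsg.FusionSystem S) (hF : F.IsSaturated 2) (hm : Cfsg.IsMetacyclic ↥S) (hh : ¬ ∃ n k : ℕ, Nonempty (↥S ≃* Multiplicative (Fin k → ZMod (2 ^ n)))) (hd : ¬ ∃ m : ℕ, Nonempty (↥S ≃* DihedralGroup m)) (hq : ¬ ∃ m : ℕ, Nonempty (↥S ≃* QuaternionGroup m)) (hsd : ¬ Cfsg.IsQuasiDihedral ↥S) : ∀ P : Subgroup Ω, F.Hom P = (Cfsg.innerFusionSystem S).Hom P := by
  classical
  have : Fact (Nat.Prime 2) := ⟨Nat.prime_two⟩
  have hSC : F.StronglyClosed S :=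
    ⟨le_rfl, fun R hR φ hφ x => (F.le_of_mem hφ).2 x⟩
  have hN : F.IsNormal S := by
    apply Cfsg.H5.MetaTwo.isNormal_of_metacyclic_two hS hF hSC hm
    rintro (h | h | h)
    · exact hd h
    · exact hq h
    · exact hsd h
  have hA : IsPGroup 2 (MulAut ↥S) := by
    by_contra hA
    rcases Cfsg.Agent.S1896.result hS hm hA with h | ⟨n, ⟨e⟩⟩
    · exact hq ⟨2, h⟩
    · apply hh
      refine ⟨n, 2, ⟨e.trans ?_⟩⟩
      exact
        { toFun := fun x => Multiplicative.ofAdd (fun i : Fin 2 =>
            if i = 0 then Multiplicative.toAdd x.1 else Multiplicative.toAdd x.2)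
          invFun := fun f => (Multiplicative.ofAdd (Multiplicative.toAdd f 0),
            Multiplicative.ofAdd (Multiplicative.toAdd f 1))
          left_inv := by
            intro x
            rfl
          right_inv := by
            intro f
            apply Multiplicative.toAdd.injective
            funext i
            fin_cases i <;> rfl
          map_mul' := by
            intro x y
            apply Multiplicative.toAdd.injective
            funext i
            fin_cases i <;> rfl }
  have hAS : IsPGroup 2 (F.autGroup S) := hA.to_subgroup _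
  have key : ∀ R : Subgroup Ω, R ≤ S → IsPGroup 2 (F.autGroup R) := by
    intro R hRS a
    have : Finite R := Finite.of_injective (Subgroup.inclusion hRS) (Subgroup.inclusion_injective hRS)
    have hα : Cfsg.Agent.Lib.Helper27.IsIso F (a.1 : R ≃* R) :=
      (Cfsg.Agent.Lib.Helper27.mem_autGroup_iff F hRS a.1).mp a.2
    obtain ⟨ψ, hψ, h1, β, hβ, h2⟩ := Cfsg.Agent.Lib.Helper27.normal_exists_extension hN hα
    have hβA : (β : MulAut ↥S) ∈ F.autGroup S :=
      (Cfsg.Agent.Lib.Helper27.mem_autGroup_iff F le_rfl β).mpr hβ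
    obtain ⟨k, hk⟩ := hAS ⟨β, hβA⟩
    have hk' : (β : MulAut ↥S) ^ 2 ^ k = 1 := congrArg Subtype.val hk
    have hres : ∀ x : R, ((β ⟨x.1, hRS x.2⟩ : S) : Ω) = ((a.1 x : R) : Ω) := by
      intro x
      rw [h2]
      exact h1 x
    have hpow : ∀ n : ℕ, ∀ x : R, (((β : MulAut ↥S) ^ n) ⟨x.1, hRS x.2⟩ : Ω) = (((a.1 : MulAut R) ^ n) x : Ω) := by
      intro n
      induction n with
      | zero => intro x; simp
      | succ n ih =>
        intro x
        rw [pow_succ', pow_succ', MulAut.mul_apply, MulAut.mul_apply]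
        have e1 : ((β : MulAut ↥S) ^ n) ⟨x.1, hRS x.2⟩ = ⟨(((a.1 : MulAut R) ^ n) x : Ω), hRS (((a.1 : MulAut R) ^ n) x).2⟩ :=
          Subtype.ext (ih x)
        rw [e1]
        exact hres (((a.1 : MulAut R) ^ n) x)
    refine ⟨k, ?_⟩
    apply Subtype.ext
    rw [Subgroup.coe_pow, Subgroup.coe_one]
    ext x
    rw [← hpow (2 ^ k) x, hk']
    rfl
  exact fun P => Cfsg.Agent.Lib.Helper27.hom_eq_inner_of_autGroup_isPGroup hS hF key P

end Cfsg.Agent.S5212
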