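import Cfsg.Statements.S5219
import Cfsg.Agent.Lib.Helper27.ClassBoundC
import Cfsg.Agent.Lib.Helper27.ClassBoundD
import Cfsg.Agent.Lib.Helper27.FusionNormal

set_option autoImplicit false
open Cfsg

namespace Cfsg.Agent.S5219

/-- Let p be a prime, n a natural number, S a nontrivial finite p-group of nilpotence class at most n(p−1)+1, and F a saturated fusion system over S with no nontrivial normal subgroup (O_p(F) = 1). Then S has exponent dividing p^(n²(p−1)+n). -/
theorem result {Ω : Type*} [Group Ω] {S : Subgroup Ω} [Finite S] (p : ℕ) [Fact p.Prime] (hS : IsPGroup p S) (F : Cfsg.FusionSystem S) (hF : F.IsSaturated p) (n : ℕ) (hS1 : S ≠ ⊥) (hcl : Subgroup.lowerCentralSeries S (n * (p - 1) + 1) = ⊥) (hcore : F.core = ⊥) : Monoid.exponent ↥S ∣ p ^ (n ^ 2 * (p - 1) + n) := by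
  have hN := Cfsg.Agent.Lib.Helper27.CBd.isNormal_powerClosure_center hS hF n hcl
  have hY : Cfsg.powerClosure p n (S ⊓ Subgroup.centralizer (S : Set Ω)) = ⊥ := by
    have := Cfsg.Agent.Lib.Helper27.le_core hN
    rw [hcore] at this
    exact le_bot_iff.mp this
  have hz : ∀ z ∈ Subgroup.center ↥S, z ^ (p ^ n) = 1 := by
    intro z hz
    have hzZ : (z : Ω) ∈ S ⊓ Subgroup.centralizer (S : Set Ω) := by
      refine Subgroup.mem_inf.mpr ⟨z.2, ?_⟩
      rw [Subgroup.mem_centralizer_iff]
      intro r hr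
      have := (Subgroup.mem_center_iff.mp hz) ⟨r, hr⟩
      exact congrArg Subtype.val this
    have h1 : (z : Ω) ^ (p ^ n) ∈ Cfsg.powerClosure p n (S ⊓ Subgroup.centralizer (S : Set Ω)) :=
      Subgroup.subset_closure ⟨_, hzZ, rfl⟩
    rw [hY, Subgroup.mem_bot] at h1
    apply Subtype.ext
    rw [Subgroup.coe_pow, h1]; rfl
  have htop : Subgroup.upperCentralSeries ↥S (n * (p - 1) + 1) = ⊤ := by
    rw [← Subgroup.lowerCentralSeries_eq_bot_iff_upperCentralSeries_eq_top]
    have h1 := Subgroup.top_subtype_lowerCentralSeries S (n * (p - 1) + 1)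
    rw [hcl] at h1
    exact (Subgroup.map_eq_bot_iff_of_injective _ S.subtype_injective).mp h1
  apply Monoid.exponent_dvd_of_forall_pow_eq_one
  intro x
  have h2 := Cfsg.Agent.Lib.Helper27.CBd.upperCentralSeries_pow (n * (p - 1) + 1) ↥S (p ^ n) hz x
    (htop ▸ Subgroup.mem_top x)
  rw [← pow_mul] at h2
  have e : n * (n * (p - 1) + 1) = n ^ 2 * (p - 1) + n := by ring
  rw [e] at h2
  exact h2

end Cfsg.Agent.S5219
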