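import Cfsg.Statements.S5221
import Cfsg.Agent.Lib.Helper18.FusChar

set_option autoImplicit false
open Cfsg Cfsg.FusionSystem Cfsg.Agent.Lib.Helper27 Cfsg.Agent.H26 Cfsg.Agent.Lib.Helper27.LG Cfsg.Agent.Lib.Helper18.FusFree

namespace Cfsg.Agent.S5221

/-- Let F be a sparse fusion system over a finite p-group S: a saturated fusion system, not the inner fusion system of S, whose only saturated fusion systems over S contained in it are F itself and the inner one. If p is odd, or F is S₄-free (the symmetric group of degree 4 is not involved in any model of the normalizer system of a fully normalized F-centric subgroup), then F is constrained. -/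
theorem result {Ω : Type*} [Group Ω] {S : Subgroup Ω} [Finite S] (p : ℕ) [Fact p.Prime] (hS : IsPGroup p S) (F : Cfsg.FusionSystem S) (hF : F.IsSaturated p) (hsp : ¬ (∀ P : Subgroup Ω, F.Hom P = (Cfsg.innerFusionSystem S).Hom P) ∧ ∀ E : Cfsg.FusionSystem S, E.IsSaturated p → E.IsSubsystemOf F → (∀ P : Subgroup Ω, E.Hom P = F.Hom P) ∨ (∀ P : Subgroup Ω, E.Hom P = (Cfsg.innerFusionSystem S).Hom P)) (hp : p ≠ 2 ∨ F.IsSectionFree p (Equiv.Perm (Fin 4))) : F.IsConstrained p := by
  obtain ⟨hne, hsparse⟩ := hsp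
  have hInv : p ≠ 2 ∨ LocFree (Equiv.Perm (Fin 4)) p F :=
    hp.imp id (fun h => locFree_of_isSectionFree hS hF h)
  -- a maximal characteristic subgroup of `S` normal in `F`
  have hfin : {V : Subgroup Ω | V ≤ S ∧ (V.subgroupOf S).Characteristic ∧ F.IsNormal V}.Finite :=
    (finite_setOf_le S).subset (fun V hV => hV.1)
  have hne' : {V : Subgroup Ω | V ≤ S ∧ (V.subgroupOf S).Characteristic ∧ F.IsNormal V}.Nonempty := by
    refine ⟨⊥, bot_le, ?_, Fus.isNormal_bot F⟩
    rw [Subgroup.bot_subgroupOf]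
    infer_instance
  obtain ⟨V, ⟨hVS, hVchar, hVn⟩, hmax⟩ :=
    Set.exists_max_image _ (fun V : Subgroup Ω => Nat.card V) hfin hne'
  have hH : ∀ (P : Subgroup Ω) (α : MulAut P), V ≤ P → IsIso F (α : P ≃* P) →
      (∀ x : P, (x : Ω) ∈ V → α x = x) → PPrime p α → α = 1 := by
    intro P α hVP hα hfix h2
    by_contra h1
    have hVsc : F.StronglyClosed V := normal_stronglyClosed hVn
    have : (V.subgroupOf S).Normal := inferInstance
    obtain ⟨E', hfac⟩ := Cfsg.Agent.S5132.result p hS F V hVsc
    have hsm := Cfsg.Agent.S5134.result p hS F hF V hVsc _ E' hfac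
    have hE'sat : E'.IsSaturated p := Cfsg.Agent.S5133.result p hS F hF E' _ hsm
    have hNI' : NonInner p E' := nonInner_factor hS hF hVsc hfac hVP hα hfix h1 h2
    have : Finite ↥(⊤ : Subgroup (↥S ⧸ V.subgroupOf S)) := inferInstance
    have hp' : IsPGroup p ↥(⊤ : Subgroup (↥S ⧸ V.subgroupOf S)) := (hS.to_quotient _).to_subgroup _
    have hE'inv : p ≠ 2 ∨ LocFree (Equiv.Perm (Fin 4)) p E' :=
      hInv.imp id (fun h => locFree_factor hS hF h hVn hfac)
    obtain ⟨V', hV'1, hV'le, hV'char, hV'b⟩ := thompson_exists_char_bad hp' hE'sat hE'inv hNI'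
    have hWb : Bad p F (preimageAlong (QuotientGroup.mk' (V.subgroupOf S)) V') :=
      bad_preimage hS hF hVsc hfac hV'b
    have hWchar := char_preimage hVchar (char_of_char_top hV'char)
    obtain ⟨hUT, hker, hrange, -⟩ := hfac
    have hVW := lt_preimage hUT hker hrange hV'le hV'1
    obtain ⟨W, hWdef⟩ : ∃ W : Subgroup Ω, W = preimageAlong (QuotientGroup.mk' (V.subgroupOf S)) V' :=
      ⟨_, rfl⟩
    rw [← hWdef] at hWb hWchar hVW
    have hWS : W ≤ S := by
      rw [hWdef]
      exact preimageAlong_le _ _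
    have : Finite ↥W := Finite.of_injective (Subgroup.inclusion hWS) (Subgroup.inclusion_injective hWS)
    have hWn : normalizerIn S W = S := normalizerIn_eq_of_char hWS hWchar
    have hWfn : F.IsFullyNormalized W := isFullyNormalized_of_normal F hWS hWn
    have hE : F.IsNormalizerSystem W (nsys F W hWS) := nsys_spec F W hWS
    have hEsat := normalizerSystem_saturated hS hF hWfn _ hE
    have hEF := normalizerSystem_hom_subset hE
    have hEn : (nsys F W hWS).IsNormal W := normalizerSystem_isNormal hWS hE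
    have hENI : NonInner p (nsys F W hWS) := (hWb.to_nsys hWS hE).nonInner
    obtain ⟨E₂, hE₂, hE₂sat⟩ := exists_transport hWn (nsys F W hWS)
    have hE₂F : E₂.IsSubsystemOf F := fun P => by
      rw [hE₂ P]
      exact hEF P
    have hE₂NI : NonInner p E₂ := by
      obtain ⟨P₂, α₂, hα₂, h3, h4⟩ := hENI
      refine ⟨P₂, α₂, ?_, h3, h4⟩
      unfold IsIso at hα₂ ⊢
      rw [hE₂]
      exact hα₂
    rcases hsparse E₂ (hE₂sat p hEsat) hE₂F with hall | hinn
    · have hWnF : F.IsNormal W := by
        refine ⟨hWS, fun P φ hφ => ?_⟩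
        rw [← hall P, hE₂ P] at hφ
        obtain ⟨ψ, hψ, h5, h6⟩ := hEn.2 P φ hφ
        exact ⟨ψ, hEF _ hψ, h5, h6⟩
      have h7 : Nat.card W ≤ Nat.card V := hmax W ⟨hWS, hWchar, hWnF⟩
      have h8 : Nat.card V < Nat.card W := by
        refine lt_of_le_of_ne (Subgroup.card_le_of_le hVW.le) (fun heq => hVW.ne ?_)
        exact Subgroup.eq_of_le_of_card_ge hVW.le heq.ge
      exact absurd h7 (not_le.mpr h8)
    · exact not_nonInner_of_inner hS hinn hE₂NI
  have hCn : F.IsNormal (centralizerIn S V) := centralizerIn_isNormal_of_pprime_trivial hS hF hVn hH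
  refine ⟨hF, F.core, isNormal_core F, ?_⟩
  have hcoreS : F.core ≤ S := (isNormal_core F).1
  refine ⟨hcoreS, fun R' hR' => ?_⟩
  have hRR : R' = F.core := weaklyClosed_eq_of_isConj (normal_weaklyClosed (isNormal_core F)) hR'
  rw [hRR]
  intro x hx
  have h1 : x ∈ centralizerIn S V := centralizerIn_anti (le_core hVn) hx
  exact le_core hCn h1

end Cfsg.Agent.S5221
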