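import Cfsg.Statements.S5223
import Cfsg.Agent.Lib.Helper27.FusionFrobenius

set_option autoImplicit false
open Cfsg

namespace Cfsg.Agent.S5223

open Cfsg.FusionSystem Cfsg.Agent.Lib.Helper27

/-- Let F be a saturated fusion system over a finite p-group S. Suppose there are subgroups Q₀ = S, Q₁, …, Qₙ = 1 (not required to be nested) such that for each i < n the focal subgroup of Qᵢ (generated by the elements x⁻¹φ(x), x ∈ Qᵢ, φ a map of F defined on the cyclic group generated by x) lies in Qᵢ₊₁. Then F is the inner fusion system of S. -/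
theorem result {Ω : Type*} [Group Ω] {S : Subgroup Ω} [Finite S] (p : ℕ) [Fact p.Prime] (hS : IsPGroup p S) (F : Cfsg.FusionSystem S) (hF : F.IsSaturated p) (n : ℕ) (Q : Fin (n + 1) → Subgroup Ω) (hQ0 : Q 0 = S) (hQn : Q (Fin.last n) = ⊥) (hstep : ∀ i : Fin n, Subgroup.closure {y : Ω | ∃ x ∈ Q i.castSucc, ∃ φ ∈ F.Hom (Subgroup.zpowers x), y = x⁻¹ * φ ⟨x, Subgroup.mem_zpowers x⟩} ≤ Q i.succ) : ∀ P : Subgroup Ω, F.Hom P = (Cfsg.innerFusionSystem S).Hom P := by
  apply hom_eq_inner_of_autGroup_isPGroup hS hF
  intro R hRS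
  haveI : Finite R := Finite.of_injective (Subgroup.inclusion hRS) (Subgroup.inclusion_injective hRS)
  have hpR : IsPGroup p R := hS.of_injective (Subgroup.inclusion hRS) (Subgroup.inclusion_injective hRS)
  apply isPGroup_of_coprime_trivial
  intro β m hm hβm
  have hα : IsIso F ((β : MulAut R) : R ≃* R) := (mem_autGroup_iff F hRS β).mp β.2
  have hαm : (β : MulAut R) ^ m = 1 := by
    have := congrArg Subtype.val hβm
    simpa using this
  have key : ∀ i : Fin (n + 1), ∀ x : R, (x : Ω) ∈ Q i → (β : MulAut R) x = x := by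
    intro i
    induction i using Fin.reverseInduction with
    | last =>
      intro x hx
      rw [hQn, Subgroup.mem_bot] at hx
      have : x = 1 := Subtype.ext hx
      rw [this, map_one]
    | cast i ih =>
      intro x hx
      have hzle : Subgroup.zpowers (x : Ω) ≤ R := by
        rw [Subgroup.zpowers_le]; exact x.2
      have hφ : (R.subtype.comp ((β : MulAut R) : R ≃* R).toMonoidHom).comp (Subgroup.inclusion hzle) ∈
          F.Hom (Subgroup.zpowers (x : Ω)) := hom_restrict F hzle hα
      have hy : (x : Ω)⁻¹ * (((β : MulAut R) x : R) : Ω) ∈ Q i.succ := by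
        apply hstep i
        apply Subgroup.subset_closure
        exact ⟨x, hx, _, hφ, rfl⟩
      have hy' := ih (x⁻¹ * (β : MulAut R) x) hy
      have hpow : ∀ k : ℕ, ((β : MulAut R) ^ k) x = x * (x⁻¹ * (β : MulAut R) x) ^ k := by
        intro k
        induction k with
        | zero => simp
        | succ k ihk =>
          rw [pow_succ', MulAut.mul_apply, ihk, map_mul, map_pow, hy']
          rw [pow_succ' (x⁻¹ * (β : MulAut R) x) k, ← mul_assoc, mul_inv_cancel_left]
      have h1 := hpow m
      rw [hαm] at h1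
      have h2 : (x⁻¹ * (β : MulAut R) x) ^ m = 1 := by
        have : x = x * (x⁻¹ * (β : MulAut R) x) ^ m := h1
        exact (mul_eq_left.mp this.symm)
      have h3 : orderOf (x⁻¹ * (β : MulAut R) x) ∣ m := orderOf_dvd_of_pow_eq_one h2
      obtain ⟨k, hk⟩ := (IsPGroup.iff_orderOf.mp hpR) (x⁻¹ * (β : MulAut R) x)
      have h4 : orderOf (x⁻¹ * (β : MulAut R) x) = 1 := by
        have hc : Nat.Coprime (orderOf (x⁻¹ * (β : MulAut R) x)) (p ^ k) :=
          Nat.Coprime.pow_right k (Nat.Coprime.coprime_dvd_left h3 hm)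
        rw [← hk] at hc
        exact (Nat.coprime_self _).mp hc
      have h5 : x⁻¹ * (β : MulAut R) x = 1 := orderOf_eq_one_iff.mp h4
      exact (inv_mul_eq_one.mp h5).symm
  apply Subtype.ext
  ext x
  have := key 0 x (by rw [hQ0]; exact hRS x.2)
  simpa using congrArg Subtype.val this

end Cfsg.Agent.S5223
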