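import Cfsg.Statements.S5226
import Cfsg.Agent.Lib.Helper27.FusionNormal
import Cfsg.Agent.Lib.Helper27.FusionNormalCrit
import Cfsg.Agent.Lib.Helper27.FusionUCS

set_option autoImplicit false
open Cfsg

namespace Cfsg.Agent.S5226

open Cfsg.FusionSystem Cfsg.Agent.Lib.Helper27
open scoped commutatorElement

/-- Let F be a saturated fusion system over a finite p-group S and Q a subgroup of S. Then Q is normal in F (F equals the normalizer system of Q) if and only if Q is strongly closed in F and admits a central series 1 = Q₀ ≤ Q₁ ≤ ⋯ ≤ Qₙ = Q ([Qᵢ₊₁, Q] ≤ Qᵢ) all of whose proper terms are weakly closed in F. -/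
theorem result {Ω : Type*} [Group Ω] {S : Subgroup Ω} [Finite S] (p : ℕ) [Fact p.Prime] (hS : IsPGroup p S) (F : Cfsg.FusionSystem S) (hF : F.IsSaturated p) (Q : Subgroup Ω) : F.IsNormal Q ↔ F.StronglyClosed Q ∧ ∃ (n : ℕ) (C : Fin (n + 1) → Subgroup Ω), C 0 = ⊥ ∧ C (Fin.last n) = Q ∧ Monotone C ∧ (∀ i : Fin n, ⁅C i.succ, Q⁆ ≤ C i.castSucc) ∧ ∀ i : Fin n, F.WeaklyClosed (C i.castSucc) := by
  constructor
  · intro hQ
    have hQS : Q ≤ S := hQ.1
    haveI : Finite Q := Finite.of_injective (Subgroup.inclusion hQS) (Subgroup.inclusion_injective hQS)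
    have hpQ : IsPGroup p Q := hS.of_injective (Subgroup.inclusion hQS) (Subgroup.inclusion_injective hQS)
    refine ⟨normal_stronglyClosed hQ, ?_⟩
    obtain ⟨n, hn⟩ := exists_ucs_eq hpQ
    refine ⟨n, fun i => ucs Q i, ucs_zero Q, hn, ?_, ?_, ?_⟩
    · intro i j hij
      exact ucs_mono Q hij
    · intro i
      rw [Subgroup.commutator_le]
      intro x hx q hq
      have := ucs_comm_mem Q i (by simpa using hx) hq
      rw [commutatorElement_def]
      simpa using this
    · intro i
      apply ucs_weaklyClosed F hQS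
      intro φ hφ
      obtain ⟨ψ, -, hψφ, α, -, hαψ⟩ := normal_exists_extension hQ hφ
      refine ⟨α, fun x => ?_⟩
      rw [← hψφ x, hαψ]
      rfl
  · rintro ⟨hQ, n, C, hC0, hCn, hmono, hcomm, hwc⟩
    let c : ℕ → Subgroup Ω := fun j => if h : j < n + 1 then C ⟨j, h⟩ else Q
    have hc : ∀ (j : ℕ) (h : j < n + 1), c j = C ⟨j, h⟩ := fun j h => by
      show (if h : j < n + 1 then C ⟨j, h⟩ else Q) = _
      rw [dif_pos h]
    refine isNormal_of_central_series hS hF hQ c n ?_ ?_ ?_ ?_ ?_
    · rw [hc 0 (Nat.succ_pos n)]; exact hC0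
    · rw [hc n (Nat.lt_succ_self n)]; exact hCn
    · intro j hj
      rw [hc j (by omega), ← hCn]
      exact hmono (Fin.le_last _)
    · intro j hj
      rcases Nat.lt_or_ge j n with h | h
      · rw [hc j (by omega)]
        exact hwc ⟨j, h⟩
      · have : j = n := by omega
        subst this
        rw [hc j (Nat.lt_succ_self j), show (⟨j, Nat.lt_succ_self j⟩ : Fin (j + 1)) = Fin.last j from rfl, hCn]
        exact weaklyClosed_of_stronglyClosed hQ
    · intro j hj x hx q hq
      rw [hc (j + 1) (by omega)] at hx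
      rw [hc j (by omega)]
      have h1 := hcomm ⟨j, hj⟩
      have h2 : (⁅x, q⁆ : Ω) ∈ ⁅C (Fin.succ ⟨j, hj⟩), Q⁆ := Subgroup.commutator_mem_commutator hx hq
      have h3 := h1 h2
      rw [commutatorElement_def] at h3
      exact h3

end Cfsg.Agent.S5226
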