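import Cfsg.Statements.S5236
import Cfsg.Agent.Lib.Helper27.FusionNormalCrit
import Cfsg.Agent.Lib.Helper27.FusionSmallElts
import Cfsg.Agent.Lib.Helper27.FusionNormal

set_option autoImplicit false
open Cfsg

namespace Cfsg.Agent.S5236

open Cfsg.FusionSystem Cfsg.Agent.Lib.Helper27
open scoped commutatorElement

variable {Ω : Type*} [Group Ω]

/-- A `p'`-automorphism (`p` odd) of a finite `p`-group `R` which stabilizes a chain
`⊥ = b 0, …, b n`, acts trivially modulo `W`, where every element of order `p` of `W ∩ R` lies in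
`b n`, is trivial. -/
theorem aut_eq_one_of_chain {R : Subgroup Ω} [Finite R] {p : ℕ} [Fact p.Prime] (hp2 : p ≠ 2)
    (hR : IsPGroup p R) (a : MulAut R) {m : ℕ} (hm : m.Coprime p) (ham : a ^ m = 1)
    (b : ℕ → Subgroup Ω) (n : ℕ) (hb0 : b 0 = ⊥)
    (hchain : ∀ j < n, ∀ x : R, (x : Ω) ∈ b (j + 1) → ((x⁻¹ * a x : R) : Ω) ∈ b j)
    (W : Subgroup Ω) (hW : ∀ x : R, ((x⁻¹ * a x : R) : Ω) ∈ W)
    (hΩ : ∀ x : R, (x : Ω) ∈ W → x ^ p = 1 → (x : Ω) ∈ b n) : a = 1 := by
  have hpow : ∀ (x : R), a (x⁻¹ * a x) = x⁻¹ * a x →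
      ∀ t : ℕ, (a ^ t) x = x * (x⁻¹ * a x) ^ t := by
    intro x hy t
    induction t with
    | zero => simp
    | succ t ih =>
      calc (a ^ (t + 1)) x = a ((a ^ t) x) := by rw [pow_succ', MulAut.mul_apply]
        _ = a x * (a (x⁻¹ * a x)) ^ t := by rw [ih, map_mul, map_pow]
        _ = a x * (x⁻¹ * a x) ^ t := by rw [hy]
        _ = x * (x⁻¹ * a x) ^ (t + 1) := by rw [pow_succ', ← mul_assoc, mul_inv_cancel_left]
  have key : ∀ j ≤ n, ∀ x : R, (x : Ω) ∈ b j → a x = x := by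
    intro j
    induction j with
    | zero =>
      intro _ x hx
      rw [hb0, Subgroup.mem_bot] at hx
      have hx1 : x = 1 := Subtype.ext hx
      rw [hx1, map_one]
    | succ j ih =>
      intro hj x hx
      have hy := hchain j (by omega) x hx
      have hay := ih (by omega) _ hy
      have h1 := hpow x hay m
      rw [ham, MulAut.one_apply] at h1
      have h2 : (x⁻¹ * a x) ^ m = 1 := (mul_left_cancel ((mul_one x).trans h1)).symm
      obtain ⟨c, hc⟩ := hR (x⁻¹ * a x)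
      have h3 : x⁻¹ * a x = 1 := by
        have hd1 : orderOf (x⁻¹ * a x) ∣ m := orderOf_dvd_of_pow_eq_one h2
        have hd2 : orderOf (x⁻¹ * a x) ∣ p ^ c := orderOf_dvd_of_pow_eq_one hc
        have hcop : Nat.Coprime m (p ^ c) := Nat.Coprime.pow_right c hm
        have h4 : orderOf (x⁻¹ * a x) = 1 := Nat.eq_one_of_dvd_coprimes hcop hd1 hd2
        exact orderOf_eq_one_iff.mp h4
      exact (inv_mul_eq_one.mp h3).symm
  apply mulAut_eq_one_of_fix_small_comm hR a hm ham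
  intro w hw hsmall
  have hwW : (w : Ω) ∈ W := by
    have hle : Subgroup.closure {y : R | ∃ x : R, y = x⁻¹ * a x} ≤ W.subgroupOf R := by
      rw [Subgroup.closure_le]
      rintro _ ⟨x, rfl⟩
      exact hW x
    exact hle hw
  have hwp : w ^ p = 1 := by
    rcases hsmall with h | ⟨h, -⟩
    · exact h
    · exact absurd h hp2
  exact key n le_rfl w (hΩ w hwW hwp)

/-- The chain `P, ⊤, ⊤, …`. -/
def topChain (P : Subgroup Ω) : ℕ → Subgroup Ω
  | 0 => P
  | _ + 1 => ⊤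

variable {S : Subgroup Ω}

/-- Key step of the "if" direction. -/
theorem mem_of_chain [Finite S] {p : ℕ} [Fact p.Prime] (hp2 : p ≠ 2) (hS : IsPGroup p S)
    {F : FusionSystem S} {P : Subgroup Ω} (hP : F.StronglyClosed P) (b : ℕ → Subgroup Ω) (n : ℕ)
    (hb0 : b 0 = ⊥) (hbn : b n = omegaOne p P) (hsc : ∀ j, F.StronglyClosed (b j))
    (hcomm : ∀ j < n, ⁅b (j + 1), P⁆ ≤ b j)
    {R : Subgroup Ω} (hc : F.IsCentric R) (hr : F.IsRadical p R) {d : Ω} (hdP : d ∈ P)
    (hdN : d ∈ Subgroup.normalizer (R : Set Ω)) : d ∈ R := by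
  have hRS : R ≤ S := hc.1
  haveI : Finite R := Finite.of_injective (Subgroup.inclusion hRS) (Subgroup.inclusion_injective hRS)
  have hpR : IsPGroup p R :=
    hS.of_injective (Subgroup.inclusion hRS) (Subgroup.inclusion_injective hRS)
  have hdS : d ∈ S := hP.1 hdP
  have hg : d ∈ normalizerIn S R := ⟨hdS, hdN⟩
  have hinv : ∀ j, ∀ α : F.autGroup R, ∀ x : R, (x : Ω) ∈ b j →
      ((((α : MulAut R) x : R)) : Ω) ∈ b j := by
    intro j α x hx
    have hα := (mem_autGroup_iff F hRS α).mp α.2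
    exact stronglyClosed_map_eq (hsc j) hα ⟨x, hx, rfl⟩
  have hinv' : ∀ j, ∀ α : F.autGroup R, ∀ x : R, (x : Ω) ∈ topChain P j →
      ((((α : MulAut R) x : R)) : Ω) ∈ topChain P j := by
    intro j α x hx
    cases j with
    | zero =>
      have hα := (mem_autGroup_iff F hRS α).mp α.2
      exact stronglyClosed_map_eq hP hα ⟨x, hx, rfl⟩
    | succ j => exact Subgroup.mem_top _
  have hn1 := chainStabilizer_normal F R b n hinv
  have hn2 := chainStabilizer_normal F R (topChain P) 1 hinv'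
  have hBn : (chainStabilizer F R b n hinv ⊓ chainStabilizer F R (topChain P) 1 hinv').Normal :=
    Subgroup.normal_inf_normal _ _
  have hBp : IsPGroup p ↥(chainStabilizer F R b n hinv ⊓ chainStabilizer F R (topChain P) 1 hinv') := by
    rintro ⟨γ, hγ1, hγ2⟩
    have hord : 0 < orderOf γ := orderOf_pos γ
    obtain ⟨a, m, hm, hNeq⟩ :=
      Nat.exists_eq_pow_mul_and_not_dvd hord.ne' p (Fact.out : p.Prime).ne_one
    have hδ1 : γ ^ p ^ a ∈ chainStabilizer F R b n hinv := Subgroup.pow_mem _ hγ1 _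
    have hδ2 : γ ^ p ^ a ∈ chainStabilizer F R (topChain P) 1 hinv' := Subgroup.pow_mem _ hγ2 _
    have hδm : (γ ^ p ^ a) ^ m = 1 := by
      rw [← pow_mul, ← hNeq]; exact pow_orderOf_eq_one γ
    have hcop : m.Coprime p := ((Nat.Prime.coprime_iff_not_dvd Fact.out).mpr hm).symm
    have ham : ((γ ^ p ^ a : F.autGroup R) : MulAut R) ^ m = 1 := by
      have h := congrArg Subtype.val hδm
      simpa using h
    have hone : ((γ ^ p ^ a : F.autGroup R) : MulAut R) = 1 := by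
      refine aut_eq_one_of_chain hp2 hpR _ hcop ham b n hb0 ?_ P ?_ ?_
      · intro j hj x hx
        exact hδ1 j hj x hx
      · intro x
        exact hδ2 0 Nat.zero_lt_one x (Subgroup.mem_top _)
      · intro x hxP hxp
        rw [hbn]
        refine Subgroup.subset_closure ⟨hxP, ?_⟩
        have h := congrArg Subtype.val hxp
        simpa using h
    refine ⟨a, Subtype.ext ?_⟩
    show γ ^ p ^ a = 1
    exact Subtype.ext hone
  have hX := Cfsg.Agent.Lib.Helper1.le_pCore hBn hBp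
  have h1 : conjAutHom S R ⟨d, hg⟩ ∈ autInducedBy S R := by
    rw [← conjAutHom_range]; exact ⟨_, rfl⟩
  have h1A : conjAutHom S R ⟨d, hg⟩ ∈ F.autGroup R := autInducedBy_le_autGroup F hRS h1
  have h2 : (⟨conjAutHom S R ⟨d, hg⟩, h1A⟩ : F.autGroup R) ∈
      chainStabilizer F R b n hinv ⊓ chainStabilizer F R (topChain P) 1 hinv' := by
    refine Subgroup.mem_inf.mpr ⟨?_, ?_⟩
    · intro j hj x hx
      have hmem : ⁅(x : Ω)⁻¹, d⁆ ∈ ⁅b (j + 1), P⁆ :=
        Subgroup.commutator_mem_commutator ((b (j + 1)).inv_mem hx) hdP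
      have h3 := hcomm j hj hmem
      rw [commutatorElement_def, inv_inv] at h3
      show (x : Ω)⁻¹ * (d * (x : Ω) * d⁻¹) ∈ b j
      have e : (x : Ω)⁻¹ * (d * (x : Ω) * d⁻¹) = (x : Ω)⁻¹ * d * x * d⁻¹ := by group
      rw [e]; exact h3
    · intro j hj x _
      have hj0 : j = 0 := by omega
      subst hj0
      show (x : Ω)⁻¹ * (d * (x : Ω) * d⁻¹) ∈ P
      have h3 : (x : Ω)⁻¹ * d * ((x : Ω)⁻¹)⁻¹ ∈ P :=
        stronglyClosed_conj_mem hP (S.inv_mem (hRS x.2)) hdP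
      have e : (x : Ω)⁻¹ * (d * (x : Ω) * d⁻¹) = ((x : Ω)⁻¹ * d * ((x : Ω)⁻¹)⁻¹) * d⁻¹ := by group
      rw [e]
      exact P.mul_mem h3 (P.inv_mem hdP)
  apply mem_of_conjAutHom_mem_inn hc hg
  rw [← hr.2]
  exact ⟨_, hX h2, rfl⟩

theorem omegaOne_le (p : ℕ) (P : Subgroup Ω) : omegaOne p P ≤ P := by
  show Subgroup.closure {x : Ω | x ∈ P ∧ x ^ p = 1} ≤ P
  rw [Subgroup.closure_le]
  exact fun x hx => hx.1

/-- automorphisms of `P` preserve `Ω₁(P)` -/
theorem omegaOne_aut_mem (p : ℕ) {P : Subgroup Ω} (α : P ≃* P) (y : P)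
    (hy : (y : Ω) ∈ omegaOne p P) : ((α y : P) : Ω) ∈ omegaOne p P := by
  have hle : omegaOne p P ≤
      (((omegaOne p P).subgroupOf P).comap α.toMonoidHom).map P.subtype := by
    show Subgroup.closure {x : Ω | x ∈ P ∧ x ^ p = 1} ≤ _
    rw [Subgroup.closure_le]
    rintro x ⟨hx, hxp⟩
    refine ⟨⟨x, hx⟩, ?_, rfl⟩
    show ((α ⟨x, hx⟩ : P) : Ω) ∈ omegaOne p P
    refine Subgroup.subset_closure ⟨(α ⟨x, hx⟩).2, ?_⟩
    have h1 : (⟨x, hx⟩ : P) ^ p = 1 := Subtype.ext (by simpa using hxp)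
    have h2 : (α ⟨x, hx⟩) ^ p = 1 := by rw [← map_pow, h1, map_one]
    have h3 := congrArg Subtype.val h2
    simpa using h3
  obtain ⟨y', hy', hyy'⟩ := hle hy
  have hyeq : y' = y := Subtype.ext hyy'
  subst hyeq
  exact hy'

/-- The "only if" direction. -/
theorem chain_of_normal [Finite S] {p : ℕ} [Fact p.Prime] (hS : IsPGroup p S)
    {F : FusionSystem S} {P : Subgroup Ω} (hPn : F.IsNormal P) :
    ∃ (n : ℕ) (Q : Fin (n + 1) → Subgroup Ω), Q 0 = ⊥ ∧ Q (Fin.last n) = omegaOne p P ∧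
      Monotone Q ∧ (∀ i : Fin (n + 1), F.StronglyClosed (Q i)) ∧
      ∀ i : Fin n, ⁅Q i.succ, P⁆ ≤ Q i.castSucc := by
  have hPS : P ≤ S := hPn.1
  haveI : Finite P := Finite.of_injective (Subgroup.inclusion hPS) (Subgroup.inclusion_injective hPS)
  have hpP : IsPGroup p P :=
    hS.of_injective (Subgroup.inclusion hPS) (Subgroup.inclusion_injective hPS)
  haveI : Group.IsNilpotent P := hpP.isNilpotent
  obtain ⟨n, hn⟩ := Group.IsNilpotent.nilpotent (G := P)
  refine ⟨n, fun i => omegaOne p P ⊓ (Subgroup.upperCentralSeries P i).map P.subtype,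
    ?_, ?_, ?_, ?_, ?_⟩
  · show omegaOne p P ⊓ (Subgroup.upperCentralSeries P ((0 : Fin (n + 1)) : ℕ)).map P.subtype = ⊥
    rw [Fin.val_zero, Subgroup.upperCentralSeries_zero, Subgroup.map_bot, inf_bot_eq]
  · show omegaOne p P ⊓ (Subgroup.upperCentralSeries P ((Fin.last n : Fin (n + 1)) : ℕ)).map P.subtype
      = omegaOne p P
    rw [Fin.val_last, hn, ← MonoidHom.range_eq_map, Subgroup.range_subtype]
    exact inf_eq_left.mpr (omegaOne_le p P)
  · intro i j hij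
    exact inf_le_inf_left _ (Subgroup.map_mono (Subgroup.upperCentralSeries_mono P hij))
  · intro i
    refine ⟨le_trans inf_le_left (le_trans (omegaOne_le p P) hPS), fun R' hR' φ hφ x => ?_⟩
    obtain ⟨ψ, hψ, h1, α, hα, h2⟩ := normal_exists_extension hPn hφ
    have hxP : (x : Ω) ∈ P := omegaOne_le p P (hR' x.2).1
    have hφx : φ x = ((α ⟨x, hxP⟩ : P) : Ω) := by
      rw [h2, ← h1]; rfl
    rw [hφx]
    obtain ⟨hx1, hx2⟩ := hR' x.2
    refine Subgroup.mem_inf.mpr ⟨omegaOne_aut_mem p α ⟨x, hxP⟩ hx1, ?_⟩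
    obtain ⟨z, hz, hzx⟩ := hx2
    have hzeq : z = ⟨x, hxP⟩ := Subtype.ext hzx
    refine ⟨α ⟨x, hxP⟩, ?_, rfl⟩
    rw [← hzeq]
    have hfix := (inferInstance : (Subgroup.upperCentralSeries P (i : ℕ)).Characteristic).fixed α
    have hz' : z ∈ (Subgroup.upperCentralSeries P i).comap α.toMonoidHom := by
      rw [hfix]; exact hz
    exact hz'
  · intro i
    rw [Subgroup.commutator_le]
    rintro g₁ ⟨hg1, z, hz, rfl⟩ g₂ hg₂
    refine Subgroup.mem_inf.mpr ⟨?_, ?_⟩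
    · have hzi : ((z⁻¹ : P) : Ω) ∈ omegaOne p P := by
        have := (omegaOne p P).inv_mem hg1
        simpa using this
      have h := omegaOne_aut_mem p (MulAut.conj (⟨g₂, hg₂⟩ : P)) z⁻¹ hzi
      have h' : g₂ * (z : Ω)⁻¹ * g₂⁻¹ ∈ omegaOne p P := h
      have e : ⁅((P.subtype z) : Ω), g₂⁆ = (z : Ω) * (g₂ * (z : Ω)⁻¹ * g₂⁻¹) := by
        rw [commutatorElement_def]; simp [mul_assoc]
      rw [e]
      exact (omegaOne p P).mul_mem hg1 h'
    · refine ⟨⁅z, (⟨g₂, hg₂⟩ : P)⁆, ?_, rfl⟩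
      have hz' : z ∈ Subgroup.upperCentralSeries P ((i : ℕ) + 1) := by
        have := hz
        rwa [Fin.val_succ] at this
      have h3 := (Subgroup.mem_upperCentralSeries_succ_iff).mp hz' ⟨g₂, hg₂⟩
      rw [Fin.coe_castSucc, commutatorElement_def]
      exact h3

/-- Let F be a saturated fusion system over a finite p-group S with p odd, and P a strongly closed subgroup. Then P is normal in F iff Ω₁(P) has a chain of strongly closed subgroups from 1 with [Q_{i+1}, P] ≤ Q_i. -/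
theorem result {Ω : Type*} [Group Ω] {S : Subgroup Ω} [Finite S] (p : ℕ) [Fact p.Prime] (hS : IsPGroup p S) (F : Cfsg.FusionSystem S) (hF : F.IsSaturated p) (hp : p ≠ 2) (P : Subgroup Ω) (hP : F.StronglyClosed P) : F.IsNormal P ↔ ∃ (n : ℕ) (Q : Fin (n + 1) → Subgroup Ω), Q 0 = ⊥ ∧ Q (Fin.last n) = Cfsg.omegaOne p P ∧ Monotone Q ∧ (∀ i : Fin (n + 1), F.StronglyClosed (Q i)) ∧ ∀ i : Fin n, ⁅Q i.succ, P⁆ ≤ Q i.castSucc := by
  constructor
  · intro hPn
    exact chain_of_normal hS hPn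
  · rintro ⟨n, Q, hQ0, hQn, -, hsc, hcomm⟩
    apply isNormal_of_le_frc hS hF hP
    intro R hRlt _ hc hr
    have hRS := hRlt.le
    apply le_of_inf_normalizer_le hS hRS hP.1 (fun s hs d hd => stronglyClosed_conj_mem hP hs hd)
    intro d hd hdN
    have hb : ∀ j (hj : j ≤ n),
        Q ⟨min j n, Nat.lt_succ_of_le (Nat.min_le_right j n)⟩ = Q ⟨j, Nat.lt_succ_of_le hj⟩ :=
      fun j hj => congrArg Q (Fin.ext (Nat.min_eq_left hj))
    have e0 : (⟨0, Nat.lt_succ_of_le (Nat.zero_le n)⟩ : Fin (n + 1)) = 0 := Fin.ext (by simp)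
    refine mem_of_chain hp hS hP
      (fun j => Q ⟨min j n, Nat.lt_succ_of_le (Nat.min_le_right j n)⟩) n ?_ ?_ (fun j => hsc _) ?_
      hc hr hd hdN
    · show Q ⟨min 0 n, _⟩ = ⊥
      rw [hb 0 (Nat.zero_le n), e0]; exact hQ0
    · show Q ⟨min n n, _⟩ = omegaOne p P
      rw [hb n le_rfl]; exact hQn
    · intro j hj
      show ⁅Q ⟨min (j + 1) n, _⟩, P⁆ ≤ Q ⟨min j n, _⟩
      rw [hb (j + 1) hj, hb j hj.le]
      exact hcomm ⟨j, hj⟩

end Cfsg.Agent.S5236
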