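import Cfsg.Statements.S5244
import Cfsg.Agent.Lib.Helper27.AbelianIndexP3

set_option autoImplicit false
open Cfsg

namespace Cfsg.Agent.S5244

/-- Let p be an odd prime, S a finite nonabelian p-group with a unique abelian subgroup A of index p, and F a saturated fusion system over S with no nontrivial normal subgroup (O_p(F) = 1) in which A is not F-essential. Then some subgroup Z(S)⟨x⟩ with x ∈ S outside A is F-essential, the centre Z(S) is contained in the commutator subgroup of S, and S has maximal nilpotency class (if S has order pⁿ with n ≥ 3, the term of index n − 2 of its lower central series, counting S itself as the term of index 0, is nontrivial). -/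
theorem result {Ω : Type*} [Group Ω] {S : Subgroup Ω} [Finite S] (p : ℕ) [Fact p.Prime] (hS : IsPGroup p S) (F : Cfsg.FusionSystem S) (hF : F.IsSaturated p) (hp : p ≠ 2) (hna : ¬ IsMulCommutative ↥S) (A : Subgroup Ω) (hA : A ≤ S ∧ IsMulCommutative ↥A ∧ (A.subgroupOf S).index = p) (huniq : ∀ B : Subgroup Ω, B ≤ S → IsMulCommutative ↥B → (B.subgroupOf S).index = p → B = A) (hcore : F.core = ⊥) (hAe : ¬ F.IsEssential p A) : (∃ x ∈ S, x ∉ A ∧ F.IsEssential p ((S ⊓ Subgroup.centralizer (S : Set Ω)) ⊔ Subgroup.zpowers x)) ∧ (S ⊓ Subgroup.centralizer (S : Set Ω)) ≤ (commutator ↥S).map S.subtype ∧ ∀ n : ℕ, Nat.card S = p ^ n → 3 ≤ n → Subgroup.lowerCentralSeries S (n - 2) ≠ ⊥ := by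
  open Cfsg.Agent.Lib.Helper27 Cfsg.FusionSystem in
  open scoped commutatorElement in
  have hAb := abIdx_of hS hna hA.1 hA.2.1 hA.2.2
  obtain ⟨Q, x, hQ, hx, hxA, hab, hZS', hZcard, hZ₂A, hidx⟩ :=
    core_free_structure hS hF hp hAb hA.2.2 huniq hcore hAe
  have hQS : Q ≤ S := hQ.1.1
  have hxS : x ∈ S := hQS hx
  refine ⟨⟨x, hxS, hxA, ?_⟩, hZS', ?_⟩
  · have hZQ := essential_center_le hQ
    have hQAZ : Q ⊓ A = S ⊓ Subgroup.centralizer (S : Set Ω) :=
      le_antisymm hab (le_inf hZQ hAb.center_le)
    have h1 := hAb.eq_inf_sup_zpowers hQS hx hxA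
    rw [hQAZ] at h1
    rw [← h1]
    exact hQ
  · intro n hn hn3
    have hp0 : 0 < p := (Fact.out : p.Prime).pos
    have hidxZ : ((S ⊓ Subgroup.centralizer (S : Set Ω)).subgroupOf S).index = p ^ (n - 1) := by
      have h1 := Subgroup.card_mul_index ((S ⊓ Subgroup.centralizer (S : Set Ω)).subgroupOf S)
      have h2 : Nat.card ↥((S ⊓ Subgroup.centralizer (S : Set Ω)).subgroupOf S) = p := by
        rw [Nat.card_congr (Subgroup.subgroupOfEquivOfLe
          (inf_le_left : S ⊓ Subgroup.centralizer (S : Set Ω) ≤ S)).toEquiv]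
        exact hZcard
      rw [h2, hn] at h1
      have h3 : p ^ n = p * p ^ (n - 1) := by
        rw [← pow_succ']; congr 1; omega
      rw [h3] at h1
      exact Nat.eq_of_mul_eq_mul_left hp0 h1
    rcases Nat.lt_or_ge n 4 with h4 | h4
    · have hn' : n = 3 := by omega
      subst hn'
      intro hbot
      obtain ⟨s, hs, t, ht, hst⟩ := hAb.ncomm
      have h1 : ⁅s, t⁆ ∈ Subgroup.lowerCentralSeries S (3 - 2) := by
        show ⁅s, t⁆ ∈ Subgroup.lowerCentralSeries S (0 + 1)
        rw [Subgroup.lowerCentralSeries_succ]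
        exact Subgroup.commutator_mem_commutator hs ht
      rw [hbot, Subgroup.mem_bot] at h1
      exact hst (commutatorElement_eq_one_iff_mul_comm.mp h1)
    · have hnle := lowerCentralSeries_not_le_center hAb hA.2.2 hxS hxA hZ₂A hidx hidxZ
        (by omega : 3 ≤ n - 1)
      intro hbot
      apply hnle
      intro y hy
      have hyS := Subgroup.lowerCentralSeries_le_self S _ hy
      refine Subgroup.mem_inf.mpr ⟨hyS, ?_⟩
      rw [Subgroup.mem_centralizer_iff]
      intro t ht
      have h1 : ⁅y, t⁆ ∈ Subgroup.lowerCentralSeries S (n - 2) := by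
        have h5 : n - 2 = (n - 1 - 2) + 1 := by omega
        rw [h5, Subgroup.lowerCentralSeries_succ]
        exact Subgroup.commutator_mem_commutator hy ht
      rw [hbot, Subgroup.mem_bot] at h1
      exact (commutatorElement_eq_one_iff_mul_comm.mp h1).symm

end Cfsg.Agent.S5244
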