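import Cfsg.Statements.S5245
import Cfsg.Agent.Lib.Helper27.FusionSemidirect
import Cfsg.Agent.Lib.Helper27.FusionSmallElts
import Cfsg.Agent.Lib.Helper27.FusionTopNormal
import Cfsg.Agent.Lib.Helper27.FusionFrobenius

set_option autoImplicit false
open Cfsg

namespace Cfsg.Agent.S5245

open Cfsg.FusionSystem Cfsg.Agent.Lib.Helper27

variable {Ω : Type*} [Group Ω]

/-- A map of the system of `T ⋊ ⟨γ⟩` is the restriction of an element of `Inn(T)⟨γ⟩`. -/
theorem semidirect_hom_exists_aut {T : Subgroup Ω} (γ : MulAut T) {P : Subgroup Ω} {φ : P →* Ω}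
    (hφ : φ ∈ (semidirectSys T γ).Hom P) :
    ∃ (hP : P ≤ T) (α : MulAut T), α ∈ Cfsg.Inn T ⊔ Subgroup.zpowers γ ∧
      ∀ x : P, φ x = ((α ⟨x, hP x.2⟩ : T) : Ω) := by
  rw [mem_semidirectSys_hom] at hφ
  obtain ⟨hP, t, c, hc, h⟩ := hφ
  refine ⟨hP, MulAut.conj t * c, Subgroup.mul_mem_sup ⟨t, rfl⟩ hc, fun x => ?_⟩
  rw [h x]
  rfl

/-- The system of `T ⋊ ⟨γ⟩`, `γ` of prime order `q ≠ p`, is not the inner system of the finite `p`-group `T`. -/
theorem semidirect_not_inner {T : Subgroup Ω} [Finite T] {p : ℕ} [Fact p.Prime] (hT : IsPGroup p T)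
    {γ : MulAut T} {q : ℕ} (hq : q.Prime) (hqp : q ≠ p) (hγ : orderOf γ = q)
    (h : ∀ P : Subgroup Ω, (semidirectSys T γ).Hom P = (innerFusionSystem T).Hom P) : False := by
  have h1 := (mem_autGroup_iff (semidirectSys T γ) (le_refl T) γ).mp (mem_autGroup_semidirectSys γ)
  unfold IsIso at h1
  rw [h T] at h1
  obtain ⟨-, g, hg, hgx⟩ := h1
  have hgx' : ∀ x : T, γ x = ⟨g, hg⟩ * x * (⟨g, hg⟩ : T)⁻¹ := fun x => Subtype.ext (hgx x)
  have hpow : ∀ (k : ℕ) (x : T), (γ ^ k) x = (⟨g, hg⟩ : T) ^ k * x * ((⟨g, hg⟩ : T) ^ k)⁻¹ := by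
    intro k
    induction k with
    | zero => intro x; simp
    | succ k ih =>
      intro x
      rw [pow_succ', MulAut.mul_apply, ih, hgx', pow_succ']
      group
  obtain ⟨n, hn⟩ := hT ⟨g, hg⟩
  have h2 : γ ^ (p ^ n) = 1 := by
    ext x
    rw [hpow, hn]
    simp
  have h3 : q ∣ p ^ n := by
    rw [← hγ]
    exact orderOf_dvd_of_pow_eq_one h2
  have hp : p.Prime := Fact.out
  have h4 : q ∣ p := hq.dvd_of_dvd_pow h3
  exact hqp ((Nat.prime_dvd_prime_iff_eq hq hp).mp h4)

/-- Let F be an extremely sparse fusion system over a finite p-group S (saturated, not the inner system, and every saturated fusion system over any subgroup T of S contained in F is F itself or the inner system of T). Then S is normal in F, the focal and hyperfocal subgroups of F are both S, and Aut_F(S) is generated by the inner automorphisms of S together with a single automorphism of prime order q ≠ p (F is the fusion system of the semidirect product of S by a cyclic group of prime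 order). -/
theorem result {Ω : Type*} [Group Ω] {S : Subgroup Ω} [Finite S] (p : ℕ) [Fact p.Prime] (hS : IsPGroup p S) (F : Cfsg.FusionSystem S) (hF : F.IsSaturated p) (hxs : ¬ (∀ P : Subgroup Ω, F.Hom P = (Cfsg.innerFusionSystem S).Hom P) ∧ ∀ (T : Subgroup Ω) (E : Cfsg.FusionSystem T), E.IsSaturated p → E.IsSubsystemOf F → (T = S ∧ ∀ P : Subgroup Ω, E.Hom P = F.Hom P) ∨ (∀ P : Subgroup Ω, E.Hom P = (Cfsg.innerFusionSystem T).Hom P)) : F.IsNormal S ∧ F.focalSubgroup = S ∧ F.hyperfocalSubgroup p = S ∧ ∃ (q : ℕ) (β : MulAut ↥S), q.Prime ∧ q ≠ p ∧ β ∈ F.autGroup S ∧ orderOf β = q ∧ (F.autGroup S : Subgroup (MulAut ↥S)) = Cfsg.Inn ↥S ⊔ Subgroup.zpowers β := by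
  classical
  obtain ⟨hnotinner, hsparse⟩ := hxs
  have hp : p.Prime := Fact.out
  -- Step 1: a subgroup `R` and an automorphism of prime order `q ≠ p`
  have h1 : ∃ R : Subgroup Ω, R ≤ S ∧ ¬ IsPGroup p (F.autGroup R) := by
    by_contra hcon
    push Not at hcon
    exact hnotinner (hom_eq_inner_of_autGroup_isPGroup hS hF hcon)
  obtain ⟨R, hRS, hnp⟩ := h1
  have hfinR : Finite R := Finite.of_injective (Subgroup.inclusion hRS) (Subgroup.inclusion_injective hRS)
  have hRp : IsPGroup p R := hS.to_le hRS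
  have h2 : ∃ (β : F.autGroup R) (m : ℕ), m.Coprime p ∧ β ^ m = 1 ∧ β ≠ 1 := by
    by_contra hcon
    push Not at hcon
    exact hnp (isPGroup_of_coprime_trivial (fun β m hm hβ => hcon β m hm hβ))
  obtain ⟨β₀, m, hm, hβ₀m, hβ₀1⟩ := h2
  have hn1 : orderOf β₀ ≠ 1 := fun h => hβ₀1 (orderOf_eq_one_iff.mp h)
  have hndvd : orderOf β₀ ∣ m := orderOf_dvd_of_pow_eq_one hβ₀m
  set q := (orderOf β₀).minFac with hq
  have hqprime : q.Prime := Nat.minFac_prime hn1
  have hqdvd : q ∣ orderOf β₀ := Nat.minFac_dvd _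
  have hqp : q ≠ p := by
    intro h
    have h3 : p ∣ m := h ▸ (hqdvd.trans hndvd)
    have := Nat.Coprime.eq_one_of_dvd hm.symm h3
    exact hp.one_lt.ne' this
  have hord : orderOf (β₀ ^ (orderOf β₀ / q)) = q :=
    orderOf_pow_orderOf_div (orderOf_pos β₀).ne' hqdvd
  set γ : MulAut R := ((β₀ ^ (orderOf β₀ / q) : F.autGroup R) : MulAut R) with hγdef
  have hγmem : γ ∈ F.autGroup R := (β₀ ^ (orderOf β₀ / q)).2
  have hγord : orderOf γ = q := by
    rw [hγdef, Subgroup.orderOf_coe, hord]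
  have hγcop : (orderOf γ).Coprime p := by
    rw [hγord]
    exact (Nat.coprime_primes hqprime hp).mpr hqp
  -- Step 2: the semidirect system is all of `F`
  rcases hsparse R (semidirectSys R γ) (semidirectSys_saturated hRp hγcop)
    (semidirectSys_isSubsystemOf F hRS hγmem) with ⟨hRS', hHom⟩ | hinner
  swap
  · exact (semidirect_not_inner hRp hqprime hqp hγord hinner).elim
  subst hRS'
  -- every map of `F` is the restriction of an element of `Inn(S)⟨γ⟩`
  have hInn : Cfsg.Inn R ≤ F.autGroup R :=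
    le_trans (inn_le_autInducedBy (le_refl R)) (autInducedBy_le_autGroup F (le_refl R))
  have hsup : Cfsg.Inn R ⊔ Subgroup.zpowers γ ≤ F.autGroup R :=
    sup_le hInn (by rw [Subgroup.zpowers_le]; exact hγmem)
  have hnormal : F.IsNormal R := by
    apply isNormal_top_of_le_autRestrictSystem
    intro P φ hφ
    rw [← hHom P] at hφ
    obtain ⟨hP, α, hα, hαφ⟩ := semidirect_hom_exists_aut γ hφ
    exact ⟨hP, α, (mem_autGroup_iff F (le_refl R) α).mp (hsup hα), hαφ⟩
  have hautEq : (F.autGroup R : Subgroup (MulAut ↥R)) = Cfsg.Inn ↥R ⊔ Subgroup.zpowers γ := by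
    apply le_antisymm _ hsup
    intro α hα
    have h3 := (mem_autGroup_iff F (le_refl R) α).mp hα
    unfold IsIso at h3
    rw [← hHom R] at h3
    obtain ⟨hP, α', hα', hαα'⟩ := semidirect_hom_exists_aut γ h3
    have : α = α' := by
      ext x
      exact hαα' x
    rw [this]
    exact hα'
  -- Step 3: `[S, γ] = S`
  set W : Subgroup R := Subgroup.closure {y : R | ∃ x : R, y = x⁻¹ * γ x} with hW
  set T : Subgroup Ω := W.map R.subtype with hT
  have hTR : T ≤ R := Subgroup.map_subtype_le W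
  have hfinT : Finite T := Finite.of_injective (Subgroup.inclusion hTR) (Subgroup.inclusion_injective hTR)
  have hTp : IsPGroup p T := hS.to_le hTR
  have hγW : ∀ w ∈ W, γ w ∈ W := by
    intro w hw
    induction hw using Subgroup.closure_induction with
    | mem y hy =>
      obtain ⟨x, rfl⟩ := hy
      apply Subgroup.subset_closure
      exact ⟨γ x, by rw [map_mul, map_inv]⟩
    | one => rw [map_one]; exact W.one_mem
    | mul y z _ _ hy hz => rw [map_mul]; exact W.mul_mem hy hz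
    | inv y _ hy => rw [map_inv]; exact W.inv_mem hy
  have hψ : R.subtype.comp (γ : R ≃* R).toMonoidHom ∈ F.Hom R :=
    (mem_autGroup_iff F (le_refl R) γ).mp hγmem
  have hψT : ∀ x : R, (x : Ω) ∈ T → (R.subtype.comp (γ : R ≃* R).toMonoidHom) x ∈ T := by
    rintro x ⟨w, hw, hwx⟩
    have : w = x := Subtype.ext hwx
    subst this
    exact ⟨γ w, hγW w hw, rfl⟩
  obtain ⟨δ, hδiso, hδ⟩ := exists_aut_restrict F hTR hψ hψT
  have hδ' : ∀ x : T, ((δ x : T) : Ω) = ((γ ⟨x, hTR x.2⟩ : R) : Ω) := hδ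
  have hδpow : ∀ (k : ℕ) (x : T), ((((δ : MulAut T) ^ k) x : T) : Ω) = (((γ ^ k) ⟨x, hTR x.2⟩ : R) : Ω) := by
    intro k
    induction k with
    | zero => intro x; simp
    | succ k ih =>
      intro x
      rw [pow_succ, pow_succ, MulAut.mul_apply, MulAut.mul_apply, ih]
      have h3 := hδ' x
      have h4 : (⟨((δ : MulAut T) x : T), hTR ((δ : MulAut T) x).2⟩ : R) = γ ⟨x, hTR x.2⟩ := Subtype.ext h3
      rw [h4]
  have hδq : (δ : MulAut T) ^ q = 1 := by
    ext x
    rw [hδpow, ← hγord, pow_orderOf_eq_one]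
    simp
  have hδne : (δ : MulAut T) ≠ 1 := by
    intro h1
    have hfix : ∀ w ∈ W, γ w = w := by
      intro w hw
      have hwT : (w : Ω) ∈ T := ⟨w, hw, rfl⟩
      have h3 := hδ' ⟨w, hwT⟩
      have h5 : (δ : MulAut T) ⟨w, hwT⟩ = ⟨w, hwT⟩ := by rw [h1]; rfl
      have h4 : ((δ ⟨w, hwT⟩ : T) : Ω) = w := congrArg (fun z : T => (z : Ω)) h5
      rw [h4] at h3
      exact (Subtype.ext h3).symm
    have hγ1 : γ = 1 := by
      refine mulAut_eq_one_of_fix_small_comm hRp γ (m := q) ((Nat.coprime_primes hqprime hp).mpr hqp) ?_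
        (fun w hw _ => hfix w hw)
      rw [← hγord, pow_orderOf_eq_one]
    rw [hγ1, orderOf_one] at hγord
    exact hqprime.one_lt.ne hγord
  have : Fact q.Prime := ⟨hqprime⟩
  have hδord : orderOf (δ : MulAut T) = q := orderOf_eq_prime hδq hδne
  have hδmem : (δ : MulAut T) ∈ F.autGroup T := (mem_autGroup_iff F hTR δ).mpr hδiso
  have hδcop : (orderOf (δ : MulAut T)).Coprime p := by
    rw [hδord]
    exact (Nat.coprime_primes hqprime hp).mpr hqp
  have hTeq : T = R := by
    rcases hsparse T (semidirectSys T (δ : MulAut T)) (semidirectSys_saturated hTp hδcop)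
      (semidirectSys_isSubsystemOf F hTR hδmem) with ⟨h, -⟩ | hinner
    · exact h
    · exact (semidirect_not_inner hTp hqprime hqp hδord hinner).elim
  have hTfoc : T ≤ F.focalSubgroup := by
    rw [hT, Subgroup.map_le_iff_le_comap, hW, Subgroup.closure_le]
    rintro y ⟨x, rfl⟩
    show ((x⁻¹ * γ x : R) : Ω) ∈ F.focalSubgroup
    apply Subgroup.subset_closure
    exact ⟨R, R.subtype.comp (γ : R ≃* R).toMonoidHom, x, hψ, rfl⟩
  have hThyp : T ≤ F.hyperfocalSubgroup p := by
    rw [hT, Subgroup.map_le_iff_le_comap, hW, Subgroup.closure_le]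
    rintro y ⟨x, rfl⟩
    show ((x⁻¹ * γ x : R) : Ω) ∈ F.hyperfocalSubgroup p
    apply Subgroup.subset_closure
    refine ⟨R, ⟨γ, hγmem⟩, x, le_refl R, ?_, rfl⟩
    apply Subgroup.subset_closure
    show (orderOf (⟨γ, hγmem⟩ : F.autGroup R)).Coprime p
    rw [Subgroup.orderOf_mk]
    exact hγcop
  have hfocle : F.focalSubgroup ≤ R := by
    unfold focalSubgroup
    rw [Subgroup.closure_le]
    rintro y ⟨P, φ, x, hφ, rfl⟩
    obtain ⟨hP, hφS⟩ := F.le_of_mem hφ
    exact R.mul_mem (R.inv_mem (hP x.2)) (hφS x)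
  have hhyple : F.hyperfocalSubgroup p ≤ R := by
    unfold hyperfocalSubgroup
    rw [Subgroup.closure_le]
    rintro y ⟨P, α, x, hP, -, rfl⟩
    exact R.mul_mem (R.inv_mem (hP x.2)) (hP ((α : MulAut P) x).2)
  refine ⟨hnormal, le_antisymm hfocle (hTeq.ge.trans hTfoc), le_antisymm hhyple (hTeq.ge.trans hThyp), q, γ, hqprime, hqp,
    hγmem, hγord, hautEq⟩

end Cfsg.Agent.S5245
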