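import Mathlib
import Cfsg.Prelude.Def_FusionSystem
import Cfsg.Prelude.Def_LocalEven
import Cfsg.Agent.Lib.Helper27.FusionPStable

set_option autoImplicit false
open Cfsg

namespace Cfsg.Agent.S5246

open Cfsg.FusionSystem Cfsg.Agent.Lib.Helper27
open scoped commutatorElement

section aux

variable {G : Type*} [Group G]

theorem nmh_apply (Q : Subgroup G) (n : Subgroup.normalizer (Q : Set G)) (x : Q) :
    ((Q.normalizerMonoidHom n x : Q) : G) = (n : G) * x * (n : G)⁻¹ := rfl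

/-- group-theoretic quadratic action versus `Quad` of the induced automorphism -/
theorem quad_iff_commutator [Finite G] (Q : Subgroup G) (g : G) (hg : g ∈ Subgroup.normalizer (Q : Set G)) :
    ⁅⁅Q, Subgroup.zpowers g⁆, Subgroup.zpowers g⁆ = ⊥ ↔ Quad (Q.normalizerMonoidHom ⟨g, hg⟩) := by
  rw [quad_iff]
  constructor
  · intro h a
    apply Subtype.ext
    rw [nmh_apply]
    simp only [Subgroup.coe_mul, Subgroup.coe_inv, nmh_apply]
    have h1 : ⁅(a : G)⁻¹, g⁆ ∈ ⁅Q, Subgroup.zpowers g⁆ :=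
      Subgroup.commutator_mem_commutator (Q.inv_mem a.2) (Subgroup.mem_zpowers g)
    have h2 : ⁅⁅(a : G)⁻¹, g⁆, g⁆ ∈ ⁅⁅Q, Subgroup.zpowers g⁆, Subgroup.zpowers g⁆ :=
      Subgroup.commutator_mem_commutator h1 (Subgroup.mem_zpowers g)
    rw [h, Subgroup.mem_bot, commutatorElement_def, commutatorElement_def] at h2
    have h3 : g * ((a : G)⁻¹ * (g * a * g⁻¹)) * g⁻¹ =
        ((a : G)⁻¹ * g * (a : G)⁻¹⁻¹ * g⁻¹ * g * ((a : G)⁻¹ * g * (a : G)⁻¹⁻¹ * g⁻¹)⁻¹ * g⁻¹)⁻¹ *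
          ((a : G)⁻¹ * (g * a * g⁻¹)) := by group
    rw [h3, h2]
    group
  · intro h
    rw [Subgroup.commutator_eq_bot_iff_le_centralizer, Subgroup.commutator_le]
    intro a ha z hz
    rw [← mem_powers_iff_mem_zpowers] at hz
    obtain ⟨n, rfl⟩ := hz
    -- `⁅a, g^n⁆ = b⁻¹ * χ^n b` with `b = a⁻¹`
    set χ := Q.normalizerMonoidHom ⟨g, hg⟩ with hχ
    have hquad : Quad χ := (quad_iff χ).mpr h
    have h1 := quad_pow_apply hquad (⟨a, ha⟩⁻¹ : Q) n
    have h2 : ((χ ^ n) (⟨a, ha⟩⁻¹ : Q) : G) = g ^ n * a⁻¹ * (g ^ n)⁻¹ := by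
      rw [hχ, ← map_pow]
      rfl
    have h3 : ⁅a, g ^ n⁆ = (((⟨a, ha⟩⁻¹ : Q)⁻¹ * χ (⟨a, ha⟩⁻¹ : Q)) ^ n : Q) := by
      have h4 : ((⟨a, ha⟩⁻¹ : Q)⁻¹ * χ (⟨a, ha⟩⁻¹ : Q)) ^ n =
          (⟨a, ha⟩⁻¹ : Q)⁻¹ * (χ ^ n) (⟨a, ha⟩⁻¹ : Q) := by
        rw [h1]; group
      rw [h4, Subgroup.coe_mul, h2, commutatorElement_def]
      simp [mul_assoc]
    -- fixed by `χ`
    have h5 : χ (((⟨a, ha⟩⁻¹ : Q)⁻¹ * χ (⟨a, ha⟩⁻¹ : Q)) ^ n) =
        ((⟨a, ha⟩⁻¹ : Q)⁻¹ * χ (⟨a, ha⟩⁻¹ : Q)) ^ n := by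
      rw [map_pow, h]
    have h6 : g * ⁅a, g ^ n⁆ * g⁻¹ = ⁅a, g ^ n⁆ := by
      rw [h3]
      exact congrArg Subtype.val h5
    rw [Subgroup.mem_centralizer_iff]
    intro y hy
    have hy' : y ∈ Subgroup.zpowers g := hy
    obtain ⟨k, rfl⟩ := Subgroup.mem_zpowers_iff.mp hy'
    have hc : Commute g ⁅a, g ^ n⁆ := by
      show g * ⁅a, g ^ n⁆ = ⁅a, g ^ n⁆ * g
      calc g * ⁅a, g ^ n⁆ = (g * ⁅a, g ^ n⁆ * g⁻¹) * g := by group
        _ = ⁅a, g ^ n⁆ * g := by rw [h6]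
    exact (hc.zpow_left k).eq

/-- `Aut_{F_⊤(G)}(Q)` is the image of `N_G(Q)` -/
theorem autGroup_top_eq [Finite G] (Q : Subgroup G) :
    (groupFusionSystem (⊤ : Subgroup G)).autGroup Q = Q.normalizerMonoidHom.range := by
  ext α
  rw [mem_autGroup_iff _ le_top]
  constructor
  · rintro ⟨-, -, g, hg⟩
    have hgN : g ∈ Subgroup.normalizer (Q : Set G) :=
      mem_normalizer_of_conj_mem (fun y hy => by
        have := hg ⟨y, hy⟩
        rw [← this]
        exact (α ⟨y, hy⟩).2)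
    refine ⟨⟨g, hgN⟩, ?_⟩
    ext x
    exact (hg x).symm
  · rintro ⟨n, rfl⟩
    exact ⟨le_top, fun _ => Subgroup.mem_top _, n, fun x => rfl⟩

theorem autGroup_eq_top {P Q : Subgroup G} (hQP : Q ≤ P) :
    (groupFusionSystem P).autGroup Q = (groupFusionSystem (⊤ : Subgroup G)).autGroup Q := by
  ext α
  rw [mem_autGroup_iff _ hQP, mem_autGroup_iff _ le_top]
  constructor
  · rintro ⟨-, -, g, hg⟩
    exact ⟨le_top, fun _ => Subgroup.mem_top _, g, hg⟩
  · rintro ⟨-, -, g, hg⟩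
    exact ⟨hQP, fun x => hQP (α x).2, g, hg⟩

theorem normalizerPStable_iff [Finite G] (p : ℕ) :
    IsNormalizerPStable p G ↔
      ∀ Q : Subgroup G, IsPGroup p Q → PStableAt (groupFusionSystem (⊤ : Subgroup G)) p Q := by
  unfold IsNormalizerPStable
  refine forall_congr' fun Q => forall_congr' fun _ => ?_
  have hA : Q.normalizerMonoidHom.range = (groupFusionSystem (⊤ : Subgroup G)).autGroup Q :=
    (autGroup_top_eq Q).symm
  let Ψ : (Subgroup.normalizer (Q : Set G) ⧸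
      (Subgroup.centralizer (Q : Set G)).subgroupOf (Subgroup.normalizer (Q : Set G))) ≃*
        (groupFusionSystem (⊤ : Subgroup G)).autGroup Q :=
    (QuotientGroup.quotientMulEquivOfEq (Subgroup.normalizerMonoidHom_ker Q).symm).trans
      ((QuotientGroup.quotientKerEquivRange Q.normalizerMonoidHom).trans (MulEquiv.subgroupCongr hA))
  have hΨ : ∀ n, ((Ψ (QuotientGroup.mk n) : (groupFusionSystem (⊤ : Subgroup G)).autGroup Q) : MulAut Q) =
      Q.normalizerMonoidHom n := fun n => rfl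
  have hcore := pCore_map_mulEquiv p Ψ
  constructor
  · intro h χ hχ hquad
    rw [← hA] at hχ
    obtain ⟨n, rfl⟩ := hχ
    have h1 := h n n.2 ((quad_iff_commutator Q n n.2).mpr hquad)
    refine ⟨Ψ (QuotientGroup.mk n), ?_, hΨ n⟩
    rw [← hcore]
    exact ⟨_, h1, rfl⟩
  · intro h g hg hcomm
    have hquad := (quad_iff_commutator Q g hg).mp hcomm
    have hmem : Q.normalizerMonoidHom ⟨g, hg⟩ ∈ (groupFusionSystem (⊤ : Subgroup G)).autGroup Q := by
      rw [← hA]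
      exact ⟨_, rfl⟩
    obtain ⟨y, hy, hyeq⟩ := h _ hmem hquad
    rw [← hcore] at hy
    obtain ⟨z, hz, rfl⟩ := hy
    have hz' : z = QuotientGroup.mk ⟨g, hg⟩ :=
      Ψ.injective (Subtype.ext (hyeq.trans (hΨ _).symm))
    rw [← hz']
    exact hz

end aux

open scoped Pointwise in
/-- Let p be an odd prime, G a finite group and P a Sylow p-subgroup. Call a fusion system F p-stable when, for every fully normalized subgroup Q and every χ ∈ Aut_F(Q) acting quadratically on Q (that is, χ fixes a⁻¹χ(a) for every a ∈ Q; equivalently χ(a⁻¹)·a·χ(a⁻¹)·χ(χ(a)) = 1), χ lies in O_p(Aut_F(Q)). Then G is p-stable in the normalizer form (for every p-subgroup Q and x ∈ N_G(Q) with [Q, x, x] = 1, the image of x lies in O_p(N_G(Q)/C_G(Q))) if and only if the fusion system of G on P is p-stable. -/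
theorem result {Ω : Type*} [Group Ω] [Finite Ω] {p : ℕ} [Fact p.Prime] (hp : p ≠ 2) (P : Sylow p Ω) : Cfsg.IsNormalizerPStable p Ω ↔ (∀ Q : Subgroup Ω, (Cfsg.groupFusionSystem (P : Subgroup Ω)).IsFullyNormalized Q → ∀ χ : MulAut ↥Q, χ ∈ (Cfsg.groupFusionSystem (P : Subgroup Ω)).autGroup Q → (∀ a : ↥Q, (χ a⁻¹) * a * (χ a⁻¹) * (χ (χ a)) = 1) → χ ∈ ((Cfsg.pCore p ↥((Cfsg.groupFusionSystem (P : Subgroup Ω)).autGroup Q)).map ((Cfsg.groupFusionSystem (P : Subgroup Ω)).autGroup Q).subtype : Subgroup (MulAut ↥Q))) := by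
  rw [normalizerPStable_iff]
  have key : ∀ Q : Subgroup Ω, Q ≤ (P : Subgroup Ω) →
      (PStableAt (groupFusionSystem (P : Subgroup Ω)) p Q ↔
        PStableAt (groupFusionSystem (⊤ : Subgroup Ω)) p Q) := by
    intro Q hQP
    have heq := autGroup_eq_top hQP
    exact ⟨pStableAt_of_autGroup_le heq.ge, pStableAt_of_autGroup_le heq.le⟩
  constructor
  · intro h Q hQ
    show PStableAt (groupFusionSystem (P : Subgroup Ω)) p Q
    have hQP : Q ≤ (P : Subgroup Ω) := hQ.1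
    exact (key Q hQP).mpr (h Q (P.2.to_le hQP))
  · intro h Q hQ
    have h' : ∀ Q : Subgroup Ω, (groupFusionSystem (P : Subgroup Ω)).IsFullyNormalized Q →
        PStableAt (groupFusionSystem (P : Subgroup Ω)) p Q := h
    obtain ⟨P', hQP'⟩ := hQ.exists_le_sylow
    obtain ⟨g, rfl⟩ := MulAction.exists_smul_eq Ω P P'
    -- conjugate `Q` into `P`
    have hφ : conjHom Q g⁻¹ ∈ (groupFusionSystem (⊤ : Subgroup Ω)).Hom Q :=
      (groupFusionSystem (⊤ : Subgroup Ω)).conj_mem le_top (Subgroup.mem_top _)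
    have hle : (conjHom Q g⁻¹).range ≤ (P : Subgroup Ω) := by
      rintro _ ⟨x, rfl⟩
      have hx : (x : Ω) ∈ ((g • P : Sylow p Ω) : Subgroup Ω) := hQP' x.2
      rw [Sylow.coe_subgroup_smul] at hx
      have hx2 := Subgroup.mem_pointwise_smul_iff_inv_smul_mem.mp hx
      simpa [conjHom, MulAut.smul_def] using hx2
    have h1 : PStableAt (groupFusionSystem (P : Subgroup Ω)) p (conjHom Q g⁻¹).range :=
      pStableAt_of_fullyNormalized h' hle
    exact pStableAt_of_isConj ⟨conjHom Q g⁻¹, hφ, rfl⟩ ((key _ hle).mp h1)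

end Cfsg.Agent.S5246
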