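import Cfsg.Statements.S5249
import Cfsg.Agent.S2794
import Cfsg.Agent.H26.FusionFactor
import Cfsg.Agent.Lib.Helper18.MaxAbelian
import Cfsg.Agent.Lib.Helper18.FusionCR
import Cfsg.Agent.Lib.Helper13.Conj
import Cfsg.Agent.Lib.Helper13.Sylow
import Cfsg.Agent.Lib.Helper13.SylowRel

set_option autoImplicit false
open Cfsg

namespace Cfsg.Agent.S5249

open Cfsg.FusionSystem Cfsg.Agent.H26 Cfsg.Agent.Lib.Helper13

/-- `Z(J(T))` of a nontrivial `p`-subgroup is nontrivial. -/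
theorem centerThompsonAOf_ne_bot {H : Type*} [Group H] [Finite H] {p : ℕ} [Fact p.Prime]
    (T : Subgroup H) (hT : IsPGroup p T) (hT1 : T ≠ ⊥) : Cfsg.centerThompsonAOf T ≠ ⊥ := by
  have hnt : Nontrivial ↥T := (Subgroup.nontrivial_iff_ne_bot T).mpr hT1
  have hJ : Cfsg.thompsonSubgroupA ↥T ≠ ⊥ :=
    Cfsg.Agent.Lib.Helper18.thompsonSubgroupA_ne_bot
  have hJnt : Nontrivial ↥(Cfsg.thompsonSubgroupA ↥T) := (Subgroup.nontrivial_iff_ne_bot _).mpr hJ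
  have hJp : IsPGroup p ↥(Cfsg.thompsonSubgroupA ↥T) := hT.to_subgroup _
  have hc : Nontrivial ↥(Subgroup.center ↥(Cfsg.thompsonSubgroupA ↥T)) := hJp.center_nontrivial
  obtain ⟨z, hz, hz1⟩ := (Subgroup.nontrivial_iff_exists_ne_one _).mp hc
  intro hbot
  have hmem : ((z : ↥T) : H) ∈ Cfsg.centerThompsonAOf T := by
    refine Subgroup.mem_inf.mpr ⟨⟨(z : ↥T), z.2, rfl⟩, ?_⟩
    rw [Subgroup.mem_centralizer_iff]
    rintro _ ⟨j, hj, rfl⟩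
    have h1 := Subgroup.mem_center_iff.mp hz ⟨j, hj⟩
    have h2 : ((⟨j, hj⟩ * z : ↥(Cfsg.thompsonSubgroupA ↥T)) : ↥T) = ((z * ⟨j, hj⟩ : ↥(Cfsg.thompsonSubgroupA ↥T)) : ↥T) :=
      congrArg Subtype.val h1
    have h3 : (((⟨j, hj⟩ * z : ↥(Cfsg.thompsonSubgroupA ↥T)) : ↥T) : H) = (((z * ⟨j, hj⟩ : ↥(Cfsg.thompsonSubgroupA ↥T)) : ↥T) : H) :=
      congrArg Subtype.val h2
    simpa using h3
  rw [hbot, Subgroup.mem_bot] at hmem
  apply hz1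
  apply Subtype.ext
  apply Subtype.ext
  simpa using hmem

/-- Transfer of control of strong fusion by `N(Z(J(T)))` to the given Sylow subgroup `T`. -/
theorem exists_normal_ctl {H : Type*} [Group H] [Finite H] {p : ℕ} [Fact p.Prime] (T : Sylow p H)
    (hT : (T : Subgroup H) ≠ ⊥)
    (hctl : Cfsg.ControlsStrongFusion p (Cfsg.centerThompsonAOf (T : Subgroup H))) :
    ∃ W : Subgroup H, W ≤ (T : Subgroup H) ∧ W ≠ ⊥ ∧
      ∀ (A : Set H) (g : H), A ⊆ ((T : Subgroup H) : Set H) → (∀ a ∈ A, g * a * g⁻¹ ∈ (T : Subgroup H)) →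
        ∃ n ∈ Subgroup.normalizer (W : Set H), ∀ a ∈ A, n * a * n⁻¹ = g * a * g⁻¹ := by
  obtain ⟨T', hUT', hc⟩ := hctl
  obtain ⟨x, hx⟩ := MulAction.exists_smul_eq H T T'
  have hmemT' : ∀ y : H, y ∈ (T' : Subgroup H) ↔ x⁻¹ * y * x ∈ (T : Subgroup H) := by
    intro y
    rw [← hx]
    exact mem_smul_sylow_iff T x y
  obtain ⟨U, hU⟩ : ∃ U : Subgroup H, U = Cfsg.centerThompsonAOf (T : Subgroup H) := ⟨_, rfl⟩
  rw [← hU] at hUT' hc
  have hUne : U ≠ ⊥ := by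
    rw [hU]
    exact centerThompsonAOf_ne_bot (T : Subgroup H) T.isPGroup' hT
  refine ⟨U.map (MulAut.conj x⁻¹).toMonoidHom, ?_, ?_, ?_⟩
  · intro w hw
    rw [mem_map_conj_iff, inv_inv] at hw
    have h1 := (hmemT' _).mp (hUT' hw)
    have e : x⁻¹ * (x * w * x⁻¹) * x = w := by group
    rwa [e] at h1
  · intro hbot
    apply hUne
    rw [eq_bot_iff]
    intro u hu
    have h1 : x⁻¹ * u * x⁻¹⁻¹ ∈ U.map (MulAut.conj x⁻¹).toMonoidHom := conj_mem_map_conj U x⁻¹ hu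
    rw [hbot, Subgroup.mem_bot] at h1
    rw [Subgroup.mem_bot]
    have e : u = x * (x⁻¹ * u * x⁻¹⁻¹) * x⁻¹ := by group
    rw [e, h1]
    group
  · intro A g hA hg
    have hA' : (fun a => x * a * x⁻¹) '' A ⊆ ((T' : Subgroup H) : Set H) := by
      rintro _ ⟨a, ha, rfl⟩
      show x * a * x⁻¹ ∈ (T' : Subgroup H)
      rw [hmemT']
      have e : x⁻¹ * (x * a * x⁻¹) * x = a := by group
      rw [e]
      exact hA ha
    obtain ⟨-, hc2⟩ := hc _ hA'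
    have hg' : (fun a => (x * g * x⁻¹) * a * (x * g * x⁻¹)⁻¹) '' ((fun a => x * a * x⁻¹) '' A) ⊆
        ((T' : Subgroup H) : Set H) := by
      rintro _ ⟨_, ⟨a, ha, rfl⟩, rfl⟩
      show (x * g * x⁻¹) * (x * a * x⁻¹) * (x * g * x⁻¹)⁻¹ ∈ (T' : Subgroup H)
      rw [hmemT']
      have e : x⁻¹ * ((x * g * x⁻¹) * (x * a * x⁻¹) * (x * g * x⁻¹)⁻¹) * x = g * a * g⁻¹ := by group
      rw [e]
      exact hg a ha
    obtain ⟨m, hm, hma⟩ := hc2 _ hg'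
    refine ⟨x⁻¹ * m * x, ?_, ?_⟩
    · rw [normalizer_map_conj, mem_map_conj_iff, inv_inv]
      have e : x * (x⁻¹ * m * x) * x⁻¹ = m := by group
      rw [e]
      exact hm
    · intro a ha
      have h1 := hma (x * a * x⁻¹) ⟨a, ha, rfl⟩
      calc x⁻¹ * m * x * a * (x⁻¹ * m * x)⁻¹ = x⁻¹ * (m * (x * a * x⁻¹) * m⁻¹) * x := by group
        _ = x⁻¹ * ((x * g * x⁻¹) * (x * a * x⁻¹) * (x * g * x⁻¹)⁻¹) * x := by rw [← h1]
        _ = g * a * g⁻¹ := by group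

/-- The group-level statement: in a `Qd(p)`-free group, for `R ⊴ K` with `R < P ≤ K`, some `W` with
`R < W ≤ P` is such that `N_K(W)` controls strong `K`-fusion in `P` modulo `R`. -/
theorem exists_ctl {G : Type*} [Group G] [Finite G] {p : ℕ} [Fact p.Prime] (hp : p ≠ 2)
    (hqd : ¬ Cfsg.Involves ↥(Cfsg.qd p) G) (P : Sylow p G) (K R : Subgroup G) [hn : (R.subgroupOf K).Normal]
    (hRP : R ≤ (P : Subgroup G)) (hPK : (P : Subgroup G) ≤ K) (hne : R ≠ (P : Subgroup G)) :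
    ∃ W : Subgroup G, R ≤ W ∧ W ≤ (P : Subgroup G) ∧ W ≠ R ∧
      ∀ (A : Set G) (g : G), A ⊆ ((P : Subgroup G) : Set G) → g ∈ K → (∀ a ∈ A, g * a * g⁻¹ ∈ (P : Subgroup G)) →
        ∃ n ∈ K, (∀ w ∈ W, n * w * n⁻¹ ∈ W) ∧ ∀ a ∈ A, (n * a * n⁻¹)⁻¹ * (g * a * g⁻¹) ∈ R := by
  have hRK : R ≤ K := hRP.trans hPK
  have hsurj : Function.Surjective (QuotientGroup.mk' (R.subgroupOf K)) := QuotientGroup.mk'_surjective _
  have hkerπ : ∀ k : ↥K, QuotientGroup.mk' (R.subgroupOf K) k = 1 ↔ (k : G) ∈ R := by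
    intro k
    rw [QuotientGroup.mk'_apply, QuotientGroup.eq_one_iff]
    exact Subgroup.mem_subgroupOf
  obtain ⟨T, hTdef⟩ : ∃ T : Sylow p (↥K ⧸ R.subgroupOf K), T = (P.subtype hPK).mapSurjective hsurj := ⟨_, rfl⟩
  have hTmem : ∀ y : ↥K ⧸ R.subgroupOf K, y ∈ (T : Subgroup (↥K ⧸ R.subgroupOf K)) ↔
      ∃ k : ↥K, (k : G) ∈ (P : Subgroup G) ∧ QuotientGroup.mk' (R.subgroupOf K) k = y := by
    intro y
    rw [hTdef]
    show y ∈ ((P : Subgroup G).subgroupOf K).map (QuotientGroup.mk' (R.subgroupOf K)) ↔ _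
    constructor
    · rintro ⟨k, hk, rfl⟩
      exact ⟨k, Subgroup.mem_subgroupOf.mp hk, rfl⟩
    · rintro ⟨k, hk, rfl⟩
      exact ⟨k, Subgroup.mem_subgroupOf.mpr hk, rfl⟩
  have hTne : (T : Subgroup (↥K ⧸ R.subgroupOf K)) ≠ ⊥ := by
    intro hbot
    apply hne
    refine le_antisymm hRP ?_
    intro y hy
    have h1 : QuotientGroup.mk' (R.subgroupOf K) ⟨y, hPK hy⟩ ∈ (T : Subgroup (↥K ⧸ R.subgroupOf K)) :=
      (hTmem _).mpr ⟨⟨y, hPK hy⟩, hy, rfl⟩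
    rw [hbot, Subgroup.mem_bot, hkerπ] at h1
    exact h1
  have hctl := (Cfsg.Agent.S2794.result (G := G) hp).mp hqd K R T
  obtain ⟨Wb, hWbT, hWbne, hWb⟩ := exists_normal_ctl T hTne hctl
  refine ⟨(Wb.comap (QuotientGroup.mk' (R.subgroupOf K))).map K.subtype, ?_, ?_, ?_, ?_⟩
  · intro r hr
    refine ⟨⟨r, hRK hr⟩, ?_, rfl⟩
    show QuotientGroup.mk' (R.subgroupOf K) ⟨r, hRK hr⟩ ∈ Wb
    rw [(hkerπ _).mpr hr]
    exact Wb.one_mem
  · rintro _ ⟨k, hk, rfl⟩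
    have hk0 : QuotientGroup.mk' (R.subgroupOf K) k ∈ Wb := hk
    obtain ⟨k', hk'P, hk'⟩ := (hTmem _).mp (hWbT hk0)
    have h1 : QuotientGroup.mk' (R.subgroupOf K) (k'⁻¹ * k) = 1 := by
      rw [map_mul, map_inv, hk', inv_mul_cancel]
    rw [hkerπ] at h1
    have h2 : (k : G) = (k' : G) * ((k'⁻¹ * k : ↥K) : G) := by
      push_cast
      group
    show (k : G) ∈ (P : Subgroup G)
    rw [h2]
    exact (P : Subgroup G).mul_mem hk'P (hRP h1)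
  · intro heq
    apply hWbne
    rw [eq_bot_iff]
    intro y hy
    obtain ⟨k, rfl⟩ := hsurj y
    have h1 : (k : G) ∈ (Wb.comap (QuotientGroup.mk' (R.subgroupOf K))).map K.subtype :=
      ⟨k, hy, rfl⟩
    rw [heq] at h1
    rw [Subgroup.mem_bot]
    exact (hkerπ k).mpr h1
  · intro A g hA hg hgA
    have hAb : (QuotientGroup.mk' (R.subgroupOf K)) '' {k : ↥K | (k : G) ∈ A} ⊆
        ((T : Subgroup (↥K ⧸ R.subgroupOf K)) : Set (↥K ⧸ R.subgroupOf K)) := by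
      rintro _ ⟨k, hk, rfl⟩
      exact (hTmem _).mpr ⟨k, hA hk, rfl⟩
    have hgb : ∀ a ∈ (QuotientGroup.mk' (R.subgroupOf K)) '' {k : ↥K | (k : G) ∈ A},
        QuotientGroup.mk' (R.subgroupOf K) ⟨g, hg⟩ * a * (QuotientGroup.mk' (R.subgroupOf K) ⟨g, hg⟩)⁻¹ ∈
          (T : Subgroup (↥K ⧸ R.subgroupOf K)) := by
      rintro _ ⟨k, hk, rfl⟩
      refine (hTmem _).mpr ⟨⟨g, hg⟩ * k * ⟨g, hg⟩⁻¹, ?_, ?_⟩
      · show g * (k : G) * g⁻¹ ∈ (P : Subgroup G)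
        exact hgA _ hk
      · rw [map_mul, map_mul, map_inv]
    obtain ⟨nb, hnb, hnbA⟩ := hWb _ _ hAb hgb
    obtain ⟨n0, rfl⟩ := hsurj nb
    refine ⟨(n0 : G), n0.2, ?_, ?_⟩
    · rintro _ ⟨k, hk, rfl⟩
      refine ⟨n0 * k * n0⁻¹, ?_, rfl⟩
      have hk0 : QuotientGroup.mk' (R.subgroupOf K) k ∈ Wb := hk
      show QuotientGroup.mk' (R.subgroupOf K) (n0 * k * n0⁻¹) ∈ Wb
      rw [map_mul, map_mul, map_inv]
      exact (Subgroup.mem_normalizer_iff.mp hnb _).mp hk0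
    · intro a ha
      have haK : a ∈ K := hPK (hA ha)
      have h1 := hnbA (QuotientGroup.mk' (R.subgroupOf K) ⟨a, haK⟩) ⟨⟨a, haK⟩, ha, rfl⟩
      have h2 : QuotientGroup.mk' (R.subgroupOf K)
          ((n0 * ⟨a, haK⟩ * n0⁻¹)⁻¹ * (⟨g, hg⟩ * ⟨a, haK⟩ * ⟨g, hg⟩⁻¹)) = 1 := by
        rw [map_mul, map_inv, map_mul, map_mul, map_inv, map_mul, map_mul, map_inv, h1, inv_mul_cancel]
      rw [hkerπ] at h2
      exact h2

/-- Construction of the homomorphism induced along `θ`. -/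
theorem exists_induced {G : Type*} [Group G] {S : Subgroup G} {Ω' : Type*} [Group Ω'] (θ : S →* Ω')
    (P2 : Subgroup G) (hP2 : P2 ≤ S) (P'' : Subgroup Ω')
    (hmem : ∀ x : P2, θ ⟨x, hP2 x.2⟩ ∈ P'')
    (hsurj : ∀ y ∈ P'', ∃ x : P2, θ ⟨x, hP2 x.2⟩ = y)
    (ψ : P2 →* G) (hψS : ∀ x : P2, ψ x ∈ S)
    (hker : ∀ x : P2, θ ⟨x, hP2 x.2⟩ = 1 → θ ⟨ψ x, hψS x⟩ = 1) :
    ∃ ψ' : P'' →* Ω', ∀ x : P2, ψ' ⟨θ ⟨x, hP2 x.2⟩, hmem x⟩ = θ ⟨ψ x, hψS x⟩ := by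
  let a : P2 →* P'' := (θ.comp (Subgroup.inclusion hP2)).codRestrict P'' (fun x => hmem x)
  have ha : Function.Surjective a := by
    rintro ⟨y, hy⟩
    obtain ⟨x, hx⟩ := hsurj y hy
    exact ⟨x, Subtype.ext hx⟩
  let f : P2 →* Ω' := θ.comp (ψ.codRestrict S hψS)
  have hle : a.ker ≤ f.ker := by
    intro x hx
    rw [MonoidHom.mem_ker] at hx ⊢
    have h1 : θ ⟨x, hP2 x.2⟩ = 1 := congrArg Subtype.val hx
    exact hker x h1
  refine ⟨a.liftOfSurjective ha ⟨f, hle⟩, fun x => ?_⟩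
  exact MonoidHom.liftOfRightInverse_comp_apply a _ (Function.rightInverse_surjInv ha) ⟨f, hle⟩ x

/-- Let p be an odd prime, G a finite group in which Qd(p) (the natural semidirect product of an elementary abelian group of order p² by SL₂(p)) is not involved, and P a Sylow p-subgroup of G. Then the fusion system of G on P is a solvable fusion system. -/
theorem result {G : Type*} [Group G] [Finite G] {p : ℕ} [Fact p.Prime] (hp : p ≠ 2) (hqd : ¬ Cfsg.Involves ↥(Cfsg.qd p) G) (P : Sylow p G) : (Cfsg.groupFusionSystem (P : Subgroup G)).IsSolvableSystem := by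
  intro R hR hRne hRnorm E hE
  obtain ⟨θ, hθ⟩ : ∃ θ : ↥(P : Subgroup G) →* ↥(P : Subgroup G) ⧸ R.subgroupOf (P : Subgroup G),
      θ = QuotientGroup.mk' (R.subgroupOf (P : Subgroup G)) := ⟨_, rfl⟩
  rw [← hθ] at hE
  obtain ⟨hRS, hker, hrange, hHom⟩ := hE
  have hθsurj : ∀ P' : Subgroup (↥(P : Subgroup G) ⧸ R.subgroupOf (P : Subgroup G)), P' ≤ θ.range := by
    intro P'
    rw [hrange]
    exact le_top
  have hPK : (P : Subgroup G) ≤ Subgroup.normalizer (R : Set G) :=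
    (Subgroup.normal_subgroupOf_iff_le_normalizer hRS).mp hRnorm
  obtain ⟨W, hRW, hWP, hWR, hW⟩ := exists_ctl hp hqd P (Subgroup.normalizer (R : Set G)) R hRS hPK hRne
  obtain ⟨Wst, hWst⟩ : ∃ Wst : Subgroup (↥(P : Subgroup G) ⧸ R.subgroupOf (P : Subgroup G)),
      Wst = (W.subgroupOf (P : Subgroup G)).map θ := ⟨_, rfl⟩
  have hWst_mem : ∀ (w : G) (hw : w ∈ W), θ ⟨w, hWP hw⟩ ∈ Wst := by
    intro w hw
    rw [hWst]
    exact ⟨⟨w, hWP hw⟩, Subgroup.mem_subgroupOf.mpr hw, rfl⟩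
  have hWst_ne : Wst ≠ ⊥ := by
    intro hbot
    apply hWR
    refine le_antisymm ?_ hRW
    intro w hw
    have h1 := hWst_mem w hw
    rw [hbot, Subgroup.mem_bot, hker] at h1
    exact h1
  suffices hnormal : E.IsNormal Wst by
    intro hcore
    apply hWst_ne
    have h1 : Wst ≤ E.core := le_sSup hnormal
    rw [hcore] at h1
    exact le_bot_iff.mp h1
  refine ⟨le_top, ?_⟩
  intro Pst φst hφst
  obtain ⟨-, φ, hφ, hind⟩ := (hHom Pst φst).mp hφst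
  obtain ⟨hP1S, hφS, hP1', hind⟩ := hind
  have hφ' : preimageAlong θ Pst ≤ (P : Subgroup G) ∧ (∀ x : preimageAlong θ Pst, φ x ∈ (P : Subgroup G)) ∧
      ∃ g : G, ∀ x : preimageAlong θ Pst, φ x = g * (x : G) * g⁻¹ := hφ
  obtain ⟨-, -, g, hg⟩ := hφ'
  have hgP1 : ∀ a (ha : a ∈ preimageAlong θ Pst), g * a * g⁻¹ ∈ (P : Subgroup G) := by
    intro a ha
    have h1 := hφS ⟨a, ha⟩
    rw [hg] at h1
    exact h1
  have hRP1 : R ≤ preimageAlong θ Pst := by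
    intro r hr
    refine mem_preimageAlong.mpr ⟨hRS hr, ?_⟩
    rw [(hker _).mpr hr]
    exact Pst.one_mem
  have hgR : ∀ r ∈ R, g * r * g⁻¹ ∈ R := by
    intro r hr
    have hmem : conjHom R g ∈ (Cfsg.groupFusionSystem (P : Subgroup G)).Hom R := by
      show R ≤ (P : Subgroup G) ∧ (∀ x : R, conjHom R g x ∈ (P : Subgroup G)) ∧
        ∃ g' : G, ∀ x : R, conjHom R g x = g' * (x : G) * g'⁻¹
      exact ⟨hRS, fun x => hgP1 x (hRP1 x.2), g, fun x => rfl⟩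
    exact hR.2 R le_rfl _ hmem ⟨r, hr⟩
  have hgK : g ∈ Subgroup.normalizer (R : Set G) :=
    Cfsg.Agent.Lib.Helper18.FusionCR.mem_normalizer_of_conj_mem R hgR
  obtain ⟨n, hnK, hnW, hnA⟩ := hW (preimageAlong θ Pst : Set G) g hP1S hgK hgP1
  have hnR : ∀ r ∈ R, n * r * n⁻¹ ∈ R := fun r hr => (Subgroup.mem_normalizer_iff.mp hnK r).mp hr
  have hnP1 : ∀ a ∈ preimageAlong θ Pst, n * a * n⁻¹ ∈ (P : Subgroup G) := by
    intro a ha
    have h1 := hnA a ha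
    have h2 := hgP1 a ha
    have e : n * a * n⁻¹ = (g * a * g⁻¹) * ((n * a * n⁻¹)⁻¹ * (g * a * g⁻¹))⁻¹ := by group
    rw [e]
    exact (P : Subgroup G).mul_mem h2 ((P : Subgroup G).inv_mem (hRS h1))
  obtain ⟨Y, hY⟩ : ∃ Y : Subgroup G,
      Y = (P : Subgroup G) ⊓ ((P : Subgroup G).map (MulAut.conj n⁻¹).toMonoidHom) := ⟨_, rfl⟩
  have hYmem : ∀ x, x ∈ Y ↔ x ∈ (P : Subgroup G) ∧ n * x * n⁻¹ ∈ (P : Subgroup G) := by
    intro x
    rw [hY, Subgroup.mem_inf, mem_map_conj_iff, inv_inv]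
  have hP1Y : preimageAlong θ Pst ≤ Y := fun a ha => (hYmem a).mpr ⟨hP1S ha, hnP1 a ha⟩
  have hWY : W ≤ Y := fun w hw => (hYmem w).mpr ⟨hWP hw, hWP (hnW w hw)⟩
  have hRY : R ≤ Y := hRW.trans hWY
  have hP2S : preimageAlong θ (Pst ⊔ Wst) ≤ (P : Subgroup G) := preimageAlong_le θ _
  have hP2Y : preimageAlong θ (Pst ⊔ Wst) ≤ Y := by
    intro x hx
    obtain ⟨hxS, hx'⟩ := mem_preimageAlong.mp hx
    have hle : Pst ⊔ Wst ≤ (Y.subgroupOf (P : Subgroup G)).map θ := by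
      refine sup_le ?_ ?_
      · intro y hy
        obtain ⟨a, ha⟩ := exists_preimageAlong (hθsurj Pst) ⟨y, hy⟩
        exact ⟨⟨a, hP1S a.2⟩, Subgroup.mem_subgroupOf.mpr (hP1Y a.2), ha⟩
      · rw [hWst]
        exact Subgroup.map_mono (fun z hz => Subgroup.mem_subgroupOf.mpr (hWY (Subgroup.mem_subgroupOf.mp hz)))
    obtain ⟨y', hy'Y, hy'⟩ := hle hx'
    have h1 : θ (y'⁻¹ * ⟨x, hxS⟩) = 1 := by
      rw [map_mul, map_inv, hy', inv_mul_cancel]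
    rw [hker] at h1
    have h2 : x = (y' : G) * ((y'⁻¹ * ⟨x, hxS⟩ : ↥(P : Subgroup G)) : G) := by
      push_cast
      group
    rw [h2]
    exact Y.mul_mem (Subgroup.mem_subgroupOf.mp hy'Y) (hRY h1)
  have hψS : ∀ x : preimageAlong θ (Pst ⊔ Wst),
      conjHom (preimageAlong θ (Pst ⊔ Wst)) n x ∈ (P : Subgroup G) :=
    fun x => ((hYmem _).mp (hP2Y x.2)).2
  have hψ : conjHom (preimageAlong θ (Pst ⊔ Wst)) n ∈
      (Cfsg.groupFusionSystem (P : Subgroup G)).Hom (preimageAlong θ (Pst ⊔ Wst)) := by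
    show preimageAlong θ (Pst ⊔ Wst) ≤ (P : Subgroup G) ∧
      (∀ x : preimageAlong θ (Pst ⊔ Wst), conjHom (preimageAlong θ (Pst ⊔ Wst)) n x ∈ (P : Subgroup G)) ∧
      ∃ g' : G, ∀ x : preimageAlong θ (Pst ⊔ Wst),
        conjHom (preimageAlong θ (Pst ⊔ Wst)) n x = g' * (x : G) * g'⁻¹
    exact ⟨hP2S, hψS, n, fun x => rfl⟩
  have hmem2 : ∀ x : preimageAlong θ (Pst ⊔ Wst), θ ⟨x, hP2S x.2⟩ ∈ Pst ⊔ Wst :=
    fun x => (mem_preimageAlong.mp x.2).2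
  have hsurj2 : ∀ y ∈ Pst ⊔ Wst, ∃ x : preimageAlong θ (Pst ⊔ Wst), θ ⟨x, hP2S x.2⟩ = y := by
    intro y hy
    obtain ⟨a, ha⟩ := exists_preimageAlong (hθsurj _) ⟨y, hy⟩
    exact ⟨a, ha⟩
  have hker2 : ∀ x : preimageAlong θ (Pst ⊔ Wst), θ ⟨x, hP2S x.2⟩ = 1 →
      θ ⟨conjHom (preimageAlong θ (Pst ⊔ Wst)) n x, hψS x⟩ = 1 := by
    intro x hx
    rw [hker] at hx ⊢
    exact hnR _ hx
  obtain ⟨ψst, hψst⟩ := exists_induced θ _ hP2S (Pst ⊔ Wst) hmem2 hsurj2 (conjHom _ n) hψS hker2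
  have hindψ : InducedAlong θ (conjHom (preimageAlong θ (Pst ⊔ Wst)) n) ψst := by
    unfold FusionSystem.InducedAlong
    exact ⟨hP2S, hψS, hmem2, hψst⟩
  have hψstE : ψst ∈ E.Hom (Pst ⊔ Wst) := (hHom _ _).mpr ⟨le_top, conjHom _ n, hψ, hindψ⟩
  refine ⟨ψst, hψstE, ?_, ?_⟩
  · intro y
    obtain ⟨a, ha⟩ := exists_preimageAlong (hθsurj Pst) y
    have ha2 : (a : G) ∈ preimageAlong θ (Pst ⊔ Wst) := preimageAlong_mono θ le_sup_left a.2
    have e1 : Subgroup.inclusion (le_sup_left : Pst ≤ Pst ⊔ Wst) y =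
        ⟨θ ⟨(a : G), hP2S ha2⟩, hmem2 ⟨a, ha2⟩⟩ := by
      apply Subtype.ext
      exact ha.symm
    have e2 : y = ⟨θ ⟨(a : G), hP1S a.2⟩, hP1' a⟩ := Subtype.ext ha.symm
    have e3 : φst y = θ ⟨φ a, hφS a⟩ := (congrArg φst e2).trans (hind a)
    have e4 : ψst (Subgroup.inclusion (le_sup_left : Pst ≤ Pst ⊔ Wst) y) =
        θ ⟨conjHom (preimageAlong θ (Pst ⊔ Wst)) n ⟨a, ha2⟩, hψS ⟨a, ha2⟩⟩ :=
      (congrArg ψst e1).trans (hψst ⟨a, ha2⟩)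
    have h2 : θ ((⟨conjHom (preimageAlong θ (Pst ⊔ Wst)) n ⟨a, ha2⟩, hψS ⟨a, ha2⟩⟩ : ↥(P : Subgroup G))⁻¹ *
        ⟨φ a, hφS a⟩) = 1 := by
      rw [hker]
      show (n * (a : G) * n⁻¹)⁻¹ * φ a ∈ R
      rw [hg]
      exact hnA a a.2
    rw [map_mul, map_inv] at h2
    rw [e4, e3]
    exact inv_mul_eq_one.mp h2
  · apply le_antisymm
    · rintro _ ⟨y, hy, rfl⟩
      have hy' : (y : ↥(P : Subgroup G) ⧸ R.subgroupOf (P : Subgroup G)) ∈ Wst := Subgroup.mem_subgroupOf.mp hy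
      have hy'' : (y : ↥(P : Subgroup G) ⧸ R.subgroupOf (P : Subgroup G)) ∈
          (W.subgroupOf (P : Subgroup G)).map θ := by
        rw [← hWst]
        exact hy'
      obtain ⟨w, hw, hwy⟩ := hy''
      have hwW : (w : G) ∈ W := Subgroup.mem_subgroupOf.mp hw
      have hw2 : (w : G) ∈ preimageAlong θ (Pst ⊔ Wst) := by
        refine mem_preimageAlong.mpr ⟨w.2, ?_⟩
        rw [show (⟨(w : G), w.2⟩ : ↥(P : Subgroup G)) = w from rfl, hwy]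
        exact y.2
      have e1 : y = ⟨θ ⟨(w : G), hP2S hw2⟩, hmem2 ⟨w, hw2⟩⟩ := Subtype.ext hwy.symm
      have e2 : ψst y = θ ⟨conjHom (preimageAlong θ (Pst ⊔ Wst)) n ⟨w, hw2⟩, hψS ⟨w, hw2⟩⟩ :=
        (congrArg ψst e1).trans (hψst ⟨w, hw2⟩)
      show ψst y ∈ Wst
      rw [e2]
      exact hWst_mem _ (hnW _ hwW)
    · intro y hy
      rw [hWst] at hy
      obtain ⟨w, hw, rfl⟩ := hy
      have hwW : (w : G) ∈ W := Subgroup.mem_subgroupOf.mp hw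
      have hnW' : n ∈ Subgroup.normalizer (W : Set G) :=
        Cfsg.Agent.Lib.Helper18.FusionCR.mem_normalizer_of_conj_mem W hnW
      have hw'W : n⁻¹ * (w : G) * n ∈ W := by
        refine (Subgroup.mem_normalizer_iff.mp hnW' (n⁻¹ * (w : G) * n)).mpr ?_
        have e : n * (n⁻¹ * (w : G) * n) * n⁻¹ = w := by group
        rw [e]
        exact hwW
      have hw'2 : n⁻¹ * (w : G) * n ∈ preimageAlong θ (Pst ⊔ Wst) :=
        mem_preimageAlong.mpr ⟨hWP hw'W, (le_sup_right : Wst ≤ Pst ⊔ Wst) (hWst_mem _ hw'W)⟩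
      refine ⟨⟨θ ⟨n⁻¹ * (w : G) * n, hP2S hw'2⟩, hmem2 ⟨_, hw'2⟩⟩, ?_, ?_⟩
      · exact Subgroup.mem_subgroupOf.mpr (hWst_mem _ hw'W)
      · rw [hψst ⟨_, hw'2⟩]
        congr 1
        apply Subtype.ext
        show n * (n⁻¹ * (w : G) * n) * n⁻¹ = w
        group

end Cfsg.Agent.S5249
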