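import Cfsg.Statements.S5250
import Mathlib
import Cfsg.Agent.H5.QdClimbRad
import Cfsg.Agent.H5.QdRecogTwo
import Cfsg.Agent.Lib.Helper27.ModelMain
import Cfsg.Agent.Lib.Helper27.LGNormalizer
import Cfsg.Agent.H26.NormalizerConstrained

set_option autoImplicit false
universe u
open Cfsg

namespace Cfsg.Agent.S5250

/-- Let F be a saturated fusion system over a finite p-group S such that Qd(p) (the natural semidirect product of an elementary abelian group of order p² by SL₂(p)) is involved in no model of the normalizer system of any fully normalized subgroup that is both centric and radical in F. Then F is Qd(p)-free: Qd(p) is involved in no model of the normalizer system of any fully normalized centric subgroup. -/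
theorem result {Ω : Type u} [Group Ω] {S : Subgroup Ω} [Finite S] (p : ℕ) [Fact p.Prime] (hS : IsPGroup p S) (F : Cfsg.FusionSystem S) (hF : F.IsSaturated p) (h : ∀ Q : Subgroup Ω, F.IsFullyNormalized Q → F.IsCentric Q → F.IsRadical p Q → ∀ N : Cfsg.FusionSystem (Cfsg.FusionSystem.normalizerIn S Q), F.IsNormalizerSystem Q N → ∀ (L : Type u) [Group L] (ι : ↥(Cfsg.FusionSystem.normalizerIn S Q) →* L), N.IsModel p L ι → ¬ Cfsg.Involves ↥(Cfsg.qd p) L) : F.IsSectionFree p ↥(Cfsg.qd p) := by
  intro Q hfn hcen N hN L _ ι hM hinvL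
  obtain ⟨hfin, hreal', ⟨T, hT⟩, hcc⟩ := hM
  have : Finite L := hfin
  obtain ⟨U, f, hUT, hG⟩ := Cfsg.H5.QdR.exists_isGDat_of_involves T hinvL
  have hUr : U ≤ ι.range := by
    rw [← hT]
    exact hUT
  have hD := Cfsg.H5.QdF.IsDat.ofGDat hreal' hUr hG
  have hD' := hD.mono (inf_le_left : Cfsg.FusionSystem.normalizerIn S Q ≤ S)
    (Cfsg.Agent.Lib.Helper27.normalizerSystem_hom_subset hN)
  obtain ⟨Q', U', f', hfn', hcen', hrad', hIn⟩ :=
    Cfsg.H5.QdF.exists_centric_radical_datIn hS hF hD'
  have hQS : Q' ≤ S := hfn'.1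
  have : Finite ↥Q' := Finite.of_injective (Subgroup.inclusion hQS) (Subgroup.inclusion_injective hQS)
  have hN' := Cfsg.Agent.Lib.Helper27.LG.nsys_spec F Q' hQS
  have hDN := hIn.toNsys hN'
  have hTS : Cfsg.FusionSystem.normalizerIn S Q' ≤ S := inf_le_left
  have : Finite ↥(Cfsg.FusionSystem.normalizerIn S Q') :=
    Finite.of_injective (Subgroup.inclusion hTS) (Subgroup.inclusion_injective hTS)
  have hTp : IsPGroup p ↥(Cfsg.FusionSystem.normalizerIn S Q') :=
    hS.of_injective (Subgroup.inclusion hTS) (Subgroup.inclusion_injective hTS)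
  have hcons := Cfsg.Agent.H26.normalizerSystem_constrained hS hF hfn' hcen' hN'
  obtain ⟨L', hL', ι', hM'⟩ := Cfsg.Agent.Lib.Helper27.Mod.exists_model hTp hcons
  have : Finite L' := hM'.1
  obtain ⟨f'', hG'⟩ := hDN.toGDat hTp hM'.2.1
  exact h Q' hfn' hcen' hrad' _ hN' L' ι' hM' (Cfsg.H5.QdR.involves_of_isGDat_all hG')

end Cfsg.Agent.S5250
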