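import Cfsg.Statements.S5254
import Cfsg.Agent.Lib.Helper27.AbelianIndexP

set_option autoImplicit false
open Cfsg

namespace Cfsg.Agent.S5254

/-- Let p be an odd prime, S a finite nonabelian p-group with a unique abelian subgroup A of index p, and F a saturated fusion system over S. Then every F-essential subgroup P is A, or Z(S)⟨x⟩ for some x ∈ S outside A, or (when the second centre Z₂(S) lies in A) Z₂(S)⟨x⟩ for some x ∈ S outside A; and P has index p in its normalizer in S. -/
theorem result {Ω : Type*} [Group Ω] {S : Subgroup Ω} [Finite S] (p : ℕ) [Fact p.Prime] (hS : IsPGroup p S) (F : Cfsg.FusionSystem S) (hF : F.IsSaturated p) (hp : p ≠ 2) (hna : ¬ IsMulCommutative ↥S) (A : Subgroup Ω) (hA : A ≤ S ∧ IsMulCommutative ↥A ∧ (A.subgroupOf S).index = p) (huniq : ∀ B : Subgroup Ω, B ≤ S → IsMulCommutative ↥B → (B.subgroupOf S).index = p → B = A) (P : Subgroup Ω) (hP : F.IsEssential p P) : (P = A ∨ (∃ x ∈ S, x ∉ A ∧ P = (S ⊓ Subgroup.centralizer (S : Set Ω)) ⊔ Subgroup.zpowers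 x) ∨ (((upperCentralSeries ↥S 2).map S.subtype) ≤ A ∧ ∃ x ∈ S, x ∉ A ∧ P = ((upperCentralSeries ↥S 2).map S.subtype) ⊔ Subgroup.zpowers x)) ∧ (P.subgroupOf (S ⊓ Subgroup.normalizer (P : Set Ω))).index = p := by
  open Cfsg.Agent.Lib.Helper27 Cfsg.FusionSystem in
  have hAb := abIdx_of hS hna hA.1 hA.2.1 hA.2.2
  have e : upperCentralSeries ↥S 2 = Subgroup.upperCentralSeries ↥S 2 := rfl
  rw [e]
  have hPS : P ≤ S := hP.1.1
  by_cases hPA : P = A
  · refine ⟨Or.inl hPA, ?_⟩
    subst hPA
    haveI : Finite P := Finite.of_injective (Subgroup.inclusion hPS) (Subgroup.inclusion_injective hPS)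
    have h1 : S ⊓ Subgroup.normalizer (P : Set Ω) = S := by
      apply inf_eq_left.mpr
      intro s hs
      exact mem_normalizer_of_conj_mem (fun y hy => hAb.conj s hs y hy)
    rw [h1]
    exact hA.2.2
  · refine ⟨Or.inr ?_, essential_index_normalizer hS hF hAb hA.2.2 hP hPA⟩
    have hnle := essential_not_le_abelian hAb hP hPA
    obtain ⟨x, hx, hxA⟩ : ∃ x ∈ P, x ∉ A := by
      by_contra hcon
      push Not at hcon
      exact hnle hcon
    have hdec := hAb.eq_inf_sup_zpowers hPS hx hxA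
    rcases essential_structure hS hF hAb hA.2.2 hP hPA with hab | ⟨hZ₂A, hEq, -⟩
    · left
      refine ⟨x, hPS hx, hxA, ?_⟩
      have h2 : P ⊓ A = S ⊓ Subgroup.centralizer (S : Set Ω) :=
        le_antisymm hab (le_inf (essential_center_le hP) hAb.center_le)
      rw [← h2]
      exact hdec
    · right
      refine ⟨hZ₂A, x, hPS hx, hxA, ?_⟩
      rw [← hEq]
      exact hdec

end Cfsg.Agent.S5254
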