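import Cfsg.Statements.S5265
import Cfsg.Agent.Lib.Helper27.CenterIdxFinal

set_option autoImplicit false
open Cfsg

namespace Cfsg.Agent.S5265

/-- Let p be a prime, S a nontrivial finite p-group whose centre has index at most p², and F a saturated fusion system over S with no nontrivial normal subgroup and with hyperfocal subgroup equal to S. Then S is extraspecial of order p³; for odd p it has exponent p, and for p = 2 it is dihedral of order 8. -/
theorem result {Ω : Type*} [Group Ω] {S : Subgroup Ω} [Finite S] (p : ℕ) [Fact p.Prime] (hS : IsPGroup p ↥S) (F : Cfsg.FusionSystem S) (hF : F.IsSaturated p) (hS1 : S ≠ ⊥) (hcore : F.core = ⊥) (hhyp : F.hyperfocalSubgroup p = S) (hZ : (Subgroup.center ↥S).index ≤ p ^ 2) : Cfsg.IsExtraspecial p ↥S ∧ Nat.card S = p ^ 3 ∧ (p ≠ 2 → Monoid.exponent ↥S = p) ∧ (p = 2 → Nonempty (↥S ≃* DihedralGroup 4)) := by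
  open Cfsg.Agent.Lib.Helper27 Cfsg.FusionSystem in
  have hp : p.Prime := Fact.out
  have h := cIdx_of hS hF hS1 hcore hZ
  by_cases hp2 : p = 2
  · subst hp2
    obtain ⟨w, hw⟩ := h.exists_twoW
    obtain ⟨hZ2, P₁, hG₁, e₁⟩ := h.two_center hF hcore hhyp hw
    have hZeq : S ⊓ Subgroup.centralizer (S : Set Ω) = (commutator ↥S).map S.subtype := by
      apply le_antisymm _ h.commutator_le
      intro z hz
      rcases hZ2 z hz with e | e
      · rw [e]; exact Subgroup.one_mem _
      · rw [e]; exact hw.mem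
    have hZcard : Nat.card ↥(S ⊓ Subgroup.centralizer (S : Set Ω)) = 2 := by
      rw [hZeq]; exact h.card_commutator
    obtain ⟨hE, hcard⟩ := h.isExtraspecial hZcard
    refine ⟨hE, hcard, fun hne => absurd rfl hne, fun _ => ?_⟩
    exact h.two_dihedral hw hZ2 (by rw [hcard]; norm_num) hG₁ e₁
  · obtain ⟨-, hZcard⟩ := h.center_card_of_odd hF hp2 hcore
    obtain ⟨hE, hcard⟩ := h.isExtraspecial hZcard
    refine ⟨hE, hcard, fun _ => ?_, fun he => absurd he hp2⟩
    have hpow := h.pow_eq_one_of_odd hF hp2 hcore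
    have hdvd : Monoid.exponent ↥S ∣ p := by
      apply Monoid.exponent_dvd_of_forall_pow_eq_one
      intro g
      apply Subtype.ext
      rw [Subgroup.coe_pow]
      exact hpow g g.2
    rcases (Nat.dvd_prime hp).mp hdvd with e | e
    · exfalso
      have hsub : Subsingleton ↥S := Monoid.exp_eq_one_iff.mp e
      obtain ⟨s, hs, t, ht, hst⟩ := h.ncomm
      apply hst
      have h1 : (⟨s, hs⟩ : S) = ⟨t, ht⟩ := Subsingleton.elim _ _
      have h2 : s = t := congrArg Subtype.val h1
      rw [h2]
    · exact e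

end Cfsg.Agent.S5265
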