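import Cfsg.Statements.S5271
import Cfsg.Agent.Lib.Helper27.WEE

set_option autoImplicit false
open Cfsg

namespace Cfsg.Agent.S5271

open Cfsg.FusionSystem Cfsg.Agent.Lib.Helper27 Cfsg.Agent.Lib.Helper27.WE

/-- A nilpotency criterion for fusion systems. Let F be a saturated fusion system over a finite p-group S of order at least p². Call a subgroup Q of S weakly embedded in F when there is a subgroup P of S strongly closed in F such that both the product QP and the intersection Q ∩ P are strongly closed in F. Then F is the inner fusion system of S if and only if there is a subgroup D of S with 1 < D < S such that every subgroup of S of the same order as D is weakly embedded in F and, for every fully normalized subgroup H of S of that order, the normalizer fusion system of H in F is the inner fusion system of N_S(H). -/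
theorem result {Ω : Type*} [Group Ω] {S : Subgroup Ω} [Finite S] (p : ℕ) [Fact p.Prime] (hS : IsPGroup p ↥S) (F : Cfsg.FusionSystem S) (hF : F.IsSaturated p) (hcard : p ^ 2 ≤ Nat.card S) : (∀ P : Subgroup Ω, F.Hom P = (Cfsg.innerFusionSystem S).Hom P) ↔ ∃ D : Subgroup Ω, ⊥ < D ∧ D < S ∧ (∀ Q : Subgroup Ω, Q ≤ S → Nat.card ↥Q = Nat.card ↥D → ∃ P : Subgroup Ω, F.StronglyClosed P ∧ F.StronglyClosed (Q ⊔ P) ∧ F.StronglyClosed (Q ⊓ P)) ∧ (∀ H : Subgroup Ω, F.IsFullyNormalized H → Nat.card ↥H = Nat.card ↥D → ∀ N : Cfsg.FusionSystem (Cfsg.FusionSystem.normalizerIn S H), F.IsNormalizerSystem H N → ∀ P : Subgroup Ω, N.Hom P = (Cfsg.innerFusionSystem (Cfsg.FusionSystem.normalizerIn S H)).Hom P) := by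
  have hp : p.Prime := Fact.out
  obtain ⟨a, ha⟩ := hS.exists_card_eq
  have ha2 : 2 ≤ a := by
    rw [ha] at hcard
    exact (Nat.pow_le_pow_iff_right hp.one_lt).mp hcard
  constructor
  · intro hFin
    obtain ⟨b, rfl⟩ : ∃ b, a = b + 1 := ⟨a - 1, by omega⟩
    have hb1 : 1 ≤ b := by omega
    have hone : 1 < p ^ b := Nat.one_lt_pow (by omega) hp.one_lt
    have hne : (⊥ : Subgroup S) ≠ ⊤ := by
      intro h
      have h1 : Nat.card (⊥ : Subgroup S) = Nat.card (⊤ : Subgroup S) := by rw [h]
      rw [Subgroup.card_bot, Subgroup.card_top, ha] at h1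
      have h2 : 1 < p ^ (b + 1) := Nat.one_lt_pow (by omega) hp.one_lt
      omega
    obtain ⟨K, -, hKidx⟩ := Cfsg.Agent.Lib.Helper27.PPow.exists_index_prime_ge hS hne
    have hKc : Nat.card K = p ^ b := by
      have h1 := K.card_mul_index
      rw [hKidx, ha, pow_succ] at h1
      exact Nat.eq_of_mul_eq_mul_right hp.pos h1
    have hDc : Nat.card (K.map S.subtype) = p ^ b := by
      rw [Subgroup.card_map_of_injective S.subtype_injective, hKc]
    have hDS : K.map S.subtype ≤ S := Subgroup.map_subtype_le K
    refine ⟨K.map S.subtype, ?_, ?_, ?_, ?_⟩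
    · rw [bot_lt_iff_ne_bot]
      intro h
      rw [h, Subgroup.card_bot] at hDc
      omega
    · refine lt_of_le_of_ne hDS (fun h => ?_)
      rw [h, ha] at hDc
      have := Nat.pow_right_injective hp.two_le hDc
      omega
    · intro Q hQS hQc
      rw [hDc] at hQc
      have hidx := index_subgroupOf_of_card ha hQS hQc
      have hQsc := sc_of_normal_of_inner hFin hQS (conj_mem_of_index_p hS hQS hidx)
      refine ⟨Q, hQsc, ?_, ?_⟩
      · rw [sup_idem]
        exact hQsc
      · rw [inf_idem]
        exact hQsc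
    · intro H hfn _ N hN P
      exact normalizer_inner_of_inner hFin hfn.1 N hN P
  · rintro ⟨D, hD0, hDS, hW1, hN⟩
    obtain ⟨b, hb⟩ := exists_card_pow hS hDS.le
    have hb0 : 0 < b := by
      rcases Nat.eq_zero_or_pos b with h0 | h0
      · rw [h0, pow_zero] at hb
        exact absurd (Subgroup.card_eq_one.mp hb) hD0.ne'
      · exact h0
    have hba : b < a := by
      have h1 := card_lt_of_lt le_rfl hDS
      rw [hb, ha] at h1
      exact (Nat.pow_lt_pow_iff_right hp.one_lt).mp h1
    refine main p a Ω S hS F hF b hb0 hba ha ?_ ?_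
    · intro Q hQS hQc
      exact hW1 Q hQS (hQc.trans hb.symm)
    · apply W2_of_fullyNormalized hS hF
      intro H hfn hHc Y hHY hYN α hα hpres
      have hHS := hfn.1
      haveI : Finite H := finite_of_le hHS
      obtain ⟨N₀, hN₀⟩ := Cfsg.Agent.S5096.result F H hHS
      have h1 : Y.subtype.comp (α : Y ≃* Y).toMonoidHom ∈ F.normalizerHom H Y :=
        Cfsg.Agent.Lib.Helper27.LG2.mem_normalizerHom_of_preserves F hHY hYN hα hpres
      rw [← hN₀ Y, hN H hfn (hHc.trans hb.symm) N₀ hN₀ Y] at h1
      obtain ⟨-, g, hg, h⟩ := h1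
      obtain ⟨k, hk⟩ := hS ⟨g, hg.1⟩
      refine ⟨k, ?_⟩
      have hgk : g ^ p ^ k = 1 := by
        have := congrArg (fun w : S => (w : Ω)) hk
        simpa using this
      ext y
      have h2 := conj_pow (fun y => h y) (p ^ k) y
      rw [hgk] at h2
      simpa using h2

end Cfsg.Agent.S5271
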