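import Mathlib
import Cfsg.Prelude.Def_FusionSystem
import Cfsg.Agent.Lib.Helper27.FusionPStable
import Cfsg.Agent.Lib.Helper27.FusionOpNormalizer
import Cfsg.Agent.S5096

set_option autoImplicit false
open Cfsg

namespace Cfsg.Agent.S5281

open Cfsg.FusionSystem Cfsg.Agent.Lib.Helper27

section aux

variable {Ω : Type*} [Group Ω] {S : Subgroup Ω}

/-- `Q ≤ R`, `N_S(Q) ≤ N_S(R)` and every `F`-automorphism of `Q` extends to one of `R`. -/
def Good (F : FusionSystem S) (Q R : Subgroup Ω) : Prop :=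
  ∃ hQR : Q ≤ R, R ≤ S ∧ normalizerIn S Q ≤ normalizerIn S R ∧
    ∀ α : Q ≃* Q, IsIso F α →
      ∃ α' : R ≃* R, IsIso F α' ∧ ∀ x : Q, ((α' (Subgroup.inclusion hQR x) : R) : Ω) = α x

theorem good_refl (F : FusionSystem S) {Q : Subgroup Ω} (hQS : Q ≤ S) : Good F Q Q :=
  ⟨le_rfl, hQS, le_rfl, fun α hα => ⟨α, hα, fun _ => rfl⟩⟩

variable [Finite S] {p : ℕ} [Fact p.Prime]

omit [Fact (Nat.Prime p)] in
/-- the conclusion when `R` is fully normalized, centric and radical -/
theorem good_frc {F : FusionSystem S}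
    (H : ∀ R : Subgroup Ω, F.IsFullyNormalized R → F.IsCentric R → F.IsRadical p R →
      ∀ N : FusionSystem (normalizerIn S R), F.IsNormalizerSystem R N →
        ∀ Q : Subgroup Ω, N.IsFullyNormalized Q → PStableAt N p Q)
    {Q R : Subgroup Ω} (hQ : F.IsFullyNormalized Q) (hG : Good F Q R) (hRfn : F.IsFullyNormalized R)
    (hRc : F.IsCentric R) (hRr : F.IsRadical p R) : PStableAt F p Q := by
  obtain ⟨hQR, hRS, hNN, hext⟩ := hG
  obtain ⟨N, hN⟩ := Cfsg.Agent.S5096.result F R hRS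
  have hQNR : Q ≤ normalizerIn S R := le_trans hQR (le_normalizerIn hRS)
  have hNF := normalizerSystem_hom_subset hN
  have hfinN : ∀ X : Subgroup Ω, Finite (normalizerIn S X) := fun X =>
    Finite.of_injective (Subgroup.inclusion (normalizerIn_le_S S X)) (Subgroup.inclusion_injective _)
  have hQNfn : N.IsFullyNormalized Q := by
    refine ⟨hQNR, fun Q' hQQ' => ?_⟩
    have hFconj : F.IsConj Q Q' := by
      obtain ⟨φ, hφ, hr⟩ := hQQ'
      exact ⟨φ, hNF Q hφ, hr⟩
    have h1 : normalizerIn (normalizerIn S R) Q' ≤ normalizerIn S Q' := by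
      intro x hx
      exact ⟨hx.1.1, hx.2⟩
    have h2 : normalizerIn S Q ≤ normalizerIn (normalizerIn S R) Q := by
      intro x hx
      exact ⟨hNN hx, hx.2⟩
    haveI := hfinN Q'
    haveI : Finite (normalizerIn (normalizerIn S R) Q) :=
      Finite.of_injective (Subgroup.inclusion (le_trans inf_le_left (normalizerIn_le_S S R)))
        (Subgroup.inclusion_injective _)
    calc Nat.card (normalizerIn (normalizerIn S R) Q') ≤ Nat.card (normalizerIn S Q') :=
          Subgroup.card_le_of_le h1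
      _ ≤ Nat.card (normalizerIn S Q) := hQ.2 Q' hFconj
      _ ≤ Nat.card (normalizerIn (normalizerIn S R) Q) := Subgroup.card_le_of_le h2
  have h1 : PStableAt N p Q := H R hRfn hRc hRr N hN Q hQNfn
  have hle : F.autGroup Q ≤ N.autGroup Q := by
    unfold FusionSystem.autGroup
    apply Subgroup.closure_mono
    intro α hα
    have hα' : IsIso F (α : Q ≃* Q) := hα
    show Q.subtype.comp α.toMonoidHom ∈ N.Hom Q
    rw [hN Q]
    obtain ⟨α', hα'iso, hα'ext⟩ := hext α hα'
    have hle : Q ⊔ R ≤ R := sup_le hQR le_rfl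
    refine ⟨hα, hQNR, fun x => hQNR (α x).2,
      (R.subtype.comp α'.toMonoidHom).comp (Subgroup.inclusion hle), hom_restrict F hle hα'iso,
      fun x => hα'ext x, ?_⟩
    ext y
    constructor
    · rintro ⟨x, -, rfl⟩
      exact (α' _).2
    · intro hy
      refine ⟨Subgroup.inclusion (le_sup_right : R ≤ Q ⊔ R) (α'.symm ⟨y, hy⟩), ?_, ?_⟩
      · exact Subgroup.mem_subgroupOf.mpr (α'.symm ⟨y, hy⟩).2
      · show ((α' (α'.symm ⟨y, hy⟩) : R) : Ω) = y
        rw [MulEquiv.apply_symm_apply]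
  exact pStableAt_of_autGroup_le hle h1

/-- move the pair `(Q, R)` so that `R` becomes fully normalized -/
theorem good_conj (hS : IsPGroup p S) {F : FusionSystem S} (hF : F.IsSaturated p)
    {Q R : Subgroup Ω} (hQ : F.IsFullyNormalized Q) (hG : Good F Q R) :
    ∃ Q' R' : Subgroup Ω, F.IsConj Q Q' ∧ F.IsFullyNormalized Q' ∧ Good F Q' R' ∧
      F.IsFullyNormalized R' ∧ Nat.card R' = Nat.card R := by
  obtain ⟨hQR, hRS, hNN, hext⟩ := hG
  have hQS : Q ≤ S := hQ.1
  have hfinN : ∀ X : Subgroup Ω, Finite (normalizerIn S X) := fun X =>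
    Finite.of_injective (Subgroup.inclusion (normalizerIn_le_S S X)) (Subgroup.inclusion_injective _)
  obtain ⟨R', hRR', hR'fn⟩ := exists_fullyNormalized_conj F hRS
  have hR'S : R' ≤ S := hR'fn.1
  haveI : Finite R' := Finite.of_injective (Subgroup.inclusion hR'S) (Subgroup.inclusion_injective hR'S)
  obtain ⟨φ, hφ, χe, hχe, hφχ⟩ := exists_hom_normalizerIn_of_fullyNormalized hS hF hR'fn hRR'
  have hφχ' : ∀ x : R, φ ⟨x, le_normalizerIn hRS x.2⟩ = χe x := fun x => hφχ x x.2 _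
  have hQN : Q ≤ normalizerIn S R := le_trans hQR (le_normalizerIn hRS)
  have hφQ : φ.comp (Subgroup.inclusion hQN) ∈ F.Hom Q := hom_restrict F hQN hφ
  obtain ⟨Q', hQ'eq⟩ : ∃ Q' : Subgroup Ω, (φ.comp (Subgroup.inclusion hQN)).range = Q' := ⟨_, rfl⟩
  obtain ⟨e, he, heφ⟩ := exists_isIso_of_hom F hφQ hQ'eq
  have heφ' : ∀ x : Q, ((e x : Q') : Ω) = φ ⟨x, hQN x.2⟩ := fun x => heφ x
  have hQQ' : F.IsConj Q Q' := (isConj_iff F).mpr ⟨e, he⟩
  have hQ'S : Q' ≤ S := isConj_le_right F hQQ'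
  haveI : Finite Q' := Finite.of_injective (Subgroup.inclusion hQ'S) (Subgroup.inclusion_injective hQ'S)
  have hQ'mem : ∀ y ∈ Q', ∃ x : Q, y = φ ⟨x, hQN x.2⟩ := by
    intro y hy
    refine ⟨e.symm ⟨y, hy⟩, ?_⟩
    rw [← heφ', MulEquiv.apply_symm_apply]
  have hQ'R' : Q' ≤ R' := by
    intro y hy
    obtain ⟨x, rfl⟩ := hQ'mem y hy
    have : φ ⟨x, hQN x.2⟩ = χe ⟨x, hQR x.2⟩ := (hφχ' ⟨x, hQR x.2⟩)
    rw [this]
    exact (χe _).2
  -- the image of `N_S(Q)`
  have hNQ' : ∀ n : normalizerIn S R, (n : Ω) ∈ normalizerIn S Q → φ n ∈ normalizerIn S Q' := by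
    intro n hn
    refine ⟨(F.le_of_mem hφ).2 n, mem_normalizer_of_conj_mem ?_⟩
    intro y hy
    obtain ⟨x, rfl⟩ := hQ'mem y hy
    have hx' : (n : Ω) * x * (n : Ω)⁻¹ ∈ Q := conj_mem_of_mem_normalizerIn hn x.2
    have h1 : φ n * φ ⟨x, hQN x.2⟩ * (φ n)⁻¹ = φ ⟨(n : Ω) * x * (n : Ω)⁻¹, hQN hx'⟩ := by
      rw [← map_inv, ← map_mul, ← map_mul]
      rfl
    rw [h1, ← heφ' ⟨_, hx'⟩]
    exact (e _).2
  set M := ((normalizerIn S Q).subgroupOf (normalizerIn S R)).map φ with hMdef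
  have hMle : M ≤ normalizerIn S Q' := by
    rintro _ ⟨n, hn, rfl⟩
    exact hNQ' n (Subgroup.mem_subgroupOf.mp hn)
  have hMcard : Nat.card M = Nat.card (normalizerIn S Q) := by
    rw [hMdef, Subgroup.card_map_of_injective (F.injective_of_mem hφ)]
    exact Nat.card_congr (Subgroup.subgroupOfEquivOfLe hNN).toEquiv
  haveI := hfinN Q'
  have hQ'fn : F.IsFullyNormalized Q' := by
    refine ⟨hQ'S, fun Q'' hQ'' => ?_⟩
    calc Nat.card (normalizerIn S Q'') ≤ Nat.card (normalizerIn S Q) :=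
          hQ.2 Q'' (isConj_trans F hQQ' hQ'')
      _ = Nat.card M := hMcard.symm
      _ ≤ Nat.card (normalizerIn S Q') := Subgroup.card_le_of_le hMle
  have hMeq : M = normalizerIn S Q' := by
    apply Subgroup.eq_of_le_of_card_ge hMle
    rw [hMcard]
    exact hQ.2 Q' hQQ'
  have hNN' : normalizerIn S Q' ≤ normalizerIn S R' := by
    rw [← hMeq]
    rintro _ ⟨n, -, rfl⟩
    exact hom_normalizerIn_mem_normalizerIn hRS hφ hφχ' n
  refine ⟨Q', R', hQQ', hQ'fn, ⟨hQ'R', hR'S, hNN', ?_⟩, hR'fn, ?_⟩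
  · intro α' hα'
    obtain ⟨α₁, hα₁, hα₁ext⟩ := hext (e.trans (α'.trans e.symm)) (he.trans (hα'.trans he.symm))
    refine ⟨χe.symm.trans (α₁.trans χe), hχe.symm.trans (hα₁.trans hχe), fun y => ?_⟩
    -- `y = e x`
    obtain ⟨x, rfl⟩ := e.surjective y
    have h1 : χe (Subgroup.inclusion hQR x) = Subgroup.inclusion hQ'R' (e x) := by
      apply Subtype.ext
      rw [← hφχ']
      exact (heφ' x).symm
    have h2 : χe.symm (Subgroup.inclusion hQ'R' (e x)) = Subgroup.inclusion hQR x := by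
      rw [← h1, MulEquiv.symm_apply_apply]
    have h3 : α₁ (Subgroup.inclusion hQR x) = Subgroup.inclusion hQR (e.symm (α' (e x))) := by
      apply Subtype.ext
      rw [hα₁ext x]
      rfl
    show ((χe (α₁ (χe.symm (Subgroup.inclusion hQ'R' (e x)))) : R') : Ω) = α' (e x)
    rw [h2, h3]
    have h4 : χe (Subgroup.inclusion hQR (e.symm (α' (e x)))) =
        Subgroup.inclusion hQ'R' (e (e.symm (α' (e x)))) := by
      apply Subtype.ext
      rw [← hφχ']
      exact (heφ' _).symm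
    rw [h4, MulEquiv.apply_symm_apply]
    rfl
  · exact (Nat.card_congr χe.toEquiv).symm

/-- enlarge `R` when it is fully normalized but not centric radical -/
theorem good_step (hS : IsPGroup p S) {F : FusionSystem S} (hF : F.IsSaturated p)
    {Q R : Subgroup Ω} (hG : Good F Q R) (hRfn : F.IsFullyNormalized R)
    (hnot : ¬ (F.IsCentric R ∧ F.IsRadical p R)) :
    Good F Q (opNormalizer F p R) ∧ Nat.card R < Nat.card (opNormalizer F p R) := by
  obtain ⟨hQR, hRS, hNN, hext⟩ := hG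
  have hRle : R ≤ opNormalizer F p R := le_opNormalizer hS F hRS
  have hfin : Finite (opNormalizer F p R) :=
    Finite.of_injective (Subgroup.inclusion (opNormalizer_le F p R)) (Subgroup.inclusion_injective _)
  constructor
  · refine ⟨le_trans hQR hRle, opNormalizer_le F p R,
      le_trans hNN (normalizerIn_le_normalizerIn_opNormalizer F p hRS), fun α hα => ?_⟩
    obtain ⟨α', hα', hα'ext⟩ := hext α hα
    obtain ⟨β₂, hβ₂, hβ₂ext⟩ := exists_extension_opNormalizer hS hF hRfn hα'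
    refine ⟨β₂, hβ₂, fun x => ?_⟩
    rw [← hα'ext x, ← hβ₂ext]
    rfl
  · obtain ⟨g, hg, hgR⟩ := exists_mem_opNormalizer_not_mem hS hF hRfn hnot
    refine lt_of_le_of_ne (Subgroup.card_le_of_le hRle) (fun heq => hgR ?_)
    have := Subgroup.eq_of_le_of_card_ge hRle heq.ge
    rw [this]
    exact hg

/-- the induction -/
theorem main (hS : IsPGroup p S) {F : FusionSystem S} (hF : F.IsSaturated p)
    (H : ∀ R : Subgroup Ω, F.IsFullyNormalized R → F.IsCentric R → F.IsRadical p R →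
      ∀ N : FusionSystem (normalizerIn S R), F.IsNormalizerSystem R N →
        ∀ Q : Subgroup Ω, N.IsFullyNormalized Q → PStableAt N p Q) :
    ∀ k : ℕ, ∀ Q R : Subgroup Ω, F.IsFullyNormalized Q → Good F Q R →
      Nat.card S - Nat.card R = k → PStableAt F p Q := by
  intro k
  induction k using Nat.strong_induction_on with
  | _ k ih =>
    intro Q R hQ hG hk
    obtain ⟨Q', R', hconj, hQ'fn, hG', hR'fn, hcard⟩ := good_conj hS hF hQ hG
    by_cases hfrc : F.IsCentric R' ∧ F.IsRadical p R'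
    · exact pStableAt_of_isConj hconj (good_frc H hQ'fn hG' hR'fn hfrc.1 hfrc.2)
    · obtain ⟨hG2, hlt⟩ := good_step hS hF hG' hR'fn hfrc
      have hle : Nat.card (opNormalizer F p R') ≤ Nat.card S :=
        Subgroup.card_le_of_le (opNormalizer_le F p R')
      have hlt' : Nat.card S - Nat.card (opNormalizer F p R') < k := by omega
      exact pStableAt_of_isConj hconj (ih _ hlt' Q' _ hQ'fn hG2 rfl)

end aux

/-- Let p be an odd prime and F a saturated fusion system over a finite p-group S. Call a fusion system E (over any subgroup) p-stable when, for every fully E-normalized subgroup Q and every χ in Aut_E(Q) with χ(a⁻¹)·a·χ(a⁻¹)·χ(χ(a)) = 1 for all a in Q (χ acts quadratically), χ lies in O_p(Aut_E(Q)). Then F is p-stable if and only if the normalizer fusion system of R in F is p-stable for every fully F-normalized, F-centric, F-radical subgroup R of S. -/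
theorem result {Ω : Type*} [Group Ω] {S : Subgroup Ω} [Finite S] (p : ℕ) [Fact p.Prime] (hS : IsPGroup p ↥S) (F : Cfsg.FusionSystem S) (hF : F.IsSaturated p) (hp : p ≠ 2) : (∀ Q : Subgroup Ω, F.IsFullyNormalized Q → ∀ χ : MulAut ↥Q, χ ∈ F.autGroup Q → (∀ a : ↥Q, (χ a⁻¹) * a * (χ a⁻¹) * (χ (χ a)) = 1) → χ ∈ ((Cfsg.pCore p ↥(F.autGroup Q)).map (F.autGroup Q).subtype : Subgroup (MulAut ↥Q))) ↔ ∀ R : Subgroup Ω, F.IsFullyNormalized R → F.IsCentric R → F.IsRadical p R → ∀ N : Cfsg.FusionSystem (Cfsg.FusionSystem.normalizerIn S R), F.IsNormalizerSystem R N → (∀ Q : Subgroup Ω, N.IsFullyNormalized Q → ∀ χ : MulAut ↥Q, χ ∈ N.autGroup Q → (∀ a : ↥Q, (χ a⁻¹) * a * (χ a⁻¹) * (χ (χ a)) = 1) → χ ∈ ((Cfsg.pCore p ↥(N.autGroup Q)).map (N.autGroup Q).subtype : Subgroup (MulAut ↥Q))) := by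
  constructor
  · intro h R _ _ _ N hN Q hQ
    have h' : ∀ Q : Subgroup Ω, F.IsFullyNormalized Q → PStableAt F p Q := h
    have hQS : Q ≤ S := le_trans hQ.1 (normalizerIn_le_S S R)
    exact pStableAt_of_subsystem (normalizerSystem_hom_subset hN) (pStableAt_of_fullyNormalized h' hQS)
  · intro h Q hQ
    exact main hS hF h _ Q Q hQ (good_refl F hQ.1) rfl

end Cfsg.Agent.S5281
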