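import Cfsg.Statements.S5284
import Cfsg.Agent.S5283
import Cfsg.Agent.Lib.Helper27.AbAutMain

set_option autoImplicit false
open Cfsg

namespace Cfsg.Agent.S5284

/-- Let S be a finite abelian p-group. Every saturated fusion system over S is supersoluble (S has a chain of F-strongly closed subgroups from 1 to S with cyclic steps) if and only if the invariants of S are pairwise distinct, that is, S is not isomorphic to a direct product (Z/p^n × Z/p^n) × H with n ≥ 1. -/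
theorem result {Ω : Type*} [Group Ω] {S : Subgroup Ω} [Finite S] (p : ℕ) [Fact p.Prime] (hS : IsPGroup p ↥S) (hab : IsMulCommutative ↥S) : (∀ F : Cfsg.FusionSystem S, F.IsSaturated p → (∃ (m : ℕ) (c : Fin (m + 1) → Subgroup Ω), c 0 = ⊥ ∧ c (Fin.last m) = S ∧ (∀ i : Fin (m + 1), F.StronglyClosed (c i)) ∧ ∀ i : Fin m, c i.castSucc ≤ c i.succ ∧ ∃ x ∈ S, c i.succ = c i.castSucc ⊔ Subgroup.zpowers x)) ↔ ¬ ∃ (n : ℕ) (H : Type) (_ : CommGroup H), 0 < n ∧ Nonempty (↥S ≃* (Multiplicative (ZMod (p ^ n)) × Multiplicative (ZMod (p ^ n))) × H) := by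
  have hcomm' : ∀ a b : ↥S, a * b = b * a := fun a b => hab.is_comm.comm a b
  have hcomm : ∀ s ∈ S, ∀ t ∈ S, s * t = t * s := fun s hs t ht =>
    congrArg Subtype.val (hcomm' ⟨s, hs⟩ ⟨t, ht⟩)
  rw [Cfsg.Agent.S5283.result p hS]
  constructor
  · rintro ⟨_, h2⟩ ⟨n, H, hH, hn, ⟨e⟩⟩
    exact Cfsg.Agent.Lib.Helper27.AbAut.not_pAut_of_square p n hn H e
      ((Cfsg.Agent.Lib.Helper27.AbAut.pAut_iff p ↥S).mpr h2)
  · intro hno
    refine ⟨fun F hF => Cfsg.Agent.Lib.Helper27.AbAut.abelian_resistant hS hcomm hF, ?_⟩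
    exact (Cfsg.Agent.Lib.Helper27.AbAut.pAut_iff p ↥S).mp
      (Cfsg.Agent.Lib.Helper27.AbAut.pAut_of_no_square hcomm' p hS hno)

end Cfsg.Agent.S5284
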