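import Cfsg.Statements.S5287
import Mathlib
import Cfsg.Agent.S5283
import Cfsg.Agent.S5284
import Cfsg.Agent.S3116
import Cfsg.Agent.S3742
import Cfsg.Agent.S1896
import Cfsg.Agent.Lib.Helper21.QuatAut
import Cfsg.Agent.H5.MetaSC2
import Cfsg.Agent.H5.MetaTwo3
import Cfsg.Agent.H5.SupMeta1
import Cfsg.Agent.H5.SupMeta3
import Cfsg.Agent.H5.SupMeta4
import Cfsg.Agent.H5.SupMeta5
import Cfsg.Agent.H5.SupMeta6
import Cfsg.Agent.H5.SupMeta7

set_option autoImplicit false
open Cfsg

namespace Cfsg.Agent.S5287

/-- Let S be a finite metacyclic p-group (an extension of a cyclic group by a cyclic group). Every saturated fusion system over S is supersoluble (S has a chain of F-strongly closed subgroups from 1 to S with cyclic steps) if and only if S is not homocyclic of rank two (isomorphic to Z/p^n × Z/p^n with n ≥ 1) and, when p = 2, S is not dihedral of order at least 4, not quasi-dihedral (semidihedral) and not generalized quaternion of order at least 8. -/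
theorem result {Ω : Type*} [Group Ω] {S : Subgroup Ω} [Finite S] (p : ℕ) [Fact p.Prime] (hS : IsPGroup p ↥S) (hm : Cfsg.IsMetacyclic ↥S) : (∀ F : Cfsg.FusionSystem S, F.IsSaturated p → (∃ (m : ℕ) (c : Fin (m + 1) → Subgroup Ω), c 0 = ⊥ ∧ c (Fin.last m) = S ∧ (∀ i : Fin (m + 1), F.StronglyClosed (c i)) ∧ ∀ i : Fin m, c i.castSucc ≤ c i.succ ∧ ∃ x ∈ S, c i.succ = c i.castSucc ⊔ Subgroup.zpowers x)) ↔ ¬ ((∃ n : ℕ, 0 < n ∧ Nonempty (↥S ≃* Multiplicative (ZMod (p ^ n)) × Multiplicative (ZMod (p ^ n)))) ∨ (p = 2 ∧ ((∃ n : ℕ, 2 ≤ n ∧ Nonempty (↥S ≃* DihedralGroup n)) ∨ Cfsg.IsQuasiDihedral ↥S ∨ (∃ n : ℕ, 2 ≤ n ∧ Nonempty (↥S ≃* QuaternionGroup n))))) := by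
  classical
  have hp : p.Prime := Fact.out
  have hSC : ∀ F : Cfsg.FusionSystem S, F.StronglyClosed S := fun F =>
    ⟨le_rfl, fun R hR φ hφ x => (F.le_of_mem hφ).2 x⟩
  by_cases hab : IsMulCommutative ↥S
  · -- the abelian case: S5284
    rw [Cfsg.Agent.S5284.result p hS hab]
    apply not_congr
    constructor
    · rintro ⟨n, H, iH, hn, ⟨e⟩⟩
      left
      have hfinH : Finite H := by
        apply Finite.of_injective (fun h : H => e.symm (1, h))
        intro a b hab'
        have := e.symm.injective hab'
        simpa using this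
      have hHp : IsPGroup p H := by
        apply hS.of_injective (e.symm.toMonoidHom.comp (MonoidHom.inr _ H))
        intro a b hab'
        have := e.symm.injective hab'
        simpa using this
      have hmX : Cfsg.IsMetacyclic
          ((Multiplicative (ZMod (p ^ n)) × Multiplicative (ZMod (p ^ n))) × H) :=
        Cfsg.Agent.Lib.Helper10.isMetacyclic_of_injective e.symm.toMonoidHom e.symm.injective hm
      have hsub := Cfsg.H5.SupMeta.subsingleton_of_metacyclic_prod hn hHp hmX
      have huniq : Unique H := ⟨⟨1⟩, fun a => Subsingleton.elim _ _⟩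
      exact ⟨n, hn, ⟨e.trans MulEquiv.prodUnique⟩⟩
    · rintro (⟨n, hn, ⟨e⟩⟩ | ⟨rfl, h⟩)
      · exact ⟨n, PUnit, inferInstance, hn, ⟨e.trans MulEquiv.prodUnique.symm⟩⟩
      · rcases h with ⟨n, hn, ⟨e⟩⟩ | hq | ⟨n, hn, ⟨e⟩⟩
        · have hcomm : ∀ a b : DihedralGroup n, a * b = b * a := by
            intro a b
            apply e.symm.injective
            rw [map_mul, map_mul]
            exact hab.is_comm.comm _ _
          have h2 := Cfsg.H5.SupMeta.le_two_of_comm_dihedral hcomm
          obtain rfl : n = 2 := by omega
          refine ⟨1, PUnit, inferInstance, one_pos, ?_⟩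
          rw [pow_one]
          exact ⟨(e.trans Cfsg.H5.SupMeta.dihTwoEquiv).trans MulEquiv.prodUnique.symm⟩
        · exact (Cfsg.H5.SupMeta.not_comm_of_isQuasiDihedral hq
            (fun a b => hab.is_comm.comm a b)).elim
        · exfalso
          have hcomm : ∀ a b : QuaternionGroup n, a * b = b * a := by
            intro a b
            apply e.symm.injective
            rw [map_mul, map_mul]
            exact hab.is_comm.comm _ _
          have h2 := Cfsg.H5.SupMeta.le_one_of_comm_quaternion hcomm
          omega
  · -- the non-abelian case: S5283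
    rw [Cfsg.Agent.S5283.result p hS]
    constructor
    · rintro ⟨hres, hH⟩
      rintro (⟨n, hn, ⟨e⟩⟩ | ⟨rfl, h⟩)
      · apply hab
        refine ⟨⟨fun a b => e.injective ?_⟩⟩
        rw [map_mul, map_mul, mul_comm]
      · have : Fact (Nat.Prime 2) := ⟨Nat.prime_two⟩
        obtain ⟨k, hk⟩ := hS.exists_card_eq
        have hfinal : ∀ F : Cfsg.FusionSystem S, F.IsSaturated 2 → IsPGroup 2 (MulAut ↥S) →
            (¬ ∀ P : Subgroup Ω, F.Hom P = (Cfsg.innerFusionSystem S).Hom P) → False := by
          intro F hF hA2 hni
          exact hni (Cfsg.H5.SupMeta.hom_eq_inner_of_isNormal_top hS hF (hres F hF) hA2)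
        rcases h with ⟨n, hn, ⟨e⟩⟩ | hq | ⟨n, hn, ⟨e⟩⟩
        · -- dihedral
          have hn3 : 3 ≤ n := by
            by_contra hcon
            obtain rfl : n = 2 := by omega
            apply hab
            refine ⟨⟨fun a b => (e.trans Cfsg.H5.SupMeta.dihTwoEquiv).injective ?_⟩⟩
            rw [map_mul, map_mul, mul_comm]
          have hcard : 2 * n = 2 ^ k := by
            rw [← hk, Nat.card_congr e.toEquiv, DihedralGroup.nat_card]
          have hk3 : 3 ≤ k := by
            by_contra hcon
            have : 2 ^ k ≤ 2 ^ 2 := Nat.pow_le_pow_right (by norm_num) (by omega)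
            omega
          obtain ⟨j, rfl⟩ : ∃ j, n = 2 ^ (j + 2) := by
            refine ⟨k - 3, ?_⟩
            have h1 : k = (k - 3 + 2) + 1 := by omega
            rw [h1, pow_succ] at hcard
            omega
          have hA2 : IsPGroup 2 (MulAut ↥S) :=
            Cfsg.Agent.S3116.result hS (Or.inl ⟨2 ^ (j + 2), by
              calc 4 = 2 ^ 2 := by norm_num
                _ ≤ 2 ^ (j + 2) := Nat.pow_le_pow_right (by norm_num) (by omega), ⟨e⟩⟩)
          obtain ⟨F, hF, hni⟩ := Cfsg.H5.SupMeta.exists_not_inner_dihedral j e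
          exact hfinal F hF hA2 hni
        · -- quasi-dihedral
          have hA2 : IsPGroup 2 (MulAut ↥S) := Cfsg.Agent.S3116.result hS (Or.inr hq)
          obtain ⟨F, hF, hni⟩ := Cfsg.H5.SupMeta.exists_not_inner_quasidihedral hq
          exact hfinal F hF hA2 hni
        · -- quaternion
          have hn0 : NeZero n := ⟨by omega⟩
          have hcard : 4 * n = 2 ^ k := by
            rw [← hk, Nat.card_congr e.toEquiv, Nat.card_eq_fintype_card, QuaternionGroup.card]
          have hk3 : 3 ≤ k := by
            by_contra hcon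
            have : 2 ^ k ≤ 2 ^ 2 := Nat.pow_le_pow_right (by norm_num) (by omega)
            omega
          obtain ⟨j, rfl⟩ : ∃ j, n = 2 ^ (j + 1) := by
            refine ⟨k - 3, ?_⟩
            have h1 : k = (k - 3 + 1) + 2 := by omega
            rw [h1, pow_add] at hcard
            omega
          rcases Nat.eq_zero_or_pos j with rfl | hj
          · -- the quaternion group of order eight: an automorphism of order three
            obtain ⟨ψ⟩ := Cfsg.Agent.S3742.result
            have hτ : orderOf (Equiv.swap (0 : Fin 4) 1 * Equiv.swap (1 : Fin 4) 2) = 3 := by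
              apply orderOf_eq_prime
              · decide
              · decide
            have hσ : orderOf ((MulAut.congr e).symm (ψ.symm
                (Equiv.swap (0 : Fin 4) 1 * Equiv.swap (1 : Fin 4) 2))) = 3 := by
              rw [MulEquiv.orderOf_eq, MulEquiv.orderOf_eq, hτ]
            have hcop : (Nat.card ↥(Subgroup.zpowers ((MulAut.congr e).symm (ψ.symm
                (Equiv.swap (0 : Fin 4) 1 * Equiv.swap (1 : Fin 4) 2))))).Coprime 2 := by
              rw [Nat.card_zpowers, hσ]
              norm_num
            have h1 := (hH _ hcop).2 _ (Subgroup.mem_zpowers _)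
            rw [show 2 - 1 = 1 from rfl, pow_one] at h1
            rw [h1, orderOf_one] at hσ
            omega
          · obtain ⟨i, rfl⟩ : ∃ i, j = i + 1 := ⟨j - 1, by omega⟩
            have hA2 : IsPGroup 2 (MulAut ↥S) :=
              (Cfsg.Agent.Lib.Helper21.QuatAut.isPGroup_mulAut_quaternion (i + 1 + 1) (by omega)).of_equiv
                (MulAut.congr e).symm
            obtain ⟨F, hF, hni⟩ := Cfsg.H5.SupMeta.exists_not_inner_quaternion i e
            exact hfinal F hF hA2 hni
    · intro hlist
      have hcardpos : 0 < Nat.card ↥S := Nat.card_pos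
      refine ⟨fun F hF => ?_, fun H hcop => ?_⟩
      · -- resistance
        by_cases hp2 : p = 2
        · subst hp2
          apply Cfsg.H5.MetaTwo.isNormal_of_metacyclic_two hS hF (hSC F) hm
          rintro (⟨m, ⟨e⟩⟩ | ⟨m, ⟨e⟩⟩ | hq)
          · have hcard : Nat.card ↥S = 2 * m := by
              rw [Nat.card_congr e.toEquiv, DihedralGroup.nat_card]
            by_cases hm2 : 2 ≤ m
            · exact hlist (Or.inr ⟨rfl, Or.inl ⟨m, hm2, ⟨e⟩⟩⟩)
            · obtain rfl : m = 1 := by omega
              apply hab
              refine ⟨⟨fun a b => e.injective ?_⟩⟩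
              rw [map_mul, map_mul]
              generalize e a = a'
              generalize e b = b'
              revert a' b'
              decide
          · by_cases hm2 : 2 ≤ m
            · exact hlist (Or.inr ⟨rfl, Or.inr (Or.inr ⟨m, hm2, ⟨e⟩⟩)⟩)
            · rcases Nat.eq_zero_or_pos m with rfl | hm0
              · have hinf : Infinite (QuaternionGroup 0) :=
                  Infinite.of_injective (fun z : ℤ => (QuaternionGroup.a z : QuaternionGroup 0))
                    (fun a b h => QuaternionGroup.a.inj h)
                have : Infinite ↥S := Infinite.of_injective e.symm e.symm.injective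
                exact not_finite ↥S
              · obtain rfl : m = 1 := by omega
                apply hab
                have := QuaternionGroup.quaternionGroup_one_isCyclic
                let _ := IsCyclic.commGroup (α := QuaternionGroup 1)
                refine ⟨⟨fun a b => e.injective ?_⟩⟩
                rw [map_mul, map_mul, mul_comm]
          · exact hlist (Or.inr ⟨rfl, Or.inr (Or.inl hq)⟩)
        · exact Cfsg.H5.MetaSC.isNormal_of_metacyclic hp2 hS hF (hSC F) hm
      · -- subgroups of order prime to `p` of the automorphism group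
        by_cases hp2 : p = 2
        · subst hp2
          have : Fact (Nat.Prime 2) := ⟨Nat.prime_two⟩
          have hA2 : IsPGroup 2 (MulAut ↥S) := by
            by_contra hA
            rcases Cfsg.Agent.S1896.result hS hm hA with ⟨⟨e⟩⟩ | ⟨n, ⟨e⟩⟩
            · exact hlist (Or.inr ⟨rfl, Or.inr (Or.inr ⟨2, le_rfl, ⟨e⟩⟩)⟩)
            · apply hab
              refine ⟨⟨fun a b => e.injective ?_⟩⟩
              rw [map_mul, map_mul, mul_comm]
          have hone : ∀ h ∈ H, h = 1 := by
            intro h hh
            obtain ⟨k, hk⟩ := hA2 h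
            have h1 : orderOf h ∣ 2 ^ k := orderOf_dvd_of_pow_eq_one hk
            have h2 : orderOf h ∣ Nat.card H := by
              have := orderOf_dvd_natCard (⟨h, hh⟩ : H)
              rwa [Subgroup.orderOf_mk] at this
            have h3 : (orderOf h).Coprime (2 ^ k) :=
              Nat.Coprime.pow_right k (Nat.Coprime.coprime_dvd_left h2 hcop)
            have h4 : orderOf h = 1 := Nat.Coprime.eq_one_of_dvd h3 h1
            exact orderOf_eq_one_iff.mp h4
          refine ⟨⟨⟨fun a b => ?_⟩⟩, fun h hh => ?_⟩
          · have ha : a = 1 := Subtype.ext (hone a a.2)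
            rw [ha, one_mul, mul_one]
          · rw [hone h hh, one_pow]
        · exact Cfsg.H5.SupMeta.comm_exp_of_metacyclic_odd hp2 hS hm hab H hcop

end Cfsg.Agent.S5287
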