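import Cfsg.Statements.S5290
import Cfsg.Agent.Lib.Helper27.FusionNormal
import Cfsg.Agent.Lib.Helper27.FusionNormalCrit
import Cfsg.Agent.Lib.Helper27.FusionUCS

set_option autoImplicit false
open Cfsg

namespace Cfsg.Agent.S5290

open Cfsg.FusionSystem Cfsg.Agent.Lib.Helper27

/-- Let F be a saturated fusion system over a finite p-group S and Q a subgroup of S. Then Q is normal in F (F = N_F(Q)) if and only if the inner fusion system of Q, consisting of the conjugations by elements of Q on subgroups of Q, is a weakly normal subsystem of F (both saturated, Q strongly closed, invariant under F-conjugation, with the Frattini property). -/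
theorem result {Ω : Type*} [Group Ω] {S : Subgroup Ω} [Finite S] (p : ℕ) [Fact p.Prime] (hS : IsPGroup p S)
    (F : Cfsg.FusionSystem S) (hF : F.IsSaturated p)
    (Q : Subgroup Ω) (hQ : Q ≤ S) :
    F.IsNormal Q ↔ (Cfsg.innerFusionSystem Q).IsWeaklyNormalIn F p := by
  haveI : Finite Q := Finite.of_injective (Subgroup.inclusion hQ) (Subgroup.inclusion_injective hQ)
  have hpQ : IsPGroup p Q := hS.of_injective (Subgroup.inclusion hQ) (Subgroup.inclusion_injective hQ)
  constructor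
  · intro hQn
    refine ⟨inner_isSaturated hpQ, hF, ?_, normal_stronglyClosed hQn, ?_, ?_⟩
    · rintro P φ ⟨hP, g, hg, h⟩
      have : φ = conjHom P g := by
        ext x
        rw [h x]; rfl
      rw [this]
      exact F.conj_mem (le_trans hP hQ) (hQ hg)
    · rintro P hPQ φ ⟨-, g, hg, h⟩ α -
      have hle : (P.subgroupOf Q).map (Q.subtype.comp α.toMonoidHom) ≤ Q := by
        rintro _ ⟨y, -, rfl⟩
        exact (α y).2
      refine ⟨conjHom _ ((α ⟨g, hg⟩ : Q) : Ω), ⟨hle, _, (α ⟨g, hg⟩).2, fun y => rfl⟩, ?_⟩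
      intro x hφx hαx
      have h1 : (⟨φ x, hφx⟩ : Q) = ⟨g, hg⟩ * ⟨x, hPQ x.2⟩ * ⟨g, hg⟩⁻¹ := Subtype.ext (h x)
      rw [h1, map_mul, map_mul, map_inv]
      rfl
    · intro P hPQ φ hφ
      obtain ⟨ψ, -, hψφ, α, hα, hαψ⟩ := normal_exists_extension hQn hφ
      refine ⟨α, (mem_autGroup_iff F hQ α).mpr hα, P.subtype, ⟨hPQ, 1, Q.one_mem, fun x => by simp⟩, ?_⟩
      intro x hx
      rw [← hψφ x, hαψ]
      rfl
  · rintro ⟨-, -, -, hsc, -, hfrat⟩
    obtain ⟨n, hn⟩ := exists_ucs_eq hpQ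
    refine isNormal_of_central_series hS hF hsc (ucs Q) n (ucs_zero Q) hn (fun j _ => ucs_le Q j) ?_
      (fun j _ x hx q hq => ucs_comm_mem Q j hx hq)
    intro j _
    apply ucs_weaklyClosed F hQ
    intro φ hφ
    obtain ⟨α, -, φ₀, ⟨-, g, hg, hφ₀⟩, h⟩ := hfrat (ucs Q j) (ucs_le Q j) φ hφ
    refine ⟨(MulAut.conj (⟨g, hg⟩ : Q) : Q ≃* Q).trans α, fun x => ?_⟩
    have hx : φ₀ x ∈ Q := by
      rw [hφ₀ x]
      exact Q.mul_mem (Q.mul_mem hg (ucs_le Q j x.2)) (Q.inv_mem hg)
    rw [h x hx]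
    simp only [MulEquiv.trans_apply]
    congr 2
    apply Subtype.ext
    exact hφ₀ x

end Cfsg.Agent.S5290
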