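import Cfsg.Statements.S5291
import Cfsg.Agent.Lib.Helper27.FusionConstrained

set_option autoImplicit false
open Cfsg

namespace Cfsg.Agent.S5291

open Cfsg.FusionSystem Cfsg.Agent.Lib.Helper27

variable {Ω : Type*} [Group Ω] {S : Subgroup Ω}

theorem isNormal_sSup [Finite S] (F : Cfsg.FusionSystem S) {𝒜 : Set (Subgroup Ω)}
    (h : ∀ A ∈ 𝒜, F.IsNormal A) : F.IsNormal (sSup 𝒜) := by
  have hfin : 𝒜.Finite := (Cfsg.Agent.H26.finite_setOf_le S).subset (fun A hA => (h A hA).1)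
  induction 𝒜, hfin using Set.Finite.induction_on with
  | empty =>
    rw [sSup_empty]
    exact Cfsg.Agent.H26.Fus.isNormal_bot F
  | @insert a s _ _ ih =>
    rw [sSup_insert]
    exact Cfsg.Agent.H26.Fus.isNormal_sup F (h a (Set.mem_insert a s))
      (ih (fun A hA => h A (Set.mem_insert_of_mem a hA)))

/-- The image of `A ≤ T` under an automorphism of `T`. -/
def imgT {T : Subgroup Ω} (α : MulAut T) (A : Subgroup Ω) : Subgroup Ω :=
  (A.subgroupOf T).map (T.subtype.comp α.toMonoidHom)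

theorem mem_imgT {T : Subgroup Ω} (α : MulAut T) (A : Subgroup Ω) {y : Ω} :
    y ∈ imgT α A ↔ ∃ x : T, (x : Ω) ∈ A ∧ ((α x : T) : Ω) = y := by
  unfold imgT
  rw [Cfsg.Agent.H26.mem_map_subgroupOf]
  rfl

theorem imgT_le {T : Subgroup Ω} (α : MulAut T) (A : Subgroup Ω) : imgT α A ≤ T := by
  intro y hy
  obtain ⟨x, -, rfl⟩ := (mem_imgT α A).mp hy
  exact (α x).2

theorem imgT_mono {T : Subgroup Ω} (α : MulAut T) {A B : Subgroup Ω} (h : A ≤ B) : imgT α A ≤ imgT α B := by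
  intro y hy
  obtain ⟨x, hx, rfl⟩ := (mem_imgT α A).mp hy
  exact (mem_imgT α B).mpr ⟨x, h hx, rfl⟩

/-- Transport of strongly closed subgroups of an invariant subsystem by `Aut_F(T)`. -/
theorem stronglyClosed_imgT {T : Subgroup Ω} {E : Cfsg.FusionSystem T} {F : Cfsg.FusionSystem S}
    (hE : E.IsInvariantIn F) {A : Subgroup Ω} (hA : E.StronglyClosed A) {α : MulAut T}
    (hα : α ∈ F.autGroup T) : E.StronglyClosed (imgT α A) := by
  obtain ⟨-, -, hinv, -⟩ := hE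
  refine ⟨imgT_le α A, fun P hP φ hφ x => ?_⟩
  have hPT : P ≤ T := hP.trans (imgT_le α A)
  obtain ⟨χ, hχ, hχφ⟩ := hinv P hPT φ hφ α⁻¹ (Subgroup.inv_mem _ hα)
  have hle : (P.subgroupOf T).map (T.subtype.comp (α⁻¹ : MulAut T).toMonoidHom) ≤ A := by
    intro y hy
    obtain ⟨z, hz, rfl⟩ := (mem_imgT α⁻¹ P).mp hy
    obtain ⟨a, ha, haz⟩ := (mem_imgT α A).mp (hP hz)
    have : z = α a := Subtype.ext haz.symm
    rw [this]
    simpa using ha
  have hφxT : φ x ∈ T := (E.le_of_mem hφ).2 x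
  have hαx : (((α⁻¹ : MulAut T) ⟨x, hPT x.2⟩ : T) : Ω) ∈
      (P.subgroupOf T).map (T.subtype.comp (α⁻¹ : MulAut T).toMonoidHom) :=
    (mem_imgT α⁻¹ P).mpr ⟨⟨x, hPT x.2⟩, x.2, rfl⟩
  have h1 := hA.2 _ hle χ hχ ⟨_, hαx⟩
  rw [hχφ x hφxT hαx] at h1
  rw [mem_imgT]
  refine ⟨(α⁻¹ : MulAut T) ⟨φ x, hφxT⟩, h1, ?_⟩
  simp

theorem isNormal_imgT {p : ℕ} [Fact p.Prime] {T : Subgroup Ω} [Finite T] (hT : IsPGroup p T)
    {E : Cfsg.FusionSystem T} (hEsat : E.IsSaturated p) {F : Cfsg.FusionSystem S} (hE : E.IsInvariantIn F)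
    {R : Subgroup Ω} (hR : E.IsNormal R) {α : MulAut T} (hα : α ∈ F.autGroup T) :
    E.IsNormal (imgT α R) := by
  have hRT : R ≤ T := hR.1
  haveI : Finite R := Finite.of_injective (Subgroup.inclusion hRT) (Subgroup.inclusion_injective hRT)
  have hRp : IsPGroup p R := hT.of_injective (Subgroup.inclusion hRT) (Subgroup.inclusion_injective hRT)
  obtain ⟨n, hn⟩ := exists_ucs_eq hRp
  have hsc : ∀ j, E.StronglyClosed (imgT α (ucs R j)) := fun j =>
    stronglyClosed_imgT hE (ucs_stronglyClosed_of_normal hR j) hα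
  have hscR : E.StronglyClosed (imgT α R) := by
    have := hsc n
    rwa [hn] at this
  refine isNormal_of_central_series hT hEsat hscR (fun j => imgT α (ucs R j)) n ?_ ?_ ?_ ?_ ?_
  · show imgT α (ucs R 0) = ⊥
    rw [ucs_zero, eq_bot_iff]
    intro y hy
    obtain ⟨x, hx, rfl⟩ := (mem_imgT α ⊥).mp hy
    have : x = 1 := Subtype.ext (Subgroup.mem_bot.mp hx)
    rw [this, map_one]
    exact Subgroup.one_mem _
  · show imgT α (ucs R n) = imgT α R
    rw [hn]
  · intro j _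
    exact imgT_mono α (ucs_le R j)
  · intro j _
    exact weaklyClosed_of_stronglyClosed (hsc j)
  · intro j _ x hx q hq
    obtain ⟨x₀, hx₀, rfl⟩ := (mem_imgT α _).mp hx
    obtain ⟨q₀, hq₀, rfl⟩ := (mem_imgT α _).mp hq
    show _ ∈ imgT α (ucs R j)
    rw [mem_imgT]
    refine ⟨x₀ * q₀ * x₀⁻¹ * q₀⁻¹, ucs_comm_mem R j hx₀ hq₀, ?_⟩
    simp

/-- Let F be a saturated fusion system over a finite p-group S and E a weakly normal subsystem of F over a subgroup T. Suppose a subgroup R of T is normal in E (E = N_E(R)), and let R* be the subgroup of T generated by the images of R under all maps of F with source R. Then R* is normal in F (F = N_F(R*)). -/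
theorem result {Ω : Type*} [Group Ω] {S : Subgroup Ω} [Finite S] (p : ℕ) [Fact p.Prime] (hS : IsPGroup p S)
    (F : Cfsg.FusionSystem S) (hF : F.IsSaturated p)
    {T : Subgroup Ω} (E : Cfsg.FusionSystem T) (hE : E.IsWeaklyNormalIn F p)
    (R : Subgroup Ω) (hR : E.IsNormal R) :
    F.IsNormal (Subgroup.closure {x : Ω | ∃ φ ∈ F.Hom R, ∃ r : R, x = φ r}) := by
  obtain ⟨hEsat, -, hEinv⟩ := hE
  have hEinv' := hEinv
  obtain ⟨hEF, hTsc, hinv, hfrat⟩ := hEinv
  have hTS : T ≤ S := hTsc.1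
  have hRT : R ≤ T := hR.1
  haveI : Finite T := Finite.of_injective (Subgroup.inclusion hTS) (Subgroup.inclusion_injective hTS)
  have hTp : IsPGroup p T := hS.of_injective (Subgroup.inclusion hTS) (Subgroup.inclusion_injective hTS)
  have hRsc : E.StronglyClosed R := normal_stronglyClosed hR
  set Rs : Subgroup Ω := Subgroup.closure {x : Ω | ∃ φ ∈ F.Hom R, ∃ r : R, x = φ r} with hRs
  -- R* is the join of the images of R under Aut_F(T)
  have hRs_eq : Rs = sSup {A : Subgroup Ω | ∃ α ∈ F.autGroup T, A = imgT α R} := by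
    apply le_antisymm
    · rw [hRs, Subgroup.closure_le]
      rintro _ ⟨φ, hφ, r, rfl⟩
      obtain ⟨α, hα, φ₀, hφ₀, hφφ₀⟩ := hfrat R hRT φ hφ
      have h1 : φ₀ r ∈ R := hRsc.2 R le_rfl φ₀ hφ₀ r
      have h2 : φ₀ r ∈ T := hRT h1
      have h3 : φ r ∈ imgT α R := by
        rw [hφφ₀ r h2, mem_imgT]
        exact ⟨⟨φ₀ r, h2⟩, h1, rfl⟩
      have h4 : imgT α R ≤ sSup {A : Subgroup Ω | ∃ α ∈ F.autGroup T, A = imgT α R} :=
        le_sSup ⟨α, hα, rfl⟩
      exact h4 h3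
    · apply sSup_le
      rintro _ ⟨α, hα, rfl⟩
      intro y hy
      obtain ⟨x, hx, rfl⟩ := (mem_imgT α R).mp hy
      have hαiso : IsIso F (α : T ≃* T) := (mem_autGroup_iff F hTS α).mp hα
      have hres := hom_restrict F hRT hαiso
      apply Subgroup.subset_closure
      exact ⟨_, hres, ⟨x, hx⟩, rfl⟩
  -- R* is normal in E
  have hRsE : E.IsNormal Rs := by
    rw [hRs_eq]
    apply isNormal_sSup
    rintro _ ⟨α, hα, rfl⟩
    exact isNormal_imgT hTp hEsat hEinv' hR hα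
  have hRsT : Rs ≤ T := hRsE.1
  have hRsS : Rs ≤ S := hRsT.trans hTS
  haveI : Finite Rs := Finite.of_injective (Subgroup.inclusion hRsS) (Subgroup.inclusion_injective hRsS)
  have hRsp : IsPGroup p Rs := hS.of_injective (Subgroup.inclusion hRsS) (Subgroup.inclusion_injective hRsS)
  -- R* is invariant under Aut_F(T)
  have hRs_inv : ∀ α ∈ F.autGroup T, ∀ x : T, (x : Ω) ∈ Rs → ((α x : T) : Ω) ∈ Rs := by
    intro α hα
    have hαiso : IsIso F (α : T ≃* T) := (mem_autGroup_iff F hTS α).mp hα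
    have hle : Rs ≤ ((Rs.subgroupOf T).comap (α : T ≃* T).toMonoidHom).map T.subtype := by
      rw [hRs, Subgroup.closure_le]
      rintro _ ⟨φ, hφ, r, rfl⟩
      have hφT : φ r ∈ T := hTsc.2 R hRT φ hφ r
      refine ⟨⟨φ r, hφT⟩, ?_, rfl⟩
      show (α ⟨φ r, hφT⟩ : T) ∈ Rs.subgroupOf T
      rw [Subgroup.mem_subgroupOf]
      apply Subgroup.subset_closure
      have hφT' : ∀ x : R, φ x ∈ T := fun x => hTsc.2 R hRT φ hφ x
      exact ⟨_, F.comp_mem hφ hαiso hφT', r, rfl⟩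
    intro x hx
    obtain ⟨y, hy, hyx⟩ := hle hx
    have : y = x := Subtype.ext hyx
    rw [← this]
    exact Subgroup.mem_subgroupOf.mp hy
  -- R* is strongly closed in F
  have hRsEsc : E.StronglyClosed Rs := normal_stronglyClosed hRsE
  have hRsF : F.StronglyClosed Rs := by
    refine ⟨hRsS, fun P hP φ hφ x => ?_⟩
    obtain ⟨α, hα, φ₀, hφ₀, hφφ₀⟩ := hfrat P (hP.trans hRsT) φ hφ
    have h1 : φ₀ x ∈ Rs := hRsEsc.2 P hP φ₀ hφ₀ x
    have h2 : φ₀ x ∈ T := hRsT h1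
    rw [hφφ₀ x h2]
    exact hRs_inv α hα ⟨φ₀ x, h2⟩ h1
  -- the central series
  obtain ⟨n, hn⟩ := exists_ucs_eq hRsp
  refine isNormal_of_central_series hS hF hRsF (fun j => ucs Rs j) n (ucs_zero Rs) hn
    (fun j _ => ucs_le Rs j) ?_ (fun j _ x hx q hq => ucs_comm_mem Rs j hx hq)
  intro j _
  apply ucs_weaklyClosed F hRsS j
  intro φ hφ
  have hPle : ucs Rs j ≤ Rs := ucs_le Rs j
  obtain ⟨α, hα, φ₀, hφ₀, hφφ₀⟩ := hfrat (ucs Rs j) (hPle.trans hRsT) φ hφ
  obtain ⟨ψ, -, hψφ₀, γ, -, hγψ⟩ := normal_exists_extension hRsE hφ₀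
  have hαiso : IsIso F (α : T ≃* T) := (mem_autGroup_iff F hTS α).mp hα
  obtain ⟨α', -, hα'⟩ := exists_aut_restrict F hRsT hαiso (fun x hx => hRs_inv α hα x hx)
  refine ⟨γ.trans α', fun x => ?_⟩
  have h1 : φ₀ x = ((γ ⟨x, hPle x.2⟩ : Rs) : Ω) := by
    rw [← hψφ₀ x, hγψ]
    congr 1
  have h2 : φ₀ x ∈ T := by rw [h1]; exact hRsT (γ _).2
  rw [hφφ₀ x h2]
  simp only [MulEquiv.trans_apply]
  rw [hα']
  simp only [MonoidHom.coe_comp, Function.comp_apply, Subgroup.coe_subtype, MulEquiv.coe_toMonoidHom]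
  congr 2
  exact Subtype.ext h1

end Cfsg.Agent.S5291
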