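import Cfsg.Statements.S5294
import Cfsg.Agent.Lib.Helper27.FusionNormal
import Cfsg.Agent.Lib.Helper27.TransferComplement

set_option autoImplicit false
universe u
open Cfsg

namespace Cfsg.Agent.S5294

open Cfsg.FusionSystem Cfsg.Agent.Lib.Helper27
open scoped IsMulCommutative

/-- Let F be a saturated fusion system over a finite p-group S whose centre Z(S) lies in the largest subgroup O_p(F) normal in F. Then the centre Z(F) of F is a direct factor of Z(S): there is a subgroup K of Z(S) with Z(F) ∩ K = 1 and Z(F)K = Z(S). -/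
theorem result {Ω : Type u} [Group Ω] {S : Subgroup Ω} [Finite S] (p : ℕ) [Fact p.Prime] (hS : IsPGroup p S)
    (F : Cfsg.FusionSystem S) (hF : F.IsSaturated p) (hZ : (S ⊓ Subgroup.centralizer (S : Set Ω)) ≤ F.core) :
    ∃ K : Subgroup Ω, K ≤ (S ⊓ Subgroup.centralizer (S : Set Ω)) ∧ F.center ⊓ K = ⊥ ∧ F.center ⊔ K = (S ⊓ Subgroup.centralizer (S : Set Ω)) := by
  set Q : Subgroup Ω := F.core with hQdef
  have hQn : F.IsNormal Q := isNormal_core F
  have hQS : Q ≤ S := hQn.1
  haveI : Finite Q := Finite.of_injective (Subgroup.inclusion hQS) (Subgroup.inclusion_injective hQS)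
  have hQwc : F.WeaklyClosed Q := normal_weaklyClosed hQn
  set A : Subgroup (MulAut Q) := F.autGroup Q with hA
  obtain ⟨-, R, hR⟩ := weaklyClosed_isFullyAutomized hF hQwc
  have hAmem : ∀ α : MulAut Q, α ∈ A ↔ IsIso F (α : Q ≃* Q) := fun α => mem_autGroup_iff F hQS α
  -- the module
  let ρ : A →* MulAut (Subgroup.center Q) := (MulAut.characteristic (Subgroup.center Q)).comp A.subtype
  have hρ : ∀ (a : A) (w : Subgroup.center Q), (((ρ a) w : Subgroup.center Q) : Q) = (a : MulAut Q) (w : Q) :=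
    fun a w => rfl
  let ι : Subgroup.center Q →* Ω := Q.subtype.comp (Subgroup.center Q).subtype
  have hι : Function.Injective ι := Q.subtype_injective.comp (Subgroup.center Q).subtype_injective
  have hcop : Nat.Coprime (R : Subgroup A).index (Nat.card (Subgroup.center Q)) := by
    have hpW : IsPGroup p (Subgroup.center Q) := by
      have hpQ : IsPGroup p Q := hS.of_injective (Subgroup.inclusion hQS) (Subgroup.inclusion_injective hQS)
      exact hpQ.to_subgroup _
    obtain ⟨k, hk⟩ := IsPGroup.iff_card.mp hpW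
    rw [hk]
    apply Nat.Coprime.pow_right
    exact ((Nat.Prime.coprime_iff_not_dvd Fact.out).mpr R.not_dvd_index).symm
  obtain ⟨K₀, hK₀le, hK₀inf, hK₀sup⟩ := exists_complement_fixed ρ (R : Subgroup A) hcop
  -- elements of Z(S) give elements of the module
  have hZS : ∀ z ∈ S ⊓ Subgroup.centralizer (S : Set Ω), ∃ w : Subgroup.center Q, ι w = z := by
    intro z hz
    have hzQ : z ∈ Q := hZ hz
    have hzc : (⟨z, hzQ⟩ : Q) ∈ Subgroup.center Q := by
      rw [Subgroup.mem_center_iff]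
      intro g
      apply Subtype.ext
      exact Subgroup.mem_centralizer_iff.mp hz.2 g (hQS g.2)
    exact ⟨⟨⟨z, hzQ⟩, hzc⟩, rfl⟩
  -- conjugation by elements of S as automorphisms of Q
  have hconj : ∀ s ∈ S, ∃ a : A, (a : MulAut Q) ∈ autInducedBy S Q ∧ ∀ x : Q, (((a : MulAut Q) x : Q) : Ω) = s * x * s⁻¹ := by
    intro s hs
    have h1 : conjHom Q s ∈ F.Hom Q := F.conj_mem hQS hs
    obtain ⟨e, he, hex⟩ := exists_isIso_of_hom F h1 (hQwc.2 _ h1)
    refine ⟨⟨e, (hAmem e).mpr he⟩, ?_, fun x => hex x⟩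
    rw [mem_autInducedBy_iff]
    exact ⟨s, hs, fun x => hex x⟩
  -- Claim 2
  have hclaim2 : (fixedOf ρ (R : Subgroup A)).map ι = S ⊓ Subgroup.centralizer (S : Set Ω) := by
    apply le_antisymm
    · rintro _ ⟨w, hw, rfl⟩
      refine ⟨hQS (w : Q).2, ?_⟩
      show ι w ∈ Subgroup.centralizer (S : Set Ω)
      rw [Subgroup.mem_centralizer_iff]
      intro s hs
      obtain ⟨a, ha1, ha2⟩ := hconj s hs
      have haR : a ∈ (R : Subgroup A) := by
        rw [hR]
        exact ha1
      have h1 := hw a haR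
      have h2 : (((ρ a) w : Subgroup.center Q) : Q) = (w : Q) := by rw [h1]
      rw [hρ] at h2
      have h3 := ha2 (w : Q)
      rw [h2] at h3
      show s * ((w : Q) : Ω) = ((w : Q) : Ω) * s
      calc s * ((w : Q) : Ω) = (s * ((w : Q) : Ω) * s⁻¹) * s := by simp
        _ = ((w : Q) : Ω) * s := by rw [← h3]
    · intro z hz
      obtain ⟨w, rfl⟩ := hZS z hz
      refine ⟨w, ?_, rfl⟩
      intro a ha
      have ha' : (a : MulAut Q) ∈ autInducedBy S Q := by
        have h0 : a ∈ (R : Subgroup A) := ha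
        rw [hR] at h0
        exact h0
      rw [mem_autInducedBy_iff] at ha'
      obtain ⟨g, hg, hga⟩ := ha'
      apply Subtype.ext
      apply Subtype.ext
      rw [hρ, hga]
      have := Subgroup.mem_centralizer_iff.mp hz.2 g hg
      show g * ι w * g⁻¹ = ι w
      rw [this]; simp
  -- Claim 1
  have hclaim1 : (fixedOf ρ (⊤ : Subgroup A)).map ι = F.center := by
    apply le_antisymm
    · apply le_center
      have hCQ : (fixedOf ρ (⊤ : Subgroup A)).map ι ≤ Q := by
        rintro _ ⟨w, -, rfl⟩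
        exact (w : Q).2
      refine ⟨le_trans hCQ hQS, ?_⟩
      intro P φ hφ
      obtain ⟨ψ, hψ, hψφ, α, hα, hαψ⟩ := normal_exists_extension hQn hφ
      have hle : P ⊔ (fixedOf ρ (⊤ : Subgroup A)).map ι ≤ P ⊔ Q := sup_le_sup_left hCQ P
      refine ⟨_, hom_restrict F hle hψ, ?_, ?_⟩
      · intro x
        rw [← hψφ x]
        rfl
      · rintro ⟨_, w, hw, rfl⟩
        have h1 := hw ⟨α, (hAmem α).mpr hα⟩ (Subgroup.mem_top _)
        have h2 : (((ρ ⟨α, (hAmem α).mpr hα⟩) w : Subgroup.center Q) : Q) = (w : Q) := by rw [h1]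
        rw [hρ] at h2
        have h3 := hαψ (w : Q)
        have h4 : ((α (w : Q) : Q) : Ω) = ι w := by
          have : α (w : Q) = (w : Q) := h2
          rw [this]; rfl
        rw [h4] at h3
        exact h3.symm
    · apply sSup_le
      rintro Q' ⟨hQ'S, hQ'⟩ x hx
      have hxZ : x ∈ S ⊓ Subgroup.centralizer (S : Set Ω) := by
        refine ⟨hQ'S hx, ?_⟩
        show x ∈ Subgroup.centralizer (S : Set Ω)
        rw [Subgroup.mem_centralizer_iff]
        intro s hs
        obtain ⟨ψ, -, h1, h2⟩ := hQ' S (conjHom S s) (F.conj_mem le_rfl hs)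
        have h3 := h1 ⟨x, hQ'S hx⟩
        have h4 := h2 ⟨x, hx⟩
        have h5 : (Subgroup.inclusion le_sup_left (⟨x, hQ'S hx⟩ : S) : ↥(S ⊔ Q')) =
            Subgroup.inclusion le_sup_right (⟨x, hx⟩ : Q') := Subtype.ext rfl
        rw [h5, h4] at h3
        have h6 : conjHom S s ⟨x, hQ'S hx⟩ = s * x * s⁻¹ := rfl
        rw [h6] at h3
        calc s * x = (s * x * s⁻¹) * s := by simp
          _ = x * s := by rw [← h3]
      obtain ⟨w, rfl⟩ := hZS x hxZ
      refine ⟨w, ?_, rfl⟩
      intro a _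
      have ha : IsIso F ((a : MulAut Q) : Q ≃* Q) := (hAmem a).mp a.2
      obtain ⟨ψ, -, h1, h2⟩ := hQ' Q _ ha
      have h3 := h1 (w : Q)
      have h4 := h2 ⟨ι w, hx⟩
      have h5 : (Subgroup.inclusion le_sup_left (w : Q) : ↥(Q ⊔ Q')) =
          Subgroup.inclusion le_sup_right (⟨ι w, hx⟩ : Q') := Subtype.ext rfl
      rw [h5, h4] at h3
      apply Subtype.ext
      apply Subtype.ext
      rw [hρ]
      exact h3.symm
  refine ⟨K₀.map ι, ?_, ?_, ?_⟩
  · rw [← hclaim2]
    exact Subgroup.map_mono hK₀le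
  · rw [← hclaim1, ← Subgroup.map_inf _ _ _ hι, hK₀inf, Subgroup.map_bot]
  · rw [← hclaim1, ← Subgroup.map_sup, hK₀sup, hclaim2]

end Cfsg.Agent.S5294
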