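import Cfsg.Statements.S5295
import Cfsg.Agent.S5193
import Cfsg.Agent.S5096
import Cfsg.Agent.S5098
import Cfsg.Agent.H26.NormalizerConstrained
import Cfsg.Agent.Lib.Helper27.CenterFactorB

set_option autoImplicit false
universe u
open Cfsg

namespace Cfsg.Agent.S5295

/-- Let F be a saturated fusion system over a finite p-group S with p odd. Then the centre Z(F) of F is a direct factor of Z(S): there is a subgroup K of Z(S) with Z(F) ∩ K = 1 and Z(F)K = Z(S). (At the prime 2 this can fail.) -/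
theorem result {Ω : Type u} [Group Ω] {S : Subgroup Ω} [Finite S] (p : ℕ) [Fact p.Prime] (hp : p ≠ 2) (hS : IsPGroup p S)
    (F : Cfsg.FusionSystem S) (hF : F.IsSaturated p) :
    ∃ K : Subgroup Ω, K ≤ (S ⊓ Subgroup.centralizer (S : Set Ω)) ∧ F.center ⊓ K = ⊥ ∧ F.center ⊔ K = (S ⊓ Subgroup.centralizer (S : Set Ω)) := by
  open Cfsg.FusionSystem Cfsg.Agent.Lib.Helper27 Cfsg.Agent.Lib.Helper27.LG2 Cfsg.Agent.Lib.Helper18
    Cfsg.Agent.Lib.Helper18.FusFree Cfsg.Agent.Lib.Helper18.GlaubermanTwo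
    Cfsg.Agent.Lib.Helper18.ThompsonRepl in
  have hW : Cfsg.IsCharPFunctor.{u} p (fun (Q : Type u) [Group Q] => Cfsg.thompsonSubgroupA Q) :=
    isCharPFunctor_thompsonA p
  have hJS : Cfsg.thompsonSubgroupAOf S ≤ S := by
    rintro _ ⟨j, -, rfl⟩
    exact j.2
  have hWn : normalizerIn S (Cfsg.thompsonSubgroupAOf S) = S := normalizerIn_wsub hW S hS
  have hWnS : normalizerIn S (Cfsg.thompsonSubgroupAOf S) ≤ S := inf_le_left
  haveI : Finite ↥(normalizerIn S (Cfsg.thompsonSubgroupAOf S)) :=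
    Finite.of_injective (Subgroup.inclusion hWnS) (Subgroup.inclusion_injective hWnS)
  haveI : Finite ↥(Cfsg.thompsonSubgroupAOf S) :=
    Finite.of_injective (Subgroup.inclusion hJS) (Subgroup.inclusion_injective hJS)
  have hSn : S ≤ Subgroup.normalizer ((Cfsg.thompsonSubgroupAOf S : Subgroup Ω) : Set Ω) := by
    intro s hs
    have : s ∈ normalizerIn S (Cfsg.thompsonSubgroupAOf S) := by rw [hWn]; exact hs
    exact this.2
  have hJfn : F.IsFullyNormalized (Cfsg.thompsonSubgroupAOf S) :=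
    Cfsg.Agent.Lib.Helper27.MC.isFullyNormalized_of_le_normalizer F hJS hSn
  obtain ⟨N, hN⟩ := Cfsg.Agent.S5096.result F (Cfsg.thompsonSubgroupAOf S) hJS
  have hNsat : N.IsSaturated p := Cfsg.Agent.S5098.result p hS F hF _ hJfn N hN
  have hcen : N.center = F.center := (Cfsg.Agent.S5193.main p hS F hF N hN).2 (Or.inl hp)
  have hJn : N.IsNormal (Cfsg.thompsonSubgroupAOf S) := Cfsg.Agent.H26.normalizerSystem_isNormal hJS hN
  have hVn := Cfsg.Agent.Lib.Helper27.FixAvg.isNormal_centerOf hJn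
  have hS' : IsPGroup p ↥(normalizerIn S (Cfsg.thompsonSubgroupAOf S)) :=
    hS.of_injective (Subgroup.inclusion hWnS) (Subgroup.inclusion_injective hWnS)
  have hZeq : (normalizerIn S (Cfsg.thompsonSubgroupAOf S) ⊓
      Subgroup.centralizer ((normalizerIn S (Cfsg.thompsonSubgroupAOf S) : Subgroup Ω) : Set Ω)) =
      S ⊓ Subgroup.centralizer (S : Set Ω) := by rw [hWn]
  have hZV : (normalizerIn S (Cfsg.thompsonSubgroupAOf S) ⊓
      Subgroup.centralizer ((normalizerIn S (Cfsg.thompsonSubgroupAOf S) : Subgroup Ω) : Set Ω)) ≤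
      Cfsg.thompsonSubgroupAOf S ⊓ Subgroup.centralizer ((Cfsg.thompsonSubgroupAOf S : Subgroup Ω) : Set Ω) := by
    rw [hZeq]
    intro z hz
    have hzJ : z ∈ Cfsg.thompsonSubgroupAOf S := by
      have h1 : (⟨z, hz.1⟩ : S) ∈ Subgroup.center ↥S := by
        rw [Subgroup.mem_center_iff]
        intro r
        exact Subtype.ext (center_commute hz r.2)
      have h2 := center_le_thompsonSubgroupA ↥S h1
      exact ⟨_, h2, rfl⟩
    refine Subgroup.mem_inf.mpr ⟨hzJ, ?_⟩
    rw [Subgroup.mem_centralizer_iff]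
    intro j hj
    exact center_commute hz (hJS hj)
  obtain ⟨K, hK1, hK2, hK3⟩ := Cfsg.Agent.Lib.Helper27.FixAvg.center_direct_factor hS' hNsat hVn
    (by
      intro a ha b hb
      exact (Subgroup.mem_centralizer_iff.mp (Subgroup.mem_inf.mp hb).2 a (Subgroup.mem_inf.mp ha).1).symm ▸ rfl)
    hZV
  rw [hZeq] at hK1 hK3
  rw [hcen] at hK2 hK3
  exact ⟨K, hK1, hK2, hK3⟩

end Cfsg.Agent.S5295
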