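import Cfsg.Statements.S5298
import Cfsg.Agent.Lib.Helper27.FusionSmallCyclic
import Cfsg.Agent.Lib.Helper27.FusionFrobenius
import Cfsg.Agent.Lib.Helper27.FusionNormalCrit
import Cfsg.Agent.Lib.Helper17.PResidual
import Cfsg.Agent.H26.Hyperfocal
import Cfsg.Agent.S5124

set_option autoImplicit false
universe u
open Cfsg

namespace Cfsg.Agent.S5298

open Cfsg.FusionSystem Cfsg.Agent.Lib.Helper27

/-- a nontrivial small element has order `p` or `4` -/
theorem orderOf_small {G : Type*} [Group G] {p : ℕ} [Fact p.Prime] {x : G} (hx : Small p x)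
    (hx1 : x ≠ 1) : orderOf x = p ∨ orderOf x = 4 := by
  rcases hx with h | ⟨h2, h4⟩
  · exact Or.inl (orderOf_eq_prime h hx1)
  · have hd : orderOf x ∣ 2 ^ 2 := orderOf_dvd_of_pow_eq_one (by norm_num; exact h4)
    obtain ⟨k, hk, hkeq⟩ := (Nat.dvd_prime_pow Nat.prime_two).mp hd
    interval_cases k
    · exfalso
      rw [pow_zero, orderOf_eq_one_iff] at hkeq
      exact hx1 hkeq
    · left; rw [hkeq, h2]; norm_num
    · right; rw [hkeq]; norm_num

/-- Let F be a saturated fusion system over a finite p-group S. If Hom_{F_S(S)}(A,B) = Hom_F(A,B) for all cyclic A, B ≤ hyp(F) of order p or 4 then F = F_S(S). -/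
theorem result {Ω : Type u} [Group Ω] {S : Subgroup Ω} [Finite S] (p : ℕ) [Fact p.Prime] (hS : IsPGroup p S)
    (F : Cfsg.FusionSystem S) (hF : F.IsSaturated p)
    (h : ∀ A B : Subgroup Ω, A ≤ (F.hyperfocalSubgroup p) → B ≤ (F.hyperfocalSubgroup p) → IsCyclic ↥A → (Nat.card ↥A = p ∨ Nat.card ↥A = 4) → IsCyclic ↥B → (Nat.card ↥B = p ∨ Nat.card ↥B = 4) →
      F.homSet A B ⊆ (Cfsg.innerFusionSystem S).Hom A) :
    ∀ P : Subgroup Ω, F.Hom P = (Cfsg.innerFusionSystem S).Hom P := by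
  classical
  have hT := Cfsg.Agent.S5124.result p hS F hF
  apply hom_eq_inner_of_autGroup_isPGroup hS hF
  intro R hRS
  have hfinR : Finite R :=
    Finite.of_injective (Subgroup.inclusion hRS) (Subgroup.inclusion_injective hRS)
  have hpR : IsPGroup p R :=
    hS.of_injective (Subgroup.inclusion hRS) (Subgroup.inclusion_injective hRS)
  apply isPGroup_of_coprime_trivial
  intro β m hm hβm
  have ham : (β : MulAut R) ^ m = 1 := by
    have h1 := congrArg Subtype.val hβm
    simpa using h1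
  have hβiso : ∀ k : ℕ, IsIso F (((β : MulAut R) ^ k : MulAut R) : R ≃* R) := fun k =>
    (mem_autGroup_iff F hRS _).mp ((F.autGroup R).pow_mem β.2 k)
  have hTα : ∀ y : R, (y : Ω) ∈ F.hyperfocalSubgroup p →
      ((((β : MulAut R) y : R)) : Ω) ∈ F.hyperfocalSubgroup p := fun y hy =>
    stronglyClosed_map_eq hT ((mem_autGroup_iff F hRS _).mp β.2) ⟨y, hy, rfl⟩
  have hconj : ∀ x : R, Small p x → (x : Ω) ∈ F.hyperfocalSubgroup p → ∀ k : ℕ, ∃ s ∈ S,
      ((((β : MulAut R) ^ k) x : R) : Ω) = s * x * s⁻¹ := by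
    intro x hxs hxT k
    by_cases hx1 : x = 1
    · refine ⟨1, S.one_mem, ?_⟩
      rw [hx1, map_one]
      simp
    have hyT : (((((β : MulAut R) ^ k) x : R)) : Ω) ∈ F.hyperfocalSubgroup p :=
      stronglyClosed_map_eq hT (hβiso k) ⟨x, hxT, rfl⟩
    have hAT : Subgroup.zpowers (x : Ω) ≤ F.hyperfocalSubgroup p := (Subgroup.zpowers_le).mpr hxT
    have hBT : Subgroup.zpowers (((((β : MulAut R) ^ k) x : R)) : Ω) ≤ F.hyperfocalSubgroup p :=
      (Subgroup.zpowers_le).mpr hyT
    have hAR : Subgroup.zpowers (x : Ω) ≤ R := (Subgroup.zpowers_le).mpr x.2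
    have hox : orderOf (x : Ω) = p ∨ orderOf (x : Ω) = 4 := by
      rw [Subgroup.orderOf_coe]
      exact orderOf_small hxs hx1
    have hoy : orderOf (((((β : MulAut R) ^ k) x : R)) : Ω) = orderOf (x : Ω) := by
      rw [Subgroup.orderOf_coe, Subgroup.orderOf_coe]
      exact orderOf_injective (((β : MulAut R) ^ k : MulAut R) : R ≃* R).toMonoidHom
        (MulEquiv.injective _) x
    have hφ := hom_restrict F hAR (hβiso k)
    have hφB : ∀ a : Subgroup.zpowers (x : Ω),
        ((R.subtype.comp (((β : MulAut R) ^ k : MulAut R) : R ≃* R).toMonoidHom).comp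
          (Subgroup.inclusion hAR)) a ∈ Subgroup.zpowers (((((β : MulAut R) ^ k) x : R)) : Ω) := by
      rintro ⟨a, ha⟩
      obtain ⟨j, rfl⟩ := Subgroup.mem_zpowers_iff.mp ha
      refine Subgroup.mem_zpowers_iff.mpr ⟨j, ?_⟩
      have e1 : (⟨(x : Ω) ^ j, hAR ha⟩ : R) = x ^ j := Subtype.ext (by simp)
      show ((((β : MulAut R) ^ k) x : R) : Ω) ^ j =
        ((((β : MulAut R) ^ k) (⟨(x : Ω) ^ j, hAR ha⟩ : R) : R) : Ω)
      rw [e1, map_zpow]
      simp
    have hin := h _ _ hAT hBT inferInstance (by rw [Nat.card_zpowers]; exact hox) inferInstance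
      (by rw [Nat.card_zpowers, hoy]; exact hox) ⟨hφ, hφB⟩
    obtain ⟨-, s, hs, hsx⟩ := hin
    refine ⟨s, hs, ?_⟩
    exact hsx ⟨(x : Ω), Subgroup.mem_zpowers _⟩
  have hfix := aut_fix_small_of_conj hS hRS (β : MulAut R) hm ham (F.hyperfocalSubgroup p) hTα hconj
  apply Subtype.ext
  apply mulAut_eq_one_of_fix_small_comm hpR (β : MulAut R) hm ham
  intro w hw hws
  apply hfix w hws
  have hres : β ∈ pResidual p (F.autGroup R) :=
    Cfsg.Agent.Lib.Helper17.mem_pResidual_of_coprime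
      (Nat.Coprime.coprime_dvd_left (orderOf_dvd_of_pow_eq_one hβm) hm)
  have hle : Subgroup.closure {y : R | ∃ x : R, y = x⁻¹ * (β : MulAut R) x} ≤
      (F.hyperfocalSubgroup p).subgroupOf R := by
    rw [Subgroup.closure_le]
    rintro _ ⟨x, rfl⟩
    exact Cfsg.Agent.H26.mem_hyperfocal F p hRS β hres x
  exact hle hw

end Cfsg.Agent.S5298
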