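import Cfsg.Statements.S5300
import Cfsg.Agent.Lib.Helper27.FusionSmallElts
import Cfsg.Agent.Lib.Helper27.FusionTopNormal
import Cfsg.Agent.Lib.Helper27.FusionRadical
import Cfsg.Agent.Lib.Helper27.FusionFrobenius
import Cfsg.Agent.Lib.Helper1.Cores

set_option autoImplicit false
universe u
open Cfsg

namespace Cfsg.Agent.S5300

open Cfsg.FusionSystem Cfsg.Agent.Lib.Helper27

variable {Ω : Type*} [Group Ω] {S : Subgroup Ω}

theorem comm_mem_focal (F : FusionSystem S) {R : Subgroup Ω} (hR : R ≤ S) {γ : MulAut R}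
    (hγ : γ ∈ F.autGroup R) (x : R) : (x : Ω)⁻¹ * ((γ x : R) : Ω) ∈ F.focalSubgroup := by
  apply Subgroup.subset_closure
  exact ⟨R, R.subtype.comp (γ : R ≃* R).toMonoidHom, x, (mem_autGroup_iff F hR γ).mp hγ, rfl⟩

theorem aut_mem_focal (F : FusionSystem S) {R : Subgroup Ω} (hR : R ≤ S) {γ : MulAut R}
    (hγ : γ ∈ F.autGroup R) {x : R} (hx : (x : Ω) ∈ F.focalSubgroup) :
    ((γ x : R) : Ω) ∈ F.focalSubgroup := by
  have := F.focalSubgroup.mul_mem hx (comm_mem_focal F hR hγ x)
  simpa using this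

theorem focal_le (F : FusionSystem S) : F.focalSubgroup ≤ S := by
  unfold focalSubgroup
  rw [Subgroup.closure_le]
  rintro y ⟨P, φ, x, hφ, rfl⟩
  obtain ⟨hP, hφS⟩ := F.le_of_mem hφ
  exact S.mul_mem (S.inv_mem (hP x.2)) (hφS x)

/-- The automorphisms in `Aut_F(R)` fixing (or, for `p = 2`, possibly inverting) every small element of
`R ∩ foc(F)`. -/
def fixSmall (F : FusionSystem S) (p : ℕ) (R : Subgroup Ω) : Subgroup (F.autGroup R) where
  carrier := {γ | ∀ x : R, (x : Ω) ∈ F.focalSubgroup → Small p (x : Ω) →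
    ((γ : MulAut R) x = x ∨ (p = 2 ∧ (γ : MulAut R) x = x⁻¹))}
  one_mem' := fun x _ _ => Or.inl rfl
  mul_mem' := by
    intro γ δ hγ hδ x hxf hxs
    show (γ : MulAut R) ((δ : MulAut R) x) = x ∨ (p = 2 ∧ (γ : MulAut R) ((δ : MulAut R) x) = x⁻¹)
    rcases hδ x hxf hxs with h | ⟨h2, h⟩
    · rw [h]; exact hγ x hxf hxs
    · rw [h, map_inv]
      rcases hγ x hxf hxs with h' | ⟨_, h'⟩
      · rw [h']; exact Or.inr ⟨h2, rfl⟩
      · rw [h', inv_inv]; exact Or.inl rfl
  inv_mem' := by
    intro γ hγ x hxf hxs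
    show ((γ : MulAut R))⁻¹ x = x ∨ (p = 2 ∧ ((γ : MulAut R))⁻¹ x = x⁻¹)
    rcases hγ x hxf hxs with h | ⟨h2, h⟩
    · left
      have : ((γ : MulAut R))⁻¹ x = ((γ : MulAut R))⁻¹ ((γ : MulAut R) x) := by rw [h]
      rw [this, MulAut.inv_apply_self]
    · right
      refine ⟨h2, ?_⟩
      have : ((γ : MulAut R))⁻¹ x⁻¹ = ((γ : MulAut R))⁻¹ ((γ : MulAut R) x) := by rw [h]
      rw [MulAut.inv_apply_self, map_inv] at this
      exact inv_eq_iff_eq_inv.mp this

theorem fixSmall_normal (F : FusionSystem S) (p : ℕ) {R : Subgroup Ω} (hR : R ≤ S) :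
    (fixSmall F p R).Normal := by
  refine ⟨fun γ hγ δ x hxf hxs => ?_⟩
  show (δ : MulAut R) ((γ : MulAut R) ((δ : MulAut R)⁻¹ x)) = x ∨
    (p = 2 ∧ (δ : MulAut R) ((γ : MulAut R) ((δ : MulAut R)⁻¹ x)) = x⁻¹)
  have hyf : ((((δ : MulAut R)⁻¹ x : R)) : Ω) ∈ F.focalSubgroup :=
    aut_mem_focal F hR (Subgroup.inv_mem _ δ.2) hxf
  have hys : Small p ((((δ : MulAut R)⁻¹ x : R)) : Ω) := by
    have h1 : Small p x := small_of_map R.subtype Subtype.coe_injective hxs
    have h2 := small_map ((δ : MulAut R)⁻¹ : R ≃* R).toMonoidHom h1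
    exact small_map R.subtype h2
  rcases hγ _ hyf hys with h | ⟨h2, h⟩
  · left
    rw [h, MulAut.apply_inv_self]
  · right
    refine ⟨h2, ?_⟩
    rw [h, map_inv, MulAut.apply_inv_self]

/-- Let F be a saturated fusion system over a finite p-group S. If every cyclic subgroup of the focal subgroup of F of order p (of order 2 or 4 when p = 2) is normal in S, then S is normal in F. -/
theorem result {Ω : Type u} [Group Ω] {S : Subgroup Ω} [Finite S] (p : ℕ) [Fact p.Prime] (hS : IsPGroup p S)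
    (F : Cfsg.FusionSystem S) (hF : F.IsSaturated p)
    (hnorm : ∀ x ∈ F.focalSubgroup, (x ^ p = 1 ∨ (p = 2 ∧ x ^ 4 = 1)) → ∀ s ∈ S, s * x * s⁻¹ ∈ Subgroup.zpowers x) :
    F.IsNormal S := by
  apply isNormal_top_of_no_proper_frc hS hF
  intro R hRlt hfn hc hr
  have hRS : R ≤ S := hRlt.le
  have hfinR : Finite R := Finite.of_injective (Subgroup.inclusion hRS) (Subgroup.inclusion_injective hRS)
  have hRp : IsPGroup p R := hS.to_le hRS
  have hfocS : F.focalSubgroup ≤ S := focal_le F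
  -- `fixSmall` is a `p`-group
  have hDp : IsPGroup p (fixSmall F p R) := by
    apply isPGroup_of_coprime_trivial
    intro β m hm hβ
    have ha : ((β : F.autGroup R) : MulAut R) ^ m = 1 := by
      have := congrArg (fun z : fixSmall F p R => ((z : F.autGroup R) : MulAut R)) hβ
      simpa using this
    have hfixall : ∀ x : R, (x : Ω) ∈ F.focalSubgroup → Small p (x : Ω) →
        ((β : F.autGroup R) : MulAut R) x = x := by
      intro x hxf hxs
      rcases β.2 x hxf hxs with h | ⟨h2, h⟩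
      · exact h
      · -- `p = 2`, `m` odd
        have hsq : (((β : F.autGroup R) : MulAut R) ^ 2) x = x := by
          rw [pow_two, MulAut.mul_apply, h, map_inv, h, inv_inv]
        have hsqj : ∀ j : ℕ, ((((β : F.autGroup R) : MulAut R) ^ 2) ^ j) x = x := by
          intro j
          induction j with
          | zero => simp
          | succ j ih => rw [pow_succ, MulAut.mul_apply, hsq, ih]
        have hodd : m % 2 = 1 := by
          rw [h2] at hm
          exact Nat.odd_iff.mp (Nat.coprime_two_right.mp hm)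
        have hm2 : m = 2 * (m / 2) + 1 := by omega
        have h3 : (((β : F.autGroup R) : MulAut R) ^ m) x = ((β : F.autGroup R) : MulAut R) x := by
          rw [hm2, pow_succ', pow_mul, MulAut.mul_apply, hsqj]
        rw [ha] at h3
        exact h3.symm
    have h1 : ((β : F.autGroup R) : MulAut R) = 1 := by
      refine mulAut_eq_one_of_fix_small_comm hRp _ hm ha (fun w hw hws => hfixall w ?_ (small_map R.subtype hws))
      have hle : Subgroup.closure {y : R | ∃ x : R, y = x⁻¹ * ((β : F.autGroup R) : MulAut R) x} ≤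
          F.focalSubgroup.comap R.subtype := by
        rw [Subgroup.closure_le]
        rintro y ⟨x, rfl⟩
        exact comm_mem_focal F hRS (β : F.autGroup R).2 x
      exact hle hw
    exact Subtype.ext (Subtype.ext h1)
  have hDle := Cfsg.Agent.Lib.Helper1.le_pCore (fixSmall_normal F p hRS) hDp
  obtain ⟨g, hgN, hgR⟩ := exists_mem_normalizerIn_not_mem hS hRlt
  have hcg : conjAutHom S R ⟨g, hgN⟩ ∈ F.autGroup R :=
    autInducedBy_le_autGroup F hRS (by rw [← conjAutHom_range]; exact ⟨_, rfl⟩)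
  have hcgD : (⟨conjAutHom S R ⟨g, hgN⟩, hcg⟩ : F.autGroup R) ∈ fixSmall F p R := by
    intro x hxf hxs
    have hn := hnorm (x : Ω) hxf hxs
    rcases hxs with hx | ⟨h2, hx⟩
    · left
      apply Subtype.ext
      show g * (x : Ω) * g⁻¹ = x
      exact conj_eq_of_pow_p hS (hfocS hxf) hx hn g hgN.1
    · rcases conj_eq_or_inv_of_pow_four hx (hn g hgN.1) with h | h
      · left; exact Subtype.ext h
      · right; exact ⟨h2, Subtype.ext h⟩
  exact not_isRadical_of_conjAutHom_mem_pCore hc hgN hgR ⟨_, hDle hcgD, rfl⟩ hr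

end Cfsg.Agent.S5300
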