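import Cfsg.Statements.S5301
import Cfsg.Agent.Lib.Helper27.FusionTopNormal

set_option autoImplicit false
universe u
open Cfsg

namespace Cfsg.Agent.S5301

open Cfsg.FusionSystem Cfsg.Agent.Lib.Helper27

/-- Let F be a saturated fusion system over a finite p-group S. If for every subgroup P of S that is fully normalized, centric and radical in F the automorphism group that F induces on P has a normal Sylow p-subgroup, then S is normal in F. -/
theorem result {Ω : Type u} [Group Ω] {S : Subgroup Ω} [Finite S] (p : ℕ) [Fact p.Prime] (hS : IsPGroup p S)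
    (F : Cfsg.FusionSystem S) (hF : F.IsSaturated p)
    (hcl : ∀ P : Subgroup Ω, F.IsFullyNormalized P → F.IsCentric P → F.IsRadical p P →
      ∃ R : Sylow p ↥(F.autGroup P), (R : Subgroup ↥(F.autGroup P)).Normal) :
    F.IsNormal S := by
  apply isNormal_top_of_no_proper_frc hS hF
  intro R hRlt hfn hc hr
  have hRS : R ≤ S := hRlt.le
  haveI : Finite R := Finite.of_injective (Subgroup.inclusion hRS) (Subgroup.inclusion_injective hRS)
  obtain ⟨R₁, hR₁⟩ := hcl R hfn hc hr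
  obtain ⟨⟨-, R₀, hR₀⟩, -, -⟩ := fa_receptive_of_fullyNormalized hS hF hfn
  -- the two Sylow subgroups coincide
  have hR₀₁ : R₀ = R₁ := by
    obtain ⟨a, ha⟩ := MulAction.exists_smul_eq (F.autGroup R) R₁ R₀
    rw [← ha]
    exact Sylow.smul_eq_of_normal
  have hR₀n : (R₀ : Subgroup (F.autGroup R)).Normal := by rw [hR₀₁]; exact hR₁
  have hle : (R₀ : Subgroup (F.autGroup R)) ≤ pCore p (F.autGroup R) :=
    Cfsg.Agent.Lib.Helper1.le_pCore hR₀n R₀.isPGroup'
  -- Aut_S(R) ≤ Inn(R)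
  have hAI : autInducedBy S R ≤ Inn R := by
    intro α hα
    rw [← hr.2]
    have hαA : α ∈ F.autGroup R := autInducedBy_le_autGroup F hRS hα
    refine ⟨⟨α, hαA⟩, hle ?_, rfl⟩
    rw [hR₀]
    exact Subgroup.mem_subgroupOf.mpr hα
  obtain ⟨g, hgN, hgR⟩ := exists_mem_normalizerIn_not_mem hS hRlt
  have h1 : conjAutHom S R ⟨g, hgN⟩ ∈ autInducedBy S R := by
    rw [← conjAutHom_range]; exact ⟨_, rfl⟩
  have h2 := hAI h1
  rw [mem_inn_iff] at h2
  obtain ⟨x, hx⟩ := h2
  -- x⁻¹ g centralizes R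
  have h3 : (x : Ω)⁻¹ * g ∈ centralizerIn S R := by
    rw [mem_centralizerIn_iff]
    refine ⟨S.mul_mem (S.inv_mem (hRS x.2)) hgN.1, fun y hy => ?_⟩
    have h4 := congrArg (fun z : R => (z : Ω)) (hx ⟨y, hy⟩)
    simp only [conjAutHom_apply] at h4
    have h5 : g * y * g⁻¹ = (x : Ω) * y * (x : Ω)⁻¹ := h4
    calc y * ((x : Ω)⁻¹ * g) = (x : Ω)⁻¹ * ((x : Ω) * y * (x : Ω)⁻¹) * g := by group
      _ = (x : Ω)⁻¹ * (g * y * g⁻¹) * g := by rw [h5]
      _ = (x : Ω)⁻¹ * g * y := by group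
  have h6 : (x : Ω)⁻¹ * g ∈ R := hc.2 R (isConj_refl F hRS) h3
  apply hgR
  have h7 : g = (x : Ω) * ((x : Ω)⁻¹ * g) := by group
  rw [h7]
  exact R.mul_mem x.2 h6

end Cfsg.Agent.S5301
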