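-- Statement S5306. The statement below is byte-identical to the frozen statement the frozen statement.
import Cfsg.Statements.S5306
import Cfsg.Agent.Lib.Helper27.Thompson

set_option autoImplicit false
open Cfsg

namespace Cfsg.Agent.S5306

open Cfsg.Agent.Lib.Helper27

open scoped Pointwise in
/-- Two `p`-subgroups of a subgroup `C` of a finite group can be conjugated by an element of `C`
into a common Sylow `p`-subgroup of the whole group. -/
theorem exists_conj_le_sylow {X : Type*} [Group X] [Finite X] (p : ℕ) [Fact p.Prime]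
    (C A B : Subgroup X) (hA : A ≤ C) (hB : B ≤ C) (hAp : IsPGroup p A) (hBp : IsPGroup p B) :
    ∃ c ∈ C, ∃ R : Sylow p X, A ≤ R ∧ B.map (MulAut.conj c).toMonoidHom ≤ R := by
  classical
  have hA' : IsPGroup p (A.subgroupOf C) := hAp.comap_subtype
  have hB' : IsPGroup p (B.subgroupOf C) := hBp.comap_subtype
  obtain ⟨R₁, hR₁⟩ := hA'.exists_le_sylow
  obtain ⟨R₂, hR₂⟩ := hB'.exists_le_sylow
  obtain ⟨c, hc⟩ := MulAction.exists_smul_eq C R₂ R₁
  have hRp : IsPGroup p ((R₁ : Subgroup C).map C.subtype) := R₁.isPGroup'.map _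
  obtain ⟨R, hR⟩ := hRp.exists_le_sylow
  refine ⟨c, c.2, R, ?_, ?_⟩
  · intro a ha
    apply hR
    exact ⟨⟨a, hA ha⟩, hR₁ (by rw [Subgroup.mem_subgroupOf]; exact ha), rfl⟩
  · rintro _ ⟨b, hb, rfl⟩
    apply hR
    have hb2 : (⟨b, hB hb⟩ : C) ∈ (R₂ : Subgroup C) := hR₂ (by rw [Subgroup.mem_subgroupOf]; exact hb)
    have h3 : MulAut.conj c • (⟨b, hB hb⟩ : C) ∈ ((c • R₂ : Sylow p C) : Subgroup C) := by
      rw [Sylow.coe_subgroup_smul]
      exact Subgroup.smul_mem_pointwise_smul _ _ _ hb2
    rw [hc] at h3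
    refine ⟨_, h3, ?_⟩
    simp [MulAut.smul_def, MulAut.conj_apply]

/-- Let P be a Sylow p-subgroup of the finite group X and J = J(P) its Thompson subgroup (generated by the elementary abelian subgroups of P of largest order). If x and y lie in the centre of J and y = g x g⁻¹ for some g in X, then y = n x n⁻¹ for some n in the normalizer N_X(J). -/
theorem result {X : Type*} [Group X] [Finite X] (p : ℕ) [Fact p.Prime] (P : Sylow p X) (J : Subgroup X) (hJ : J = Cfsg.thompsonSubgroupOf p (P : Subgroup X))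
    (x y : X) (hx : x ∈ J ∧ ∀ j ∈ J, Commute j x) (hy : y ∈ J ∧ ∀ j ∈ J, Commute j y) (g : X) (hg : g * x * g⁻¹ = y) :
    ∃ n ∈ Subgroup.normalizer (J : Set X), n * x * n⁻¹ = y := by
  classical
  have hJP : J ≤ (P : Subgroup X) := hJ ▸ thompsonSubgroupOf_le p _
  have hJp : IsPGroup p J := P.isPGroup'.to_le hJP
  set C : Subgroup X := Subgroup.centralizer ({y} : Set X) with hC
  have hJC : J ≤ C := by
    intro j hj
    rw [hC, Subgroup.mem_centralizer_singleton_iff]
    exact (hy.2 j hj).eq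
  have hJgC : J.map (MulAut.conj g).toMonoidHom ≤ C := by
    rintro _ ⟨j, hj, rfl⟩
    rw [hC, Subgroup.mem_centralizer_singleton_iff]
    have := (hx.2 j hj).eq
    show (g * j * g⁻¹) * y = y * (g * j * g⁻¹)
    rw [← hg]
    calc g * j * g⁻¹ * (g * x * g⁻¹) = g * (j * x) * g⁻¹ := by group
      _ = g * (x * j) * g⁻¹ := by rw [this]
      _ = g * x * g⁻¹ * (g * j * g⁻¹) := by group
  obtain ⟨c, hcC, R, hJR, hJgR⟩ := exists_conj_le_sylow p C J (J.map (MulAut.conj g).toMonoidHom) hJC hJgC hJp (hJp.map _)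
  -- R is conjugate to P
  obtain ⟨h, hh⟩ := MulAction.exists_smul_eq X P R
  have hR : (R : Subgroup X) = (P : Subgroup X).map (MulAut.conj h).toMonoidHom := by
    rw [← hh, Sylow.coe_subgroup_smul, Subgroup.pointwise_smul_def]
    rfl
  -- J(P) = J(R)
  have h1 : thompsonSubgroupOf p (P : Subgroup X) = thompsonSubgroupOf p (R : Subgroup X) :=
    thompsonSubgroupOf_eq_of_le p (MulAut.conj h) _ _ hR (hJ ▸ hJR)
  -- k = c * g
  set k := c * g with hk
  have hconj : (MulAut.conj k).toMonoidHom = (MulAut.conj c).toMonoidHom.comp (MulAut.conj g).toMonoidHom := by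
    ext z; simp [hk, MulAut.conj_apply, mul_assoc]
  have hJk : J.map (MulAut.conj k).toMonoidHom ≤ R := by
    rw [hconj, ← Subgroup.map_map]; exact hJgR
  -- J(kPk⁻¹) = J(R)
  have hR' : (R : Subgroup X) = ((P : Subgroup X).map (MulAut.conj k).toMonoidHom).map (MulAut.conj (h * k⁻¹)).toMonoidHom := by
    rw [hR, Subgroup.map_map]
    congr 1
    ext z; simp [MulAut.conj_apply, mul_assoc]
  have h2 : thompsonSubgroupOf p ((P : Subgroup X).map (MulAut.conj k).toMonoidHom) = thompsonSubgroupOf p (R : Subgroup X) := by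
    apply thompsonSubgroupOf_eq_of_le p (MulAut.conj (h * k⁻¹)) _ _ hR'
    rw [thompsonSubgroupOf_map, ← hJ]
    exact hJk
  have h3 : J.map (MulAut.conj k).toMonoidHom = J := by
    rw [hJ, ← thompsonSubgroupOf_map, h2, ← h1]
  refine ⟨k, ?_, ?_⟩
  · rw [Subgroup.mem_normalizer_iff]
    intro z
    constructor
    · intro hz
      rw [← h3]
      exact ⟨z, hz, rfl⟩
    · intro hz
      rw [← h3] at hz
      obtain ⟨w, hw, hwz⟩ := hz
      have : w = z := by
        have : k * w * k⁻¹ = k * z * k⁻¹ := hwz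
        exact mul_left_cancel (mul_right_cancel this)
      rw [← this]; exact hw
  · have hcy : c * y = y * c := by
      have := Subgroup.mem_centralizer_singleton_iff.mp hcC
      exact this
    calc k * x * k⁻¹ = c * (g * x * g⁻¹) * c⁻¹ := by rw [hk]; group
      _ = c * y * c⁻¹ := by rw [hg]
      _ = y := by rw [hcy]; group

end Cfsg.Agent.S5306
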