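import Mathlib
import Cfsg.Prelude.Def_FusionComponents
import Cfsg.Agent.Lib.Helper27.FusionInduced
import Cfsg.Agent.Lib.Helper27.FusionSat
import Cfsg.Agent.Lib.Helper27.FusionNormal
import Cfsg.Agent.H26.FusionFactor
import Cfsg.Agent.H26.Hyperfocal
import Cfsg.Agent.Lib.Helper17.PResidual
import Cfsg.Agent.S5084

set_option autoImplicit false
open Cfsg

namespace Cfsg.Agent.S5315

open Cfsg.FusionSystem Cfsg.Agent.Lib.Helper27 Cfsg.Agent.H26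

theorem key {Ω : Type*} [Group Ω] {S : Subgroup Ω} {Ω' : Type*} [Group Ω'] {S' : Subgroup Ω'}
    {F : FusionSystem S} {Z : Subgroup Ω} (hZ : F.IsCentral Z) {θ : S →* Ω'} {E : FusionSystem S'}
    (hE : F.IsFactorSystem Z θ E) {Q' : Subgroup Ω'} (hQ' : E.IsCentral Q')
    {P : Subgroup Ω} {φ : P →* Ω} (hφ : φ ∈ F.Hom P) :
    ∃ (R : Subgroup Ω) (ψ : R →* Ω), ψ ∈ F.Hom R ∧
      (∀ (u : P), ∃ hu : (u : Ω) ∈ R, (φ u)⁻¹ * ψ ⟨u, hu⟩ ∈ Z) ∧
      (∀ x ∈ preimageAlong θ Q', ∃ hx : x ∈ R, x⁻¹ * ψ ⟨x, hx⟩ ∈ Z) := by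
  obtain ⟨hZS, hker, hrange, hEhom⟩ := hE
  have hPS : P ≤ S := hom_le F hφ
  obtain ⟨φ₁, hφ₁, hφ₁P, hφ₁Z⟩ := hZ.2 P φ hφ
  have hP₁S : P ⊔ Z ≤ S := sup_le hPS hZS
  have hφ₁S : ∀ x : ↥(P ⊔ Z), φ₁ x ∈ S := fun x => (F.le_of_mem hφ₁).2 x
  have hφS : ∀ x : P, φ x ∈ S := fun x => (F.le_of_mem hφ).2 x
  have hpre : preimageAlong θ (imageAlong θ (P ⊔ Z)) = P ⊔ Z :=
    preimageAlong_imageAlong θ hker le_sup_right hP₁S
  have hP'mem : ∀ x : ↥(P ⊔ Z), θ ⟨x, hP₁S x.2⟩ ∈ imageAlong θ (P ⊔ Z) :=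
    fun x => ⟨⟨x, hP₁S x.2⟩, Subgroup.mem_subgroupOf.mpr x.2, rfl⟩
  have hker1 : ∀ x : ↥(P ⊔ Z), θ ⟨x, hP₁S x.2⟩ = 1 → θ ⟨φ₁ x, hφ₁S x⟩ = 1 := by
    intro x hx
    have hxZ : (x : Ω) ∈ Z := (hker _).mp hx
    have h1 : φ₁ x = x := hφ₁Z ⟨x, hxZ⟩
    rw [hker]
    show φ₁ x ∈ Z
    rw [h1]
    exact hxZ
  have hsurj : ∀ y ∈ imageAlong θ (P ⊔ Z), ∃ x : ↥(P ⊔ Z), θ ⟨x, hP₁S x.2⟩ = y := by
    rintro y ⟨s, hs, rfl⟩
    exact ⟨⟨s, Subgroup.mem_subgroupOf.mp hs⟩, rfl⟩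
  obtain ⟨φ₁', hφ₁'⟩ := exists_induced_hom θ hP₁S φ₁ hφ₁S hker1 hP'mem hsurj
  have hP'S' : imageAlong θ (P ⊔ Z) ≤ S' := by
    rw [← hrange]
    rintro y ⟨s, -, rfl⟩
    exact ⟨s, rfl⟩
  have hφ₁'E : φ₁' ∈ E.Hom (imageAlong θ (P ⊔ Z)) := by
    rw [hEhom]
    refine ⟨hP'S', φ₁.comp (Subgroup.inclusion hpre.le), hom_restrict F hpre.le hφ₁, ?_⟩
    refine ⟨preimageAlong_le θ _, fun x => hφ₁S _, fun x => (mem_preimageAlong.mp x.2).2, fun x => ?_⟩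
    exact hφ₁' (Subgroup.inclusion hpre.le x)
  obtain ⟨ψ', hψ'E, hψ'P, hψ'Q⟩ := hQ'.2 _ φ₁' hφ₁'E
  obtain ⟨-, ψ, hψ, hRS, hψS, hψR, hψeq⟩ := (hEhom _ ψ').mp hψ'E
  refine ⟨preimageAlong θ (imageAlong θ (P ⊔ Z) ⊔ Q'), ψ, hψ, ?_, ?_⟩
  · intro u
    have huP₁ : (u : Ω) ∈ P ⊔ Z := (le_sup_left : P ≤ P ⊔ Z) u.2
    have hθu : θ ⟨u, hPS u.2⟩ ∈ imageAlong θ (P ⊔ Z) := hP'mem ⟨u, huP₁⟩
    have huR : (u : Ω) ∈ preimageAlong θ (imageAlong θ (P ⊔ Z) ⊔ Q') :=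
      mem_preimageAlong.mpr ⟨hPS u.2, (le_sup_left : imageAlong θ (P ⊔ Z) ≤ _) hθu⟩
    refine ⟨huR, ?_⟩
    have h1 := hψeq ⟨u, huR⟩
    have h2 := hψ'P ⟨θ ⟨u, hPS u.2⟩, hθu⟩
    have h3 := hφ₁' ⟨u, huP₁⟩
    have h4 : φ₁ ⟨u, huP₁⟩ = φ u := hφ₁P u
    have h5 : θ ⟨ψ ⟨u, huR⟩, hψS _⟩ = θ ⟨φ u, hφS u⟩ := by
      rw [← h1]
      have : θ ⟨φ u, hφS u⟩ = θ ⟨φ₁ ⟨u, huP₁⟩, hφ₁S _⟩ := by
        congr 1
        exact Subtype.ext h4.symm
      rw [this, ← h3, ← h2]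
      rfl
    have h6 : θ (⟨φ u, hφS u⟩⁻¹ * ⟨ψ ⟨u, huR⟩, hψS _⟩) = 1 := by
      rw [map_mul, map_inv, h5, inv_mul_cancel]
    exact (hker _).mp h6
  · intro x hx
    obtain ⟨hxS, hxQ'⟩ := mem_preimageAlong.mp hx
    have hxR : x ∈ preimageAlong θ (imageAlong θ (P ⊔ Z) ⊔ Q') :=
      mem_preimageAlong.mpr ⟨hxS, (le_sup_right : Q' ≤ _) hxQ'⟩
    refine ⟨hxR, ?_⟩
    have h1 := hψeq ⟨x, hxR⟩
    have h2 := hψ'Q ⟨θ ⟨x, hxS⟩, hxQ'⟩
    have h5 : θ ⟨ψ ⟨x, hxR⟩, hψS _⟩ = θ ⟨x, hxS⟩ := by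
      rw [← h1]
      exact h2
    have h6 : θ (⟨x, hxS⟩⁻¹ * ⟨ψ ⟨x, hxR⟩, hψS _⟩) = 1 := by
      rw [map_mul, map_inv, h5, inv_mul_cancel]
    exact (hker _).mp h6

section main

variable {Ω : Type*} [Group Ω] {S : Subgroup Ω} [Finite S] {Ω' : Type*} [Group Ω'] {S' : Subgroup Ω'}
  {p : ℕ} [Fact p.Prime] {F : FusionSystem S} {Z : Subgroup Ω} {θ : S →* Ω'} {E : FusionSystem S'}
  {Q' : Subgroup Ω'}

omit [Finite ↥S] in
/-- (∗): maps of `F` move the elements of the preimage of an `E`-central subgroup only inside their `Z`-coset. -/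
theorem star (hZ : F.IsCentral Z) (hE : F.IsFactorSystem Z θ E) (hQ' : E.IsCentral Q')
    {x : Ω} (hx : x ∈ preimageAlong θ Q') {φ : Subgroup.zpowers x →* Ω}
    (hφ : φ ∈ F.Hom (Subgroup.zpowers x)) : x⁻¹ * φ ⟨x, Subgroup.mem_zpowers x⟩ ∈ Z := by
  obtain ⟨R, ψ, -, h1, h2⟩ := key hZ hE hQ' hφ
  obtain ⟨hu, h1'⟩ := h1 ⟨x, Subgroup.mem_zpowers x⟩
  obtain ⟨hxR, h2'⟩ := h2 x hx
  have h3 : x⁻¹ * φ ⟨x, Subgroup.mem_zpowers x⟩ =
      (x⁻¹ * ψ ⟨x, hxR⟩) * ((φ ⟨x, Subgroup.mem_zpowers x⟩)⁻¹ * ψ ⟨x, hu⟩)⁻¹ := by group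
  rw [h3]
  exact Z.mul_mem h2' (Z.inv_mem h1')

theorem central_fix (hS : IsPGroup p S) (hF : F.IsSaturated p) (hZ : F.IsCentral Z) :
    ∀ z ∈ Z, ∀ y : Ω, F.IsConjElt z y → y = z :=
  ((Cfsg.Agent.S5084.result p hS F hF Z).mp hZ).2

theorem central_comm (hS : IsPGroup p S) (hF : F.IsSaturated p) (hZ : F.IsCentral Z)
    {z : Ω} (hz : z ∈ Z) {s : Ω} (hs : s ∈ S) : s * z * s⁻¹ = z := by
  apply central_fix hS hF hZ z hz
  have hle : Subgroup.zpowers z ≤ S := by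
    rw [Subgroup.zpowers_le]; exact hZ.1 hz
  exact ⟨conjHom (Subgroup.zpowers z) s, F.conj_mem hle hs, rfl⟩

theorem central_map (hS : IsPGroup p S) (hF : F.IsSaturated p) (hZ : F.IsCentral Z)
    {R : Subgroup Ω} {ψ : R →* Ω} (hψ : ψ ∈ F.Hom R) {z : Ω} (hz : z ∈ Z) (hzR : z ∈ R) :
    ψ ⟨z, hzR⟩ = z := by
  apply central_fix hS hF hZ z hz
  have hle : Subgroup.zpowers z ≤ R := by
    rw [Subgroup.zpowers_le]; exact hzR
  exact ⟨ψ.comp (Subgroup.inclusion hle), hom_restrict F hle hψ, rfl⟩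

/-- invariance of the commutator with `x` under maps of the system -/
theorem invariance (hS : IsPGroup p S) (hF : F.IsSaturated p) (hZ : F.IsCentral Z)
    (hE : F.IsFactorSystem Z θ E) (hQ' : E.IsCentral Q')
    {x : Ω} (hx : x ∈ preimageAlong θ Q') {P : Subgroup Ω} {φ : P →* Ω} (hφ : φ ∈ F.Hom P) (u : P) :
    φ u * x * (φ u)⁻¹ = u * x * (u : Ω)⁻¹ := by
  have hPS : P ≤ S := hom_le F hφ
  have hxS : x ∈ S := preimageAlong_le θ Q' hx
  have huS : (u : Ω) ∈ S := hPS u.2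
  have hφuS : φ u ∈ S := (F.le_of_mem hφ).2 u
  obtain ⟨R, ψ, hψ, h1, h2⟩ := key hZ hE hQ' hφ
  obtain ⟨huR, h1'⟩ := h1 u
  obtain ⟨hxR, h2'⟩ := h2 x hx
  have hzx : Subgroup.zpowers x ≤ S := by
    rw [Subgroup.zpowers_le]; exact hxS
  have hw : x⁻¹ * (u * x * (u : Ω)⁻¹) ∈ Z :=
    star hZ hE hQ' hx (F.conj_mem hzx huS)
  have hwR : x⁻¹ * (u * x * (u : Ω)⁻¹) ∈ R :=
    R.mul_mem (R.inv_mem hxR) (R.mul_mem (R.mul_mem huR hxR) (R.inv_mem huR))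
  have h3 := central_map hS hF hZ hψ hw hwR
  have h4 : (⟨x⁻¹ * (u * x * (u : Ω)⁻¹), hwR⟩ : R) =
      (⟨x, hxR⟩ : R)⁻¹ * (⟨u, huR⟩ * ⟨x, hxR⟩ * (⟨u, huR⟩ : R)⁻¹) := rfl
  rw [h4, map_mul, map_inv, map_mul, map_mul, map_inv] at h3
  -- write `ψ u = φ u * z₁`, `ψ x = x * z₂`
  set z₁ := (φ u)⁻¹ * ψ ⟨u, huR⟩ with hz₁
  set z₂ := x⁻¹ * ψ ⟨x, hxR⟩ with hz₂
  have e1 : ψ ⟨u, huR⟩ = φ u * z₁ := by rw [hz₁]; group
  have e2 : ψ ⟨x, hxR⟩ = x * z₂ := by rw [hz₂]; group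
  have c1 : ∀ s ∈ S, s * z₁ = z₁ * s := by
    intro s hs
    have := central_comm hS hF hZ h1' hs
    calc s * z₁ = (s * z₁ * s⁻¹) * s := by group
      _ = z₁ * s := by rw [this]
  have c2 : ∀ s ∈ S, s * z₂ = z₂ * s := by
    intro s hs
    have := central_comm hS hF hZ h2' hs
    calc s * z₂ = (s * z₂ * s⁻¹) * s := by group
      _ = z₂ * s := by rw [this]
  have hz₂S : z₂ ∈ S := hZ.1 h2'
  have h5 : (x * z₂)⁻¹ * (φ u * z₁ * (x * z₂) * (φ u * z₁)⁻¹) = x⁻¹ * (φ u * x * (φ u)⁻¹) := by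
    have a1 : φ u * z₁ * (x * z₂) * (φ u * z₁)⁻¹ = φ u * (z₁ * (x * z₂)) * z₁⁻¹ * (φ u)⁻¹ := by group
    have a2 : z₁ * (x * z₂) = (x * z₂) * z₁ := (c1 _ (S.mul_mem hxS hz₂S)).symm
    have a3 : φ u * (x * z₂ * z₁) * z₁⁻¹ * (φ u)⁻¹ = φ u * x * (z₂ * (φ u)⁻¹) := by group
    have a4 : z₂ * (φ u)⁻¹ = (φ u)⁻¹ * z₂ := (c2 _ (S.inv_mem hφuS)).symm
    rw [a1, a2, a3, a4]
    have a5 : (x * z₂)⁻¹ * (φ u * x * ((φ u)⁻¹ * z₂)) = z₂⁻¹ * ((x⁻¹ * (φ u * x * (φ u)⁻¹)) * z₂) := by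
      group
    have a6 := c2 (x⁻¹ * (φ u * x * (φ u)⁻¹))
      (S.mul_mem (S.inv_mem hxS) (S.mul_mem (S.mul_mem hφuS hxS) (S.inv_mem hφuS)))
    rw [a5, a6]
    group
  rw [e1, e2, h5] at h3
  exact mul_left_cancel h3

/-- with `hyp(F) = S`, the preimage of an `E`-central subgroup lies in `Z(S)` -/
theorem comm_of_perfect (hS : IsPGroup p S) (hF : F.IsSaturated p) (hZ : F.IsCentral Z)
    (hE : F.IsFactorSystem Z θ E) (hQ' : E.IsCentral Q') (hperf : F.hyperfocalSubgroup p = S)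
    {x : Ω} (hx : x ∈ preimageAlong θ Q') {s : Ω} (hs : s ∈ S) : s * x * s⁻¹ = x := by
  have hle : F.hyperfocalSubgroup p ≤ Subgroup.centralizer {x} := by
    unfold hyperfocalSubgroup
    rw [Subgroup.closure_le]
    rintro y ⟨P, α, u, hP, -, rfl⟩
    have hα : IsIso F ((α : MulAut P) : P ≃* P) := (mem_autGroup_iff F hP α).mp α.2
    have h1 := invariance hS hF hZ hE hQ' hx hα u
    show _ ∈ Subgroup.centralizer {x}
    rw [Subgroup.mem_centralizer_iff]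
    intro h hh
    rw [Set.mem_singleton_iff] at hh
    subst hh
    have h2 : ((((α : MulAut P) u : P)) : Ω) * h * ((((α : MulAut P) u : P)) : Ω)⁻¹ = u * h * (u : Ω)⁻¹ := h1
    calc h * ((u : Ω)⁻¹ * (((α : MulAut P) u : P) : Ω))
        = (u : Ω)⁻¹ * (u * h * (u : Ω)⁻¹) * (((α : MulAut P) u : P) : Ω) := by group
      _ = (u : Ω)⁻¹ * ((((α : MulAut P) u : P)) : Ω) * h := by rw [← h2]; group
  rw [hperf] at hle
  have h1 := hle hs
  rw [Subgroup.mem_centralizer_iff] at h1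
  have h2 := h1 x rfl
  calc s * x * s⁻¹ = (x * s) * s⁻¹ := by rw [h2]
    _ = x := by group

/-- every element of `Aut_F(S)` fixes the elements of the preimage of an `E`-central subgroup -/
theorem aut_fix (hS : IsPGroup p S) (hF : F.IsSaturated p) (hZ : F.IsCentral Z)
    (hE : F.IsFactorSystem Z θ E) (hQ' : E.IsCentral Q') (hperf : F.hyperfocalSubgroup p = S)
    {x : Ω} (hx : x ∈ preimageAlong θ Q') (hxS : x ∈ S) (α : F.autGroup S) :
    (α : MulAut S) ⟨x, hxS⟩ = ⟨x, hxS⟩ := by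
  let K : Subgroup (F.autGroup S) :=
    { carrier := {β | (β : MulAut S) ⟨x, hxS⟩ = ⟨x, hxS⟩}
      one_mem' := rfl
      mul_mem' := by
        intro a b ha hb
        show ((a : MulAut S) * (b : MulAut S)) ⟨x, hxS⟩ = ⟨x, hxS⟩
        rw [MulAut.mul_apply]
        have hb' : (b : MulAut S) ⟨x, hxS⟩ = ⟨x, hxS⟩ := hb
        rw [hb']
        exact ha
      inv_mem' := by
        intro a ha
        show ((a : MulAut S)⁻¹) ⟨x, hxS⟩ = ⟨x, hxS⟩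
        have ha' : (a : MulAut S) ⟨x, hxS⟩ = ⟨x, hxS⟩ := ha
        rw [MulAut.inv_apply, MulEquiv.symm_apply_eq]
        exact ha'.symm }
  have hfa := (fa_receptive_of_fullyNormalized hS hF (isFullyNormalized_top F)).1
  obtain ⟨-, R, hR⟩ := hfa
  haveI : Finite (MulAut S) := Finite.of_injective (fun a : MulAut S => (a : S → S))
    (fun a b h => MulEquiv.ext (congrFun h))
  have hsup := Cfsg.Agent.Lib.Helper17.sylow_sup_pResidual R
  have h1 : (R : Subgroup (F.autGroup S)) ≤ K := by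
    rw [hR]
    intro β hβ
    rw [Subgroup.mem_subgroupOf, mem_autInducedBy_iff] at hβ
    obtain ⟨g, hg, hgβ⟩ := hβ
    show (β : MulAut S) ⟨x, hxS⟩ = ⟨x, hxS⟩
    apply Subtype.ext
    rw [hgβ]
    exact comm_of_perfect hS hF hZ hE hQ' hperf hx hg
  have h2 : pResidual p (F.autGroup S) ≤ K := by
    unfold pResidual
    rw [Subgroup.closure_le]
    intro β hβ
    have hcop : (orderOf β).Coprime p := hβ
    have hβiso : IsIso F ((β : MulAut S) : S ≃* S) := (mem_autGroup_iff F le_rfl β).mp β.2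
    have hzx : Subgroup.zpowers x ≤ S := by
      rw [Subgroup.zpowers_le]; exact hxS
    have hz : x⁻¹ * (((β : MulAut S) ⟨x, hxS⟩ : S) : Ω) ∈ Z :=
      star hZ hE hQ' hx (hom_restrict F hzx hβiso)
    set z := x⁻¹ * (((β : MulAut S) ⟨x, hxS⟩ : S) : Ω) with hzdef
    have hzS : z ∈ S := hZ.1 hz
    have hβz : (β : MulAut S) ⟨z, hzS⟩ = ⟨z, hzS⟩ := by
      apply Subtype.ext
      exact central_map hS hF hZ hβiso hz hzS
    have hβx : (β : MulAut S) ⟨x, hxS⟩ = ⟨x, hxS⟩ * ⟨z, hzS⟩ := by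
      apply Subtype.ext
      rw [Subgroup.coe_mul]
      show _ = x * z
      rw [hzdef]; group
    have hpow : ∀ k : ℕ, ((β : MulAut S) ^ k) ⟨x, hxS⟩ = ⟨x, hxS⟩ * ⟨z, hzS⟩ ^ k := by
      intro k
      induction k with
      | zero => simp
      | succ k ih =>
        rw [pow_succ', MulAut.mul_apply, ih, map_mul, map_pow, hβz, hβx, pow_succ', mul_assoc]
    have h3 := hpow (orderOf β)
    have h4 : (β : MulAut S) ^ orderOf β = 1 := by
      rw [← Subgroup.coe_pow, pow_orderOf_eq_one]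
      rfl
    rw [h4, MulAut.one_apply] at h3
    have h5 : (⟨z, hzS⟩ : S) ^ orderOf β = 1 := by
      have := mul_left_cancel (a := (⟨x, hxS⟩ : S)) (b := 1) (c := ⟨z, hzS⟩ ^ orderOf β)
        (by rw [mul_one]; exact h3)
      exact this.symm
    obtain ⟨j, hj⟩ := hS (⟨z, hzS⟩ : S)
    have h6 := pow_gcd_eq_one.mpr ⟨h5, hj⟩
    have h7 : Nat.gcd (orderOf β) (p ^ j) = 1 := Nat.Coprime.pow_right j hcop
    have h8 : (⟨z, hzS⟩ : S) = 1 := by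
      rw [h7, pow_one] at h6
      exact h6
    show (β : MulAut S) ⟨x, hxS⟩ = ⟨x, hxS⟩
    rw [hβx, h8, mul_one]
  have hK : K = ⊤ := by
    rw [eq_top_iff, ← hsup]
    exact sup_le h1 h2
  have := hK ▸ Subgroup.mem_top α
  exact this

/-- every map of the system fixes the elements of the preimage of an `E`-central subgroup -/
theorem hom_fix (hS : IsPGroup p S) (hF : F.IsSaturated p) (hZ : F.IsCentral Z)
    (hE : F.IsFactorSystem Z θ E) (hQ' : E.IsCentral Q') (hperf : F.hyperfocalSubgroup p = S)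
    {x : Ω} (hx : x ∈ preimageAlong θ Q') {φ : Subgroup.zpowers x →* Ω}
    (hφ : φ ∈ F.Hom (Subgroup.zpowers x)) : φ ⟨x, Subgroup.mem_zpowers x⟩ = x := by
  have hxS : x ∈ S := preimageAlong_le θ Q' hx
  have hzx : Subgroup.zpowers x ≤ S := by
    rw [Subgroup.zpowers_le]; exact hxS
  have hz : x⁻¹ * φ ⟨x, Subgroup.mem_zpowers x⟩ ∈ Z := star hZ hE hQ' hx hφ
  set z := x⁻¹ * φ ⟨x, Subgroup.mem_zpowers x⟩ with hzdef
  have hφx : φ ⟨x, Subgroup.mem_zpowers x⟩ = x * z := by rw [hzdef]; group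
  have hxc : ∀ s ∈ S, s * x * s⁻¹ = x := fun s hs => comm_of_perfect hS hF hZ hE hQ' hperf hx hs
  have hzc : ∀ s ∈ S, s * z * s⁻¹ = z := fun s hs => central_comm hS hF hZ hz hs
  have hφxc : ∀ s ∈ S, s * φ ⟨x, Subgroup.mem_zpowers x⟩ = φ ⟨x, Subgroup.mem_zpowers x⟩ * s := by
    intro s hs
    rw [hφx]
    calc s * (x * z) = (s * x * s⁻¹) * (s * z * s⁻¹) * s := by group
      _ = x * z * s := by rw [hxc s hs, hzc s hs]
  -- the image is centralized by `S`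
  have hrange : ∀ y ∈ φ.range, ∀ s ∈ S, y * s = s * y := by
    rintro _ ⟨⟨w, hw⟩, rfl⟩ s hs
    obtain ⟨k, rfl⟩ := Subgroup.mem_zpowers_iff.mp hw
    have h1 : (⟨x ^ k, hw⟩ : Subgroup.zpowers x) = (⟨x, Subgroup.mem_zpowers x⟩ : Subgroup.zpowers x) ^ k := rfl
    rw [h1, map_zpow]
    have hc : Commute (φ ⟨x, Subgroup.mem_zpowers x⟩) s := (hφxc s hs).symm
    exact (hc.zpow_left k).eq
  have hcent : centralizerIn S φ.range = S := by
    apply le_antisymm (centralizerIn_le_S S _)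
    intro s hs
    rw [mem_centralizerIn_iff]
    exact ⟨hs, fun y hy => hrange y hy s hs⟩
  have hfc : F.IsFullyCentralized φ.range := by
    refine ⟨hom_range_le F hφ, fun Q _ => ?_⟩
    rw [hcent]
    exact Subgroup.card_le_of_le (centralizerIn_le_S S Q)
  have hrec := isReceptive_of_fullyCentralized hS hF hfc
  obtain ⟨ψ, hψ, hψφ⟩ := hrec.2 (Subgroup.zpowers x) φ hφ rfl
  have hSle : S ≤ extender S (Subgroup.zpowers x) φ := by
    refine le_trans ?_ (centralizerIn_le_extender φ)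
    intro s hs
    rw [mem_centralizerIn_iff]
    refine ⟨hs, fun y hy => ?_⟩
    obtain ⟨k, rfl⟩ := Subgroup.mem_zpowers_iff.mp hy
    have hc : Commute x s := by
      have := hxc s hs
      show x * s = s * x
      calc x * s = (s * x * s⁻¹) * s := by rw [this]
        _ = s * x := by group
    exact (hc.zpow_left k).eq
  have hψ₁ := hom_restrict F hSle hψ
  obtain ⟨α, hα, hαψ⟩ := exists_aut_of_hom_top F hψ₁
  have hαA : (α : MulAut S) ∈ F.autGroup S := (mem_autGroup_iff F le_rfl α).mpr hα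
  have h1 := aut_fix hS hF hZ hE hQ' hperf hx hxS ⟨α, hαA⟩
  have h2 := hαψ ⟨x, hxS⟩
  have h3 : ((α ⟨x, hxS⟩ : S) : Ω) = x := congrArg Subtype.val h1
  rw [h3] at h2
  have h4 := hψφ x (Subgroup.mem_zpowers x) (hSle hxS)
  rw [← h4]
  exact h2.symm

/-- the centre of the factor system modulo the centre is trivial (general form) -/
theorem center_factor_eq_bot (hS : IsPGroup p S) (hF : F.IsSaturated p) (hZ : F.IsCentral Z)
    (hZc : Z = F.center)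
    (hE : F.IsFactorSystem Z θ E) (hperf : F.hyperfocalSubgroup p = S) : E.center = ⊥ := by
  unfold FusionSystem.center
  rw [sSup_eq_bot]
  intro Q' hQ'
  have hQ'c : E.IsCentral Q' := hQ'
  have hcentral : F.IsCentral (preimageAlong θ Q') := by
    rw [Cfsg.Agent.S5084.result p hS F hF]
    refine ⟨preimageAlong_le θ Q', fun x hx y hxy => ?_⟩
    obtain ⟨φ, hφ, rfl⟩ := hxy
    exact hom_fix hS hF hZ hE hQ'c hperf hx hφ
  have hle : preimageAlong θ Q' ≤ Z := by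
    rw [hZc]
    exact le_center hcentral
  obtain ⟨hZS, hker, hrange, -⟩ := hE
  rw [eq_bot_iff]
  intro y hy
  have hyS' : y ∈ S' := hQ'c.1 hy
  rw [← hrange] at hyS'
  obtain ⟨s, rfl⟩ := hyS'
  have hsQ : (s : Ω) ∈ preimageAlong θ Q' := mem_preimageAlong.mpr ⟨s.2, hy⟩
  rw [Subgroup.mem_bot, hker]
  exact hle hsQ

end main

/-- An analogue of Grün's lemma for fusion systems. Let F be a saturated fusion system over a finite p-group S that is perfect in the sense that its hyperfocal subgroup is all of S (F coincides with its p-residual subsystem). Then the second centre of F equals its centre: every fusion system over S/(Z(F) ∩ S) that is the factor system of F modulo its centre Z(F), read through the quotient map, has trivial centre. -/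
theorem result {Ω : Type*} [Group Ω] {S : Subgroup Ω} [Finite S] (p : ℕ) [Fact p.Prime] (hS : IsPGroup p S) (F : Cfsg.FusionSystem S) (hF : F.IsSaturated p)
    (hperf : F.hyperfocalSubgroup p = S)
    (E : Cfsg.FusionSystem (⊤ : Subgroup (↥S ⧸ (F.center).subgroupOf S)))
    (hE : F.IsFactorSystem F.center (QuotientGroup.mk' ((F.center).subgroupOf S)) E) : E.center = ⊥ :=
  center_factor_eq_bot hS hF (isCentral_center F) rfl hE hperf

end Cfsg.Agent.S5315
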