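import Cfsg.Statements.S5317
import Cfsg.Agent.H26.PSL2Fusion

set_option autoImplicit false
open Cfsg

namespace Cfsg.Agent.S5317

theorem arith_mod (q : ℕ) (h : q ^ 2 % 16 = 1) : q % 8 = 1 ∨ q % 8 = 7 := by
  have h4 : q ^ 2 % 16 = ((q % 16) ^ 2) % 16 := Nat.pow_mod _ _ _
  rw [h4] at h
  have h5 : q % 16 < 16 := Nat.mod_lt _ (by norm_num)
  have h6 : q % 8 = (q % 16) % 8 := by omega
  rw [h6]
  revert h
  generalize q % 16 = r at h5 ⊢
  interval_cases r <;> decide

/-- Let F be a finite field of odd order q with q² ≡ 1 mod 16 (so that a Sylow 2-subgroup of PSL(2,q), dihedral of order the 2-part of (q²−1)/2, has order at least 8). Then the 2-fusion system of PSL(2,F) on a Sylow 2-subgroup is simple: saturated, over a nontrivial 2-group, with no normal subsystem other than the trivial one and itself. -/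
theorem result {F : Type*} [Field F] [Fintype F] (hodd : Fintype.card F % 2 = 1) (h16 : 16 ∣ Fintype.card F ^ 2 - 1)
    (S : Sylow 2 (Matrix.ProjectiveSpecialLinearGroup (Fin 2) F)) :
    (Cfsg.groupFusionSystem (S : Subgroup (Matrix.ProjectiveSpecialLinearGroup (Fin 2) F))).IsSimple 2 := by
  have hodd' : Odd (Fintype.card F) := Nat.odd_iff.mpr hodd
  apply Cfsg.Agent.H26.psl2_fusion_simple hodd'
  have h1 : 1 ≤ Fintype.card F ^ 2 := Nat.one_le_pow _ _ Fintype.card_pos
  apply arith_mod
  obtain ⟨k, hk⟩ := h16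
  omega

end Cfsg.Agent.S5317
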