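import Cfsg.Statements.S5326
import Cfsg.Agent.Lib.Helper27.FusionEssential

set_option autoImplicit false
open Cfsg

namespace Cfsg.Agent.S5326

open Cfsg.FusionSystem Cfsg.Agent.Lib.Helper27

variable {Ω : Type*} [Group Ω] {S : Subgroup Ω}

/-- `χ : P ≃* Q` is an isomorphism of the system that extends to a map of the system on `N_S(P)`. -/
def InX (F : Cfsg.FusionSystem S) (Q P : Subgroup Ω) (χ : P ≃* Q) : Prop :=
  IsIso F χ ∧ ∃ χ' ∈ F.Hom (normalizerIn S P),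
    ∀ (x : Ω) (hx : x ∈ P) (hx' : x ∈ normalizerIn S P), χ' ⟨x, hx'⟩ = χ ⟨x, hx⟩

theorem key_lemma [Finite S] {p : ℕ} [Fact p.Prime] (hS : IsPGroup p S) {F : Cfsg.FusionSystem S}
    {Q : Subgroup Ω} {K : Subgroup (MulAut Q)}
    (hK3 : ∀ β ∈ F.autGroup Q, ∀ g : normalizerIn S Q, (g : Ω) ∉ Q →
        β * conjAutHom S Q g * β⁻¹ ∈ autInducedBy S Q → β ∈ K)
    {P P' T : Subgroup Ω} {θ : T →* Ω} (hθ : θ ∈ F.Hom T) (hPT : P ≤ T) (hne : P ≠ T)
    (hθP : ∀ x : T, (x : Ω) ∈ P → θ x ∈ P') (χ : P ≃* Q) (χ' : P' ≃* Q)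
    (hχ : InX F Q P χ) (hχ' : InX F Q P' χ') :
    ∃ k ∈ K, ∀ (x : T) (hx : (x : Ω) ∈ P) (hx' : θ x ∈ P'),
      ((χ' ⟨θ x, hx'⟩ : Q) : Ω) = ((k (χ ⟨x, hx⟩) : Q) : Ω) := by
  obtain ⟨hχiso, χt, hχt, hχtχ⟩ := hχ
  obtain ⟨hχ'iso, χt', hχt', hχt'χ'⟩ := hχ'
  have hTS : T ≤ S := hom_le F hθ
  have hPS : P ≤ S := hχiso.le_left
  have hP'S : P' ≤ S := hχ'iso.le_left
  have hQS : Q ≤ S := hχiso.le_right
  haveI : Finite T := Finite.of_injective (Subgroup.inclusion hTS) (Subgroup.inclusion_injective hTS)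
  haveI : Finite P := Finite.of_injective (Subgroup.inclusion hPS) (Subgroup.inclusion_injective hPS)
  haveI : Finite P' := Finite.of_injective (Subgroup.inclusion hP'S) (Subgroup.inclusion_injective hP'S)
  haveI : Finite Q := Finite.of_injective (Subgroup.inclusion hQS) (Subgroup.inclusion_injective hQS)
  -- the restriction of θ as an isomorphism P ≃* P'
  have hfinj : Function.Injective ((θ.comp (Subgroup.inclusion hPT)).codRestrict P' (fun x => hθP _ x.2)) := by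
    intro x y h
    have h1 : θ (Subgroup.inclusion hPT x) = θ (Subgroup.inclusion hPT y) := congrArg Subtype.val h
    have h2 := F.injective_of_mem hθ h1
    exact Subtype.ext (congrArg (fun z : T => (z : Ω)) h2)
  have hcard : Nat.card P' ≤ Nat.card P := by
    rw [Nat.card_congr χ.toEquiv, Nat.card_congr χ'.toEquiv]
  let e : P ≃* P' := MulEquiv.ofBijective _ (hfinj.bijective_of_nat_card_le hcard)
  have heθ : ∀ x : P, ((e x : P') : Ω) = θ (Subgroup.inclusion hPT x) := fun x => rfl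
  have he : IsIso F e := isIso_of_hom_of_eq (hom_restrict F hPT hθ) heθ
  have hβ : IsIso F (χ.symm.trans (e.trans χ')) := hχiso.symm.trans (he.trans hχ'iso)
  have hβA : ((χ.symm.trans (e.trans χ') : Q ≃* Q) : MulAut Q) ∈ F.autGroup Q :=
    (mem_autGroup_iff F hQS _).mpr hβ
  -- an element of N_T(P) outside P
  have hTp : IsPGroup p T := hS.of_injective (Subgroup.inclusion hTS) (Subgroup.inclusion_injective hTS)
  obtain ⟨g, hgN, hgP⟩ := exists_mem_normalizerIn_not_mem hTp (lt_of_le_of_ne hPT hne)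
  have hgNS : g ∈ normalizerIn S P := ⟨hTS hgN.1, hgN.2⟩
  have hθgN : θ ⟨g, hgN.1⟩ ∈ normalizerIn S P' := by
    refine ⟨(F.le_of_mem hθ).2 _, ?_⟩
    apply mem_normalizer_of_conj_mem
    intro y hy
    obtain ⟨x, hx⟩ : ∃ x : P, ((e x : P') : Ω) = y := ⟨e.symm ⟨y, hy⟩, by simp⟩
    have hx' : g * (x : Ω) * g⁻¹ ∈ P := conj_mem_of_mem_normalizerIn hgNS x.2
    have h1 : θ ⟨g, hgN.1⟩ * y * (θ ⟨g, hgN.1⟩)⁻¹ = θ ⟨g * (x : Ω) * g⁻¹, hPT hx'⟩ := by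
      rw [← hx, heθ, ← map_inv, ← map_mul, ← map_mul]
      rfl
    rw [h1]
    exact hθP _ hx'
  have hg'N : χt ⟨g, hgNS⟩ ∈ normalizerIn S Q :=
    hom_normalizerIn_mem_normalizerIn hPS hχt (χ := χ) (fun x => hχtχ x x.2 _) ⟨g, hgNS⟩
  have hg'Q : χt ⟨g, hgNS⟩ ∉ Q := by
    intro h
    obtain ⟨x, hx⟩ : ∃ x : P, ((χ x : Q) : Ω) = χt ⟨g, hgNS⟩ := ⟨χ.symm ⟨_, h⟩, by simp⟩
    rw [← hχtχ x x.2 (le_normalizerIn hPS x.2)] at hx
    have h2 := F.injective_of_mem hχt hx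
    have h3 : (x : Ω) = g := congrArg (fun z : normalizerIn S P => (z : Ω)) h2
    exact hgP (h3 ▸ x.2)
  have hconj : ((χ.symm.trans (e.trans χ') : Q ≃* Q) : MulAut Q) *
      conjAutHom S Q ⟨χt ⟨g, hgNS⟩, hg'N⟩ * ((χ.symm.trans (e.trans χ') : Q ≃* Q) : MulAut Q)⁻¹ ∈
      autInducedBy S Q := by
    rw [mem_autInducedBy_iff]
    refine ⟨χt' ⟨θ ⟨g, hgN.1⟩, hθgN⟩, (F.le_of_mem hχt').2 _, fun y => ?_⟩
    -- y = β (χ x)
    obtain ⟨x, hx⟩ : ∃ x : P, (χ.symm.trans (e.trans χ')) (χ x) = y := by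
      refine ⟨χ.symm ((χ.symm.trans (e.trans χ')).symm y), ?_⟩
      simp
    have hx' : g * (x : Ω) * g⁻¹ ∈ P := conj_mem_of_mem_normalizerIn hgNS x.2
    have h1 : conjAutHom S Q ⟨χt ⟨g, hgNS⟩, hg'N⟩ (χ x) = χ ⟨g * (x : Ω) * g⁻¹, hx'⟩ := by
      apply Subtype.ext
      rw [conjAutHom_apply]
      simp only
      rw [← hχtχ x x.2 (le_normalizerIn hPS x.2), ← hχtχ _ hx' (le_normalizerIn hPS hx'), ← map_inv,
        ← map_mul, ← map_mul]
      rfl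
    have h2 : ((χ.symm.trans (e.trans χ') : Q ≃* Q) : MulAut Q)⁻¹ y = χ x := by
      rw [← hx]
      exact MulAut.inv_apply_self Q _ _
    rw [MulAut.mul_apply, MulAut.mul_apply, h2, h1]
    have h3 : ((χ.symm.trans (e.trans χ') : Q ≃* Q) : MulAut Q) (χ ⟨g * (x : Ω) * g⁻¹, hx'⟩) =
        χ' (e ⟨g * (x : Ω) * g⁻¹, hx'⟩) := by
      show (χ.symm.trans (e.trans χ')) (χ ⟨g * (x : Ω) * g⁻¹, hx'⟩) = _
      simp
    have h4 : y = χ' (e x) := by
      rw [← hx]; simp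
    rw [h3, h4]
    have hex : ((e x : P') : Ω) ∈ normalizerIn S P' := le_normalizerIn hP'S (e x).2
    have hex' : ((e ⟨g * (x : Ω) * g⁻¹, hx'⟩ : P') : Ω) ∈ normalizerIn S P' :=
      le_normalizerIn hP'S (e _).2
    rw [← hχt'χ' _ (e x).2 hex, ← hχt'χ' _ (e _).2 hex', ← map_inv, ← map_mul, ← map_mul]
    congr 1
    apply Subtype.ext
    simp only [Subgroup.coe_mul, Subgroup.coe_inv]
    rw [heθ, heθ, ← map_inv, ← map_mul, ← map_mul]
    rfl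
  have hβK := hK3 _ hβA ⟨χt ⟨g, hgNS⟩, hg'N⟩ hg'Q hconj
  refine ⟨_, hβK, fun x hx hx' => ?_⟩
  show _ = (((χ.symm.trans (e.trans χ')) (χ ⟨x, hx⟩) : Q) : Ω)
  simp only [MulEquiv.trans_apply, MulEquiv.symm_apply_apply]
  congr 2

theorem inX_refl (F : Cfsg.FusionSystem S) {Q : Subgroup Ω} (hQS : Q ≤ S) :
    InX F Q Q (MulEquiv.refl Q) :=
  ⟨isIso_refl F hQS, (normalizerIn S Q).subtype, hom_subtype F (normalizerIn_le_S S Q), fun _ _ _ => rfl⟩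

theorem exists_inX [Finite S] {p : ℕ} [Fact p.Prime] (hS : IsPGroup p S) {F : Cfsg.FusionSystem S}
    (hF : F.IsSaturated p) {Q : Subgroup Ω} (hfn : F.IsFullyNormalized Q) {P : Subgroup Ω}
    (hPQ : F.IsConj P Q) : ∃ χ : P ≃* Q, InX F Q P χ := by
  obtain ⟨φ, hφ, χ, hχ, h⟩ := exists_hom_normalizerIn_of_fullyNormalized hS hF hfn hPQ
  exact ⟨χ, hχ, φ, hφ, h⟩

theorem ne_of_inX [Finite S] {F : Cfsg.FusionSystem S} {Q : Subgroup Ω}
    (hgQ : ∃ g ∈ normalizerIn S Q, g ∉ Q) {P : Subgroup Ω} {χ : P ≃* Q} (hχ : InX F Q P χ) : P ≠ S := by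
  intro h
  subst h
  obtain ⟨g, hgN, hgQ'⟩ := hgQ
  have hQS : Q ≤ P := hχ.1.le_right
  have hcard : Nat.card P = Nat.card Q := Nat.card_congr χ.toEquiv
  have : Q = P := Subgroup.eq_of_le_of_card_ge hQS hcard.le
  exact hgQ' (this ▸ hgN.1)

theorem ne_normalizerIn_of_inX [Finite S] {p : ℕ} [Fact p.Prime] (hS : IsPGroup p S)
    {F : Cfsg.FusionSystem S} {Q : Subgroup Ω}
    (hgQ : ∃ g ∈ normalizerIn S Q, g ∉ Q) {P : Subgroup Ω} {χ : P ≃* Q} (hχ : InX F Q P χ) :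
    P ≠ normalizerIn S P := by
  have hPS : P ≤ S := hχ.1.le_left
  have hlt : P < S := lt_of_le_of_ne hPS (ne_of_inX hgQ hχ)
  obtain ⟨g, hgN, hgP⟩ := exists_mem_normalizerIn_not_mem hS hlt
  intro h
  exact hgP (h ▸ hgN)

/-- The system omitting the class of `Q`. -/
def omitSystem [Finite S] {p : ℕ} [Fact p.Prime] (hS : IsPGroup p S) (F : Cfsg.FusionSystem S)
    (hF : F.IsSaturated p) (Q : Subgroup Ω) (hfn : F.IsFullyNormalized Q) (K : Subgroup (MulAut Q))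
    (hgQ : ∃ g ∈ normalizerIn S Q, g ∉ Q)
    (hK3 : ∀ β ∈ F.autGroup Q, ∀ g : normalizerIn S Q, (g : Ω) ∉ Q →
        β * conjAutHom S Q g * β⁻¹ ∈ autInducedBy S Q → β ∈ K) : Cfsg.FusionSystem S where
  Hom P := {φ | φ ∈ F.Hom P ∧ ∀ (P' : Subgroup Ω) (_ : φ.range = P') (χ : P ≃* Q) (χ' : P' ≃* Q),
      InX F Q P χ → InX F Q P' χ' → ∃ k ∈ K, ∀ (x : P) (hx : φ x ∈ P'),
        ((χ' ⟨φ x, hx⟩ : Q) : Ω) = ((k (χ x) : Q) : Ω)}
  le_of_mem h := F.le_of_mem h.1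
  injective_of_mem h := F.injective_of_mem h.1
  conj_mem := by
    intro P g hP hg
    refine ⟨F.conj_mem hP hg, ?_⟩
    rintro P' rfl χ χ' hχ hχ'
    have hθ : conjHom S g ∈ F.Hom S := F.conj_mem le_rfl hg
    obtain ⟨k, hk, hk'⟩ := key_lemma hS hK3 hθ hP (ne_of_inX hgQ hχ)
      (fun x hx => (⟨⟨x, hx⟩, rfl⟩ : conjHom S g x ∈ (conjHom P g).range)) χ χ' hχ hχ'
    exact ⟨k, hk, fun x hx => hk' ⟨x, hP x.2⟩ x.2 hx⟩
  comp_mem := by
    rintro P P'' φ ψ ⟨hφ, hφE⟩ ⟨hψ, hψE⟩ h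
    refine ⟨F.comp_mem hφ hψ h, ?_⟩
    rintro P₃ rfl χ χ₃ hχ hχ₃
    have hPQ : F.IsConj P Q := (isConj_iff F).mpr ⟨χ, hχ.1⟩
    have hrange : φ.range ≤ P'' := by
      rintro _ ⟨x, rfl⟩
      exact h x
    by_cases heq : φ.range = P''
    · have hP''Q : F.IsConj P'' Q := by
        rw [← heq]
        exact isConj_trans F (isConj_symm F ⟨φ, hφ, rfl⟩) hPQ
      obtain ⟨χ'', hχ''⟩ := exists_inX hS hF hfn hP''Q
      obtain ⟨k₁, hk₁, hk₁'⟩ := hφE P'' heq χ χ'' hχ hχ''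
      have hr : ψ.range = (ψ.comp (φ.codRestrict P'' h)).range := by
        ext y
        constructor
        · rintro ⟨z, rfl⟩
          have hz : (z : Ω) ∈ φ.range := heq ▸ z.2
          obtain ⟨x, hx⟩ := hz
          exact ⟨x, by
            simp only [MonoidHom.coe_comp, Function.comp_apply]
            congr 1
            exact Subtype.ext hx⟩
        · rintro ⟨x, rfl⟩
          exact ⟨_, rfl⟩
      obtain ⟨k₂, hk₂, hk₂'⟩ := hψE _ hr χ'' χ₃ hχ'' hχ₃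
      refine ⟨k₂ * k₁, K.mul_mem hk₂ hk₁, fun x hx => ?_⟩
      have h1 := hk₂' (φ.codRestrict P'' h x) hx
      have h2 := hk₁' x (h x)
      rw [MulAut.mul_apply]
      have h3 : k₁ (χ x) = χ'' ⟨φ x, h x⟩ := Subtype.ext h2.symm
      rw [h3]
      exact h1
    · have hP'Q : F.IsConj φ.range Q := isConj_trans F (isConj_symm F ⟨φ, hφ, rfl⟩) hPQ
      obtain ⟨χ', hχ'⟩ := exists_inX hS hF hfn hP'Q
      obtain ⟨k₁, hk₁, hk₁'⟩ := hφE φ.range rfl χ χ' hχ hχ'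
      obtain ⟨k₂, hk₂, hk₂'⟩ := key_lemma hS hK3 hψ hrange heq
        (P' := (ψ.comp (φ.codRestrict P'' h)).range)
        (fun y hy => by
          obtain ⟨x, hx⟩ := hy
          exact ⟨x, by
            simp only [MonoidHom.coe_comp, Function.comp_apply]
            congr 1
            exact Subtype.ext hx⟩) χ' χ₃ hχ' hχ₃
      refine ⟨k₂ * k₁, K.mul_mem hk₂ hk₁, fun x hx => ?_⟩
      have h1 := hk₂' (φ.codRestrict P'' h x) ⟨x, rfl⟩ hx
      have h2 := hk₁' x ⟨x, rfl⟩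
      rw [MulAut.mul_apply]
      have h3 : k₁ (χ x) = χ' ⟨φ x, ⟨x, rfl⟩⟩ := Subtype.ext h2.symm
      rw [h3]
      exact h1
  inv_mem := by
    rintro P φ ⟨hφ, hφE⟩
    obtain ⟨ψ, hψ, hinv⟩ := F.inv_mem hφ
    refine ⟨ψ, ⟨hψ, ?_⟩, hinv⟩
    rintro P₂ rfl χ' χ₂ hχ' hχ₂
    have hPS : P ≤ S := hom_le F hφ
    have hP'Q : F.IsConj φ.range Q := (isConj_iff F).mpr ⟨χ', hχ'.1⟩
    have hPQ : F.IsConj P Q := isConj_trans F ⟨φ, hφ, rfl⟩ hP'Q
    obtain ⟨χ, hχ⟩ := exists_inX hS hF hfn hPQ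
    obtain ⟨k₁, hk₁, hk₁'⟩ := hφE φ.range rfl χ χ' hχ hχ'
    -- compare χ and χ₂
    have hmem : ∀ x : P, (x : Ω) ∈ ψ.range := fun x => ⟨⟨φ x, ⟨x, rfl⟩⟩, hinv x⟩
    obtain ⟨k₀, hk₀, hk₀'⟩ := key_lemma hS hK3 (hom_subtype F (normalizerIn_le_S S P))
      (le_normalizerIn hPS) (ne_normalizerIn_of_inX hS hgQ hχ)
      (P' := ψ.range) (fun x hx => hmem ⟨x, hx⟩) χ χ₂ hχ hχ₂
    refine ⟨k₀ * k₁⁻¹, K.mul_mem hk₀ (K.inv_mem hk₁), ?_⟩
    rintro ⟨_, x, rfl⟩ hx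
    have h1 := hk₀' ⟨x, le_normalizerIn hPS x.2⟩ x.2 (hmem x)
    have h2 := hk₁' x ⟨x, rfl⟩
    have h3 : χ' ⟨φ x, ⟨x, rfl⟩⟩ = k₁ (χ x) := Subtype.ext h2
    rw [MulAut.mul_apply, h3, MulAut.inv_apply_self]
    rw [← h1]
    congr 2
    exact Subtype.ext (hinv x)

/-- Let F be a saturated fusion system over a finite p-group S and Q an essential subgroup. Then the F-conjugacy class of Q cannot be left out of a generating family: there is a fusion system E over S whose automorphism group of every subgroup R ≤ S not F-conjugate to Q contains Aut_F(R), and yet E does not contain every map of F. -/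
theorem result {Ω : Type*} [Group Ω] {S : Subgroup Ω} [Finite S] (p : ℕ) [Fact p.Prime] (hS : IsPGroup p S) (F : Cfsg.FusionSystem S) (hF : F.IsSaturated p) (Q : Subgroup Ω) (hQ : F.IsEssential p Q) : ∃ E : Cfsg.FusionSystem S, (∀ R : Subgroup Ω, R ≤ S → ¬ F.IsConj Q R → F.autGroup R ≤ E.autGroup R) ∧ ¬ F ≤ E := by
  obtain ⟨K, hKA, ⟨β, hβA, hβK⟩, hKS, hgQ, hK3⟩ := essential_exists_subgroup hS hF hQ
  have hfn : F.IsFullyNormalized Q := hQ.2.1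
  have hQS : Q ≤ S := hfn.1
  refine ⟨omitSystem hS F hF Q hfn K hgQ hK3, fun R hRS hnc => ?_, fun hle => ?_⟩
  · unfold FusionSystem.autGroup
    apply Subgroup.closure_mono
    intro α hα
    refine ⟨hα, ?_⟩
    intro P' _ χ χ' hχ _
    exact absurd (isConj_symm F ((isConj_iff F).mpr ⟨χ, hχ.1⟩)) hnc
  · have hβiso : IsIso F (β : Q ≃* Q) := (mem_autGroup_iff F hQS β).mp hβA
    have h1 := hle Q hβiso
    have hr : (Q.subtype.comp (β : Q ≃* Q).toMonoidHom).range = Q := by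
      ext y
      constructor
      · rintro ⟨x, rfl⟩
        exact (β x).2
      · intro hy
        exact ⟨β.symm ⟨y, hy⟩, by simp⟩
    obtain ⟨k, hk, hk'⟩ := h1.2 Q hr (MulEquiv.refl Q) (MulEquiv.refl Q) (inX_refl F hQS) (inX_refl F hQS)
    apply hβK
    have : β = k := by
      ext x
      have := hk' x (β x).2
      simpa using this
    rw [this]
    exact hk

end Cfsg.Agent.S5326
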