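import Cfsg.Statements.S5327
import Cfsg.Agent.Lib.Helper27.FusionBasic

set_option autoImplicit false
open Cfsg

namespace Cfsg.Agent.S5327

open Cfsg.FusionSystem Cfsg.Agent.Lib.Helper27

/-- The auxiliary system: the maps of `F` that, on the `F`-class of `R`, are maps of `E`. -/
def auxSystem {Ω : Type*} [Group Ω] {S : Subgroup Ω} [Finite S] (F E : Cfsg.FusionSystem S)
    (R : Subgroup Ω)
    (hIH : ∀ Q : Subgroup Ω, Nat.card R < Nat.card Q → F.Hom Q ⊆ E.Hom Q) :
    Cfsg.FusionSystem S where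
  Hom P := {φ | φ ∈ F.Hom P ∧ (F.IsConj R P → φ ∈ E.Hom P)}
  le_of_mem := fun h => F.le_of_mem h.1
  injective_of_mem := fun h => F.injective_of_mem h.1
  conj_mem := fun hP hg => ⟨F.conj_mem hP hg, fun _ => E.conj_mem hP hg⟩
  comp_mem := by
    intro P Q φ ψ hφ hψ h
    refine ⟨F.comp_mem hφ.1 hψ.1 h, fun hRP => ?_⟩
    have hφE := hφ.2 hRP
    have hQS : Q ≤ S := hom_le F hψ.1
    haveI : Finite Q := Finite.of_injective (Subgroup.inclusion hQS) (Subgroup.inclusion_injective hQS)
    have hrange : φ.range ≤ Q := by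
      rintro _ ⟨x, rfl⟩
      exact h x
    have hconj : F.IsConj R φ.range := isConj_trans F hRP ⟨φ, hφ.1, rfl⟩
    have hψE : ψ ∈ E.Hom Q := by
      by_cases heq : φ.range = Q
      · exact hψ.2 (heq ▸ hconj)
      · have hlt : φ.range < Q := lt_of_le_of_ne hrange heq
        have hcard : Nat.card R = Nat.card φ.range := by
          obtain ⟨e, -⟩ := (isConj_iff F).mp hconj
          exact Nat.card_congr e.toEquiv
        have : Nat.card φ.range < Nat.card Q := by
          by_contra hnot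
          push_neg at hnot
          exact heq (Subgroup.eq_of_le_of_card_ge hrange hnot)
        exact hIH Q (hcard ▸ this) hψ.1
    exact E.comp_mem hφE hψE h
  inv_mem := by
    intro P φ hφ
    obtain ⟨ψ, hψ, hinv⟩ := F.inv_mem hφ.1
    refine ⟨ψ, ⟨hψ, fun hconj => ?_⟩, hinv⟩
    have hRP : F.IsConj R P := isConj_trans F hconj (isConj_symm F ⟨φ, hφ.1, rfl⟩)
    obtain ⟨ψ', hψ', hinv'⟩ := E.inv_mem (hφ.2 hRP)
    have : ψ = ψ' := by
      ext ⟨y, x, rfl⟩
      rw [hinv x, hinv' x]
    rw [this]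
    exact hψ'

theorem autGroup_le_aux {Ω : Type*} [Group Ω] {S : Subgroup Ω} [Finite S] (F E : Cfsg.FusionSystem S)
    (R : Subgroup Ω)
    (hIH : ∀ Q : Subgroup Ω, Nat.card R < Nat.card Q → F.Hom Q ⊆ E.Hom Q) (T : Subgroup Ω)
    (hT : F.IsConj R T → F.autGroup T ≤ E.autGroup T) :
    F.autGroup T ≤ (auxSystem F E R hIH).autGroup T := by
  unfold FusionSystem.autGroup
  apply Subgroup.closure_mono
  intro α hα
  refine ⟨hα, fun hconj => ?_⟩
  have hTS : T ≤ S := isConj_le_right F hconj
  have h1 : α ∈ F.autGroup T := Subgroup.subset_closure hα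
  have h2 : α ∈ E.autGroup T := hT hconj h1
  exact (mem_autGroup_iff E hTS α).mp h2

/-- Let F be a saturated fusion system over a finite p-group S. Call a family of subgroups of S generating when every fusion system over S whose automorphism group of each member R contains Aut_F(R) contains every map of F. If two families are each closed under F-conjugacy and each generating, then their intersection is generating. -/
theorem result {Ω : Type*} [Group Ω] {S : Subgroup Ω} [Finite S] (p : ℕ) [Fact p.Prime] (hS : IsPGroup p S) (F : Cfsg.FusionSystem S) (hF : F.IsSaturated p) (𝒬₁ 𝒬₂ : Set (Subgroup Ω)) (h₁ : ∀ R ∈ 𝒬₁, ∀ R' : Subgroup Ω, F.IsConj R R' → R' ∈ 𝒬₁) (h₂ : ∀ R ∈ 𝒬₂, ∀ R' : Subgroup Ω, F.IsConj R R' → R' ∈ 𝒬₂) (hg₁ : ∀ E : Cfsg.FusionSystem S, (∀ R ∈ 𝒬₁, F.autGroup R ≤ E.autGroup R) → F ≤ E) (hg₂ : ∀ E : Cfsg.FusionSystem S, (∀ R ∈ 𝒬₂, F.autGroup R ≤ E.autGroup R) → F ≤ E) (E : Cfsg.FusionSystem S) (hE : ∀ R ∈ 𝒬₁ ∩ 𝒬₂, F.autGroup R ≤ E.autGroup R) : F ≤ E := by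
  suffices h : ∀ n : ℕ, ∀ P : Subgroup Ω, Nat.card S - Nat.card P = n → F.Hom P ⊆ E.Hom P by
    intro P
    exact h _ P rfl
  intro n
  induction n using Nat.strong_induction_on with
  | _ n ih =>
    intro R hn φ hφ
    have hRS : R ≤ S := hom_le F hφ
    have hIH : ∀ Q : Subgroup Ω, Nat.card R < Nat.card Q → F.Hom Q ⊆ E.Hom Q := by
      intro Q hQ ψ hψ
      have hQS := hom_le F hψ
      have hle : Nat.card Q ≤ Nat.card S := Subgroup.card_le_of_le hQS
      exact ih (Nat.card S - Nat.card Q) (by omega) Q rfl hψ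
    have hle : F ≤ auxSystem F E R hIH := by
      by_cases h1 : R ∈ 𝒬₁
      · by_cases h2 : R ∈ 𝒬₂
        · apply hg₁
          intro T hT
          apply autGroup_le_aux
          intro hconj
          exact hE T ⟨hT, h₂ R h2 T hconj⟩
        · apply hg₂
          intro T hT
          apply autGroup_le_aux
          intro hconj
          exact absurd (h₂ T hT R (isConj_symm F hconj)) h2
      · apply hg₁
        intro T hT
        apply autGroup_le_aux
        intro hconj
        exact absurd (h₁ T hT R (isConj_symm F hconj)) h1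
    exact (hle R hφ).2 (isConj_refl F hRS)

end Cfsg.Agent.S5327
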