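import Cfsg.Statements.S5330
import Cfsg.Agent.Lib.Helper27.FusionAbelian
import Cfsg.Agent.Lib.Helper27.CoprimeAbelian

set_option autoImplicit false
open Cfsg

namespace Cfsg.Agent.S5330

open Cfsg.FusionSystem Cfsg.Agent.Lib.Helper27

variable {Ω : Type*} [Group Ω] {S : Subgroup Ω}

/-- For abelian `S`, the automorphisms induced by `S` on a subgroup are trivial. -/
theorem autInducedBy_eq_bot (hab : ∀ x ∈ S, ∀ y ∈ S, x * y = y * x) {P : Subgroup Ω} (hP : P ≤ S) :
    autInducedBy S P = ⊥ := by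
  rw [eq_bot_iff]
  intro α hα
  rw [mem_autInducedBy_iff] at hα
  obtain ⟨g, hg, h⟩ := hα
  rw [Subgroup.mem_bot]
  ext x
  rw [h x, hab g hg x (hP x.2)]
  simp

/-- In a saturated system, `S` is fully automized. -/
theorem top_fullyAutomized [Finite S] (p : ℕ) (F : FusionSystem S) (hF : F.IsSaturated p) :
    F.IsFullyAutomized p S := by
  obtain ⟨Q, hSQ, hQ, -⟩ := hF S le_rfl
  obtain ⟨e, he⟩ := (isConj_iff F).mp hSQ
  have hQS : Q = S := by
    apply Subgroup.eq_of_le_of_card_ge he.le_right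
    rw [Nat.card_congr e.toEquiv]
  subst hQS; exact hQ

theorem autGroup_coprime [Finite S] (p : ℕ) [Fact p.Prime] (hS : IsPGroup p S) (F : FusionSystem S)
    (hF : F.IsSaturated p) (hab : ∀ x ∈ S, ∀ y ∈ S, x * y = y * x) :
    Nat.Coprime (Nat.card (F.autGroup S)) (Nat.card S) := by
  obtain ⟨-, R, hR⟩ := top_fullyAutomized p F hF
  rw [autInducedBy_eq_bot hab le_rfl] at hR
  have h1 : ¬ p ∣ (R : Subgroup (F.autGroup S)).index := R.not_dvd_index
  rw [hR] at h1
  have h2 : (⊥ : Subgroup (MulAut S)).subgroupOf (F.autGroup S) = ⊥ := by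
    simp
  rw [h2, Subgroup.index_bot] at h1
  obtain ⟨n, hn⟩ := IsPGroup.iff_card.mp hS
  rw [hn]
  apply Nat.Coprime.pow_right
  exact ((Nat.Prime.coprime_iff_not_dvd Fact.out).mpr h1).symm

/-- Let F be a saturated fusion system over a finite abelian p-group S. -/
theorem result {Ω : Type*} [Group Ω] {S : Subgroup Ω} [Finite S] (p : ℕ) [Fact p.Prime] (hS : IsPGroup p S) (F : Cfsg.FusionSystem S) (hF : F.IsSaturated p) (hab : ∀ x ∈ S, ∀ y ∈ S, x * y = y * x) : F.center ⊓ F.focalSubgroup = ⊥ ∧ F.center ⊔ F.focalSubgroup = S := by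
  letI : CommGroup S := { (inferInstance : Group S) with
    mul_comm := fun a b => Subtype.ext (hab a a.2 b b.2) }
  have hcop := autGroup_coprime p hS F hF hab
  set A : Subgroup (MulAut S) := F.autGroup S with hA
  have hAmem : ∀ α : MulAut S, α ∈ A ↔ IsIso F (α : S ≃* S) := fun α => mem_autGroup_iff F le_rfl α
  -- the centre
  have hcenter : F.center = (autFixedSubgroup A).map S.subtype := by
    apply le_antisymm
    · apply sSup_le
      rintro Q ⟨hQS, hQ⟩ q hq
      refine ⟨⟨q, hQS hq⟩, ?_, rfl⟩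
      intro α hα
      obtain ⟨ψ, -, h1, h2⟩ := hQ S _ ((hAmem α).mp hα)
      have h3 := h1 ⟨q, hQS hq⟩
      have h4 := h2 ⟨q, hq⟩
      have h5 : (Subgroup.inclusion le_sup_left (⟨q, hQS hq⟩ : S) : ↥(S ⊔ Q)) =
          Subgroup.inclusion le_sup_right (⟨q, hq⟩ : Q) := Subtype.ext rfl
      rw [h5, h4] at h3
      apply Subtype.ext
      exact h3.symm
    · apply le_sSup
      have hCS : (autFixedSubgroup A).map S.subtype ≤ S := by
        rintro _ ⟨y, -, rfl⟩
        exact y.2
      refine ⟨hCS, ?_⟩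
      intro P φ hφ
      obtain ⟨α, hα, hαφ⟩ := exists_aut_extension_of_comm hF hab hφ
      have hle : P ⊔ (autFixedSubgroup A).map S.subtype ≤ S := sup_le (hom_le F hφ) hCS
      refine ⟨_, hom_restrict F hle hα, ?_, ?_⟩
      · intro x
        exact hαφ x
      · rintro ⟨_, y, hy, rfl⟩
        have := hy α ((hAmem α).mpr hα)
        show ((α _ : S) : Ω) = _
        have h6 : (Subgroup.inclusion hle (Subgroup.inclusion le_sup_right
          (⟨S.subtype y, ⟨y, hy, rfl⟩⟩ : ↥((autFixedSubgroup A).map S.subtype)))) = y := Subtype.ext rfl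
        rw [h6, this]
        rfl
  -- the focal subgroup
  have hfoc : F.focalSubgroup = (autCommSubgroup A).map S.subtype := by
    apply le_antisymm
    · unfold focalSubgroup
      rw [Subgroup.closure_le]
      rintro _ ⟨P, φ, x, hφ, rfl⟩
      obtain ⟨α, hα, hαφ⟩ := exists_aut_extension_of_comm hF hab hφ
      refine ⟨(⟨x, hom_le F hφ x.2⟩ : S)⁻¹ * α ⟨x, hom_le F hφ x.2⟩, ?_, ?_⟩
      · exact Subgroup.subset_closure ⟨_, α, (hAmem α).mpr hα, rfl⟩
      · rw [← hαφ x]
        rfl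
    · unfold autCommSubgroup
      rw [MonoidHom.map_closure, Subgroup.closure_le]
      rintro _ ⟨_, ⟨x, α, hα, rfl⟩, rfl⟩
      apply Subgroup.subset_closure
      exact ⟨S, S.subtype.comp (α : S ≃* S).toMonoidHom, x, (hAmem α).mp hα, rfl⟩
  rw [hcenter, hfoc]
  constructor
  · rw [← Subgroup.map_inf _ _ _ S.subtype_injective, fixed_inf_comm_eq_bot A hcop, Subgroup.map_bot]
  · rw [← Subgroup.map_sup, fixed_sup_comm_eq_top A hcop, ← MonoidHom.range_eq_map, Subgroup.range_subtype]

end Cfsg.Agent.S5330
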