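import Cfsg.Statements.S5331
import Cfsg.Agent.Lib.Helper27.FusionAbelian

set_option autoImplicit false
open Cfsg

namespace Cfsg.Agent.S5331

open Cfsg.FusionSystem Cfsg.Agent.Lib.Helper27

/-! ### Elements of order two in `ZMod (2 ^ (b + 1))` -/

theorem zmod_two_mul_eq_zero {b : ℕ} (w : ZMod (2 ^ (b + 1))) (h : 2 * w = 0) : w = 0 ∨ w = 2 ^ b := by
  haveI : NeZero (2 ^ (b + 1)) := ⟨by positivity⟩
  have hv : ((2 * w.val : ℕ) : ZMod (2 ^ (b + 1))) = 0 := by
    push_cast
    rw [ZMod.natCast_zmod_val]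
    exact h
  rw [ZMod.natCast_eq_zero_iff] at hv
  have hdvd : 2 ^ b ∣ w.val := by
    have h1 : 2 * 2 ^ b ∣ 2 ^ (b + 1) := by rw [pow_succ, mul_comm]
    exact Nat.dvd_of_mul_dvd_mul_left (by norm_num) (h1.trans hv)
  obtain ⟨c, hc⟩ := hdvd
  have hlt : w.val < 2 ^ (b + 1) := ZMod.val_lt w
  have hc2 : c < 2 := by
    by_contra hcon
    push Not at hcon
    have : 2 ^ (b + 1) ≤ w.val := by
      rw [hc, pow_succ]
      exact Nat.mul_le_mul_left _ hcon
    omega
  have hw : w = ((2 ^ b * c : ℕ) : ZMod (2 ^ (b + 1))) := by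
    rw [← hc, ZMod.natCast_zmod_val]
  interval_cases c
  · left; rw [hw]; simp
  · right; rw [hw]; simp

/-! ### Odd order additive automorphisms of a product of cyclic 2-groups of distinct orders -/

section additive

variable {n : ℕ} (a : Fin n → ℕ)

/-- elements of order at most two that are `2 ^ k`-th multiples -/
def V (k : ℕ) : Set ((i : Fin n) → ZMod (2 ^ a i)) := {x | 2 • x = 0 ∧ ∃ y, x = 2 ^ k • y}

variable {a}

theorem V_sub {k : ℕ} {x y : (i : Fin n) → ZMod (2 ^ a i)} (hx : x ∈ V a k) (hy : y ∈ V a k) :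
    x - y ∈ V a k := by
  obtain ⟨hx2, x', rfl⟩ := hx
  obtain ⟨hy2, y', rfl⟩ := hy
  refine ⟨?_, x' - y', ?_⟩
  · rw [smul_sub, hx2, hy2, sub_zero]
  · rw [smul_sub]

theorem V_map {k : ℕ} (f : ((i : Fin n) → ZMod (2 ^ a i)) →+ ((i : Fin n) → ZMod (2 ^ a i)))
    {x : (i : Fin n) → ZMod (2 ^ a i)} (hx : x ∈ V a k) : f x ∈ V a k := by
  obtain ⟨hx2, x', rfl⟩ := hx
  refine ⟨?_, f x', ?_⟩
  · rw [← map_nsmul, hx2, map_zero]
  · rw [map_nsmul]

theorem V_iterate {k : ℕ} (f : ((i : Fin n) → ZMod (2 ^ a i)) →+ ((i : Fin n) → ZMod (2 ^ a i)))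
    {x : (i : Fin n) → ZMod (2 ^ a i)} (hx : x ∈ V a k) (m : ℕ) : (⇑f)^[m] x ∈ V a k := by
  induction m with
  | zero => exact hx
  | succ m ih =>
    rw [Function.iterate_succ_apply']
    exact V_map f ih

theorem V_eq_zero {k : ℕ} (hk : ∀ i, a i ≤ k) {x : (i : Fin n) → ZMod (2 ^ a i)} (hx : x ∈ V a k) :
    x = 0 := by
  obtain ⟨-, y, rfl⟩ := hx
  ext i
  simp only [Pi.smul_apply, Pi.zero_apply, nsmul_eq_mul]
  have : ((2 ^ k : ℕ) : ZMod (2 ^ a i)) = 0 := by
    rw [ZMod.natCast_eq_zero_iff]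
    exact pow_dvd_pow 2 (hk i)
  rw [this, zero_mul]

theorem V_dich {k : ℕ} {x : (i : Fin n) → ZMod (2 ^ a i)} (hx : x ∈ V a k) (i : Fin n) (hi : a i = k + 1) :
    x i = 0 ∨ x i = ((2 ^ k : ℕ) : ZMod (2 ^ a i)) := by
  have h2 : 2 * x i = 0 := by
    have := congrFun hx.1 i
    simpa using this
  generalize x i = w at h2 ⊢
  generalize a i = c at hi w
  subst hi
  rcases zmod_two_mul_eq_zero w h2 with h | h
  · left; exact h
  · right; rw [h]; simp

theorem V_con {k : ℕ} {x : (i : Fin n) → ZMod (2 ^ a i)} (hx : x ∈ V a k)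
    (h0 : ∀ i, a i = k + 1 → x i = 0) : x ∈ V a (k + 1) := by
  refine ⟨hx.1, fun i => if x i = 0 then 0 else ((2 ^ (a i - k - 2) : ℕ) : ZMod (2 ^ a i)), ?_⟩
  obtain ⟨hx2, y, hy⟩ := hx
  ext i
  simp only [Pi.smul_apply, nsmul_eq_mul]
  by_cases hxi : x i = 0
  · rw [if_pos hxi, hxi, mul_zero]
  · rw [if_neg hxi]
    have hai : k + 2 ≤ a i := by
      by_contra hcon
      push Not at hcon
      apply hxi
      rcases Nat.lt_or_ge k (a i) with h | h
      · exact h0 i (by omega)
      · rw [hy]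
        simp only [Pi.smul_apply, nsmul_eq_mul]
        have : ((2 ^ k : ℕ) : ZMod (2 ^ a i)) = 0 := by
          rw [ZMod.natCast_eq_zero_iff]
          exact pow_dvd_pow 2 h
        rw [this, zero_mul]
    have h2 : 2 * x i = 0 := by
      have := congrFun hx2 i
      simpa using this
    obtain ⟨b, hb⟩ : ∃ b, a i = b + 1 := ⟨a i - 1, by omega⟩
    have key : ∀ (c : ℕ) (w : ZMod (2 ^ c)), c = b + 1 → 2 * w = 0 → w ≠ 0 →
        w = ((2 ^ (k + 1) : ℕ) : ZMod (2 ^ c)) * ((2 ^ (c - k - 2) : ℕ) : ZMod (2 ^ c)) := by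
      intro c w hc hw2 hw0
      subst hc
      rcases zmod_two_mul_eq_zero w hw2 with h | h
      · exact absurd h hw0
      · rw [h, ← Nat.cast_mul, ← pow_add]
        have : k + 1 + (b + 1 - k - 2) = b := by omega
        rw [this]
        simp
    exact key (a i) (x i) hb h2 hxi

/-- the key index property -/
theorem V_step (ha : StrictMono a) {k : ℕ} {x y : (i : Fin n) → ZMod (2 ^ a i)} (hx : x ∈ V a k)
    (hy : y ∈ V a k) (hx' : x ∉ V a (k + 1)) (hy' : y ∉ V a (k + 1)) : x - y ∈ V a (k + 1) := by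
  have hx0 : ∃ i, a i = k + 1 ∧ x i ≠ 0 := by
    by_contra hcon
    push Not at hcon
    exact hx' (V_con hx hcon)
  have hy0 : ∃ i, a i = k + 1 ∧ y i ≠ 0 := by
    by_contra hcon
    push Not at hcon
    exact hy' (V_con hy hcon)
  obtain ⟨i, hi, hxi⟩ := hx0
  obtain ⟨j, hj, hyj⟩ := hy0
  have hij : i = j := ha.injective (hi.trans hj.symm)
  subst hij
  apply V_con (V_sub hx hy)
  intro l hl
  have hli : l = i := ha.injective (hl.trans hi.symm)
  subst hli
  rcases V_dich hx l hi with h | h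
  · exact absurd h hxi
  · rcases V_dich hy l hi with h' | h'
    · exact absurd h' hyj
    · simp only [Pi.sub_apply]
      rw [h, h', sub_self]

/-- the basic trick: an odd order map fixing `x` when applied twice fixes `x` -/
theorem fix_of_sq_fix {M : Type*} (f : M → M) (m : ℕ) (hm : Odd m) (hf : ∀ x, f^[m] x = x) (x : M)
    (h2 : f (f x) = x) : f x = x := by
  obtain ⟨j, rfl⟩ := hm
  have h1 : f^[2 * j] x = x := by
    rw [Function.iterate_mul]
    apply Function.iterate_fixed
    exact h2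
  have h3 := hf x
  rw [add_comm, Function.iterate_add_apply, h1] at h3
  exact h3

theorem fix_of_diff {M : Type*} [AddCommGroup M] (f : M →+ M) (m : ℕ) (hm : Odd m) (hf : ∀ x, (⇑f)^[m] x = x)
    (x : M) (hv : f (f x - x) = f x - x) (hv2 : 2 • (f x - x) = 0) : f x = x := by
  apply fix_of_sq_fix f m hm hf
  have h1 : f (f x) = f x + (f x - x) := by
    have : f (f x) = f x + f (f x - x) := by
      rw [map_sub]; abel
    rw [this, hv]
  rw [h1]
  have h2 : f x + (f x - x) = x + 2 • (f x - x) := by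
    rw [two_nsmul]; abel
  rw [h2, hv2, add_zero]

theorem fix_V (ha : StrictMono a) (f : ((i : Fin n) → ZMod (2 ^ a i)) →+ ((i : Fin n) → ZMod (2 ^ a i)))
    (m : ℕ) (hm : Odd m) (hf : ∀ x, (⇑f)^[m] x = x) :
    ∀ (d k : ℕ), (∀ i, a i ≤ k + d) → ∀ x ∈ V a k, f x = x := by
  intro d
  induction d with
  | zero =>
    intro k hk x hx
    rw [V_eq_zero hk hx, map_zero]
  | succ d ih =>
    intro k hk x hx
    have ih' := ih (k + 1) (fun i => by have := hk i; omega)
    by_cases hx1 : x ∈ V a (k + 1)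
    · exact ih' x hx1
    · have hfx1 : f x ∉ V a (k + 1) := by
        intro hcon
        apply hx1
        have := V_iterate f hcon (m - 1)
        rw [← Function.iterate_succ_apply] at this
        have hm1 : (m - 1).succ = m := by
          obtain ⟨j, rfl⟩ := hm
          omega
        rw [hm1, hf] at this
        exact this
      have hv : f x - x ∈ V a (k + 1) := V_step ha (V_map f hx) hx hfx1 hx1
      exact fix_of_diff f m hm hf x (ih' _ hv) hv.1

theorem fix_all (ha : StrictMono a) (f : ((i : Fin n) → ZMod (2 ^ a i)) →+ ((i : Fin n) → ZMod (2 ^ a i)))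
    (m : ℕ) (hm : Odd m) (hf : ∀ x, (⇑f)^[m] x = x) (x : (i : Fin n) → ZMod (2 ^ a i)) : f x = x := by
  have hV0 : ∀ x ∈ V a 0, f x = x := by
    obtain ⟨K, hK⟩ : ∃ K, ∀ i, a i ≤ K := ⟨∑ i, a i, fun i => Finset.single_le_sum (fun _ _ => Nat.zero_le _) (Finset.mem_univ i)⟩
    exact fix_V ha f m hm hf K 0 (fun i => by simpa using hK i)
  have key : ∀ (j : ℕ) (x : (i : Fin n) → ZMod (2 ^ a i)), 2 ^ j • x = 0 → f x = x := by
    intro j
    induction j with
    | zero =>
      intro x hx
      rw [pow_zero, one_smul] at hx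
      rw [hx, map_zero]
    | succ j ih =>
      intro x hx
      have h1 : 2 ^ j • (2 • x) = 0 := by
        rw [← mul_smul, ← pow_succ]; exact hx
      have h2 := ih _ h1
      have h3 : 2 • (f x - x) = 0 := by
        rw [smul_sub, ← map_nsmul, h2, sub_self]
      have h4 : f x - x ∈ V a 0 := ⟨h3, f x - x, by simp⟩
      exact fix_of_diff f m hm hf x (hV0 _ h4) h3
  apply key (∑ i, a i)
  ext i
  simp only [Pi.smul_apply, Pi.zero_apply, nsmul_eq_mul]
  have : ((2 ^ (∑ i, a i) : ℕ) : ZMod (2 ^ a i)) = 0 := by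
    rw [ZMod.natCast_eq_zero_iff]
    exact pow_dvd_pow 2 (Finset.single_le_sum (fun _ _ => Nat.zero_le _) (Finset.mem_univ i))
  rw [this, zero_mul]

end additive

/-- An abelian 2-group whose cyclic factors have pairwise distinct orders carries only the inner saturated fusion system. -/
theorem result {Ω : Type*} [Group Ω] {S : Subgroup Ω} [Finite S] (n : ℕ) (a : Fin n → ℕ) (ha : StrictMono a) (ha1 : ∀ i, 1 ≤ a i) (e : ↥S ≃* Multiplicative ((i : Fin n) → ZMod (2 ^ a i))) (F : Cfsg.FusionSystem S) (hF : F.IsSaturated 2) (P : Subgroup Ω) : F.Hom P = (Cfsg.innerFusionSystem S).Hom P := by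
  haveI : Fact (Nat.Prime 2) := ⟨Nat.prime_two⟩
  have hab : ∀ x ∈ S, ∀ y ∈ S, x * y = y * x := by
    intro x hx y hy
    have : (⟨x, hx⟩ : S) * ⟨y, hy⟩ = ⟨y, hy⟩ * ⟨x, hx⟩ := by
      apply e.injective
      rw [map_mul, map_mul, mul_comm]
    exact congrArg Subtype.val this
  have hodd : ¬ 2 ∣ Nat.card (F.autGroup S) := not_dvd_card_autGroup_top hF hab
  -- every automorphism of the system of S is trivial
  have haut : ∀ α : S ≃* S, IsIso F α → ∀ x : S, α x = x := by
    intro α hα
    have hαA : (α : MulAut S) ∈ F.autGroup S := (mem_autGroup_iff F le_rfl α).mpr hα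
    set m := orderOf (⟨α, hαA⟩ : F.autGroup S) with hm
    have hmodd : Odd m := by
      rw [← Nat.not_even_iff_odd, even_iff_two_dvd]
      intro h2
      exact hodd (dvd_trans h2 (orderOf_dvd_natCard _))
    have hpow : (α : MulAut S) ^ m = 1 := by
      have := pow_orderOf_eq_one (⟨α, hαA⟩ : F.autGroup S)
      rw [← hm] at this
      have h2 := congrArg Subtype.val this
      simpa using h2
    have hiter : ∀ x : S, (⇑α)^[m] x = x := by
      intro x
      have h1 : ((α : MulAut S) ^ m) x = (⇑α)^[m] x := by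
        clear hpow hmodd hm
        induction m generalizing x with
        | zero => simp
        | succ k ih =>
          rw [pow_succ, MulAut.mul_apply, ih, Function.iterate_succ_apply]
      rw [← h1, hpow]; rfl
    -- transport to the additive group
    let f : ((i : Fin n) → ZMod (2 ^ a i)) →+ ((i : Fin n) → ZMod (2 ^ a i)) :=
      AddMonoidHom.mk' (fun v => Multiplicative.toAdd (e (α (e.symm (Multiplicative.ofAdd v))))) (by
        intro v w
        rw [ofAdd_add, map_mul, map_mul, map_mul, toAdd_mul])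
    have hf : ∀ (j : ℕ) (v : (i : Fin n) → ZMod (2 ^ a i)),
        (⇑f)^[j] v = Multiplicative.toAdd (e ((⇑α)^[j] (e.symm (Multiplicative.ofAdd v)))) := by
      intro j
      induction j with
      | zero => intro v; simp
      | succ k ih =>
        intro v
        rw [Function.iterate_succ_apply', ih, Function.iterate_succ_apply']
        show Multiplicative.toAdd (e (α (e.symm (Multiplicative.ofAdd (Multiplicative.toAdd _))))) = _
        simp
    have hfm : ∀ v, (⇑f)^[m] v = v := by
      intro v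
      rw [hf, hiter]
      simp
    intro x
    have := fix_all ha f m hmodd hfm (Multiplicative.toAdd (e x))
    have h3 : Multiplicative.toAdd (e (α (e.symm (Multiplicative.ofAdd (Multiplicative.toAdd (e x)))))) =
        Multiplicative.toAdd (e x) := this
    simp only [ofAdd_toAdd, MulEquiv.symm_apply_apply] at h3
    exact e.injective (Multiplicative.toAdd.injective h3)
  apply Set.Subset.antisymm
  · intro φ hφ
    obtain ⟨α, hα, hαφ⟩ := exists_aut_extension_of_comm hF hab hφ
    refine ⟨hom_le F hφ, 1, S.one_mem, fun x => ?_⟩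
    rw [← hαφ x, haut α hα]
    simp
  · rintro φ ⟨hP, g, hg, h⟩
    have : φ = conjHom P g := by
      ext x
      rw [h x]; rfl
    rw [this]
    exact F.conj_mem hP hg

end Cfsg.Agent.S5331
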