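import Cfsg.Statements.S5335
import Cfsg.Agent.Lib.Helper27.FusionCentric

set_option autoImplicit false
open Cfsg

namespace Cfsg.Agent.S5335

open Cfsg.FusionSystem Cfsg.Agent.Lib.Helper27

theorem isCentric_top {Ω : Type*} [Group Ω] {S : Subgroup Ω} [Finite S] (F : Cfsg.FusionSystem S) :
    F.IsCentric S := by
  refine ⟨le_rfl, fun Q hQ => ?_⟩
  obtain ⟨e, he⟩ := (isConj_iff F).mp hQ
  have hQS : Q ≤ S := he.le_right
  have hcard : Nat.card S = Nat.card Q := Nat.card_congr e.toEquiv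
  have : Q = S := Subgroup.eq_of_le_of_card_ge hQS hcard.le
  rw [this]
  exact centralizerIn_le_S S S

theorem exists_minimal_centric {Ω : Type*} [Group Ω] {S : Subgroup Ω} [Finite S] (F : Cfsg.FusionSystem S) :
    ∀ n : ℕ, ∀ R : Subgroup Ω, F.IsCentric R → Nat.card R = n →
      ∃ Q : Subgroup Ω, Q ≤ R ∧ F.IsCentric Q ∧ ∀ Q' : Subgroup Ω, Q' < Q → ¬ F.IsCentric Q' := by
  intro n
  induction n using Nat.strong_induction_on with
  | _ n IH =>
  intro R hR hn
  by_cases hmin : ∀ Q' : Subgroup Ω, Q' < R → ¬ F.IsCentric Q'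
  · exact ⟨R, le_rfl, hR, hmin⟩
  · push Not at hmin
    obtain ⟨R', hlt, hR'⟩ := hmin
    have hRS : R ≤ S := hR.1
    haveI : Finite R := Finite.of_injective (Subgroup.inclusion hRS) (Subgroup.inclusion_injective hRS)
    have hcard : Nat.card R' < Nat.card R := by
      refine lt_of_le_of_ne (Subgroup.card_le_of_le hlt.le) (fun heq => hlt.ne ?_)
      exact Subgroup.eq_of_le_of_card_ge hlt.le heq.ge
    obtain ⟨Q, hQR', hQ, hQmin⟩ := IH (Nat.card R') (hn ▸ hcard) R' hR' rfl
    exact ⟨Q, hQR'.trans hlt.le, hQ, hQmin⟩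

/-- Let F′ ≤ F be saturated fusion systems over the same finite p-group S. If the maps of F and of F′ with source Q coincide for every F-centric subgroup Q that is minimal among F-centric subgroups, then F = F′. -/
theorem result {Ω : Type*} [Group Ω] {S : Subgroup Ω} [Finite S] (p : ℕ) [Fact p.Prime] (hS : IsPGroup p S) (F : Cfsg.FusionSystem S) (hF : F.IsSaturated p) (F' : Cfsg.FusionSystem S) (hF' : F'.IsSaturated p) (hle : F' ≤ F) (hmin : ∀ Q : Subgroup Ω, F.IsCentric Q → (∀ R : Subgroup Ω, R < Q → ¬ F.IsCentric R) → F.Hom Q = F'.Hom Q) (P : Subgroup Ω) : F.Hom P = F'.Hom P := by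
  have key : ∀ R : Subgroup Ω, F.IsCentric R → ∀ α : R ≃* R, IsIso F α → IsIso F' α := by
    intro R hR α hα
    obtain ⟨Q, hQR, hQ, hQmin⟩ := exists_minimal_centric F _ R hR rfl
    have h1 := hom_restrict F hQR hα
    rw [hmin Q hQ hQmin] at h1
    exact hom_of_restrict_centric hS hF hF' hle hQ hQR hα h1
  refine Set.Subset.antisymm ?_ (hle P)
  exact alperin hS hF F' (key S (isCentric_top F)) (fun R _ _ hc _ => key R hc) P

end Cfsg.Agent.S5335
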