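import Cfsg.Statements.S5333
import Cfsg.Agent.Lib.Helper27.FusionCentric
import Cfsg.Agent.S5335
import Cfsg.Agent.S5097

set_option autoImplicit false
open Cfsg

namespace Cfsg.Agent.S5333

open Cfsg.FusionSystem Cfsg.Agent.Lib.Helper27

/-- Let F′ ≤ F be saturated fusion systems over the same finite p-group S. Suppose that for every subgroup Z ≤ S of order p that is fully centralized in F′, the maps of F and of F′ with source Z coincide and the centralizer systems C_F(Z) and C_{F′}(Z) coincide. Then F = F′. -/
theorem result {Ω : Type*} [Group Ω] {S : Subgroup Ω} [Finite S] (p : ℕ) [Fact p.Prime] (hS : IsPGroup p S) (F : Cfsg.FusionSystem S) (hF : F.IsSaturated p) (F' : Cfsg.FusionSystem S) (hF' : F'.IsSaturated p) (hle : F' ≤ F) (hZ : ∀ Z : Subgroup Ω, Z ≤ S → Nat.card Z = p → F'.IsFullyCentralized Z → F.Hom Z = F'.Hom Z ∧ ∀ (C C' : Cfsg.FusionSystem (Cfsg.FusionSystem.centralizerIn S Z)), F.IsCentralizerSystem Z C → F'.IsCentralizerSystem Z C' → ∀ P : Subgroup Ω, C.Hom P = C'.Hom P) (P : Subgroup Ω) : F.Hom P = F'.Hom P := by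
  refine Set.Subset.antisymm ?_ (hle P)
  have key : ∀ R : Subgroup Ω, F.IsCentric R → ∀ α : R ≃* R, IsIso F α → IsIso F' α := by
    intro R hR α hα
    have hRS : R ≤ S := hR.1
    by_cases hbot : S = ⊥
    · have hRbot : R = ⊥ := le_bot_iff.mp (hbot ▸ hRS)
      have hsub : Subsingleton R := by
        rw [hRbot]; infer_instance
      have : α = MulEquiv.refl R := by
        ext x
        exact congrArg Subtype.val (Subsingleton.elim _ _)
      rw [this]
      exact isIso_refl F' hRS
    · -- a central element of order p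
      haveI : Nontrivial S := (Subgroup.nontrivial_iff_ne_bot S).mpr hbot
      haveI : Nontrivial (Subgroup.center S) := hS.center_nontrivial
      have hdvd : p ∣ Nat.card (Subgroup.center S) := by
        rcases (hS.to_subgroup (Subgroup.center S)).card_eq_or_dvd with h | h
        · exact absurd h (Nat.ne_of_gt Finite.one_lt_card)
        · exact h
      obtain ⟨z₀, hz₀⟩ := exists_prime_orderOf_dvd_card' p hdvd
      have hzord : orderOf ((z₀ : S) : Ω) = p := by
        rw [Subgroup.orderOf_coe, Subgroup.orderOf_coe, hz₀]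
      have hzS : ((z₀ : S) : Ω) ∈ S := (z₀ : S).2
      have hzcomm : ∀ g ∈ S, g * ((z₀ : S) : Ω) = ((z₀ : S) : Ω) * g := by
        intro g hg
        have := Subgroup.mem_center_iff.mp z₀.2 ⟨g, hg⟩
        exact congrArg Subtype.val this
      set z : Ω := ((z₀ : S) : Ω) with hzdef
      have hZS : Subgroup.zpowers z ≤ S := Subgroup.zpowers_le.mpr hzS
      have hcard : Nat.card (Subgroup.zpowers z) = p := by
        rw [Nat.card_zpowers, hzord]
      have hcomm' : ∀ g ∈ S, ∀ x ∈ Subgroup.zpowers z, x * g = g * x := by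
        intro g hg x hx
        obtain ⟨k, rfl⟩ := Subgroup.mem_zpowers_iff.mp hx
        exact ((Commute.zpow_right (hzcomm g hg) k).eq).symm
      have hCS : centralizerIn S (Subgroup.zpowers z) = S := by
        apply le_antisymm (centralizerIn_le_S _ _)
        intro g hg
        rw [mem_centralizerIn_iff]
        exact ⟨hg, fun x hx => hcomm' g hg x hx⟩
      have hfc : F'.IsFullyCentralized (Subgroup.zpowers z) := by
        refine ⟨hZS, fun Q _ => ?_⟩
        rw [hCS]
        exact Subgroup.card_le_of_le (centralizerIn_le_S S Q)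
      obtain ⟨h1, h2⟩ := hZ _ hZS hcard hfc
      obtain ⟨C, hC⟩ := Cfsg.Agent.S5097.result F _ hZS
      obtain ⟨C', hC'⟩ := Cfsg.Agent.S5097.result F' _ hZS
      have hcent : ∀ P : Subgroup Ω, F.centralizerHom (Subgroup.zpowers z) P =
          F'.centralizerHom (Subgroup.zpowers z) P := by
        intro P
        rw [← hC P, ← hC' P]
        exact h2 C C' hC hC' P
      -- Z ≤ R
      have hZR : Subgroup.zpowers z ≤ R := by
        rw [Subgroup.zpowers_le]
        apply hR.2 R (isConj_refl F hRS)
        rw [mem_centralizerIn_iff]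
        exact ⟨hzS, fun x hx => hzcomm x (hRS hx)⟩
      have hφ₀ : (R.subtype.comp α.toMonoidHom).comp (Subgroup.inclusion hZR) ∈
          F'.Hom (Subgroup.zpowers z) := by
        rw [← h1]
        exact hom_restrict F hZR hα
      obtain ⟨e₀, he₀, he₀φ⟩ := exists_isIso_of_hom F' hφ₀ rfl
      have hrec : F'.IsReceptive (Subgroup.zpowers z) := isReceptive_of_fullyCentralized hS hF' hfc
      obtain ⟨β, hβ, hβe⟩ := receptive_exists_extension hrec he₀.symm
      have hRext : R ≤ extender S ((R.subtype.comp α.toMonoidHom).comp (Subgroup.inclusion hZR)).range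
          ((Subgroup.zpowers z).subtype.comp e₀.symm.toMonoidHom) := by
        refine le_trans ?_ (centralizerIn_le_extender _)
        intro g hg
        rw [mem_centralizerIn_iff]
        refine ⟨hRS hg, ?_⟩
        rintro _ ⟨x, rfl⟩
        simp only [MonoidHom.coe_comp, Function.comp_apply, Subgroup.coe_subtype, MulEquiv.coe_toMonoidHom]
        -- α x is central in R
        have hxc : Subgroup.inclusion hZR x * α.symm ⟨g, hg⟩ = α.symm ⟨g, hg⟩ * Subgroup.inclusion hZR x := by
          apply Subtype.ext
          exact hcomm' _ (hRS (α.symm ⟨g, hg⟩).2) _ x.2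
        have := congrArg α hxc
        rw [map_mul, map_mul, α.apply_symm_apply] at this
        exact congrArg Subtype.val this
      have hβ₁ : β.comp (Subgroup.inclusion hRext) ∈ F'.Hom R := hom_restrict F' hRext hβ
      have hθ : (β.comp (Subgroup.inclusion hRext)).comp α.toMonoidHom ∈ F.Hom R :=
        IsIso.comp_hom hα (hle R hβ₁)
      have hθfix : ∀ x : R, (x : Ω) ∈ Subgroup.zpowers z →
          ((β.comp (Subgroup.inclusion hRext)).comp α.toMonoidHom) x = x := by
        intro x hx
        simp only [MonoidHom.coe_comp, Function.comp_apply, MulEquiv.coe_toMonoidHom]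
        have hmem : ((α x : R) : Ω) ∈
            ((R.subtype.comp α.toMonoidHom).comp (Subgroup.inclusion hZR)).range :=
          ⟨⟨x, hx⟩, rfl⟩
        have h3 := hβe _ hmem (hRext (α x).2)
        have h4 : Subgroup.inclusion hRext (α x) = ⟨((α x : R) : Ω), hRext (α x).2⟩ := rfl
        rw [h4, h3]
        have h5 : e₀.symm ⟨((α x : R) : Ω), hmem⟩ = ⟨x, hx⟩ := by
          rw [MulEquiv.symm_apply_eq]
          apply Subtype.ext
          rw [he₀φ]
          rfl
        rw [h5]
      have hRC : R ≤ centralizerIn S (Subgroup.zpowers z) := by rw [hCS]; exact hRS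
      have hsup : R ⊔ Subgroup.zpowers z ≤ R := sup_le le_rfl hZR
      have hθC : (β.comp (Subgroup.inclusion hRext)).comp α.toMonoidHom ∈
          F.centralizerHom (Subgroup.zpowers z) R := by
        refine ⟨hθ, hRC, fun x => ?_, _, hom_restrict F hsup hθ, fun x => ?_, fun x => ?_⟩
        · rw [hCS]; exact (F.le_of_mem hθ).2 x
        · rfl
        · exact hθfix ⟨x, hZR x.2⟩ x.2
      rw [hcent R] at hθC
      have hθ' := hθC.1
      -- α = β₁⁻¹ ∘ θ
      obtain ⟨e₁, he₁, he₁β⟩ := exists_isIso_of_hom F' hβ₁ rfl
      have hr : ∀ x : R, ((β.comp (Subgroup.inclusion hRext)).comp α.toMonoidHom) x ∈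
          (β.comp (Subgroup.inclusion hRext)).range := fun x => ⟨α x, rfl⟩
      have hc := F'.comp_mem hθ' he₁.symm hr
      unfold IsIso
      convert hc using 1
      ext x
      simp only [MonoidHom.coe_comp, Function.comp_apply, Subgroup.coe_subtype, MulEquiv.coe_toMonoidHom]
      congr 1
      symm
      rw [MulEquiv.symm_apply_eq]
      apply Subtype.ext
      rw [he₁β]
      rfl
  exact alperin hS hF F' (key S (Cfsg.Agent.S5335.isCentric_top F)) (fun R _ _ hc _ => key R hc) P

end Cfsg.Agent.S5333
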