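import Cfsg.Statements.S5334
import Cfsg.Agent.Lib.Helper27.FusionCentric

set_option autoImplicit false
open Cfsg

namespace Cfsg.Agent.S5334

open Cfsg.FusionSystem Cfsg.Agent.Lib.Helper27

/-- Let F′ ≤ F be saturated fusion systems over the same finite p-group S, let Q and R be F-centric subgroups, φ a map of F with source Q and values in R, and ψ a map of F with source R. If two of φ, ψ and the composite ψ ∘ φ are maps of F′ then so is the third. -/
theorem result {Ω : Type*} [Group Ω] {S : Subgroup Ω} [Finite S] (p : ℕ) [Fact p.Prime] (hS : IsPGroup p S) (F : Cfsg.FusionSystem S) (hF : F.IsSaturated p) (F' : Cfsg.FusionSystem S) (hF' : F'.IsSaturated p) (hle : F' ≤ F) (Q R : Subgroup Ω) (hQ : F.IsCentric Q) (hR : F.IsCentric R) (φ : ↥Q →* Ω) (hφ : φ ∈ F.Hom Q) (hφR : ∀ x : Q, φ x ∈ R) (ψ : ↥R →* Ω) (hψ : ψ ∈ F.Hom R) : (φ ∈ F'.Hom Q → ψ ∈ F'.Hom R → ψ.comp (φ.codRestrict R hφR) ∈ F'.Hom Q) ∧ (ψ ∈ F'.Hom R → ψ.comp (φ.codRestrict R hφR) ∈ F'.Hom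 Q → φ ∈ F'.Hom Q) ∧ (φ ∈ F'.Hom Q → ψ.comp (φ.codRestrict R hφR) ∈ F'.Hom Q → ψ ∈ F'.Hom R) := by
  refine ⟨fun h1 h2 => F'.comp_mem h1 h2 hφR, fun h2 h3 => ?_, fun h1 h3 => ?_⟩
  · obtain ⟨e, he, heψ⟩ := exists_isIso_of_hom F' h2 rfl
    have hr : ∀ x : Q, (ψ.comp (φ.codRestrict R hφR)) x ∈ ψ.range := fun x => ⟨_, rfl⟩
    have hc := F'.comp_mem h3 he.symm hr
    convert hc using 1
    ext x
    simp only [MonoidHom.coe_comp, Function.comp_apply, Subgroup.coe_subtype, MulEquiv.coe_toMonoidHom]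
    have : e.symm ((ψ.comp (φ.codRestrict R hφR)).codRestrict ψ.range hr x) = φ.codRestrict R hφR x := by
      rw [MulEquiv.symm_apply_eq]
      apply Subtype.ext
      rw [heψ]
      rfl
    rw [this]
    rfl
  · obtain ⟨e, he, heφ⟩ := exists_isIso_of_hom F' h1 rfl
    have hPR : φ.range ≤ R := by
      rintro _ ⟨x, rfl⟩
      exact hφR x
    have hPc : F.IsCentric φ.range := isCentric_of_isConj hQ ⟨φ, hφ, rfl⟩
    have hres : ψ.comp (Subgroup.inclusion hPR) ∈ F'.Hom φ.range := by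
      have hc := IsIso.comp_hom he.symm h3
      convert hc using 1
      ext y
      simp only [MonoidHom.coe_comp, Function.comp_apply, MulEquiv.coe_toMonoidHom]
      congr 1
      apply Subtype.ext
      simp only [MonoidHom.codRestrict_apply, Subgroup.coe_inclusion]
      rw [← heφ, MulEquiv.apply_symm_apply]
    exact hom_of_restrict_centric hS hF hF' hle hPc hPR hψ hres

end Cfsg.Agent.S5334
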