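import Cfsg.Statements.S5336
import Cfsg.Agent.Lib.Helper27.FusionRealizedNormal

set_option autoImplicit false
open Cfsg

namespace Cfsg.Agent.S5336

open Cfsg.FusionSystem Cfsg.Agent.Lib.Helper27

/-- The fusion system of a group on a subgroup is realized by the inclusion. -/
theorem groupFusionSystem_isRealizedBy {G : Type*} [Group G] (S : Subgroup G) :
    (Cfsg.groupFusionSystem S).IsRealizedBy S.subtype := by
  refine ⟨Subtype.coe_injective, fun P hP φ hφ => ?_⟩
  constructor
  · rintro ⟨-, -, g, hg⟩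
    exact ⟨g, fun x => hg x⟩
  · rintro ⟨g, hg⟩
    exact ⟨hP, hφ, g, fun x => hg x⟩

/-- Let G be a finite group with Sylow p-subgroup S whose fusion system F_S(G) is simple. If G has no nontrivial normal subgroup of order prime to p and no proper subgroup H containing S induces the same fusion system on S as G does, then G is a simple group. -/
theorem result {G : Type*} [Group G] [Finite G] (p : ℕ) [Fact p.Prime] (S : Sylow p G) (hsimple : (Cfsg.groupFusionSystem (S : Subgroup G)).IsSimple p) (hcore : Cfsg.pPrimeCore p G = ⊥) (hmin : ∀ (H : Subgroup G) (hSH : (S : Subgroup G) ≤ H), H ≠ ⊤ → ∃ P : Subgroup G, (Cfsg.fusionSystemOfSubgroup H (S : Subgroup G) hSH).Hom P ≠ (Cfsg.groupFusionSystem (S : Subgroup G)).Hom P) : IsSimpleGroup G := by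
  have hreal := groupFusionSystem_isRealizedBy (S : Subgroup G)
  have hSy : (S : Subgroup G) = (S : Subgroup G).subtype.range := (Subgroup.range_subtype _).symm
  refine isSimpleGroup_of_realized_minimal hreal S hSy hsimple hcore ?_
  intro H hSH hH
  have hSH' : (S : Subgroup G) ≤ H := by rw [hSy]; exact hSH
  obtain ⟨P, hP⟩ := hmin H hSH' hH
  have hsub : (Cfsg.fusionSystemOfSubgroup H (S : Subgroup G) hSH').Hom P ⊆
      (Cfsg.groupFusionSystem (S : Subgroup G)).Hom P := by
    rintro φ ⟨h1, h2, g, -, hg⟩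
    exact ⟨h1, h2, g, hg⟩
  have hnot : ¬ (Cfsg.groupFusionSystem (S : Subgroup G)).Hom P ⊆
      (Cfsg.fusionSystemOfSubgroup H (S : Subgroup G) hSH').Hom P :=
    fun h => hP (Set.Subset.antisymm hsub h)
  rw [Set.not_subset] at hnot
  obtain ⟨φ, hφ, hφH⟩ := hnot
  refine ⟨P, φ, hφ, ?_⟩
  rintro ⟨g, hgH, hg⟩
  apply hφH
  obtain ⟨h1, h2, -⟩ := hφ
  refine ⟨h1, h2, g, hgH, fun x => ?_⟩
  have := hg x
  rw [ext1_of_mem _ (h2 x), ext1_of_mem _ (h1 x.2)] at this
  exact this

end Cfsg.Agent.S5336
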