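import Cfsg.Statements.S5337
import Cfsg.Agent.Lib.Helper27.FusionAbelian

set_option autoImplicit false
open Cfsg

namespace Cfsg.Agent.S5337

open Cfsg.FusionSystem Cfsg.Agent.Lib.Helper27

variable {Ω : Type*} [Group Ω] {S : Subgroup Ω}

/-- maps of the inner system of an abelian group are inclusions -/
theorem inner_apply {T : Subgroup Ω} (habT : ∀ x ∈ T, ∀ y ∈ T, x * y = y * x) {P : Subgroup Ω}
    {φ : P →* Ω} (hφ : φ ∈ (innerFusionSystem T).Hom P) (x : P) : φ x = x := by
  obtain ⟨hP, g, hg, h⟩ := hφ
  rw [h x, habT g hg x (hP x.2)]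
  simp

theorem subtype_mem_inner {T P : Subgroup Ω} (hP : P ≤ T) : P.subtype ∈ (innerFusionSystem T).Hom P :=
  ⟨hP, 1, T.one_mem, fun x => by simp⟩

theorem inner_autGroup_eq_one {T : Subgroup Ω} (habT : ∀ x ∈ T, ∀ y ∈ T, x * y = y * x) {P : Subgroup Ω}
    (hP : P ≤ T) (α : MulAut P) (hα : α ∈ (innerFusionSystem T).autGroup P) : α = 1 := by
  rw [mem_autGroup_iff _ hP] at hα
  ext x
  have := inner_apply habT hα x
  simpa using this

/-- restriction of a map of the system to a finite subgroup which it maps into itself -/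
theorem exists_aut_restrict (F : FusionSystem S) {R T : Subgroup Ω} [Finite T] (hTR : T ≤ R) {ψ : R →* Ω}
    (hψ : ψ ∈ F.Hom R) (hT : ∀ x : R, (x : Ω) ∈ T → ψ x ∈ T) :
    ∃ α : T ≃* T, IsIso F α ∧ ∀ x : T, ((α x : T) : Ω) = ψ ⟨x, hTR x.2⟩ := by
  have hψ' : ψ.comp (Subgroup.inclusion hTR) ∈ F.Hom T := hom_restrict F hTR hψ
  have hr : (ψ.comp (Subgroup.inclusion hTR)).range = T := by
    have hle : (ψ.comp (Subgroup.inclusion hTR)).range ≤ T := by
      rintro _ ⟨x, rfl⟩
      exact hT _ x.2
    apply Subgroup.eq_of_le_of_card_ge hle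
    rw [Nat.card_congr (MonoidHom.ofInjective (F.injective_of_mem hψ')).toEquiv]
  obtain ⟨α, hα, h⟩ := exists_isIso_of_hom F hψ' hr
  exact ⟨α, hα, fun x => h x⟩

/-- For a saturated system on an abelian `S` and `T` strongly closed, the inner system of `T` is normal. -/
theorem inner_isNormalIn [Finite S] (p : ℕ) [Fact p.Prime] (F : FusionSystem S) (hF : F.IsSaturated p)
    (hab : ∀ x ∈ S, ∀ y ∈ S, x * y = y * x) (T : Subgroup Ω) (hT : F.StronglyClosed T) :
    (innerFusionSystem T).IsNormalIn F p := by
  have hTS : T ≤ S := hT.1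
  have habT : ∀ x ∈ T, ∀ y ∈ T, x * y = y * x := fun x hx y hy => hab x (hTS hx) y (hTS hy)
  haveI : Finite T := Finite.of_injective (Subgroup.inclusion hTS) (Subgroup.inclusion_injective hTS)
  refine ⟨⟨?_, hF, ?_, hT, ?_, ?_⟩, ?_⟩
  · -- saturated
    intro P hP
    refine ⟨P, isConj_refl _ hP, ⟨hP, ?_⟩, hP, ?_⟩
    · haveI : Subsingleton ((innerFusionSystem T).autGroup P) := by
        constructor
        intro a b
        apply Subtype.ext
        rw [inner_autGroup_eq_one habT hP a.1 a.2, inner_autGroup_eq_one habT hP b.1 b.2]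
      obtain ⟨R⟩ : Nonempty (Sylow p ((innerFusionSystem T).autGroup P)) := inferInstance
      exact ⟨R, Subsingleton.elim _ _⟩
    · intro P' φ hφ _
      refine ⟨(extender T P' φ).subtype, subtype_mem_inner (extender_le_S φ), ?_⟩
      intro x hP' hN
      rw [inner_apply habT hφ]
      rfl
  · -- subsystem
    intro P φ hφ
    obtain ⟨hP, g, hg, h⟩ := hφ
    have : φ = conjHom P g := by
      ext x
      rw [h x]; rfl
    rw [this]
    exact F.conj_mem (le_trans hP hTS) (hTS hg)
  · -- invariance
    intro P hPT φ hφ α _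
    refine ⟨Subgroup.subtype _, subtype_mem_inner ?_, ?_⟩
    · rintro _ ⟨y, -, rfl⟩
      exact (α y).2
    · intro x hφx hαx
      have : (⟨φ x, hφx⟩ : T) = ⟨x, hPT x.2⟩ := Subtype.ext (inner_apply habT hφ x)
      rw [this]
      rfl
  · -- Frattini condition
    intro P hPT φ hφ
    obtain ⟨β, hβ, hβφ⟩ := exists_aut_extension_of_comm hF hab hφ
    have hβ' : S.subtype.comp β.toMonoidHom ∈ F.Hom S := hβ
    have hstab : ∀ x : S, (x : Ω) ∈ T → (S.subtype.comp β.toMonoidHom) x ∈ T := by
      intro x hx
      have h1 := hom_restrict F hTS hβ'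
      exact hT.2 T le_rfl _ h1 ⟨x, hx⟩
    obtain ⟨α, hα, hαβ⟩ := exists_aut_restrict F hTS hβ' hstab
    refine ⟨α, (mem_autGroup_iff F hTS α).mpr hα, P.subtype, subtype_mem_inner hPT, ?_⟩
    intro x hx
    rw [hαβ]
    exact (hβφ x).symm
  · -- extension condition
    intro α hα
    have hα1 : α = 1 := inner_autGroup_eq_one habT le_rfl α hα
    refine ⟨1, Subgroup.one_mem _, ?_, ?_⟩
    · intro x
      rw [hα1]
      rfl
    · intro c _
      simp

/-- Let F be a saturated fusion system over a finite abelian p-group S. Then F is simple if and only if S has order p and F is the inner system of S (whose only maps are the inclusions, S being abelian). -/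
theorem result {Ω : Type*} [Group Ω] {S : Subgroup Ω} [Finite S] (p : ℕ) [Fact p.Prime] (hS : IsPGroup p S) (F : Cfsg.FusionSystem S) (hF : F.IsSaturated p) (hab : ∀ x ∈ S, ∀ y ∈ S, x * y = y * x) : F.IsSimple p ↔ (Nat.card S = p ∧ ∀ P : Subgroup Ω, F.Hom P = (Cfsg.innerFusionSystem S).Hom P) := by
  have hp : p.Prime := Fact.out
  constructor
  · rintro ⟨-, hne, hsimp⟩
    -- F is the inner system
    have hSS : F.StronglyClosed S := ⟨le_rfl, fun R _ φ hφ x => (F.le_of_mem hφ).2 x⟩
    have h1 := hsimp S (innerFusionSystem S) (inner_isNormalIn p F hF hab S hSS)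
    have hFin : ∀ P : Subgroup Ω, (innerFusionSystem S).Hom P = F.Hom P := by
      rcases h1 with h1 | h1
      · exact absurd h1 hne
      · exact h1.2
    refine ⟨?_, fun P => (hFin P).symm⟩
    -- a subgroup of order p
    have hcard : p ∣ Nat.card S := by
      obtain ⟨n, hn⟩ := IsPGroup.iff_card.mp hS
      rw [hn]
      have : n ≠ 0 := by
        rintro rfl
        rw [pow_zero] at hn
        exact hne ((Subgroup.card_eq_one).mp hn)
      exact dvd_pow_self p this
    obtain ⟨x, hx⟩ := exists_prime_orderOf_dvd_card' p hcard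
    set T : Subgroup Ω := (Subgroup.zpowers x).map S.subtype with hTdef
    have hTS : T ≤ S := by
      rintro _ ⟨y, -, rfl⟩
      exact y.2
    have hTcard : Nat.card T = p := by
      rw [hTdef, Subgroup.card_map_of_injective S.subtype_injective, Nat.card_zpowers, hx]
    have hTsc : F.StronglyClosed T := by
      refine ⟨hTS, fun R hR φ hφ y => ?_⟩
      rw [← hFin R] at hφ
      rw [inner_apply hab hφ]
      exact hR y.2
    have h2 := hsimp T (innerFusionSystem T) (inner_isNormalIn p F hF hab T hTsc)
    rcases h2 with h2 | h2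
    · rw [h2] at hTcard
      rw [Subgroup.card_bot] at hTcard
      exact absurd hTcard.symm hp.one_lt.ne'
    · rw [← h2.1]; exact hTcard
  · rintro ⟨hcard, hFin⟩
    refine ⟨hF, ?_, ?_⟩
    · rintro rfl
      rw [Subgroup.card_bot] at hcard
      exact hp.one_lt.ne' hcard.symm
    · intro T E hE
      have hTS : T ≤ S := hE.1.2.2.2.1.1
      have hdvd : Nat.card T ∣ p := by
        rw [← hcard]
        exact Subgroup.card_dvd_of_le hTS
      rcases (Nat.dvd_prime hp).mp hdvd with h | h
      · left
        exact Subgroup.card_eq_one.mp h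
      · right
        have hTeq : T = S := by
          apply Subgroup.eq_of_le_of_card_ge hTS
          rw [h, hcard]
        subst hTeq
        refine ⟨rfl, fun P => ?_⟩
        apply Set.Subset.antisymm (hE.1.2.2.1 P)
        intro φ hφ
        rw [hFin] at hφ
        obtain ⟨hP, g, hg, h⟩ := hφ
        have : φ = conjHom P g := by
          ext x
          rw [h x]; rfl
        rw [this]
        exact E.conj_mem hP hg

end Cfsg.Agent.S5337
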