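import Cfsg.Statements.S5338
import Cfsg.Agent.Lib.Helper27.FusionAlperin

set_option autoImplicit false
open Cfsg

namespace Cfsg.Agent.S5338

open Cfsg.FusionSystem Cfsg.Agent.Lib.Helper27

/-- Let F be a saturated fusion system over a finite p-group S and F′ ≤ F a saturated subsystem over all of S that is invariant under F in the conjugation sense: for every map φ of F with source Q and every map ψ of F′ between subgroups R ≤ Q (with values in Q), the transported map φψφ⁻¹ defined on φ(R) is again a map of F′. If moreover Aut_{F′}(S) = Aut_F(S), then F′ = F. -/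
theorem result {Ω : Type*} [Group Ω] {S : Subgroup Ω} [Finite S] (p : ℕ) [Fact p.Prime] (hS : IsPGroup p S) (F : Cfsg.FusionSystem S) (hF : F.IsSaturated p) (F' : Cfsg.FusionSystem S) (hF' : F'.IsSaturated p) (hle : F' ≤ F) (hinv : ∀ (Q : Subgroup Ω) (φ : ↥Q →* Ω), φ ∈ F.Hom Q → ∀ (R : Subgroup Ω) (hRQ : R ≤ Q) (ψ : ↥R →* Ω), ψ ∈ F'.Hom R → ∀ (hψQ : ∀ x : R, ψ x ∈ Q), ∃ χ ∈ F'.Hom ((R.subgroupOf Q).map φ), ∀ (x : R) (hx : φ ⟨(x : Ω), hRQ x.2⟩ ∈ (R.subgroupOf Q).map φ), χ ⟨φ ⟨(x : Ω), hRQ x.2⟩, hx⟩ = φ ⟨ψ x, hψQ x⟩) (htop : F'.autGroup S = F.autGroup S) (P : Subgroup Ω) : F'.Hom P = F.Hom P := by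
  apply Set.Subset.antisymm (hle P)
  revert P
  apply alperin_strong hS hF F'
  · intro α hα
    have h1 : (α : MulAut S) ∈ F.autGroup S := (mem_autGroup_iff F le_rfl α).mpr hα
    rw [← htop] at h1
    exact (mem_autGroup_iff F' le_rfl α).mp h1
  · intro R hRlt hfn _ _ IH α hα
    have hRS : R ≤ S := hRlt.le
    haveI : Finite R := Finite.of_injective (Subgroup.inclusion hRS) (Subgroup.inclusion_injective hRS)
    obtain ⟨⟨-, R₀, hR₀⟩, hrec, -⟩ := fa_receptive_of_fullyNormalized hS hF hfn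
    have hF'A : F'.autGroup R ≤ F.autGroup R := by
      intro β hβ
      rw [mem_autGroup_iff F' hRS] at hβ
      rw [mem_autGroup_iff F hRS]
      exact hle R hβ
    -- normality of Aut_{F'}(R) in Aut_F(R)
    have hconj : ∀ (a β : R ≃* R), IsIso F a → IsIso F' β → IsIso F' (a.symm.trans (β.trans a)) := by
      intro a β ha hβ
      obtain ⟨χ, hχ, hχe⟩ := hinv R _ ha R le_rfl _ hβ (fun x => (β x).2)
      have hmap : (R.subgroupOf R).map (R.subtype.comp a.toMonoidHom) = R := by
        ext y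
        constructor
        · rintro ⟨x, -, rfl⟩
          exact (a x).2
        · intro hy
          exact ⟨a.symm ⟨y, hy⟩, Subgroup.mem_subgroupOf.mpr (a.symm ⟨y, hy⟩).2, by simp⟩
      have hχ' : χ.comp (Subgroup.inclusion hmap.ge) ∈ F'.Hom R := hom_restrict F' hmap.ge hχ
      refine isIso_of_hom_of_eq hχ' (fun y => ?_)
      obtain ⟨x, rfl⟩ : ∃ x, a x = y := ⟨a.symm y, by simp⟩
      have hx : (R.subtype.comp a.toMonoidHom) ⟨(x : Ω), x.2⟩ ∈
          Subgroup.map (R.subtype.comp a.toMonoidHom) (R.subgroupOf R) := by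
        rw [hmap]; exact (a x).2
      have h1 := hχe x hx
      simp only [MulEquiv.trans_apply, MulEquiv.symm_apply_apply]
      have h3 : (χ.comp (Subgroup.inclusion hmap.ge)) (a x) =
          χ ⟨(R.subtype.comp a.toMonoidHom) ⟨(x : Ω), x.2⟩, hx⟩ := rfl
      rw [h3, h1]
      rfl
    have hN : ((F'.autGroup R).subgroupOf (F.autGroup R)).Normal := by
      constructor
      intro n hn a
      rw [Subgroup.mem_subgroupOf] at hn ⊢
      rw [mem_autGroup_iff F' hRS] at hn ⊢
      have ha : IsIso F ((a : MulAut R) : R ≃* R) := (mem_autGroup_iff F hRS a).mp a.2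
      have := hconj (a : MulAut R) (n : MulAut R) ha hn
      have heq : ((a * n * a⁻¹ : F.autGroup R) : MulAut R) =
          ((a : MulAut R) : R ≃* R).symm.trans (((n : MulAut R) : R ≃* R).trans (a : MulAut R)) := by
        ext x
        simp [MulAut.mul_apply, MulAut.inv_apply]
      rw [heq]
      exact this
    have hR₀N : (R₀ : Subgroup (F.autGroup R)) ≤ (F'.autGroup R).subgroupOf (F.autGroup R) := by
      intro x hx
      rw [hR₀, Subgroup.mem_subgroupOf] at hx
      rw [Subgroup.mem_subgroupOf]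
      exact autInducedBy_le_autGroup F' hRS hx
    have hFr := Sylow.normalizer_sup_eq_top' R₀ hR₀N
    have hαA : (α : MulAut R) ∈ F.autGroup R := (mem_autGroup_iff F hRS α).mpr hα
    have hαtop : (⟨α, hαA⟩ : F.autGroup R) ∈ (⊤ : Subgroup (F.autGroup R)) := Subgroup.mem_top _
    rw [← hFr] at hαtop
    rw [Subgroup.mem_sup_of_normal_right] at hαtop
    obtain ⟨ν, hν, n, hn, hνn⟩ := hαtop
    -- n is in F'
    have hnF' : IsIso F' ((n : MulAut R) : R ≃* R) := by
      rw [Subgroup.mem_subgroupOf, mem_autGroup_iff F' hRS] at hn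
      exact hn
    -- ν extends to N_S(R)
    have hνF : IsIso F ((ν : MulAut R) : R ≃* R) := (mem_autGroup_iff F hRS ν).mp ν.2
    have hνF' : IsIso F' ((ν : MulAut R) : R ≃* R) := by
      apply isIso_of_extender_gt hrec IH hνF
      obtain ⟨g, hgN, hgR⟩ := exists_mem_normalizerIn_not_mem hS hRlt
      refine ⟨g, ?_, hgR⟩
      rw [mem_extender_iff]
      refine ⟨hgN.1, hgN.2, ?_⟩
      have h1 : conjAutHom S R ⟨g, hgN⟩ ∈ autInducedBy S R := by
        rw [← conjAutHom_range]; exact ⟨_, rfl⟩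
      have h1A : conjAutHom S R ⟨g, hgN⟩ ∈ F.autGroup R := autInducedBy_le_autGroup F hRS h1
      have h2 : (⟨conjAutHom S R ⟨g, hgN⟩, h1A⟩ : F.autGroup R) ∈ (R₀ : Subgroup (F.autGroup R)) := by
        rw [hR₀, Subgroup.mem_subgroupOf]; exact h1
      have h3 := (Subgroup.mem_normalizer_iff.mp hν _).mp h2
      rw [hR₀, Subgroup.mem_subgroupOf, mem_autInducedBy_iff] at h3
      obtain ⟨h, hh, hh'⟩ := h3
      refine ⟨h, hh, fun x hx => ?_⟩
      have h4 := hh' ((ν : MulAut R) x)
      simp only [Subgroup.coe_mul, Subgroup.coe_inv, MulAut.mul_apply, MulAut.inv_apply_self] at h4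
      have h5 : conjAutHom S R ⟨g, hgN⟩ x = ⟨g * x * g⁻¹, hx⟩ := Subtype.ext rfl
      rw [h5] at h4
      exact h4
    have hαeq : (α : R ≃* R) = ((n : MulAut R) : R ≃* R).trans ((ν : MulAut R) : R ≃* R) := by
      have := congrArg Subtype.val hνn
      simp only [Subgroup.coe_mul] at this
      rw [← this]
      rfl
    rw [hαeq]
    exact hnF'.trans hνF'

end Cfsg.Agent.S5338
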