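import Cfsg.Statements.S5340
import Cfsg.Agent.Lib.Helper27.SimpleCrit

set_option autoImplicit false
open Cfsg

namespace Cfsg.Agent.S5340

/-- Let F be a saturated fusion system over a nontrivial finite p-group S such that S is generated by its elements of order p, any two subgroups of S of order p are F-conjugate, and Aut_F(S) consists of inner automorphisms only. Then F is simple. -/
theorem result {Ω : Type*} [Group Ω] {S : Subgroup Ω} [Finite S] (p : ℕ) [Fact p.Prime] (hS : IsPGroup p S) (F : Cfsg.FusionSystem S) (hF : F.IsSaturated p) (hS1 : S ≠ ⊥) (hgen : Subgroup.closure {x : Ω | x ∈ S ∧ orderOf x = p} = S) (htr : ∀ A B : Subgroup Ω, A ≤ S → B ≤ S → Nat.card A = p → Nat.card B = p → F.IsConj A B) (htop : F.autGroup S = Cfsg.Inn ↥S) : F.IsSimple p := by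
  refine ⟨hF, hS1, ?_⟩
  intro T E hE
  have hinv : E.IsInvariantIn F := hE.1.2.2
  have hT : F.StronglyClosed T := hinv.2.1
  by_cases hT1 : T = ⊥
  · exact Or.inl hT1
  right
  have hTS : T ≤ S := hT.1
  have hTeq : T = S := by
    apply le_antisymm hTS
    -- T contains an element of order p
    haveI : Finite T := Finite.of_injective (Subgroup.inclusion hTS) (Subgroup.inclusion_injective hTS)
    have hTp : IsPGroup p T := hS.to_le hTS
    haveI : Nontrivial T := (Subgroup.nontrivial_iff_ne_bot T).mpr hT1
    obtain ⟨n, hn⟩ := hTp.exists_card_eq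
    have hn0 : n ≠ 0 := by
      rintro rfl
      have : Nat.card T = 1 := by simpa using hn
      have h1 : 1 < Nat.card T := Finite.one_lt_card
      omega
    have hdvd : p ∣ Nat.card T := by
      rw [hn]; exact dvd_pow_self p hn0
    obtain ⟨a, ha⟩ := exists_prime_orderOf_dvd_card' p hdvd
    have ha' : orderOf (a : Ω) = p := by rw [Subgroup.orderOf_coe]; exact ha
    have hAS : Subgroup.zpowers (a : Ω) ≤ S := by
      rw [Subgroup.zpowers_le]; exact hTS a.2
    have hAT : Subgroup.zpowers (a : Ω) ≤ T := by
      rw [Subgroup.zpowers_le]; exact a.2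
    have hAcard : Nat.card (Subgroup.zpowers (a : Ω)) = p := by
      rw [Nat.card_zpowers]; exact ha'
    rw [← hgen, Subgroup.closure_le]
    rintro x ⟨hxS, hxp⟩
    have hBS : Subgroup.zpowers x ≤ S := by
      rw [Subgroup.zpowers_le]; exact hxS
    have hBcard : Nat.card (Subgroup.zpowers x) = p := by
      rw [Nat.card_zpowers]; exact hxp
    obtain ⟨φ, hφ, hrange⟩ := htr _ _ hAS hBS hAcard hBcard
    have hx : x ∈ φ.range := by rw [hrange]; exact Subgroup.mem_zpowers x
    obtain ⟨y, rfl⟩ := hx
    exact hT.2 _ hAT φ hφ y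
  subst hTeq
  exact ⟨rfl, Cfsg.Agent.Lib.Helper27.hom_eq_of_invariant_of_top_inner F E htop hinv⟩

end Cfsg.Agent.S5340
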