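import Cfsg.Statements.S5341
import Cfsg.Agent.Lib.Helper27.FusionSat

set_option autoImplicit false
open Cfsg

namespace Cfsg.Agent.S5341

open Cfsg.FusionSystem Cfsg.Agent.Lib.Helper27

/-- Let F be a saturated fusion system over a finite p-group S, T a subgroup strongly closed in F, and F′ any fusion system over T all of whose maps are maps of F. For a subgroup Q ≤ T: if Q is fully centralized in F then it is fully centralized in F′, and if Q is fully normalized in F then it is fully normalized in F′. -/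
theorem result {Ω : Type*} [Group Ω] {S : Subgroup Ω} [Finite S] (p : ℕ) [Fact p.Prime] (hS : IsPGroup p S) (F : Cfsg.FusionSystem S) (hF : F.IsSaturated p) (T : Subgroup Ω) (hT : F.StronglyClosed T) (F' : Cfsg.FusionSystem T) (hsub : F'.IsSubsystemOf F) (Q : Subgroup Ω) (hQT : Q ≤ T) : (F.IsFullyCentralized Q → F'.IsFullyCentralized Q) ∧ (F.IsFullyNormalized Q → F'.IsFullyNormalized Q) := by
  have hTS : T ≤ S := hT.1
  have hconj : ∀ Q', F'.IsConj Q Q' → F.IsConj Q' Q := by
    rintro Q' ⟨φ, hφ, hr⟩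
    exact isConj_symm F ⟨φ, hsub Q hφ, hr⟩
  constructor
  · intro hQ
    refine ⟨hQT, fun Q' hQ' => ?_⟩
    have hr : F.IsReceptive Q := isReceptive_of_fullyCentralized hS hF hQ
    obtain ⟨e, he⟩ := (isConj_iff F).mp (hconj Q' hQ')
    obtain ⟨ψ, hψ, hmem⟩ := exists_hom_centralizerIn_of_receptive hr he
    have hle : centralizerIn T Q' ≤ centralizerIn S Q' := inf_le_inf_right _ hTS
    have hleT : centralizerIn T Q' ≤ T := inf_le_left
    have hmem' : ∀ c : centralizerIn T Q', ψ ⟨c, hle c.2⟩ ∈ centralizerIn T Q := by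
      intro c
      refine ⟨?_, (hmem ⟨c, hle c.2⟩).2⟩
      exact hT.2 (centralizerIn T Q') hleT _ (hom_restrict F hle hψ) c
    haveI : Finite (centralizerIn T Q) :=
      Finite.of_injective (Subgroup.inclusion (le_trans (inf_le_left : centralizerIn T Q ≤ T) hTS))
        (Subgroup.inclusion_injective _)
    apply Nat.card_le_card_of_injective
      (fun c : centralizerIn T Q' => (⟨ψ ⟨c, hle c.2⟩, hmem' c⟩ : centralizerIn T Q))
    intro c c' h
    have h2 := F.injective_of_mem hψ (congrArg Subtype.val h)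
    have h3 : (c : Ω) = c' := congrArg (fun z : ↥(centralizerIn S Q') => (z : Ω)) h2
    exact Subtype.ext h3
  · intro hQ
    refine ⟨hQT, fun Q' hQ' => ?_⟩
    have hQ'Q := hconj Q' hQ'
    have hQ'S : Q' ≤ S := isConj_le_left F hQ'Q
    have hQS : Q ≤ S := le_trans hQT hTS
    haveI : Finite Q := Finite.of_injective (Subgroup.inclusion hQS) (Subgroup.inclusion_injective hQS)
    obtain ⟨φ, hφ, χ, -, hφχ⟩ := exists_hom_normalizerIn_of_fullyNormalized hS hF hQ hQ'Q
    have hφχ' : ∀ x : Q', φ ⟨x, le_normalizerIn hQ'S x.2⟩ = χ x := fun x => hφχ x x.2 _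
    have hle : normalizerIn T Q' ≤ normalizerIn S Q' := inf_le_inf_right _ hTS
    have hleT : normalizerIn T Q' ≤ T := inf_le_left
    have hmem' : ∀ n : normalizerIn T Q', φ ⟨n, hle n.2⟩ ∈ normalizerIn T Q := by
      intro n
      refine ⟨?_, (hom_normalizerIn_mem_normalizerIn hQ'S hφ hφχ' ⟨n, hle n.2⟩).2⟩
      exact hT.2 (normalizerIn T Q') hleT _ (hom_restrict F hle hφ) n
    haveI : Finite (normalizerIn T Q) :=
      Finite.of_injective (Subgroup.inclusion (le_trans (inf_le_left : normalizerIn T Q ≤ T) hTS))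
        (Subgroup.inclusion_injective _)
    apply Nat.card_le_card_of_injective
      (fun n : normalizerIn T Q' => (⟨φ ⟨n, hle n.2⟩, hmem' n⟩ : normalizerIn T Q))
    intro n n' h
    have h2 := F.injective_of_mem hφ (congrArg Subtype.val h)
    have h3 : (n : Ω) = n' := congrArg (fun z : ↥(normalizerIn S Q') => (z : Ω)) h2
    exact Subtype.ext h3

end Cfsg.Agent.S5341
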