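import Cfsg.Statements.S5342
import Cfsg.Agent.Lib.Helper27.FusionConstrained

set_option autoImplicit false
open Cfsg

namespace Cfsg.Agent.S5342

open Cfsg.FusionSystem Cfsg.Agent.Lib.Helper27

theorem aux {Ω : Type*} [Group Ω] {p : ℕ} [Fact p.Prime] {T : Subgroup Ω} {E : Cfsg.FusionSystem T}
    {S : Subgroup Ω} {F : Cfsg.FusionSystem S} {q : ℕ} (h : E.IsSubnormalIn F q) :
    q = p → Finite S → IsPGroup p S → F.IsConstrained p → E.IsConstrained p := by
  induction h with
  | refl F q => exact fun _ _ _ hF => hF
  | step h1 h2 ih =>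
    intro hq hfin hS hF
    subst hq
    obtain ⟨⟨hDsat, -, hDsub, hU, -, -⟩, -⟩ := h2
    have hUS := hU.1
    have hD := isConstrained_of_subsystem hS hF hU hDsat hDsub
    exact ih rfl (Finite.of_injective (Subgroup.inclusion hUS) (Subgroup.inclusion_injective hUS))
      (hS.of_injective (Subgroup.inclusion hUS) (Subgroup.inclusion_injective hUS)) hD

/-- Let F be a constrained saturated fusion system over a finite p-group S. Then every subsystem of F that is subnormal in F (reached from F by a finite chain of successive normal subsystems) is constrained. -/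
theorem result {Ω : Type*} [Group Ω] {S : Subgroup Ω} [Finite S] (p : ℕ) [Fact p.Prime] (hS : IsPGroup p S) (F : Cfsg.FusionSystem S) (hF : F.IsConstrained p) {T : Subgroup Ω} (E : Cfsg.FusionSystem T) (hE : E.IsSubnormalIn F p) : E.IsConstrained p :=
  aux hE rfl inferInstance hS hF

end Cfsg.Agent.S5342
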