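import Cfsg.Statements.S5343
import Cfsg.Agent.Lib.Helper27.FusionRealizedNormal
import Cfsg.Agent.Lib.Helper27.FusionRealizedMin

set_option autoImplicit false
universe u
open Cfsg

namespace Cfsg.Agent.S5343

open Cfsg.FusionSystem Cfsg.Agent.Lib.Helper27

/-- Let F be a simple saturated fusion system over a finite p-group S that is realized by some finite group on a Sylow p-subgroup. Then F is realized by a finite simple group on a Sylow p-subgroup. -/
theorem result {Ω : Type u} [Group Ω] {S : Subgroup Ω} [Finite S] (p : ℕ) [Fact p.Prime] (hS : IsPGroup p S) (F : Cfsg.FusionSystem S) (hsimple : F.IsSimple p) (hreal : F.IsRealizable p) : ∃ (G : Type u) (_ : Group G) (_ : Finite G) (_ : IsSimpleGroup G) (ι : ↥S →* G), F.IsRealizedBy ι ∧ ∃ T : Sylow p G, (T : Subgroup G) = ι.range := by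
  classical
  let Real : ℕ → Prop := fun n => ∃ (G : Type u) (_ : Group G) (_ : Finite G) (ι : ↥S →* G),
    F.IsRealizedBy ι ∧ (∃ T : Sylow p G, (T : Subgroup G) = ι.range) ∧ Nat.card G = n
  have hex : ∃ n, Real n := by
    obtain ⟨G, hG, hfin, ι, h1, h2⟩ := hreal
    exact ⟨Nat.card G, G, hG, hfin, ι, h1, h2, rfl⟩
  have hminimal : ∀ m, Real m → Nat.find hex ≤ m := fun m hm => Nat.find_min' hex hm
  obtain ⟨G, hG, hfin, ι, hι, ⟨Sy, hSy⟩, hcard⟩ := Nat.find_spec hex
  refine ⟨G, hG, hfin, ?_, ι, hι, Sy, hSy⟩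
  refine isSimpleGroup_of_realized_minimal hι Sy hSy hsimple ?_ ?_
  · -- the `p'`-core is trivial
    by_contra hne
    have := Cfsg.Agent.Lib.Helper1.pPrimeCore_normal (G := G) p
    obtain ⟨h1, T, hT⟩ := realized_quotient hι Sy hSy (pPrimeCore p G) (Cfsg.Agent.Lib.Helper1.pPrimeCore_coprime p)
    have hle := hminimal _ ⟨G ⧸ pPrimeCore p G, inferInstance, inferInstance, _, h1, ⟨T, hT⟩, rfl⟩
    rw [← hcard] at hle
    have h2 := Subgroup.card_eq_card_quotient_mul_card_subgroup (pPrimeCore p G)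
    have h3 : 1 < Nat.card (pPrimeCore p G) := (Subgroup.one_lt_card_iff_ne_bot _).mpr hne
    have h4 : 0 < Nat.card (G ⧸ pPrimeCore p G) := Nat.card_pos
    nlinarith
  · intro H hle hH
    by_contra hno
    push Not at hno
    have hle' : ∀ s : S, ι s ∈ H := fun s => hle ⟨s, rfl⟩
    obtain ⟨h1, T, hT⟩ := realized_subgroup hι Sy hSy H hle' hno
    have hle2 := hminimal _ ⟨H, inferInstance, inferInstance, _, h1, ⟨T, hT⟩, rfl⟩
    rw [← hcard] at hle2
    exact hH (Subgroup.eq_top_of_le_card H hle2)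

end Cfsg.Agent.S5343
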