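-- Statement S5344. The statement below is byte-identical to the frozen statement.
import Cfsg.Statements.S5344

set_option autoImplicit false
open Cfsg

namespace Cfsg.Agent.S5344

abbrev Idx := Fin 2 × Fin 3 × Fin 4

def s0 : Equiv.Perm (Fin 4) := Equiv.swap 0 1
def s1 : Equiv.Perm (Fin 4) := Equiv.swap 1 2
def s2 : Equiv.Perm (Fin 4) := Equiv.swap 2 3

def pe (x : Idx) : Equiv.Perm (Fin 4) :=
  (![1, s0] : Fin 2 → Equiv.Perm (Fin 4)) x.1 * (![1, s1, s1 * s0] : Fin 3 → Equiv.Perm (Fin 4)) x.2.1 *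
    (![1, s2, s2 * s1, s2 * s1 * s0] : Fin 4 → Equiv.Perm (Fin 4)) x.2.2

def stepTable : Fin 2 → Fin 3 → Fin 4 → Fin 3 → Idx :=
  ![![![![(1, 0, 0), (0, 1, 0), (0, 0, 1)], ![(1, 0, 1), (0, 0, 2), (0, 0, 0)], ![(0, 0, 3), (0, 0, 1), (0, 1, 2)], ![(0, 0, 2), (1, 0, 3), (0, 1, 3)]], ![![(0, 2, 0), (0, 0, 0), (0, 1, 1)], ![(0, 2, 1), (0, 1, 2), (0, 1, 0)], ![(0, 1, 3), (0, 1, 1), (0, 0, 2)], ![(0, 1, 2), (0, 2, 3), (0, 0, 3)]], ![![(0, 1, 0), (1, 2, 0), (0, 2, 1)], ![(0, 1, 1), (0, 2, 2), (0, 2, 0)], ![(0, 2, 3), (0, 2, 1), (1, 2, 2)], ![(0, 2, 2), (0, 1, 3), (1, 2, 3)]]], ![![![(0, 0, 0), (1, 1, 0), (1, 0, 1)], ![(0, 0, 1), (1, 0, 2), (1, 0, 0)], ![(1, 0, 3), (1, 0, 1), (1, 1, 2)], ![(1, 0, 2), (0, 0, 3), (1, 1, 3)]], ![![(1, 2, 0), (1, 0, 0), (1, 1, 1)], ![(1, 2, 1), (1, 1, 2), (1, 1, 0)], ![(1, 1, 3), (1, 1, 1), (1, 0, 2)], ![(1, 1, 2), (1, 2, 3), (1, 0, 3)]], ![![(1, 1, 0), (0, 2, 0), (1, 2, 1)], ![(1, 1, 1), (1, 2, 2), (1, 2, 0)], ![(1,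 2, 3), (1, 2, 1), (0, 2, 2)], ![(1, 2, 2), (1, 1, 3), (0, 2, 3)]]]]

def step (x : Idx) (g : Fin 3) : Idx := stepTable x.1 x.2.1 x.2.2 g

def gen : Fin 3 → Equiv.Perm (Fin 4) := ![s0, s1, s2]

theorem pe_step : ∀ (x : Idx) (g : Fin 3), pe (step x g) = pe x * gen g := by decide

theorem pe_injective : Function.Injective pe := by decide

end Cfsg.Agent.S5344

namespace Cfsg.Agent.S5344

set_option maxRecDepth 100000 in
theorem normal_closure_aux : ∀ x : Idx, x ≠ (0, 0, 0) → ∃ y z : Idx,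
    (pe y * pe x * (pe y)⁻¹) * (pe z * pe x * (pe z)⁻¹) = s0 * s2 ∨ pe y * pe x * (pe y)⁻¹ = s0 * s2 := by
  decide

end Cfsg.Agent.S5344

namespace Cfsg.Agent.S5344

section GSide

variable {G : Type*} [Group G] (a b c : G)

def pg (x : Idx) : G :=
  (![1, a] : Fin 2 → G) x.1 * (![1, b, b * a] : Fin 3 → G) x.2.1 * (![1, c, c * b, c * b * a] : Fin 4 → G) x.2.2

def genG : Fin 3 → G := ![a, b, c]

theorem pg_step (ha : a * a = 1) (hb : b * b = 1) (hc : c * c = 1) (hac : c * a = a * c)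
    (hab : b * (a * b) = a * (b * a)) (hbc : c * (b * c) = b * (c * b)) :
    ∀ (x : Idx) (g : Fin 3), pg a b c (step x g) = pg a b c x * genG a b c g := by
  have ha' : ∀ t, a * (a * t) = t := fun t => by rw [← mul_assoc, ha, one_mul]
  have hb' : ∀ t, b * (b * t) = t := fun t => by rw [← mul_assoc, hb, one_mul]
  have hc' : ∀ t, c * (c * t) = t := fun t => by rw [← mul_assoc, hc, one_mul]
  have hac' : ∀ t, c * (a * t) = a * (c * t) := fun t => by rw [← mul_assoc, hac, mul_assoc]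
  have hab' : ∀ t, b * (a * (b * t)) = a * (b * (a * t)) := fun t => by
    rw [← mul_assoc a, ← mul_assoc b, hab]; simp only [mul_assoc]
  have hbc' : ∀ t, c * (b * (c * t)) = b * (c * (b * t)) := fun t => by
    rw [← mul_assoc b, ← mul_assoc c, hbc]; simp only [mul_assoc]
  have h5 : c * (b * (a * c)) = b * (c * (b * a)) := by
    rw [← hac, hbc']
  have h5' : ∀ t, c * (b * (a * (c * t))) = b * (c * (b * (a * t))) := fun t => by
    rw [← hac', hbc']
  rintro ⟨i, j, k⟩ g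
  fin_cases i <;> fin_cases j <;> fin_cases k <;> fin_cases g <;>
    simp [pg, step, stepTable, genG, mul_assoc, ha, hb, hc, hac, hab, hbc, ha', hb', hc', hac', hab', hbc', h5, h5']

end GSide

end Cfsg.Agent.S5344

namespace Cfsg.Agent.S5344

theorem pe_bijective : Function.Bijective pe := by
  rw [Fintype.bijective_iff_injective_and_card]
  refine ⟨pe_injective, ?_⟩
  rw [Fintype.card_perm]
  rfl

noncomputable def idxEquiv : Idx ≃ Equiv.Perm (Fin 4) := Equiv.ofBijective pe pe_bijective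

/-- In a set of 3-transpositions, let a, b, c be members with a and c different and commuting, while neither a nor c commutes with b (a 3-string). Then there is an injective homomorphism from the symmetric group of degree 4 into the ambient group sending the transpositions (0 1), (1 2), (2 3) to a, b, c; so a, b, c generate a copy of the symmetric group of degree 4 in which they are transpositions. -/
theorem result {G : Type*} [Group G] {D : Set G} (hD : Cfsg.IsThreeTranspositionSet D) {a b c : G} (ha : a ∈ D) (hb : b ∈ D) (hc : c ∈ D) (hac : a ≠ c) (hac' : Commute a c) (hab : ¬ Commute a b) (hbc : ¬ Commute b c) : ∃ φ : Equiv.Perm (Fin 4) →* G, Function.Injective φ ∧ φ (Equiv.swap 0 1) = a ∧ φ (Equiv.swap 1 2) = b ∧ φ (Equiv.swap 2 3) = c := by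
  obtain ⟨hord, hprod⟩ := hD
  have hsq : ∀ x ∈ D, x * x = 1 := by
    intro x hx
    rw [← sq, ← hord x hx]; exact pow_orderOf_eq_one x
  have ha2 := hsq a ha
  have hb2 := hsq b hb
  have hc2 := hsq c hc
  have hinv : ∀ x ∈ D, x⁻¹ = x := fun x hx => inv_eq_of_mul_eq_one_right (hsq x hx)
  -- products of order 3
  have key : ∀ x ∈ D, ∀ y ∈ D, ¬ Commute x y → y * (x * y) = x * (y * x) := by
    intro x hx y hy hxy
    have h3 : (x * y) ^ 3 = 1 := by
      rcases hprod x hx y hy with h | h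
      · exfalso
        apply hxy
        have h4 : x * y * (x * y) = 1 := by rw [← sq]; exact h
        have h5 : x * y = (x * y)⁻¹ := eq_inv_of_mul_eq_one_left h4
        show x * y = y * x
        rw [h5, mul_inv_rev, hinv x hx, hinv y hy]
      · exact h
    -- (xyx)(yxy) = 1
    have h6 : (x * (y * x)) * (y * (x * y)) = 1 := by
      rw [← h3, pow_succ, pow_two]; group
    have h7 : y * (x * y) = (x * (y * x))⁻¹ := eq_inv_of_mul_eq_one_right h6
    rw [h7, mul_inv_rev, mul_inv_rev, hinv x hx, hinv y hy, mul_assoc]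
  have hab3 : b * (a * b) = a * (b * a) := key a ha b hb hab
  have hbc3 : c * (b * c) = b * (c * b) := key b hb c hc hbc
  have hca : c * a = a * c := hac'.eq.symm
  have hstep := pg_step a b c ha2 hb2 hc2 hca hab3 hbc3
  -- the map
  let f : Equiv.Perm (Fin 4) → G := fun σ => pg a b c (idxEquiv.symm σ)
  have hf_pe : ∀ x, f (pe x) = pg a b c x := by
    intro x
    show pg a b c (idxEquiv.symm (idxEquiv x)) = _
    rw [Equiv.symm_apply_apply]
  have hpe_symm : ∀ σ, pe (idxEquiv.symm σ) = σ := fun σ => idxEquiv.apply_symm_apply σ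
  have hB : ∀ σ g, f (σ * gen g) = f σ * genG a b c g := by
    intro σ g
    conv_lhs => rw [← hpe_symm σ, ← pe_step, hf_pe]
    exact hstep _ _
  have hB0 : ∀ σ, f (σ * s0) = f σ * a := fun σ => hB σ 0
  have hB1 : ∀ σ, f (σ * s1) = f σ * b := fun σ => hB σ 1
  have hB2 : ∀ σ, f (σ * s2) = f σ * c := fun σ => hB σ 2
  have hf1 : f 1 = 1 := by
    have : (1 : Equiv.Perm (Fin 4)) = pe (0, 0, 0) := by decide
    rw [this, hf_pe]
    simp [pg]
  have hC : ∀ σ (x : Idx), f (σ * pe x) = f σ * pg a b c x := by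
    rintro σ ⟨i, j, k⟩
    fin_cases i <;> fin_cases j <;> fin_cases k <;>
      simp [pe, pg, ← mul_assoc, hB0, hB1, hB2]
  have hmul : ∀ σ τ, f (σ * τ) = f σ * f τ := by
    intro σ τ
    rw [← hpe_symm τ, hC, hf_pe]
  let φ : Equiv.Perm (Fin 4) →* G := MonoidHom.mk' f hmul
  have hφ : ∀ σ, φ σ = f σ := fun σ => rfl
  have h0 : φ (Equiv.swap 0 1) = a := by
    have : (Equiv.swap 0 1 : Equiv.Perm (Fin 4)) = pe (1, 0, 0) := by decide
    rw [hφ, this, hf_pe]; simp [pg]
  have h1 : φ (Equiv.swap 1 2) = b := by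
    have : (Equiv.swap 1 2 : Equiv.Perm (Fin 4)) = pe (0, 1, 0) := by decide
    rw [hφ, this, hf_pe]; simp [pg]
  have h2 : φ (Equiv.swap 2 3) = c := by
    have : (Equiv.swap 2 3 : Equiv.Perm (Fin 4)) = pe (0, 0, 1) := by decide
    rw [hφ, this, hf_pe]; simp [pg]
  refine ⟨φ, ?_, h0, h1, h2⟩
  -- injectivity
  rw [injective_iff_map_eq_one]
  intro σ hσ
  by_contra hne
  have hx : idxEquiv.symm σ ≠ (0, 0, 0) := by
    intro h
    apply hne
    have : σ = pe (0, 0, 0) := by rw [← h, hpe_symm]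
    rw [this]; decide
  obtain ⟨y, z, hyz⟩ := normal_closure_aux _ hx
  rw [hpe_symm] at hyz
  have hconj : ∀ τ : Equiv.Perm (Fin 4), φ (τ * σ * τ⁻¹) = 1 := by
    intro τ
    rw [map_mul, map_mul, hσ, mul_one, ← map_mul, mul_inv_cancel, map_one]
  have ht : φ (s0 * s2) = 1 := by
    rcases hyz with h | h
    · rw [← h, map_mul, hconj, hconj, one_mul]
    · rw [← h, hconj]
  have ht' : φ (s0 * s2) = a * c := by
    rw [map_mul]
    show φ (Equiv.swap 0 1) * φ (Equiv.swap 2 3) = a * c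
    rw [h0, h2]
  rw [ht'] at ht
  apply hac
  have : a = c⁻¹ := eq_inv_of_mul_eq_one_left ht
  rw [this, hinv c hc]

end Cfsg.Agent.S5344
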