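-- Statement S5345. The statement below is byte-identical to the frozen statement.
import Cfsg.Statements.S5345

set_option autoImplicit false
open Cfsg

namespace Cfsg.Agent.S5345

theorem comm_closure {G : Type*} [Group G] (k : Set G) (hk : ∀ a ∈ k, ∀ b ∈ k, a * b = b * a) :
    ∀ a ∈ Subgroup.closure k, ∀ b ∈ Subgroup.closure k, a * b = b * a := by
  have h1 : Subgroup.closure k ≤ Subgroup.centralizer k := by
    rw [Subgroup.closure_le]
    intro x hx
    rw [SetLike.mem_coe, Subgroup.mem_centralizer_iff]
    intro y hy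
    exact hk y hy x hx
  have h2 : Subgroup.closure k ≤ Subgroup.centralizer (Subgroup.closure k : Set G) := by
    rw [Subgroup.closure_le]
    intro x hx
    rw [SetLike.mem_coe, Subgroup.mem_centralizer_iff]
    intro y hy
    have := h1 hy
    rw [Subgroup.mem_centralizer_iff] at this
    exact (this x hx).symm
  intro a ha b hb
  have := h2 hb
  rw [Subgroup.mem_centralizer_iff] at this
  exact this a ha

theorem sq_closure {G : Type*} [Group G] (k : Set G) (hk : ∀ a ∈ k, ∀ b ∈ k, a * b = b * a)
    (hk2 : ∀ a ∈ k, a ^ 2 = 1) : ∀ a ∈ Subgroup.closure k, a ^ 2 = 1 := by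
  intro a ha
  induction ha using Subgroup.closure_induction with
  | mem x hx => exact hk2 x hx
  | one => simp
  | mul x y hx hy hx2 hy2 =>
    have hc := comm_closure k hk x hx y hy
    rw [(show Commute x y from hc).mul_pow, hx2, hy2, one_mul]
  | inv x hx hx2 => rw [inv_pow, hx2, inv_one]

open scoped Pointwise in
/-- Let D be a conjugation-invariant generating set of 3-transpositions of a finite group G and T a Sylow 2-subgroup of G. Then the members of D lying in T generate an abelian subgroup, and their number is the width of D (the largest number of pairwise commuting members of D). -/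
theorem result {G : Type*} [Group G] [Finite G] {D : Set G} (hD : Cfsg.IsThreeTranspositionGroup D) (T : Sylow 2 G) : IsMulCommutative (Subgroup.closure {d : G | d ∈ D ∧ d ∈ T}) ∧ {d : G | d ∈ D ∧ d ∈ T}.ncard = Cfsg.commutingWidth D := by
  classical
  obtain ⟨⟨hord, hprod⟩, hconj, -⟩ := hD
  have hsq : ∀ x ∈ D, x ^ 2 = 1 := by
    intro x hx
    rw [← hord x hx]; exact pow_orderOf_eq_one x
  -- commuting in D ∩ T
  have hcomm : ∀ a ∈ {d : G | d ∈ D ∧ d ∈ T}, ∀ b ∈ {d : G | d ∈ D ∧ d ∈ T}, a * b = b * a := by
    rintro a ⟨haD, haT⟩ b ⟨hbD, hbT⟩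
    have hab2 : (a * b) ^ 2 = 1 := by
      rcases hprod a haD b hbD with h | h
      · exact h
      · -- order divides 3 and a power of 2
        have hmem : a * b ∈ (T : Subgroup G) := (T : Subgroup G).mul_mem haT hbT
        obtain ⟨k, hk⟩ := T.isPGroup' ⟨_, hmem⟩
        have hk' : (a * b) ^ (2 ^ k) = 1 := by
          have := congrArg Subtype.val hk
          simpa using this
        have h1 : orderOf (a * b) ∣ 2 ^ k := orderOf_dvd_of_pow_eq_one hk'
        have h2 : orderOf (a * b) ∣ 3 := orderOf_dvd_of_pow_eq_one h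
        have hcop : Nat.Coprime (2 ^ k) 3 := Nat.Coprime.pow_left _ (by norm_num)
        have : orderOf (a * b) ∣ 1 := by
          have := Nat.dvd_gcd h1 h2
          rwa [hcop] at this
        have : a * b = 1 := orderOf_eq_one_iff.mp (Nat.dvd_one.mp this)
        rw [this, one_pow]
    have ha2 : a * a = 1 := by rw [← sq]; exact hsq a haD
    have hb2 : b * b = 1 := by rw [← sq]; exact hsq b hbD
    have h4 : a * b * (a * b) = 1 := by rw [← sq]; exact hab2
    have hainv : a⁻¹ = a := inv_eq_of_mul_eq_one_right ha2
    have hbinv : b⁻¹ = b := inv_eq_of_mul_eq_one_right hb2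
    have h5 : a * b = (a * b)⁻¹ := eq_inv_of_mul_eq_one_left h4
    rw [h5, mul_inv_rev, hainv, hbinv]
  refine ⟨?_, ?_⟩
  · rw [isMulCommutative_iff_of_setLike]
    exact comm_closure _ hcomm
  · unfold Cfsg.commutingWidth
    symm
    apply IsGreatest.csSup_eq
    constructor
    · exact ⟨{d : G | d ∈ D ∧ d ∈ T}, fun x hx => hx.1, Set.toFinite _, fun a ha b hb => hcomm a ha b hb, rfl⟩
    · rintro n ⟨E, hED, -, hEc, rfl⟩
      -- closure E is a 2-group
      have hE2 : ∀ a ∈ Subgroup.closure E, a ^ 2 = 1 :=
        sq_closure E (fun a ha b hb => hEc a ha b hb) (fun a ha => hsq a (hED ha))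
      have hEp : IsPGroup 2 (Subgroup.closure E) := by
        intro x
        refine ⟨1, ?_⟩
        apply Subtype.ext
        simpa using hE2 x x.2
      obtain ⟨R, hR⟩ := hEp.exists_le_sylow
      obtain ⟨g, hg⟩ := MulAction.exists_smul_eq G R T
      -- map E into D ∩ T by conjugation by g
      have hmaps : Set.MapsTo (fun x => g * x * g⁻¹) E {d : G | d ∈ D ∧ d ∈ T} := by
        intro x hx
        refine ⟨hconj g x (hED hx), ?_⟩
        have hxR : x ∈ (R : Subgroup G) := hR (Subgroup.subset_closure hx)
        have h3 : MulAut.conj g • x ∈ ((g • R : Sylow 2 G) : Subgroup G) := by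
          rw [Sylow.coe_subgroup_smul]
          exact Subgroup.smul_mem_pointwise_smul _ _ _ hxR
        rw [hg] at h3
        have h4 : g * x * g⁻¹ ∈ (T : Subgroup G) := by
          simpa [MulAut.smul_def, MulAut.conj_apply] using h3
        exact h4
      have hinj : Set.InjOn (fun x => g * x * g⁻¹) E := by
        intro x _ y _ hxy
        exact mul_left_cancel (mul_right_cancel hxy)
      exact Set.ncard_le_ncard_of_injOn _ hmaps hinj (Set.toFinite _)

end Cfsg.Agent.S5345
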