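import Cfsg.Statements.S5350
import Cfsg.Agent.S0215
import Cfsg.Agent.Lib.Helper27.TTWClass

set_option autoImplicit false
open Cfsg

namespace Cfsg.Agent.S5350

open Cfsg.Agent.Lib.Helper27.TT Cfsg.Agent.Lib.Helper27.W1

/-- Let D be a conjugacy class of 3-transpositions generating the finite group G, with at least two members, and d a member of D. Then the set of members w of D whose commuting partners in D (other than w) are exactly those of d (other than d) coincides with the set of members of D lying in the coset of d modulo the largest normal 3-subgroup of G, and also with the orbit of d under conjugation by that normal 3-subgroup. -/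
theorem result {G : Type*} [Group G] [Finite G] {D : Set G} (hD : Cfsg.IsThreeTranspositionClass D) (hD2 : ∃ a ∈ D, ∃ b ∈ D, a ≠ b) {d : G} (hd : d ∈ D) : {w : G | w ∈ D ∧ {y : G | y ∈ D ∧ y ≠ d ∧ Commute d y} = {y : G | y ∈ D ∧ y ≠ w ∧ Commute w y}} = {w : G | w ∈ D ∧ d⁻¹ * w ∈ Cfsg.pCore 3 G} ∧ {w : G | w ∈ D ∧ {y : G | y ∈ D ∧ y ≠ d ∧ Commute d y} = {y : G | y ∈ D ∧ y ≠ w ∧ Commute w y}} = {w : G | ∃ g ∈ Cfsg.pCore 3 G, w = g * d * g⁻¹} := by
  have hZ : ZStarHyp := fun _ _ _ P t ht htP hiso => Cfsg.Agent.S0215.result P t ht htP hiso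
  have hc : ∀ g : G, ∀ d ∈ D, g * d * g⁻¹ ∈ D := fun g d hd => conj_mem_of_class hD g hd
  have hQn : (Cfsg.pCore 3 G).Normal := Cfsg.Agent.Lib.Helper16.pCore_normal
  have hA : {w : G | w ∈ D ∧ {y : G | y ∈ D ∧ y ≠ d ∧ Commute d y} = {y : G | y ∈ D ∧ y ≠ w ∧ Commute w y}} = {w : G | w ∈ D ∧ d⁻¹ * w ∈ Cfsg.pCore 3 G} := by
    ext w
    constructor
    · intro hw
      have h := (mem_W_iff hd).mp hw
      refine ⟨h.2.1, ?_⟩
      rw [inv_of_mem hD.1 hd]
      exact mul_mem_pCore_of_sameNbr hZ hD.1 hc h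
    · rintro ⟨hwD, hq⟩
      exact (mem_W_iff hd).mpr (sameNbr_of_mem_pCore hD.1 hd hwD hq)
  refine ⟨hA, ?_⟩
  rw [hA]
  ext w
  constructor
  · rintro ⟨hwD, hq⟩
    exact exists_conj_of_mem_pCore hD.1 hd hwD hq
  · rintro ⟨g, hg, rfl⟩
    refine ⟨hc g d hd, ?_⟩
    have e : d⁻¹ * (g * d * g⁻¹) = (d⁻¹ * g * d⁻¹⁻¹) * g⁻¹ := by group
    rw [e]
    exact Subgroup.mul_mem _ (hQn.conj_mem g hg d⁻¹) (Subgroup.inv_mem _ hg)

end Cfsg.Agent.S5350
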