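import Cfsg.Statements.S5355
import Cfsg.Agent.Lib.Helper27.TTPairs
import Cfsg.Agent.Lib.Helper27.LargeES
import Cfsg.Agent.Lib.Helper27.FusionSat
import Cfsg.Agent.Lib.Helper15.S4Rec
import Cfsg.Agent.Lib.Helper2.DihedralIso

set_option autoImplicit false
open Cfsg

namespace Cfsg.Agent.S5355

open Cfsg.Agent.Lib.Helper27.TT
open Cfsg.Agent.S5421 (fourGroup mem_fourGroup)

/-- Let D be a conjugacy class of 3-transpositions generating the finite group G, with at least two members, and d a member of D. Suppose that every member of D commuting with d commutes with exactly the same members of D as d does, and that exactly one member of D other than d commutes with d. Then G is isomorphic to the symmetric group of degree 4. -/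
theorem result {G : Type*} [Group G] [Finite G] {D : Set G} (hD : Cfsg.IsThreeTranspositionClass D) (hD2 : ∃ a ∈ D, ∃ b ∈ D, a ≠ b) {d : G} (hd : d ∈ D) (hV : {y : G | y ∈ D ∧ Commute d y} = {v : G | v ∈ D ∧ ∀ e ∈ D, Commute v e ↔ Commute d e}) (hm : {y : G | y ∈ D ∧ Commute d y}.ncard = 2) : Nonempty (G ≃* Equiv.Perm (Fin 4)) := by
  classical
  have hset : IsThreeTranspositionSet D := hD.1
  have hc : ∀ g : G, ∀ d ∈ D, g * d * g⁻¹ ∈ D := fun g x hx => conj_mem_of_class hD g hx
  have hP := exists_partner hD hd hV hm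
  obtain ⟨y, hy, hxy⟩ := exists_not_commute hD hD2 hd
  obtain ⟨x', hx'⟩ := hP d hd
  obtain ⟨y', hy'⟩ := hP y hy
  have hxx : d * d = 1 := mul_self_of_mem hset hd
  have hyy : y * y = 1 := mul_self_of_mem hset hy
  have hyi : y⁻¹ = y := inv_of_mem hset hy
  have hyx : ¬ Commute y d := fun h => hxy h.symm
  have hd1 : d ≠ 1 := ne_one_of_mem hset hd
  have hy1 : y ≠ 1 := ne_one_of_mem hset hy
  obtain ⟨tx, htx⟩ : ∃ t, t = d * x' := ⟨_, rfl⟩
  obtain ⟨ty, hty⟩ : ∃ t, t = y * y' := ⟨_, rfl⟩
  have hxx' : tx * tx = 1 := by rw [htx]; exact hx'.mul_self_mul hset hc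
  have htyy : ty * ty = 1 := by rw [hty]; exact hy'.mul_self_mul hset hc
  have htx1 : tx ≠ 1 := by rw [htx]; exact hx'.mul_ne_one hset hc
  have hty1 : ty ≠ 1 := by rw [hty]; exact hy'.mul_ne_one hset hc
  have hcomm : tx * ty = ty * tx := by
    rw [htx, hty]; exact partner_mul_commute hset hc hx' hy' hxy
  have F2 : d * ty * d = tx * ty := by
    rw [htx, hty]; exact conj_partner_mul hset hc hx' hy' hxy
  have F3 : y * tx * y = ty * tx := by
    rw [htx, hty]; exact conj_partner_mul hset hc hy' hx' hyx
  have F1 : d * tx = tx * d := by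
    rw [htx]
    calc d * (d * x') = d * (x' * d) := by rw [hx'.2.1.commute.eq]
      _ = d * x' * d := by group
  have F1' : y * ty = ty * y := by
    rw [hty]
    calc y * (y * y') = y * (y' * y) := by rw [hy'.2.1.commute.eq]
      _ = y * y' * y := by group
  have hne : tx ≠ ty := by
    intro h
    apply hty1
    have h1 : d * ty * d = 1 := by rw [F2, h, htyy]
    calc ty = (d * d) * ty * (d * d) := by rw [hxx, one_mul, mul_one]
      _ = d * (d * ty * d) * d := by group
      _ = 1 := by rw [h1, mul_one, hxx]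
  have mv : ∀ a t s : G, a * a = 1 → a * t * a = s → a * t = s * a := by
    intro a t s ha h
    calc a * t = (a * t * a) * a⁻¹ := by group
      _ = s * a := by rw [h, inv_eq_of_mul_eq_one_right ha]
  have F2' : d * ty = tx * ty * d := mv d ty (tx * ty) hxx F2
  have F3' : y * tx = ty * tx * y := mv y tx (ty * tx) hyy F3
  have Eu1 : (d * y) * tx = ty * (d * y) := by
    calc (d * y) * tx = d * (y * tx) := by group
      _ = d * (ty * tx * y) := by rw [F3']
      _ = (d * ty) * tx * y := by group
      _ = (tx * ty * d) * tx * y := by rw [F2']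
      _ = tx * ty * (d * tx) * y := by group
      _ = tx * ty * (tx * d) * y := by rw [F1]
      _ = tx * (ty * tx) * (d * y) := by group
      _ = tx * (tx * ty) * (d * y) := by rw [← hcomm]
      _ = (tx * tx) * ty * (d * y) := by group
      _ = ty * (d * y) := by rw [hxx', one_mul]
  have Eu2 : (d * y) * ty = (tx * ty) * (d * y) := by
    calc (d * y) * ty = d * (y * ty) := by group
      _ = d * (ty * y) := by rw [F1']
      _ = (d * ty) * y := by group
      _ = (tx * ty * d) * y := by rw [F2']
      _ = (tx * ty) * (d * y) := by group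
  -- the normal four-group
  obtain ⟨N, hN⟩ : ∃ N : Subgroup G, N = fourGroup tx ty hxx' htyy hcomm := ⟨_, rfl⟩
  have hNmem : ∀ g, g ∈ N ↔ g = 1 ∨ g = tx ∨ g = ty ∨ g = tx * ty := by
    intro g; rw [hN]; exact mem_fourGroup
  have hNcard : Nat.card N = 4 := by
    rw [hN]
    exact Cfsg.Agent.Lib.Helper27.LES.card_fourGroup hxx' htyy hcomm htx1 hty1 hne
  have htxN : tx ∈ N := (hNmem tx).mpr (Or.inr (Or.inl rfl))
  have htyN : ty ∈ N := (hNmem ty).mpr (Or.inr (Or.inr (Or.inl rfl)))
  have htxyN : tx * ty ∈ N := (hNmem _).mpr (Or.inr (Or.inr (Or.inr rfl)))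
  have hmemN : ∀ e e', Partner D e e' → e * e' ∈ N := by
    intro e e' hee'
    have heD := hee'.2.1.1
    have hyc : Partner D (y * d * y) (y * x' * y) := by
      have := hx'.conj hc y
      rwa [hyi] at this
    have e5 : (y * d * y) * (y * x' * y) = tx * ty := by
      calc (y * d * y) * (y * x' * y) = y * d * (y * y) * x' * y := by group
        _ = y * (d * x') * y := by rw [hyy]; group
        _ = tx * ty := by rw [← htx, F3, hcomm]
    rcases mem_six hset hc hP hx' hy' hxy heD with h | h | h | h | h | h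
    · rw [h] at hee' ⊢
      have h2 : e' = x' := hee'.unique hx'
      rw [h2, ← htx]
      exact htxN
    · rw [h] at hee' ⊢
      have h2 : e' = d := hee'.unique hx'.symm
      rw [h2, ← hx'.2.1.commute.eq, ← htx]
      exact htxN
    · rw [h] at hee' ⊢
      have h2 : e' = y' := hee'.unique hy'
      rw [h2, ← hty]
      exact htyN
    · rw [h] at hee' ⊢
      have h2 : e' = y := hee'.unique hy'.symm
      rw [h2, ← hy'.2.1.commute.eq, ← hty]
      exact htyN
    · rw [h] at hee' ⊢
      have h2 : e' = y * x' * y := hee'.unique hyc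
      rw [h2, e5]
      exact htxyN
    · rw [h] at hee' ⊢
      have h2 : e' = y * d * y := hee'.unique hyc.symm
      rw [h2, ← hyc.2.1.commute.eq, e5]
      exact htxyN
  have hconjT : ∀ e ∈ D, ∀ a a', Partner D a a' → a * a' ∈ N → e * (a * a') * e⁻¹ ∈ N := by
    intro e he a a' ha hta
    obtain ⟨e', he'⟩ := hP e he
    have hte := hmemN e e' he'
    have hei := inv_of_mem hset he
    by_cases hea : Commute e a
    · have hea' : Commute e a' := ((ha.2.1.2.2 e he).mp hea.symm).symm
      have h1 : e * (a * a') * e⁻¹ = a * a' := by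
        rw [(hea.mul_right hea').eq, mul_inv_cancel_right]
      rw [h1]; exact hta
    · rw [hei, conj_partner_mul hset hc he' ha hea]
      exact N.mul_mem hte hta
  have hconjN : ∀ e ∈ D, ∀ n ∈ N, e * n * e⁻¹ ∈ N := by
    intro e he n hn
    have c1 : e * tx * e⁻¹ ∈ N := by
      have := hconjT e he d x' hx' (by rw [← htx]; exact htxN)
      rwa [← htx] at this
    have c2 : e * ty * e⁻¹ ∈ N := by
      have := hconjT e he y y' hy' (by rw [← hty]; exact htyN)
      rwa [← hty] at this
    rcases (hNmem n).mp hn with h | h | h | h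
    · rw [h, mul_one, mul_inv_cancel]; exact N.one_mem
    · rw [h]; exact c1
    · rw [h]; exact c2
    · rw [h]
      have e1 : e * (tx * ty) * e⁻¹ = (e * tx * e⁻¹) * (e * ty * e⁻¹) := by group
      rw [e1]; exact N.mul_mem c1 c2
  have hNnorm : N.Normal := by
    rw [← Subgroup.normalizer_eq_top_iff, eq_top_iff, ← hD.2.2, Subgroup.closure_le]
    intro e he
    exact Cfsg.Agent.Lib.Helper27.mem_normalizer_of_conj_mem (hconjN e he)
  -- the complement
  obtain ⟨ι⟩ := Cfsg.Agent.Lib.Helper2.TwoInv.nonempty_mulEquiv_dihedral hxx hyy hd1 hy1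
  have hu3 : (d * y) ^ 3 = 1 := pow_three_of_not_commute hset hd hy hxy
  have hord : orderOf (d * y) = 3 := by
    have hdvd : orderOf (d * y) ∣ 3 := orderOf_dvd_of_pow_eq_one hu3
    rcases (Nat.dvd_prime Nat.prime_three).mp hdvd with h1 | h1
    · exfalso
      have h2 : d * y = 1 := orderOf_eq_one_iff.mp h1
      apply hxy
      have h3 : y = d⁻¹ := eq_inv_of_mul_eq_one_right h2
      rw [inv_of_mem hset hd] at h3
      rw [h3]
    · exact h1
  obtain ⟨K, hK⟩ : ∃ K : Subgroup G, K = Subgroup.closure ({d, y} : Set G) := ⟨_, rfl⟩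
  have hKcard : Nat.card K = 6 := by
    rw [hK, Nat.card_congr ι.toEquiv, DihedralGroup.nat_card, hord]
  have hdK : d ∈ K := by rw [hK]; exact Subgroup.subset_closure (by simp)
  have hyK : y ∈ K := by rw [hK]; exact Subgroup.subset_closure (by simp)
  have hKelts : ∀ g ∈ K, g = 1 ∨ g = d * y ∨ g = d * y * (d * y) ∨ g = d ∨ g = d * y * d ∨
      g = y := by
    intro g hg
    rw [hK, Cfsg.Agent.Lib.Helper2.TwoInv.mem_closure_iff hxx hyy] at hg
    rcases hg with ⟨k, hk⟩ | ⟨k, hk⟩
    · rcases Cfsg.Agent.Lib.Helper15.mem_zpowers_three (d * y) _ hu3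
        (Subgroup.zpow_mem_zpowers (d * y) k) with h | h | h
      · left; rw [hk, h]
      · right; left; rw [hk, h]
      · right; right; left; rw [hk, h]
    · rcases Cfsg.Agent.Lib.Helper15.mem_zpowers_three (d * y) _ hu3
        (Subgroup.zpow_mem_zpowers (d * y) k) with h | h | h
      · right; right; right; left; rw [hk, h, one_mul]
      · right; right; right; right; left; rw [hk, h]
      · right; right; right; right; right; rw [hk, h]
        calc d * y * (d * y) * d = d * (y * d * y) * d := by group
          _ = d * (d * y * d) * d := by rw [← braid hset hd hy hxy]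
          _ = (d * d) * y * (d * d) := by group
          _ = y := by rw [hxx, one_mul, mul_one]
  have hcentK : ∀ g ∈ K, g * tx = tx * g → g * ty = ty * g → g = 1 := by
    intro g hg h1 h2
    rcases hKelts g hg with h | h | h | h | h | h
    · exact h
    · exfalso
      rw [h, Eu1] at h1
      exact hne (mul_right_cancel h1).symm
    · exfalso
      rw [h] at h1
      have e : d * y * (d * y) * tx = (tx * ty) * (d * y * (d * y)) := by
        calc d * y * (d * y) * tx = (d * y) * ((d * y) * tx) := by group
          _ = (d * y) * (ty * (d * y)) := by rw [Eu1]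
          _ = ((d * y) * ty) * (d * y) := by group
          _ = (tx * ty) * (d * y) * (d * y) := by rw [Eu2]
          _ = (tx * ty) * (d * y * (d * y)) := by group
      rw [e] at h1
      have h3 := mul_right_cancel h1
      exact hty1 (mul_eq_left.mp h3)
    · exfalso
      rw [h, F2'] at h2
      have h3 := mul_right_cancel h2
      exact htx1 (mul_eq_right.mp h3)
    · exfalso
      rw [h] at h1
      have e : d * y * d * tx = ty * (d * y * d) := by
        calc d * y * d * tx = (d * y) * (d * tx) := by group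
          _ = (d * y) * (tx * d) := by rw [F1]
          _ = ((d * y) * tx) * d := by group
          _ = (ty * (d * y)) * d := by rw [Eu1]
          _ = ty * (d * y * d) := by group
      rw [e] at h1
      exact hne (mul_right_cancel h1).symm
    · exfalso
      rw [h, F3'] at h1
      have h3 := mul_right_cancel h1
      exact hty1 (mul_eq_right.mp h3)
  have hNc1 : ∀ g ∈ N, g * tx = tx * g := by
    intro g hg
    rcases (hNmem g).mp hg with h | h | h | h
    · rw [h, one_mul, mul_one]
    · rw [h]
    · rw [h]; exact hcomm.symm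
    · rw [h]
      calc tx * ty * tx = tx * (ty * tx) := by group
        _ = tx * (tx * ty) := by rw [← hcomm]
  have hNc2 : ∀ g ∈ N, g * ty = ty * g := by
    intro g hg
    rcases (hNmem g).mp hg with h | h | h | h
    · rw [h, one_mul, mul_one]
    · rw [h]; exact hcomm
    · rw [h]
    · rw [h]
      calc tx * ty * ty = (tx * ty) * ty := by group
        _ = (ty * tx) * ty := by rw [hcomm]
        _ = ty * (tx * ty) := by group
  have hKN : K ⊓ N = ⊥ := by
    rw [eq_bot_iff]
    rintro g ⟨hgK, hgN⟩
    rw [Subgroup.mem_bot]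
    exact hcentK g hgK (hNc1 g hgN) (hNc2 g hgN)
  have hsup : K ⊔ N = ⊤ := by
    rw [eq_top_iff, ← hD.2.2, Subgroup.closure_le]
    intro e he
    show e ∈ K ⊔ N
    have hKle : K ≤ K ⊔ N := le_sup_left
    have hNle : N ≤ K ⊔ N := le_sup_right
    have hx'mem : x' ∈ K ⊔ N := by
      have h1 : x' = d * tx := by rw [htx, ← mul_assoc, hxx, one_mul]
      rw [h1]; exact (K ⊔ N).mul_mem (hKle hdK) (hNle htxN)
    have hy'mem : y' ∈ K ⊔ N := by
      have h1 : y' = y * ty := by rw [hty, ← mul_assoc, hyy, one_mul]
      rw [h1]; exact (K ⊔ N).mul_mem (hKle hyK) (hNle htyN)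
    rcases mem_six hset hc hP hx' hy' hxy he with h | h | h | h | h | h
    · rw [h]; exact hKle hdK
    · rw [h]; exact hx'mem
    · rw [h]; exact hKle hyK
    · rw [h]; exact hy'mem
    · rw [h]; exact mul_mem (mul_mem (hKle hyK) (hKle hdK)) (hKle hyK)
    · rw [h]; exact mul_mem (mul_mem (hKle hyK) hx'mem) (hKle hyK)
  have hcardG : Nat.card G = 24 := by
    have hcompl : Subgroup.IsComplement' K N := by
      apply Subgroup.isComplement'_of_disjoint_and_mul_eq_univ
      · rw [disjoint_iff]; exact hKN
      · rw [← Subgroup.mul_normal K N, hsup]; rfl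
    have h1 := hcompl.card_mul_card
    rw [hKcard, hNcard] at h1
    omega
  have hcore : K.normalCore = ⊥ := by
    rw [eq_bot_iff]
    intro g hg
    rw [Subgroup.mem_bot]
    have hgK : g ∈ K := Subgroup.normalCore_le K hg
    have hcoreN : K.normalCore.Normal := Subgroup.normalCore_normal K
    have hcent : ∀ n ∈ N, g * n = n * g := by
      intro n hn
      have h1 : g * (n * g⁻¹ * n⁻¹) ∈ K.normalCore :=
        K.normalCore.mul_mem hg (hcoreN.conj_mem g⁻¹ (K.normalCore.inv_mem hg) n)
      have h2 : (g * n * g⁻¹) * n⁻¹ ∈ N := N.mul_mem (hNnorm.conj_mem n hn g) (N.inv_mem hn)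
      have h1' : g * n * g⁻¹ * n⁻¹ ∈ K := by
        have h4 := Subgroup.normalCore_le K h1
        have h5 : g * (n * g⁻¹ * n⁻¹) = g * n * g⁻¹ * n⁻¹ := by group
        rwa [h5] at h4
      have h3 : g * n * g⁻¹ * n⁻¹ ∈ K ⊓ N := ⟨h1', h2⟩
      rw [hKN, Subgroup.mem_bot] at h3
      calc g * n = (g * n * g⁻¹ * n⁻¹) * (n * g) := by group
        _ = n * g := by rw [h3, one_mul]
    exact hcentK g hgK (hcent tx htxN) (hcent ty htyN)
  exact Cfsg.Agent.Lib.Helper15.nonempty_mulEquiv_S4 hcardG K hKcard hcore

end Cfsg.Agent.S5355
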