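-- Statement S5358. The statement below is byte-identical to the frozen statement.
import Cfsg.Statements.S5358

set_option autoImplicit false
open Cfsg
open scoped MatrixGroups

namespace Cfsg.Agent.S5358

open Matrix in
theorem polarVec_dot (n : ℕ) (Q : QuadraticForm (ZMod 3) (Fin n → ZMod 3)) (u w : Fin n → ZMod 3) :
    Cfsg.polarVec (⇑Q) u ⬝ᵥ w = QuadraticMap.polar (⇑Q) u w := by
  have h := LinearMap.pi_apply_eq_sum_univ (QuadraticMap.polarBilin Q u) w
  have h' : QuadraticMap.polar (⇑Q) u w = ∑ i, w i • QuadraticMap.polar (⇑Q) u (fun j => if i = j then 1 else 0) := h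
  rw [h']
  unfold Cfsg.polarVec dotProduct
  apply Finset.sum_congr rfl
  intro i _
  show QuadraticMap.polar (⇑Q) u (Pi.single i 1) * w i = w i • QuadraticMap.polar (⇑Q) u (fun j => if i = j then 1 else 0)
  rw [smul_eq_mul, mul_comm]
  congr 2
  funext j
  simp [Pi.single_apply, eq_comm]

open Matrix in
/-- Let Q be a non-degenerate quadratic form on the n-dimensional coordinate space over the field with three elements and u, v vectors of the same non-zero norm Q(u) = Q(v) spanning different lines (v ≠ u and v ≠ −u). Then the reflection matrices of u and v commute if and only if u and v are orthogonal for the polar form of Q. -/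
theorem result (n : ℕ) (Q : QuadraticForm (ZMod 3) (Fin n → ZMod 3)) (hQ : (QuadraticMap.polarBilin Q).Nondegenerate) (u v : Fin n → ZMod 3) (hu : Q u ≠ 0) (huv : Q u = Q v) (h1 : v ≠ u) (h2 : v ≠ -u) : Commute (Cfsg.reflectionMatrix (⇑Q) u) (Cfsg.reflectionMatrix (⇑Q) v) ↔ QuadraticMap.polar (⇑Q) u v = 0 := by
  set a : ZMod 3 := (Q u)⁻¹ with ha
  have ha0 : a ≠ 0 := inv_ne_zero hu
  set pu := Cfsg.polarVec (⇑Q) u with hpu
  set pv := Cfsg.polarVec (⇑Q) v with hpv
  set B := QuadraticMap.polar (⇑Q) u v with hB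
  have hBsymm : QuadraticMap.polar (⇑Q) v u = B := QuadraticMap.polar_comm _ _ _
  have hRu : Cfsg.reflectionMatrix (⇑Q) u = 1 - a • vecMulVec u pu := rfl
  have hRv : Cfsg.reflectionMatrix (⇑Q) v = 1 - a • vecMulVec v pv := by
    unfold Cfsg.reflectionMatrix
    rw [← huv]
  have huv_mul : vecMulVec u pu * vecMulVec v pv = B • vecMulVec u pv := by
    rw [vecMulVec_mul_vecMulVec, hpu, polarVec_dot, vecMulVec_smul]
  have hvu_mul : vecMulVec v pv * vecMulVec u pu = B • vecMulVec v pu := by
    rw [vecMulVec_mul_vecMulVec, hpv, polarVec_dot, hBsymm, vecMulVec_smul]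
  -- the commutator identity
  have key : (1 - a • vecMulVec u pu) * (1 - a • vecMulVec v pv) - (1 - a • vecMulVec v pv) * (1 - a • vecMulVec u pu)
      = (a * a * B) • (vecMulVec u pv - vecMulVec v pu) := by
    simp only [sub_mul, mul_sub, one_mul, mul_one, Matrix.smul_mul, Matrix.mul_smul, huv_mul, hvu_mul, smul_smul, smul_sub]
    have e1 : a * (a * B) = a * a * B := by ring
    rw [e1]
    abel
  rw [hRu, hRv]
  constructor
  · intro hcomm
    have h0 : (a * a * B) • (vecMulVec u pv - vecMulVec v pu) = 0 := by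
      rw [← key, hcomm.eq, sub_self]
    by_contra hB0
    have hne : a * a * B ≠ 0 := mul_ne_zero (mul_ne_zero ha0 ha0) hB0
    have h3 : vecMulVec u pv - vecMulVec v pu = 0 := by
      rcases smul_eq_zero.mp h0 with h | h
      · exact absurd h hne
      · exact h
    have h4 : vecMulVec u pv = vecMulVec v pu := sub_eq_zero.mp h3
    -- apply to the vector u
    have h5 : vecMulVec u pv *ᵥ u = vecMulVec v pu *ᵥ u := by rw [h4]
    rw [vecMulVec_mulVec, vecMulVec_mulVec, hpv, hpu, polarVec_dot, polarVec_dot, hBsymm] at h5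
    have hpuu : QuadraticMap.polar (⇑Q) u u = 2 * Q u := by
      rw [QuadraticMap.polar_self]; simp
    rw [hpuu] at h5
    replace h5 : B • u = (2 * Q u) • v := by
      rw [op_smul_eq_smul, op_smul_eq_smul] at h5
      exact h5
    -- h5 : B • u = (2 * Q u) • v
    have h2Q : (2 * Q u : ZMod 3) ≠ 0 := mul_ne_zero (by decide) hu
    have h6 : v = ((2 * Q u)⁻¹ * B) • u := by
      rw [mul_smul, h5, smul_smul, inv_mul_cancel₀ h2Q, one_smul]
    set c : ZMod 3 := (2 * Q u)⁻¹ * B with hc
    have hc3 : ∀ x : ZMod 3, x = 0 ∨ x = 1 ∨ x = 2 := by decide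
    have hc3 := hc3 c
    rcases hc3 with h | h | h
    · rw [h, zero_smul] at h6
      apply hu
      rw [huv, h6, map_zero]
    · rw [h, one_smul] at h6
      exact h1 h6
    · apply h2
      rw [h6, h]
      have : (2 : ZMod 3) = -1 := by decide
      rw [this, neg_smul, one_smul]
  · intro hB0
    show _ * _ = _ * _
    have := key
    rw [hB0, mul_zero, zero_smul] at this
    exact sub_eq_zero.mp this

end Cfsg.Agent.S5358
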