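import Cfsg.Statements.S5361
import Cfsg.Agent.Lib.Helper27.TTPrimitive2

set_option autoImplicit false
open Cfsg

namespace Cfsg.Agent.S5361

open Cfsg.Agent.Lib.Helper27.TT

universe u

variable {G : Type u} [Group G] [Finite G] {D : Set G}

theorem prim_of_data (hD : Cfsg.IsThreeTranspositionClass D)
    (hw : ∃ a ∈ D, ∃ b ∈ D, a ≠ b ∧ Commute a b)
    (h2 : Cfsg.pCore 2 G ≤ Subgroup.center G) (h3 : Cfsg.pCore 3 G ≤ Subgroup.center G)
    (hconn : (Cfsg.commutingGraph D).Connected) : Cfsg.IsPrimitiveUnderConj D := by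
  obtain ⟨L, hLn, hL, hF⟩ := exists_quasisimple hD h2 h3 hw
  obtain ⟨a, ha, b, hb, hab, _⟩ := hw
  have c : Ctx D L := ⟨hD, ⟨a, ha, b, hb, hab⟩, h2, h3, hLn, hL, hF⟩
  exact c.primitive_of_index_le_two (c.index_le_two_of_connected hconn)

theorem simple_of_prim (hD : Cfsg.IsThreeTranspositionClass D) (hZ : Subgroup.center G = ⊥)
    (hw : ∃ a ∈ D, ∃ b ∈ D, a ≠ b ∧ Commute a b) (hprim : Cfsg.IsPrimitiveUnderConj D) :
    IsSimpleGroup (commutator G) := by
  have h2 := pCore_le_center_of_primitive hD hprim hw (p := 2) (Or.inl rfl)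
  have h3 := pCore_le_center_of_primitive hD hprim hw (p := 3) (Or.inr rfl)
  have hconn := connected_of_primitive hD hprim hw
  obtain ⟨L, hLn, hL, hF⟩ := exists_quasisimple hD h2 h3 hw
  have hD2 : ∃ a ∈ D, ∃ b ∈ D, a ≠ b := by
    obtain ⟨a, ha, b, hb, hab, _⟩ := hw
    exact ⟨a, ha, b, hb, hab⟩
  have c : Ctx D L := ⟨hD, hD2, h2, h3, hLn, hL, hF⟩
  have hidx := c.index_le_two_of_connected hconn
  -- the commutator subgroup is `L`
  have hcomm : commutator G = L := by
    apply le_antisymm
    · have hidx0 : L.index ≠ 0 := Subgroup.index_ne_zero_of_finite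
      have hdvd : L.index ∣ 2 := by
        have : L.index = 1 ∨ L.index = 2 := by omega
        rcases this with h | h <;> rw [h] <;> norm_num
      have h1 : Nat.card (G ⧸ L) ∣ 2 := by rw [← Subgroup.index_eq_card]; exact hdvd
      have : Fact (Nat.Prime 2) := ⟨Nat.prime_two⟩
      have : IsCyclic (G ⧸ L) := isCyclic_of_card_dvd_prime (p := 2) h1
      let _ : CommGroup (G ⧸ L) := IsCyclic.commGroup
      have h4 := Abelianization.commutator_subset_ker (QuotientGroup.mk' L)
      rw [QuotientGroup.ker_mk'] at h4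
      exact h4
    · rw [commutator_def, ← Cfsg.Agent.Lib.Helper17.commutator_self_of_isQuasisimple hL]
      exact Subgroup.commutator_mono le_top le_top
  -- `L` has trivial centre, so it is simple
  have hcenter : Subgroup.center ↥L = ⊥ := by
    rw [eq_bot_iff]
    intro x hx
    rw [Subgroup.mem_bot]
    have hxC : (x : G) ∈ Subgroup.centralizer (L : Set G) := by
      rw [Subgroup.mem_centralizer_iff]
      intro y hy
      have := Subgroup.mem_center_iff.mp hx ⟨y, hy⟩
      exact congrArg Subtype.val this
    have h5 := c.centralizer_le_center hxC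
    rw [hZ, Subgroup.mem_bot] at h5
    exact Subtype.ext h5
  have hs : IsSimpleGroup (↥L ⧸ Subgroup.center ↥L) := hL.2
  have e : ↥L ≃* ↥L ⧸ Subgroup.center ↥L :=
    ((QuotientGroup.quotientMulEquivOfEq hcenter).trans QuotientGroup.quotientBot).symm
  have hLs : IsSimpleGroup ↥L := e.isSimpleGroup
  rw [hcomm]
  exact hLs

theorem prim_of_simple (hD : Cfsg.IsThreeTranspositionClass D) 
    (hw : ∃ a ∈ D, ∃ b ∈ D, a ≠ b ∧ Commute a b) (hs : IsSimpleGroup (commutator G)) :
    Cfsg.IsPrimitiveUnderConj D := by
  have hD3 := hD.1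
  have hD2 : ∃ a ∈ D, ∃ b ∈ D, a ≠ b := by
    obtain ⟨a, ha, b, hb, hab, _⟩ := hw
    exact ⟨a, ha, b, hb, hab⟩
  have htop : ∀ a ∈ D, commutator G ⊔ Subgroup.zpowers a = ⊤ := by
    intro a ha
    rw [eq_top_iff, ← hD.2.2, Subgroup.closure_le]
    intro e he
    obtain ⟨g, hg⟩ := class_trans hD a ha e he
    have h1 : e = (g * a * g⁻¹ * a⁻¹) * a := by
      rw [← hg]; group
    rw [SetLike.mem_coe, h1]
    apply Subgroup.mul_mem _ (Subgroup.mem_sup_left ?_)
      (Subgroup.mem_sup_right (Subgroup.mem_zpowers a))
    rw [commutator_def]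
    have := Subgroup.commutator_mem_commutator (Subgroup.mem_top g) (Subgroup.mem_top a)
    rw [commutatorElement_def] at this
    exact this
  have hidx : (commutator G).index ∣ 2 := by
    obtain ⟨a, ha, -⟩ := hD2
    have h1 : (commutator G).relIndex (commutator G ⊔ Subgroup.zpowers a) *
        (commutator G ⊔ Subgroup.zpowers a).index = (commutator G).index :=
      Subgroup.relIndex_mul_index le_sup_left
    rw [htop a ha, Subgroup.index_top, mul_one, ← htop a ha, Subgroup.relIndex_sup_left] at h1
    rw [← h1]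
    have h2 : (commutator G).relIndex (Subgroup.zpowers a) ∣ Nat.card (Subgroup.zpowers a) :=
      Subgroup.relIndex_dvd_card _ _
    rw [Nat.card_zpowers, hD3.1 a ha] at h2
    exact h2
  apply primitive_of_minimal hD hD2 (commutator G) ?_ htop
  intro N hN hNc
  have hsub : (N.subgroupOf (commutator G)).Normal := hN.subgroupOf _
  rcases hs.eq_bot_or_eq_top_of_normal _ hsub with h | h
  · exfalso
    apply hNc
    rw [Subgroup.subgroupOf_eq_bot] at h
    have hinf : commutator G ⊓ N = ⊥ := by
      rw [inf_comm]; exact disjoint_iff.mp h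
    have hcard : Nat.card N ∣ 2 := by
      have h1 : (commutator G ⊓ N).relIndex N = (commutator G).relIndex N :=
        Subgroup.inf_relIndex_right _ _
      rw [hinf, Subgroup.relIndex_bot_left] at h1
      rw [h1]
      exact (Subgroup.relIndex_dvd_index_of_normal _ _).trans hidx
    -- a normal subgroup of order at most 2 is central
    intro n hn
    rw [Subgroup.mem_center_iff]
    intro g
    by_cases hn1 : n = 1
    · rw [hn1, mul_one, one_mul]
    have ho : orderOf n = 2 := by
      have h1 : orderOf n ∣ 2 := by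
        have := orderOf_dvd_natCard (⟨n, hn⟩ : N)
        rw [Subgroup.orderOf_mk] at this
        exact this.trans hcard
      rcases (Nat.dvd_prime Nat.prime_two).mp h1 with h2 | h2
      · exact absurd (orderOf_eq_one_iff.mp h2) hn1
      · exact h2
    have hcard2 : Nat.card N = 2 := by
      rcases (Nat.dvd_prime Nat.prime_two).mp hcard with h2 | h2
      · exfalso
        have := Subgroup.card_eq_one.mp h2
        rw [this, Subgroup.mem_bot] at hn
        exact hn1 hn
      · exact h2
    have hzp : Subgroup.zpowers n = N := by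
      apply Subgroup.eq_of_le_of_card_ge
      · rw [Subgroup.zpowers_le]; exact hn
      · rw [Nat.card_zpowers, ho, hcard2]
    have hm : g * n * g⁻¹ ∈ Subgroup.zpowers n := by
      rw [hzp]; exact hN.conj_mem n hn g
    obtain ⟨k, hk⟩ := Subgroup.mem_zpowers_iff.mp hm
    have hn2 : n ^ (2 : ℤ) = 1 := by
      rw [zpow_ofNat, ← ho]; exact pow_orderOf_eq_one n
    rcases Int.emod_two_eq_zero_or_one k with hk2 | hk2
    · exfalso
      have : n ^ k = 1 := by
        rw [← Int.mul_ediv_add_emod k 2, hk2, add_zero, zpow_mul, hn2, one_zpow]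
      rw [this] at hk
      have : n = 1 := by
        have h3 : g * n * g⁻¹ = 1 := hk.symm
        have h4 : n = g⁻¹ * (g * n * g⁻¹) * g := by group
        rw [h4, h3]; group
      exact hn1 this
    · have : n ^ k = n := by
        rw [← Int.mul_ediv_add_emod k 2, hk2, zpow_add, zpow_mul, hn2, one_zpow, one_mul,
          zpow_one]
      rw [this] at hk
      calc g * n = (g * n * g⁻¹) * g := by group
        _ = n * g := by rw [← hk]
  · exact Subgroup.subgroupOf_eq_top.mp h

/-- Let D be a conjugacy class of 3-transpositions generating the finite group G, and suppose the centre of G is trivial and some two different members of D commute. Then the following are equivalent: (1) the commutator subgroup of G is simple (possibly of prime order); (2) G acts primitively on D by conjugation; (3) the largest normal 2-subgroup and the largest normal 3-subgroup of G are trivial and the commuting graph of D is connected. -/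
theorem result {G : Type*} [Group G] [Finite G] {D : Set G} (hD : Cfsg.IsThreeTranspositionClass D) (hZ : Subgroup.center G = ⊥) (hw : ∃ a ∈ D, ∃ b ∈ D, a ≠ b ∧ Commute a b) : (IsSimpleGroup (commutator G) ↔ Cfsg.IsPrimitiveUnderConj D) ∧ (Cfsg.IsPrimitiveUnderConj D ↔ (Cfsg.pCore 2 G = ⊥ ∧ Cfsg.pCore 3 G = ⊥ ∧ (Cfsg.commutingGraph D).Connected)) := by
  refine ⟨⟨fun hs => prim_of_simple hD hw hs, fun hp => simple_of_prim hD hZ hw hp⟩, ?_, ?_⟩
  · intro hprim
    have h2 := pCore_le_center_of_primitive hD hprim hw (p := 2) (Or.inl rfl)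
    have h3 := pCore_le_center_of_primitive hD hprim hw (p := 3) (Or.inr rfl)
    rw [hZ, le_bot_iff] at h2 h3
    exact ⟨h2, h3, connected_of_primitive hD hprim hw⟩
  · rintro ⟨h2, h3, hconn⟩
    exact prim_of_data hD hw (by rw [h2]; exact bot_le) (by rw [h3]; exact bot_le) hconn

end Cfsg.Agent.S5361
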