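-- Statement S5363. The statement below is byte-identical to the frozen statement.
import Cfsg.Statements.S5363

set_option autoImplicit false
open Cfsg

namespace Cfsg.Agent.S5363

theorem odd_pow_of_sq {G : Type*} [Group G] (t : G) (ht : t ^ 2 = 1) (m : ℕ) (hm : Odd m) : t ^ m = t := by
  obtain ⟨j, rfl⟩ := hm
  rw [pow_succ, pow_mul, ht, one_pow, one_mul]

theorem comm_of_sq {G : Type*} [Group G] (a b : G) (ha : a * a = 1) (hb : b * b = 1)
    (hab : (a * b) ^ 2 = 1) : a * b = b * a := by
  have hainv : a⁻¹ = a := inv_eq_of_mul_eq_one_right ha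
  have hbinv : b⁻¹ = b := inv_eq_of_mul_eq_one_right hb
  have h4 : a * b * (a * b) = 1 := by rw [← sq]; exact hab
  have h5 : a * b = (a * b)⁻¹ := eq_inv_of_mul_eq_one_left h4
  rw [h5, mul_inv_rev, hainv, hbinv]

/-- Let D be a conjugation-invariant set of involutions of a finite group G. Then every product of two members of D has odd order or order 2 if and only if, for every a in D and every b in D different from a and commuting with a, the members of D commuting with a b are exactly those commuting with both a and b. -/
theorem result {G : Type*} [Group G] [Finite G] {D : Set G} (hinv : ∀ d ∈ D, orderOf d = 2) (hconj : ∀ g : G, ∀ d ∈ D, g * d * g⁻¹ ∈ D) : (∀ a ∈ D, ∀ b ∈ D, Odd (orderOf (a * b)) ∨ orderOf (a * b) = 2) ↔ ∀ a ∈ D, ∀ b ∈ D, b ≠ a → Commute a b → {y : G | y ∈ D ∧ Commute (a * b) y} = {y : G | y ∈ D ∧ Commute a y} ∩ {y : G | y ∈ D ∧ Commute b y} := by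
  have hsq : ∀ x ∈ D, x * x = 1 := by
    intro x hx
    rw [← sq, ← hinv x hx]; exact pow_orderOf_eq_one x
  have hinv' : ∀ x ∈ D, x⁻¹ = x := fun x hx => inv_eq_of_mul_eq_one_right (hsq x hx)
  constructor
  · intro h a ha b hb hba hab
    ext y
    constructor
    · rintro ⟨hy, hty⟩
      set t := a * b with ht
      have ht1 : t ≠ 1 := by
        intro h1
        apply hba
        have : b = a⁻¹ := eq_inv_of_mul_eq_one_right h1
        rw [this, hinv' a ha]
      have ht2 : t ^ 2 = 1 := by
        rw [ht, hab.mul_pow, sq, sq, hsq a ha, hsq b hb, one_mul]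
      have hta : Commute t a := by
        rw [ht]; exact (Commute.mul_left (Commute.refl a) hab.symm)
      have hbat : b = a * t := by rw [ht, ← mul_assoc, hsq a ha, one_mul]
      have habt : a = b * t := by rw [ht, hab.eq, ← mul_assoc, hsq b hb, one_mul]
      -- t commutes with a * y
      have htay : Commute t (a * y) := hta.mul_right hty
      have key : Commute a y ∨ Commute b y := by
        rcases h a ha y hy with hodd | h2
        · rcases h b hb y hy with hodd' | h2'
          · exfalso
            set n := orderOf (a * y)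
            set m := orderOf (b * y)
            have hby : b * y = t * (a * y) := by
              rw [hbat, hta.symm.eq]; group
            have h1 : (b * y) ^ m = 1 := pow_orderOf_eq_one _
            rw [hby, htay.mul_pow, odd_pow_of_sq t ht2 m hodd'] at h1
            have h2 : (a * y) ^ m = t := by
              have : (a * y) ^ m = t⁻¹ := eq_inv_of_mul_eq_one_right h1
              rw [this]
              exact inv_eq_of_mul_eq_one_right (by rw [← sq]; exact ht2)
            have h3 : t ^ n = 1 := by
              rw [← h2, ← pow_mul, mul_comm, pow_mul, pow_orderOf_eq_one, one_pow]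
            rw [odd_pow_of_sq t ht2 n hodd] at h3
            exact ht1 h3
          · right
            have : (b * y) ^ 2 = 1 := by rw [← h2']; exact pow_orderOf_eq_one _
            exact comm_of_sq b y (hsq b hb) (hsq y hy) this
        · left
          have : (a * y) ^ 2 = 1 := by rw [← h2]; exact pow_orderOf_eq_one _
          exact comm_of_sq a y (hsq a ha) (hsq y hy) this
      rcases key with hay | hby
      · refine ⟨⟨hy, hay⟩, ⟨hy, ?_⟩⟩
        rw [hbat]; exact hay.mul_left hty
      · refine ⟨⟨hy, ?_⟩, ⟨hy, hby⟩⟩
        rw [habt]; exact hby.mul_left hty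
    · rintro ⟨⟨hy, hay⟩, ⟨-, hby⟩⟩
      exact ⟨hy, hay.mul_left hby⟩
  · intro h a ha b hb
    set r := a * b with hr
    set n := orderOf r with hn
    have hnpos : 0 < n := orderOf_pos r
    rcases Nat.even_or_odd n with heven | hodd
    swap
    · exact Or.inl hodd
    right
    obtain ⟨k, hk⟩ := heven
    have hk' : n = 2 * k := by omega
    have hkpos : 0 < k := by omega
    set z := r ^ k with hz
    have hz1 : z ≠ 1 := by
      intro h1
      have : n ∣ k := orderOf_dvd_of_pow_eq_one h1
      have := Nat.le_of_dvd hkpos this
      omega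
    have hz2 : z * z = 1 := by
      rw [hz, ← pow_add, ← two_mul, ← hk', hn]; exact pow_orderOf_eq_one r
    have hzinv : z⁻¹ = z := inv_eq_of_mul_eq_one_right hz2
    -- a r a⁻¹ = r⁻¹
    have hara : a * r * a⁻¹ = r⁻¹ := by
      rw [hr, mul_inv_rev, hinv' a ha, hinv' b hb]
      calc a * (a * b) * a = (a * a) * b * a := by group
        _ = b * a := by rw [hsq a ha, one_mul]
    have hbrb : b * r * b⁻¹ = r⁻¹ := by
      rw [hr, mul_inv_rev, hinv' a ha, hinv' b hb]
      calc b * (a * b) * b = b * a * (b * b) := by group
        _ = b * a := by rw [hsq b hb, mul_one]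
    have harj : ∀ j : ℕ, a * r ^ j * a⁻¹ = (r ^ j)⁻¹ := by
      intro j; rw [← conj_pow, hara, inv_pow]
    have hbrj : ∀ j : ℕ, b * r ^ j * b⁻¹ = (r ^ j)⁻¹ := by
      intro j; rw [← conj_pow, hbrb, inv_pow]
    have haz : Commute a z := by
      have := harj k
      rw [← hz, hzinv] at this
      show a * z = z * a
      calc a * z = (a * z * a⁻¹) * a := by group
        _ = z * a := by rw [this]
    have hbz : Commute b z := by
      have := hbrj k
      rw [← hz, hzinv] at this
      show b * z = z * b
      calc b * z = (b * z * b⁻¹) * b := by group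
        _ = z * b := by rw [this]
    -- a * z ∈ D
    have hazD : a * z ∈ D := by
      rcases Nat.even_or_odd k with ⟨j, hj⟩ | ⟨j, hj⟩
      · -- k = j + j
        have : a * z = (r ^ j)⁻¹ * a * ((r ^ j)⁻¹)⁻¹ := by
          rw [inv_inv, hz, hj, pow_add]
          have h1 := harj j
          have h2 : (r ^ j)⁻¹ * a = a * r ^ j := by
            rw [← h1]; group
          rw [h2]; group
        rw [this]
        exact hconj _ a ha
      · -- k = 2 j + 1
        have : a * z = (r ^ j)⁻¹ * b * ((r ^ j)⁻¹)⁻¹ := by
          rw [inv_inv, hz, hj]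
          have h1 := harj j
          have h2 : (r ^ j)⁻¹ * a = a * r ^ j := by
            rw [← h1]; group
          have h3 : b = a * r := by rw [hr, ← mul_assoc, hsq a ha, one_mul]
          have h4 : (r ^ j)⁻¹ * b * r ^ j = a * r ^ j * r * r ^ j := by
            rw [h3, ← mul_assoc, h2]
          rw [h4, pow_succ, two_mul, pow_add]
          group
        rw [this]
        exact hconj _ b hb
    have hne : a * z ≠ a := by
      intro h1
      apply hz1
      have := mul_left_cancel (h1.trans (mul_one a).symm)
      exact this
    have hcomm : Commute a (a * z) := (Commute.refl a).mul_right haz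
    have hset := h a ha (a * z) hazD hne hcomm
    have hprod : a * (a * z) = z := by rw [← mul_assoc, hsq a ha, one_mul]
    have hb_mem : b ∈ {y : G | y ∈ D ∧ Commute (a * (a * z)) y} := by
      refine ⟨hb, ?_⟩
      rw [hprod]; exact hbz.symm
    rw [hset] at hb_mem
    have hab : Commute a b := hb_mem.1.2
    have h2 : r ^ 2 = 1 := by
      rw [hr, hab.mul_pow, sq, sq, hsq a ha, hsq b hb, one_mul]
    have hdvd : n ∣ 2 := orderOf_dvd_of_pow_eq_one h2
    have hle : n ≤ 2 := Nat.le_of_dvd (by norm_num) hdvd
    omega

end Cfsg.Agent.S5363
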