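import Cfsg.Statements.S5366
import Cfsg.Agent.Lib.Helper27.FischerModels

set_option autoImplicit false
open Cfsg

namespace Cfsg.Agent.S5366

open Cfsg.LineSystem Cfsg.Agent.Lib.Helper27.FS

theorem perm_sq {X : Type*} {L : Set (Set X)} (hL : IsFischerSpace L) {x : X}
    {σ : Equiv.Perm X} (hσ : ⇑σ = lineMap L x) : σ * σ = 1 := by
  ext y
  rw [Equiv.Perm.mul_apply, hσ, lineMap_invol hL.1 hL.2.1]
  rfl

theorem perm_eq {X : Type*} {L : Set (Set X)} {x : X} {σ τ : Equiv.Perm X}
    (hσ : ⇑σ = lineMap L x) (hτ : ⇑τ = lineMap L x) : σ = τ := by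
  ext y
  rw [hσ, hτ]

theorem exists_perm {X : Type*} {L : Set (Set X)} (hL : IsFischerSpace L) (x : X) :
    ∃ σ : Equiv.Perm X, ⇑σ = lineMap L x :=
  ⟨⟨lineMap L x, lineMap L x, lineMap_invol hL.1 hL.2.1 x, lineMap_invol hL.1 hL.2.1 x⟩, rfl⟩

theorem perm_ne_one {X : Type*} {L : Set (Set X)} (hL : IsFischerSpace L)
    (hnd : IsNondegenerate L) {x : X} {σ : Equiv.Perm X} (hσ : ⇑σ = lineMap L x) : σ ≠ 1 := by
  obtain ⟨l, hl, hxl⟩ := hnd x
  obtain ⟨a, b, c, hab, hac, hbc, hleq⟩ := Set.ncard_eq_three.mp (hL.2.1 l hl)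
  have hal : a ∈ l := by rw [hleq]; exact Or.inl rfl
  have hbl : b ∈ l := by rw [hleq]; exact Or.inr (Or.inl rfl)
  obtain ⟨y, hyl, hxy⟩ : ∃ y ∈ l, x ≠ y := by
    by_cases h : x = a
    · exact ⟨b, hbl, by rw [h]; exact hab⟩
    · exact ⟨a, hal, h⟩
  obtain ⟨z, hz, -⟩ := exists_third_of_mem hL.2.1 hl hxl hyl hxy
  intro h1
  have h2 : σ y = y := by rw [h1]; rfl
  rw [hσ, lineMap_of_third hL.1 hL.2.1 hz] at h2
  exact hz.2.2.1 h2.symm

theorem perm_order {X : Type*} {L : Set (Set X)} (hL : IsFischerSpace L)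
    (hnd : IsNondegenerate L) {x : X} {σ : Equiv.Perm X} (hσ : ⇑σ = lineMap L x) :
    orderOf σ = 2 := by
  apply orderOf_eq_prime
  · rw [pow_two]
    exact perm_sq hL hσ
  · exact perm_ne_one hL hnd hσ

theorem perm_iso {X : Type*} {L : Set (Set X)} (hL : IsFischerSpace L) {x : X}
    {σ : Equiv.Perm X} (hσ : ⇑σ = lineMap L x) : IsIso L L σ := by
  intro l
  rw [hσ]
  constructor
  · intro hl
    exact image_line hL x hl
  · intro hl
    have h2 := image_line hL x hl
    rw [Set.image_image] at h2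
    have e : (fun y => lineMap L x (lineMap L x y)) '' l = l := by
      have : (fun y => lineMap L x (lineMap L x y)) = id := by
        funext y
        exact lineMap_invol hL.1 hL.2.1 x y
      rw [this, Set.image_id]
    rw [e] at h2
    exact h2

/-- `t(x) t(y) t(x) = t(t(x) y)`. -/
theorem perm_conj {X : Type*} {L : Set (Set X)} (hL : IsFischerSpace L) {x y : X}
    {σ τ ρ : Equiv.Perm X} (hσ : ⇑σ = lineMap L x) (hτ : ⇑τ = lineMap L y)
    (hρ : ⇑ρ = lineMap L (lineMap L x y)) : σ * τ * σ = ρ := by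
  ext v
  rw [Equiv.Perm.mul_apply, Equiv.Perm.mul_apply, hσ, hτ, hρ]
  have h := lineMap_conj hL x y (lineMap L x v)
  rw [lineMap_invol hL.1 hL.2.1] at h
  exact h.symm

/-- Let L be a nondegenerate Fischer space on the point type X (every point on a line). Then for every point x the map t(x) — sending a point collinear with x to the third point of their common line and fixing every other point — is a permutation of X of order 2 and an automorphism of the line system; and the set of all t(x) satisfies the 3-transposition order conditions in the permutation group of X (any two have product of order at most 3). -/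
theorem result {X : Type*} (L : Set (Set X)) (hL : Cfsg.IsFischerSpace L) (hnd : Cfsg.LineSystem.IsNondegenerate L) : (∀ x : X, ∃ σ : Equiv.Perm X, ⇑σ = Cfsg.LineSystem.lineMap L x ∧ orderOf σ = 2 ∧ Cfsg.LineSystem.IsIso L L σ) ∧ Cfsg.IsThreeTranspositionSet {σ : Equiv.Perm X | ∃ x : X, ⇑σ = Cfsg.LineSystem.lineMap L x} := by
  refine ⟨?_, ?_, ?_⟩
  · intro x
    obtain ⟨σ, hσ⟩ := exists_perm hL x
    exact ⟨σ, hσ, perm_order hL hnd hσ, perm_iso hL hσ⟩
  · rintro σ ⟨x, hσ⟩
    exact perm_order hL hnd hσ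
  · rintro σ ⟨x, hσ⟩ τ ⟨y, hτ⟩
    obtain ⟨ρ, hρ⟩ := exists_perm hL (lineMap L x y)
    have hc1 := perm_conj hL hσ hτ hρ
    have hσσ := perm_sq hL hσ
    have hττ := perm_sq hL hτ
    have hρρ := perm_sq hL hρ
    by_cases h : ∃ z, Third L x y z
    · right
      obtain ⟨z, hz⟩ := h
      have e1 : lineMap L x y = z := lineMap_of_third hL.1 hL.2.1 hz
      have e2 : lineMap L y x = z := lineMap_of_third hL.1 hL.2.1 hz.swap12
      have hρ' : ⇑ρ = lineMap L (lineMap L y x) := by rw [e2, ← e1]; exact hρ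
      have hc2 := perm_conj hL hτ hσ hρ'
      rw [pow_three]
      calc σ * τ * (σ * τ * (σ * τ)) = (σ * τ * σ) * (τ * σ * τ) := by simp only [mul_assoc]
        _ = ρ * ρ := by rw [hc1, hc2]
        _ = 1 := hρρ
    · left
      have e1 : lineMap L x y = y := lineMap_of_not h
      have hρτ : ρ = τ := by
        rw [e1] at hρ
        exact perm_eq hρ hτ
      rw [hρτ] at hc1
      rw [pow_two]
      calc σ * τ * (σ * τ) = (σ * τ * σ) * τ := by simp only [mul_assoc]
        _ = τ * τ := by rw [hc1]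
        _ = 1 := hττ

end Cfsg.Agent.S5366
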