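import Cfsg.Statements.S5367
import Cfsg.Agent.Lib.Helper27.TTPlaneDual
import Cfsg.Agent.Lib.Helper27.TTPlaneAffine

set_option autoImplicit false
open Cfsg

namespace Cfsg.Agent.S5367

open Cfsg.LineSystem Cfsg.Agent.Lib.Helper27.TT in
theorem plane_main {G : Type*} [Group G] {D : Set G} (hD : IsThreeTranspositionSet D)
    (hc : ∀ g : G, ∀ d ∈ D, g * d * g⁻¹ ∈ D) {l m : Set D}
    (hl : l ∈ threeTranspositionLines D) (hm : m ∈ threeTranspositionLines D) (hlm : l ≠ m)
    (hne : (l ∩ m).Nonempty) :
    Isomorphic (restrict (threeTranspositionLines D)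
        (span (threeTranspositionLines D) (l ∪ m))) dualAffinePlaneTwo ∨
      Isomorphic (restrict (threeTranspositionLines D)
        (span (threeTranspositionLines D) (l ∪ m))) affinePlaneThree := by
  obtain ⟨P, hPl, hPm⟩ := hne
  obtain ⟨b, hb, hpb, rfl⟩ := exists_other hD hc hl hPl
  obtain ⟨c, hcD, hpc, rfl⟩ := exists_other hD hc hm hPm
  have hp : (P : G) ∈ D := P.2
  have hcb : c ≠ b := by
    intro h
    apply hlm
    rw [h]
  have hcb' : c ≠ (P : G) * b * (P : G) := by
    intro h
    apply hlm
    rw [h, lineOf_rot hD hp b]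
  by_cases h1 : Commute b c
  · exact Or.inl (dual_iso hD hc hp hb hcD hpb hpc h1 hcb)
  by_cases h2 : Commute b ((P : G) * c * (P : G))
  · left
    have hc' : (P : G) * c * (P : G) ∈ D := T_mem hD hc hp hcD
    have hpc' : ¬ Commute (P : G) ((P : G) * c * (P : G)) := not_commute_T hD hp hpc
    have hc'b : (P : G) * c * (P : G) ≠ b := by
      intro h
      apply hcb'
      rw [← h, T_T hD hp c]
    have h3 := dual_iso hD hc hp hb hc' hpb hpc' h2 hc'b
    rw [lineOf_rot hD hp c] at h3
    exact h3
  · exact Or.inr (affine_iso hD hc hp hb hcD hpb hpc h1 h2)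

/-- Let D be a conjugation-invariant generating set of 3-transpositions of a finite group G. Then the line system on D whose lines are the triples {x, y, y x y⁻¹} for non-commuting members x, y of D is a Fischer space: two points lie on at most one line, lines have three points, and two different meeting lines generate a subspace isomorphic to the dual affine plane of order two or to the affine plane of order three. -/
theorem result {G : Type*} [Group G] [Finite G] {D : Set G} (hD : Cfsg.IsThreeTranspositionGroup D) : Cfsg.IsFischerSpace (Cfsg.threeTranspositionLines D) := by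
  obtain ⟨hD3, hconj, -⟩ := hD
  refine ⟨Cfsg.Agent.Lib.Helper27.TT.isPartialLinear hD3 hconj,
    fun l hl => Cfsg.Agent.Lib.Helper27.TT.ncard_line hD3 hconj hl, ?_⟩
  intro l hl m hm hlm hne
  exact plane_main hD3 hconj hl hm hlm hne

end Cfsg.Agent.S5367
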