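import Cfsg.Statements.S5387
import Cfsg.Agent.Lib.Helper3.L34Uniq

set_option autoImplicit false
open Cfsg

namespace Cfsg.Agent.S5387

/-- Up to isomorphism there is at most one quasisimple group whose centre is elementary abelian of order 4 and whose central quotient is isomorphic to the projective special linear group of dimension 3 over the field with four elements: any two such groups are isomorphic. -/
theorem result {L₁ L₂ : Type*} [Group L₁] [Finite L₁] [Group L₂] [Finite L₂] (F : Type) [Field F] [Fintype F] (hF : Fintype.card F = 4) (h₁ : Cfsg.IsQuasisimple L₁) (h₂ : Cfsg.IsQuasisimple L₂) (hc₁ : Nat.card (Subgroup.center L₁) = 4) (hc₂ : Nat.card (Subgroup.center L₂) = 4) (he₁ : ∀ x ∈ Subgroup.center L₁, x * x = 1) (he₂ : ∀ x ∈ Subgroup.center L₂, x * x = 1) (e₁ : L₁ ⧸ Subgroup.center L₁ ≃* Matrix.ProjectiveSpecialLinearGroup (Fin 3) F) (e₂ : L₂ ⧸ Subgroup.center L₂ ≃* Matrix.ProjectiveSpecialLinearGroup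 (Fin 3) F) : Nonempty (L₁ ≃* L₂) := by
  obtain ⟨hcard, g, _, hgen, hrel, hka, hkb, _, _⟩ := Cfsg.Agent.Lib.Helper7.L34.exists_l34_data hF
  obtain ⟨σ₁, hσ₁, hk₁⟩ :=
    Cfsg.Agent.Lib.Helper3.L34Uniq.exists_stem_of_perfect h₁.1.commutator_eq_top e₁
  obtain ⟨σ₂, hσ₂, hk₂⟩ :=
    Cfsg.Agent.Lib.Helper3.L34Uniq.exists_stem_of_perfect h₂.1.commutator_eq_top e₂
  refine Cfsg.Agent.Lib.Helper3.L34Uniq.nonempty_mulEquiv g hcard hgen hrel hka hkb
    σ₁ hσ₁ (fun x hx => he₁ x (hk₁ ▸ hx)) ?_ σ₂ hσ₂ (fun x hx => he₂ x (hk₂ ▸ hx)) ?_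
  · rw [hk₁]; exact hc₁
  · rw [hk₂]; exact hc₂

end Cfsg.Agent.S5387
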