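import Cfsg.Statements.S5394
import Cfsg.Agent.Lib.Helper28.InvolTypes

set_option autoImplicit false
open Cfsg

namespace Cfsg.Agent.S5394

open Cfsg.Agent.Lib.Helper28


/-- The automorphism group of the length-24 code built from the squares modulo 23 has exactly two conjugacy classes of involutions: an involution either fixes exactly the eight points of an octad or has no fixed points, both kinds occur, and any two involutions of the same kind are conjugate in the group. -/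
theorem result : (∀ g ∈ Cfsg.M24, orderOf g = 2 → (Finset.univ.filter fun p => g p = p) ∈ Cfsg.octads ∨ ∀ p, g p ≠ p) ∧ (∃ g ∈ Cfsg.M24, orderOf g = 2 ∧ (Finset.univ.filter fun p => g p = p) ∈ Cfsg.octads) ∧ (∃ g ∈ Cfsg.M24, orderOf g = 2 ∧ ∀ p, g p ≠ p) ∧ ∀ g ∈ Cfsg.M24, ∀ h ∈ Cfsg.M24, orderOf g = 2 → orderOf h = 2 → ((∀ p, g p ≠ p) ↔ (∀ p, h p ≠ p)) → ∃ k ∈ Cfsg.M24, k * g * k⁻¹ = h := by
  classical
  refine ⟨?_, ?_, ?_, ?_⟩
  · intro g hg h2
    rcases involution_type hg h2 with ⟨k, _, _, h⟩ | ⟨k, _, _, h⟩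
    · exact Or.inl h
    · exact Or.inr h
  · exact ⟨rep2 0, rep2_mem 0, rep2_order 0, rep2_fix0⟩
  · exact ⟨rep2 1, rep2_mem 1, rep2_order 1, rep2_fix1⟩
  · intro g hg h hh hg2 hh2 hiff
    rcases involution_type hg hg2 with ⟨k, hk, he, hfix⟩ | ⟨k, hk, he, hfpf⟩
    · rcases involution_type hh hh2 with ⟨k', hk', he', hfix'⟩ | ⟨k', hk', he', hfpf'⟩
      · refine ⟨k'⁻¹ * k, Cfsg.M24.mul_mem (Cfsg.M24.inv_mem hk') hk, ?_⟩
        have : (k'⁻¹ * k) * g * (k'⁻¹ * k)⁻¹ = k'⁻¹ * (k * g * k⁻¹) * k' := by group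
        rw [this, he, ← he']; group
      · exact absurd (hiff.mpr hfpf') (not_fpf_of_fix_octad hfix)
    · rcases involution_type hh hh2 with ⟨k', hk', he', hfix'⟩ | ⟨k', hk', he', hfpf'⟩
      · exact absurd (hiff.mp hfpf) (not_fpf_of_fix_octad hfix')
      · refine ⟨k'⁻¹ * k, Cfsg.M24.mul_mem (Cfsg.M24.inv_mem hk') hk, ?_⟩
        have : (k'⁻¹ * k) * g * (k'⁻¹ * k)⁻¹ = k'⁻¹ * (k * g * k⁻¹) * k' := by group
        rw [this, he, ← he']; group


end Cfsg.Agent.S5394
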