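import Mathlib
import Cfsg.Statements.S5396
import Cfsg.Agent.Lib.Helper1.Frattini

set_option autoImplicit false
set_option linter.style.haveILetI false
set_option linter.unusedSectionVars false
open Cfsg

namespace Cfsg.Agent.S5396

open scoped commutatorElement

/-- the underlying type of the twisted Heisenberg group over `ZMod 2` -/
@[ext] structure QG (ε : ZMod 2) (m : ℕ) where
  /-- first coordinate vector -/
  a : Fin (m + 1) → ZMod 2
  /-- second coordinate vector -/
  b : Fin (m + 1) → ZMod 2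
  /-- central coordinate -/
  c : ZMod 2

/-- the bilinear cocycle -/
def beta (ε : ZMod 2) {m : ℕ} (a b a' b' : Fin (m + 1) → ZMod 2) : ZMod 2 :=
  a ⬝ᵥ b' + ε * (a (Fin.last m) * a' (Fin.last m) + b (Fin.last m) * b' (Fin.last m))

theorem beta_add_left (ε : ZMod 2) {m : ℕ} (a₁ b₁ a₂ b₂ a' b' : Fin (m + 1) → ZMod 2) :
    beta ε (a₁ + a₂) (b₁ + b₂) a' b' = beta ε a₁ b₁ a' b' + beta ε a₂ b₂ a' b' := by
  unfold beta
  rw [add_dotProduct]
  simp only [Pi.add_apply]
  ring

theorem beta_add_right (ε : ZMod 2) {m : ℕ} (a b a₁ b₁ a₂ b₂ : Fin (m + 1) → ZMod 2) :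
    beta ε a b (a₁ + a₂) (b₁ + b₂) = beta ε a b a₁ b₁ + beta ε a b a₂ b₂ := by
  unfold beta
  rw [dotProduct_add]
  simp only [Pi.add_apply]
  ring

theorem beta_neg_left (ε : ZMod 2) {m : ℕ} (a b a' b' : Fin (m + 1) → ZMod 2) :
    beta ε (-a) (-b) a' b' = -beta ε a b a' b' := by
  unfold beta
  rw [neg_dotProduct]
  simp only [Pi.neg_apply]
  ring

theorem beta_zero_left (ε : ZMod 2) {m : ℕ} (a' b' : Fin (m + 1) → ZMod 2) :
    beta ε 0 0 a' b' = 0 := by
  unfold beta
  rw [zero_dotProduct]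
  simp only [Pi.zero_apply]
  ring

theorem beta_zero_right (ε : ZMod 2) {m : ℕ} (a b : Fin (m + 1) → ZMod 2) :
    beta ε a b 0 0 = 0 := by
  unfold beta
  rw [dotProduct_zero]
  simp only [Pi.zero_apply]
  ring

/-- multiplication -/
def QG.mul' {ε : ZMod 2} {m : ℕ} (x y : QG ε m) : QG ε m :=
  ⟨x.a + y.a, x.b + y.b, x.c + y.c + beta ε x.a x.b y.a y.b⟩

/-- identity -/
def QG.one' {ε : ZMod 2} {m : ℕ} : QG ε m := ⟨0, 0, 0⟩

/-- inverse -/
def QG.inv' {ε : ZMod 2} {m : ℕ} (x : QG ε m) : QG ε m :=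
  ⟨-x.a, -x.b, -x.c + beta ε x.a x.b x.a x.b⟩

instance QG.instGroup (ε : ZMod 2) (m : ℕ) : Group (QG ε m) where
  mul := QG.mul'
  one := QG.one'
  inv := QG.inv'
  mul_assoc x y z := by
    apply QG.ext
    · exact add_assoc x.a y.a z.a
    · exact add_assoc x.b y.b z.b
    · show x.c + y.c + beta ε x.a x.b y.a y.b + z.c + beta ε (x.a + y.a) (x.b + y.b) z.a z.b =
        x.c + (y.c + z.c + beta ε y.a y.b z.a z.b) + beta ε x.a x.b (y.a + z.a) (y.b + z.b)
      rw [beta_add_left, beta_add_right]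
      ring
  one_mul x := by
    apply QG.ext
    · exact zero_add x.a
    · exact zero_add x.b
    · show (0 : ZMod 2) + x.c + beta ε 0 0 x.a x.b = x.c
      rw [beta_zero_left]
      ring
  mul_one x := by
    apply QG.ext
    · exact add_zero x.a
    · exact add_zero x.b
    · show x.c + 0 + beta ε x.a x.b 0 0 = x.c
      rw [beta_zero_right]
      ring
  inv_mul_cancel x := by
    apply QG.ext
    · exact neg_add_cancel x.a
    · exact neg_add_cancel x.b
    · show -x.c + beta ε x.a x.b x.a x.b + x.c + beta ε (-x.a) (-x.b) x.a x.b = 0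
      rw [beta_neg_left]
      ring

variable {ε : ZMod 2} {m : ℕ}

@[simp] theorem mul_a (x y : QG ε m) : (x * y).a = x.a + y.a := rfl
@[simp] theorem mul_b (x y : QG ε m) : (x * y).b = x.b + y.b := rfl
@[simp] theorem mul_c (x y : QG ε m) :
    (x * y).c = x.c + y.c + beta ε x.a x.b y.a y.b := rfl
@[simp] theorem one_a : (1 : QG ε m).a = 0 := rfl
@[simp] theorem one_b : (1 : QG ε m).b = 0 := rfl
@[simp] theorem one_c : (1 : QG ε m).c = 0 := rfl
@[simp] theorem inv_a (x : QG ε m) : (x⁻¹).a = -x.a := rfl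
@[simp] theorem inv_b (x : QG ε m) : (x⁻¹).b = -x.b := rfl

theorem zmod2_cases : ∀ c : ZMod 2, c = 0 ∨ c = 1 := by decide

theorem aniso : ∀ x y : ZMod 2, x * y + (x * x + y * y) = 0 → x = 0 ∧ y = 0 := by decide

theorem add_self_z2 (c : ZMod 2) : c + c = 0 := CharTwo.add_self_eq_zero c

theorem add_self_fn {ι : Type*} (v : ι → ZMod 2) : v + v = 0 := by
  funext i
  exact CharTwo.add_self_eq_zero (v i)

/-- coordinates -/
def QG.equivProd (ε : ZMod 2) (m : ℕ) :
    QG ε m ≃ (Fin (m + 1) → ZMod 2) × (Fin (m + 1) → ZMod 2) × ZMod 2 where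
  toFun x := (x.a, x.b, x.c)
  invFun t := ⟨t.1, t.2.1, t.2.2⟩
  left_inv _ := rfl
  right_inv _ := rfl

instance QG.instFinite (ε : ZMod 2) (m : ℕ) : Finite (QG ε m) :=
  Finite.of_equiv _ (QG.equivProd ε m).symm

theorem card_eq (ε : ZMod 2) (m : ℕ) : Nat.card (QG ε m) = 2 ^ (2 * (m + 1) + 1) := by
  rw [Nat.card_congr (QG.equivProd ε m), Nat.card_prod, Nat.card_prod, Nat.card_fun,
    Nat.card_zmod, Nat.card_fin]
  ring

theorem comm_iff (x y : QG ε m) : x * y = y * x ↔ x.a ⬝ᵥ y.b = y.a ⬝ᵥ x.b := by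
  constructor
  · intro h
    have h1 := congrArg QG.c h
    simp only [mul_c, beta] at h1
    linear_combination h1
  · intro h
    apply QG.ext
    · simp only [mul_a]
      exact add_comm _ _
    · simp only [mul_b]
      exact add_comm _ _
    · simp only [mul_c, beta]
      linear_combination h

theorem mem_center_iff' (x : QG ε m) :
    x ∈ Subgroup.center (QG ε m) ↔ x.a = 0 ∧ x.b = 0 := by
  rw [Subgroup.mem_center_iff]
  constructor
  · intro h
    constructor
    · funext i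
      have h1 := (comm_iff (⟨0, Pi.single i 1, 0⟩ : QG ε m) x).1 (h _)
      dsimp only at h1
      rw [zero_dotProduct, dotProduct_single_one] at h1
      exact h1.symm
    · funext i
      have h1 := (comm_iff (⟨Pi.single i 1, 0, 0⟩ : QG ε m) x).1 (h _)
      dsimp only at h1
      rw [single_one_dotProduct, dotProduct_zero] at h1
      exact h1
  · rintro ⟨ha, hb⟩ g
    rw [comm_iff, ha, hb, zero_dotProduct, dotProduct_zero]

/-- central elements -/
def zc (ε : ZMod 2) (m : ℕ) (c : ZMod 2) : QG ε m := ⟨0, 0, c⟩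

theorem center_eq :
    Set.range (zc ε m) = (Subgroup.center (QG ε m) : Set (QG ε m)) := by
  ext x
  constructor
  · rintro ⟨c, rfl⟩
    exact (mem_center_iff' _).2 ⟨rfl, rfl⟩
  · intro hx
    obtain ⟨ha, hb⟩ := (mem_center_iff' x).1 hx
    exact ⟨x.c, QG.ext ha.symm hb.symm rfl⟩

theorem card_center : Nat.card (Subgroup.center (QG ε m)) = 2 := by
  have h1 : Nat.card (Subgroup.center (QG ε m)) = Nat.card (Set.range (zc ε m)) :=
    Nat.card_congr (Equiv.setCongr center_eq.symm)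
  rw [h1, Nat.card_range_of_injective, Nat.card_zmod]
  intro c c' h
  exact congrArg QG.c h

theorem commutator_a (x y : QG ε m) : (⁅x, y⁆).a = 0 := by
  rw [commutatorElement_def]
  simp only [mul_a, inv_a]
  abel

theorem commutator_b (x y : QG ε m) : (⁅x, y⁆).b = 0 := by
  rw [commutatorElement_def]
  simp only [mul_b, inv_b]
  abel

/-- a noncommuting pair -/
def ex0 (ε : ZMod 2) (m : ℕ) : QG ε m := ⟨Pi.single 0 1, 0, 0⟩

/-- a noncommuting pair -/
def ey0 (ε : ZMod 2) (m : ℕ) : QG ε m := ⟨0, Pi.single 0 1, 0⟩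

theorem ex0_ey0_not_comm : ¬ (ex0 ε m * ey0 ε m = ey0 ε m * ex0 ε m) := by
  rw [comm_iff]
  show ¬ ((Pi.single (0 : Fin (m + 1)) (1 : ZMod 2)) ⬝ᵥ (Pi.single (0 : Fin (m + 1)) (1 : ZMod 2))
    = (0 : Fin (m + 1) → ZMod 2) ⬝ᵥ (0 : Fin (m + 1) → ZMod 2))
  rw [single_one_dotProduct, Pi.single_eq_same, zero_dotProduct]
  exact one_ne_zero

theorem commutator_eq_center : commutator (QG ε m) = Subgroup.center (QG ε m) := by
  apply le_antisymm
  · rw [commutator_eq_closure, Subgroup.closure_le]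
    rintro g ⟨g₁, g₂, rfl⟩
    exact (mem_center_iff' _).2 ⟨commutator_a g₁ g₂, commutator_b g₁ g₂⟩
  · intro g hg
    obtain ⟨c, rfl⟩ : g ∈ Set.range (zc ε m) := by
      rw [center_eq]
      exact hg
    have hxy : ⁅ex0 ε m, ey0 ε m⁆ ∈ commutator (QG ε m) := by
      rw [commutator_eq_closure]
      exact Subgroup.subset_closure ⟨_, _, rfl⟩
    have hne : ⁅ex0 ε m, ey0 ε m⁆ ≠ 1 := by
      rw [Ne, commutatorElement_eq_one_iff_mul_comm]
      exact ex0_ey0_not_comm
    obtain ⟨c', hc'⟩ : ⁅ex0 ε m, ey0 ε m⁆ ∈ Set.range (zc ε m) := by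
      rw [center_eq]
      exact (mem_center_iff' _).2 ⟨commutator_a _ _, commutator_b _ _⟩
    have hc1 : c' = 1 := by
      rcases zmod2_cases c' with h | h
      · exfalso
        apply hne
        rw [← hc', h]
        rfl
      · exact h
    rcases zmod2_cases c with h | h
    · rw [h]
      exact one_mem _
    · rw [h, ← hc1, hc']
      exact hxy

theorem isExtraspecial (ε : ZMod 2) (m : ℕ) : Cfsg.IsExtraspecial 2 (QG ε m) := by
  haveI : Fact (Nat.Prime 2) := ⟨Nat.prime_two⟩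
  have hP : IsPGroup 2 (QG ε m) := IsPGroup.of_card (card_eq ε m)
  refine ⟨⟨hP, ?_, commutator_eq_center⟩, card_center⟩
  apply le_antisymm
  · apply Cfsg.Agent.Lib.Helper1.frattini_le_of_commutator_le_of_pow_mem (p := 2)
    · exact commutator_eq_center.le
    · intro x
      rw [pow_two, mem_center_iff']
      constructor
      · rw [mul_a]
        exact add_self_fn x.a
      · rw [mul_b]
        exact add_self_fn x.b
  · rw [← commutator_eq_center]
    exact Cfsg.Agent.Lib.Helper1.IsPGroup.commutator_le_frattini hP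

/-- pairs of vectors -/
abbrev VV (n : ℕ) := (Fin n → ZMod 2) × (Fin n → ZMod 2)

/-- the quadratic form -/
def Qf (ε : ZMod 2) {m : ℕ} (u : VV (m + 1)) : ZMod 2 :=
  beta ε u.1 u.2 u.1 u.2

theorem qf_of_sq (x : QG ε m) (h : x ^ 2 = 1) : Qf ε (x.a, x.b) = 0 := by
  have h1 := congrArg QG.c h
  rw [pow_two, mul_c, one_c, add_self_z2, zero_add] at h1
  exact h1

/-- shadow of a subgroup in the vector space -/
def shadow (A : Subgroup (QG ε m)) : AddSubgroup (VV (m + 1)) where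
  carrier := {u | ∃ x ∈ A, (x.a, x.b) = u}
  zero_mem' := ⟨1, A.one_mem, rfl⟩
  add_mem' := by
    rintro _ _ ⟨x, hx, rfl⟩ ⟨y, hy, rfl⟩
    exact ⟨x * y, A.mul_mem hx hy, rfl⟩
  neg_mem' := by
    rintro _ ⟨x, hx, rfl⟩
    exact ⟨x⁻¹, A.inv_mem hx, rfl⟩

theorem mem_shadow {A : Subgroup (QG ε m)} {u : VV (m + 1)} :
    u ∈ shadow A ↔ ∃ x ∈ A, (x.a, x.b) = u := Iff.rfl

theorem shadow_singular (A : Subgroup (QG ε m)) (hA : ∀ x ∈ A, x ^ 2 = 1) :
    ∀ u ∈ shadow A, Qf ε u = 0 := by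
  intro u hu
  obtain ⟨x, hx, rfl⟩ := mem_shadow.1 hu
  exact qf_of_sq x (hA x hx)

theorem card_le_shadow (A : Subgroup (QG ε m)) : Nat.card A ≤ 2 * Nat.card (shadow A) := by
  have hinj : Function.Injective (fun x : A =>
      ((⟨(x.1.a, x.1.b), mem_shadow.2 ⟨x.1, x.2, rfl⟩⟩ : shadow A), x.1.c)) := by
    intro x y h
    simp only [Prod.mk.injEq, Subtype.mk.injEq] at h
    obtain ⟨⟨h1, h2⟩, h3⟩ := h
    exact Subtype.ext (QG.ext h1 h2 h3)
  have h5 := Nat.card_le_card_of_injective _ hinj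
  rwa [Nat.card_prod, Nat.card_zmod, mul_comm] at h5

/-- projection forgetting coordinate `0` -/
def rho (n : ℕ) : VV (n + 1) →+ VV n where
  toFun u := (Fin.tail u.1, Fin.tail u.2)
  map_zero' := rfl
  map_add' _ _ := rfl

/-- the special isotropic vector -/
def evec (n : ℕ) : VV (n + 1) := (Pi.single 0 1, 0)

theorem rho_evec (n : ℕ) : rho n (evec n) = 0 := by
  apply Prod.ext
  · funext j
    exact Pi.single_eq_of_ne (Fin.succ_ne_zero j) 1
  · rfl

/-- vectors with `b 0 = 0` -/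
def ker0 (n : ℕ) : AddSubgroup (VV (n + 1)) where
  carrier := {u | u.2 0 = 0}
  zero_mem' := rfl
  add_mem' := by
    intro u v hu hv
    show u.2 0 + v.2 0 = 0
    rw [show u.2 0 = 0 from hu, show v.2 0 = 0 from hv, add_zero]
  neg_mem' := by
    intro u hu
    show -(u.2 0) = 0
    rw [show u.2 0 = 0 from hu, neg_zero]

theorem mem_ker0 {n : ℕ} {u : VV (n + 1)} : u ∈ ker0 n ↔ u.2 0 = 0 := Iff.rfl

theorem eq_of_rho_zero {n : ℕ} (d : VV (n + 1)) (h1 : rho n d = 0) (h2 : d.2 0 = 0) :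
    d = 0 ∨ d = evec n := by
  have ha : ∀ j : Fin n, d.1 j.succ = 0 := fun j => congrFun (congrArg Prod.fst h1) j
  have hb : ∀ j : Fin n, d.2 j.succ = 0 := fun j => congrFun (congrArg Prod.snd h1) j
  have hb' : d.2 = 0 := by
    funext i
    obtain rfl | ⟨j, rfl⟩ := Fin.eq_zero_or_eq_succ i
    · exact h2
    · exact hb j
  rcases zmod2_cases (d.1 0) with h | h
  · left
    apply Prod.ext
    · funext i
      obtain rfl | ⟨j, rfl⟩ := Fin.eq_zero_or_eq_succ i
      · exact h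
      · exact ha j
    · exact hb'
  · right
    apply Prod.ext
    · funext i
      obtain rfl | ⟨j, rfl⟩ := Fin.eq_zero_or_eq_succ i
      · rw [h]
        show (1 : ZMod 2) = (Pi.single (0 : Fin (n + 1)) (1 : ZMod 2) : Fin (n + 1) → ZMod 2) 0
        rw [Pi.single_eq_same]
      · rw [ha j]
        show (0 : ZMod 2) =
          (Pi.single (0 : Fin (n + 1)) (1 : ZMod 2) : Fin (n + 1) → ZMod 2) j.succ
        rw [Pi.single_eq_of_ne (Fin.succ_ne_zero j)]
    · exact hb'

theorem ts_step {n : ℕ} (Q : VV n → ZMod 2) (M : ℕ)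
    (hM : ∀ W : AddSubgroup (VV n), (∀ u ∈ W, Q u = 0) → Nat.card W ≤ M)
    (W : AddSubgroup (VV (n + 1)))
    (hW : ∀ u ∈ W, u.1 0 * u.2 0 + Q (rho n u) = 0) :
    Nat.card W ≤ 2 * M := by
  by_cases heW : evec n ∈ W
  · -- Case 1
    have hb0 : ∀ u ∈ W, u.2 0 = 0 := by
      intro u hu
      have h1 := hW u hu
      have h2 := hW (u + evec n) (W.add_mem hu heW)
      rw [map_add, rho_evec, add_zero] at h2
      have h3 : (u + evec n).1 0 = u.1 0 + 1 := by
        show u.1 0 + (Pi.single 0 1 : Fin (n + 1) → ZMod 2) 0 = u.1 0 + 1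
        rw [Pi.single_eq_same]
      have h4 : (u + evec n).2 0 = u.2 0 := by
        show u.2 0 + (0 : Fin (n + 1) → ZMod 2) 0 = u.2 0
        exact add_zero _
      rw [h3, h4] at h2
      linear_combination h2 - h1
    have hW2 : ∀ v ∈ W.map (rho n), Q v = 0 := by
      intro v hv
      obtain ⟨u, hu, rfl⟩ := AddSubgroup.mem_map.1 hv
      have h1 := hW u hu
      rw [hb0 u hu, mul_zero, zero_add] at h1
      exact h1
    have hcard := hM _ hW2
    have hinj : Function.Injective (fun u : ↥W =>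
        (u.1.1 0, (⟨rho n u.1, AddSubgroup.mem_map_of_mem _ u.2⟩ : ↥(W.map (rho n))))) := by
      intro u v h
      simp only [Prod.mk.injEq, Subtype.mk.injEq] at h
      obtain ⟨h1, h2⟩ := h
      apply Subtype.ext
      have h2a : ∀ j : Fin n, u.1.1 j.succ = v.1.1 j.succ :=
        fun j => congrFun (congrArg Prod.fst h2) j
      have h2b : ∀ j : Fin n, u.1.2 j.succ = v.1.2 j.succ :=
        fun j => congrFun (congrArg Prod.snd h2) j
      apply Prod.ext
      · funext i
        obtain rfl | ⟨j, rfl⟩ := Fin.eq_zero_or_eq_succ i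
        · exact h1
        · exact h2a j
      · funext i
        obtain rfl | ⟨j, rfl⟩ := Fin.eq_zero_or_eq_succ i
        · rw [hb0 u.1 u.2, hb0 v.1 v.2]
        · exact h2b j
    have h5 := Nat.card_le_card_of_injective _ hinj
    rw [Nat.card_prod, Nat.card_zmod] at h5
    calc Nat.card W ≤ 2 * Nat.card ↥(W.map (rho n)) := h5
      _ ≤ 2 * M := Nat.mul_le_mul_left 2 hcard
  · -- Case 2
    have hW2 : ∀ v ∈ (W ⊓ ker0 n).map (rho n), Q v = 0 := by
      intro v hv
      obtain ⟨u, hu, rfl⟩ := AddSubgroup.mem_map.1 hv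
      obtain ⟨huW, hu0⟩ := AddSubgroup.mem_inf.1 hu
      have h1 := hW u huW
      rw [mem_ker0.1 hu0, mul_zero, zero_add] at h1
      exact h1
    have hcard := hM _ hW2
    have hb : Nat.card ↥(W ⊓ ker0 n) ≤ Nat.card ↥((W ⊓ ker0 n).map (rho n)) := by
      apply Nat.card_le_card_of_injective
        (fun u : ↥(W ⊓ ker0 n) =>
          (⟨rho n u.1, AddSubgroup.mem_map_of_mem _ u.2⟩ : ↥((W ⊓ ker0 n).map (rho n))))
      intro u v h
      have h1 : rho n u.1 = rho n v.1 := congrArg Subtype.val h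
      have hd : u.1 - v.1 ∈ W ⊓ ker0 n := AddSubgroup.sub_mem _ u.2 v.2
      obtain ⟨hdW, hd0⟩ := AddSubgroup.mem_inf.1 hd
      have h2 : rho n (u.1 - v.1) = 0 := by rw [map_sub, h1, sub_self]
      rcases eq_of_rho_zero _ h2 (mem_ker0.1 hd0) with h3 | h3
      · exact Subtype.ext (sub_eq_zero.1 h3)
      · exfalso
        apply heW
        rw [← h3]
        exact hdW
    have hc : Nat.card ↥W ≤ 2 * Nat.card ↥(W ⊓ ker0 n) := by
      by_cases hex : ∃ w0 ∈ W, w0.2 0 ≠ 0
      · obtain ⟨w0, hw0, hw00⟩ := hex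
        have hw01 : w0.2 0 = 1 := by
          rcases zmod2_cases (w0.2 0) with h | h
          · exact absurd h hw00
          · exact h
        have hsm : ∀ c : ZMod 2, c • w0 ∈ W := by
          intro c
          rcases zmod2_cases c with h | h
          · rw [h, zero_smul]
            exact W.zero_mem
          · rw [h, one_smul]
            exact hw0
        have hmem : ∀ u : ↥W, u.1 + (u.1.2 0) • w0 ∈ W ⊓ ker0 n := by
          intro u
          refine AddSubgroup.mem_inf.2 ⟨W.add_mem u.2 (hsm _), ?_⟩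
          rw [mem_ker0]
          show u.1.2 0 + (u.1.2 0) * w0.2 0 = 0
          rw [hw01, mul_one]
          exact add_self_z2 _
        have hinj : Function.Injective (fun u : ↥W =>
            (u.1.2 0, (⟨u.1 + (u.1.2 0) • w0, hmem u⟩ : ↥(W ⊓ ker0 n)))) := by
          intro u v h
          simp only [Prod.mk.injEq, Subtype.mk.injEq] at h
          obtain ⟨h1, h2⟩ := h
          rw [h1] at h2
          exact Subtype.ext (add_right_cancel h2)
        have h5 := Nat.card_le_card_of_injective _ hinj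
        rwa [Nat.card_prod, Nat.card_zmod] at h5
      · push Not at hex
        have hWK : W ⊓ ker0 n = W := inf_eq_left.2 (fun u hu => mem_ker0.2 (hex u hu))
        rw [hWK]
        omega
    calc Nat.card ↥W ≤ 2 * Nat.card ↥(W ⊓ ker0 n) := hc
      _ ≤ 2 * Nat.card ↥((W ⊓ ker0 n).map (rho n)) := Nat.mul_le_mul_left 2 hb
      _ ≤ 2 * M := Nat.mul_le_mul_left 2 hcard

theorem dot_succ {n : ℕ} (a b : Fin (n + 1) → ZMod 2) :
    a ⬝ᵥ b = a 0 * b 0 + Fin.tail a ⬝ᵥ Fin.tail b :=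
  Fin.sum_univ_succ (fun i => a i * b i)

theorem ts_plus (n : ℕ) :
    ∀ W : AddSubgroup (VV n), (∀ u ∈ W, u.1 ⬝ᵥ u.2 = 0) → Nat.card W ≤ 2 ^ n := by
  induction n with
  | zero =>
    intro W _
    rw [pow_zero]
    exact Finite.card_le_one_iff_subsingleton.2 inferInstance
  | succ n ih =>
    intro W hW
    rw [pow_succ, mul_comm]
    apply ts_step (fun u => u.1 ⬝ᵥ u.2) (2 ^ n) ih W
    intro u hu
    have h := hW u hu
    rw [dot_succ] at h
    exact h

/-- the minus-type form -/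
def Qm (m : ℕ) (u : VV (m + 1)) : ZMod 2 :=
  u.1 ⬝ᵥ u.2 + (u.1 (Fin.last m) * u.1 (Fin.last m) + u.2 (Fin.last m) * u.2 (Fin.last m))

theorem ts_minus (m : ℕ) :
    ∀ W : AddSubgroup (VV (m + 1)), (∀ u ∈ W, Qm m u = 0) → Nat.card W ≤ 2 ^ m := by
  induction m with
  | zero =>
    intro W hW
    rw [pow_zero]
    apply Finite.card_le_one_iff_subsingleton.2
    have key : ∀ w ∈ W, w = 0 := by
      intro w hw
      have h := hW w hw
      unfold Qm at h
      rw [dot_succ] at h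
      have h0 : Fin.tail w.1 ⬝ᵥ Fin.tail w.2 = 0 := Fin.sum_univ_zero _
      rw [h0, add_zero] at h
      have h' : w.1 0 * w.2 0 + (w.1 0 * w.1 0 + w.2 0 * w.2 0) = 0 := h
      obtain ⟨ha, hb⟩ := aniso (w.1 0) (w.2 0) h'
      apply Prod.ext
      · funext i
        obtain rfl | ⟨j, rfl⟩ := Fin.eq_zero_or_eq_succ i
        · exact ha
        · exact j.elim0
      · funext i
        obtain rfl | ⟨j, rfl⟩ := Fin.eq_zero_or_eq_succ i
        · exact hb
        · exact j.elim0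
    constructor
    intro u v
    exact Subtype.ext ((key u.1 u.2).trans (key v.1 v.2).symm)
  | succ m ih =>
    intro W hW
    rw [pow_succ, mul_comm]
    apply ts_step (Qm m) (2 ^ m) ih W
    intro u hu
    have h := hW u hu
    unfold Qm at h
    rw [dot_succ] at h
    show u.1 0 * u.2 0 + (Fin.tail u.1 ⬝ᵥ Fin.tail u.2 +
      (Fin.tail u.1 (Fin.last m) * Fin.tail u.1 (Fin.last m) +
        Fin.tail u.2 (Fin.last m) * Fin.tail u.2 (Fin.last m))) = 0
    rw [← add_assoc]
    exact h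

theorem rank_le_plus (m : ℕ) (A : Subgroup (QG 0 m)) (hA : ∀ x ∈ A, x ^ 2 = 1) :
    Nat.card A ≤ 2 ^ (m + 1 + 1) := by
  have h1 := card_le_shadow A
  have h2 : Nat.card (shadow A) ≤ 2 ^ (m + 1) := by
    apply ts_plus (m + 1)
    intro u hu
    have h := shadow_singular A hA u hu
    unfold Qf beta at h
    rw [zero_mul, add_zero] at h
    exact h
  calc Nat.card A ≤ 2 * Nat.card (shadow A) := h1
    _ ≤ 2 * 2 ^ (m + 1) := Nat.mul_le_mul_left 2 h2
    _ = 2 ^ (m + 1 + 1) := by ring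

theorem rank_le_minus (m : ℕ) (A : Subgroup (QG 1 m)) (hA : ∀ x ∈ A, x ^ 2 = 1) :
    Nat.card A ≤ 2 ^ (m + 1) := by
  have h1 := card_le_shadow A
  have h2 : Nat.card (shadow A) ≤ 2 ^ m := by
    apply ts_minus m
    intro u hu
    have h := shadow_singular A hA u hu
    unfold Qf beta at h
    rw [one_mul] at h
    exact h
  calc Nat.card A ≤ 2 * Nat.card (shadow A) := h1
    _ ≤ 2 * 2 ^ m := Nat.mul_le_mul_left 2 h2
    _ = 2 ^ (m + 1) := by ring

/-- a large elementary abelian subgroup -/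
def bigA (ε : ZMod 2) (m : ℕ) : Subgroup (QG ε m) where
  carrier := {x | x.b = 0 ∧ ε * x.a (Fin.last m) = 0}
  mul_mem' := by
    rintro x y ⟨hx1, hx2⟩ ⟨hy1, hy2⟩
    refine ⟨?_, ?_⟩
    · show x.b + y.b = 0
      rw [hx1, hy1, add_zero]
    · show ε * (x.a (Fin.last m) + y.a (Fin.last m)) = 0
      rw [mul_add, hx2, hy2, add_zero]
  one_mem' := ⟨rfl, mul_zero ε⟩
  inv_mem' := by
    rintro x ⟨hx1, hx2⟩
    refine ⟨?_, ?_⟩
    · show -x.b = 0
      rw [hx1, neg_zero]
    · show ε * (-x.a (Fin.last m)) = 0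
      rw [mul_neg, hx2, neg_zero]

theorem mem_bigA {x : QG ε m} :
    x ∈ bigA ε m ↔ x.b = 0 ∧ ε * x.a (Fin.last m) = 0 := Iff.rfl

theorem bigA_elem (ε : ZMod 2) (m : ℕ) : Cfsg.IsElementaryAbelian 2 (bigA ε m) := by
  constructor
  · rw [isMulCommutative_iff]
    rintro ⟨x, hx⟩ ⟨y, hy⟩
    obtain ⟨hx1, -⟩ := mem_bigA.1 hx
    obtain ⟨hy1, -⟩ := mem_bigA.1 hy
    apply Subtype.ext
    show x * y = y * x
    rw [comm_iff, hx1, hy1, dotProduct_zero, dotProduct_zero]
  · intro x hx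
    obtain ⟨hx1, hx2⟩ := mem_bigA.1 hx
    rw [pow_two]
    apply QG.ext
    · rw [mul_a]
      exact add_self_fn x.a
    · rw [mul_b]
      exact add_self_fn x.b
    · rw [mul_c, add_self_z2, zero_add]
      unfold beta
      rw [hx1, dotProduct_zero, Pi.zero_apply, mul_zero, add_zero, zero_add, ← mul_assoc, hx2,
        zero_mul]
      rfl

/-- parametrisation of `bigA 0 m` -/
def f0 (m : ℕ) : (Fin (m + 1) → ZMod 2) × ZMod 2 → QG 0 m := fun t => ⟨t.1, 0, t.2⟩

/-- parametrisation of `bigA 1 m` -/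
def f1 (m : ℕ) : (Fin m → ZMod 2) × ZMod 2 → QG 1 m :=
  fun t => ⟨(Fin.snoc t.1 (0 : ZMod 2) : Fin (m + 1) → ZMod 2), 0, t.2⟩

theorem card_bigA_plus (m : ℕ) : Nat.card (bigA 0 m) = 2 ^ (m + 1 + 1) := by
  have hf : Function.Injective (f0 m) := by
    intro s t h
    exact Prod.ext (congrArg QG.a h) (congrArg QG.c h)
  have hset : ((bigA 0 m : Subgroup (QG 0 m)) : Set (QG 0 m)) = Set.range (f0 m) := by
    ext x
    constructor
    · intro hx
      obtain ⟨hx1, -⟩ := mem_bigA.1 hx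
      exact ⟨(x.a, x.c), QG.ext rfl hx1.symm rfl⟩
    · rintro ⟨t, rfl⟩
      exact mem_bigA.2 ⟨rfl, zero_mul _⟩
  have h0 : Nat.card (bigA 0 m) = Nat.card (Set.range (f0 m)) :=
    Nat.card_congr (Equiv.setCongr hset)
  rw [h0, Nat.card_range_of_injective hf, Nat.card_prod, Nat.card_fun, Nat.card_zmod,
    Nat.card_fin]
  ring

theorem card_bigA_minus (m : ℕ) : Nat.card (bigA 1 m) = 2 ^ (m + 1) := by
  have hf : Function.Injective (f1 m) := by
    intro s t h
    have ha : (Fin.snoc s.1 (0 : ZMod 2) : Fin (m + 1) → ZMod 2) = Fin.snoc t.1 (0 : ZMod 2) :=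
      congrArg QG.a h
    apply Prod.ext
    · funext i
      have h2 := congrFun ha i.castSucc
      rwa [Fin.snoc_castSucc, Fin.snoc_castSucc] at h2
    · exact congrArg QG.c h
  have hset : ((bigA 1 m : Subgroup (QG 1 m)) : Set (QG 1 m)) = Set.range (f1 m) := by
    ext x
    constructor
    · intro hx
      obtain ⟨hx1, hx2⟩ := mem_bigA.1 hx
      rw [one_mul] at hx2
      refine ⟨(Fin.init x.a, x.c), QG.ext ?_ hx1.symm rfl⟩
      have h3 := Fin.snoc_init_self x.a
      rw [hx2] at h3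
      exact h3
    · rintro ⟨t, rfl⟩
      refine mem_bigA.2 ⟨rfl, ?_⟩
      show (1 : ZMod 2) * (Fin.snoc t.1 (0 : ZMod 2) : Fin (m + 1) → ZMod 2) (Fin.last m) = 0
      rw [Fin.snoc_last, mul_zero]
  have h0 : Nat.card (bigA 1 m) = Nat.card (Set.range (f1 m)) :=
    Nat.card_congr (Equiv.setCongr hset)
  rw [h0, Nat.card_range_of_injective hf, Nat.card_prod, Nat.card_fun, Nat.card_zmod,
    Nat.card_fin]
  ring

theorem rank_plus (m : ℕ) :
    sSup {k : ℕ | ∃ A : Subgroup (QG 0 m), Cfsg.IsElementaryAbelian 2 A ∧ Nat.card A = 2 ^ k}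
      = m + 1 + 1 := by
  apply IsGreatest.csSup_eq
  constructor
  · exact ⟨bigA 0 m, bigA_elem 0 m, card_bigA_plus m⟩
  · rintro k ⟨A, hA, hk⟩
    have h := rank_le_plus m A hA.2
    rw [hk] at h
    exact (Nat.pow_le_pow_iff_right (by norm_num)).1 h

theorem rank_minus (m : ℕ) :
    sSup {k : ℕ | ∃ A : Subgroup (QG 1 m), Cfsg.IsElementaryAbelian 2 A ∧ Nat.card A = 2 ^ k}
      = m + 1 := by
  apply IsGreatest.csSup_eq
  constructor
  · exact ⟨bigA 1 m, bigA_elem 1 m, card_bigA_minus m⟩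
  · rintro k ⟨A, hA, hk⟩
    have h := rank_le_minus m A hA.2
    rw [hk] at h
    exact (Nat.pow_le_pow_iff_right (by norm_num)).1 h

/-- For every n ≥ 1 there exist finite extraspecial 2-groups of order 2^(2n+1) whose 2-rank (the largest rank of an elementary abelian subgroup) is n, and ones whose 2-rank is n + 1 (so for each such order there are two non-isomorphic extraspecial 2-groups, told apart by their 2-rank). -/
theorem result (n : ℕ) (hn : 1 ≤ n) : ∀ r ∈ ({n, n + 1} : Set ℕ), ∃ (E : Type) (_ : Group E) (_ : Finite E), Cfsg.IsExtraspecial 2 E ∧ Nat.card E = 2 ^ (2 * n + 1) ∧ sSup {k : ℕ | ∃ A : Subgroup E, Cfsg.IsElementaryAbelian 2 A ∧ Nat.card A = 2 ^ k} = r := by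
  obtain ⟨m, rfl⟩ : ∃ m, n = m + 1 := ⟨n - 1, by omega⟩
  intro r hr
  simp only [Set.mem_insert_iff, Set.mem_singleton_iff] at hr
  rcases hr with rfl | rfl
  · exact ⟨QG 1 m, inferInstance, inferInstance, isExtraspecial 1 m, card_eq 1 m, rank_minus m⟩
  · exact ⟨QG 0 m, inferInstance, inferInstance, isExtraspecial 0 m, card_eq 0 m, rank_plus m⟩

end Cfsg.Agent.S5396
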