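-- Statement S5420. The statement below is byte-identical to the frozen statement.
import Cfsg.Statements.S5420

set_option autoImplicit false
open Cfsg

namespace Cfsg.Agent.S5420

theorem eq_one_of_mem_pgroup_of_mem_odd {G : Type*} [Group G] [Finite G] (A K : Subgroup G)
    (hA : IsPGroup 2 A) (hK : Odd (Nat.card K)) (x : G) (hxA : x ∈ A) (hxK : x ∈ K) : x = 1 := by
  obtain ⟨k, hk⟩ := hA ⟨x, hxA⟩
  have hk' : x ^ (2 ^ k) = 1 := by
    have := congrArg Subtype.val hk
    simpa using this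
  have h1 : orderOf x ∣ 2 ^ k := orderOf_dvd_of_pow_eq_one hk'
  have h2 : orderOf x ∣ Nat.card K := by
    have : orderOf (⟨x, hxK⟩ : K) ∣ Nat.card K := orderOf_dvd_natCard _
    rwa [← Subgroup.orderOf_coe] at this
  have hcop : Nat.Coprime (2 ^ k) (Nat.card K) := Nat.Coprime.pow_left _ (Nat.coprime_two_left.mpr hK)
  have : orderOf x ∣ 1 := by
    have := Nat.dvd_gcd h1 h2
    rwa [hcop] at this
  exact orderOf_eq_one_iff.mp (Nat.dvd_one.mp this)

/-- Let Q be an extraspecial 2-subgroup of the finite group G whose centralizer in G is its centre Z and which is normal in the centralizer of Z. If Z lies in the largest normal 2-subgroup of G, then Q is a large extraspecial 2-subgroup of G: it normalizes no non-trivial subgroup of G of odd order. -/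
theorem result {G : Type*} [Group G] [Finite G] (Q : Subgroup G) (hL1 : Cfsg.IsExtraspecial 2 ↥Q) (hL2 : Subgroup.centralizer (Q : Set G) = ((Subgroup.center ↥Q).map Q.subtype)) (hL3 : Subgroup.centralizer (((Subgroup.center ↥Q).map Q.subtype) : Set G) ≤ Subgroup.normalizer (Q : Set G)) (hZ : ((Subgroup.center ↥Q).map Q.subtype) ≤ Cfsg.pCore 2 G) : Cfsg.IsLargeExtraspecial Q := by
  refine ⟨hL1, hL2, hL3, ?_⟩
  intro K hK hQK
  have hOn : (pCore 2 G).Normal := Subgroup.sSup_normal _ (fun H hH => hH.1)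
  have hOp : IsPGroup 2 (pCore 2 G) := Sylow.sSup_of_normal _ (fun H hH => hH.2) (fun H hH => hH.1)
  have hQp : IsPGroup 2 Q := hL1.1.1
  have hZQ : (Subgroup.center ↥Q).map Q.subtype ≤ Q := Subgroup.map_subtype_le _
  -- Step 1: K centralizes Z
  have h1 : K ≤ Subgroup.centralizer (((Subgroup.center ↥Q).map Q.subtype : Subgroup G) : Set G) := by
    intro k hk
    rw [Subgroup.mem_centralizer_iff]
    intro z hz
    have hzQ : z ∈ Q := hZQ hz
    have hzO : z ∈ pCore 2 G := hZ hz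
    have hzk : z * k * z⁻¹ ∈ K := (Subgroup.mem_normalizer_iff.mp (hQK hzQ) k).mp hk
    have hcK : z * k * z⁻¹ * k⁻¹ ∈ K := K.mul_mem hzk (K.inv_mem hk)
    have hcO : z * k * z⁻¹ * k⁻¹ ∈ pCore 2 G := by
      have : z * k * z⁻¹ * k⁻¹ = z * (k * z⁻¹ * k⁻¹) := by group
      rw [this]
      exact (pCore 2 G).mul_mem hzO (hOn.conj_mem _ ((pCore 2 G).inv_mem hzO) k)
    have := eq_one_of_mem_pgroup_of_mem_odd _ K hOp hK _ hcO hcK
    calc z * k = (z * k * z⁻¹ * k⁻¹) * (k * z) := by group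
      _ = k * z := by rw [this, one_mul]
  -- Step 2: K centralizes Q
  have h2 : K ≤ Subgroup.centralizer (Q : Set G) := by
    intro k hk
    rw [Subgroup.mem_centralizer_iff]
    intro q hq
    have hkN : k ∈ Subgroup.normalizer (Q : Set G) := hL3 (h1 hk)
    have hqk : q * k * q⁻¹ ∈ K := (Subgroup.mem_normalizer_iff.mp (hQK hq) k).mp hk
    have hcK : q * k * q⁻¹ * k⁻¹ ∈ K := K.mul_mem hqk (K.inv_mem hk)
    have hcQ : q * k * q⁻¹ * k⁻¹ ∈ Q := by
      have : q * k * q⁻¹ * k⁻¹ = q * (k * q⁻¹ * k⁻¹) := by group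
      rw [this]
      exact Q.mul_mem hq ((Subgroup.mem_normalizer_iff.mp hkN q⁻¹).mp (Q.inv_mem hq))
    have := eq_one_of_mem_pgroup_of_mem_odd _ K hQp hK _ hcQ hcK
    calc q * k = (q * k * q⁻¹ * k⁻¹) * (k * q) := by group
      _ = k * q := by rw [this, one_mul]
  rw [eq_bot_iff]
  intro k hk
  rw [Subgroup.mem_bot]
  have hkQ : k ∈ Q := hZQ (hL2 ▸ h2 hk)
  exact eq_one_of_mem_pgroup_of_mem_odd _ K hQp hK _ hkQ hk

end Cfsg.Agent.S5420
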