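import Cfsg.Statements.S5422
import Cfsg.Agent.S5421
import Cfsg.Agent.Lib.Helper27.LargeES
import Cfsg.Agent.Lib.Helper27.CommP2

set_option autoImplicit false
open Cfsg

namespace Cfsg.Agent.S5422

open Cfsg.Agent.Lib.Helper27.LES Cfsg.Agent.S5421
open scoped commutatorElement

/-- Let Q be an extraspecial 2-subgroup of the finite group G whose centralizer in G is its centre Z and which is normal in the centralizer of Z; suppose Q has width at least 2 (order 2^(2w+1) with w ≥ 2) and g is an element of G not normalizing Z with g Z g⁻¹ inside Q. Then Z lies inside g Q g⁻¹; writing V for the subgroup generated by Z and g Z g⁻¹ (a four-group), the normalizer of V induces on V its full automorphism group, that is, the centralizer of V has index 6 in the normalizer of V; and Q is a large extraspecial 2-subgroup of G. -/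
theorem result {G : Type*} [Group G] [Finite G] (Q : Subgroup G) (hL1 : Cfsg.IsExtraspecial 2 ↥Q) (hL2 : Subgroup.centralizer (Q : Set G) = ((Subgroup.center ↥Q).map Q.subtype)) (hL3 : Subgroup.centralizer (((Subgroup.center ↥Q).map Q.subtype) : Set G) ≤ Subgroup.normalizer (Q : Set G)) (w : ℕ) (hw : 2 ≤ w) (hcard : Nat.card ↥Q = 2 ^ (2 * w + 1)) (g : G) (hg : g ∉ Subgroup.normalizer (((Subgroup.center ↥Q).map Q.subtype) : Set G)) (hZg : (((Subgroup.center ↥Q).map Q.subtype)).map (MulAut.conj g).toMonoidHom ≤ Q) : ((Subgroup.center ↥Q).map Q.subtype) ≤ (Q).map (MulAut.conj g).toMonoidHom ∧ (Subgroup.centralizer ((((Subgroup.center ↥Q).map Q.subtype) ⊔ (((Subgroup.center ↥Q).map Q.subtype)).map (MulAut.conj g).toMonoidHom : Subgroup G) : Set G)).relIndex (Subgroup.normalizer ((((Subgroup.center ↥Q).map Q.subtype) ⊔ (((Subgroup.center ↥Q).map Q.subtype)).map (MulAut.conj g).toMonoidHom : Subgroup G) : Set G)) = 6 ∧ Cfsg.IsLargeExtraspecial Q := by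
  classical
  have : Fact (Nat.Prime 2) := ⟨Nat.prime_two⟩
  have hL1' := hL1
  obtain ⟨⟨hQp, -, hcomm⟩, hcard2⟩ := hL1
  -- the central involution
  have hex : ∃ z₀ : Q, z₀ ∈ Subgroup.center Q ∧ z₀ ≠ 1 ∧
      ∀ y ∈ Subgroup.center Q, y = 1 ∨ y = z₀ := by
    rw [Nat.card_eq_two_iff' (1 : Subgroup.center Q)] at hcard2
    obtain ⟨y, hy, hyuniq⟩ := hcard2
    refine ⟨y, y.2, fun h => hy (Subtype.ext h), fun w hw => ?_⟩
    by_cases hw1 : w = 1
    · exact Or.inl hw1
    · right
      have := hyuniq ⟨w, hw⟩ (fun h => hw1 (congrArg Subtype.val h))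
      exact congrArg Subtype.val this
  obtain ⟨z₀, hz₀c, hz₀ne, hz₀u⟩ := hex
  have hz₀sq : z₀ * z₀ = 1 := by
    rcases hz₀u (z₀ * z₀) (Subgroup.mul_mem _ hz₀c hz₀c) with h | h
    · exact h
    · exfalso
      apply hz₀ne
      have : z₀ * z₀ = z₀ * 1 := by rw [mul_one]; exact h
      exact mul_left_cancel this
  obtain ⟨z, hzdef⟩ : ∃ z : G, z = (z₀ : G) := ⟨_, rfl⟩
  have hzne : z ≠ 1 := by
    rw [hzdef]; exact fun h => hz₀ne (Subtype.ext h)
  have hzsq : z * z = 1 := by
    rw [hzdef]; exact congrArg Subtype.val hz₀sq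
  have hzQ : z ∈ Q := by rw [hzdef]; exact z₀.2
  have hZmem : ∀ x : G, x ∈ (Subgroup.center Q).map Q.subtype ↔ x = 1 ∨ x = z := by
    intro x
    constructor
    · rintro ⟨y, hy, rfl⟩
      rcases hz₀u y hy with h | h
      · left; rw [h]; rfl
      · right; rw [h, hzdef]; rfl
    · rintro (h1 | h1)
      · rw [h1]; exact Subgroup.one_mem _
      · rw [h1, hzdef]; exact ⟨z₀, hz₀c, rfl⟩
  have hzcomm : ∀ q ∈ Q, q * z = z * q := by
    intro q hq
    have := (Subgroup.mem_center_iff.mp hz₀c) ⟨q, hq⟩
    rw [hzdef]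
    exact congrArg Subtype.val this
  have hES : ES2 Q z :=
    { zQ := hzQ
      z1 := hzne
      zsq := hzsq
      comm := by
        intro a ha b hb
        have hc : ⁅(⟨a, ha⟩ : Q), ⟨b, hb⟩⁆ ∈ Subgroup.center Q := by
          rw [← hcomm, commutator_def]
          exact Subgroup.commutator_mem_commutator (Subgroup.mem_top _) (Subgroup.mem_top _)
        rcases hz₀u _ hc with h | h
        · left
          have h2 := congrArg Subtype.val h
          rw [commutatorElement_def] at h2
          simpa using h2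
        · right
          have h2 := congrArg Subtype.val h
          rw [commutatorElement_def] at h2
          rw [hzdef]
          simpa using h2
      cen := by
        intro c hc
        have : c ∈ Subgroup.centralizer (Q : Set G) := by
          rw [Subgroup.mem_centralizer_iff]
          exact fun a ha => hc a ha
        rw [hL2] at this
        exact (hZmem c).mp this
      zc := hzcomm
      nor := by
        intro c hc a ha
        have hcZ : c ∈ Subgroup.centralizer
            (((Subgroup.center Q).map Q.subtype : Subgroup G) : Set G) := by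
          rw [Subgroup.mem_centralizer_iff]
          intro y hy
          rcases (hZmem y).mp hy with h1 | h1
          · rw [h1, one_mul, mul_one]
          · rw [h1]; exact hc.symm
        have := hL3 hcZ
        exact (Subgroup.mem_normalizer_iff.mp this a).mp ha }
  -- centralizers in `Q` are nonabelian
  have hwid : ∀ s ∈ Q, ∃ a ∈ Q, ∃ b ∈ Q, a * s = s * a ∧ b * s = s * b ∧ a * b ≠ b * a := by
    intro s hsQ
    by_contra hcon
    push Not at hcon
    have hCP := Cfsg.Agent.Lib.Helper27.commP_of_isExtraspecial hL1'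
    have hmemU : ∀ a : G, a ∈ Q ⊓ Subgroup.centralizer ({s} : Set G) ↔ a ∈ Q ∧ a * s = s * a := by
      intro a
      rw [Subgroup.mem_inf, Subgroup.mem_centralizer_iff]
      constructor
      · rintro ⟨h1, h2⟩
        exact ⟨h1, (h2 s (Set.mem_singleton s)).symm⟩
      · rintro ⟨h1, h2⟩
        refine ⟨h1, fun h hh => ?_⟩
        rw [Set.mem_singleton_iff.mp hh]
        exact h2.symm
    have hidx := hCP.index_center_le (R := Q ⊓ Subgroup.centralizer ({s} : Set G)) inf_le_left
      (fun a ha b hb => hcon a ((hmemU a).mp ha).1 b ((hmemU b).mp hb).1 ((hmemU a).mp ha).2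
        ((hmemU b).mp hb).2)
      (y := s) ((hmemU s).mpr ⟨hsQ, rfl⟩) (fun a ha has => (hmemU a).mpr ⟨ha, has⟩)
    have h8 : Nat.card Q ≤ 8 := by
      rw [← Subgroup.card_mul_index (Subgroup.center ↥Q), hcard2]
      calc 2 * (Subgroup.center ↥Q).index ≤ 2 * 2 ^ 2 := Nat.mul_le_mul_left _ hidx
        _ = 8 := by norm_num
    have h32 : 32 ≤ 2 ^ (2 * w + 1) := by
      calc 32 = 2 ^ 5 := by norm_num
        _ ≤ 2 ^ (2 * w + 1) := Nat.pow_le_pow_right (by norm_num) (by omega)
    rw [hcard] at h8
    exact absurd (le_trans h32 h8) (by norm_num)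
  -- the conjugate `s` of `z`
  obtain ⟨s, hsdef⟩ : ∃ s, s = g * z * g⁻¹ := ⟨_, rfl⟩
  have hsQ : s ∈ Q := by
    apply hZg
    rw [hsdef]
    exact ⟨z, (hZmem z).mpr (Or.inr rfl), rfl⟩
  have hsz : s ≠ z := by
    intro heq
    apply hg
    rw [Subgroup.mem_normalizer_iff]
    intro n
    simp only [hZmem]
    have hgz : g * z * g⁻¹ = z := by rw [← hsdef]; exact heq
    constructor
    · rintro (h1 | h1)
      · left; rw [h1]; group
      · right; rw [h1]; exact hgz
    · rintro (h1 | h1)
      · left
        calc n = g⁻¹ * (g * n * g⁻¹) * g := by group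
          _ = 1 := by rw [h1]; group
      · right
        calc n = g⁻¹ * (g * n * g⁻¹) * g := by group
          _ = g⁻¹ * (g * z * g⁻¹) * g := by rw [h1, hgz]
          _ = z := by group
  -- (1)
  have hzQs : z ∈ Q.map (MulAut.conj g).toMonoidHom := by
    apply hES.center_mem_conj hwid g
    · rw [← hsdef]; exact hsQ
    · rw [← hsdef]; exact hsz
  have h1 : (Subgroup.center ↥Q).map Q.subtype ≤ Q.map (MulAut.conj g).toMonoidHom := by
    intro y hy
    rcases (hZmem y).mp hy with h | h
    · rw [h]; exact Subgroup.one_mem _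
    · rw [h]; exact hzQs
  have hs := hES.conj g
  rw [← hsdef] at hs
  refine ⟨h1, ?_, ?_⟩
  · -- (2)
    obtain ⟨x, hxQs, hxz⟩ := hs.exists_conj hzQs hzne (Ne.symm hsz)
    have hxs : x * s * x⁻¹ = s := by rw [hs.zc x hxQs]; group
    obtain ⟨t, htQ, hts⟩ := hES.exists_conj hsQ hs.z1 hsz
    have htz : t * z * t⁻¹ = z := by rw [hES.zc t htQ]; group
    have htt := hES.sq_mem htQ
    have hczs : z * s = s * z := (hES.zc s hsQ).symm
    have h6 := relIndex_six hzsq hs.zsq hczs hzne hs.z1 (Ne.symm hsz) hxz hxs htz hts htt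
    have hgs : (MulAut.conj g).toMonoidHom z = s := by rw [hsdef]; rfl
    have hVeq : (Subgroup.center ↥Q).map Q.subtype ⊔
        ((Subgroup.center ↥Q).map Q.subtype).map (MulAut.conj g).toMonoidHom =
        fourGroup z s hzsq hs.zsq hczs := by
      apply le_antisymm
      · apply sup_le
        · intro y hy
          rcases (hZmem y).mp hy with h | h
          · rw [h]; exact Subgroup.one_mem _
          · rw [h]; exact mem_fourGroup.mpr (Or.inr (Or.inl rfl))
        · rintro _ ⟨y, hy, rfl⟩
          rcases (hZmem y).mp hy with h | h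
          · rw [h, map_one]; exact Subgroup.one_mem _
          · rw [h, hgs]; exact mem_fourGroup.mpr (Or.inr (Or.inr (Or.inl rfl)))
      · intro v hv
        have hz1 : z ∈ (Subgroup.center ↥Q).map Q.subtype ⊔
            ((Subgroup.center ↥Q).map Q.subtype).map (MulAut.conj g).toMonoidHom :=
          Subgroup.mem_sup_left ((hZmem z).mpr (Or.inr rfl))
        have hs1 : s ∈ (Subgroup.center ↥Q).map Q.subtype ⊔
            ((Subgroup.center ↥Q).map Q.subtype).map (MulAut.conj g).toMonoidHom :=
          Subgroup.mem_sup_right ⟨z, (hZmem z).mpr (Or.inr rfl), hgs⟩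
        rcases mem_fourGroup.mp hv with h | h | h | h
        · rw [h]; exact Subgroup.one_mem _
        · rw [h]; exact hz1
        · rw [h]; exact hs1
        · rw [h]; exact Subgroup.mul_mem _ hz1 hs1
    rw [hVeq]
    exact h6
  · -- (3)
    have hbZ : s ∉ (Subgroup.center ↥Q).map Q.subtype := by
      intro h
      rcases (hZmem s).mp h with h2 | h2
      · exact hs.z1 h2
      · exact hsz h2
    have hb : orderOf s = 2 := orderOf_eq_prime (by rw [pow_two]; exact hs.zsq) hs.z1
    refine Cfsg.Agent.S5421.result Q hL1' hL2 hL3 s hsQ hbZ hb ?_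
    intro y hy
    have hCs : ∀ q ∈ Q.map (MulAut.conj g).toMonoidHom,
        q ∈ Subgroup.centralizer ({s} : Set G) := by
      intro q hq
      rw [Subgroup.mem_centralizer_iff]
      intro h hh
      rw [Set.mem_singleton_iff.mp hh]
      exact (hs.zc q hq).symm
    have hNn : ((Q.map (MulAut.conj g).toMonoidHom).subgroupOf
        (Subgroup.centralizer ({s} : Set G))).Normal := by
      constructor
      intro n hn c
      rw [Subgroup.mem_subgroupOf] at hn ⊢
      have hcs : (c : G) * s = s * c :=
        (Subgroup.mem_centralizer_iff.mp c.2 s (Set.mem_singleton s)).symm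
      exact hs.nor c hcs n hn
    have hNp : IsPGroup 2 ((Q.map (MulAut.conj g).toMonoidHom).subgroupOf
        (Subgroup.centralizer ({s} : Set G))) := (hQp.map _).comap_subtype
    have hle := Cfsg.Agent.Lib.Helper1.le_pCore hNn hNp
    have hyQs : y ∈ Q.map (MulAut.conj g).toMonoidHom := h1 hy
    exact ⟨⟨y, hCs y hyQs⟩, hle (Subgroup.mem_subgroupOf.mpr hyQs), rfl⟩

end Cfsg.Agent.S5422
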