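import Cfsg.Statements.S5424
import Cfsg.Agent.S5423
import Cfsg.Agent.S5422
import Cfsg.Agent.Lib.Helper16.PCore
import Mathlib

set_option autoImplicit false
open Cfsg

namespace Cfsg.Agent.S5424

/-! ### generic transport lemmas -/

section Generic

theorem pCore_map_le {p : ℕ} {G₁ G₂ : Type*} [Group G₁] [Group G₂] (e : G₁ ≃* G₂) :
    (Cfsg.pCore p G₁).map e.toMonoidHom ≤ Cfsg.pCore p G₂ := by
  rw [Subgroup.map_le_iff_le_comap]
  unfold Cfsg.pCore
  apply sSup_le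
  rintro N ⟨hN, hpN⟩
  rw [← Subgroup.map_le_iff_le_comap]
  exact le_sSup ⟨hN.map e.toMonoidHom e.surjective, hpN.map e.toMonoidHom⟩

theorem pCore_map_equiv {p : ℕ} {G₁ G₂ : Type*} [Group G₁] [Group G₂] (e : G₁ ≃* G₂) :
    (Cfsg.pCore p G₁).map e.toMonoidHom = Cfsg.pCore p G₂ := by
  apply le_antisymm (pCore_map_le e)
  intro y hy
  have h1 : e.symm y ∈ Cfsg.pCore p G₁ :=
    pCore_map_le e.symm (Subgroup.mem_map_of_mem e.symm.toMonoidHom hy)
  exact Subgroup.mem_map.mpr ⟨e.symm y, h1, e.apply_symm_apply y⟩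

theorem map_commutator_le {A B : Type*} [Group A] [Group B] (f : A →* B) :
    (commutator A).map f ≤ commutator B := by
  rw [commutator_def, commutator_def, Subgroup.map_commutator]
  exact Subgroup.commutator_mono le_top le_top

theorem isExtraspecial_of_equiv {p : ℕ} {P₁ P₂ : Type*} [Group P₁] [Group P₂] (e : P₁ ≃* P₂)
    (h : Cfsg.IsExtraspecial p P₁) : Cfsg.IsExtraspecial p P₂ := by
  have hcen : ∀ x : P₁, e x ∈ Subgroup.center P₂ ↔ x ∈ Subgroup.center P₁ := by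
    intro x
    rw [Subgroup.mem_center_iff, Subgroup.mem_center_iff]
    constructor
    · intro hx g
      apply e.injective
      rw [map_mul, map_mul]
      exact hx (e g)
    · intro hx g
      obtain ⟨g', rfl⟩ := e.surjective g
      rw [← map_mul, ← map_mul, hx g']
  have hfr : ∀ x : P₁, e x ∈ frattini P₂ ↔ x ∈ frattini P₁ := by
    intro x
    constructor
    · intro hx
      have h1 := frattini_le_comap_frattini_of_surjective (φ := e.symm.toMonoidHom)
        e.symm.surjective hx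
      rw [Subgroup.mem_comap] at h1
      have h2 : e.symm.toMonoidHom (e x) = x := e.symm_apply_apply x
      rwa [h2] at h1
    · intro hx
      exact frattini_le_comap_frattini_of_surjective (φ := e.toMonoidHom) e.surjective hx
  have hcm : ∀ x : P₁, e x ∈ commutator P₂ ↔ x ∈ commutator P₁ := by
    intro x
    constructor
    · intro hx
      have h1 := map_commutator_le e.symm.toMonoidHom
        (Subgroup.mem_map_of_mem e.symm.toMonoidHom hx)
      have h2 : e.symm.toMonoidHom (e x) = x := e.symm_apply_apply x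
      rwa [h2] at h1
    · intro hx
      exact map_commutator_le e.toMonoidHom (Subgroup.mem_map_of_mem e.toMonoidHom hx)
  obtain ⟨⟨hp, hfc, hcc⟩, hcard⟩ := h
  refine ⟨⟨hp.of_surjective e.toMonoidHom e.surjective, ?_, ?_⟩, ?_⟩
  · ext y
    obtain ⟨x, rfl⟩ := e.surjective y
    rw [hfr, hcen, hfc]
  · ext y
    obtain ⟨x, rfl⟩ := e.surjective y
    rw [hcm, hcen, hcc]
  · let eq : ↥(Subgroup.center P₁) ≃ ↥(Subgroup.center P₂) :=
      { toFun := fun c => ⟨e c.1, (hcen c.1).mpr c.2⟩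
        invFun := fun d => ⟨e.symm d.1, (hcen (e.symm d.1)).mp (by
          rw [e.apply_symm_apply]; exact d.2)⟩
        left_inv := fun c => Subtype.ext (e.symm_apply_apply c.1)
        right_inv := fun d => Subtype.ext (e.apply_symm_apply d.1) }
    rw [← Nat.card_congr eq]
    exact hcard

theorem zmod2_cases (x : ZMod 2) : x = 0 ∨ x = 1 := by
  revert x
  decide

theorem gl_equiv_sl (n : ℕ) :
    Nonempty (Matrix.GeneralLinearGroup (Fin n) (ZMod 2) ≃*
      Matrix.SpecialLinearGroup (Fin n) (ZMod 2)) := by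
  have hdet : ∀ g : Matrix.GeneralLinearGroup (Fin n) (ZMod 2),
      (g : Matrix (Fin n) (Fin n) (ZMod 2)).det = 1 := by
    intro g
    have h := congrArg Matrix.det (Units.mul_inv g)
    rw [Matrix.det_mul, Matrix.det_one] at h
    rcases zmod2_cases (g : Matrix (Fin n) (Fin n) (ZMod 2)).det with h0 | h1
    · rw [h0, zero_mul] at h
      exact absurd h (by decide)
    · exact h1
  have hinv : ∀ s : Matrix.SpecialLinearGroup (Fin n) (ZMod 2),
      (s : Matrix (Fin n) (Fin n) (ZMod 2)) *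
        ((s⁻¹ : Matrix.SpecialLinearGroup (Fin n) (ZMod 2)) : Matrix (Fin n) (Fin n) (ZMod 2))
        = 1 := by
    intro s
    rw [← Matrix.SpecialLinearGroup.coe_mul, mul_inv_cancel, Matrix.SpecialLinearGroup.coe_one]
  have hinv' : ∀ s : Matrix.SpecialLinearGroup (Fin n) (ZMod 2),
      ((s⁻¹ : Matrix.SpecialLinearGroup (Fin n) (ZMod 2)) : Matrix (Fin n) (Fin n) (ZMod 2)) *
        (s : Matrix (Fin n) (Fin n) (ZMod 2)) = 1 := by
    intro s
    rw [← Matrix.SpecialLinearGroup.coe_mul, inv_mul_cancel, Matrix.SpecialLinearGroup.coe_one]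
  exact ⟨{ toFun := fun g => ⟨(g : Matrix (Fin n) (Fin n) (ZMod 2)), hdet g⟩
           invFun := fun s => ⟨s.1, (s⁻¹).1, hinv s, hinv' s⟩
           left_inv := fun g => Units.ext rfl
           right_inv := fun s => Subtype.ext rfl
           map_mul' := fun g h => Subtype.ext rfl }⟩

instance finSL (m : ℕ) : Finite (Matrix.SpecialLinearGroup (Fin m) (ZMod 2)) := by
  haveI : Finite (Matrix (Fin m) (Fin m) (ZMod 2)) :=
    inferInstanceAs (Finite (Fin m → Fin m → ZMod 2))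
  exact Finite.of_injective (fun g => (g : Matrix (Fin m) (Fin m) (ZMod 2)))
    (fun _ _ h => Subtype.ext h)

end Generic

/-! ### the abstract transfer from a subgroup `P` containing the centralizer -/

section Transfer

theorem transfer {G : Type*} [Group G] [Finite G] (P : Subgroup G) (n : ℕ) (hn : 2 ≤ n)
    (U M : Subgroup ↥P) [U.Normal] (hU : Cfsg.IsElementaryAbelian 2 U)
    (hUcard : Nat.card ↥U = 2 ^ (n + 1)) (hUM : U ⊓ M = ⊥) (hUM' : U ⊔ M = ⊤)
    (hfaith : ∀ m ∈ M, (∀ u ∈ U, m * u * m⁻¹ = u) → m = 1)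
    (hfull : ∀ φ : ↥U ≃* ↥U, ∃ m ∈ M, ∀ u : ↥U, ((φ u : ↥U) : ↥P) = m * u * m⁻¹)
    (z : G) (hzP : z ∈ P) (hzU : (⟨z, hzP⟩ : ↥P) ∈ U) (hz1 : z ≠ 1)
    (hcent : ∀ g : G, g * z = z * g → g ∈ P)
    (Q : Subgroup G)
    (hQ : Q = (Cfsg.pCore 2 ↥(Subgroup.centralizer ({z} : Set G))).map
      (Subgroup.centralizer ({z} : Set G)).subtype) :
    Cfsg.IsExtraspecial 2 ↥Q ∧ Nat.card ↥Q = 2 ^ (2 * n + 1) ∧
      (∃ E : Subgroup G, E ≤ Q ∧ Cfsg.IsElementaryAbelian 2 E ∧ Nat.card ↥E = 2 ^ (n + 1)) ∧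
      Cfsg.IsLargeExtraspecial Q ∧
      ∃ K : Subgroup G, K ≤ Subgroup.centralizer ({z} : Set G) ∧ Q ⊓ K = ⊥ ∧
        Q ⊔ K = Subgroup.centralizer ({z} : Set G) ∧
        Nonempty (↥K ≃* Matrix.GeneralLinearGroup (Fin n) (ZMod 2)) := by
  classical
  set C : Subgroup G := Subgroup.centralizer ({z} : Set G) with hCdef
  have hιinj : Function.Injective P.subtype := P.subtype_injective
  have hc' : ∀ a b : ↥U, a * b = b * a := fun a b => hU.1.is_comm.comm a b
  have h2' : ∀ a : ↥U, a * a = 1 := fun a => Subtype.ext (by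
    have h := hU.2 a.1 a.2
    rw [pow_two] at h
    exact h)
  obtain ⟨z', hz'val⟩ : ∃ z' : ↥P, (z' : G) = z := ⟨⟨z, hzP⟩, rfl⟩
  have hz'U : z' ∈ U := by
    have h : z' = ⟨z, hzP⟩ := Subtype.ext hz'val
    rw [h]
    exact hzU
  have hz'2 : z' * z' = 1 := by
    have h := hU.2 z' hz'U
    rw [pow_two] at h
    exact h
  have hz'1 : z' ≠ 1 := by
    intro h
    have h' : (z' : G) = ((1 : ↥P) : G) := congrArg Subtype.val h
    rw [hz'val] at h'
    exact hz1 h'
  let Z' : Subgroup ↥P := S5423.pairSub z' hz'2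
  have memZ' : ∀ x : ↥P, x ∈ Z' ↔ x = 1 ∨ x = z' := fun x => S5423.mem_pairSub
  have hZ'U : Z' ≤ U := by
    intro x hx
    rcases (memZ' x).mp hx with h | h
    · rw [h]
      exact U.one_mem
    · rw [h]
      exact hz'U
  have hZ'card : Nat.card ↥Z' = 2 := by
    rw [Nat.card_eq_two_iff' (1 : ↥Z')]
    refine ⟨⟨z', (memZ' z').mpr (Or.inr rfl)⟩, ?_, ?_⟩
    · intro h
      exact hz'1 (congrArg Subtype.val h)
    · intro y hy
      rcases (memZ' y.1).mp y.2 with h | h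
      · exact absurd (Subtype.ext h) hy
      · exact Subtype.ext h
  set C' : Subgroup ↥P := Subgroup.centralizer (Z' : Set ↥P) with hC'def
  set Q' : Subgroup ↥P := (Cfsg.pCore 2 ↥C').map C'.subtype with hQ'def
  have hmain : Cfsg.IsExtraspecial 2 ↥Q' ∧ Nat.card ↥Q' = 2 ^ (2 * n + 1) ∧
      (∃ E : Subgroup ↥P, E ≤ Q' ∧ Cfsg.IsElementaryAbelian 2 E ∧ Nat.card ↥E = 2 ^ (n + 1)) ∧
      Cfsg.IsLargeExtraspecial Q' ∧
      ∃ K : Subgroup ↥P, K ≤ C' ∧ Q' ⊓ K = ⊥ ∧ Q' ⊔ K = C' ∧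
        Nonempty (↥K ≃* Matrix.GeneralLinearGroup (Fin n) (ZMod 2)) :=
    S5423.result (G := ↥P) n (by omega) U M hU hUcard hUM hUM' hfaith hfull Z' hZ'U hZ'card
      Q' hQ'def
  obtain ⟨hES', hcard', ⟨E', hE'Q, hE'ea, hE'card⟩, hLarge', K', hK'C, hQK', hQK'sup, ⟨eK'⟩⟩ :=
    hmain
  obtain ⟨-, hL2', -, -⟩ := hLarge'
  -- membership in the two centralizers
  have memC : ∀ g : G, g ∈ C ↔ g * z = z * g := by
    intro g
    rw [hCdef, Subgroup.mem_centralizer_iff]
    constructor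
    · intro h
      exact (h z (Set.mem_singleton z)).symm
    · intro h y hy
      rw [Set.mem_singleton_iff] at hy
      rw [hy]
      exact h.symm
  have memC' : ∀ x : ↥P, x ∈ C' ↔ x * z' = z' * x := by
    intro x
    rw [hC'def, Subgroup.mem_centralizer_iff]
    constructor
    · intro h
      exact (h z' ((memZ' z').mpr (Or.inr rfl))).symm
    · intro h y hy
      rcases (memZ' y).mp hy with h1 | h1
      · rw [h1, one_mul, mul_one]
      · rw [h1]
        exact h.symm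
  have hCP : C ≤ P := fun g hg => hcent g ((memC g).mp hg)
  have hCC' : ∀ x : ↥P, (x : G) ∈ C ↔ x ∈ C' := by
    intro x
    rw [memC, memC', ← hz'val]
    constructor
    · intro h
      exact Subtype.ext h
    · intro h
      exact congrArg Subtype.val h
  have hCmap : C'.map P.subtype = C := by
    ext g
    rw [Subgroup.mem_map]
    constructor
    · rintro ⟨x, hx, rfl⟩
      exact (hCC' x).mpr hx
    · intro hg
      exact ⟨⟨g, hCP hg⟩, (hCC' ⟨g, hCP hg⟩).mp hg, rfl⟩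
  let e : ↥C' ≃* ↥C :=
    { toFun := fun x => ⟨((x : ↥P) : G), (hCC' x.1).mpr x.2⟩
      invFun := fun y => ⟨⟨(y : G), hCP y.2⟩, (hCC' ⟨(y : G), hCP y.2⟩).mp y.2⟩
      left_inv := fun x => rfl
      right_inv := fun y => rfl
      map_mul' := fun x y => Subtype.ext rfl }
  have hcomp : C.subtype.comp e.toMonoidHom = P.subtype.comp C'.subtype :=
    MonoidHom.ext (fun x => rfl)
  have hQeq : (Cfsg.pCore 2 ↥C).map C.subtype = Q'.map P.subtype := by
    rw [hQ'def, ← pCore_map_equiv e, Subgroup.map_map, Subgroup.map_map, hcomp]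
  have hQ2 : Q = Q'.map P.subtype := hQ.trans hQeq
  subst hQ2
  have hQ'C' : Q' ≤ C' := by
    rw [hQ'def]
    exact Subgroup.map_subtype_le _
  have hQGC : Q'.map P.subtype ≤ C := by
    rw [← hCmap]
    exact Subgroup.map_mono hQ'C'
  -- (1), (2)
  have hES : Cfsg.IsExtraspecial 2 ↥(Q'.map P.subtype) :=
    isExtraspecial_of_equiv (Subgroup.equivMapOfInjective Q' P.subtype hιinj) hES'
  have hcardQG : Nat.card ↥(Q'.map P.subtype) = 2 ^ (2 * n + 1) :=
    (Nat.card_congr (Subgroup.equivMapOfInjective Q' P.subtype hιinj).toEquiv).symm.trans hcard'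
  -- (3)
  have hEea : Cfsg.IsElementaryAbelian 2 (E'.map P.subtype) := by
    constructor
    · refine ⟨⟨fun a b => ?_⟩⟩
      obtain ⟨a', ha', haa⟩ := Subgroup.mem_map.mp a.2
      obtain ⟨b', hb', hbb⟩ := Subgroup.mem_map.mp b.2
      have hcomm : (⟨a', ha'⟩ : ↥E') * ⟨b', hb'⟩ = ⟨b', hb'⟩ * ⟨a', ha'⟩ :=
        hE'ea.1.is_comm.comm _ _
      have hcomm' : a' * b' = b' * a' := congrArg Subtype.val hcomm
      apply Subtype.ext
      show (a : G) * (b : G) = (b : G) * (a : G)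
      rw [← haa, ← hbb, ← map_mul, ← map_mul, hcomm']
    · intro a ha
      obtain ⟨a', ha', rfl⟩ := Subgroup.mem_map.mp ha
      rw [← map_pow, hE'ea.2 a' ha', map_one]
  have hEcard : Nat.card ↥(E'.map P.subtype) = 2 ^ (n + 1) :=
    (Nat.card_congr (Subgroup.equivMapOfInjective E' P.subtype hιinj).toEquiv).symm.trans hE'card
  -- `U ≤ Q'`
  have hU2 : IsPGroup 2 ↥U := IsPGroup.of_card hUcard
  have hUC' : U ≤ C' := by
    intro x hx
    rw [memC']
    exact congrArg Subtype.val (hc' ⟨x, hx⟩ ⟨z', hz'U⟩)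
  have hUQ' : U ≤ Q' := by
    intro x hx
    have h1 : U.subgroupOf C' ≤ Cfsg.pCore 2 ↥C' :=
      Cfsg.Agent.Lib.Helper16.le_pCore (U.subgroupOf C') inferInstance hU2.comap_subtype
    have h2 : (⟨x, hUC' hx⟩ : ↥C') ∈ U.subgroupOf C' := Subgroup.mem_subgroupOf.mpr hx
    rw [hQ'def]
    exact Subgroup.mem_map.mpr ⟨⟨x, hUC' hx⟩, h1 h2, rfl⟩
  have hzQG : z ∈ Q'.map P.subtype := Subgroup.mem_map.mpr ⟨z', hUQ' hz'U, hz'val⟩
  -- the centre of `Q`
  have hzc : (⟨z, hzQG⟩ : ↥(Q'.map P.subtype)) ∈ Subgroup.center ↥(Q'.map P.subtype) := by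
    rw [Subgroup.mem_center_iff]
    intro y
    apply Subtype.ext
    exact (memC y.1).mp (hQGC y.2)
  have hcen2 : ∀ c : ↥(Subgroup.center ↥(Q'.map P.subtype)),
      c = 1 ∨ c = ⟨⟨z, hzQG⟩, hzc⟩ := by
    obtain ⟨w, hw1, hwuniq⟩ :=
      (Nat.card_eq_two_iff' (1 : ↥(Subgroup.center ↥(Q'.map P.subtype)))).mp hES.2
    have hzw : (⟨⟨z, hzQG⟩, hzc⟩ : ↥(Subgroup.center ↥(Q'.map P.subtype))) = w := by
      apply hwuniq
      intro h
      apply hz1
      exact congrArg (fun c : ↥(Subgroup.center ↥(Q'.map P.subtype)) =>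
        ((c : ↥(Q'.map P.subtype)) : G)) h
    intro c
    by_cases hc : c = 1
    · exact Or.inl hc
    · right
      rw [hzw]
      exact hwuniq c hc
  have memZQ : ∀ g : G,
      g ∈ (Subgroup.center ↥(Q'.map P.subtype)).map (Q'.map P.subtype).subtype →
      g = 1 ∨ g = z := by
    intro g hg
    obtain ⟨c, hc, rfl⟩ := Subgroup.mem_map.mp hg
    rcases hcen2 ⟨c, hc⟩ with h | h
    · left
      exact congrArg (fun c : ↥(Subgroup.center ↥(Q'.map P.subtype)) =>
        ((c : ↥(Q'.map P.subtype)) : G)) h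
    · right
      exact congrArg (fun c : ↥(Subgroup.center ↥(Q'.map P.subtype)) =>
        ((c : ↥(Q'.map P.subtype)) : G)) h
  have hzZQ : z ∈ (Subgroup.center ↥(Q'.map P.subtype)).map (Q'.map P.subtype).subtype :=
    Subgroup.mem_map.mpr ⟨⟨z, hzQG⟩, hzc, rfl⟩
  -- hL2
  have hL2 : Subgroup.centralizer ((Q'.map P.subtype : Subgroup G) : Set G) =
      (Subgroup.center ↥(Q'.map P.subtype)).map (Q'.map P.subtype).subtype := by
    ext g
    constructor
    · intro hg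
      have hgz : z * g = g * z := Subgroup.mem_centralizer_iff.mp hg z hzQG
      have hgP : g ∈ P := hcent g hgz.symm
      have hg' : (⟨g, hgP⟩ : ↥P) ∈ Subgroup.centralizer (Q' : Set ↥P) := by
        rw [Subgroup.mem_centralizer_iff]
        intro q hq
        apply Subtype.ext
        exact Subgroup.mem_centralizer_iff.mp hg q.1 (Subgroup.mem_map_of_mem P.subtype hq)
      rw [hL2'] at hg'
      obtain ⟨c, -, hcg⟩ := Subgroup.mem_map.mp hg'
      have hgQ' : (⟨g, hgP⟩ : ↥P) ∈ Q' := by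
        rw [← hcg]
        exact c.2
      have hgQG : g ∈ Q'.map P.subtype := Subgroup.mem_map.mpr ⟨⟨g, hgP⟩, hgQ', rfl⟩
      refine Subgroup.mem_map.mpr ⟨⟨g, hgQG⟩, ?_, rfl⟩
      rw [Subgroup.mem_center_iff]
      intro y
      apply Subtype.ext
      exact Subgroup.mem_centralizer_iff.mp hg y.1 y.2
    · intro hg
      obtain ⟨c, hc, rfl⟩ := Subgroup.mem_map.mp hg
      rw [Subgroup.mem_centralizer_iff]
      intro h hh
      have h3 := Subgroup.mem_center_iff.mp hc ⟨h, hh⟩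
      exact congrArg Subtype.val h3
  -- normality of `Q` in `C`
  have hnormC : ∀ h ∈ C, ∀ q ∈ Q'.map P.subtype, h * q * h⁻¹ ∈ Q'.map P.subtype := by
    intro h hh q hq
    rw [← hQeq] at hq ⊢
    obtain ⟨q0, hq0, rfl⟩ := Subgroup.mem_map.mp hq
    have hN : (Cfsg.pCore 2 ↥C).Normal := Cfsg.Agent.Lib.Helper16.pCore_normal
    exact Subgroup.mem_map.mpr ⟨⟨h, hh⟩ * q0 * ⟨h, hh⟩⁻¹, hN.conj_mem q0 hq0 ⟨h, hh⟩, rfl⟩
  have hL3 : Subgroup.centralizer
      (((Subgroup.center ↥(Q'.map P.subtype)).map (Q'.map P.subtype).subtype : Subgroup G) : Set G)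
      ≤ Subgroup.normalizer ((Q'.map P.subtype : Subgroup G) : Set G) := by
    intro h hh
    have hhz : z * h = h * z := Subgroup.mem_centralizer_iff.mp hh z hzZQ
    have hhC : h ∈ C := (memC h).mpr hhz.symm
    rw [Subgroup.mem_normalizer_iff]
    intro q
    constructor
    · intro hq
      exact hnormC h hhC q hq
    · intro hq
      have h3 := hnormC h⁻¹ (C.inv_mem hhC) _ hq
      have e1 : h⁻¹ * (h * q * h⁻¹) * h⁻¹⁻¹ = q := by group
      rwa [e1] at h3
  -- a conjugate of `z` in `Q` different from `z`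
  obtain ⟨t', ht'U, ht'1, ht'z⟩ : ∃ t' : ↥P, t' ∈ U ∧ t' ≠ 1 ∧ t' ≠ z' := by
    by_contra hcon
    push Not at hcon
    have hle : U ≤ Z' := by
      intro x hx
      by_cases h1 : x = 1
      · rw [h1]
        exact Z'.one_mem
      · exact (memZ' x).mpr (Or.inr (hcon x hx h1))
    have h3 := Subgroup.card_le_of_le hle
    rw [hUcard, hZ'card] at h3
    have h4 : 2 ^ 2 ≤ 2 ^ (n + 1) := Nat.pow_le_pow_right (by norm_num) (by omega)
    exact absurd (le_trans h4 h3) (by norm_num)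
  obtain ⟨σ, hσ⟩ := S5423.exists_aut_map hc' h2' (⟨z', hz'U⟩ : ↥U) ⟨t', ht'U⟩
    (fun h => hz'1 (congrArg Subtype.val h)) (fun h => ht'1 (congrArg Subtype.val h))
  obtain ⟨m, hmM, hm⟩ := hfull σ
  have hmz : (t' : ↥P) = m * z' * m⁻¹ := by
    have h3 := hm ⟨z', hz'U⟩
    rw [hσ] at h3
    exact h3
  have hg0 : (m : G) * z * (m : G)⁻¹ = (t' : G) := by
    rw [← hz'val]
    exact (congrArg Subtype.val hmz).symm
  have ht'G1 : (t' : G) ≠ 1 := fun h => ht'1 (Subtype.ext h)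
  have ht'Gz : (t' : G) ≠ z := fun h => ht'z (Subtype.ext (h.trans hz'val.symm))
  have ht'QG : (t' : G) ∈ Q'.map P.subtype := Subgroup.mem_map.mpr ⟨t', hUQ' ht'U, rfl⟩
  have hg : (m : G) ∉ Subgroup.normalizer
      (((Subgroup.center ↥(Q'.map P.subtype)).map (Q'.map P.subtype).subtype : Subgroup G) :
        Set G) := by
    intro hmem
    rw [Subgroup.mem_normalizer_iff] at hmem
    have h1 := (hmem z).mp hzZQ
    rw [hg0] at h1
    rcases memZQ _ h1 with h | h
    · exact ht'G1 h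
    · exact ht'Gz h
  have hZg : ((Subgroup.center ↥(Q'.map P.subtype)).map (Q'.map P.subtype).subtype).map
      (MulAut.conj (m : G)).toMonoidHom ≤ Q'.map P.subtype := by
    intro y hy
    obtain ⟨x, hx, rfl⟩ := Subgroup.mem_map.mp hy
    show (m : G) * x * (m : G)⁻¹ ∈ Q'.map P.subtype
    rcases memZQ x hx with h | h
    · rw [h, mul_one, mul_inv_cancel]
      exact Subgroup.one_mem _
    · rw [h, hg0]
      exact ht'QG
  have hLargeG : Cfsg.IsLargeExtraspecial (Q'.map P.subtype) :=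
    (S5422.result (Q'.map P.subtype) hES hL2 hL3 n hn hcardQG (m : G) hg hZg).2.2
  refine ⟨hES, hcardQG, ⟨E'.map P.subtype, Subgroup.map_mono hE'Q, hEea, hEcard⟩, hLargeG,
    K'.map P.subtype, ?_, ?_, ?_,
    ⟨(Subgroup.equivMapOfInjective K' P.subtype hιinj).symm.trans eK'⟩⟩
  · rw [← hCmap]
    exact Subgroup.map_mono hK'C
  · rw [← Subgroup.map_inf _ _ P.subtype hιinj, hQK', Subgroup.map_bot]
  · rw [← Subgroup.map_sup, hQK'sup, hCmap]

end Transfer

/-! ### the matrix layer -/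

section Mat

variable {N : ℕ}

/-- block matrix `[[1, a], [0, A]]` -/
def blk (a : Fin N → ZMod 2) (A : Matrix (Fin N) (Fin N) (ZMod 2)) :
    Matrix (Fin (N + 1)) (Fin (N + 1)) (ZMod 2) :=
  Matrix.of (Matrix.vecCons (Matrix.vecCons (1 : ZMod 2) a)
    (fun i => Matrix.vecCons (0 : ZMod 2) (A i)))

theorem blk_00 (a : Fin N → ZMod 2) (A : Matrix (Fin N) (Fin N) (ZMod 2)) :
    blk a A 0 0 = 1 := by simp [blk]

theorem blk_0s (a : Fin N → ZMod 2) (A : Matrix (Fin N) (Fin N) (ZMod 2)) (j : Fin N) :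
    blk a A 0 j.succ = a j := by simp [blk]

theorem blk_s0 (a : Fin N → ZMod 2) (A : Matrix (Fin N) (Fin N) (ZMod 2)) (i : Fin N) :
    blk a A i.succ 0 = 0 := by simp [blk]

theorem blk_ss (a : Fin N → ZMod 2) (A : Matrix (Fin N) (Fin N) (ZMod 2)) (i j : Fin N) :
    blk a A i.succ j.succ = A i j := by simp [blk]

/-- right action of a matrix on a row vector -/
def rAct (a : Fin N → ZMod 2) (C : Matrix (Fin N) (Fin N) (ZMod 2)) : Fin N → ZMod 2 :=
  fun j => ∑ k, a k * C k j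

/-- a row of the identity matrix -/
def rowOne (i : Fin N) : Fin N → ZMod 2 :=
  fun k => (1 : Matrix (Fin N) (Fin N) (ZMod 2)) i k

theorem sum_mul_one_right (f : Fin N → ZMod 2) (j : Fin N) :
    ∑ k, f k * (1 : Matrix (Fin N) (Fin N) (ZMod 2)) k j = f j := by
  simp [Matrix.one_apply]

theorem sum_one_mul_left (f : Fin N → ZMod 2) (i : Fin N) :
    ∑ k, (1 : Matrix (Fin N) (Fin N) (ZMod 2)) i k * f k = f i := by
  simp [Matrix.one_apply]

theorem rAct_zero (C : Matrix (Fin N) (Fin N) (ZMod 2)) : rAct (0 : Fin N → ZMod 2) C = 0 := by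
  funext j
  simp [rAct]

theorem rAct_one (a : Fin N → ZMod 2) :
    rAct a (1 : Matrix (Fin N) (Fin N) (ZMod 2)) = a := by
  funext j
  exact sum_mul_one_right a j

theorem rAct_row (C : Matrix (Fin N) (Fin N) (ZMod 2)) (i : Fin N) :
    rAct (rowOne i) C = fun j => C i j := by
  funext j
  exact sum_one_mul_left (fun k => C k j) i

theorem blk_mul (a b : Fin N → ZMod 2) (A C : Matrix (Fin N) (Fin N) (ZMod 2)) :
    blk a A * blk b C = blk (b + rAct a C) (A * C) := by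
  ext i j
  refine Fin.cases ?_ (fun i' => ?_) i <;> refine Fin.cases ?_ (fun j' => ?_) j
  · rw [Matrix.mul_apply, Fin.sum_univ_succ]
    simp [blk_00, blk_0s, blk_s0, blk_ss]
  · rw [Matrix.mul_apply, Fin.sum_univ_succ]
    simp [blk_00, blk_0s, blk_s0, blk_ss, rAct]
  · rw [Matrix.mul_apply, Fin.sum_univ_succ]
    simp [blk_00, blk_0s, blk_s0, blk_ss]
  · rw [Matrix.mul_apply, Fin.sum_univ_succ]
    simp [blk_00, blk_0s, blk_s0, blk_ss, Matrix.mul_apply]

theorem one_succ (i j : Fin N) :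
    (1 : Matrix (Fin (N + 1)) (Fin (N + 1)) (ZMod 2)) i.succ j.succ =
      (1 : Matrix (Fin N) (Fin N) (ZMod 2)) i j := by
  by_cases h : i = j
  · subst h
    rw [Matrix.one_apply_eq, Matrix.one_apply_eq]
  · rw [Matrix.one_apply_ne h, Matrix.one_apply_ne (fun h' => h (Fin.succ_inj.mp h'))]

theorem blk_one : blk (0 : Fin N → ZMod 2) (1 : Matrix (Fin N) (Fin N) (ZMod 2)) = 1 := by
  ext i j
  refine Fin.cases ?_ (fun i' => ?_) i <;> refine Fin.cases ?_ (fun j' => ?_) j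
  · rw [blk_00, Matrix.one_apply_eq]
  · rw [Matrix.one_apply_ne (Fin.succ_ne_zero j').symm]
    exact blk_0s 0 1 j'
  · rw [blk_s0, Matrix.one_apply_ne (Fin.succ_ne_zero i')]
  · rw [blk_ss, one_succ]

theorem blk_inj {a b : Fin N → ZMod 2} {A C : Matrix (Fin N) (Fin N) (ZMod 2)}
    (h : blk a A = blk b C) : a = b ∧ A = C := by
  constructor
  · funext j
    have h1 := congrFun (congrFun h 0) j.succ
    rwa [blk_0s, blk_0s] at h1
  · ext i j
    have h1 := congrFun (congrFun h i.succ) j.succ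
    rwa [blk_ss, blk_ss] at h1

theorem det_blk (a : Fin N → ZMod 2) (A : Matrix.GeneralLinearGroup (Fin N) (ZMod 2)) :
    (blk a (A : Matrix (Fin N) (Fin N) (ZMod 2))).det = 1 := by
  have h : blk a (A : Matrix (Fin N) (Fin N) (ZMod 2)) *
      blk (- rAct a ((A⁻¹ : Matrix.GeneralLinearGroup (Fin N) (ZMod 2)) :
          Matrix (Fin N) (Fin N) (ZMod 2)))
        ((A⁻¹ : Matrix.GeneralLinearGroup (Fin N) (ZMod 2)) : Matrix (Fin N) (Fin N) (ZMod 2))
      = 1 := by
    rw [blk_mul, Units.mul_inv, neg_add_cancel, blk_one]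
  have hd := congrArg Matrix.det h
  rw [Matrix.det_mul, Matrix.det_one] at hd
  rcases zmod2_cases (blk a (A : Matrix (Fin N) (Fin N) (ZMod 2))).det with h0 | h1
  · rw [h0, zero_mul] at hd
    exact absurd hd (by decide)
  · exact h1

/-- the element `[[1, a], [0, A]]` of the special linear group -/
def bet (a : Fin N → ZMod 2) (A : Matrix.GeneralLinearGroup (Fin N) (ZMod 2)) :
    Matrix.SpecialLinearGroup (Fin (N + 1)) (ZMod 2) :=
  ⟨blk a (A : Matrix (Fin N) (Fin N) (ZMod 2)), det_blk a A⟩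

theorem bet_val (a : Fin N → ZMod 2) (A : Matrix.GeneralLinearGroup (Fin N) (ZMod 2)) :
    ((bet a A : Matrix.SpecialLinearGroup (Fin (N + 1)) (ZMod 2)) :
      Matrix (Fin (N + 1)) (Fin (N + 1)) (ZMod 2)) = blk a (A : Matrix (Fin N) (Fin N) (ZMod 2)) :=
  rfl

theorem bet_mul (a b : Fin N → ZMod 2) (A C : Matrix.GeneralLinearGroup (Fin N) (ZMod 2)) :
    bet a A * bet b C = bet (b + rAct a (C : Matrix (Fin N) (Fin N) (ZMod 2))) (A * C) := by
  apply Subtype.ext
  show blk a (A : Matrix (Fin N) (Fin N) (ZMod 2)) * blk b (C : Matrix (Fin N) (Fin N) (ZMod 2))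
    = blk (b + rAct a (C : Matrix (Fin N) (Fin N) (ZMod 2)))
      ((A : Matrix (Fin N) (Fin N) (ZMod 2)) * (C : Matrix (Fin N) (Fin N) (ZMod 2)))
  exact blk_mul a b _ _

/-- the stabilizer of the first basis vector: first column equal to that of the identity -/
def stabP (N : ℕ) : Subgroup (Matrix.SpecialLinearGroup (Fin (N + 1)) (ZMod 2)) where
  carrier := {g | ∀ i, (g : Matrix (Fin (N + 1)) (Fin (N + 1)) (ZMod 2)) i 0 =
    (1 : Matrix (Fin (N + 1)) (Fin (N + 1)) (ZMod 2)) i 0}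
  one_mem' := fun i => by rw [Matrix.SpecialLinearGroup.coe_one]
  mul_mem' := by
    intro g h hg hh i
    show ((g * h : Matrix.SpecialLinearGroup (Fin (N + 1)) (ZMod 2)) :
      Matrix (Fin (N + 1)) (Fin (N + 1)) (ZMod 2)) i 0 = _
    rw [Matrix.SpecialLinearGroup.coe_mul, Matrix.mul_apply]
    have h1 : ∀ k, (g : Matrix (Fin (N + 1)) (Fin (N + 1)) (ZMod 2)) i k *
        (h : Matrix (Fin (N + 1)) (Fin (N + 1)) (ZMod 2)) k 0 =
        (g : Matrix (Fin (N + 1)) (Fin (N + 1)) (ZMod 2)) i k *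
        (1 : Matrix (Fin (N + 1)) (Fin (N + 1)) (ZMod 2)) k 0 := fun k => by rw [hh k]
    rw [Finset.sum_congr rfl (fun k _ => h1 k), ← Matrix.mul_apply, Matrix.mul_one]
    exact hg i
  inv_mem' := by
    intro g hg i
    show ((g⁻¹ : Matrix.SpecialLinearGroup (Fin (N + 1)) (ZMod 2)) :
      Matrix (Fin (N + 1)) (Fin (N + 1)) (ZMod 2)) i 0 = _
    have h1 : ((g⁻¹ : Matrix.SpecialLinearGroup (Fin (N + 1)) (ZMod 2)) :
        Matrix (Fin (N + 1)) (Fin (N + 1)) (ZMod 2)) *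
        (g : Matrix (Fin (N + 1)) (Fin (N + 1)) (ZMod 2)) = 1 := by
      rw [← Matrix.SpecialLinearGroup.coe_mul, inv_mul_cancel, Matrix.SpecialLinearGroup.coe_one]
    have h2 : ((g⁻¹ : Matrix.SpecialLinearGroup (Fin (N + 1)) (ZMod 2)) :
        Matrix (Fin (N + 1)) (Fin (N + 1)) (ZMod 2)) i 0 =
        (((g⁻¹ : Matrix.SpecialLinearGroup (Fin (N + 1)) (ZMod 2)) :
        Matrix (Fin (N + 1)) (Fin (N + 1)) (ZMod 2)) *
        (1 : Matrix (Fin (N + 1)) (Fin (N + 1)) (ZMod 2))) i 0 := by rw [Matrix.mul_one]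
    rw [h2, Matrix.mul_apply]
    have h3 : ∀ k, ((g⁻¹ : Matrix.SpecialLinearGroup (Fin (N + 1)) (ZMod 2)) :
        Matrix (Fin (N + 1)) (Fin (N + 1)) (ZMod 2)) i k *
        (1 : Matrix (Fin (N + 1)) (Fin (N + 1)) (ZMod 2)) k 0 =
        ((g⁻¹ : Matrix.SpecialLinearGroup (Fin (N + 1)) (ZMod 2)) :
        Matrix (Fin (N + 1)) (Fin (N + 1)) (ZMod 2)) i k *
        (g : Matrix (Fin (N + 1)) (Fin (N + 1)) (ZMod 2)) k 0 := fun k => by rw [hg k]
    rw [Finset.sum_congr rfl (fun k _ => h3 k), ← Matrix.mul_apply, h1]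

theorem mem_stabP {g : Matrix.SpecialLinearGroup (Fin (N + 1)) (ZMod 2)} :
    g ∈ stabP N ↔ ∀ i, (g : Matrix (Fin (N + 1)) (Fin (N + 1)) (ZMod 2)) i 0 =
      (1 : Matrix (Fin (N + 1)) (Fin (N + 1)) (ZMod 2)) i 0 := Iff.rfl

theorem bet_mem (a : Fin N → ZMod 2) (A : Matrix.GeneralLinearGroup (Fin N) (ZMod 2)) :
    bet a A ∈ stabP N := by
  rw [mem_stabP]
  intro i
  refine Fin.cases ?_ (fun i' => ?_) i
  · rw [bet_val, blk_00, Matrix.one_apply_eq]
  · rw [bet_val, blk_s0, Matrix.one_apply_ne (Fin.succ_ne_zero i')]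

/-- `bet` as an element of the stabilizer -/
def betP (a : Fin N → ZMod 2) (A : Matrix.GeneralLinearGroup (Fin N) (ZMod 2)) : ↥(stabP N) :=
  ⟨bet a A, bet_mem a A⟩

theorem betP_mul (a b : Fin N → ZMod 2) (A C : Matrix.GeneralLinearGroup (Fin N) (ZMod 2)) :
    betP a A * betP b C = betP (b + rAct a (C : Matrix (Fin N) (Fin N) (ZMod 2))) (A * C) :=
  Subtype.ext (bet_mul a b A C)

theorem betP_one : betP (0 : Fin N → ZMod 2) (1 : Matrix.GeneralLinearGroup (Fin N) (ZMod 2)) = 1 := by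
  apply Subtype.ext
  apply Subtype.ext
  show blk (0 : Fin N → ZMod 2) (1 : Matrix (Fin N) (Fin N) (ZMod 2)) = 1
  exact blk_one

theorem betP_inj {a b : Fin N → ZMod 2} {A C : Matrix.GeneralLinearGroup (Fin N) (ZMod 2)}
    (h : betP a A = betP b C) : a = b ∧ A = C := by
  have h' : blk a (A : Matrix (Fin N) (Fin N) (ZMod 2)) = blk b (C : Matrix (Fin N) (Fin N) (ZMod 2)) :=
    congrArg (fun x : ↥(stabP N) =>
      ((x : Matrix.SpecialLinearGroup (Fin (N + 1)) (ZMod 2)) :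
        Matrix (Fin (N + 1)) (Fin (N + 1)) (ZMod 2))) h
  obtain ⟨h1, h2⟩ := blk_inj h'
  exact ⟨h1, Units.ext h2⟩

/-- the lower right block as a monoid homomorphism on the stabilizer -/
def lowP (N : ℕ) : ↥(stabP N) →* Matrix (Fin N) (Fin N) (ZMod 2) where
  toFun g := Matrix.of (fun (i j : Fin N) =>
    ((g : Matrix.SpecialLinearGroup (Fin (N + 1)) (ZMod 2)) :
      Matrix (Fin (N + 1)) (Fin (N + 1)) (ZMod 2)) i.succ j.succ)
  map_one' := by
    ext i j
    show (1 : Matrix (Fin (N + 1)) (Fin (N + 1)) (ZMod 2)) i.succ j.succ =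
      (1 : Matrix (Fin N) (Fin N) (ZMod 2)) i j
    exact one_succ i j
  map_mul' := by
    intro g h
    ext i j
    show (((g : Matrix.SpecialLinearGroup (Fin (N + 1)) (ZMod 2)) :
        Matrix (Fin (N + 1)) (Fin (N + 1)) (ZMod 2)) *
        ((h : Matrix.SpecialLinearGroup (Fin (N + 1)) (ZMod 2)) :
        Matrix (Fin (N + 1)) (Fin (N + 1)) (ZMod 2))) i.succ j.succ =
      (Matrix.of (fun (i j : Fin N) => ((g : Matrix.SpecialLinearGroup (Fin (N + 1)) (ZMod 2)) :
        Matrix (Fin (N + 1)) (Fin (N + 1)) (ZMod 2)) i.succ j.succ) *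
       Matrix.of (fun (i j : Fin N) => ((h : Matrix.SpecialLinearGroup (Fin (N + 1)) (ZMod 2)) :
        Matrix (Fin (N + 1)) (Fin (N + 1)) (ZMod 2)) i.succ j.succ)) i j
    have h0 : ((g : Matrix.SpecialLinearGroup (Fin (N + 1)) (ZMod 2)) :
        Matrix (Fin (N + 1)) (Fin (N + 1)) (ZMod 2)) i.succ 0 = 0 := by
      rw [mem_stabP.mp g.2 i.succ]
      exact Matrix.one_apply_ne (Fin.succ_ne_zero i)
    rw [Matrix.mul_apply, Matrix.mul_apply, Fin.sum_univ_succ, h0, zero_mul, zero_add]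
    rfl

/-- the lower right block, with values in the general linear group -/
def lowU (N : ℕ) : ↥(stabP N) →* Matrix.GeneralLinearGroup (Fin N) (ZMod 2) :=
  (lowP N).toHomUnits

theorem lowU_val (g : ↥(stabP N)) (i j : Fin N) :
    ((lowU N g : Matrix.GeneralLinearGroup (Fin N) (ZMod 2)) : Matrix (Fin N) (Fin N) (ZMod 2)) i j
      = ((g : Matrix.SpecialLinearGroup (Fin (N + 1)) (ZMod 2)) :
        Matrix (Fin (N + 1)) (Fin (N + 1)) (ZMod 2)) i.succ j.succ := rfl

theorem lowU_betP (a : Fin N → ZMod 2) (A : Matrix.GeneralLinearGroup (Fin N) (ZMod 2)) :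
    lowU N (betP a A) = A := by
  apply Units.ext
  ext i j
  rw [lowU_val]
  exact blk_ss a (A : Matrix (Fin N) (Fin N) (ZMod 2)) i j

theorem decomp (g : ↥(stabP N)) :
    (g : Matrix.SpecialLinearGroup (Fin (N + 1)) (ZMod 2)) =
      bet (fun j => ((g : Matrix.SpecialLinearGroup (Fin (N + 1)) (ZMod 2)) :
        Matrix (Fin (N + 1)) (Fin (N + 1)) (ZMod 2)) 0 j.succ) (lowU N g) := by
  apply Subtype.ext
  ext i j
  refine Fin.cases ?_ (fun i' => ?_) i <;> refine Fin.cases ?_ (fun j' => ?_) j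
  · rw [bet_val, blk_00, mem_stabP.mp g.2 0, Matrix.one_apply_eq]
  · rw [bet_val, blk_0s]
  · rw [bet_val, blk_s0, mem_stabP.mp g.2 i'.succ, Matrix.one_apply_ne (Fin.succ_ne_zero i')]
  · rw [bet_val, blk_ss, lowU_val]

theorem decompP (g : ↥(stabP N)) :
    ∃ (a : Fin N → ZMod 2) (A : Matrix.GeneralLinearGroup (Fin N) (ZMod 2)), g = betP a A :=
  ⟨_, _, Subtype.ext (decomp g)⟩

/-- the unipotent radical -/
def subU (N : ℕ) : Subgroup ↥(stabP N) := (lowU N).ker

instance subU_normal (N : ℕ) : (subU N).Normal := MonoidHom.normal_ker (lowU N)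

theorem mem_subU_iff {x : ↥(stabP N)} : x ∈ subU N ↔ lowU N x = 1 := MonoidHom.mem_ker

theorem mem_subU {x : ↥(stabP N)} : x ∈ subU N ↔ ∃ a : Fin N → ZMod 2, x = betP a 1 := by
  constructor
  · intro hx
    rw [mem_subU_iff] at hx
    obtain ⟨a, A, rfl⟩ := decompP x
    rw [lowU_betP] at hx
    exact ⟨a, by rw [hx]⟩
  · rintro ⟨a, rfl⟩
    rw [mem_subU_iff]
    exact lowU_betP a 1

/-- the Levi complement -/
def levi (N : ℕ) : Matrix.GeneralLinearGroup (Fin N) (ZMod 2) →* ↥(stabP N) where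
  toFun A := betP 0 A
  map_one' := betP_one
  map_mul' A C := by rw [betP_mul, rAct_zero, add_zero]

theorem levi_injective (N : ℕ) : Function.Injective (levi N) := by
  intro A C h
  have h' : betP (0 : Fin N → ZMod 2) A = betP 0 C := h
  exact (betP_inj h').2

/-- the Levi complement as a subgroup -/
def subM (N : ℕ) : Subgroup ↥(stabP N) := (levi N).range

theorem mem_subM {x : ↥(stabP N)} :
    x ∈ subM N ↔ ∃ A : Matrix.GeneralLinearGroup (Fin N) (ZMod 2), betP 0 A = x := by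
  unfold subM
  rw [MonoidHom.mem_range]
  rfl

theorem elemAb_subU (N : ℕ) : Cfsg.IsElementaryAbelian 2 (subU N) := by
  constructor
  · refine ⟨⟨fun x y => ?_⟩⟩
    obtain ⟨a, ha⟩ := mem_subU.mp x.2
    obtain ⟨b, hb⟩ := mem_subU.mp y.2
    apply Subtype.ext
    show (x : ↥(stabP N)) * (y : ↥(stabP N)) = (y : ↥(stabP N)) * (x : ↥(stabP N))
    rw [ha, hb, betP_mul, betP_mul, Units.val_one, rAct_one, rAct_one, add_comm b a]
  · intro x hx
    obtain ⟨a, rfl⟩ := mem_subU.mp hx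
    rw [pow_two, betP_mul, Units.val_one, rAct_one, mul_one]
    have h : a + a = 0 := by
      funext j
      exact CharTwo.add_self_eq_zero (a j)
    rw [h]
    exact betP_one

theorem card_subU (N : ℕ) : Nat.card ↥(subU N) = 2 ^ N := by
  have hbij : Function.Bijective
      (fun a : Fin N → ZMod 2 => (⟨betP a 1, mem_subU.mpr ⟨a, rfl⟩⟩ : ↥(subU N))) := by
    constructor
    · intro a b h
      have h' : betP a (1 : Matrix.GeneralLinearGroup (Fin N) (ZMod 2)) = betP b 1 :=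
        congrArg Subtype.val h
      exact (betP_inj h').1
    · rintro ⟨x, hx⟩
      obtain ⟨a, rfl⟩ := mem_subU.mp hx
      exact ⟨a, rfl⟩
  rw [← Nat.card_congr (Equiv.ofBijective _ hbij), Nat.card_fun, Nat.card_zmod, Nat.card_fin]

theorem inf_subU_subM (N : ℕ) : subU N ⊓ subM N = ⊥ := by
  rw [eq_bot_iff]
  intro x hx
  obtain ⟨hxU, hxM⟩ := Subgroup.mem_inf.mp hx
  obtain ⟨A, rfl⟩ := mem_subM.mp hxM
  rw [mem_subU_iff, lowU_betP] at hxU
  rw [Subgroup.mem_bot, hxU]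
  exact betP_one

theorem sup_subU_subM (N : ℕ) : subU N ⊔ subM N = ⊤ := by
  rw [eq_top_iff]
  intro x _
  obtain ⟨a, A, rfl⟩ := decompP x
  have h : betP a A = betP 0 A * betP a 1 := by
    rw [betP_mul, rAct_zero, add_zero, mul_one]
  rw [h, sup_comm]
  exact Subgroup.mul_mem_sup (mem_subM.mpr ⟨A, rfl⟩) (mem_subU.mpr ⟨a, rfl⟩)

theorem faith (N : ℕ) (m : ↥(stabP N)) (hm : m ∈ subM N)
    (h : ∀ u ∈ subU N, m * u * m⁻¹ = u) : m = 1 := by
  obtain ⟨A, rfl⟩ := mem_subM.mp hm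
  have hA : A = 1 := by
    apply Units.ext
    ext i j
    have h1 := h _ (mem_subU.mpr ⟨rowOne i, rfl⟩)
    rw [mul_inv_eq_iff_eq_mul, betP_mul, betP_mul] at h1
    have h2 := (betP_inj h1).1
    rw [rAct_zero, rAct_row, add_zero, zero_add] at h2
    exact (congrFun h2 j).symm
  rw [hA]
  exact betP_one

theorem full (N : ℕ) (φ : ↥(subU N) ≃* ↥(subU N)) :
    ∃ m ∈ subM N, ∀ u : ↥(subU N), ((φ u : ↥(subU N)) : ↥(stabP N)) = m * u * m⁻¹ := by
  classical
  have hea := elemAb_subU N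
  have hc : ∀ a b : ↥(subU N), a * b = b * a := fun a b => hea.1.is_comm.comm a b
  have h2 : ∀ a : ↥(subU N), a * a = 1 := fun a => Subtype.ext (by
    have h := hea.2 a.1 a.2
    rw [pow_two] at h
    exact h)
  obtain ⟨eA⟩ := S5423.mulAut_equiv_GL hc h2 N (card_subU N)
  haveI : Finite (MulAut ↥(subU N)) := Finite.of_equiv _ eA.symm.toEquiv
  let cM : ↥(subM N) → MulAut ↥(subU N) := fun m => MulAut.conjNormal (m : ↥(stabP N))
  have hinj : Function.Injective cM := by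
    intro m₁ m₂ h
    have h' : (MulAut.conjNormal ((m₂ : ↥(stabP N))⁻¹ * (m₁ : ↥(stabP N))) :
        MulAut ↥(subU N)) = 1 := by
      rw [map_mul, map_inv]
      show (cM m₂)⁻¹ * cM m₁ = 1
      rw [h, inv_mul_cancel]
    have hm : (m₂ : ↥(stabP N))⁻¹ * (m₁ : ↥(stabP N)) = 1 := by
      apply faith N _ ((subM N).mul_mem ((subM N).inv_mem m₂.2) m₁.2)
      intro u hu
      have e1 : ((MulAut.conjNormal ((m₂ : ↥(stabP N))⁻¹ * (m₁ : ↥(stabP N)))
          (⟨u, hu⟩ : ↥(subU N)) : ↥(subU N)) : ↥(stabP N)) = u := by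
        rw [h']
        rfl
      rw [MulAut.conjNormal_apply] at e1
      exact e1
    exact Subtype.ext (inv_mul_eq_one.mp hm).symm
  have hcardM : Nat.card ↥(subM N) = Nat.card (Matrix.GeneralLinearGroup (Fin N) (ZMod 2)) := by
    unfold subM
    exact (Nat.card_congr (MonoidHom.ofInjective (levi_injective N)).toEquiv).symm
  have hcardA : Nat.card (MulAut ↥(subU N)) =
      Nat.card (Matrix.GeneralLinearGroup (Fin N) (ZMod 2)) := Nat.card_congr eA.toEquiv
  have hbij := hinj.bijective_of_nat_card_le (le_of_eq (hcardA.trans hcardM.symm))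
  obtain ⟨m, hm⟩ := hbij.2 φ
  refine ⟨m.1, m.2, fun u => ?_⟩
  have hφ : φ = MulAut.conjNormal (m : ↥(stabP N)) := hm.symm
  subst hφ
  exact MulAut.conjNormal_apply (m : ↥(stabP N)) u

theorem cent_le (a : Fin N → ZMod 2) (ha : a ≠ 0)
    (g : Matrix.SpecialLinearGroup (Fin (N + 1)) (ZMod 2))
    (h : g * bet a 1 = bet a 1 * g) : g ∈ stabP N := by
  obtain ⟨j, hj⟩ : ∃ j, a j ≠ 0 := by
    by_contra hcon
    push Not at hcon
    exact ha (funext hcon)
  have haj : a j = 1 := (zmod2_cases (a j)).resolve_left hj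
  have hm : (g : Matrix (Fin (N + 1)) (Fin (N + 1)) (ZMod 2)) *
      blk a (1 : Matrix (Fin N) (Fin N) (ZMod 2)) =
      blk a (1 : Matrix (Fin N) (Fin N) (ZMod 2)) *
        (g : Matrix (Fin (N + 1)) (Fin (N + 1)) (ZMod 2)) := congrArg Subtype.val h
  have hcol : ∀ i' : Fin N, (g : Matrix (Fin (N + 1)) (Fin (N + 1)) (ZMod 2)) i'.succ 0 = 0 := by
    intro i'
    have e := congrFun (congrFun hm i'.succ) j.succ
    rw [Matrix.mul_apply, Matrix.mul_apply, Fin.sum_univ_succ, Fin.sum_univ_succ] at e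
    simp only [blk_00, blk_0s, blk_s0, blk_ss] at e
    have s1 : ∑ k : Fin N, (g : Matrix (Fin (N + 1)) (Fin (N + 1)) (ZMod 2)) i'.succ k.succ *
        (1 : Matrix (Fin N) (Fin N) (ZMod 2)) k j =
        (g : Matrix (Fin (N + 1)) (Fin (N + 1)) (ZMod 2)) i'.succ j.succ :=
      sum_mul_one_right (fun k => (g : Matrix (Fin (N + 1)) (Fin (N + 1)) (ZMod 2)) i'.succ k.succ) j
    have s2 : ∑ k : Fin N, (1 : Matrix (Fin N) (Fin N) (ZMod 2)) i' k *
        (g : Matrix (Fin (N + 1)) (Fin (N + 1)) (ZMod 2)) k.succ j.succ =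
        (g : Matrix (Fin (N + 1)) (Fin (N + 1)) (ZMod 2)) i'.succ j.succ :=
      sum_one_mul_left (fun k => (g : Matrix (Fin (N + 1)) (Fin (N + 1)) (ZMod 2)) k.succ j.succ) i'
    rw [s1, s2, haj, mul_one, zero_mul] at e
    exact add_right_cancel e
  have h00 : (g : Matrix (Fin (N + 1)) (Fin (N + 1)) (ZMod 2)) 0 0 = 1 := by
    rcases zmod2_cases ((g : Matrix (Fin (N + 1)) (Fin (N + 1)) (ZMod 2)) 0 0) with h0 | h1
    · exfalso
      have hd : (g : Matrix (Fin (N + 1)) (Fin (N + 1)) (ZMod 2)).det = 0 :=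
        Matrix.det_eq_zero_of_column_eq_zero 0 (fun i => by
          refine Fin.cases ?_ (fun i' => ?_) i
          · exact h0
          · exact hcol i')
      rw [g.2] at hd
      exact absurd hd (by decide)
    · exact h1
  rw [mem_stabP]
  intro i
  refine Fin.cases ?_ (fun i' => ?_) i
  · rw [h00, Matrix.one_apply_eq]
  · rw [hcol i', Matrix.one_apply_ne (Fin.succ_ne_zero i')]

theorem one_ne_zero_fin : (1 : Fin (N + 1 + 1)) ≠ 0 := by
  rw [← Fin.succ_zero_eq_one]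
  exact Fin.succ_ne_zero 0

theorem tv_col0 (i : Fin (N + 1 + 1)) :
    (Matrix.transvection (0 : Fin (N + 1 + 1)) 1 (1 : ZMod 2)) i 0 =
      (1 : Matrix (Fin (N + 1 + 1)) (Fin (N + 1 + 1)) (ZMod 2)) i 0 := by
  rw [Matrix.transvection, Matrix.add_apply,
    Matrix.single_apply_of_col_ne _ _ (one_ne_zero_fin (N := N)), add_zero]

theorem tv_low (i j : Fin (N + 1)) :
    (Matrix.transvection (0 : Fin (N + 1 + 1)) 1 (1 : ZMod 2)) i.succ j.succ =
      (1 : Matrix (Fin (N + 1 + 1)) (Fin (N + 1 + 1)) (ZMod 2)) i.succ j.succ := by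
  rw [Matrix.transvection, Matrix.add_apply,
    Matrix.single_apply_of_row_ne (Fin.succ_ne_zero i).symm, add_zero]

theorem tv_01 : (Matrix.transvection (0 : Fin (N + 1 + 1)) 1 (1 : ZMod 2)) 0 1 = 1 := by
  rw [Matrix.transvection, Matrix.add_apply, Matrix.single_apply_same,
    Matrix.one_apply_ne (Ne.symm (one_ne_zero_fin (N := N))), zero_add]

end Mat

/-! ### the main theorem -/

theorem main (n : ℕ) (hn : 2 ≤ n)
    (z : Matrix.SpecialLinearGroup (Fin (n + 1 + 1)) (ZMod 2))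
    (hz : (z : Matrix (Fin (n + 1 + 1)) (Fin (n + 1 + 1)) (ZMod 2)) = Matrix.transvection 0 1 1)
    (Q : Subgroup (Matrix.SpecialLinearGroup (Fin (n + 1 + 1)) (ZMod 2)))
    (hQ : Q = (Cfsg.pCore 2 ↥(Subgroup.centralizer
      ({z} : Set (Matrix.SpecialLinearGroup (Fin (n + 1 + 1)) (ZMod 2))))).map
      (Subgroup.centralizer
        ({z} : Set (Matrix.SpecialLinearGroup (Fin (n + 1 + 1)) (ZMod 2)))).subtype) :
    Cfsg.IsExtraspecial 2 ↥Q ∧ Nat.card ↥Q = 2 ^ (2 * n + 1) ∧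
      (∃ E : Subgroup (Matrix.SpecialLinearGroup (Fin (n + 1 + 1)) (ZMod 2)),
        E ≤ Q ∧ Cfsg.IsElementaryAbelian 2 E ∧ Nat.card ↥E = 2 ^ (n + 1)) ∧
      Cfsg.IsLargeExtraspecial Q ∧
      ∃ K : Subgroup (Matrix.SpecialLinearGroup (Fin (n + 1 + 1)) (ZMod 2)),
        K ≤ Subgroup.centralizer
          ({z} : Set (Matrix.SpecialLinearGroup (Fin (n + 1 + 1)) (ZMod 2))) ∧
        Q ⊓ K = ⊥ ∧
        Q ⊔ K = Subgroup.centralizer
          ({z} : Set (Matrix.SpecialLinearGroup (Fin (n + 1 + 1)) (ZMod 2))) ∧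
        Nonempty (↥K ≃* Matrix.SpecialLinearGroup (Fin n) (ZMod 2)) := by
  have hzP : z ∈ stabP (n + 1) := by
    rw [mem_stabP]
    intro i
    rw [hz]
    exact tv_col0 i
  have hlow : lowU (n + 1) ⟨z, hzP⟩ = 1 := by
    apply Units.ext
    ext i j
    rw [lowU_val]
    show (z : Matrix (Fin (n + 1 + 1)) (Fin (n + 1 + 1)) (ZMod 2)) i.succ j.succ =
      (1 : Matrix (Fin (n + 1)) (Fin (n + 1)) (ZMod 2)) i j
    rw [hz, tv_low, one_succ]
  have hzU : (⟨z, hzP⟩ : ↥(stabP (n + 1))) ∈ subU (n + 1) := mem_subU_iff.mpr hlow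
  have hz1 : z ≠ 1 := by
    intro h
    have e : (z : Matrix (Fin (n + 1 + 1)) (Fin (n + 1 + 1)) (ZMod 2)) 0 1 =
        ((1 : Matrix.SpecialLinearGroup (Fin (n + 1 + 1)) (ZMod 2)) :
          Matrix (Fin (n + 1 + 1)) (Fin (n + 1 + 1)) (ZMod 2)) 0 1 :=
      congrArg (fun g : Matrix.SpecialLinearGroup (Fin (n + 1 + 1)) (ZMod 2) =>
        (g : Matrix (Fin (n + 1 + 1)) (Fin (n + 1 + 1)) (ZMod 2)) 0 1) h
    rw [Matrix.SpecialLinearGroup.coe_one, hz, tv_01,
      Matrix.one_apply_ne (Ne.symm (one_ne_zero_fin (N := n)))] at e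
    exact absurd e (by decide)
  have hdec : z = bet (fun j : Fin (n + 1) =>
      (z : Matrix (Fin (n + 1 + 1)) (Fin (n + 1 + 1)) (ZMod 2)) 0 j.succ) 1 := by
    have h := decomp (⟨z, hzP⟩ : ↥(stabP (n + 1)))
    rw [hlow] at h
    exact h
  have ha : (fun j : Fin (n + 1) =>
      (z : Matrix (Fin (n + 1 + 1)) (Fin (n + 1 + 1)) (ZMod 2)) 0 j.succ) ≠ 0 := by
    intro h0
    have h1 : (z : Matrix (Fin (n + 1 + 1)) (Fin (n + 1 + 1)) (ZMod 2)) 0 (Fin.succ 0) = 0 :=
      congrFun h0 0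
    rw [Fin.succ_zero_eq_one, hz, tv_01] at h1
    exact absurd h1 (by decide)
  have hcent : ∀ g : Matrix.SpecialLinearGroup (Fin (n + 1 + 1)) (ZMod 2),
      g * z = z * g → g ∈ stabP (n + 1) := by
    intro g hg
    apply cent_le _ ha g
    rw [← hdec]
    exact hg
  obtain ⟨h1, h2, h3, h4, K, hK1, hK2, hK3, ⟨eK⟩⟩ :=
    transfer (stabP (n + 1)) n hn (subU (n + 1)) (subM (n + 1)) (elemAb_subU (n + 1))
      (card_subU (n + 1)) (inf_subU_subM (n + 1)) (sup_subU_subM (n + 1)) (faith (n + 1))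
      (full (n + 1)) z hzP hzU hz1 hcent Q hQ
  obtain ⟨eGS⟩ := gl_equiv_sl n
  exact ⟨h1, h2, h3, h4, K, hK1, hK2, hK3, ⟨eK.trans eGS⟩⟩

/-- Let G be the special linear group of degree n + 2 over the field with two elements, n ≥ 2, let z be a transvection, and let Q be the largest normal 2-subgroup of the centralizer C of z. Then Q is extraspecial of order 2^(2n+1) with an elementary abelian subgroup of order 2^(n+1) (plus type), Q is a large extraspecial 2-subgroup of G, and C is the split extension of Q by the special linear group of degree n over the field with two elements. -/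
theorem result (n : ℕ) (hn : 2 ≤ n) (z : Matrix.SpecialLinearGroup (Fin (n + 2)) (ZMod 2)) (hz : (z : Matrix (Fin (n + 2)) (Fin (n + 2)) (ZMod 2)) = Matrix.transvection 0 1 1) (Q : Subgroup (Matrix.SpecialLinearGroup (Fin (n + 2)) (ZMod 2))) (hQ : Q = (Cfsg.pCore 2 ↥(Subgroup.centralizer ({z} : Set (Matrix.SpecialLinearGroup (Fin (n + 2)) (ZMod 2))))).map (Subgroup.centralizer ({z} : Set (Matrix.SpecialLinearGroup (Fin (n + 2)) (ZMod 2)))).subtype) : Cfsg.IsExtraspecial 2 ↥Q ∧ Nat.card ↥Q = 2 ^ (2 * n + 1) ∧ (∃ E : Subgroup (Matrix.SpecialLinearGroup (Fin (n + 2)) (ZMod 2)), E ≤ Q ∧ Cfsg.IsElementaryAbelian 2 E ∧ Nat.card ↥E = 2 ^ (n + 1)) ∧ Cfsg.IsLargeExtraspecial Q ∧ ∃ K : Subgroup (Matrix.SpecialLinearGroup (Fin (n + 2)) (ZMod 2)), K ≤ Subgroup.centralizer ({z} : Set (Matrix.SpecialLinearGroup (Fin (n + 2)) (ZMod 2))) ∧ Q ⊓ K = ⊥ ∧ Q ⊔ K = Subgroup.centralizer ({z} : Set (Matrix.SpecialLinearGroup (Fin (n + 2)) (ZMod 2))) ∧ Nonempty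 (↥K ≃* Matrix.SpecialLinearGroup (Fin n) (ZMod 2)) :=
  main n hn z hz Q hQ

end Cfsg.Agent.S5424
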