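import Cfsg.Statements.S5425
import Cfsg.Agent.S5424
import Cfsg.Agent.S5422
import Cfsg.Agent.S5394
import Cfsg.Agent.Lib.Helper28.CentTwoA
import Cfsg.Agent.Lib.Helper16.PCore
import Mathlib

set_option autoImplicit false
open Cfsg

namespace Cfsg.Agent.S5425

/-! ### generic lemmas -/

section Generic

theorem perm_apply_inv {α : Type*} (f : Equiv.Perm α) (x : α) : f (f⁻¹ x) = x :=
  Equiv.apply_symm_apply f x

theorem mem_cent_singleton {G : Type*} [Group G] (z g : G) :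
    g ∈ Subgroup.centralizer ({z} : Set G) ↔ g * z = z * g := by
  rw [Subgroup.mem_centralizer_iff]
  constructor
  · intro h
    exact (h z (Set.mem_singleton z)).symm
  · intro h y hy
    rw [Set.mem_singleton_iff] at hy
    rw [hy]
    exact h.symm

theorem conj_cent_iso {G : Type*} [Group G] (z z₀ k : G) (hk : k * z * k⁻¹ = z₀) :
    ∃ Fk : ↥(Subgroup.centralizer ({z} : Set G)) ≃* ↥(Subgroup.centralizer ({z₀} : Set G)),
      ∀ x : ↥(Subgroup.centralizer ({z} : Set G)),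
        ((Fk x : ↥(Subgroup.centralizer ({z₀} : Set G))) : G) = k * x * k⁻¹ := by
  have h1 : ∀ x : G, x ∈ Subgroup.centralizer ({z} : Set G) →
      k * x * k⁻¹ ∈ Subgroup.centralizer ({z₀} : Set G) := by
    intro x hx
    rw [mem_cent_singleton] at hx ⊢
    rw [← hk]
    calc k * x * k⁻¹ * (k * z * k⁻¹) = k * (x * z) * k⁻¹ := by group
      _ = k * (z * x) * k⁻¹ := by rw [hx]
      _ = k * z * k⁻¹ * (k * x * k⁻¹) := by group
  have h2 : ∀ y : G, y ∈ Subgroup.centralizer ({z₀} : Set G) →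
      k⁻¹ * y * k ∈ Subgroup.centralizer ({z} : Set G) := by
    intro y hy
    rw [mem_cent_singleton] at hy ⊢
    have hz : z = k⁻¹ * z₀ * k := by
      rw [← hk]
      group
    rw [hz]
    calc k⁻¹ * y * k * (k⁻¹ * z₀ * k) = k⁻¹ * (y * z₀) * k := by group
      _ = k⁻¹ * (z₀ * y) * k := by rw [hy]
      _ = k⁻¹ * z₀ * k * (k⁻¹ * y * k) := by group
  refine ⟨{ toFun := fun x => ⟨k * x * k⁻¹, h1 x x.2⟩
            invFun := fun y => ⟨k⁻¹ * y * k, h2 y y.2⟩
            left_inv := fun x => Subtype.ext (by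
              show k⁻¹ * (k * (x : G) * k⁻¹) * k = x
              group)
            right_inv := fun y => Subtype.ext (by
              show k * (k⁻¹ * (y : G) * k) * k⁻¹ = y
              group)
            map_mul' := fun x y => Subtype.ext (by
              show k * ((x : G) * (y : G)) * k⁻¹ = k * x * k⁻¹ * (k * y * k⁻¹)
              group) }, fun x => rfl⟩

/-- transfer of the structure of an involution centralizer along an isomorphism of centralizers -/
theorem across {G₂ G L : Type*} [Group G₂] [Group G] [Group L] [Finite G]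
    (s : G₂) (z : G) (n : ℕ) (hn : 2 ≤ n)
    (C : Subgroup G) (hCdef : C = Subgroup.centralizer ({z} : Set G))
    (Cs : Subgroup G₂) (hCsdef : Cs = Subgroup.centralizer ({s} : Set G₂))
    (F : ↥C ≃* ↥Cs)
    (hFz : ∀ hz : z ∈ C, ((F ⟨z, hz⟩ : ↥Cs) : G₂) = s)
    (Qs : Subgroup G₂)
    (hQs : Qs = (Cfsg.pCore 2 ↥Cs).map Cs.subtype)
    (hS : Cfsg.IsExtraspecial 2 ↥Qs ∧ Nat.card ↥Qs = 2 ^ (2 * n + 1) ∧
      (∃ E : Subgroup G₂, E ≤ Qs ∧ Cfsg.IsElementaryAbelian 2 E ∧ Nat.card ↥E = 2 ^ (n + 1)) ∧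
      Cfsg.IsLargeExtraspecial Qs ∧
      ∃ K : Subgroup G₂, K ≤ Cs ∧ Qs ⊓ K = ⊥ ∧
        Qs ⊔ K = Cs ∧ Nonempty (↥K ≃* L))
    (Q : Subgroup G)
    (hQ : Q = (Cfsg.pCore 2 ↥C).map C.subtype)
    (hconj : ∃ g : G, g * z * g⁻¹ ∈ Q ∧ g * z * g⁻¹ ≠ z) :
    Cfsg.IsExtraspecial 2 ↥Q ∧ Nat.card ↥Q = 2 ^ (2 * n + 1) ∧
      (∃ E : Subgroup G, E ≤ Q ∧ Cfsg.IsElementaryAbelian 2 E ∧ Nat.card ↥E = 2 ^ (n + 1)) ∧
      Cfsg.IsLargeExtraspecial Q ∧
      ∃ K : Subgroup G, K ≤ C ∧ Q ⊓ K = ⊥ ∧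
        Q ⊔ K = C ∧ Nonempty (↥K ≃* L) := by
  classical
  have memC : ∀ g : G, g ∈ C ↔ g * z = z * g := by
    intro g
    rw [hCdef]
    exact mem_cent_singleton z g
  have memCs : ∀ g : G₂, g ∈ Cs ↔ g * s = s * g := by
    intro g
    rw [hCsdef]
    exact mem_cent_singleton s g
  obtain ⟨pc, hpcdef⟩ : ∃ pc : Subgroup ↥Cs, pc = Cfsg.pCore 2 ↥Cs := ⟨_, rfl⟩
  rw [← hpcdef] at hQs
  subst hQs
  obtain ⟨h1, h2, ⟨Es, hEsQ, hEsea, hEscard⟩, h4, Ks, hKsC, hQK, hQKsup, ⟨eKs⟩⟩ := hS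
  obtain ⟨-, hL2s, -, -⟩ := h4
  obtain ⟨φ, hφdef⟩ : ∃ φ : ↥Cs →* G, φ = C.subtype.comp F.symm.toMonoidHom := ⟨_, rfl⟩
  have hφ : ∀ x : ↥Cs, φ x = ((F.symm x : ↥C) : G) := by
    intro x
    subst hφdef
    rfl
  have hφinj : Function.Injective φ := by
    intro x y h
    rw [hφ, hφ] at h
    exact F.symm.injective (Subtype.ext h)
  have hφC : ∀ x : ↥Cs, φ x ∈ C := by
    intro x
    rw [hφ]
    exact (F.symm x).2
  have hφF : ∀ (g : G) (hg : g ∈ C), φ (F ⟨g, hg⟩) = g := by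
    intro g hg
    rw [hφ, F.symm_apply_apply]
  have hQφ : (Cfsg.pCore 2 ↥C).map C.subtype = pc.map φ := by
    rw [hpcdef, hφdef, ← S5424.pCore_map_equiv F.symm, Subgroup.map_map]
  have hQ2 : Q = pc.map φ := hQ.trans hQφ
  subst hQ2
  have hpc : ∀ x : ↥Cs, x ∈ pc ↔ (x : G₂) ∈ pc.map Cs.subtype := by
    intro x
    exact (Subgroup.mem_map_iff_mem Cs.subtype_injective).symm
  have hQsC : pc.map Cs.subtype ≤ Cs := Subgroup.map_subtype_le pc
  have hQC : pc.map φ ≤ C := by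
    rintro _ ⟨x, -, rfl⟩
    exact hφC x
  -- (1), (2)
  have hESpc : Cfsg.IsExtraspecial 2 ↥pc :=
    S5424.isExtraspecial_of_equiv
      (Subgroup.equivMapOfInjective pc Cs.subtype Cs.subtype_injective).symm h1
  have hES : Cfsg.IsExtraspecial 2 ↥(pc.map φ) :=
    S5424.isExtraspecial_of_equiv (Subgroup.equivMapOfInjective pc φ hφinj) hESpc
  have hcardpc : Nat.card ↥pc = 2 ^ (2 * n + 1) :=
    (Nat.card_congr
      (Subgroup.equivMapOfInjective pc Cs.subtype Cs.subtype_injective).toEquiv).trans h2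
  have hcardQ : Nat.card ↥(pc.map φ) = 2 ^ (2 * n + 1) :=
    (Nat.card_congr (Subgroup.equivMapOfInjective pc φ hφinj).toEquiv).symm.trans hcardpc
  -- (3)
  have hEsC : Es ≤ Cs := hEsQ.trans hQsC
  have hEea : Cfsg.IsElementaryAbelian 2 ((Es.subgroupOf Cs).map φ) := by
    constructor
    · refine ⟨⟨fun a b => ?_⟩⟩
      obtain ⟨a', ha', haa⟩ := Subgroup.mem_map.mp a.2
      obtain ⟨b', hb', hbb⟩ := Subgroup.mem_map.mp b.2
      rw [Subgroup.mem_subgroupOf] at ha' hb'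
      have hcomm : (⟨(a' : G₂), ha'⟩ : ↥Es) * ⟨(b' : G₂), hb'⟩ =
          ⟨(b' : G₂), hb'⟩ * ⟨(a' : G₂), ha'⟩ := hEsea.1.is_comm.comm _ _
      have hcomm0 : (a' : G₂) * (b' : G₂) = (b' : G₂) * (a' : G₂) := congrArg Subtype.val hcomm
      have hcomm' : a' * b' = b' * a' := Subtype.ext hcomm0
      apply Subtype.ext
      show (a : G) * (b : G) = (b : G) * (a : G)
      rw [← haa, ← hbb, ← map_mul, ← map_mul, hcomm']
    · intro a ha
      obtain ⟨a', ha', rfl⟩ := Subgroup.mem_map.mp ha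
      rw [Subgroup.mem_subgroupOf] at ha'
      have h3 : a' ^ 2 = 1 := Subtype.ext (hEsea.2 (a' : G₂) ha')
      rw [← map_pow, h3, map_one]
  have hEcard : Nat.card ↥((Es.subgroupOf Cs).map φ) = 2 ^ (n + 1) :=
    (Nat.card_congr
      (Subgroup.equivMapOfInjective (Es.subgroupOf Cs) φ hφinj).toEquiv).symm.trans
      ((Nat.card_congr (Subgroup.subgroupOfEquivOfLe hEsC).toEquiv).trans hEscard)
  have hEQ : (Es.subgroupOf Cs).map φ ≤ pc.map φ :=
    Subgroup.map_mono (fun x hx => (hpc x).mpr (hEsQ (Subgroup.mem_subgroupOf.mp hx)))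
  -- (5)
  have hinf : pc ⊓ Ks.subgroupOf Cs = ⊥ := by
    rw [eq_bot_iff]
    intro x hx
    obtain ⟨hx1, hx2⟩ := Subgroup.mem_inf.mp hx
    have h3 : (x : G₂) ∈ pc.map Cs.subtype ⊓ Ks :=
      Subgroup.mem_inf.mpr ⟨(hpc x).mp hx1, Subgroup.mem_subgroupOf.mp hx2⟩
    rw [hQK, Subgroup.mem_bot] at h3
    rw [Subgroup.mem_bot]
    exact Subtype.ext h3
  have hpceq : pc = (pc.map Cs.subtype).subgroupOf Cs := by
    ext x
    rw [Subgroup.mem_subgroupOf]
    exact hpc x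
  have hsup : pc ⊔ Ks.subgroupOf Cs = ⊤ := by
    have h3 : (pc.map Cs.subtype).subgroupOf Cs ⊔ Ks.subgroupOf Cs = ⊤ := by
      rw [← Subgroup.subgroupOf_sup hQsC hKsC, hQKsup, Subgroup.subgroupOf_self]
    rw [← hpceq] at h3
    exact h3
  have hrange : (⊤ : Subgroup ↥Cs).map φ = C := by
    ext g
    rw [Subgroup.mem_map]
    constructor
    · rintro ⟨x, -, rfl⟩
      exact hφC x
    · intro hg
      exact ⟨F ⟨g, hg⟩, Subgroup.mem_top _, hφF g hg⟩
  -- `z ∈ Q`
  have hsCs : s ∈ Cs := (memCs s).mpr rfl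
  have hsQs : s ∈ pc.map Cs.subtype := by
    have h3 : s ∈ Subgroup.centralizer ((pc.map Cs.subtype : Subgroup G₂) : Set G₂) := by
      rw [Subgroup.mem_centralizer_iff]
      intro q hq
      exact (memCs q).mp (hQsC hq)
    rw [hL2s] at h3
    obtain ⟨c, -, hc⟩ := Subgroup.mem_map.mp h3
    rw [← hc]
    exact c.2
  have hzC : z ∈ C := (memC z).mpr rfl
  have hFz' : F ⟨z, hzC⟩ = ⟨s, hsCs⟩ := Subtype.ext (hFz hzC)
  have hφs : φ ⟨s, hsCs⟩ = z := by
    rw [← hFz']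
    exact hφF z hzC
  have hzQ : z ∈ pc.map φ := Subgroup.mem_map.mpr ⟨⟨s, hsCs⟩, (hpc _).mpr hsQs, hφs⟩
  obtain ⟨g0, hg0Q, hg0z⟩ := hconj
  have hz1 : z ≠ 1 := by
    intro h
    apply hg0z
    rw [h]
    group
  -- the centre of `Q`
  have hzc : (⟨z, hzQ⟩ : ↥(pc.map φ)) ∈ Subgroup.center ↥(pc.map φ) := by
    rw [Subgroup.mem_center_iff]
    intro y
    apply Subtype.ext
    exact (memC y.1).mp (hQC y.2)
  have hcen2 : ∀ c : ↥(Subgroup.center ↥(pc.map φ)), c = 1 ∨ c = ⟨⟨z, hzQ⟩, hzc⟩ := by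
    obtain ⟨w, hw1, hwuniq⟩ :=
      (Nat.card_eq_two_iff' (1 : ↥(Subgroup.center ↥(pc.map φ)))).mp hES.2
    have hzw : (⟨⟨z, hzQ⟩, hzc⟩ : ↥(Subgroup.center ↥(pc.map φ))) = w := by
      apply hwuniq
      intro h
      apply hz1
      exact congrArg (fun c : ↥(Subgroup.center ↥(pc.map φ)) => ((c : ↥(pc.map φ)) : G)) h
    intro c
    by_cases hc : c = 1
    · exact Or.inl hc
    · right
      rw [hzw]
      exact hwuniq c hc
  have memZQ : ∀ g : G, g ∈ (Subgroup.center ↥(pc.map φ)).map (pc.map φ).subtype →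
      g = 1 ∨ g = z := by
    intro g hg
    obtain ⟨c, hc, rfl⟩ := Subgroup.mem_map.mp hg
    rcases hcen2 ⟨c, hc⟩ with h | h
    · left
      exact congrArg (fun c : ↥(Subgroup.center ↥(pc.map φ)) => ((c : ↥(pc.map φ)) : G)) h
    · right
      exact congrArg (fun c : ↥(Subgroup.center ↥(pc.map φ)) => ((c : ↥(pc.map φ)) : G)) h
  have hzZQ : z ∈ (Subgroup.center ↥(pc.map φ)).map (pc.map φ).subtype :=
    Subgroup.mem_map.mpr ⟨⟨z, hzQ⟩, hzc, rfl⟩
  -- hL2
  have hL2 : Subgroup.centralizer ((pc.map φ : Subgroup G) : Set G) =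
      (Subgroup.center ↥(pc.map φ)).map (pc.map φ).subtype := by
    ext g
    constructor
    · intro hg
      have hgz : z * g = g * z := Subgroup.mem_centralizer_iff.mp hg z hzQ
      have hgC : g ∈ C := (memC g).mpr hgz.symm
      obtain ⟨x, rfl⟩ : ∃ x : ↥Cs, φ x = g := ⟨F ⟨g, hgC⟩, hφF g hgC⟩
      have h3 : (x : G₂) ∈ Subgroup.centralizer ((pc.map Cs.subtype : Subgroup G₂) : Set G₂) := by
        rw [Subgroup.mem_centralizer_iff]
        intro q hq
        obtain ⟨y, hy, rfl⟩ := Subgroup.mem_map.mp hq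
        have h5 : φ y * φ x = φ x * φ y :=
          Subgroup.mem_centralizer_iff.mp hg (φ y) (Subgroup.mem_map_of_mem φ hy)
        rw [← map_mul, ← map_mul] at h5
        exact congrArg Subtype.val (hφinj h5)
      rw [hL2s] at h3
      obtain ⟨c, -, hc⟩ := Subgroup.mem_map.mp h3
      have h6 : (x : G₂) ∈ pc.map Cs.subtype := by
        rw [← hc]
        exact c.2
      have hgQ : φ x ∈ pc.map φ := Subgroup.mem_map_of_mem φ ((hpc x).mpr h6)
      refine Subgroup.mem_map.mpr ⟨⟨φ x, hgQ⟩, ?_, rfl⟩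
      rw [Subgroup.mem_center_iff]
      intro y
      apply Subtype.ext
      exact Subgroup.mem_centralizer_iff.mp hg y.1 y.2
    · intro hg
      obtain ⟨c, hc, rfl⟩ := Subgroup.mem_map.mp hg
      rw [Subgroup.mem_centralizer_iff]
      intro h hh
      have h3 := Subgroup.mem_center_iff.mp hc ⟨h, hh⟩
      exact congrArg Subtype.val h3
  -- normality of `Q` in `C`
  have hnormC : ∀ h ∈ C, ∀ q ∈ pc.map φ, h * q * h⁻¹ ∈ pc.map φ := by
    intro h hh q hq
    rw [← hQφ] at hq ⊢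
    obtain ⟨q0, hq0, rfl⟩ := Subgroup.mem_map.mp hq
    have hN : (Cfsg.pCore 2 ↥C).Normal := Cfsg.Agent.Lib.Helper16.pCore_normal
    exact Subgroup.mem_map.mpr ⟨⟨h, hh⟩ * q0 * ⟨h, hh⟩⁻¹, hN.conj_mem q0 hq0 ⟨h, hh⟩, rfl⟩
  have hL3 : Subgroup.centralizer
      (((Subgroup.center ↥(pc.map φ)).map (pc.map φ).subtype : Subgroup G) : Set G)
      ≤ Subgroup.normalizer ((pc.map φ : Subgroup G) : Set G) := by
    intro h hh
    have hhz : z * h = h * z := Subgroup.mem_centralizer_iff.mp hh z hzZQ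
    have hhC : h ∈ C := (memC h).mpr hhz.symm
    rw [Subgroup.mem_normalizer_iff]
    intro q
    constructor
    · intro hq
      exact hnormC h hhC q hq
    · intro hq
      have h3 := hnormC h⁻¹ (C.inv_mem hhC) _ hq
      have e1 : h⁻¹ * (h * q * h⁻¹) * h⁻¹⁻¹ = q := by group
      rwa [e1] at h3
  have hg : g0 ∉ Subgroup.normalizer
      (((Subgroup.center ↥(pc.map φ)).map (pc.map φ).subtype : Subgroup G) : Set G) := by
    intro hmem
    rw [Subgroup.mem_normalizer_iff] at hmem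
    have h3 := (hmem z).mp hzZQ
    rcases memZQ _ h3 with h | h
    · apply hz1
      calc z = g0⁻¹ * (g0 * z * g0⁻¹) * g0 := by group
        _ = 1 := by rw [h]; group
    · exact hg0z h
  have hZg : ((Subgroup.center ↥(pc.map φ)).map (pc.map φ).subtype).map
      (MulAut.conj g0).toMonoidHom ≤ pc.map φ := by
    intro y hy
    obtain ⟨x, hx, rfl⟩ := Subgroup.mem_map.mp hy
    show g0 * x * g0⁻¹ ∈ pc.map φ
    rcases memZQ x hx with h | h
    · rw [h, mul_one, mul_inv_cancel]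
      exact Subgroup.one_mem _
    · rw [h]
      exact hg0Q
  have hLargeG : Cfsg.IsLargeExtraspecial (pc.map φ) :=
    (S5422.result (pc.map φ) hES hL2 hL3 n hn hcardQ g0 hg hZg).2.2
  refine ⟨hES, hcardQ, ⟨(Es.subgroupOf Cs).map φ, hEQ, hEea, hEcard⟩, hLargeG,
    (Ks.subgroupOf Cs).map φ, ?_, ?_, ?_,
    ⟨(Subgroup.equivMapOfInjective (Ks.subgroupOf Cs) φ hφinj).symm.trans
      ((Subgroup.subgroupOfEquivOfLe hKsC).trans eKs)⟩⟩
  · rintro _ ⟨x, -, rfl⟩
    exact hφC x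
  · rw [← Subgroup.map_inf _ _ φ hφinj, hinf, Subgroup.map_bot]
  · rw [← Subgroup.map_sup, hsup, hrange]

end Generic

/-! ### the Mathieu group -/

section M24part

open Cfsg.Agent.Lib.Helper28 MulAction
open scoped Pointwise

theorem cent_iso (s : Matrix.SpecialLinearGroup (Fin 5) (ZMod 2))
    (hs : (s : Matrix (Fin 5) (Fin 5) (ZMod 2)) = Matrix.transvection 0 1 1) :
    ∃ F : ↥(Subgroup.centralizer ({(⟨agZ, agZ_mem⟩ : ↥M24)} : Set ↥M24)) ≃*
        ↥(Subgroup.centralizer ({s} : Set (Matrix.SpecialLinearGroup (Fin 5) (ZMod 2)))),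
      ∀ hz : (⟨agZ, agZ_mem⟩ : ↥M24) ∈
          Subgroup.centralizer ({(⟨agZ, agZ_mem⟩ : ↥M24)} : Set ↥M24),
        ((F ⟨⟨agZ, agZ_mem⟩, hz⟩ :
          ↥(Subgroup.centralizer ({s} : Set (Matrix.SpecialLinearGroup (Fin 5) (ZMod 2))))) :
          Matrix.SpecialLinearGroup (Fin 5) (ZMod 2)) = s := by
  have hcomm : ∀ c : ↥(Subgroup.centralizer ({(⟨agZ, agZ_mem⟩ : ↥M24)} : Set ↥M24)),
      agZ * c.1.1 = c.1.1 * agZ := by
    intro c
    have h := Subgroup.mem_centralizer_iff.mp c.2 ⟨agZ, agZ_mem⟩ (Set.mem_singleton _)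
    exact congrArg Subtype.val h
  have hstab : ∀ c : ↥(Subgroup.centralizer ({(⟨agZ, agZ_mem⟩ : ↥M24)} : Set ↥M24)),
      c.1.1 ∈ agStab := fun c => mem_agStab.mpr ⟨c.1.2, smul_agO_of_comm (hcomm c)⟩
  have hcent : ∀ c : ↥(Subgroup.centralizer ({(⟨agZ, agZ_mem⟩ : ↥M24)} : Set ↥M24)),
      agSL c.1.1 (hstab c) ∈
        Subgroup.centralizer ({s} : Set (Matrix.SpecialLinearGroup (Fin 5) (ZMod 2))) := by
    intro c
    refine Subgroup.mem_centralizer_iff.mpr ?_
    intro h hh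
    rw [Set.mem_singleton_iff] at hh
    subst hh
    apply Subtype.ext
    show (h : Matrix (Fin 5) (Fin 5) (ZMod 2)) * agM c.1.1 = agM c.1.1 * h
    rw [hs, ← agM_agZ, ← agM_mul agZ_stab (hstab c), ← agM_mul (hstab c) agZ_stab, hcomm c]
  let F : ↥(Subgroup.centralizer ({(⟨agZ, agZ_mem⟩ : ↥M24)} : Set ↥M24)) →*
      ↥(Subgroup.centralizer ({s} : Set (Matrix.SpecialLinearGroup (Fin 5) (ZMod 2)))) :=
    MonoidHom.mk' (fun c => ⟨agSL c.1.1 (hstab c), hcent c⟩) (by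
      intro c c'
      apply Subtype.ext
      apply Subtype.ext
      exact agM_mul (hstab c) (hstab c'))
  have hinj : Function.Injective F := by
    intro c c' e
    have e1 : agM c.1.1 = agM c'.1.1 := congrArg (fun u => u.1.1) e
    exact Subtype.ext (Subtype.ext (agM_injOn (hstab c) (hstab c') e1))
  have hsurj : Function.Surjective F := by
    intro m
    have hm := Subgroup.mem_centralizer_iff.mp m.2 s (Set.mem_singleton _)
    have hmat : Matrix.transvection 0 1 1 * m.1.1 = m.1.1 * Matrix.transvection 0 1 1 := by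
      have := congrArg Subtype.val hm
      rw [← hs]
      exact this
    obtain ⟨g, hg, hgm⟩ := exists_agM_eq m.1 (agRow_of_comm m.1 hmat)
    have hgz : agZ * g = g * agZ := by
      apply agM_injOn (agStab.mul_mem agZ_stab hg) (agStab.mul_mem hg agZ_stab)
      rw [agM_mul agZ_stab hg, agM_mul hg agZ_stab, agM_agZ, hgm]
      exact hmat
    refine ⟨⟨⟨g, (mem_agStab.mp hg).1⟩, ?_⟩, ?_⟩
    · rw [Subgroup.mem_centralizer_iff]
      intro h hh
      rw [Set.mem_singleton_iff] at hh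
      subst hh
      exact Subtype.ext hgz
    · apply Subtype.ext
      apply Subtype.ext
      exact hgm
  refine ⟨MulEquiv.ofBijective F ⟨hinj, hsurj⟩, ?_⟩
  intro hz
  apply Subtype.ext
  show agM agZ = (s : Matrix (Fin 5) (Fin 5) (ZMod 2))
  rw [agM_agZ, hs]

/-- In the Mathieu group of degree 24 (the automorphism group of the length-24 binary Golay code, acting on the 24 coordinates), let z be an involution whose fixed points form an octad (the support of a code word of weight 8), and let Q be the largest normal 2-subgroup of the centralizer C of z. Then Q is extraspecial of order 2^7 with an elementary abelian subgroup of order 16 (plus type), Q is a large extraspecial 2-subgroup, and C is the split extension of Q by the special linear group of degree 3 over the field with two elements. -/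
theorem result (z : ↥Cfsg.M24) (hz : orderOf z = 2) (hfix : (Finset.univ.filter fun p : Cfsg.GolayPt => (z : Equiv.Perm Cfsg.GolayPt) p = p) ∈ Cfsg.octads) (Q : Subgroup ↥Cfsg.M24) (hQ : Q = (Cfsg.pCore 2 ↥(Subgroup.centralizer ({z} : Set ↥Cfsg.M24))).map (Subgroup.centralizer ({z} : Set ↥Cfsg.M24)).subtype) : Cfsg.IsExtraspecial 2 ↥Q ∧ Nat.card ↥Q = 2 ^ 7 ∧ (∃ E : Subgroup ↥Cfsg.M24, E ≤ Q ∧ Cfsg.IsElementaryAbelian 2 E ∧ Nat.card ↥E = 2 ^ 4) ∧ Cfsg.IsLargeExtraspecial Q ∧ ∃ K : Subgroup ↥Cfsg.M24, K ≤ Subgroup.centralizer ({z} : Set ↥Cfsg.M24) ∧ Q ⊓ K = ⊥ ∧ Q ⊔ K = Subgroup.centralizer ({z} : Set ↥Cfsg.M24) ∧ Nonempty (↥K ≃* Matrix.SpecialLinearGroup (Fin 3) (ZMod 2)) := by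
  classical
  obtain ⟨s, hs⟩ : ∃ s : Matrix.SpecialLinearGroup (Fin 5) (ZMod 2),
      (s : Matrix (Fin 5) (Fin 5) (ZMod 2)) = Matrix.transvection 0 1 1 :=
    ⟨⟨Matrix.transvection 0 1 1,
      Matrix.det_transvection_of_ne (i := (0 : Fin 5)) (j := 1) (h := by decide) (c := 1)⟩, rfl⟩
  have hS := S5424.result 3 (by norm_num) s hs _ rfl
  obtain ⟨hcls, -, -, hconjcls⟩ := S5394.result
  have hz2 : orderOf (z : Equiv.Perm GolayPt) = 2 := by
    rw [Subgroup.orderOf_coe]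
    exact hz
  have hzsq : z * z = 1 := by
    have h := pow_orderOf_eq_one z
    rw [hz, pow_two] at h
    exact h
  have hz1 : z ≠ 1 := by
    intro h
    rw [h, orderOf_one] at hz
    exact absurd hz (by norm_num)
  have hagZ2 : orderOf agZ = 2 :=
    orderOf_eq_prime (by rw [pow_two]; exact agZ_sq) agZ_ne_one
  set o : Finset GolayPt := Finset.univ.filter fun p : GolayPt => (z : Equiv.Perm GolayPt) p = p
    with hodef
  have ho : o ∈ octads := hfix
  have memo : ∀ p : GolayPt, p ∈ o ↔ (z : Equiv.Perm GolayPt) p = p := by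
    intro p
    rw [hodef, Finset.mem_filter]
    exact ⟨fun h => h.2, fun h => ⟨Finset.mem_univ p, h⟩⟩
  obtain ⟨p, hp⟩ : ∃ p, p ∈ o := by
    apply Finset.card_pos.mp
    rw [octad_card ho]
    norm_num
  obtain ⟨p', hp'⟩ : ∃ p, p ∈ agO := by
    apply Finset.card_pos.mp
    rw [octad_card agO_mem]
    norm_num
  have hiff : (∀ q, (z : Equiv.Perm GolayPt) q ≠ q) ↔ (∀ q, agZ q ≠ q) :=
    ⟨fun h => absurd ((memo p).mp hp) (h p), fun h => absurd (agZ_fix hp') (h p')⟩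
  obtain ⟨k, hkM, hk⟩ := hconjcls (z : Equiv.Perm GolayPt) z.2 agZ agZ_mem hz2 hagZ2 hiff
  have hkk : (⟨k, hkM⟩ : ↥M24) * z * (⟨k, hkM⟩ : ↥M24)⁻¹ = ⟨agZ, agZ_mem⟩ := Subtype.ext hk
  obtain ⟨Fk, hFk⟩ := conj_cent_iso z ⟨agZ, agZ_mem⟩ ⟨k, hkM⟩ hkk
  obtain ⟨F₀, hF₀⟩ := cent_iso s hs
  have hFz : ∀ hzc : z ∈ Subgroup.centralizer ({z} : Set ↥M24),
      (((Fk.trans F₀) ⟨z, hzc⟩ :
        ↥(Subgroup.centralizer ({s} : Set (Matrix.SpecialLinearGroup (Fin 5) (ZMod 2))))) :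
        Matrix.SpecialLinearGroup (Fin 5) (ZMod 2)) = s := by
    intro hzc
    have h1 : Fk ⟨z, hzc⟩ = ⟨⟨agZ, agZ_mem⟩, (mem_cent_singleton _ _).mpr rfl⟩ :=
      Subtype.ext (by
        rw [hFk]
        exact hkk)
    rw [MulEquiv.trans_apply, h1]
    exact hF₀ _
  -- a conjugate of `z` in `Q` different from `z`
  have hconj : ∃ g : ↥M24, g * z * g⁻¹ ∈ Q ∧ g * z * g⁻¹ ≠ z := by
    obtain ⟨hU16, hUsq⟩ := octad_fixingSubgroup o ho
    have hKerle : octadKer o ≤ M24 := by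
      unfold octadKer
      exact inf_le_left
    obtain ⟨U, hUdef⟩ : ∃ U : Subgroup ↥M24, U = (octadKer o).subgroupOf M24 := ⟨_, rfl⟩
    have memU : ∀ x : ↥M24, x ∈ U ↔ ∀ q ∈ o, (x : Equiv.Perm GolayPt) q = q := by
      intro x
      rw [hUdef, Subgroup.mem_subgroupOf, mem_octadKer]
      exact ⟨fun h => h.2, fun h => ⟨x.2, h⟩⟩
    have hUcard : Nat.card ↥U = 2 ^ 4 := by
      rw [hUdef, Nat.card_congr (Subgroup.subgroupOfEquivOfLe hKerle).toEquiv]
      exact hU16.trans (by norm_num)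
    have hUsq' : ∀ x ∈ U, x * x = 1 := by
      intro x hx
      apply Subtype.ext
      refine hUsq (x : Equiv.Perm GolayPt) ?_
      have h3 : (x : Equiv.Perm GolayPt) ∈ octadKer o := mem_octadKer.mpr ⟨x.2, (memU x).mp hx⟩
      exact h3
    have hzU : z ∈ U := (memU z).mpr (fun q hq => (memo q).mp hq)
    have h2U : ∀ a : ↥U, a * a = 1 := fun a => Subtype.ext (hUsq' a.1 a.2)
    set C : Subgroup ↥M24 := Subgroup.centralizer ({z} : Set ↥M24) with hCdef
    have memC : ∀ g : ↥M24, g ∈ C ↔ g * z = z * g := fun g => mem_cent_singleton z g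
    have hUC : U ≤ C := by
      intro x hx
      rw [memC]
      exact congrArg Subtype.val (S5423.comm_of_sq h2U ⟨x, hx⟩ ⟨z, hzU⟩)
    have hnormU : ∀ c ∈ C, ∀ u ∈ U, c * u * c⁻¹ ∈ U := by
      intro c hc u hu
      rw [memU]
      intro q hq
      have hcz : ∀ r, (c : Equiv.Perm GolayPt) ((z : Equiv.Perm GolayPt) r) =
          (z : Equiv.Perm GolayPt) ((c : Equiv.Perm GolayPt) r) := by
        intro r
        have h3 := congrArg (fun x : ↥M24 => (x : Equiv.Perm GolayPt) r) ((memC c).mp hc)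
        exact h3
      have hq' : (c : Equiv.Perm GolayPt)⁻¹ q ∈ o := by
        rw [memo]
        apply (c : Equiv.Perm GolayPt).injective
        rw [hcz, perm_apply_inv, (memo q).mp hq]
      have h4 : ((c * u * c⁻¹ : ↥M24) : Equiv.Perm GolayPt) q =
          (c : Equiv.Perm GolayPt) ((u : Equiv.Perm GolayPt)
            ((c : Equiv.Perm GolayPt)⁻¹ q)) := rfl
      rw [h4, (memU u).mp hu _ hq', perm_apply_inv]
    have hU2 : IsPGroup 2 ↥U := IsPGroup.of_card hUcard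
    have hUQ : U ≤ Q := by
      intro x hx
      have hN : (U.subgroupOf C).Normal := by
        constructor
        intro n hn g
        rw [Subgroup.mem_subgroupOf] at hn ⊢
        exact hnormU g.1 g.2 n.1 hn
      have h3 : U.subgroupOf C ≤ Cfsg.pCore 2 ↥C :=
        Cfsg.Agent.Lib.Helper16.le_pCore (U.subgroupOf C) hN hU2.comap_subtype
      have h4 : (⟨x, hUC hx⟩ : ↥C) ∈ U.subgroupOf C := Subgroup.mem_subgroupOf.mpr hx
      rw [hQ]
      exact Subgroup.mem_map.mpr ⟨⟨x, hUC hx⟩, h3 h4, rfl⟩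
    obtain ⟨t, htU, ht1, htz⟩ : ∃ t : ↥M24, t ∈ U ∧ t ≠ 1 ∧ t ≠ z := by
      by_contra hcon
      push Not at hcon
      have hle : U ≤ S5423.pairSub z hzsq := by
        intro x hx
        by_cases h1 : x = 1
        · rw [h1]
          exact Subgroup.one_mem _
        · exact S5423.mem_pairSub.mpr (Or.inr (hcon x hx h1))
      have hcard2 : Nat.card ↥(S5423.pairSub z hzsq) = 2 := by
        rw [Nat.card_eq_two_iff' (1 : ↥(S5423.pairSub z hzsq))]
        refine ⟨⟨z, S5423.mem_pairSub.mpr (Or.inr rfl)⟩, ?_, ?_⟩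
        · intro h
          exact hz1 (congrArg Subtype.val h)
        · intro y hy
          rcases S5423.mem_pairSub.mp y.2 with h | h
          · exact absurd (Subtype.ext h) hy
          · exact Subtype.ext h
      have h3 := Subgroup.card_le_of_le hle
      rw [hUcard, hcard2] at h3
      exact absurd h3 (by norm_num)
    have ht2 : orderOf (t : Equiv.Perm GolayPt) = 2 := by
      rw [Subgroup.orderOf_coe]
      exact orderOf_eq_prime (by rw [pow_two]; exact hUsq' t htU) ht1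
    have hiff' : (∀ q, (z : Equiv.Perm GolayPt) q ≠ q) ↔
        (∀ q, (t : Equiv.Perm GolayPt) q ≠ q) :=
      ⟨fun h => absurd ((memo p).mp hp) (h p), fun h => absurd ((memU t).mp htU p hp) (h p)⟩
    obtain ⟨k', hk'M, hk'⟩ :=
      hconjcls (z : Equiv.Perm GolayPt) z.2 (t : Equiv.Perm GolayPt) t.2 hz2 ht2 hiff'
    have hk't : (⟨k', hk'M⟩ : ↥M24) * z * (⟨k', hk'M⟩ : ↥M24)⁻¹ = t := Subtype.ext hk'
    refine ⟨⟨k', hk'M⟩, ?_, ?_⟩
    · rw [hk't]
      exact hUQ htU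
    · rw [hk't]
      exact htz
  exact across s z 3 (by norm_num) _ rfl _ rfl (Fk.trans F₀) hFz _ rfl hS Q hQ hconj

end M24part

end Cfsg.Agent.S5425
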