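import Cfsg.Statements.S5426
import Cfsg.Agent.Lib.Helper9.Layer3
import Cfsg.Agent.Lib.Helper9.Conj
import Cfsg.Agent.Lib.Helper1.Fitting
import Cfsg.Agent.Lib.Helper1.Frattini
import Cfsg.Agent.Lib.Helper17.Frattini
import Cfsg.Agent.Lib.Helper16.SylowInf
import Cfsg.Agent.Lib.Helper2.IndexTwo
import Mathlib

set_option autoImplicit false
open Cfsg

namespace Cfsg.Agent.S5426

open Cfsg.Agent.Lib
open scoped commutatorElement

/-! ### elementary lemmas -/

section Basic

variable {G : Type*} [Group G]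

theorem le_normalizer_of_conj_mem (Q K : Subgroup G)
    (h : ∀ q ∈ Q, ∀ k ∈ K, q * k * q⁻¹ ∈ K) : Q ≤ Subgroup.normalizer (K : Set G) := by
  intro q hq
  rw [Subgroup.mem_normalizer_iff]
  intro k
  constructor
  · exact h q hq k
  · intro hk
    have h3 := h q⁻¹ (Q.inv_mem hq) _ hk
    have e1 : q⁻¹ * (q * k * q⁻¹) * q⁻¹⁻¹ = k := by group
    rwa [e1] at h3

theorem comm_of_mem_centralizer {L : Subgroup G} {a b : G} (ha : a ∈ L)
    (hb : b ∈ Subgroup.centralizer (L : Set G)) : a * b = b * a :=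
  Subgroup.mem_centralizer_iff.mp hb a ha

theorem uniq_dec {L : Subgroup G} (hZ : L ⊓ Subgroup.centralizer (L : Set G) = ⊥)
    {a a' b b' : G} (ha : a ∈ L) (ha' : a' ∈ L) (hb : b ∈ Subgroup.centralizer (L : Set G))
    (hb' : b' ∈ Subgroup.centralizer (L : Set G)) (h : a * b = a' * b') : a = a' ∧ b = b' := by
  have h1 : a'⁻¹ * a = b' * b⁻¹ := by
    calc a'⁻¹ * a = a'⁻¹ * (a * b) * b⁻¹ := by group
      _ = a'⁻¹ * (a' * b') * b⁻¹ := by rw [h]
      _ = b' * b⁻¹ := by group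
  have h2 : a'⁻¹ * a ∈ L ⊓ Subgroup.centralizer (L : Set G) := by
    refine Subgroup.mem_inf.mpr ⟨L.mul_mem (L.inv_mem ha') ha, ?_⟩
    rw [h1]
    exact Subgroup.mul_mem _ hb' (Subgroup.inv_mem _ hb)
  rw [hZ, Subgroup.mem_bot] at h2
  have h3 : a = a' := by
    calc a = a' * (a'⁻¹ * a) := by group
      _ = a' := by rw [h2, mul_one]
  refine ⟨h3, ?_⟩
  rw [h3] at h
  exact mul_left_cancel h

theorem comm_prod (a a' b b' : G) (h1 : a * b = b * a) (h2 : a * b' = b' * a)
    (h3 : a' * b = b * a') (h4 : a' * b' = b' * a') :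
    (a * b) * (a' * b') * (a * b)⁻¹ * (a' * b')⁻¹ =
      (a * a' * a⁻¹ * a'⁻¹) * (b * b' * b⁻¹ * b'⁻¹) := by
  have c1 : Commute b a := (show Commute a b from h1).symm
  have c2 : Commute b' a := (show Commute a b' from h2).symm
  have c3 : Commute b a' := (show Commute a' b from h3).symm
  have c4 : Commute b' a' := (show Commute a' b' from h4).symm
  have s1 : b * a' = a' * b := c3.eq
  have s2 : (b * b' * b⁻¹) * a⁻¹ = a⁻¹ * (b * b' * b⁻¹) :=
    (((c1.mul_left c2).mul_left c1.inv_left).inv_right).eq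
  have s3 : (b * b' * b⁻¹ * b'⁻¹) * a'⁻¹ = a'⁻¹ * (b * b' * b⁻¹ * b'⁻¹) :=
    ((((c3.mul_left c4).mul_left c3.inv_left).mul_left c4.inv_left).inv_right).eq
  calc (a * b) * (a' * b') * (a * b)⁻¹ * (a' * b')⁻¹
      = a * (b * a') * b' * b⁻¹ * a⁻¹ * b'⁻¹ * a'⁻¹ := by group
    _ = a * (a' * b) * b' * b⁻¹ * a⁻¹ * b'⁻¹ * a'⁻¹ := by rw [s1]
    _ = a * a' * ((b * b' * b⁻¹) * a⁻¹) * b'⁻¹ * a'⁻¹ := by group
    _ = a * a' * (a⁻¹ * (b * b' * b⁻¹)) * b'⁻¹ * a'⁻¹ := by rw [s2]
    _ = a * a' * a⁻¹ * ((b * b' * b⁻¹ * b'⁻¹) * a'⁻¹) := by group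
    _ = a * a' * a⁻¹ * (a'⁻¹ * (b * b' * b⁻¹ * b'⁻¹)) := by rw [s3]
    _ = (a * a' * a⁻¹ * a'⁻¹) * (b * b' * b⁻¹ * b'⁻¹) := by group

theorem sq_prod (a b : G) (h : a * b = b * a) : (a * b) * (a * b) = (a * a) * (b * b) := by
  calc (a * b) * (a * b) = a * (b * a) * b := by group
    _ = a * (a * b) * b := by rw [← h]
    _ = (a * a) * (b * b) := by group

theorem conj_mem_centralizer (L : Subgroup G) (q : G) (hq : ∀ l ∈ L, q⁻¹ * l * q ∈ L) (x : G)
    (hx : x ∈ Subgroup.centralizer (L : Set G)) :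
    q * x * q⁻¹ ∈ Subgroup.centralizer (L : Set G) := by
  rw [Subgroup.mem_centralizer_iff]
  intro l hl
  have h1 : (q⁻¹ * l * q) * x = x * (q⁻¹ * l * q) :=
    Subgroup.mem_centralizer_iff.mp hx _ (hq l hl)
  calc l * (q * x * q⁻¹) = q * ((q⁻¹ * l * q) * x) * q⁻¹ := by group
    _ = q * (x * (q⁻¹ * l * q)) * q⁻¹ := by rw [h1]
    _ = q * x * q⁻¹ * l := by group

theorem sSup_conj_mem (S : Set (Subgroup G)) (g : G)
    (h : ∀ N ∈ S, N.map (MulAut.conj g).toMonoidHom ∈ S) :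
    ∀ x ∈ sSup S, g * x * g⁻¹ ∈ sSup S := by
  have h1 : sSup S ≤ (sSup S).comap (MulAut.conj g).toMonoidHom := by
    apply sSup_le
    intro N hN
    rw [← Subgroup.map_le_iff_le_comap]
    exact le_sSup (h N hN)
  intro x hx
  have h2 := h1 hx
  rw [Subgroup.mem_comap] at h2
  exact h2

end Basic

/-! ### a simple group in which an involution centralizer has order two -/

theorem burn {H : Type*} [Group H] [Finite H] [IsSimpleGroup H] (hna : ¬ IsMulCommutative H)
    (t : H) (ht : t ≠ 1) (hC : ∀ d : H, d * t = t * d → d = 1 ∨ d = t) : False := by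
  classical
  haveI : Fact (Nat.Prime 2) := ⟨Nat.prime_two⟩
  have htt : t * t = 1 := by
    rcases hC (t * t) (by group) with h | h
    · exact h
    · exfalso
      apply ht
      calc t = t⁻¹ * (t * t) := by group
        _ = t⁻¹ * t := by rw [h]
        _ = 1 := inv_mul_cancel t
  have hord : orderOf t = 2 := orderOf_eq_prime (by rw [pow_two]; exact htt) ht
  have hzp : IsPGroup 2 ↥(Subgroup.zpowers t) := by
    apply IsPGroup.of_card (n := 1)
    rw [Nat.card_zpowers, hord, pow_one]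
  obtain ⟨P, hP⟩ := hzp.exists_le_sylow
  have htP : t ∈ (P : Subgroup H) := hP (Subgroup.mem_zpowers t)
  haveI : Nontrivial ↥(P : Subgroup H) :=
    ⟨⟨⟨t, htP⟩, 1, fun h => ht (congrArg Subtype.val h)⟩⟩
  haveI := P.2.center_nontrivial
  obtain ⟨c, hc1⟩ := exists_ne (1 : ↥(Subgroup.center ↥(P : Subgroup H)))
  have hct : ((c : ↥(P : Subgroup H)) : H) * t = t * ((c : ↥(P : Subgroup H)) : H) := by
    have h3 := Subgroup.mem_center_iff.mp c.2 ⟨t, htP⟩
    exact (congrArg Subtype.val h3).symm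
  have hc_eq : ((c : ↥(P : Subgroup H)) : H) = t := by
    rcases hC _ hct with h | h
    · exfalso
      apply hc1
      apply Subtype.ext
      apply Subtype.ext
      exact h
    · exact h
  have hPsub : ∀ x ∈ (P : Subgroup H), x = 1 ∨ x = t := by
    intro x hx
    apply hC
    have h3 := Subgroup.mem_center_iff.mp c.2 ⟨x, hx⟩
    have h4 : x * ((c : ↥(P : Subgroup H)) : H) = ((c : ↥(P : Subgroup H)) : H) * x :=
      congrArg Subtype.val h3
    rw [hc_eq] at h4
    exact h4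
  have hcyc : IsCyclic ↥(P : Subgroup H) := by
    refine ⟨⟨⟨t, htP⟩, fun x => ?_⟩⟩
    rcases hPsub x.1 x.2 with h | h
    · refine ⟨0, ?_⟩
      show (⟨t, htP⟩ : ↥(P : Subgroup H)) ^ (0 : ℤ) = x
      rw [zpow_zero]
      exact Subtype.ext h.symm
    · refine ⟨1, ?_⟩
      show (⟨t, htP⟩ : ↥(P : Subgroup H)) ^ (1 : ℤ) = x
      rw [zpow_one]
      exact Subtype.ext h.symm
  have heven : Even (Nat.card H) := by
    have h1 : orderOf t ∣ Nat.card H := orderOf_dvd_natCard t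
    rw [hord] at h1
    exact even_iff_two_dvd.mpr h1
  obtain ⟨K, hK⟩ := Helper2.exists_index_two_of_cyclic_sylow heven P hcyc
  have hKn : K.Normal := Subgroup.normal_of_index_eq_two hK
  rcases IsSimpleGroup.eq_bot_or_eq_top_of_normal K hKn with h | h
  · rw [h, Subgroup.index_bot] at hK
    apply hna
    haveI : IsCyclic H := isCyclic_of_prime_card (p := 2) hK
    exact IsCyclic.isMulCommutative
  · rw [h, Subgroup.index_top] at hK
    exact absurd hK (by norm_num)

/-! ### the setting -/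

structure LES {G : Type*} [Group G] (Q : Subgroup G) (z : G) : Prop where
  z_mem : z ∈ Q
  z_ne : z ≠ 1
  z_sq : z * z = 1
  z_comm : ∀ q ∈ Q, q * z = z * q
  cent : ∀ g : G, (∀ q ∈ Q, q * g = g * q) → g = 1 ∨ g = z
  norm : ∀ g : G, g * z = z * g → ∀ q ∈ Q, g * q * g⁻¹ ∈ Q
  comm : ∀ x ∈ Q, ∀ y ∈ Q, x * y * x⁻¹ * y⁻¹ = 1 ∨ x * y * x⁻¹ * y⁻¹ = z
  sq : ∀ x ∈ Q, x * x = 1 ∨ x * x = z
  odd : ∀ K : Subgroup G, (∀ q ∈ Q, ∀ k ∈ K, q * k * q⁻¹ ∈ K) → K ≠ ⊥ → 2 ∣ Nat.card ↥K
  two : IsPGroup 2 ↥Q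

section Setting

variable {G : Type*} [Group G] [Finite G]

theorem les_of_large (Q : Subgroup G) (hQ : Cfsg.IsLargeExtraspecial Q) (z : G)
    (hz : ((Subgroup.center ↥Q).map Q.subtype) = Subgroup.zpowers z) : LES Q z := by
  classical
  haveI : Fact (Nat.Prime 2) := ⟨Nat.prime_two⟩
  obtain ⟨⟨⟨h2, hfr, hcm⟩, hc2⟩, hL2, hL3, hL4⟩ := hQ
  have hcardZ : Nat.card ↥(Subgroup.zpowers z) = 2 := by
    rw [← hz]
    exact (Nat.card_congr
      (Subgroup.equivMapOfInjective _ _ Q.subtype_injective).toEquiv).symm.trans hc2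
  have horder : orderOf z = 2 := (Nat.card_zpowers z).symm.trans hcardZ
  have hz1 : z ≠ 1 := by
    intro h
    rw [h, orderOf_one] at horder
    exact absurd horder (by norm_num)
  have hzsq : z * z = 1 := by
    have h := pow_orderOf_eq_one z
    rw [horder, pow_two] at h
    exact h
  have memZ : ∀ g : G, g ∈ Subgroup.zpowers z → g = 1 ∨ g = z := by
    obtain ⟨w, hw1, hwuniq⟩ := (Nat.card_eq_two_iff' (1 : ↥(Subgroup.zpowers z))).mp hcardZ
    have hzw : (⟨z, Subgroup.mem_zpowers z⟩ : ↥(Subgroup.zpowers z)) = w := by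
      apply hwuniq
      intro h
      exact hz1 (congrArg Subtype.val h)
    intro g hg
    by_cases hg1 : g = 1
    · exact Or.inl hg1
    · right
      have h3 : (⟨g, hg⟩ : ↥(Subgroup.zpowers z)) = w :=
        hwuniq _ (fun h => hg1 (congrArg Subtype.val h))
      exact congrArg Subtype.val (h3.trans hzw.symm)
  have hzmap : z ∈ (Subgroup.center ↥Q).map Q.subtype := by
    rw [hz]
    exact Subgroup.mem_zpowers z
  obtain ⟨c, hc, hcz⟩ := Subgroup.mem_map.mp hzmap
  have hcz' : (c : G) = z := hcz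
  have hzQ : z ∈ Q := by
    rw [← hcz']
    exact c.2
  have hzcomm : ∀ q ∈ Q, q * z = z * q := by
    intro q hq
    have h3 := Subgroup.mem_center_iff.mp hc ⟨q, hq⟩
    have h4 : q * (c : G) = (c : G) * q := congrArg Subtype.val h3
    rw [hcz'] at h4
    exact h4
  refine
    { z_mem := hzQ
      z_ne := hz1
      z_sq := hzsq
      z_comm := hzcomm
      cent := ?_
      norm := ?_
      comm := ?_
      sq := ?_
      odd := ?_
      two := h2 }
  · intro g hg
    have h3 : g ∈ Subgroup.centralizer (Q : Set G) := Subgroup.mem_centralizer_iff.mpr hg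
    rw [hL2, hz] at h3
    exact memZ g h3
  · intro g hg q hq
    have h3 : g ∈ Subgroup.centralizer ((Subgroup.zpowers z : Subgroup G) : Set G) := by
      rw [Subgroup.mem_centralizer_iff]
      intro y hy
      rcases memZ y hy with h | h
      · rw [h, one_mul, mul_one]
      · rw [h]
        exact hg.symm
    rw [hz] at hL3
    exact (Subgroup.mem_normalizer_iff.mp (hL3 h3) q).mp hq
  · intro x hx y hy
    have h1 : ⁅(⟨x, hx⟩ : ↥Q), (⟨y, hy⟩ : ↥Q)⁆ ∈ commutator ↥Q := by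
      rw [commutator_def]
      exact Subgroup.commutator_mem_commutator (Subgroup.mem_top _) (Subgroup.mem_top _)
    rw [hcm] at h1
    have h3 : ((⁅(⟨x, hx⟩ : ↥Q), (⟨y, hy⟩ : ↥Q)⁆ : ↥Q) : G) ∈
        (Subgroup.center ↥Q).map Q.subtype := Subgroup.mem_map.mpr ⟨_, h1, rfl⟩
    rw [hz] at h3
    have h5 : ((⁅(⟨x, hx⟩ : ↥Q), (⟨y, hy⟩ : ↥Q)⁆ : ↥Q) : G) = x * y * x⁻¹ * y⁻¹ := rfl
    rw [h5] at h3
    exact memZ _ h3
  · intro x hx
    have h1 := Cfsg.Agent.Lib.Helper1.IsPGroup.pow_mem_frattini h2 (⟨x, hx⟩ : ↥Q)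
    rw [hfr] at h1
    have h3 : (((⟨x, hx⟩ : ↥Q) ^ 2 : ↥Q) : G) ∈ (Subgroup.center ↥Q).map Q.subtype :=
      Subgroup.mem_map.mpr ⟨_, h1, rfl⟩
    rw [hz] at h3
    have h4 : (((⟨x, hx⟩ : ↥Q) ^ 2 : ↥Q) : G) = x * x := by
      rw [pow_two]
      rfl
    rw [h4] at h3
    exact memZ _ h3
  · intro K hK hne
    by_contra hodd
    apply hne
    apply hL4 K
    · exact Nat.odd_iff.mpr (Nat.two_dvd_ne_zero.mp hodd)
    · exact le_normalizer_of_conj_mem Q K hK

variable {Q : Subgroup G} {z : G}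

/-- a non-trivial subgroup normalized by `Q` contains `z` -/
theorem z_mem_of_invariant (hS : LES Q z)
    (X : Subgroup G) (hX : ∀ q ∈ Q, ∀ x ∈ X, q * x * q⁻¹ ∈ X) (hne : X ≠ ⊥) : z ∈ X := by
  classical
  haveI : Fact (Nat.Prime 2) := ⟨Nat.prime_two⟩
  letI act : MulAction ↥Q ↥X :=
    { smul := fun q x => ⟨(q : G) * (x : G) * (q : G)⁻¹, hX q.1 q.2 x.1 x.2⟩
      one_smul := fun x => Subtype.ext (by
        show ((1 : ↥Q) : G) * (x : G) * ((1 : ↥Q) : G)⁻¹ = x
        simp)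
      mul_smul := fun q q' x => Subtype.ext (by
        show ((q * q' : ↥Q) : G) * (x : G) * ((q * q' : ↥Q) : G)⁻¹ =
          (q : G) * ((q' : G) * (x : G) * (q' : G)⁻¹) * (q : G)⁻¹
        rw [Subgroup.coe_mul]
        group) }
  have h2 : 2 ∣ Nat.card ↥X := hS.odd X hX hne
  have hfix : (1 : ↥X) ∈ MulAction.fixedPoints ↥Q ↥X := by
    intro q
    apply Subtype.ext
    show (q : G) * ((1 : ↥X) : G) * (q : G)⁻¹ = ((1 : ↥X) : G)
    simp
  obtain ⟨b, hb, hb1⟩ :=
    hS.two.exists_fixed_point_of_prime_dvd_card_of_fixed_point ↥X h2 hfix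
  have hbc : ∀ q ∈ Q, q * (b : G) = (b : G) * q := by
    intro q hq
    have h3 := hb ⟨q, hq⟩
    have h4 : q * (b : G) * q⁻¹ = (b : G) := congrArg Subtype.val h3
    calc q * (b : G) = q * (b : G) * q⁻¹ * q := by group
      _ = (b : G) * q := by rw [h4]
  rcases hS.cent (b : G) hbc with h | h
  · exfalso
    apply hb1
    exact (Subtype.ext h).symm
  · rw [← h]
    exact b.2

/-- a Sylow 2-subgroup containing `Q` centralizes `z` -/
theorem exists_sylow (hS : LES Q z) :
    ∃ S : Sylow 2 G, Q ≤ (S : Subgroup G) ∧ ∀ s ∈ (S : Subgroup G), s * z = z * s := by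
  haveI : Fact (Nat.Prime 2) := ⟨Nat.prime_two⟩
  obtain ⟨S, hQS⟩ := hS.two.exists_le_sylow
  refine ⟨S, hQS, ?_⟩
  haveI : Nontrivial ↥(S : Subgroup G) :=
    ⟨⟨⟨z, hQS hS.z_mem⟩, 1, fun h => hS.z_ne (congrArg Subtype.val h)⟩⟩
  haveI := S.2.center_nontrivial
  obtain ⟨c, hc1⟩ := exists_ne (1 : ↥(Subgroup.center ↥(S : Subgroup G)))
  have hcc : ∀ q ∈ Q, q * ((c : ↥(S : Subgroup G)) : G) = ((c : ↥(S : Subgroup G)) : G) * q := by
    intro q hq
    have h3 := Subgroup.mem_center_iff.mp c.2 ⟨q, hQS hq⟩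
    exact congrArg Subtype.val h3
  rcases hS.cent _ hcc with h | h
  · exfalso
    apply hc1
    apply Subtype.ext
    apply Subtype.ext
    exact h
  · intro s hs
    have h3 := Subgroup.mem_center_iff.mp c.2 ⟨s, hs⟩
    have h4 : s * ((c : ↥(S : Subgroup G)) : G) = ((c : ↥(S : Subgroup G)) : G) * s :=
      congrArg Subtype.val h3
    rw [h] at h4
    exact h4

theorem ppc_bot (hS : LES Q z) : Cfsg.pPrimeCore 2 G = ⊥ := by
  by_contra hne
  have hN : (Cfsg.pPrimeCore 2 G).Normal := Helper1.pPrimeCore_normal 2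
  have h2 : 2 ∣ Nat.card ↥(Cfsg.pPrimeCore 2 G) :=
    hS.odd _ (fun q _ k hk => hN.conj_mem k hk q) hne
  have h3 : (Nat.card ↥(Cfsg.pPrimeCore 2 G)).Coprime 2 := Helper1.pPrimeCore_coprime 2
  exact absurd (h3.symm.eq_one_of_dvd h2) (by norm_num)

theorem fit_eq (hS : LES Q z) : Cfsg.fittingSubgroup G = Cfsg.pCore 2 G := by
  haveI : Fact (Nat.Prime 2) := ⟨Nat.prime_two⟩
  exact Helper1.fittingSubgroup_eq_pCore_of_pPrimeCore_eq_bot 2 (ppc_bot hS)

/-- no component centralizes `z` -/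
theorem comp_not_centralize (hS : LES Q z) {L : Subgroup G} (hL : Cfsg.IsComponent L)
    (h : ∀ l ∈ L, l * z = z * l) : False := by
  haveI : Fact (Nat.Prime 2) := ⟨Nat.prime_two⟩
  have hinv : L ≤ Subgroup.normalizer (Q : Set G) :=
    le_normalizer_of_conj_mem L Q (fun l hl q hq => hS.norm l (h l hl) q hq)
  haveI : Group.IsNilpotent ↥Q := hS.two.isNilpotent
  have hsolv : Group.IsSolvable ↥Q := inferInstance
  have h1 : ⁅L, Q⁆ = ⊥ := Helper9.comp_commutator_solvable_eq_bot hL hsolv hinv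
  have h2 : L ≤ Subgroup.centralizer (Q : Set G) :=
    Subgroup.commutator_eq_bot_iff_le_centralizer.mp h1
  have hLZ : ∀ l ∈ L, l = 1 ∨ l = z := by
    intro l hl
    apply hS.cent
    intro q hq
    exact Subgroup.mem_centralizer_iff.mp (h2 hl) q hq
  apply Helper9.comp_not_le_centralizer hL
  intro l hl
  rw [Subgroup.mem_centralizer_iff]
  intro l' hl'
  rcases hLZ l hl with h3 | h3 <;> rcases hLZ l' hl' with h4 | h4 <;> simp [h3, h4]

/-- the case `O_2(G) ≠ 1` -/
theorem caseA (hS : LES Q z) (hR : Cfsg.pCore 2 G ≠ ⊥) :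
    IsMulCommutative ↥(Subgroup.normalClosure ({z} : Set G)) ∧
      Cfsg.generalizedFittingSubgroup G = Cfsg.pCore 2 G := by
  haveI : Fact (Nat.Prime 2) := ⟨Nat.prime_two⟩
  obtain ⟨R, hRdef⟩ : ∃ R : Subgroup G, R = Cfsg.pCore 2 G := ⟨_, rfl⟩
  rw [← hRdef] at hR ⊢
  haveI hRn : R.Normal := by
    rw [hRdef]
    exact Helper1.pCore_normal 2
  have hR2 : IsPGroup 2 ↥R := by
    rw [hRdef]
    exact Helper1.pCore_isPGroup 2
  have hZRn : (R ⊓ Subgroup.centralizer (R : Set G)).Normal := inferInstance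
  haveI : Nontrivial ↥R := (Subgroup.nontrivial_iff_ne_bot R).mpr hR
  haveI := hR2.center_nontrivial
  obtain ⟨c, hc1⟩ := exists_ne (1 : ↥(Subgroup.center ↥R))
  have hcZR : ((c : ↥R) : G) ∈ R ⊓ Subgroup.centralizer (R : Set G) := by
    refine Subgroup.mem_inf.mpr ⟨(c : ↥R).2, ?_⟩
    rw [Subgroup.mem_centralizer_iff]
    intro r hr
    have h3 := Subgroup.mem_center_iff.mp c.2 ⟨r, hr⟩
    exact congrArg Subtype.val h3
  have hZRne : R ⊓ Subgroup.centralizer (R : Set G) ≠ ⊥ := by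
    intro h
    rw [h, Subgroup.mem_bot] at hcZR
    apply hc1
    apply Subtype.ext
    apply Subtype.ext
    exact hcZR
  have hzZR : z ∈ R ⊓ Subgroup.centralizer (R : Set G) :=
    z_mem_of_invariant hS _ (fun q _ x hx => hZRn.conj_mem x hx q) hZRne
  have hMle : Subgroup.normalClosure ({z} : Set G) ≤ R ⊓ Subgroup.centralizer (R : Set G) :=
    Subgroup.normalClosure_le_normal (Set.singleton_subset_iff.mpr hzZR)
  have hzF : z ∈ Cfsg.fittingSubgroup G := by
    rw [fit_eq hS, ← hRdef]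
    exact (Subgroup.mem_inf.mp hzZR).1
  have hlayer : Cfsg.layer G = ⊥ := by
    rw [eq_bot_iff]
    apply sSup_le
    intro L hL
    exfalso
    apply comp_not_centralize hS hL
    intro l hl
    have h2 : Cfsg.layer G ≤ Subgroup.centralizer (Cfsg.fittingSubgroup G : Set G) :=
      Subgroup.commutator_eq_bot_iff_le_centralizer.mp Helper9.commutator_layer_fitting
    have h3 := h2 (Helper9.comp_le_layer hL hl)
    exact (Subgroup.mem_centralizer_iff.mp h3 z hzF).symm
  constructor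
  · refine ⟨⟨fun a b => Subtype.ext ?_⟩⟩
    have ha := hMle a.2
    have hb := hMle b.2
    exact (Subgroup.mem_centralizer_iff.mp (Subgroup.mem_inf.mp ha).2 b
      (Subgroup.mem_inf.mp hb).1).symm
  · unfold Cfsg.generalizedFittingSubgroup
    rw [hlayer, bot_sup_eq, fit_eq hS, hRdef]

end Setting


/-! ### the case `O_2(G) = 1` -/

section CaseB

variable {G : Type*} [Group G] [Finite G] {Q : Subgroup G} {z : G}

theorem layer_inf_cent (hF : Cfsg.fittingSubgroup G = ⊥) :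
    Cfsg.layer G ⊓ Subgroup.centralizer (Cfsg.layer G : Set G) = ⊥ := by
  rw [← Helper9.map_center_eq_inf_centralizer, Helper9.map_center_layer_eq, hF, bot_inf_eq]

theorem cent_layer (hF : Cfsg.fittingSubgroup G = ⊥) :
    Subgroup.centralizer (Cfsg.layer G : Set G) = ⊥ := by
  have hg : Cfsg.generalizedFittingSubgroup G = Cfsg.layer G := by
    unfold Cfsg.generalizedFittingSubgroup
    rw [hF, sup_bot_eq]
  have h1 := Helper9.centralizer_gfs_le (G := G)
  rw [hg] at h1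
  rw [eq_bot_iff, ← layer_inf_cent hF]
  exact le_inf h1 le_rfl

theorem comp_inf_cent (hF : Cfsg.fittingSubgroup G = ⊥) {L : Subgroup G}
    (hL : Cfsg.IsComponent L) : L ⊓ Subgroup.centralizer (L : Set G) = ⊥ := by
  rw [← Helper9.map_center_eq_inf_centralizer, eq_bot_iff]
  have h2 : (Subgroup.center ↥L).map L.subtype ≤
      (Subgroup.center ↥(Cfsg.layer G)).map (Cfsg.layer G).subtype := by
    rw [Helper9.map_center_layer_eq_iSup]
    exact le_iSup (fun K : {K : Subgroup G // Cfsg.IsComponent K} =>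
      (Subgroup.center ↥(K : Subgroup G)).map (K : Subgroup G).subtype) ⟨L, hL⟩
  rw [Helper9.map_center_eq_inf_centralizer (Cfsg.layer G), layer_inf_cent hF] at h2
  exact h2

theorem comp_simple (hF : Cfsg.fittingSubgroup G = ⊥) {L : Subgroup G}
    (hL : Cfsg.IsComponent L) : IsSimpleGroup ↥L := by
  have hZ := comp_inf_cent hF hL
  have hc : Subgroup.center ↥L = ⊥ := by
    rw [eq_bot_iff]
    intro c hc
    rw [Subgroup.mem_bot]
    have h1 : (c : G) ∈ L ⊓ Subgroup.centralizer (L : Set G) := by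
      refine Subgroup.mem_inf.mpr ⟨c.2, ?_⟩
      rw [Subgroup.mem_centralizer_iff]
      intro l hl
      exact congrArg Subtype.val (Subgroup.mem_center_iff.mp hc ⟨l, hl⟩)
    rw [hZ, Subgroup.mem_bot] at h1
    exact Subtype.ext h1
  have hnt : Nontrivial ↥L := Helper9.qs_nontrivial hL.2
  refine { toNontrivial := hnt, eq_bot_or_eq_top_of_normal := ?_ }
  intro N hN
  haveI := hN
  rcases Helper9.qs_normal_le_center_or_eq_top hL.2 N with h | h
  · left
    rw [hc] at h
    exact eq_bot_iff.mpr h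
  · exact Or.inr h

theorem comp_nonabelian {L : Subgroup G} (hL : Cfsg.IsComponent L) : ¬ IsMulCommutative ↥L := by
  intro h
  apply Helper9.comp_not_le_centralizer hL
  intro x hx
  rw [Subgroup.mem_centralizer_iff]
  intro y hy
  exact congrArg Subtype.val (h.is_comm.comm (⟨y, hy⟩ : ↥L) ⟨x, hx⟩)

theorem layer_le_sup {K : Subgroup G} (hK : Cfsg.IsComponent K) :
    Cfsg.layer G ≤ K ⊔ (Cfsg.layer G ⊓ Subgroup.centralizer (K : Set G)) := by
  apply sSup_le
  intro K' hK'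
  by_cases h : K' = K
  · rw [h]
    exact le_sup_left
  · refine le_trans ?_ le_sup_right
    apply le_inf (Helper9.comp_le_layer hK')
    exact Subgroup.commutator_eq_bot_iff_le_centralizer.mp
      (Helper9.comp_commutator_eq_bot_of_ne hK' hK h)

theorem exists_dec {K : Subgroup G} (hK : Cfsg.IsComponent K) {e : G} (he : e ∈ Cfsg.layer G) :
    ∃ k ∈ K, ∃ c ∈ Subgroup.centralizer (K : Set G), c ∈ Cfsg.layer G ∧ k * c = e := by
  have h1 := layer_le_sup hK he
  have hcomm : ∀ a ∈ K, ∀ b ∈ Cfsg.layer G ⊓ Subgroup.centralizer (K : Set G),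
      a * b = b * a := by
    intro a ha b hb
    exact Subgroup.mem_centralizer_iff.mp (Subgroup.mem_inf.mp hb).2 a ha
  obtain ⟨k, hk, c, hc, hkc⟩ := (Helper9.mem_sup_of_commute hcomm).mp h1
  exact ⟨k, hk, c, (Subgroup.mem_inf.mp hc).2, (Subgroup.mem_inf.mp hc).1, hkc⟩

theorem z_mem_layer (hS : LES Q z) (hF : Cfsg.fittingSubgroup G = ⊥) : z ∈ Cfsg.layer G := by
  have hEn : (Cfsg.layer G).Normal := inferInstance
  apply z_mem_of_invariant hS _ (fun q _ x hx => hEn.conj_mem x hx q)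
  intro h
  have h1 := cent_layer hF (G := G)
  rw [h] at h1
  have h2 : z ∈ Subgroup.centralizer ((⊥ : Subgroup G) : Set G) := by
    rw [Subgroup.mem_centralizer_iff]
    intro y hy
    have hy1 : y = 1 := Subgroup.mem_bot.mp hy
    rw [hy1, one_mul, mul_one]
  rw [h1, Subgroup.mem_bot] at h2
  exact hS.z_ne h2

theorem caseB_M (hS : LES Q z) (hF : Cfsg.fittingSubgroup G = ⊥) :
    Subgroup.normalClosure ({z} : Set G) = Cfsg.layer G := by
  have hzE := z_mem_layer hS hF
  obtain ⟨M, hMdef⟩ : ∃ M : Subgroup G, M = Subgroup.normalClosure ({z} : Set G) := ⟨_, rfl⟩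
  rw [← hMdef]
  haveI hMn : M.Normal := by
    rw [hMdef]
    exact Subgroup.normalClosure_normal
  have hzM : z ∈ M := by
    rw [hMdef]
    exact Subgroup.subset_normalClosure (Set.mem_singleton z)
  have hME : M ≤ Cfsg.layer G := by
    rw [hMdef]
    exact Subgroup.normalClosure_le_normal (Set.singleton_subset_iff.mpr hzE)
  apply le_antisymm hME
  apply sSup_le
  intro L hL
  rcases Helper9.comp_le_or_commutator_eq_bot hL hMn.isSubnormal with h | h
  · exact h
  · exfalso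
    have hLC : L ≤ Subgroup.centralizer (M : Set G) :=
      Subgroup.commutator_eq_bot_iff_le_centralizer.mp h
    have hXn : (Cfsg.layer G ⊓ Subgroup.centralizer (M : Set G)).Normal := inferInstance
    have hXne : Cfsg.layer G ⊓ Subgroup.centralizer (M : Set G) ≠ ⊥ := by
      intro h0
      apply Helper9.comp_ne_bot hL
      rw [eq_bot_iff, ← h0]
      exact le_inf (Helper9.comp_le_layer hL) hLC
    have hzX := z_mem_of_invariant hS _ (fun q _ x hx => hXn.conj_mem x hx q) hXne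
    have hZMn : (M ⊓ Subgroup.centralizer (M : Set G)).Normal := inferInstance
    haveI : IsMulCommutative ↥(M ⊓ Subgroup.centralizer (M : Set G)) := by
      refine ⟨⟨fun a b => Subtype.ext ?_⟩⟩
      exact (Subgroup.mem_centralizer_iff.mp (Subgroup.mem_inf.mp a.2).2 b
        (Subgroup.mem_inf.mp b.2).1).symm
    have hnil : Group.IsNilpotent ↥(M ⊓ Subgroup.centralizer (M : Set G)) :=
      Helper9.isNilpotent_of_isMulCommutative
    have hle := Helper1.le_fittingSubgroup hZMn hnil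
    rw [hF] at hle
    have hz1 := hle (Subgroup.mem_inf.mpr ⟨hzM, (Subgroup.mem_inf.mp hzX).2⟩)
    exact hS.z_ne (Subgroup.mem_bot.mp hz1)

theorem layer_eq_of_invariant (hS : LES Q z) (hF : Cfsg.fittingSubgroup G = ⊥) {L : Subgroup G}
    (hL : Cfsg.IsComponent L) (hinv : ∀ q ∈ Q, ∀ l ∈ L, q * l * q⁻¹ ∈ L) :
    Cfsg.layer G = L := by
  have hEn : (Cfsg.layer G).Normal := inferInstance
  have hzL : z ∈ L := z_mem_of_invariant hS L hinv (Helper9.comp_ne_bot hL)
  have hY : Cfsg.layer G ⊓ Subgroup.centralizer (L : Set G) = ⊥ := by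
    by_contra hne
    have hzY : z ∈ Cfsg.layer G ⊓ Subgroup.centralizer (L : Set G) := by
      apply z_mem_of_invariant hS _ _ hne
      intro q hq x hx
      refine Subgroup.mem_inf.mpr ⟨hEn.conj_mem x (Subgroup.mem_inf.mp hx).1 q, ?_⟩
      refine conj_mem_centralizer L q (fun l hl => ?_) x (Subgroup.mem_inf.mp hx).2
      have h3 := hinv q⁻¹ (Q.inv_mem hq) l hl
      rwa [inv_inv] at h3
    have h1 : z ∈ L ⊓ Subgroup.centralizer (L : Set G) :=
      Subgroup.mem_inf.mpr ⟨hzL, (Subgroup.mem_inf.mp hzY).2⟩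
    rw [comp_inf_cent hF hL, Subgroup.mem_bot] at h1
    exact hS.z_ne h1
  apply le_antisymm _ (Helper9.comp_le_layer hL)
  apply sSup_le
  intro K hK
  by_cases h : K = L
  · exact le_of_eq h
  · exfalso
    apply Helper9.comp_ne_bot hK
    rw [eq_bot_iff, ← hY]
    exact le_inf (Helper9.comp_le_layer hK) (Subgroup.commutator_eq_bot_iff_le_centralizer.mp
      (Helper9.comp_commutator_eq_bot_of_ne hK hL h))

/-- `Q` is transitive on the components -/
theorem transitive (hS : LES Q z) (hF : Cfsg.fittingSubgroup G = ⊥) {L : Subgroup G}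
    (hL : Cfsg.IsComponent L) {K : Subgroup G} (hK : Cfsg.IsComponent K) :
    ∃ q ∈ Q, K = L.map (MulAut.conj q).toMonoidHom := by
  classical
  by_contra hcon
  obtain ⟨O, hOdef⟩ : ∃ O : Set (Subgroup G),
      O = {K' | ∃ q ∈ Q, K' = L.map (MulAut.conj q).toMonoidHom} := ⟨_, rfl⟩
  obtain ⟨O', hO'def⟩ : ∃ O' : Set (Subgroup G),
      O' = {K' | Cfsg.IsComponent K' ∧ K' ∉ O} := ⟨_, rfl⟩
  have memO : ∀ K', K' ∈ O ↔ ∃ q ∈ Q, K' = L.map (MulAut.conj q).toMonoidHom := by
    intro K'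
    rw [hOdef]
    rfl
  have memO' : ∀ K', K' ∈ O' ↔ (Cfsg.IsComponent K' ∧ K' ∉ O) := by
    intro K'
    rw [hO'def]
    rfl
  have hOcomp : ∀ K' ∈ O, Cfsg.IsComponent K' := by
    intro K' hK'
    obtain ⟨q, -, rfl⟩ := (memO K').mp hK'
    exact Helper9.isComponent_conj hL q
  have hOstab : ∀ q ∈ Q, ∀ K' ∈ O, K'.map (MulAut.conj q).toMonoidHom ∈ O := by
    intro q hq K' hK'
    obtain ⟨q', hq', rfl⟩ := (memO K').mp hK'
    exact (memO _).mpr ⟨q * q', Q.mul_mem hq hq', (Helper9.conjMap_mul L q q').symm⟩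
  have hO'stab : ∀ q ∈ Q, ∀ K' ∈ O', K'.map (MulAut.conj q).toMonoidHom ∈ O' := by
    intro q hq K' hK'
    obtain ⟨hc, hn⟩ := (memO' K').mp hK'
    refine (memO' _).mpr ⟨Helper9.isComponent_conj hc q, ?_⟩
    intro h
    apply hn
    have h2 := hOstab q⁻¹ (Q.inv_mem hq) _ h
    rwa [Helper9.conjMap_inv_conjMap] at h2
  obtain ⟨X, hXdef⟩ : ∃ X : Subgroup G, X = sSup O := ⟨_, rfl⟩
  obtain ⟨W, hWdef⟩ : ∃ W : Subgroup G, W = sSup O' := ⟨_, rfl⟩
  have hXinv : ∀ q ∈ Q, ∀ x ∈ X, q * x * q⁻¹ ∈ X := by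
    intro q hq
    rw [hXdef]
    exact sSup_conj_mem O q (hOstab q hq)
  have hWinv : ∀ q ∈ Q, ∀ x ∈ W, q * x * q⁻¹ ∈ W := by
    intro q hq
    rw [hWdef]
    exact sSup_conj_mem O' q (hO'stab q hq)
  have hLO : L ∈ O := (memO L).mpr ⟨1, Q.one_mem, (Helper9.conjMap_one L).symm⟩
  have hKO' : K ∈ O' := (memO' K).mpr ⟨hK, fun h => hcon ((memO K).mp h)⟩
  have hXne : X ≠ ⊥ := by
    intro h
    apply Helper9.comp_ne_bot hL
    rw [eq_bot_iff, ← h, hXdef]
    exact le_sSup hLO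
  have hWne : W ≠ ⊥ := by
    intro h
    apply Helper9.comp_ne_bot hK
    rw [eq_bot_iff, ← h, hWdef]
    exact le_sSup hKO'
  have hzX := z_mem_of_invariant hS X hXinv hXne
  have hzW := z_mem_of_invariant hS W hWinv hWne
  have hXW : X ≤ Subgroup.centralizer (W : Set G) := by
    rw [hXdef]
    apply sSup_le
    intro K1 hK1
    rw [Subgroup.le_centralizer_iff, hWdef]
    apply sSup_le
    intro K2 hK2
    obtain ⟨hc2, hn2⟩ := (memO' K2).mp hK2
    have hne : K2 ≠ K1 := by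
      intro h
      apply hn2
      rw [h]
      exact hK1
    exact Subgroup.commutator_eq_bot_iff_le_centralizer.mp
      (Helper9.comp_commutator_eq_bot_of_ne hc2 (hOcomp K1 hK1) hne)
  have hXz : X ≤ Subgroup.centralizer ({z} : Set G) := by
    intro x hx
    rw [Subgroup.mem_centralizer_iff]
    intro y hy
    rw [Set.mem_singleton_iff] at hy
    rw [hy]
    exact Subgroup.mem_centralizer_iff.mp (hXW hx) z hzW
  have hWz : W ≤ Subgroup.centralizer ({z} : Set G) := by
    intro w hw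
    rw [Subgroup.mem_centralizer_iff]
    intro y hy
    rw [Set.mem_singleton_iff] at hy
    rw [hy]
    exact (Subgroup.mem_centralizer_iff.mp (hXW hzX) w hw).symm
  have hEz : Cfsg.layer G ≤ Subgroup.centralizer ({z} : Set G) := by
    apply sSup_le
    intro K1 hK1
    by_cases h : K1 ∈ O
    · refine le_trans ?_ hXz
      rw [hXdef]
      exact le_sSup h
    · refine le_trans ?_ hWz
      rw [hWdef]
      exact le_sSup ((memO' K1).mpr ⟨hK1, h⟩)
  have hzc : z ∈ Subgroup.centralizer (Cfsg.layer G : Set G) := by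
    rw [Subgroup.mem_centralizer_iff]
    intro e he
    exact (Subgroup.mem_centralizer_iff.mp (hEz he) z (Set.mem_singleton z)).symm
  rw [cent_layer hF, Subgroup.mem_bot] at hzc
  exact hS.z_ne hzc

theorem exists_z1 (hS : LES Q z) (hF : Cfsg.fittingSubgroup G = ⊥) {L : Subgroup G}
    (hL : Cfsg.IsComponent L) :
    ∃ z₁ ∈ L, ∃ c ∈ Subgroup.centralizer (L : Set G), c ∈ Cfsg.layer G ∧ z₁ * c = z ∧ z₁ ≠ 1 ∧
      z₁ * z₁ = 1 ∧ ∀ d ∈ L, (d * z = z * d ↔ d * z₁ = z₁ * d) := by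
  obtain ⟨z₁, hz₁, c, hc, hcE, hzc⟩ := exists_dec hL (z_mem_layer hS hF)
  have hZ := comp_inf_cent hF hL
  have hcomm : z₁ * c = c * z₁ := comm_of_mem_centralizer hz₁ hc
  refine ⟨z₁, hz₁, c, hc, hcE, hzc, ?_, ?_, ?_⟩
  · intro h1
    apply comp_not_centralize hS hL
    intro l hl
    rw [← hzc, h1, one_mul]
    exact comm_of_mem_centralizer hl hc
  · have h1 : (z₁ * z₁) * (c * c) = 1 * 1 := by
      rw [← sq_prod z₁ c hcomm, hzc, hS.z_sq, one_mul]
    exact (uniq_dec hZ (L.mul_mem hz₁ hz₁) L.one_mem (Subgroup.mul_mem _ hc hc)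
      (Subgroup.one_mem _) h1).1
  · intro d hd
    have hdc : d * c = c * d := comm_of_mem_centralizer hd hc
    constructor
    · intro h
      have h1 : (d * z₁) * c = (z₁ * d) * c := by
        calc (d * z₁) * c = d * (z₁ * c) := by group
          _ = (z₁ * c) * d := by rw [hzc]; exact h
          _ = z₁ * (c * d) := by group
          _ = z₁ * (d * c) := by rw [hdc]
          _ = (z₁ * d) * c := by group
      exact mul_right_cancel h1
    · intro h
      rw [← hzc]
      calc d * (z₁ * c) = (d * z₁) * c := by group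
        _ = (z₁ * d) * c := by rw [h]
        _ = z₁ * (d * c) := by group
        _ = z₁ * (c * d) := by rw [hdc]
        _ = z₁ * c * d := by group

theorem comp_burn (hF : Cfsg.fittingSubgroup G = ⊥) {L : Subgroup G} (hL : Cfsg.IsComponent L)
    {t : G} (htL : t ∈ L) (ht1 : t ≠ 1)
    (hC : ∀ d ∈ L, d * t = t * d → d = 1 ∨ d = t) : False := by
  haveI := comp_simple hF hL
  apply burn (H := ↥L) (comp_nonabelian hL) ⟨t, htL⟩ (fun h => ht1 (congrArg Subtype.val h))
  intro d hd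
  have h1 : (d : G) * t = t * (d : G) := congrArg Subtype.val hd
  rcases hC d.1 d.2 h1 with h | h
  · exact Or.inl (Subtype.ext h)
  · exact Or.inr (Subtype.ext h)

/-- with a third component, the centralizer of `z` in a component has order two -/
theorem third_small (hS : LES Q z) (hF : Cfsg.fittingSubgroup G = ⊥) {L : Subgroup G}
    (hL : Cfsg.IsComponent L) {u : G} (hu : u ∈ Q)
    (hne : L.map (MulAut.conj u).toMonoidHom ≠ L)
    {K : Subgroup G} (hK : Cfsg.IsComponent K) (hKL : K ≠ L)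
    (hKL' : K ≠ L.map (MulAut.conj u).toMonoidHom)
    {z₁ c : G} (hz₁ : z₁ ∈ L) (hc : c ∈ Subgroup.centralizer (L : Set G)) (hzc : z₁ * c = z)
    (hsq : z₁ * z₁ = 1) :
    ∀ d ∈ L, d * z = z * d → d = 1 ∨ d = z₁ := by
  intro d hd hdz
  obtain ⟨t, ht, hKt⟩ := transitive hS hF hL hK
  obtain ⟨L', hL'def⟩ : ∃ L' : Subgroup G, L' = L.map (MulAut.conj u).toMonoidHom := ⟨_, rfl⟩
  rw [← hL'def] at hne hKL'
  have hL' : Cfsg.IsComponent L' := by
    rw [hL'def]
    exact Helper9.isComponent_conj hL u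
  obtain ⟨v, hvdef⟩ : ∃ v : G, v = t⁻¹ := ⟨_, rfl⟩
  have hv : v ∈ Q := by
    rw [hvdef]
    exact Q.inv_mem ht
  have hKv : K.map (MulAut.conj v).toMonoidHom = L := by
    rw [hvdef, hKt]
    exact Helper9.conjMap_inv_conjMap L t
  have hinj : Function.Injective
      (Subgroup.map (MulAut.conj v).toMonoidHom : Subgroup G → Subgroup G) :=
    Subgroup.map_injective (MulAut.conj v).injective
  have hK1 : L.map (MulAut.conj v).toMonoidHom ≠ L := by
    intro h
    apply hKL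
    apply hinj
    rw [hKv, h]
  have hK2 : L'.map (MulAut.conj v).toMonoidHom ≠ L := by
    intro h
    apply hKL'
    apply hinj
    rw [hKv, h]
  have hZ := comp_inf_cent hF hL
  have hc1 : L.map (MulAut.conj v).toMonoidHom ≤ Subgroup.centralizer (L : Set G) :=
    Subgroup.commutator_eq_bot_iff_le_centralizer.mp
      (Helper9.comp_commutator_eq_bot_of_ne (Helper9.isComponent_conj hL v) hL hK1)
  have hc2 : L'.map (MulAut.conj v).toMonoidHom ≤ Subgroup.centralizer (L : Set G) :=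
    Subgroup.commutator_eq_bot_iff_le_centralizer.mp
      (Helper9.comp_commutator_eq_bot_of_ne (Helper9.isComponent_conj hL' v) hL hK2)
  have hL'c : L' ≤ Subgroup.centralizer (L : Set G) :=
    Subgroup.commutator_eq_bot_iff_le_centralizer.mp
      (Helper9.comp_commutator_eq_bot_of_ne hL' hL hne)
  obtain ⟨e, hedef⟩ : ∃ e : G, e = u * d⁻¹ * u⁻¹ := ⟨_, rfl⟩
  have he : e ∈ L' := by
    rw [hedef, hL'def]
    exact Helper9.conj_mem_conjMap (L.inv_mem hd)
  have hbQ : d * e ∈ Q := by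
    have h1 := hS.norm d hdz u hu
    have h3 := Q.mul_mem h1 (Q.inv_mem hu)
    have e1 : d * u * d⁻¹ * u⁻¹ = d * e := by
      rw [hedef]
      group
    rwa [e1] at h3
  have hb' : v * (d * e) * v⁻¹ ∈ Subgroup.centralizer (L : Set G) := by
    have e1 : v * (d * e) * v⁻¹ = (v * d * v⁻¹) * (v * e * v⁻¹) := by group
    rw [e1]
    exact Subgroup.mul_mem _ (hc1 (Helper9.conj_mem_conjMap hd))
      (hc2 (Helper9.conj_mem_conjMap he))
  rcases hS.comm v hv (d * e) hbQ with h | h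
  · left
    have h1 : v * (d * e) * v⁻¹ = d * e := by
      calc v * (d * e) * v⁻¹ = (v * (d * e) * v⁻¹ * (d * e)⁻¹) * (d * e) := by group
        _ = d * e := by rw [h, one_mul]
    rw [h1] at hb'
    have hdc : d ∈ Subgroup.centralizer (L : Set G) := by
      have e2 : d = (d * e) * e⁻¹ := by group
      rw [e2]
      exact Subgroup.mul_mem _ hb' (Subgroup.inv_mem _ (hL'c he))
    have h2 : d ∈ L ⊓ Subgroup.centralizer (L : Set G) := Subgroup.mem_inf.mpr ⟨hd, hdc⟩
    rw [hZ, Subgroup.mem_bot] at h2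
    exact h2
  · right
    have h1 : v * (d * e) * v⁻¹ = z * (d * e) := by
      calc v * (d * e) * v⁻¹ = (v * (d * e) * v⁻¹ * (d * e)⁻¹) * (d * e) := by group
        _ = z * (d * e) := by rw [h]
    rw [h1] at hb'
    have hcd : c * d = d * c := (comm_of_mem_centralizer hd hc).symm
    have h3 : z₁ * d = (z * (d * e)) * e⁻¹ * c⁻¹ := by
      rw [← hzc]
      calc z₁ * d = z₁ * (d * c) * c⁻¹ := by group
        _ = z₁ * (c * d) * c⁻¹ := by rw [hcd]
        _ = z₁ * c * (d * e) * e⁻¹ * c⁻¹ := by group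
    have h4 : z₁ * d ∈ L ⊓ Subgroup.centralizer (L : Set G) := by
      refine Subgroup.mem_inf.mpr ⟨L.mul_mem hz₁ hd, ?_⟩
      rw [h3]
      exact Subgroup.mul_mem _ (Subgroup.mul_mem _ hb' (Subgroup.inv_mem _ (hL'c he)))
        (Subgroup.inv_mem _ hc)
    rw [hZ, Subgroup.mem_bot] at h4
    calc d = z₁ * (z₁ * d) := by rw [← mul_assoc, hsq, one_mul]
      _ = z₁ := by rw [h4, mul_one]

/-- the case of exactly two components -/
theorem two_comp (hS : LES Q z) (hF : Cfsg.fittingSubgroup G = ⊥) {L : Subgroup G}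
    (hL : Cfsg.IsComponent L) {u : G} (hu : u ∈ Q)
    (hne : L.map (MulAut.conj u).toMonoidHom ≠ L)
    (h2 : ∀ K : Subgroup G, Cfsg.IsComponent K →
      K = L ∨ K = L.map (MulAut.conj u).toMonoidHom) :
    L ⊓ L.map (MulAut.conj u).toMonoidHom = ⊥ ∧
    (∀ x ∈ L, ∀ y ∈ L.map (MulAut.conj u).toMonoidHom, x * y = y * x) ∧
    L ⊔ L.map (MulAut.conj u).toMonoidHom = Cfsg.layer G ∧
    ∃ z₁ ∈ L, z = z₁ * (u * z₁ * u⁻¹) ∧
      (∃ R : Sylow 2 ↥L,
        (R : Subgroup ↥L) = (Subgroup.centralizer ({z₁} : Set G)).subgroupOf L ∧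
        (frattini ↥(R : Subgroup ↥L)).map ((L.subtype).comp (R : Subgroup ↥L).subtype) ≤
          Subgroup.zpowers z₁) ∧
      Q ≠ (Cfsg.pCore 2 ↥(Subgroup.centralizer ({z} : Set G))).map
        (Subgroup.centralizer ({z} : Set G)).subtype := by
  classical
  haveI : Fact (Nat.Prime 2) := ⟨Nat.prime_two⟩
  obtain ⟨L', hL'def⟩ : ∃ L' : Subgroup G, L' = L.map (MulAut.conj u).toMonoidHom := ⟨_, rfl⟩
  rw [← hL'def] at hne h2 ⊢
  have hL' : Cfsg.IsComponent L' := by
    rw [hL'def]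
    exact Helper9.isComponent_conj hL u
  have hZ := comp_inf_cent hF hL
  have hL'c : L' ≤ Subgroup.centralizer (L : Set G) :=
    Subgroup.commutator_eq_bot_iff_le_centralizer.mp
      (Helper9.comp_commutator_eq_bot_of_ne hL' hL hne)
  have memL' : ∀ x : G, x ∈ L' ↔ u⁻¹ * x * u ∈ L := by
    intro x
    rw [hL'def]
    exact Helper9.mem_conjMap
  have conjL' : ∀ x ∈ L, u * x * u⁻¹ ∈ L' := by
    intro x hx
    rw [hL'def]
    exact Helper9.conj_mem_conjMap hx
  have hE : L ⊔ L' = Cfsg.layer G := by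
    apply le_antisymm (sup_le (Helper9.comp_le_layer hL) (Helper9.comp_le_layer hL'))
    apply sSup_le
    intro K hK
    rcases h2 K hK with h | h
    · rw [h]
      exact le_sup_left
    · rw [h]
      exact le_sup_right
  have hcommLL' : ∀ x ∈ L, ∀ y ∈ L', x * y = y * x := fun x hx y hy =>
    comm_of_mem_centralizer hx (hL'c hy)
  have hinf : L ⊓ L' = ⊥ := by
    rw [eq_bot_iff, ← hZ]
    exact inf_le_inf_left L hL'c
  obtain ⟨z₁, hz₁, c, hc, hcE, hzc, hz₁ne, hz₁sq, hiff⟩ := exists_z1 hS hF hL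
  have hcL' : c ∈ L' := by
    rw [← hE] at hcE
    obtain ⟨l, hl, l', hl', hll⟩ := (Helper9.mem_sup_of_commute hcommLL').mp hcE
    have h3 : l ∈ L ⊓ Subgroup.centralizer (L : Set G) := by
      refine Subgroup.mem_inf.mpr ⟨hl, ?_⟩
      have e1 : l = c * l'⁻¹ := by
        rw [← hll]
        group
      rw [e1]
      exact Subgroup.mul_mem _ hc (Subgroup.inv_mem _ (hL'c hl'))
    rw [hZ, Subgroup.mem_bot] at h3
    rw [← hll, h3, one_mul]
    exact hl'
  have huL' : ∀ x ∈ L', u * x * u⁻¹ ∈ L := by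
    intro x hx
    have hcomp : Cfsg.IsComponent (L'.map (MulAut.conj u).toMonoidHom) :=
      Helper9.isComponent_conj hL' u
    have hne2 : L'.map (MulAut.conj u).toMonoidHom ≠ L' := by
      intro h
      apply hne
      have hinj : Function.Injective
          (Subgroup.map (MulAut.conj u).toMonoidHom : Subgroup G → Subgroup G) :=
        Subgroup.map_injective (MulAut.conj u).injective
      apply hinj
      rw [h]
      exact hL'def
    rcases h2 _ hcomp with h | h
    · rw [← h]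
      exact Helper9.conj_mem_conjMap hx
    · exact absurd h hne2
  have huz : u * z * u⁻¹ = z := by
    have h := hS.z_comm u hu
    calc u * z * u⁻¹ = (z * u) * u⁻¹ := by rw [h]
      _ = z := by group
  have hc_eq : c = u * z₁ * u⁻¹ := by
    have h1 : z₁ * c = (u * c * u⁻¹) * (u * z₁ * u⁻¹) := by
      have hcomm' : (u * c * u⁻¹) * (u * z₁ * u⁻¹) = (u * z₁ * u⁻¹) * (u * c * u⁻¹) :=
        hcommLL' _ (huL' c hcL') _ (conjL' z₁ hz₁)
      rw [hcomm', hzc]
      calc z = u * z * u⁻¹ := huz.symm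
        _ = (u * z₁ * u⁻¹) * (u * c * u⁻¹) := by
          rw [← hzc]
          group
    exact (uniq_dec hZ hz₁ (huL' c hcL') hc (hL'c (conjL' z₁ hz₁)) h1).2
  have hzz : z = z₁ * (u * z₁ * u⁻¹) := by
    rw [← hc_eq]
    exact hzc.symm
  have heL' : ∀ d ∈ L, u * d⁻¹ * u⁻¹ ∈ L' := fun d hd => conjL' _ (L.inv_mem hd)
  have hbQ : ∀ d ∈ L, d * z₁ = z₁ * d → d * (u * d⁻¹ * u⁻¹) ∈ Q := by
    intro d hd hdz
    have h1 := hS.norm d ((hiff d hd).mpr hdz) u hu
    have h3 := Q.mul_mem h1 (Q.inv_mem hu)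
    have e1 : d * u * d⁻¹ * u⁻¹ = d * (u * d⁻¹ * u⁻¹) := by group
    rwa [e1] at h3
  have hsqd : ∀ d ∈ L, d * z₁ = z₁ * d → d * d = 1 ∨ d * d = z₁ := by
    intro d hd hdz
    have hb := hbQ d hd hdz
    have he := heL' d hd
    have hde : d * (u * d⁻¹ * u⁻¹) = (u * d⁻¹ * u⁻¹) * d := hcommLL' d hd _ he
    have hsq := sq_prod d (u * d⁻¹ * u⁻¹) hde
    have hee : (u * d⁻¹ * u⁻¹) * (u * d⁻¹ * u⁻¹) ∈ Subgroup.centralizer (L : Set G) :=
      Subgroup.mul_mem _ (hL'c he) (hL'c he)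
    rcases hS.sq _ hb with h | h
    · left
      rw [hsq] at h
      have h' : (d * d) * ((u * d⁻¹ * u⁻¹) * (u * d⁻¹ * u⁻¹)) = 1 * 1 := by
        rw [h, one_mul]
      exact (uniq_dec hZ (L.mul_mem hd hd) L.one_mem hee (Subgroup.one_mem _) h').1
    · right
      rw [hsq, ← hzc] at h
      exact (uniq_dec hZ (L.mul_mem hd hd) hz₁ hee hc h).1
  have hcommd : ∀ d ∈ L, ∀ d' ∈ L, d * z₁ = z₁ * d → d' * z₁ = z₁ * d' →
      d * d' * d⁻¹ * d'⁻¹ = 1 ∨ d * d' * d⁻¹ * d'⁻¹ = z₁ := by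
    intro d hd d' hd' hdz hd'z
    have hb := hbQ d hd hdz
    have hb' := hbQ d' hd' hd'z
    have he := heL' d hd
    have he' := heL' d' hd'
    have hcp := comm_prod d d' (u * d⁻¹ * u⁻¹) (u * d'⁻¹ * u⁻¹)
      (hcommLL' d hd _ he) (hcommLL' d hd _ he') (hcommLL' d' hd' _ he) (hcommLL' d' hd' _ he')
    have hL1 : d * d' * d⁻¹ * d'⁻¹ ∈ L :=
      L.mul_mem (L.mul_mem (L.mul_mem hd hd') (L.inv_mem hd)) (L.inv_mem hd')
    have hC1 : (u * d⁻¹ * u⁻¹) * (u * d'⁻¹ * u⁻¹) * (u * d⁻¹ * u⁻¹)⁻¹ * (u * d'⁻¹ * u⁻¹)⁻¹ ∈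
        Subgroup.centralizer (L : Set G) :=
      hL'c (L'.mul_mem (L'.mul_mem (L'.mul_mem he he') (L'.inv_mem he)) (L'.inv_mem he'))
    rcases hS.comm _ hb _ hb' with h | h
    · left
      rw [hcp] at h
      have h' : (d * d' * d⁻¹ * d'⁻¹) * ((u * d⁻¹ * u⁻¹) * (u * d'⁻¹ * u⁻¹) *
          (u * d⁻¹ * u⁻¹)⁻¹ * (u * d'⁻¹ * u⁻¹)⁻¹) = 1 * 1 := by
        rw [h, one_mul]
      exact (uniq_dec hZ hL1 L.one_mem hC1 (Subgroup.one_mem _) h').1
    · right
      rw [hcp, ← hzc] at h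
      exact (uniq_dec hZ hL1 hz₁ hC1 hc h).1
  obtain ⟨S, hQS, hSz⟩ := exists_sylow hS
  haveI hEn : (Cfsg.layer G).Normal := inferInstance
  obtain ⟨D₁, hD₁def⟩ : ∃ D₁ : Subgroup ↥L,
      D₁ = (Subgroup.centralizer ({z₁} : Set G)).subgroupOf L := ⟨_, rfl⟩
  have memD₁ : ∀ x : ↥L, x ∈ D₁ ↔ (x : G) * z₁ = z₁ * (x : G) := by
    intro x
    rw [hD₁def, Subgroup.mem_subgroupOf, Subgroup.mem_centralizer_iff]
    constructor
    · intro h
      exact (h z₁ (Set.mem_singleton z₁)).symm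
    · intro h y hy
      rw [Set.mem_singleton_iff] at hy
      rw [hy]
      exact h.symm
  have key : ∀ P : Subgroup ↥L, D₁ ≤ P → ∀ t ∈ Cfsg.layer G, t * z = z * t →
      t ∈ P.map L.subtype ⊔ (P.map L.subtype).map (MulAut.conj u).toMonoidHom := by
    intro P hDP t htE htz
    rw [← hE] at htE
    obtain ⟨l, hl, l', hl', hll⟩ := (Helper9.mem_sup_of_commute hcommLL').mp htE
    have h1 : (l * z₁) * (l' * c) = (z₁ * l) * (c * l') := by
      have e1 : (l * z₁) * (l' * c) = (l * l') * (z₁ * c) := by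
        have h5 := hcommLL' z₁ hz₁ l' hl'
        calc (l * z₁) * (l' * c) = l * (z₁ * l') * c := by group
          _ = l * (l' * z₁) * c := by rw [h5]
          _ = (l * l') * (z₁ * c) := by group
      have e2 : (z₁ * l) * (c * l') = (z₁ * c) * (l * l') := by
        have h5 := comm_of_mem_centralizer hl hc
        calc (z₁ * l) * (c * l') = z₁ * (l * c) * l' := by group
          _ = z₁ * (c * l) * l' := by rw [h5]
          _ = (z₁ * c) * (l * l') := by group
      rw [e1, e2, hll, hzc]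
      exact htz
    have h3 := uniq_dec hZ (L.mul_mem hl hz₁) (L.mul_mem hz₁ hl)
      (Subgroup.mul_mem _ (hL'c hl') hc) (Subgroup.mul_mem _ hc (hL'c hl')) h1
    have hlP : l ∈ P.map L.subtype :=
      Subgroup.mem_map.mpr ⟨⟨l, hl⟩, hDP ((memD₁ ⟨l, hl⟩).mpr h3.1), rfl⟩
    have hl'P : l' ∈ (P.map L.subtype).map (MulAut.conj u).toMonoidHom := by
      rw [Helper9.mem_conjMap]
      have hm : u⁻¹ * l' * u ∈ L := (memL' l').mp hl'
      refine Subgroup.mem_map.mpr ⟨⟨u⁻¹ * l' * u, hm⟩, hDP ((memD₁ _).mpr ?_), rfl⟩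
      show (u⁻¹ * l' * u) * z₁ = z₁ * (u⁻¹ * l' * u)
      have h4 : l' * c = c * l' := h3.2
      rw [hc_eq] at h4
      calc (u⁻¹ * l' * u) * z₁ = u⁻¹ * (l' * (u * z₁ * u⁻¹)) * u := by group
        _ = u⁻¹ * ((u * z₁ * u⁻¹) * l') * u := by rw [h4]
        _ = z₁ * (u⁻¹ * l' * u) := by group
    rw [← hll]
    exact Subgroup.mul_mem_sup hlP hl'P
  have hD₁2 : IsPGroup 2 ↥D₁ := by
    intro g
    refine ⟨2, ?_⟩
    have hg := (memD₁ (g : ↥L)).mp g.2
    have hx := hsqd ((g : ↥L) : G) (g : ↥L).2 hg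
    apply Subtype.ext
    apply Subtype.ext
    show (((g : ↥L) : G)) ^ (2 ^ 2) = 1
    have h4 : (((g : ↥L) : G)) ^ (2 ^ 2) =
        (((g : ↥L) : G) * ((g : ↥L) : G)) * (((g : ↥L) : G) * ((g : ↥L) : G)) := by
      rw [show (2 : ℕ) ^ 2 = 2 + 2 from rfl, pow_add, pow_two]
    rw [h4]
    rcases hx with h | h
    · rw [h, one_mul]
    · rw [h, hz₁sq]
  have hAS : ∀ P : Subgroup ↥L, IsPGroup 2 ↥P → D₁ ≤ P →
      P.map L.subtype ⊔ (P.map L.subtype).map (MulAut.conj u).toMonoidHom =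
        (S : Subgroup G) ⊓ Cfsg.layer G := by
    intro P hP hDP
    obtain ⟨PG, hPGdef⟩ : ∃ PG : Subgroup G, PG = P.map L.subtype := ⟨_, rfl⟩
    rw [← hPGdef]
    have hPG2 : IsPGroup 2 ↥PG := by
      rw [hPGdef]
      exact hP.map L.subtype
    have hPG'2 : IsPGroup 2 ↥(PG.map (MulAut.conj u).toMonoidHom) := hPG2.map _
    have hPGL : PG ≤ L := by
      rw [hPGdef]
      exact Subgroup.map_subtype_le P
    have hPG'L' : PG.map (MulAut.conj u).toMonoidHom ≤ L' := by
      rw [hL'def]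
      exact Subgroup.map_mono hPGL
    have hnorm : PG ≤ Subgroup.normalizer
        ((PG.map (MulAut.conj u).toMonoidHom : Subgroup G) : Set G) := by
      intro x hx
      apply Subgroup.centralizer_le_normalizer
      rw [Subgroup.mem_centralizer_iff]
      intro y hy
      exact (hcommLL' x (hPGL hx) y (hPG'L' hy)).symm
    have hA2 : IsPGroup 2 ↥(PG ⊔ PG.map (MulAut.conj u).toMonoidHom) :=
      IsPGroup.to_sup_of_normal_right' hPG2 hPG'2 hnorm
    have hAE : PG ⊔ PG.map (MulAut.conj u).toMonoidHom ≤ Cfsg.layer G :=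
      sup_le (hPGL.trans (Helper9.comp_le_layer hL)) (hPG'L'.trans (Helper9.comp_le_layer hL'))
    have hTA : (S : Subgroup G) ⊓ Cfsg.layer G ≤ PG ⊔ PG.map (MulAut.conj u).toMonoidHom := by
      intro t ht
      rw [hPGdef]
      exact key P hDP t (Subgroup.mem_inf.mp ht).2 (hSz t (Subgroup.mem_inf.mp ht).1)
    exact Helper16.eq_sylowInf_of_le S (Cfsg.layer G) _ hA2 hAE hTA
  have hmax : ∀ P : Subgroup ↥L, IsPGroup 2 ↥P → D₁ ≤ P → P = D₁ := by
    intro P hP hDP
    apply le_antisymm _ hDP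
    intro x hx
    rw [memD₁]
    have hxA : (x : G) ∈ P.map L.subtype ⊔
        (P.map L.subtype).map (MulAut.conj u).toMonoidHom :=
      Subgroup.mem_sup_left (Subgroup.mem_map.mpr ⟨x, hx, rfl⟩)
    rw [hAS P hP hDP] at hxA
    exact (hiff (x : G) x.2).mp (hSz _ (Subgroup.mem_inf.mp hxA).1)
  obtain ⟨R, hRdef⟩ : ∃ R : Sylow 2 ↥L, (R : Subgroup ↥L) = D₁ :=
    ⟨⟨D₁, hD₁2, fun {P} hP hle => hmax P hP hle⟩, rfl⟩
  have memR : ∀ x : ↥L, x ∈ (R : Subgroup ↥L) → (x : G) * z₁ = z₁ * (x : G) := by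
    intro x hx
    rw [hRdef] at hx
    exact (memD₁ x).mp hx
  refine ⟨hinf, hcommLL', hE, z₁, hz₁, hzz, ⟨R, hRdef.trans hD₁def, ?_⟩, ?_⟩
  · rw [Subgroup.map_le_iff_le_comap]
    apply Helper17.frattini_le_of_pow_comm (p := 2)
    · intro x
      rw [Subgroup.mem_comap]
      have hg := memR (x : ↥L) x.2
      have hx := hsqd ((x : ↥L) : G) (x : ↥L).2 hg
      have e1 : ((L.subtype).comp ((R : Subgroup ↥L).subtype)) (x ^ 2) =
          ((x : ↥L) : G) * ((x : ↥L) : G) := by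
        rw [map_pow, pow_two]
        rfl
      rw [e1]
      rcases hx with h | h
      · rw [h]
        exact Subgroup.one_mem _
      · rw [h]
        exact Subgroup.mem_zpowers z₁
    · intro x y
      rw [Subgroup.mem_comap]
      have hgx := memR (x : ↥L) x.2
      have hgy := memR (y : ↥L) y.2
      have hxy := hcommd ((x : ↥L) : G) (x : ↥L).2 ((y : ↥L) : G) (y : ↥L).2 hgx hgy
      have e1 : ((L.subtype).comp ((R : Subgroup ↥L).subtype)) ⁅x, y⁆ =
          ((x : ↥L) : G) * ((y : ↥L) : G) * ((x : ↥L) : G)⁻¹ * ((y : ↥L) : G)⁻¹ := by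
        rw [map_commutatorElement, commutatorElement_def]
        rfl
      rw [e1]
      rcases hxy with h | h
      · rw [h]
        exact Subgroup.one_mem _
      · rw [h]
        exact Subgroup.mem_zpowers z₁
  · intro hQeq
    obtain ⟨C, hCdef⟩ : ∃ C : Subgroup G, C = Subgroup.centralizer ({z} : Set G) := ⟨_, rfl⟩
    have hQeq' : Q = (Cfsg.pCore 2 ↥C).map C.subtype := by
      rw [hCdef]
      exact hQeq
    have memC : ∀ g : G, g ∈ C ↔ g * z = z * g := by
      intro g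
      rw [hCdef, Subgroup.mem_centralizer_iff]
      constructor
      · intro h
        exact (h z (Set.mem_singleton z)).symm
      · intro h y hy
        rw [Set.mem_singleton_iff] at hy
        rw [hy]
        exact h.symm
    obtain ⟨TE, hTEdef⟩ : ∃ TE : Subgroup G, TE = Cfsg.layer G ⊓ C := ⟨_, rfl⟩
    have hTES : TE ≤ (S : Subgroup G) := by
      intro t ht
      rw [hTEdef] at ht
      have h1 := key D₁ le_rfl t (Subgroup.mem_inf.mp ht).1
        ((memC t).mp (Subgroup.mem_inf.mp ht).2)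
      rw [hAS D₁ hD₁2 le_rfl] at h1
      exact (Subgroup.mem_inf.mp h1).1
    have hTE2 : IsPGroup 2 ↥TE := S.2.to_le hTES
    have hTEn : (TE.subgroupOf C).Normal := by
      constructor
      intro n hn g
      rw [Subgroup.mem_subgroupOf] at hn ⊢
      rw [hTEdef] at hn ⊢
      refine Subgroup.mem_inf.mpr ⟨hEn.conj_mem _ (Subgroup.mem_inf.mp hn).1 _, ?_⟩
      exact C.mul_mem (C.mul_mem g.2 (Subgroup.mem_inf.mp hn).2) (C.inv_mem g.2)
    have hle : TE.subgroupOf C ≤ Cfsg.pCore 2 ↥C :=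
      Helper1.le_pCore hTEn hTE2.comap_subtype
    have hdQ : ∀ d ∈ L, d * z₁ = z₁ * d → d ∈ Q := by
      intro d hd hdz
      have hdz' : d * z = z * d := (hiff d hd).mpr hdz
      have hdC : d ∈ C := (memC d).mpr hdz'
      have hdTE : d ∈ TE := by
        rw [hTEdef]
        exact Subgroup.mem_inf.mpr ⟨Helper9.comp_le_layer hL hd, hdC⟩
      have h1 : (⟨d, hdC⟩ : ↥C) ∈ TE.subgroupOf C := Subgroup.mem_subgroupOf.mpr hdTE
      rw [hQeq']
      exact Subgroup.mem_map.mpr ⟨⟨d, hdC⟩, hle h1, rfl⟩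
    apply comp_burn hF hL hz₁ hz₁ne
    intro d hd hdz
    have hdq := hdQ d hd hdz
    have he := heL' d hd
    have e1 : d * u * d⁻¹ * u⁻¹ = d * (u * d⁻¹ * u⁻¹) := by group
    rcases hS.comm d hdq u hu with h | h
    · left
      rw [e1] at h
      have h' : d * (u * d⁻¹ * u⁻¹) = 1 * 1 := by rw [h, one_mul]
      exact (uniq_dec hZ hd L.one_mem (hL'c he) (Subgroup.one_mem _) h').1
    · right
      rw [e1, ← hzc] at h
      exact (uniq_dec hZ hd hz₁ (hL'c he) hc h).1

theorem caseB (hS : LES Q z) (hR : Cfsg.pCore 2 G = ⊥) :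
    (Subgroup.normalClosure ({z} : Set G) = Cfsg.generalizedFittingSubgroup G ∧
      IsSimpleGroup ↥(Subgroup.normalClosure ({z} : Set G)) ∧
      ¬ IsMulCommutative ↥(Subgroup.normalClosure ({z} : Set G))) ∨
    (Subgroup.normalClosure ({z} : Set G) = Cfsg.generalizedFittingSubgroup G ∧
      ∃ (L : Subgroup G) (u : G), u ∈ Q ∧ IsSimpleGroup ↥L ∧ ¬ IsMulCommutative ↥L ∧
        L ⊓ (L).map (MulAut.conj u).toMonoidHom = ⊥ ∧
        (∀ x ∈ L, ∀ y ∈ (L).map (MulAut.conj u).toMonoidHom, x * y = y * x) ∧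
        L ⊔ (L).map (MulAut.conj u).toMonoidHom = Subgroup.normalClosure ({z} : Set G) ∧
        ∃ z₁ ∈ L, z = z₁ * (u * z₁ * u⁻¹) ∧
          (∃ R : Sylow 2 ↥L,
            (R : Subgroup ↥L) = (Subgroup.centralizer ({z₁} : Set G)).subgroupOf L ∧
            (frattini ↥(R : Subgroup ↥L)).map ((L.subtype).comp (R : Subgroup ↥L).subtype) ≤
              Subgroup.zpowers z₁) ∧
          Q ≠ (Cfsg.pCore 2 ↥(Subgroup.centralizer ({z} : Set G))).map
            (Subgroup.centralizer ({z} : Set G)).subtype) := by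
  classical
  have hF : Cfsg.fittingSubgroup G = ⊥ := by
    rw [fit_eq hS, hR]
  have hg : Cfsg.generalizedFittingSubgroup G = Cfsg.layer G := by
    unfold Cfsg.generalizedFittingSubgroup
    rw [hF, sup_bot_eq]
  have hM := caseB_M hS hF
  obtain ⟨L, hL⟩ : ∃ L : Subgroup G, Cfsg.IsComponent L := by
    by_contra hcon
    push Not at hcon
    have h0 : Cfsg.layer G = ⊥ := by
      rw [eq_bot_iff]
      apply sSup_le
      intro K hK
      exact absurd hK (hcon K)
    have hzl := z_mem_layer hS hF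
    rw [h0, Subgroup.mem_bot] at hzl
    exact hS.z_ne hzl
  by_cases hinv : ∀ q ∈ Q, ∀ l ∈ L, q * l * q⁻¹ ∈ L
  · left
    have hEL := layer_eq_of_invariant hS hF hL hinv
    have hML : Subgroup.normalClosure ({z} : Set G) = L := hM.trans hEL
    refine ⟨hM.trans hg.symm, ?_, ?_⟩
    · rw [hML]
      exact comp_simple hF hL
    · rw [hML]
      exact comp_nonabelian hL
  · right
    push Not at hinv
    obtain ⟨u, hu, l, hl, hul⟩ := hinv
    have hne : L.map (MulAut.conj u).toMonoidHom ≠ L := by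
      intro h
      apply hul
      rw [← h]
      exact Helper9.conj_mem_conjMap hl
    by_cases h3 : ∃ K : Subgroup G, Cfsg.IsComponent K ∧ K ≠ L ∧
        K ≠ L.map (MulAut.conj u).toMonoidHom
    · exfalso
      obtain ⟨K, hK, hKL, hKL'⟩ := h3
      obtain ⟨z₁, hz₁, c, hc, hcE, hzc, hz₁ne, hz₁sq, hiff⟩ := exists_z1 hS hF hL
      apply comp_burn hF hL hz₁ hz₁ne
      intro d hd hdt
      exact third_small hS hF hL hu hne hK hKL hKL' hz₁ hc hzc hz₁sq d hd
        ((hiff d hd).mpr hdt)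
    · have h2 : ∀ K : Subgroup G, Cfsg.IsComponent K →
          K = L ∨ K = L.map (MulAut.conj u).toMonoidHom := by
        intro K hK
        by_cases h : K = L
        · exact Or.inl h
        · right
          by_contra h'
          exact h3 ⟨K, hK, h, h'⟩
      refine ⟨hM.trans hg.symm, L, u, hu, comp_simple hF hL, comp_nonabelian hL, ?_⟩
      rw [hM]
      exact two_comp hS hF hL hu hne h2

end CaseB

/-- Let Q be a large extraspecial 2-subgroup of the finite group G (extraspecial; centralizer equal to its centre; normal in the centralizer of its centre; normalizing no non-trivial subgroup of odd order) with centre generated by z, and let M be the normal closure of z in G. Then one of the following holds: Q is normal in G; or M is abelian and the generalized Fitting subgroup of G is its largest normal 2-subgroup; or M is the generalized Fitting subgroup of G and is a non-abelian simple group; or M is the generalized Fitting subgroup of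 G and is the direct product of a non-abelian simple subgroup L and its conjugate u L u⁻¹ by some u in Q (the two meet trivially and commute elementwise), with z = z₁ (u z₁ u⁻¹) for some z₁ in L whose centralizer in L is a Sylow 2-subgroup of L with Frattini subgroup inside the subgroup generated by z₁, and Q is not the largest normal 2-subgroup of the centralizer of z. -/
theorem result {G : Type*} [Group G] [Finite G] (Q : Subgroup G) (hQ : Cfsg.IsLargeExtraspecial Q) (z : G) (hz : ((Subgroup.center ↥Q).map Q.subtype) = Subgroup.zpowers z) (M : Subgroup G) (hM : M = Subgroup.normalClosure ({z} : Set G)) : Q.Normal ∨ (IsMulCommutative ↥M ∧ Cfsg.generalizedFittingSubgroup G = Cfsg.pCore 2 G) ∨ (M = Cfsg.generalizedFittingSubgroup G ∧ IsSimpleGroup ↥M ∧ ¬ IsMulCommutative ↥M) ∨ (M = Cfsg.generalizedFittingSubgroup G ∧ ∃ (L : Subgroup G) (u : G), u ∈ Q ∧ IsSimpleGroup ↥L ∧ ¬ IsMulCommutative ↥L ∧ L ⊓ (L).map (MulAut.conj u).toMonoidHom = ⊥ ∧ (∀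 x ∈ L, ∀ y ∈ (L).map (MulAut.conj u).toMonoidHom, x * y = y * x) ∧ L ⊔ (L).map (MulAut.conj u).toMonoidHom = M ∧ ∃ z₁ ∈ L, z = z₁ * (u * z₁ * u⁻¹) ∧ (∃ R : Sylow 2 ↥L, (R : Subgroup ↥L) = (Subgroup.centralizer ({z₁} : Set G)).subgroupOf L ∧ (frattini ↥(R : Subgroup ↥L)).map ((L.subtype).comp (R : Subgroup ↥L).subtype) ≤ Subgroup.zpowers z₁) ∧ Q ≠ (Cfsg.pCore 2 ↥(Subgroup.centralizer ({z} : Set G))).map (Subgroup.centralizer ({z} : Set G)).subtype) := by
  have hS : LES Q z := les_of_large Q hQ z hz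
  subst hM
  by_cases hR : Cfsg.pCore 2 G = ⊥
  · right
    right
    exact caseB hS hR
  · right
    left
    exact caseA hS hR

end Cfsg.Agent.S5426
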