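import Cfsg.Statements.S5436
import Cfsg.Agent.S5426
import Cfsg.Agent.S5424
import Cfsg.Agent.S5422
import Mathlib

set_option autoImplicit false
open Cfsg

namespace Cfsg.Agent.S5436

open Cfsg.Agent.Lib

section Setup

variable {G : Type*} [Group G] [Finite G]

theorem mem_cent_singleton (z g : G) :
    g ∈ Subgroup.centralizer ({z} : Set G) ↔ g * z = z * g := by
  rw [Subgroup.mem_centralizer_iff]
  constructor
  · intro h
    exact (h z (Set.mem_singleton z)).symm
  · intro h y hy
    rw [Set.mem_singleton_iff] at hy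
    rw [hy]
    exact h.symm

theorem mem_zpowers_two {z : G} (hz : orderOf z = 2) (g : G) (hg : g ∈ Subgroup.zpowers z) :
    g = 1 ∨ g = z := by
  have hz1 : z ≠ 1 := by
    intro h
    rw [h, orderOf_one] at hz
    exact absurd hz (by norm_num)
  have hcardZ : Nat.card ↥(Subgroup.zpowers z) = 2 := (Nat.card_zpowers z).trans hz
  obtain ⟨w, hw1, hwuniq⟩ := (Nat.card_eq_two_iff' (1 : ↥(Subgroup.zpowers z))).mp hcardZ
  have hzw : (⟨z, Subgroup.mem_zpowers z⟩ : ↥(Subgroup.zpowers z)) = w := by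
    apply hwuniq
    intro h
    exact hz1 (congrArg Subtype.val h)
  by_cases hg1 : g = 1
  · exact Or.inl hg1
  · right
    have h3 : (⟨g, hg⟩ : ↥(Subgroup.zpowers z)) = w :=
      hwuniq _ (fun h => hg1 (congrArg Subtype.val h))
    exact congrArg Subtype.val (h3.trans hzw.symm)

theorem not_comm_of_es {P : Type*} [Group P] (hQ : Cfsg.IsExtraspecial 2 P) (w : ℕ) (hw : 2 ≤ w)
    (hcard : Nat.card P = 2 ^ (2 * w + 1)) : ∃ a b : P, a * b ≠ b * a := by
  by_contra hcon
  push Not at hcon
  have htop : Subgroup.center P = ⊤ := by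
    rw [Subgroup.eq_top_iff']
    intro x
    rw [Subgroup.mem_center_iff]
    intro g
    exact hcon g x
  have h2 := hQ.2
  rw [htop, Subgroup.card_top, hcard] at h2
  have h32 : 2 ^ 5 ≤ 2 ^ (2 * w + 1) := Nat.pow_le_pow_right (by norm_num) (by omega)
  rw [h2] at h32
  norm_num at h32

/-- consequences of `F*(C_G(z))` being an extraspecial 2-group -/
theorem setup (z : G) (hz : orderOf z = 2) (H : Subgroup G)
    (hH : H = Subgroup.centralizer ({z} : Set G)) (Q : Subgroup G)
    (hF : (Cfsg.generalizedFittingSubgroup ↥H).map H.subtype = Q)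
    (hQ : Cfsg.IsExtraspecial 2 ↥Q) :
    z ∈ Q ∧ (Subgroup.center ↥Q).map Q.subtype = Subgroup.zpowers z ∧
    Subgroup.centralizer (Q : Set G) = (Subgroup.center ↥Q).map Q.subtype ∧
    Subgroup.centralizer (((Subgroup.center ↥Q).map Q.subtype : Subgroup G) : Set G) ≤
      Subgroup.normalizer (Q : Set G) ∧
    Q = (Cfsg.pCore 2 ↥H).map H.subtype ∧
    (∀ N : Subgroup G, N ≤ H → (∀ h ∈ H, ∀ n ∈ N, h * n * h⁻¹ ∈ N) →
      (∀ a ∈ N, ∀ b ∈ N, a * b = b * a) → N ≤ Q) := by
  classical
  haveI : Fact (Nat.Prime 2) := ⟨Nat.prime_two⟩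
  have memH : ∀ g : G, g ∈ H ↔ g * z = z * g := by
    intro g
    rw [hH]
    exact mem_cent_singleton z g
  have hzH : z ∈ H := (memH z).mpr rfl
  have hz1 : z ≠ 1 := by
    intro h
    rw [h, orderOf_one] at hz
    exact absurd hz (by norm_num)
  obtain ⟨FH, hFHdef⟩ : ∃ FH : Subgroup ↥H, FH = Cfsg.generalizedFittingSubgroup ↥H := ⟨_, rfl⟩
  rw [← hFHdef] at hF
  have hFHn : FH.Normal := by
    rw [hFHdef]
    infer_instance
  have memQ : ∀ x : ↥H, x ∈ FH ↔ (x : G) ∈ Q := by
    intro x
    rw [← hF]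
    exact (Subgroup.mem_map_iff_mem H.subtype_injective).symm
  have hQH : Q ≤ H := by
    rw [← hF]
    exact Subgroup.map_subtype_le FH
  have hab : ∀ N : Subgroup ↥H, N.Normal → (∀ a ∈ N, ∀ b ∈ N, a * b = b * a) → N ≤ FH := by
    intro N hN hcomm
    haveI : IsMulCommutative ↥N := ⟨⟨fun a b => Subtype.ext (hcomm a.1 a.2 b.1 b.2)⟩⟩
    have hnil : Group.IsNilpotent ↥N := Helper9.isNilpotent_of_isMulCommutative
    rw [hFHdef]
    exact (Helper1.le_fittingSubgroup hN hnil).trans Helper9.fitting_le_gfs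
  have hzF : (⟨z, hzH⟩ : ↥H) ∈ FH := by
    apply hab (Subgroup.center ↥H) inferInstance
    · intro a ha b _
      exact (Subgroup.mem_center_iff.mp ha b).symm
    · rw [Subgroup.mem_center_iff]
      intro g
      exact Subtype.ext ((memH g.1).mp g.2)
  have hzQ : z ∈ Q := (memQ ⟨z, hzH⟩).mp hzF
  have hzc : (⟨z, hzQ⟩ : ↥Q) ∈ Subgroup.center ↥Q := by
    rw [Subgroup.mem_center_iff]
    intro y
    exact Subtype.ext ((memH y.1).mp (hQH y.2))
  have hcen2 : ∀ c : ↥(Subgroup.center ↥Q), c = 1 ∨ c = ⟨⟨z, hzQ⟩, hzc⟩ := by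
    obtain ⟨w, hw1, hwuniq⟩ := (Nat.card_eq_two_iff' (1 : ↥(Subgroup.center ↥Q))).mp hQ.2
    have hzw : (⟨⟨z, hzQ⟩, hzc⟩ : ↥(Subgroup.center ↥Q)) = w := by
      apply hwuniq
      intro h
      apply hz1
      exact congrArg (fun c : ↥(Subgroup.center ↥Q) => ((c : ↥Q) : G)) h
    intro c
    by_cases hc : c = 1
    · exact Or.inl hc
    · right
      rw [hzw]
      exact hwuniq c hc
  have memZQ : ∀ g : G, g ∈ (Subgroup.center ↥Q).map Q.subtype → g = 1 ∨ g = z := by
    intro g hg
    obtain ⟨c, hc, rfl⟩ := Subgroup.mem_map.mp hg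
    rcases hcen2 ⟨c, hc⟩ with h | h
    · left
      exact congrArg (fun c : ↥(Subgroup.center ↥Q) => ((c : ↥Q) : G)) h
    · right
      exact congrArg (fun c : ↥(Subgroup.center ↥Q) => ((c : ↥Q) : G)) h
  have hzZQ : z ∈ (Subgroup.center ↥Q).map Q.subtype :=
    Subgroup.mem_map.mpr ⟨⟨z, hzQ⟩, hzc, rfl⟩
  have hZeq : (Subgroup.center ↥Q).map Q.subtype = Subgroup.zpowers z := by
    apply le_antisymm
    · intro g hg
      rcases memZQ g hg with h | h
      · rw [h]
        exact Subgroup.one_mem _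
      · rw [h]
        exact Subgroup.mem_zpowers z
    · rw [Subgroup.zpowers_le]
      exact hzZQ
  have hL2 : Subgroup.centralizer (Q : Set G) = (Subgroup.center ↥Q).map Q.subtype := by
    ext g
    constructor
    · intro hg
      have hgz : z * g = g * z := Subgroup.mem_centralizer_iff.mp hg z hzQ
      have hgH : g ∈ H := (memH g).mpr hgz.symm
      have h3 : (⟨g, hgH⟩ : ↥H) ∈ Subgroup.centralizer (FH : Set ↥H) := by
        rw [Subgroup.mem_centralizer_iff]
        intro y hy
        exact Subtype.ext (Subgroup.mem_centralizer_iff.mp hg y.1 ((memQ y).mp hy))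
      have h4 : (⟨g, hgH⟩ : ↥H) ∈ FH := by
        have h5 := Helper9.centralizer_gfs_le (G := ↥H)
        rw [← hFHdef] at h5
        exact h5 h3
      have hgQ : g ∈ Q := (memQ ⟨g, hgH⟩).mp h4
      refine Subgroup.mem_map.mpr ⟨⟨g, hgQ⟩, ?_, rfl⟩
      rw [Subgroup.mem_center_iff]
      intro y
      exact Subtype.ext (Subgroup.mem_centralizer_iff.mp hg y.1 y.2)
    · intro hg
      obtain ⟨c, hc, rfl⟩ := Subgroup.mem_map.mp hg
      rw [Subgroup.mem_centralizer_iff]
      intro h hh
      exact congrArg Subtype.val (Subgroup.mem_center_iff.mp hc ⟨h, hh⟩)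
  have hnormH : ∀ h ∈ H, ∀ q ∈ Q, h * q * h⁻¹ ∈ Q := by
    intro h hh q hq
    have hqH := hQH hq
    have h3 := hFHn.conj_mem ⟨q, hqH⟩ ((memQ ⟨q, hqH⟩).mpr hq) ⟨h, hh⟩
    exact (memQ _).mp h3
  have hL3 : Subgroup.centralizer (((Subgroup.center ↥Q).map Q.subtype : Subgroup G) : Set G) ≤
      Subgroup.normalizer (Q : Set G) := by
    intro h hh
    have hhz : z * h = h * z := Subgroup.mem_centralizer_iff.mp hh z hzZQ
    have hhH : h ∈ H := (memH h).mpr hhz.symm
    exact S5426.le_normalizer_of_conj_mem H Q hnormH hhH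
  have hFH2 : IsPGroup 2 ↥FH := by
    have hQ2' : IsPGroup 2 ↥(FH.map H.subtype) := by
      rw [hF]
      exact hQ.1.1
    exact hQ2'.of_equiv (Subgroup.equivMapOfInjective FH H.subtype H.subtype_injective).symm
  have hFHeq : FH = Cfsg.pCore 2 ↥H := by
    apply le_antisymm (Helper1.le_pCore hFHn hFH2)
    rw [hFHdef]
    exact (Helper1.pCore_le_fittingSubgroup 2).trans Helper9.fitting_le_gfs
  have hQO : Q = (Cfsg.pCore 2 ↥H).map H.subtype := by
    rw [← hFHeq, hF]
  refine ⟨hzQ, hZeq, hL2, hL3, hQO, ?_⟩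
  intro N hNH hNinv hNab
  have hNn : (N.subgroupOf H).Normal := by
    constructor
    intro n hn g
    rw [Subgroup.mem_subgroupOf] at hn ⊢
    exact hNinv g.1 g.2 n.1 hn
  have h3 := hab (N.subgroupOf H) hNn (by
    intro a ha b hb
    rw [Subgroup.mem_subgroupOf] at ha hb
    exact Subtype.ext (hNab a.1 ha b.1 hb))
  intro n hn
  exact (memQ ⟨n, hNH hn⟩).mp (h3 (Subgroup.mem_subgroupOf.mpr hn))

/-- largeness from a conjugate of `z` in `Q` other than `z` -/
theorem large_of_conj (Q : Subgroup G) (z : G) (hz : orderOf z = 2)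
    (hES : Cfsg.IsExtraspecial 2 ↥Q)
    (hZeq : (Subgroup.center ↥Q).map Q.subtype = Subgroup.zpowers z)
    (hL2 : Subgroup.centralizer (Q : Set G) = (Subgroup.center ↥Q).map Q.subtype)
    (hL3 : Subgroup.centralizer (((Subgroup.center ↥Q).map Q.subtype : Subgroup G) : Set G) ≤
      Subgroup.normalizer (Q : Set G))
    (w : ℕ) (hw : 2 ≤ w) (hcard : Nat.card ↥Q = 2 ^ (2 * w + 1))
    (g : G) (hgQ : g * z * g⁻¹ ∈ Q) (hgz : g * z * g⁻¹ ≠ z) : Cfsg.IsLargeExtraspecial Q := by
  have hz1 : z ≠ 1 := by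
    intro h
    rw [h, orderOf_one] at hz
    exact absurd hz (by norm_num)
  have hg : g ∉ Subgroup.normalizer
      (((Subgroup.center ↥Q).map Q.subtype : Subgroup G) : Set G) := by
    rw [hZeq]
    intro hmem
    have h3 := (Subgroup.mem_normalizer_iff.mp hmem z).mp (Subgroup.mem_zpowers z)
    rcases mem_zpowers_two hz _ h3 with h | h
    · apply hz1
      calc z = g⁻¹ * (g * z * g⁻¹) * g := by group
        _ = 1 := by rw [h]; group
    · exact hgz h
  have hZg : ((Subgroup.center ↥Q).map Q.subtype).map (MulAut.conj g).toMonoidHom ≤ Q := by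
    rw [hZeq]
    intro y hy
    obtain ⟨x, hx, rfl⟩ := Subgroup.mem_map.mp hy
    show g * x * g⁻¹ ∈ Q
    rcases mem_zpowers_two hz x hx with h | h
    · rw [h, mul_one, mul_inv_cancel]
      exact Subgroup.one_mem _
    · rw [h]
      exact hgQ
  exact (S5422.result Q hES hL2 hL3 w hw hcard g hg hZg).2.2

/-- if the normal closure of `z` is simple and contains `C_G(z)`, then `G` is simple -/
theorem simple_of {Q : Subgroup G} {z : G} (hS : S5426.LES Q z)
    (hMs : IsSimpleGroup ↥(Subgroup.normalClosure ({z} : Set G)))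
    (hHM : ∀ g : G, g * z = z * g → g ∈ Subgroup.normalClosure ({z} : Set G)) :
    IsSimpleGroup G := by
  haveI : Fact (Nat.Prime 2) := ⟨Nat.prime_two⟩
  obtain ⟨S, hQS, hSz⟩ := S5426.exists_sylow hS
  obtain ⟨M, hMdef⟩ : ∃ M : Subgroup G, M = Subgroup.normalClosure ({z} : Set G) := ⟨_, rfl⟩
  rw [← hMdef] at hMs hHM
  haveI hMn : M.Normal := by
    rw [hMdef]
    exact Subgroup.normalClosure_normal
  have hSM : (S : Subgroup G) ≤ M := fun s hs => hHM s (hSz s hs)
  have hMtop : M = ⊤ := by
    rw [eq_top_iff]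
    intro g _
    obtain ⟨a, ha, c, hc, rfl⟩ := Helper16.frattini_inf_normal S M g
    have hSMeq : (S : Subgroup G) ⊓ M = S := inf_eq_left.mpr hSM
    rw [hSMeq] at ha
    have hzS : z ∈ (S : Subgroup G) := hQS hS.z_mem
    have h2 : ∀ q ∈ Q, q * (a * z * a⁻¹) = (a * z * a⁻¹) * q := by
      intro q hq
      have hainv : a⁻¹ ∈ Subgroup.normalizer ((S : Subgroup G) : Set G) :=
        Subgroup.inv_mem _ ha
      have h3 : a⁻¹ * q * a⁻¹⁻¹ ∈ (S : Subgroup G) :=
        (Subgroup.mem_normalizer_iff.mp hainv q).mp (hQS hq)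
      have h4 := hSz _ h3
      calc q * (a * z * a⁻¹) = a * ((a⁻¹ * q * a⁻¹⁻¹) * z) * a⁻¹ := by group
        _ = a * (z * (a⁻¹ * q * a⁻¹⁻¹)) * a⁻¹ := by rw [h4]
        _ = (a * z * a⁻¹) * q := by group
    have h5 : a * z = z * a := by
      rcases hS.cent _ h2 with h | h
      · exfalso
        apply hS.z_ne
        calc z = a⁻¹ * (a * z * a⁻¹) * a := by group
          _ = 1 := by rw [h]; group
      · calc a * z = (a * z * a⁻¹) * a := by group
          _ = z * a := by rw [h]
    exact M.mul_mem (hHM a h5) hc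
  have h1 : IsSimpleGroup ↥(⊤ : Subgroup G) := hMtop ▸ hMs
  exact (Subgroup.topEquiv.isSimpleGroup_congr).mp h1

end Setup

/-- Let z be an involution of the finite group G with centralizer H whose generalized Fitting subgroup Q is extraspecial of width at least 2 (order 2^(2w+1), w ≥ 2); suppose some conjugate of z other than z lies in Q, H/Q is a non-abelian simple group, H acts irreducibly by conjugation on Q modulo the subgroup generated by z (the only H-invariant subgroups of Q containing z are that subgroup and Q), and Q is not the subgroup generated by the conjugates of z lying in H. Then G is simple. -/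
theorem result {G : Type*} [Group G] [Finite G] (z : G) (hz : orderOf z = 2) (Q : Subgroup (Subgroup.centralizer ({z} : Set G))) [Q.Normal] (hF : Cfsg.generalizedFittingSubgroup ↥(Subgroup.centralizer ({z} : Set G)) = Q) (hQ : Cfsg.IsExtraspecial 2 ↥Q) (w : ℕ) (hw : 2 ≤ w) (hcard : Nat.card ↥Q = 2 ^ (2 * w + 1)) (hnwc : ∃ g : G, (∃ hq : g * z * g⁻¹ ∈ Subgroup.centralizer ({z} : Set G), (⟨g * z * g⁻¹, hq⟩ : Subgroup.centralizer ({z} : Set G)) ∈ Q) ∧ g * z * g⁻¹ ≠ z) (hsimp : IsSimpleGroup (↥(Subgroup.centralizer ({z} : Set G)) ⧸ Q)) (hna : ¬ IsMulCommutative (↥(Subgroup.centralizer ({z} : Set G)) ⧸ Q)) (hirr : ∀ W : Subgroup (Subgroup.centralizer ({z} : Set G)), W.Normal → W ≤ Q → (W = Q ∨ ∀ x ∈ W, (x : G) ∈ Subgroup.zpowers z)) (hwcl : Subgroup.closure {x : Subgroup.centralizer ({z} : Set G) | IsConj z (x : G)} ≠ Q) : IsSimpleGroup G := by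
  classical
  have hz1 : z ≠ 1 := by
    intro h
    rw [h, orderOf_one] at hz
    exact absurd hz (by norm_num)
  obtain ⟨QG, hQGdef⟩ : ∃ QG : Subgroup G,
      QG = Q.map (Subgroup.centralizer ({z} : Set G)).subtype := ⟨_, rfl⟩
  have hF' : (Cfsg.generalizedFittingSubgroup ↥(Subgroup.centralizer ({z} : Set G))).map
      (Subgroup.centralizer ({z} : Set G)).subtype = QG := by
    rw [hF, hQGdef]
  have hES : Cfsg.IsExtraspecial 2 ↥QG := by
    rw [hQGdef]
    exact S5424.isExtraspecial_of_equiv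
      (Subgroup.equivMapOfInjective Q _ (Subgroup.subtype_injective _)) hQ
  have hcardG : Nat.card ↥QG = 2 ^ (2 * w + 1) := by
    rw [hQGdef]
    exact (Nat.card_congr (Subgroup.equivMapOfInjective Q _
      (Subgroup.subtype_injective _)).toEquiv).symm.trans hcard
  have memQG : ∀ x : ↥(Subgroup.centralizer ({z} : Set G)), x ∈ Q ↔ (x : G) ∈ QG := by
    intro x
    rw [hQGdef]
    exact (Subgroup.mem_map_iff_mem (Subgroup.subtype_injective _)).symm
  obtain ⟨hzQ, hZeq, hL2, hL3, hQO, habn⟩ := setup z hz _ rfl QG hF' hES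
  obtain ⟨g, ⟨hq, hgQ⟩, hgz⟩ := hnwc
  have hgQG : g * z * g⁻¹ ∈ QG := (memQG ⟨g * z * g⁻¹, hq⟩).mp hgQ
  have hLarge := large_of_conj QG z hz hES hZeq hL2 hL3 w hw hcardG g hgQG hgz
  have hS : S5426.LES QG z := S5426.les_of_large QG hLarge z hZeq
  have hgnot : g * z * g⁻¹ ∉ Subgroup.zpowers z := by
    intro h
    rcases mem_zpowers_two hz _ h with h' | h'
    · apply hz1
      calc z = g⁻¹ * (g * z * g⁻¹) * g := by group
        _ = 1 := by rw [h']; group
    · exact hgz h'
  have hMn : (Subgroup.normalClosure ({z} : Set G)).Normal := Subgroup.normalClosure_normal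
  have hzM : z ∈ Subgroup.normalClosure ({z} : Set G) :=
    Subgroup.subset_normalClosure (Set.mem_singleton z)
  by_cases hR : Cfsg.pCore 2 G = ⊥
  · rcases S5426.caseB hS hR with ⟨hMg, hMs, hMna⟩ |
      ⟨hMg, L, u, hu, hLs, hLn, hinf, hcomm, hsup, z₁, hz₁L, hzz, hRR, hne⟩
    · apply simple_of hS hMs
      -- the subgroup generated by the conjugates of `z` in `C_G(z)` is everything
      obtain ⟨W, hWdef⟩ : ∃ W : Subgroup ↥(Subgroup.centralizer ({z} : Set G)),
          W = Subgroup.closure {x : Subgroup.centralizer ({z} : Set G) | IsConj z (x : G)} :=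
        ⟨_, rfl⟩
      rw [← hWdef] at hwcl
      have hWn : W.Normal := by
        constructor
        intro n hn c
        have h1 : W ≤ W.comap (MulAut.conj c).toMonoidHom := by
          rw [hWdef, Subgroup.closure_le]
          intro x hx
          rw [SetLike.mem_coe, Subgroup.mem_comap]
          apply Subgroup.subset_closure
          have hx' : IsConj z (x : G) := hx
          obtain ⟨k, hk⟩ := isConj_iff.mp hx'
          show IsConj z (((c * x * c⁻¹ : ↥(Subgroup.centralizer ({z} : Set G))) : G))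
          rw [isConj_iff]
          refine ⟨(c : G) * k, ?_⟩
          show (c : G) * k * z * ((c : G) * k)⁻¹ = (c : G) * (x : G) * (c : G)⁻¹
          rw [← hk]
          group
        exact h1 hn
      have hg0W : (⟨g * z * g⁻¹, hq⟩ : ↥(Subgroup.centralizer ({z} : Set G))) ∈ W := by
        rw [hWdef]
        apply Subgroup.subset_closure
        show IsConj z (g * z * g⁻¹)
        exact isConj_iff.mpr ⟨g, rfl⟩
      have hQW : Q ≤ W := by
        have hWQn : (W ⊓ Q).Normal := inferInstance
        rcases hirr (W ⊓ Q) hWQn inf_le_right with h | h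
        · rw [← h]
          exact inf_le_left
        · exact absurd (h _ (Subgroup.mem_inf.mpr ⟨hg0W, hgQ⟩)) hgnot
      have hWtop : W = ⊤ := by
        have hmapn : (W.map (QuotientGroup.mk' Q)).Normal :=
          hWn.map _ (QuotientGroup.mk'_surjective Q)
        rcases hsimp.eq_bot_or_eq_top_of_normal _ hmapn with h | h
        · exfalso
          apply hwcl
          apply le_antisymm _ hQW
          intro x hx
          have h3 : (QuotientGroup.mk' Q) x ∈ W.map (QuotientGroup.mk' Q) :=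
            Subgroup.mem_map_of_mem _ hx
          rw [h, Subgroup.mem_bot] at h3
          exact (QuotientGroup.eq_one_iff x).mp h3
        · have h3 := congrArg (Subgroup.comap (QuotientGroup.mk' Q)) h
          rw [Subgroup.comap_map_eq, QuotientGroup.ker_mk', Subgroup.comap_top,
            sup_eq_left.mpr hQW] at h3
          exact h3
      intro c hc
      have hcC : c ∈ Subgroup.centralizer ({z} : Set G) := (mem_cent_singleton z c).mpr hc
      have hcW : (⟨c, hcC⟩ : ↥(Subgroup.centralizer ({z} : Set G))) ∈ W := by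
        rw [hWtop]
        exact Subgroup.mem_top _
      have hWM : W ≤ (Subgroup.normalClosure ({z} : Set G)).comap
          (Subgroup.centralizer ({z} : Set G)).subtype := by
        rw [hWdef, Subgroup.closure_le]
        intro x hx
        rw [SetLike.mem_coe, Subgroup.mem_comap]
        have hx' : IsConj z (x : G) := hx
        obtain ⟨k, hk⟩ := isConj_iff.mp hx'
        show (x : G) ∈ Subgroup.normalClosure ({z} : Set G)
        rw [← hk]
        exact hMn.conj_mem z hzM k
      exact hWM hcW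
    · exact absurd hQO hne
  · exfalso
    obtain ⟨hMab, -⟩ := S5426.caseA hS hR
    have hMcomm : ∀ a ∈ Subgroup.normalClosure ({z} : Set G),
        ∀ b ∈ Subgroup.normalClosure ({z} : Set G), a * b = b * a := by
      intro a ha b hb
      exact congrArg Subtype.val (hMab.is_comm.comm (⟨a, ha⟩ :
        ↥(Subgroup.normalClosure ({z} : Set G))) ⟨b, hb⟩)
    have hMH : Subgroup.normalClosure ({z} : Set G) ≤ Subgroup.centralizer ({z} : Set G) := by
      intro m hm
      exact (mem_cent_singleton z m).mpr (hMcomm m hm z hzM)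
    have hMQ : Subgroup.normalClosure ({z} : Set G) ≤ QG :=
      habn _ hMH (fun h _ n hn => hMn.conj_mem n hn h) hMcomm
    obtain ⟨MC, hMCdef⟩ : ∃ MC : Subgroup ↥(Subgroup.centralizer ({z} : Set G)),
        MC = (Subgroup.normalClosure ({z} : Set G)).subgroupOf
          (Subgroup.centralizer ({z} : Set G)) := ⟨_, rfl⟩
    have memMC : ∀ x : ↥(Subgroup.centralizer ({z} : Set G)),
        x ∈ MC ↔ (x : G) ∈ Subgroup.normalClosure ({z} : Set G) := by
      intro x
      rw [hMCdef, Subgroup.mem_subgroupOf]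
    have hMCn : MC.Normal := by
      constructor
      intro n hn c
      rw [memMC] at hn ⊢
      exact hMn.conj_mem _ hn _
    have hMCQ : MC ≤ Q := by
      intro x hx
      exact (memQG x).mpr (hMQ ((memMC x).mp hx))
    rcases hirr MC hMCn hMCQ with h | h
    · obtain ⟨a, b, hab⟩ := not_comm_of_es hQ w hw hcard
      apply hab
      have ha : a.1 ∈ MC := by
        rw [h]
        exact a.2
      have hb : b.1 ∈ MC := by
        rw [h]
        exact b.2
      apply Subtype.ext
      apply Subtype.ext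
      exact hMcomm _ ((memMC a.1).mp ha) _ ((memMC b.1).mp hb)
    · have h3 : (⟨g * z * g⁻¹, hq⟩ : ↥(Subgroup.centralizer ({z} : Set G))) ∈ MC :=
        (memMC _).mpr (hMn.conj_mem z hzM g)
      exact hgnot (h _ h3)

end Cfsg.Agent.S5436
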