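import Cfsg.Statements.S5427
import Cfsg.Agent.S5436
import Cfsg.Agent.S5426
import Cfsg.Agent.S5421
import Mathlib

set_option autoImplicit false
open Cfsg

namespace Cfsg.Agent.S5427

open Cfsg.Agent.Lib

/-- Let z be an involution of the finite group G whose centralizer C has generalized Fitting subgroup Q, an extraspecial 2-group of width at least 2 (order 2^(2w+1), w ≥ 2). Let K be a subgroup of G such that the subgroup U generated by the K-conjugates of z is abelian and C is generated by the C-conjugates of U. Suppose that either some K-conjugate of z other than z lies in Q, or some element u of U ∩ Q outside the subgroup generated by z has z in the largest normal 2-subgroup of its centralizer. Then G is simple and Q is a large extraspecial 2-subgroup of G. -/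
theorem result {G : Type*} [Group G] [Finite G] (z : G) (hz : orderOf z = 2) (Q : Subgroup G) (hQC : Q ≤ Subgroup.centralizer ({z} : Set G)) (hF : (Cfsg.generalizedFittingSubgroup ↥(Subgroup.centralizer ({z} : Set G))).map (Subgroup.centralizer ({z} : Set G)).subtype = Q) (hQ : Cfsg.IsExtraspecial 2 ↥Q) (w : ℕ) (hw : 2 ≤ w) (hcard : Nat.card ↥Q = 2 ^ (2 * w + 1)) (K U : Subgroup G) (hU : U = Subgroup.closure {x : G | ∃ k ∈ K, x = k * z * k⁻¹}) (hUab : IsMulCommutative ↥U) (hgen : Subgroup.closure {x : G | ∃ c ∈ Subgroup.centralizer ({z} : Set G), ∃ u ∈ U, x = c * u * c⁻¹} = Subgroup.centralizer ({z} : Set G)) (h3 : (∃ k ∈ K, k * z * k⁻¹ ∈ Q ∧ k * z * k⁻¹ ≠ z) ∨ ∃ u ∈ U ⊓ Q, u ∉ Subgroup.zpowers z ∧ (∃ hz' : z ∈ Subgroup.centralizer ({u} : Set G), (⟨z, hz'⟩ : ↥(Subgroup.centralizer ({u} : Set G))) ∈ Cfsg.pCore 2 ↥(Subgroup.centralizer ({u} : Set G)))) : IsSimpleGroup G ∧ Cfsg.IsLargeExtraspecial Q := by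
  classical
  have hz1 : z ≠ 1 := by
    intro h
    rw [h, orderOf_one] at hz
    exact absurd hz (by norm_num)
  have hzsq : z * z = 1 := by
    have h := pow_orderOf_eq_one z
    rw [hz, pow_two] at h
    exact h
  obtain ⟨hzQ, hZeq, hL2, hL3, hQO, habn⟩ := S5436.setup z hz _ rfl Q hF hQ
  -- `U` is elementary abelian
  have hUsq : ∀ x ∈ U, x * x = 1 := by
    intro x hx
    rw [hU] at hx
    refine Subgroup.closure_induction ?_ ?_ ?_ ?_ hx
    · rintro _ ⟨k, -, rfl⟩
      calc k * z * k⁻¹ * (k * z * k⁻¹) = k * (z * z) * k⁻¹ := by group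
        _ = 1 := by rw [hzsq]; group
    · exact one_mul 1
    · intro a b ha hb iha ihb
      rw [← hU] at ha hb
      have hcomm : a * b = b * a :=
        congrArg Subtype.val (hUab.is_comm.comm (⟨a, ha⟩ : ↥U) ⟨b, hb⟩)
      rw [S5426.sq_prod a b hcomm, iha, ihb, one_mul]
    · intro a _ iha
      calc a⁻¹ * a⁻¹ = (a * a)⁻¹ := by group
        _ = 1 := by rw [iha, inv_one]
  have hLarge : Cfsg.IsLargeExtraspecial Q := by
    rcases h3 with ⟨k, -, hkQ, hkz⟩ | ⟨u, hu, huz, hz', hzO⟩
    · exact S5436.large_of_conj Q z hz hQ hZeq hL2 hL3 w hw hcard k hkQ hkz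
    · have huU := (Subgroup.mem_inf.mp hu).1
      have huQ := (Subgroup.mem_inf.mp hu).2
      have hu1 : u ≠ 1 := by
        intro h
        apply huz
        rw [h]
        exact Subgroup.one_mem _
      have hord : orderOf u = 2 :=
        orderOf_eq_prime (by rw [pow_two]; exact hUsq u huU) hu1
      apply S5421.result Q hQ hL2 hL3 u huQ (by rw [hZeq]; exact huz) hord
      rw [hZeq, Subgroup.zpowers_le]
      exact Subgroup.mem_map.mpr ⟨⟨z, hz'⟩, hzO, rfl⟩
  have hS := S5426.les_of_large Q hLarge z hZeq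
  refine ⟨?_, hLarge⟩
  have hMn : (Subgroup.normalClosure ({z} : Set G)).Normal := Subgroup.normalClosure_normal
  have hzM : z ∈ Subgroup.normalClosure ({z} : Set G) :=
    Subgroup.subset_normalClosure (Set.mem_singleton z)
  have hUM : U ≤ Subgroup.normalClosure ({z} : Set G) := by
    rw [hU, Subgroup.closure_le]
    rintro _ ⟨k, -, rfl⟩
    exact hMn.conj_mem z hzM k
  have hHM : ∀ g : G, g * z = z * g → g ∈ Subgroup.normalClosure ({z} : Set G) := by
    intro g hg
    have hgH : g ∈ Subgroup.centralizer ({z} : Set G) := (S5436.mem_cent_singleton z g).mpr hg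
    rw [← hgen] at hgH
    refine (Subgroup.closure_le _).mpr ?_ hgH
    rintro _ ⟨c, -, u, hu, rfl⟩
    exact hMn.conj_mem u (hUM hu) c
  by_cases hR : Cfsg.pCore 2 G = ⊥
  · rcases S5426.caseB hS hR with ⟨hMg, hMs, hMna⟩ |
      ⟨hMg, L, u, hu, hLs, hLn, hinf, hcomm, hsup, z₁, hz₁L, hzz, hRR, hne⟩
    · exact S5436.simple_of hS hMs hHM
    · exact absurd hQO hne
  · exfalso
    obtain ⟨hMab, -⟩ := S5426.caseA hS hR
    obtain ⟨a, b, hab⟩ := S5436.not_comm_of_es hQ w hw hcard
    apply hab
    have haM := hHM a.1 ((S5436.mem_cent_singleton z a.1).mp (hQC a.2))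
    have hbM := hHM b.1 ((S5436.mem_cent_singleton z b.1).mp (hQC b.2))
    have h5 : (a.1 : G) * (b.1 : G) = (b.1 : G) * (a.1 : G) :=
      congrArg Subtype.val (hMab.is_comm.comm
        (⟨a.1, haM⟩ : ↥(Subgroup.normalClosure ({z} : Set G))) ⟨b.1, hbM⟩)
    exact Subtype.ext h5

end Cfsg.Agent.S5427
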