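import Cfsg.Statements.S5428
import Cfsg.Agent.S5426
import Cfsg.Agent.S5436
import Cfsg.Agent.S5424
import Cfsg.Agent.S5422
import Cfsg.Agent.Lib.Helper1.Coprime
import Cfsg.Agent.Lib.Helper1.Cores
import Cfsg.Agent.Lib.Helper1.Frattini
import Cfsg.Agent.Lib.Helper1.ExtraspecialOrder
import Cfsg.Agent.Lib.Helper2.IndexTwo
import Cfsg.Agent.Lib.Helper9.Layer3
import Cfsg.Agent.Lib.Helper17.Frattini
import Mathlib

set_option autoImplicit false
open Cfsg

namespace Cfsg.Agent.S5428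

open Cfsg.Agent
open scoped commutatorElement

section General

/-- membership in the image of the centre of a subgroup -/
theorem mem_center_map {Γ : Type*} [Group Γ] (Q : Subgroup Γ) (y : Γ) :
    y ∈ (Subgroup.center ↥Q).map Q.subtype ↔ y ∈ Q ∧ ∀ q ∈ Q, q * y = y * q := by
  constructor
  · rintro ⟨c, hc, rfl⟩
    refine ⟨c.2, fun q hq => ?_⟩
    have h := Subgroup.mem_center_iff.mp hc ⟨q, hq⟩
    exact congrArg Subtype.val h
  · rintro ⟨hy, hc⟩
    refine Subgroup.mem_map.mpr ⟨⟨y, hy⟩, ?_, rfl⟩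
    rw [Subgroup.mem_center_iff]
    intro q
    exact Subtype.ext (hc q q.2)

variable {G : Type*} [Group G] [Finite G]

/-- an element of an odd order subgroup whose order is a power of two is trivial -/
theorem odd_elt_eq_one (A : Subgroup G) (hAodd : Odd (Nat.card ↥A)) (b : G) (hb : b ∈ A) (k : ℕ)
    (hbk : b ^ (2 ^ k) = 1) : b = 1 := by
  have h1 : orderOf b ∣ 2 ^ k := orderOf_dvd_of_pow_eq_one hbk
  have h2 : orderOf b ∣ Nat.card ↥A := Subgroup.orderOf_dvd_natCard A hb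
  have hc : Nat.Coprime (2 ^ k) (Nat.card ↥A) :=
    Nat.Coprime.pow_left k (Nat.coprime_two_left.mpr hAodd)
  have h3 : orderOf b ∣ 1 := by
    have h := Nat.dvd_gcd h1 h2
    rw [Nat.Coprime.gcd_eq_one hc] at h
    exact h
  exact orderOf_eq_one_iff.mp (Nat.dvd_one.mp h3)

/-- if `x` moves the 2-element `r` (which centralizes the odd order group `A`) by an element of
`A`, then `x` centralizes `r` -/
theorem conj_eq_of_comm_mem (A : Subgroup G) (hAodd : Odd (Nat.card ↥A)) (x r : G) (k : ℕ)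
    (hr : r ^ (2 ^ k) = 1) (hrA : ∀ b ∈ A, b * r = r * b)
    (hx : x * r * x⁻¹ * r⁻¹ ∈ A) : x * r * x⁻¹ = r := by
  have hbr : Commute (x * r * x⁻¹ * r⁻¹) r := hrA _ hx
  have h1 : x * r * x⁻¹ = (x * r * x⁻¹ * r⁻¹) * r := by group
  have h2 : ((x * r * x⁻¹ * r⁻¹) * r) ^ (2 ^ k) = 1 := by
    rw [← h1, conj_pow, hr]
    group
  have h3 : (x * r * x⁻¹ * r⁻¹) ^ (2 ^ k) = 1 := by
    rw [hbr.mul_pow, hr, mul_one] at h2
    exact h2
  have h4 : x * r * x⁻¹ * r⁻¹ = 1 := odd_elt_eq_one A hAodd _ hx k h3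
  rw [h1, h4, one_mul]

/-- the centre of the centralizer of an odd order group of automorphisms of an extraspecial
2-group is the centre of that group -/
theorem center_sub (Q : Subgroup G) (z : G) (hS : S5426.LES Q z) (A : Subgroup G)
    (hAz : ∀ b ∈ A, b * z = z * b) (hAodd : Odd (Nat.card ↥A))
    (r : G) (hrQ : r ∈ Q) (hrA : ∀ b ∈ A, b * r = r * b)
    (hrR : ∀ y ∈ Q, (∀ b ∈ A, b * y = y * b) → r * y = y * r) : r = 1 ∨ r = z := by
  haveI : Fact (Nat.Prime 2) := ⟨Nat.prime_two⟩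
  apply hS.cent r
  by_contra hcon
  push Not at hcon
  obtain ⟨x, hxQ, hxr⟩ := hcon
  have hAQ : A ≤ Subgroup.normalizer (Q : Set G) := by
    apply Cfsg.Agent.Lib.Helper1.le_normalizer_of_forall_conj_mem
    intro b hb q hq
    exact hS.norm b (hAz b hb) q hq
  have hsolv : Group.IsSolvable ↥Q := by
    haveI := hS.two.isNilpotent
    infer_instance
  have hcop : Cfsg.Agent.Lib.Helper1.CoprimeAct A Q := by
    refine ⟨hAQ, ?_, Or.inr hsolv⟩
    obtain ⟨n, hn⟩ := IsPGroup.iff_card.mp hS.two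
    rw [hn]
    exact Nat.Coprime.pow_right n (Nat.coprime_two_right.mpr hAodd)
  have hKQ : Q ⊓ Subgroup.centralizer ({r} : Set G) ≤ Q := inf_le_left
  have hAK : A ≤ Subgroup.normalizer ((Q ⊓ Subgroup.centralizer ({r} : Set G) : Subgroup G) : Set G) := by
    apply Cfsg.Agent.Lib.Helper1.le_normalizer_of_forall_conj_mem
    intro b hb n hn
    obtain ⟨hnQ, hnr⟩ := Subgroup.mem_inf.mp hn
    refine Subgroup.mem_inf.mpr ⟨hS.norm b (hAz b hb) n hnQ, ?_⟩
    rw [S5436.mem_cent_singleton] at hnr ⊢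
    have c1 : Commute b r := hrA b hb
    have c2 : Commute n r := hnr
    exact ((c1.mul_left c2).mul_left c1.inv_left).eq
  -- `r x r⁻¹ = z x`
  have e1 : r * x * r⁻¹ = z * x := by
    rcases hS.comm r hrQ x hxQ with h | h
    · exfalso
      apply hxr
      have : r * x = x * r := by
        calc r * x = (r * x * r⁻¹ * x⁻¹) * (x * r) := by group
          _ = x * r := by rw [h, one_mul]
      exact this.symm
    · calc r * x * r⁻¹ = (r * x * r⁻¹ * x⁻¹) * x := by group
        _ = z * x := by rw [h]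
  have hx : ∀ b ∈ A, x⁻¹ * (b * x * b⁻¹) ∈ Q ⊓ Subgroup.centralizer ({r} : Set G) := by
    intro b hb
    have hbQ : b * x * b⁻¹ ∈ Q := hS.norm b (hAz b hb) x hxQ
    refine Subgroup.mem_inf.mpr ⟨Q.mul_mem (Q.inv_mem hxQ) hbQ, ?_⟩
    rw [S5436.mem_cent_singleton]
    have hbr : b * r = r * b := hrA b hb
    have hbr' : r * b = b * r := hbr.symm
    have hbz : b * z = z * b := hAz b hb
    have e2 : r * (b * x * b⁻¹) * r⁻¹ = z * (b * x * b⁻¹) := by
      have hrb' : r * b⁻¹ = b⁻¹ * r := by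
        have c : Commute r b := hbr'
        exact c.inv_right.eq
      calc r * (b * x * b⁻¹) * r⁻¹ = (r * b) * x * (b⁻¹ * r⁻¹) := by group
        _ = (b * r) * x * (b⁻¹ * r⁻¹) := by rw [hbr']
        _ = b * (r * x * r⁻¹) * b⁻¹ := by
            have : b⁻¹ * r⁻¹ = r⁻¹ * b⁻¹ := by
              have c : Commute b r := hbr
              exact c.inv_inv.eq
            rw [this]; group
        _ = b * (z * x) * b⁻¹ := by rw [e1]
        _ = (b * z) * x * b⁻¹ := by group
        _ = (z * b) * x * b⁻¹ := by rw [hbz]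
        _ = z * (b * x * b⁻¹) := by group
    have e3 : r * (x⁻¹ * (b * x * b⁻¹)) * r⁻¹ = x⁻¹ * (b * x * b⁻¹) := by
      calc r * (x⁻¹ * (b * x * b⁻¹)) * r⁻¹
          = (r * x * r⁻¹)⁻¹ * (r * (b * x * b⁻¹) * r⁻¹) := by group
        _ = (z * x)⁻¹ * (z * (b * x * b⁻¹)) := by rw [e1, e2]
        _ = x⁻¹ * (b * x * b⁻¹) := by group
    calc x⁻¹ * (b * x * b⁻¹) * r = (r * (x⁻¹ * (b * x * b⁻¹)) * r⁻¹) * r := by rw [e3]
      _ = r * (x⁻¹ * (b * x * b⁻¹)) := by group
  obtain ⟨u, hu, hxu⟩ := hcop.exists_mul_mem_centralizer hKQ hAK x hxQ hx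
  obtain ⟨hxuQ, hxuA⟩ := Subgroup.mem_inf.mp hxu
  have c1 : Commute r (x * u) := hrR (x * u) hxuQ (Subgroup.mem_centralizer_iff.mp hxuA)
  have c2 : Commute u r := by
    have := (Subgroup.mem_inf.mp hu).2
    rw [S5436.mem_cent_singleton] at this
    exact this
  have c3 : Commute ((x * u) * u⁻¹) r := c1.symm.mul_left c2.inv_left
  rw [mul_inv_cancel_right] at c3
  exact hxr c3.eq

/-- a subgroup of an extraspecial 2-group containing the centre, with that centre as its own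
centre and nonabelian, is extraspecial -/
theorem es_sub (Q : Subgroup G) (z : G) (hS : S5426.LES Q z) (R : Subgroup G) (hRQ : R ≤ Q)
    (hzR : z ∈ R) (hcen : ∀ r ∈ R, (∀ y ∈ R, r * y = y * r) → r = 1 ∨ r = z)
    (a y : G) (haR : a ∈ R) (hyR : y ∈ R) (hay : a * y ≠ y * a) : Cfsg.IsExtraspecial 2 ↥R := by
  haveI : Fact (Nat.Prime 2) := ⟨Nat.prime_two⟩
  have hP : IsPGroup 2 ↥R := hS.two.to_le hRQ
  have hzRc : (⟨z, hzR⟩ : ↥R) ∈ Subgroup.center ↥R := by
    rw [Subgroup.mem_center_iff]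
    intro q
    apply Subtype.ext
    show (q : G) * z = z * (q : G)
    exact hS.z_comm q (hRQ q.2)
  have hcenter : ∀ c : ↥R, c ∈ Subgroup.center ↥R → c = 1 ∨ c = ⟨z, hzR⟩ := by
    intro c hc
    have h1 : ∀ y ∈ R, (c : G) * y = y * (c : G) := by
      intro y hy
      have h := Subgroup.mem_center_iff.mp hc ⟨y, hy⟩
      exact (congrArg Subtype.val h).symm
    rcases hcen c c.2 h1 with h | h
    · left; exact Subtype.ext h
    · right; exact Subtype.ext h
  have hcomm_mem : ∀ u v : ↥R, ⁅u, v⁆ ∈ Subgroup.center ↥R := by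
    intro u v
    rcases hS.comm u (hRQ u.2) v (hRQ v.2) with h | h
    · have h1 : ⁅u, v⁆ = 1 := by
        apply Subtype.ext
        show (u : G) * v * (u : G)⁻¹ * (v : G)⁻¹ = 1
        exact h
      rw [h1]; exact Subgroup.one_mem _
    · have h1 : ⁅u, v⁆ = ⟨z, hzR⟩ := by
        apply Subtype.ext
        show (u : G) * v * (u : G)⁻¹ * (v : G)⁻¹ = z
        exact h
      rw [h1]; exact hzRc
  have hzR1 : (⟨z, hzR⟩ : ↥R) ≠ 1 := fun h => hS.z_ne (congrArg Subtype.val h)
  have hzR2 : (⟨z, hzR⟩ : ↥R) * ⟨z, hzR⟩ = 1 := Subtype.ext hS.z_sq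
  have hord : orderOf (⟨z, hzR⟩ : ↥R) = 2 := by
    apply orderOf_eq_prime
    · rw [pow_two]; exact hzR2
    · exact hzR1
  have hceq : Subgroup.center ↥R = Subgroup.zpowers (⟨z, hzR⟩ : ↥R) := by
    apply le_antisymm
    · intro c hc
      rcases hcenter c hc with h | h
      · rw [h]; exact Subgroup.one_mem _
      · rw [h]; exact Subgroup.mem_zpowers _
    · rw [Subgroup.zpowers_le]; exact hzRc
  have hcard : Nat.card (Subgroup.center ↥R) = 2 := by
    rw [hceq, Nat.card_zpowers, hord]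
  have hcomm : commutator ↥R = Subgroup.center ↥R := by
    apply le_antisymm
    · rw [commutator_def, Subgroup.commutator_le]
      intro u _ v _
      exact hcomm_mem u v
    · rw [hceq, Subgroup.zpowers_le]
      have h1 : ⁅(⟨a, haR⟩ : ↥R), (⟨y, hyR⟩ : ↥R)⁆ = ⟨z, hzR⟩ := by
        apply Subtype.ext
        show a * y * a⁻¹ * y⁻¹ = z
        rcases hS.comm a (hRQ haR) y (hRQ hyR) with h | h
        · exfalso; apply hay
          calc a * y = (a * y * a⁻¹ * y⁻¹) * (y * a) := by group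
            _ = y * a := by rw [h, one_mul]
        · exact h
      rw [← h1, commutator_def]
      exact Subgroup.commutator_mem_commutator (Subgroup.mem_top _) (Subgroup.mem_top _)
  have hfr : frattini ↥R = Subgroup.center ↥R := by
    apply le_antisymm
    · apply Cfsg.Agent.Lib.Helper17.frattini_le_of_pow_comm (p := 2) (Subgroup.center ↥R)
      · intro u
        rcases hS.sq u (hRQ u.2) with h | h
        · have h1 : u ^ 2 = 1 := by
            apply Subtype.ext
            rw [pow_two]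
            exact h
          rw [h1]; exact Subgroup.one_mem _
        · have h1 : u ^ 2 = ⟨z, hzR⟩ := by
            apply Subtype.ext
            rw [pow_two]
            exact h
          rw [h1]; exact hzRc
      · exact hcomm_mem
    · rw [← hcomm]
      exact Cfsg.Agent.Lib.Helper1.IsPGroup.commutator_le_frattini hP
  exact ⟨⟨hP, hfr, hcomm⟩, hcard⟩

/-- a group whose order is twice an odd number, with odd core inside `A`, lies in `A⟨z⟩` -/
theorem cent_le (z : G) (hz : orderOf z = 2) (A X : Subgroup G) (hzX : z ∈ X)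
    (hO : (Cfsg.oddCore ↥X).map X.subtype ≤ A) (h4 : ¬ 4 ∣ Nat.card ↥X) :
    X ≤ A ⊔ Subgroup.zpowers z := by
  haveI : Fact (Nat.Prime 2) := ⟨Nat.prime_two⟩
  have hordX : orderOf (⟨z, hzX⟩ : ↥X) = 2 := by
    rw [← hz]; exact Subgroup.orderOf_mk z hzX
  have h2 : 2 ∣ Nat.card ↥X := by
    rw [← hordX]; exact orderOf_dvd_natCard _
  have heven : Even (Nat.card ↥X) := even_iff_two_dvd.mpr h2
  obtain ⟨T⟩ : Nonempty (Sylow 2 ↥X) := inferInstance
  have hTcard : Nat.card ↥(T : Subgroup ↥X) = 2 := by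
    have h := T.card_eq_multiplicity
    have hn0 : Nat.card ↥X ≠ 0 := Nat.card_pos.ne'
    have hf1 : 1 ≤ (Nat.card ↥X).factorization 2 := by
      rw [← Nat.Prime.pow_dvd_iff_le_factorization Nat.prime_two hn0]
      simpa using h2
    have hf2 : ¬ 2 ≤ (Nat.card ↥X).factorization 2 := by
      rw [← Nat.Prime.pow_dvd_iff_le_factorization Nat.prime_two hn0]
      norm_num
      exact h4
    have h3 : (Nat.card ↥X).factorization 2 = 1 := by omega
    rw [h, h3, pow_one]
  have hTcyc : IsCyclic ↥(T : Subgroup ↥X) := isCyclic_of_prime_card hTcard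
  obtain ⟨N, hN⟩ := Cfsg.Agent.Lib.Helper2.exists_index_two_of_cyclic_sylow heven T hTcyc
  haveI hNn : N.Normal := Subgroup.normal_of_index_eq_two hN
  have hNcard : Nat.card ↥N * 2 = Nat.card ↥X := by
    rw [← hN]; exact N.card_mul_index
  have hNodd : (Nat.card ↥N).Coprime 2 := by
    rw [Nat.coprime_two_right, ← Nat.not_even_iff_odd]
    intro he
    apply h4
    obtain ⟨k, hk⟩ := he
    rw [← hNcard, hk]
    exact ⟨k, by ring⟩
  have hNle : N ≤ Cfsg.oddCore ↥X := Cfsg.Agent.Lib.Helper1.le_pPrimeCore hNn hNodd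
  have hzN : (⟨z, hzX⟩ : ↥X) ∉ N := by
    intro h
    have h3 : orderOf (⟨z, hzX⟩ : ↥X) ∣ Nat.card ↥N := Subgroup.orderOf_dvd_natCard N h
    rw [hordX] at h3
    have h5 := Nat.Coprime.eq_one_of_dvd hNodd.symm h3
    norm_num at h5
  intro x hx
  by_cases hxN : (⟨x, hx⟩ : ↥X) ∈ N
  · apply Subgroup.mem_sup_left
    apply hO
    exact ⟨⟨x, hx⟩, hNle hxN, rfl⟩
  · have h5 : (⟨x, hx⟩ : ↥X) * ⟨z, hzX⟩ ∈ N := by
      rw [Subgroup.mul_mem_iff_of_index_two hN]
      exact ⟨fun h => absurd h hxN, fun h => absurd h hzN⟩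
    have h6 : x * z ∈ A := by
      apply hO
      exact ⟨(⟨x, hx⟩ : ↥X) * ⟨z, hzX⟩, hNle h5, rfl⟩
    have h7 : x = (x * z) * z⁻¹ := by group
    rw [h7]
    exact Subgroup.mul_mem_sup h6 (Subgroup.inv_mem _ (Subgroup.mem_zpowers z))

/-- fusion of `g z g⁻¹` to `z` inside the two centralizers of `A` -/
theorem fuse (Q : Subgroup G) (z : G) (hS : S5426.LES Q z) (A : Subgroup G)
    (hAz : ∀ b ∈ A, b * z = z * b) (hAodd : Odd (Nat.card ↥A)) (g : G)
    (haQ : g * z * g⁻¹ ∈ Q) (haA : ∀ b ∈ A, b * (g * z * g⁻¹) = (g * z * g⁻¹) * b)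
    (haz : g * z * g⁻¹ ≠ z) (hzg : g⁻¹ * z * g ∈ Q) :
    ∃ x ∈ (Q ⊓ Subgroup.centralizer (A : Set G)) ⊔
        (Q.map (MulAut.conj g).toMonoidHom ⊓ Subgroup.centralizer (A : Set G)),
      x * (g * z * g⁻¹) * x⁻¹ = z := by
  have ha1 : g * z * g⁻¹ ≠ 1 := by
    intro h
    apply hS.z_ne
    have : z = g⁻¹ * (g * z * g⁻¹) * g := by group
    rw [this, h]; group
  -- step i: an element of `C_Q(A)` moving `a`
  have hex1 : ∃ y ∈ Q, (∀ b ∈ A, b * y = y * b) ∧ (g * z * g⁻¹) * y ≠ y * (g * z * g⁻¹) := by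
    by_contra hcon
    push Not at hcon
    rcases center_sub Q z hS A hAz hAodd (g * z * g⁻¹) haQ haA
      (fun y hy hyA => hcon y hy hyA) with h | h
    · exact ha1 h
    · exact haz h
  obtain ⟨r, hrQ, hrA, hrne⟩ := hex1
  have hr : r * (g * z * g⁻¹) * r⁻¹ = z * (g * z * g⁻¹) := by
    rcases hS.comm r hrQ (g * z * g⁻¹) haQ with h | h
    · exfalso
      apply hrne
      have : r * (g * z * g⁻¹) = (g * z * g⁻¹) * r := by
        calc r * (g * z * g⁻¹) = (r * (g * z * g⁻¹) * r⁻¹ * (g * z * g⁻¹)⁻¹) * ((g * z * g⁻¹) * r) := by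
              group
          _ = (g * z * g⁻¹) * r := by rw [h, one_mul]
      exact this.symm
    · calc r * (g * z * g⁻¹) * r⁻¹
          = (r * (g * z * g⁻¹) * r⁻¹ * (g * z * g⁻¹)⁻¹) * (g * z * g⁻¹) := by group
        _ = z * (g * z * g⁻¹) := by rw [h]
  -- step ii: the conjugate situation
  have hinj : Function.Injective ((MulAut.conj g⁻¹).toMonoidHom : G →* G) :=
    (MulAut.conj g⁻¹).injective
  have hA'card : Nat.card ↥(A.map (MulAut.conj g⁻¹).toMonoidHom) = Nat.card ↥A :=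
    (Nat.card_congr (A.equivMapOfInjective _ hinj).toEquiv).symm
  have hA'odd : Odd (Nat.card ↥(A.map (MulAut.conj g⁻¹).toMonoidHom)) := by
    rw [hA'card]; exact hAodd
  have hA'mem : ∀ b' ∈ A.map (MulAut.conj g⁻¹).toMonoidHom, ∃ b ∈ A, b' = g⁻¹ * b * g := by
    rintro b' ⟨b, hb, rfl⟩
    refine ⟨b, hb, ?_⟩
    show (MulAut.conj g⁻¹) b = g⁻¹ * b * g
    rw [MulAut.conj_apply, inv_inv]
  have hA'z : ∀ b' ∈ A.map (MulAut.conj g⁻¹).toMonoidHom, b' * z = z * b' := by
    intro b' hb'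
    obtain ⟨b, hb, rfl⟩ := hA'mem b' hb'
    have h := haA b hb
    calc g⁻¹ * b * g * z = g⁻¹ * (b * (g * z * g⁻¹)) * g := by group
      _ = g⁻¹ * ((g * z * g⁻¹) * b) * g := by rw [h]
      _ = z * (g⁻¹ * b * g) := by group
  have hz'A : ∀ b' ∈ A.map (MulAut.conj g⁻¹).toMonoidHom,
      b' * (g⁻¹ * z * g) = (g⁻¹ * z * g) * b' := by
    intro b' hb'
    obtain ⟨b, hb, rfl⟩ := hA'mem b' hb'
    have h := hAz b hb
    calc g⁻¹ * b * g * (g⁻¹ * z * g) = g⁻¹ * (b * z) * g := by group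
      _ = g⁻¹ * (z * b) * g := by rw [h]
      _ = (g⁻¹ * z * g) * (g⁻¹ * b * g) := by group
  have hz'1 : g⁻¹ * z * g ≠ 1 := by
    intro h
    apply hS.z_ne
    have : z = g * (g⁻¹ * z * g) * g⁻¹ := by group
    rw [this, h]; group
  have hz'z : g⁻¹ * z * g ≠ z := by
    intro h
    apply haz
    have : z = g * (g⁻¹ * z * g) * g⁻¹ := by group
    rw [h] at this
    exact this.symm
  have hex2 : ∃ y ∈ Q, (∀ b' ∈ A.map (MulAut.conj g⁻¹).toMonoidHom, b' * y = y * b') ∧
      (g⁻¹ * z * g) * y ≠ y * (g⁻¹ * z * g) := by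
    by_contra hcon
    push Not at hcon
    rcases center_sub Q z hS _ hA'z hA'odd (g⁻¹ * z * g) hzg hz'A
      (fun y hy hyA => hcon y hy hyA) with h | h
    · exact hz'1 h
    · exact hz'z h
  obtain ⟨y', hy'Q, hy'A, hy'ne⟩ := hex2
  have hy' : y' * (g⁻¹ * z * g) * y'⁻¹ = z * (g⁻¹ * z * g) := by
    rcases hS.comm y' hy'Q (g⁻¹ * z * g) hzg with h | h
    · exfalso
      apply hy'ne
      have : y' * (g⁻¹ * z * g) = (g⁻¹ * z * g) * y' := by
        calc y' * (g⁻¹ * z * g)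
            = (y' * (g⁻¹ * z * g) * y'⁻¹ * (g⁻¹ * z * g)⁻¹) * ((g⁻¹ * z * g) * y') := by group
          _ = (g⁻¹ * z * g) * y' := by rw [h, one_mul]
      exact this.symm
    · calc y' * (g⁻¹ * z * g) * y'⁻¹
          = (y' * (g⁻¹ * z * g) * y'⁻¹ * (g⁻¹ * z * g)⁻¹) * (g⁻¹ * z * g) := by group
        _ = z * (g⁻¹ * z * g) := by rw [h]
  have hy'z : y' * z * y'⁻¹ = z := by
    have h := hS.z_comm y' hy'Q
    calc y' * z * y'⁻¹ = (z * y') * y'⁻¹ := by rw [h]
      _ = z := by group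
  -- `r' = g y' g⁻¹`
  have hr'mem : g * y' * g⁻¹ ∈ Q.map (MulAut.conj g).toMonoidHom ⊓
      Subgroup.centralizer (A : Set G) := by
    refine Subgroup.mem_inf.mpr ⟨⟨y', hy'Q, ?_⟩, ?_⟩
    · show (MulAut.conj g) y' = g * y' * g⁻¹
      rw [MulAut.conj_apply]
    · rw [Subgroup.mem_centralizer_iff]
      intro b hb
      have hb' : g⁻¹ * b * g ∈ A.map (MulAut.conj g⁻¹).toMonoidHom := by
        refine ⟨b, hb, ?_⟩
        show (MulAut.conj g⁻¹) b = g⁻¹ * b * g
        rw [MulAut.conj_apply, inv_inv]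
      have h := hy'A _ hb'
      calc b * (g * y' * g⁻¹) = g * ((g⁻¹ * b * g) * y') * g⁻¹ := by group
        _ = g * (y' * (g⁻¹ * b * g)) * g⁻¹ := by rw [h]
        _ = g * y' * g⁻¹ * b := by group
  have hr'z : (g * y' * g⁻¹) * z * (g * y' * g⁻¹)⁻¹ = (g * z * g⁻¹) * z := by
    calc (g * y' * g⁻¹) * z * (g * y' * g⁻¹)⁻¹ = g * (y' * (g⁻¹ * z * g) * y'⁻¹) * g⁻¹ := by group
      _ = g * (z * (g⁻¹ * z * g)) * g⁻¹ := by rw [hy']
      _ = (g * z * g⁻¹) * z := by group
  have hr'a : (g * y' * g⁻¹) * (g * z * g⁻¹) * (g * y' * g⁻¹)⁻¹ = g * z * g⁻¹ := by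
    calc (g * y' * g⁻¹) * (g * z * g⁻¹) * (g * y' * g⁻¹)⁻¹ = g * (y' * z * y'⁻¹) * g⁻¹ := by group
      _ = g * z * g⁻¹ := by rw [hy'z]
  have haz_comm : (g * z * g⁻¹) * z = z * (g * z * g⁻¹) := hS.z_comm _ haQ
  have haa : (g * z * g⁻¹) * (g * z * g⁻¹) = 1 := by
    calc (g * z * g⁻¹) * (g * z * g⁻¹) = g * (z * z) * g⁻¹ := by group
      _ = 1 := by rw [hS.z_sq]; group
  refine ⟨(g * y' * g⁻¹) * r, ?_, ?_⟩
  · apply Subgroup.mul_mem
    · exact Subgroup.mem_sup_right hr'mem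
    · apply Subgroup.mem_sup_left
      exact Subgroup.mem_inf.mpr ⟨hrQ, Subgroup.mem_centralizer_iff.mpr hrA⟩
  · calc (g * y' * g⁻¹) * r * (g * z * g⁻¹) * ((g * y' * g⁻¹) * r)⁻¹
        = (g * y' * g⁻¹) * (r * (g * z * g⁻¹) * r⁻¹) * (g * y' * g⁻¹)⁻¹ := by group
      _ = (g * y' * g⁻¹) * (z * (g * z * g⁻¹)) * (g * y' * g⁻¹)⁻¹ := by rw [hr]
      _ = ((g * y' * g⁻¹) * z * (g * y' * g⁻¹)⁻¹) *
            ((g * y' * g⁻¹) * (g * z * g⁻¹) * (g * y' * g⁻¹)⁻¹) := by group
      _ = ((g * z * g⁻¹) * z) * (g * z * g⁻¹) := by rw [hr'z, hr'a]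
      _ = (z * (g * z * g⁻¹)) * (g * z * g⁻¹) := by rw [haz_comm]
      _ = z * ((g * z * g⁻¹) * (g * z * g⁻¹)) := by group
      _ = z := by rw [haa, mul_one]

end General

section Quot

/-- largeness of the image of an extraspecial group in a quotient -/
theorem quot_large {Γ : Type*} [Group Γ] [Finite Γ] (N : Subgroup Γ) [N.Normal] (S : Subgroup Γ)
    (zΓ : Γ) (hzS : zΓ ∈ S) (hz1 : zΓ ≠ 1) (hz2 : zΓ * zΓ = 1)
    (hSN : ∀ s ∈ S, s ∈ N → s = 1)
    (hES : Cfsg.IsExtraspecial 2 ↥S) (h32 : 32 ≤ Nat.card ↥S)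
    (hzc : ∀ s ∈ S, s * zΓ = zΓ * s)
    (hcen : ∀ s ∈ S, (∀ t ∈ S, s * t = t * s) → s = 1 ∨ s = zΓ)
    (hq4 : ∀ x : Γ, (∀ s ∈ S, x * s * x⁻¹ * s⁻¹ ∈ N) → x ∈ N ∨ x * zΓ ∈ N)
    (hq5 : ∀ x : Γ, x * zΓ * x⁻¹ * zΓ⁻¹ ∈ N → ∀ s ∈ S, x * s * x⁻¹ ∈ S)
    (g₀ : Γ) (hg₀S : g₀ * zΓ * g₀⁻¹ ∈ S) (hg₀z : g₀ * zΓ * g₀⁻¹ ≠ zΓ) :
    Cfsg.IsLargeExtraspecial (S.map (QuotientGroup.mk' N)) := by
  haveI : Fact (Nat.Prime 2) := ⟨Nat.prime_two⟩
  have hker : ∀ v : Γ, (QuotientGroup.mk' N) v = 1 ↔ v ∈ N := fun v =>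
    QuotientGroup.eq_one_iff v
  have heq : ∀ u v : Γ, (QuotientGroup.mk' N) u = (QuotientGroup.mk' N) v → u⁻¹ * v ∈ N := by
    intro u v h
    rw [← hker, map_mul, map_inv, h, inv_mul_cancel]
  have hmem : ∀ s : ↥S, (QuotientGroup.mk' N) (s : Γ) ∈ S.map (QuotientGroup.mk' N) :=
    fun s => Subgroup.mem_map_of_mem _ s.2
  let f : ↥S →* ↥(S.map (QuotientGroup.mk' N)) :=
    ((QuotientGroup.mk' N).comp S.subtype).codRestrict (S.map (QuotientGroup.mk' N)) hmem
  have hinj : Function.Injective f := by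
    intro s t hst
    have h1 : (QuotientGroup.mk' N) (s : Γ) = (QuotientGroup.mk' N) (t : Γ) :=
      congrArg Subtype.val hst
    have h2 := heq _ _ h1
    have h3 := hSN _ (S.mul_mem (S.inv_mem s.2) t.2) h2
    apply Subtype.ext
    exact inv_mul_eq_one.mp h3
  have hsurj : Function.Surjective f := by
    rintro ⟨y, s, hs, rfl⟩
    exact ⟨⟨s, hs⟩, rfl⟩
  have hES' : Cfsg.IsExtraspecial 2 ↥(S.map (QuotientGroup.mk' N)) :=
    S5424.isExtraspecial_of_equiv (MulEquiv.ofBijective f ⟨hinj, hsurj⟩) hES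
  have hcardeq : Nat.card ↥(S.map (QuotientGroup.mk' N)) = Nat.card ↥S :=
    (Nat.card_congr (MulEquiv.ofBijective f ⟨hinj, hsurj⟩).toEquiv).symm
  obtain ⟨n, hn1, hn⟩ := Cfsg.Agent.Lib.Helper1.IsExtraspecial.card_eq hES
  have hn2 : 2 ≤ n := by
    by_contra hlt
    have hn' : n = 1 := by omega
    rw [hn, hn'] at h32
    norm_num at h32
  have hcard' : Nat.card ↥(S.map (QuotientGroup.mk' N)) = 2 ^ (2 * n + 1) := by
    rw [hcardeq, hn]
  -- the image of `z`
  have hzs2 : (QuotientGroup.mk' N) zΓ * (QuotientGroup.mk' N) zΓ = 1 := by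
    rw [← map_mul, hz2, map_one]
  have hzs1 : (QuotientGroup.mk' N) zΓ ≠ 1 := by
    intro h
    exact hz1 (hSN zΓ hzS ((hker zΓ).mp h))
  have hord : orderOf ((QuotientGroup.mk' N) zΓ) = 2 := by
    apply orderOf_eq_prime
    · rw [pow_two]; exact hzs2
    · exact hzs1
  have hzsinv : ((QuotientGroup.mk' N) zΓ)⁻¹ = (QuotientGroup.mk' N) zΓ :=
    inv_eq_of_mul_eq_one_left hzs2
  have hzsmem : (QuotientGroup.mk' N) zΓ ∈ S.map (QuotientGroup.mk' N) :=
    Subgroup.mem_map_of_mem _ hzS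
  have hzscomm : ∀ t ∈ S.map (QuotientGroup.mk' N),
      t * (QuotientGroup.mk' N) zΓ = (QuotientGroup.mk' N) zΓ * t := by
    rintro t ⟨s, hs, rfl⟩
    rw [← map_mul, ← map_mul, hzc s hs]
  have hcen' : ∀ y ∈ S.map (QuotientGroup.mk' N),
      (∀ t ∈ S.map (QuotientGroup.mk' N), t * y = y * t) →
      y = 1 ∨ y = (QuotientGroup.mk' N) zΓ := by
    rintro y ⟨s, hs, rfl⟩ hc
    have h1 : ∀ t ∈ S, s * t = t * s := by
      intro t ht
      have h2 := hc _ (Subgroup.mem_map_of_mem _ ht)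
      rw [← map_mul, ← map_mul] at h2
      have h3 := heq _ _ h2
      have h4 := hSN _ (S.mul_mem (S.inv_mem (S.mul_mem ht hs)) (S.mul_mem hs ht)) h3
      exact (inv_mul_eq_one.mp h4).symm
    rcases hcen s hs h1 with h | h
    · left; rw [h, map_one]
    · right; rw [h]
  have hZeq : (Subgroup.center ↥(S.map (QuotientGroup.mk' N))).map
      (S.map (QuotientGroup.mk' N)).subtype = Subgroup.zpowers ((QuotientGroup.mk' N) zΓ) := by
    ext y
    rw [mem_center_map]
    constructor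
    · rintro ⟨hy, hc⟩
      rcases hcen' y hy hc with h | h
      · rw [h]; exact Subgroup.one_mem _
      · rw [h]; exact Subgroup.mem_zpowers _
    · intro hy
      rcases S5436.mem_zpowers_two hord y hy with h | h
      · rw [h]
        exact ⟨Subgroup.one_mem _, fun q _ => by rw [mul_one, one_mul]⟩
      · rw [h]
        exact ⟨hzsmem, hzscomm⟩
  have hL2 : Subgroup.centralizer ((S.map (QuotientGroup.mk' N) : Subgroup (Γ ⧸ N)) : Set (Γ ⧸ N)) =
      (Subgroup.center ↥(S.map (QuotientGroup.mk' N))).map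
        (S.map (QuotientGroup.mk' N)).subtype := by
    ext y
    constructor
    · intro hy
      rw [Subgroup.mem_centralizer_iff] at hy
      obtain ⟨x, rfl⟩ := QuotientGroup.mk'_surjective N y
      have h1 : ∀ s ∈ S, x * s * x⁻¹ * s⁻¹ ∈ N := by
        intro s hs
        rw [← hker, map_mul, map_mul, map_mul, map_inv, map_inv]
        have h2 := hy _ (Subgroup.mem_map_of_mem (QuotientGroup.mk' N) hs)
        rw [← h2]
        group
      rw [hZeq]
      rcases hq4 x h1 with h | h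
      · rw [(hker x).mpr h]; exact Subgroup.one_mem _
      · have h3 : (QuotientGroup.mk' N) x * (QuotientGroup.mk' N) zΓ = 1 := by
          rw [← map_mul]; exact (hker _).mpr h
        have h4 : (QuotientGroup.mk' N) x = (QuotientGroup.mk' N) zΓ := by
          rw [← hzsinv]; exact eq_inv_of_mul_eq_one_left h3
        rw [h4]; exact Subgroup.mem_zpowers _
    · intro hy
      rw [mem_center_map] at hy
      rw [Subgroup.mem_centralizer_iff]
      intro t ht
      exact hy.2 t ht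
  have hL3 : Subgroup.centralizer (((Subgroup.center ↥(S.map (QuotientGroup.mk' N))).map
      (S.map (QuotientGroup.mk' N)).subtype : Subgroup (Γ ⧸ N)) : Set (Γ ⧸ N)) ≤
      Subgroup.normalizer ((S.map (QuotientGroup.mk' N) : Subgroup (Γ ⧸ N)) : Set (Γ ⧸ N)) := by
    apply Cfsg.Agent.Lib.Helper1.le_normalizer_of_forall_conj_mem
    intro y hy t ht
    rw [Subgroup.mem_centralizer_iff] at hy
    obtain ⟨x, rfl⟩ := QuotientGroup.mk'_surjective N y
    obtain ⟨s, hs, rfl⟩ := ht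
    have h1 : (QuotientGroup.mk' N) zΓ ∈ (Subgroup.center ↥(S.map (QuotientGroup.mk' N))).map
        (S.map (QuotientGroup.mk' N)).subtype := by
      rw [hZeq]; exact Subgroup.mem_zpowers _
    have h2 := hy _ h1
    have h3 : x * zΓ * x⁻¹ * zΓ⁻¹ ∈ N := by
      rw [← hker, map_mul, map_mul, map_mul, map_inv, map_inv, ← h2]
      group
    have h4 := hq5 x h3 s hs
    have h5 : (QuotientGroup.mk' N) x * (QuotientGroup.mk' N) s * ((QuotientGroup.mk' N) x)⁻¹ =
        (QuotientGroup.mk' N) (x * s * x⁻¹) := by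
      rw [map_mul, map_mul, map_inv]
    rw [h5]
    exact Subgroup.mem_map_of_mem _ h4
  apply S5436.large_of_conj (S.map (QuotientGroup.mk' N)) ((QuotientGroup.mk' N) zΓ) hord hES'
    hZeq hL2 hL3 n hn2 hcard' ((QuotientGroup.mk' N) g₀)
  · have h5 : (QuotientGroup.mk' N) g₀ * (QuotientGroup.mk' N) zΓ * ((QuotientGroup.mk' N) g₀)⁻¹ =
        (QuotientGroup.mk' N) (g₀ * zΓ * g₀⁻¹) := by
      rw [map_mul, map_mul, map_inv]
    rw [h5]
    exact Subgroup.mem_map_of_mem _ hg₀S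
  · intro h
    have h5 : (QuotientGroup.mk' N) (g₀ * zΓ * g₀⁻¹) = (QuotientGroup.mk' N) zΓ := by
      rw [map_mul, map_mul, map_inv]; exact h
    have h6 := heq _ _ h5
    have h7 := hSN _ (S.mul_mem (S.inv_mem hg₀S) hzS) h6
    exact hg₀z (inv_mul_eq_one.mp h7)

end Quot

/-- Let z be an involution of the finite group G whose centralizer C has generalized Fitting subgroup Q extraspecial (as a 2-group), let A be a subgroup of C of odd order, and let R be the centralizer of A in Q; suppose R has order at least 32, the largest normal subgroup of odd order of the centralizer of the subgroup generated by A and R lies in A, the order of that centralizer is not divisible by 4, and g is an element of G with g z g⁻¹ in R but outside the centre Z of Q. Let M be the subgroup generated by A and the centralizer of A (A is normal in it). Then: the centralizer in M of the subgroup generated by R and A, joined with A, equals the subgroup generated by A and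 Z; the image of R in M/A is a large extraspecial 2-subgroup of M/A; and g z g⁻¹ is conjugate to z inside the subgroup generated by R and the centralizer of A in g Q g⁻¹. -/
theorem result {G : Type*} [Group G] [Finite G] (z : G) (hz : orderOf z = 2) (Q : Subgroup G) (hQC : Q ≤ Subgroup.centralizer ({z} : Set G)) (hF : (Cfsg.generalizedFittingSubgroup ↥(Subgroup.centralizer ({z} : Set G))).map (Subgroup.centralizer ({z} : Set G)).subtype = Q) (hQ : Cfsg.IsExtraspecial 2 ↥Q) (A : Subgroup G) (hA : A ≤ Subgroup.centralizer ({z} : Set G)) (hAodd : Odd (Nat.card ↥A)) (R : Subgroup G) (hR : R = Q ⊓ Subgroup.centralizer (A : Set G)) (hR32 : 32 ≤ Nat.card ↥R) (hO : (Cfsg.oddCore ↥(Subgroup.centralizer ((A ⊔ R : Subgroup G) : Set G))).map (Subgroup.centralizer ((A ⊔ R : Subgroup G) : Set G)).subtype ≤ A) (h4 : ¬ 4 ∣ Nat.card ↥(Subgroup.centralizer ((A ⊔ R : Subgroup G) : Set G))) (g : G) (hgR : g * z * g⁻¹ ∈ R) (hgZ : g * z * g⁻¹ ∉ ((Subgroup.center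 ↥Q).map Q.subtype)) (M : Subgroup G) (hM : M = Subgroup.centralizer (A : Set G) ⊔ A) [hn : (A.subgroupOf M).Normal] : (M ⊓ Subgroup.centralizer ((R ⊔ A : Subgroup G) : Set G)) ⊔ A = A ⊔ ((Subgroup.center ↥Q).map Q.subtype) ∧ Cfsg.IsLargeExtraspecial ((R.subgroupOf M).map (QuotientGroup.mk' (A.subgroupOf M))) ∧ ∃ x ∈ R ⊔ ((Q).map (MulAut.conj g).toMonoidHom ⊓ Subgroup.centralizer (A : Set G)), x * (g * z * g⁻¹) * x⁻¹ = z := by
  haveI : Fact (Nat.Prime 2) := ⟨Nat.prime_two⟩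
  obtain ⟨hzQ, hZeq, hL2, hL3, -, -⟩ := S5436.setup z hz _ rfl Q hF hQ
  have hRQ : R ≤ Q := by rw [hR]; exact inf_le_left
  have hRA : R ≤ Subgroup.centralizer (A : Set G) := by rw [hR]; exact inf_le_right
  have haQ : g * z * g⁻¹ ∈ Q := hRQ hgR
  have haA : ∀ b ∈ A, b * (g * z * g⁻¹) = (g * z * g⁻¹) * b :=
    Subgroup.mem_centralizer_iff.mp (hRA hgR)
  have haz : g * z * g⁻¹ ≠ z := by
    intro h
    apply hgZ
    rw [hZeq, h]
    exact Subgroup.mem_zpowers z
  -- width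
  obtain ⟨n, hn1, hncard⟩ := Cfsg.Agent.Lib.Helper1.IsExtraspecial.card_eq hQ
  have hn2 : 2 ≤ n := by
    by_contra hlt
    have hn' : n = 1 := by omega
    have h1 : Nat.card ↥R ≤ Nat.card ↥Q := Subgroup.card_le_of_le hRQ
    rw [hncard, hn'] at h1
    norm_num at h1
    omega
  have hLarge : Cfsg.IsLargeExtraspecial Q :=
    S5436.large_of_conj Q z hz hQ hZeq hL2 hL3 n hn2 hncard g haQ haz
  have hS : S5426.LES Q z := S5426.les_of_large Q hLarge z hZeq
  have hAz : ∀ b ∈ A, b * z = z * b := fun b hb => (S5436.mem_cent_singleton z b).mp (hA hb)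
  have hzR : z ∈ R := by
    rw [hR]
    exact Subgroup.mem_inf.mpr ⟨hzQ, Subgroup.mem_centralizer_iff.mpr hAz⟩
  -- `z ∈ Q^g`
  have hzg : g⁻¹ * z * g ∈ Q := by
    have hg : g ∉ Subgroup.normalizer ((((Subgroup.center ↥Q).map Q.subtype) : Subgroup G) : Set G) := by
      intro h
      apply hgZ
      have hzZ : z ∈ (Subgroup.center ↥Q).map Q.subtype := by
        rw [hZeq]; exact Subgroup.mem_zpowers z
      exact (Subgroup.mem_normalizer_iff.mp h z).mp hzZ
    have hZg : (((Subgroup.center ↥Q).map Q.subtype)).map (MulAut.conj g).toMonoidHom ≤ Q := by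
      rintro y ⟨c, hc, rfl⟩
      rw [hZeq] at hc
      have hval : (MulAut.conj g).toMonoidHom c = g * c * g⁻¹ := by
        show (MulAut.conj g) c = g * c * g⁻¹
        rw [MulAut.conj_apply]
      rw [hval]
      rcases S5436.mem_zpowers_two hz c hc with h | h
      · rw [h]
        have : g * 1 * g⁻¹ = 1 := by group
        rw [this]; exact Q.one_mem
      · rw [h]; exact haQ
    have h1 := (S5422.result Q hQ hL2 hL3 n hn2 hncard g hg hZg).1
    have hzZ : z ∈ (Subgroup.center ↥Q).map Q.subtype := by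
      rw [hZeq]; exact Subgroup.mem_zpowers z
    obtain ⟨q, hq, hqz⟩ := h1 hzZ
    have hval : (MulAut.conj g).toMonoidHom q = g * q * g⁻¹ := by
      show (MulAut.conj g) q = g * q * g⁻¹
      rw [MulAut.conj_apply]
    rw [hval] at hqz
    have : g⁻¹ * z * g = q := by rw [← hqz]; group
    rw [this]; exact hq
  -- the centre of `R`
  have hcenR : ∀ r ∈ R, (∀ y ∈ R, r * y = y * r) → r = 1 ∨ r = z := by
    intro r hr hc
    apply center_sub Q z hS A hAz hAodd r (hRQ hr) (Subgroup.mem_centralizer_iff.mp (hRA hr))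
    intro y hy hyA
    apply hc y
    rw [hR]
    exact Subgroup.mem_inf.mpr ⟨hy, Subgroup.mem_centralizer_iff.mpr hyA⟩
  have ha1 : g * z * g⁻¹ ≠ 1 := by
    intro h
    apply hS.z_ne
    have : z = g⁻¹ * (g * z * g⁻¹) * g := by group
    rw [this, h]; group
  have hexy : ∃ y ∈ R, (g * z * g⁻¹) * y ≠ y * (g * z * g⁻¹) := by
    by_contra hcon
    push Not at hcon
    rcases hcenR _ hgR hcon with h | h
    · exact ha1 h
    · exact haz h
  obtain ⟨y, hyR, hay⟩ := hexy
  have hRes : Cfsg.IsExtraspecial 2 ↥R := es_sub Q z hS R hRQ hzR hcenR _ y hgR hyR hay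
  -- part 3
  obtain ⟨x₀, hx₀mem, hx₀⟩ := fuse Q z hS A hAz hAodd g haQ haA haz hzg
  rw [← hR] at hx₀mem
  -- the centralizer of `A ⊔ R`
  have hzX : z ∈ Subgroup.centralizer ((A ⊔ R : Subgroup G) : Set G) := by
    have h1 : A ⊔ R ≤ Subgroup.centralizer ({z} : Set G) := sup_le hA (hRQ.trans hQC)
    rw [Subgroup.mem_centralizer_iff]
    intro y hy
    exact ((S5436.mem_cent_singleton z y).mp (h1 hy))
  have hXle := cent_le z hz A _ hzX hO h4
  have hpow4 : ∀ v ∈ Q, v ^ (2 ^ 2) = 1 := by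
    intro v hv
    have h1 : v ^ (2 ^ 2) = (v * v) * (v * v) := by
      norm_num [pow_succ, mul_assoc]
    rw [h1]
    rcases hS.sq v hv with h | h
    · rw [h, one_mul]
    · rw [h, hS.z_sq]
  have hRAbot : ∀ v ∈ R, v ∈ A → v = 1 := fun v hvR hvA =>
    odd_elt_eq_one A hAodd v hvA 2 (hpow4 v (hRQ hvR))
  have hCAM : Subgroup.centralizer (A : Set G) ≤ M := by rw [hM]; exact le_sup_left
  have hAM : A ≤ M := by rw [hM]; exact le_sup_right
  have hRM : R ≤ M := hRA.trans hCAM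
  have hzM : z ∈ M := hRM hzR
  have hcommCA : ∀ c ∈ Subgroup.centralizer (A : Set G), ∀ b ∈ A, c * b = b * c := by
    intro c hc b hb
    exact (Subgroup.mem_centralizer_iff.mp hc b hb).symm
  have hcommAZ : ∀ b ∈ A, ∀ d ∈ Subgroup.zpowers z, b * d = d * b := by
    intro b hb d hd
    rcases S5436.mem_zpowers_two hz d hd with h | h
    · rw [h, mul_one, one_mul]
    · rw [h]; exact hAz b hb
  -- elements of `M` centralizing `R` lie in `A` or `A z`
  have hkey : ∀ x ∈ M, (∀ r ∈ R, x * r * x⁻¹ = r) → x ∈ A ∨ x * z ∈ A := by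
    intro x hxM hxR
    rw [hM] at hxM
    obtain ⟨c, hc, b, hb, hcb⟩ := (Cfsg.Agent.Lib.Helper9.mem_sup_of_commute hcommCA).mp hxM
    have hcR : ∀ r ∈ R, r * c = c * r := by
      intro r hr
      have h1 := hxR r hr
      have h2 : b * r = r * b := Subgroup.mem_centralizer_iff.mp (hRA hr) b hb
      have h3 : c = x * b⁻¹ := by rw [← hcb]; group
      have h4 : b⁻¹ * r = r * b⁻¹ := by
        have c' : Commute b r := h2
        exact c'.inv_left.eq
      calc r * c = r * (x * b⁻¹) := by rw [h3]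
        _ = (x * r * x⁻¹)  * (x * b⁻¹) := by rw [h1]
        _ = x * (r * b⁻¹) := by group
        _ = x * (b⁻¹ * r) := by rw [h4]
        _ = (x * b⁻¹) * r := by group
        _ = c * r := by rw [h3]
    have hcX : c ∈ Subgroup.centralizer ((A ⊔ R : Subgroup G) : Set G) := by
      have h1 : A ⊔ R ≤ Subgroup.centralizer ({c} : Set G) := by
        apply sup_le
        · intro b' hb'
          rw [S5436.mem_cent_singleton]
          exact (hcommCA c hc b' hb').symm
        · intro r hr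
          rw [S5436.mem_cent_singleton]
          exact hcR r hr
      rw [Subgroup.mem_centralizer_iff]
      intro y hy
      exact (S5436.mem_cent_singleton c y).mp (h1 hy)
    obtain ⟨b', hb', d, hd, hbd⟩ :=
      (Cfsg.Agent.Lib.Helper9.mem_sup_of_commute hcommAZ).mp (hXle hcX)
    rcases S5436.mem_zpowers_two hz d hd with h | h
    · left
      rw [← hcb, ← hbd, h, mul_one]
      exact A.mul_mem hb' hb
    · right
      have h5 : x * z = b' * b := by
        rw [← hcb, ← hbd, h]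
        have h6 : z * b = b * z := (hAz b hb).symm
        calc b' * z * b * z = b' * (z * b) * z := by group
          _ = b' * (b * z) * z := by rw [h6]
          _ = b' * b * (z * z) := by group
          _ = b' * b := by rw [hS.z_sq, mul_one]
      rw [h5]
      exact A.mul_mem hb' hb
  refine ⟨?_, ?_, x₀, hx₀mem, hx₀⟩
  · -- part 1
    rw [hZeq]
    apply le_antisymm
    · apply sup_le
      · refine inf_le_right.trans ?_
        rw [sup_comm R A]
        exact hXle
      · exact le_sup_left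
    · apply sup_le
      · exact le_sup_right
      · rw [Subgroup.zpowers_le]
        apply Subgroup.mem_sup_left
        refine Subgroup.mem_inf.mpr ⟨hzM, ?_⟩
        rw [sup_comm R A]
        exact hzX
  · -- part 2
    have hx₀CA : x₀ ∈ Subgroup.centralizer (A : Set G) := by
      have h1 : R ⊔ ((Q).map (MulAut.conj g).toMonoidHom ⊓ Subgroup.centralizer (A : Set G)) ≤
          Subgroup.centralizer (A : Set G) := sup_le hRA inf_le_right
      exact h1 hx₀mem
    have hx₀M : x₀⁻¹ ∈ M := M.inv_mem (hCAM hx₀CA)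
    have hconjx₀ : x₀⁻¹ * z * x₀⁻¹⁻¹ = g * z * g⁻¹ := by
      calc x₀⁻¹ * z * x₀⁻¹⁻¹ = x₀⁻¹ * (x₀ * (g * z * g⁻¹) * x₀⁻¹) * x₀⁻¹⁻¹ := by rw [hx₀]
        _ = g * z * g⁻¹ := by group
    have hnormA : ∀ x ∈ M, ∀ b ∈ A, x⁻¹ * b * x ∈ A := by
      intro x hxM b hb
      have h1 := hn.conj_mem (⟨b, hAM hb⟩ : ↥M) (Subgroup.mem_subgroupOf.mpr hb)
        (⟨x, hxM⟩ : ↥M)⁻¹
      rw [Subgroup.mem_subgroupOf] at h1
      have h2 : (((⟨x, hxM⟩ : ↥M)⁻¹ * ⟨b, hAM hb⟩ * (⟨x, hxM⟩ : ↥M)⁻¹⁻¹ : ↥M) : G) = x⁻¹ * b * x := by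
        rw [inv_inv]; rfl
      rw [h2] at h1
      exact h1
    apply quot_large (A.subgroupOf M) (R.subgroupOf M) (⟨z, hzM⟩ : ↥M)
      (Subgroup.mem_subgroupOf.mpr hzR)
      (fun h => hS.z_ne (congrArg Subtype.val h)) (Subtype.ext hS.z_sq)
    · -- hSN
      intro s hs hsN
      rw [Subgroup.mem_subgroupOf] at hs hsN
      exact Subtype.ext (hRAbot _ hs hsN)
    · -- hES
      exact S5424.isExtraspecial_of_equiv (Subgroup.subgroupOfEquivOfLe hRM).symm hRes
    · -- h32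
      rw [Nat.card_congr (Subgroup.subgroupOfEquivOfLe hRM).toEquiv]
      exact hR32
    · -- hzc
      intro s hs
      rw [Subgroup.mem_subgroupOf] at hs
      apply Subtype.ext
      show (s : G) * z = z * (s : G)
      exact hS.z_comm _ (hRQ hs)
    · -- hcen
      intro s hs hc
      rw [Subgroup.mem_subgroupOf] at hs
      have h1 : ∀ y ∈ R, (s : G) * y = y * (s : G) := by
        intro y hy
        have h2 := hc ⟨y, hRM hy⟩ (Subgroup.mem_subgroupOf.mpr hy)
        exact congrArg Subtype.val h2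
      rcases hcenR _ hs h1 with h | h
      · left; exact Subtype.ext h
      · right; exact Subtype.ext h
    · -- hq4
      intro x hx
      have h1 : ∀ r ∈ R, (x : G) * r * (x : G)⁻¹ = r := by
        intro r hr
        apply conj_eq_of_comm_mem A hAodd (x : G) r 2 (hpow4 r (hRQ hr))
          (Subgroup.mem_centralizer_iff.mp (hRA hr))
        have h2 := hx ⟨r, hRM hr⟩ (Subgroup.mem_subgroupOf.mpr hr)
        rw [Subgroup.mem_subgroupOf] at h2
        exact h2
      rcases hkey (x : G) x.2 h1 with h | h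
      · left; exact Subgroup.mem_subgroupOf.mpr h
      · right; exact Subgroup.mem_subgroupOf.mpr h
    · -- hq5
      intro x hx s hs
      rw [Subgroup.mem_subgroupOf] at hx hs ⊢
      have h1 : (x : G) * z * (x : G)⁻¹ = z := by
        apply conj_eq_of_comm_mem A hAodd (x : G) z 1 _ hAz hx
        rw [pow_one, pow_two]; exact hS.z_sq
      have h2 : (x : G) * z = z * (x : G) := by
        calc (x : G) * z = ((x : G) * z * (x : G)⁻¹) * (x : G) := by group
          _ = z * (x : G) := by rw [h1]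
      show (x : G) * (s : G) * (x : G)⁻¹ ∈ R
      rw [hR]
      refine Subgroup.mem_inf.mpr ⟨hS.norm (x : G) h2 _ (hRQ hs), ?_⟩
      rw [Subgroup.mem_centralizer_iff]
      intro b hb
      have h3 := hnormA (x : G) x.2 b hb
      have h4 : ((x : G)⁻¹ * b * (x : G)) * (s : G) = (s : G) * ((x : G)⁻¹ * b * (x : G)) :=
        Subgroup.mem_centralizer_iff.mp (hRA hs) _ h3
      calc b * ((x : G) * (s : G) * (x : G)⁻¹)
          = (x : G) * (((x : G)⁻¹ * b * (x : G)) * (s : G)) * (x : G)⁻¹ := by group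
        _ = (x : G) * ((s : G) * ((x : G)⁻¹ * b * (x : G))) * (x : G)⁻¹ := by rw [h4]
        _ = (x : G) * (s : G) * (x : G)⁻¹ * b := by group
    · -- g₀ membership
      show (⟨x₀⁻¹, hx₀M⟩ : ↥M) * ⟨z, hzM⟩ * (⟨x₀⁻¹, hx₀M⟩ : ↥M)⁻¹ ∈ R.subgroupOf M
      rw [Subgroup.mem_subgroupOf]
      show x₀⁻¹ * z * x₀⁻¹⁻¹ ∈ R
      rw [hconjx₀]; exact hgR
    · -- g₀ moves z
      intro h
      have h1 := congrArg Subtype.val h
      have h2 : x₀⁻¹ * z * x₀⁻¹⁻¹ = z := h1
      rw [hconjx₀] at h2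
      exact haz h2

end Cfsg.Agent.S5428
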