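import Cfsg.Statements.S5429
import Cfsg.Agent.S5428
import Mathlib

set_option autoImplicit false
open Cfsg

namespace Cfsg.Agent.S5429

open Cfsg.Agent
open scoped commutatorElement

section Quot

/-- largeness of the image of an extraspecial group in a quotient -/
theorem quot_large' {Γ : Type*} [Group Γ] [Finite Γ] (N : Subgroup Γ) [N.Normal] (S : Subgroup Γ)
    (zΓ : Γ) (hzS : zΓ ∈ S) (hz1 : zΓ ≠ 1) (hz2 : zΓ * zΓ = 1)
    (hSN : ∀ s ∈ S, s ∈ N → s = 1)
    (hES : Cfsg.IsExtraspecial 2 ↥S) (h32 : 32 ≤ Nat.card ↥S)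
    (hzc : ∀ s ∈ S, s * zΓ = zΓ * s)
    (hcen : ∀ s ∈ S, (∀ t ∈ S, s * t = t * s) → s = 1 ∨ s = zΓ)
    (hq4 : ∀ x : Γ, (∀ s ∈ S, x * s * x⁻¹ * s⁻¹ ∈ N) → x ∈ N ∨ x * zΓ ∈ N)
    (hq5 : ∀ x : Γ, x * zΓ * x⁻¹ * zΓ⁻¹ ∈ N → ∀ s ∈ S,
      (QuotientGroup.mk' N) (x * s * x⁻¹) ∈ S.map (QuotientGroup.mk' N))
    (g₀ : Γ) (hg₀S : g₀ * zΓ * g₀⁻¹ ∈ S) (hg₀z : g₀ * zΓ * g₀⁻¹ ≠ zΓ) :
    Cfsg.IsLargeExtraspecial (S.map (QuotientGroup.mk' N)) := by
  haveI : Fact (Nat.Prime 2) := ⟨Nat.prime_two⟩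
  have hker : ∀ v : Γ, (QuotientGroup.mk' N) v = 1 ↔ v ∈ N := fun v =>
    QuotientGroup.eq_one_iff v
  have heq : ∀ u v : Γ, (QuotientGroup.mk' N) u = (QuotientGroup.mk' N) v → u⁻¹ * v ∈ N := by
    intro u v h
    rw [← hker, map_mul, map_inv, h, inv_mul_cancel]
  have hmem : ∀ s : ↥S, (QuotientGroup.mk' N) (s : Γ) ∈ S.map (QuotientGroup.mk' N) :=
    fun s => Subgroup.mem_map_of_mem _ s.2
  let f : ↥S →* ↥(S.map (QuotientGroup.mk' N)) :=
    ((QuotientGroup.mk' N).comp S.subtype).codRestrict (S.map (QuotientGroup.mk' N)) hmem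
  have hinj : Function.Injective f := by
    intro s t hst
    have h1 : (QuotientGroup.mk' N) (s : Γ) = (QuotientGroup.mk' N) (t : Γ) :=
      congrArg Subtype.val hst
    have h2 := heq _ _ h1
    have h3 := hSN _ (S.mul_mem (S.inv_mem s.2) t.2) h2
    apply Subtype.ext
    exact inv_mul_eq_one.mp h3
  have hsurj : Function.Surjective f := by
    rintro ⟨y, s, hs, rfl⟩
    exact ⟨⟨s, hs⟩, rfl⟩
  have hES' : Cfsg.IsExtraspecial 2 ↥(S.map (QuotientGroup.mk' N)) :=
    S5424.isExtraspecial_of_equiv (MulEquiv.ofBijective f ⟨hinj, hsurj⟩) hES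
  have hcardeq : Nat.card ↥(S.map (QuotientGroup.mk' N)) = Nat.card ↥S :=
    (Nat.card_congr (MulEquiv.ofBijective f ⟨hinj, hsurj⟩).toEquiv).symm
  obtain ⟨n, hn1, hn⟩ := Cfsg.Agent.Lib.Helper1.IsExtraspecial.card_eq hES
  have hn2 : 2 ≤ n := by
    by_contra hlt
    have hn' : n = 1 := by omega
    rw [hn, hn'] at h32
    norm_num at h32
  have hcard' : Nat.card ↥(S.map (QuotientGroup.mk' N)) = 2 ^ (2 * n + 1) := by
    rw [hcardeq, hn]
  -- the image of `z`
  have hzs2 : (QuotientGroup.mk' N) zΓ * (QuotientGroup.mk' N) zΓ = 1 := by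
    rw [← map_mul, hz2, map_one]
  have hzs1 : (QuotientGroup.mk' N) zΓ ≠ 1 := by
    intro h
    exact hz1 (hSN zΓ hzS ((hker zΓ).mp h))
  have hord : orderOf ((QuotientGroup.mk' N) zΓ) = 2 := by
    apply orderOf_eq_prime
    · rw [pow_two]; exact hzs2
    · exact hzs1
  have hzsinv : ((QuotientGroup.mk' N) zΓ)⁻¹ = (QuotientGroup.mk' N) zΓ :=
    inv_eq_of_mul_eq_one_left hzs2
  have hzsmem : (QuotientGroup.mk' N) zΓ ∈ S.map (QuotientGroup.mk' N) :=
    Subgroup.mem_map_of_mem _ hzS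
  have hzscomm : ∀ t ∈ S.map (QuotientGroup.mk' N),
      t * (QuotientGroup.mk' N) zΓ = (QuotientGroup.mk' N) zΓ * t := by
    rintro t ⟨s, hs, rfl⟩
    rw [← map_mul, ← map_mul, hzc s hs]
  have hcen' : ∀ y ∈ S.map (QuotientGroup.mk' N),
      (∀ t ∈ S.map (QuotientGroup.mk' N), t * y = y * t) →
      y = 1 ∨ y = (QuotientGroup.mk' N) zΓ := by
    rintro y ⟨s, hs, rfl⟩ hc
    have h1 : ∀ t ∈ S, s * t = t * s := by
      intro t ht
      have h2 := hc _ (Subgroup.mem_map_of_mem _ ht)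
      rw [← map_mul, ← map_mul] at h2
      have h3 := heq _ _ h2
      have h4 := hSN _ (S.mul_mem (S.inv_mem (S.mul_mem ht hs)) (S.mul_mem hs ht)) h3
      exact (inv_mul_eq_one.mp h4).symm
    rcases hcen s hs h1 with h | h
    · left; rw [h, map_one]
    · right; rw [h]
  have hZeq : (Subgroup.center ↥(S.map (QuotientGroup.mk' N))).map
      (S.map (QuotientGroup.mk' N)).subtype = Subgroup.zpowers ((QuotientGroup.mk' N) zΓ) := by
    ext y
    rw [S5428.mem_center_map]
    constructor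
    · rintro ⟨hy, hc⟩
      rcases hcen' y hy hc with h | h
      · rw [h]; exact Subgroup.one_mem _
      · rw [h]; exact Subgroup.mem_zpowers _
    · intro hy
      rcases S5436.mem_zpowers_two hord y hy with h | h
      · rw [h]
        exact ⟨Subgroup.one_mem _, fun q _ => by rw [mul_one, one_mul]⟩
      · rw [h]
        exact ⟨hzsmem, hzscomm⟩
  have hL2 : Subgroup.centralizer ((S.map (QuotientGroup.mk' N) : Subgroup (Γ ⧸ N)) : Set (Γ ⧸ N)) =
      (Subgroup.center ↥(S.map (QuotientGroup.mk' N))).map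
        (S.map (QuotientGroup.mk' N)).subtype := by
    ext y
    constructor
    · intro hy
      rw [Subgroup.mem_centralizer_iff] at hy
      obtain ⟨x, rfl⟩ := QuotientGroup.mk'_surjective N y
      have h1 : ∀ s ∈ S, x * s * x⁻¹ * s⁻¹ ∈ N := by
        intro s hs
        rw [← hker, map_mul, map_mul, map_mul, map_inv, map_inv]
        have h2 := hy _ (Subgroup.mem_map_of_mem (QuotientGroup.mk' N) hs)
        rw [← h2]
        group
      rw [hZeq]
      rcases hq4 x h1 with h | h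
      · rw [(hker x).mpr h]; exact Subgroup.one_mem _
      · have h3 : (QuotientGroup.mk' N) x * (QuotientGroup.mk' N) zΓ = 1 := by
          rw [← map_mul]; exact (hker _).mpr h
        have h4 : (QuotientGroup.mk' N) x = (QuotientGroup.mk' N) zΓ := by
          rw [← hzsinv]; exact eq_inv_of_mul_eq_one_left h3
        rw [h4]; exact Subgroup.mem_zpowers _
    · intro hy
      rw [S5428.mem_center_map] at hy
      rw [Subgroup.mem_centralizer_iff]
      intro t ht
      exact hy.2 t ht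
  have hL3 : Subgroup.centralizer (((Subgroup.center ↥(S.map (QuotientGroup.mk' N))).map
      (S.map (QuotientGroup.mk' N)).subtype : Subgroup (Γ ⧸ N)) : Set (Γ ⧸ N)) ≤
      Subgroup.normalizer ((S.map (QuotientGroup.mk' N) : Subgroup (Γ ⧸ N)) : Set (Γ ⧸ N)) := by
    apply Cfsg.Agent.Lib.Helper1.le_normalizer_of_forall_conj_mem
    intro y hy t ht
    rw [Subgroup.mem_centralizer_iff] at hy
    obtain ⟨x, rfl⟩ := QuotientGroup.mk'_surjective N y
    obtain ⟨s, hs, rfl⟩ := ht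
    have h1 : (QuotientGroup.mk' N) zΓ ∈ (Subgroup.center ↥(S.map (QuotientGroup.mk' N))).map
        (S.map (QuotientGroup.mk' N)).subtype := by
      rw [hZeq]; exact Subgroup.mem_zpowers _
    have h2 := hy _ h1
    have h3 : x * zΓ * x⁻¹ * zΓ⁻¹ ∈ N := by
      rw [← hker, map_mul, map_mul, map_mul, map_inv, map_inv, ← h2]
      group
    have h4 := hq5 x h3 s hs
    have h5 : (QuotientGroup.mk' N) x * (QuotientGroup.mk' N) s * ((QuotientGroup.mk' N) x)⁻¹ =
        (QuotientGroup.mk' N) (x * s * x⁻¹) := by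
      rw [map_mul, map_mul, map_inv]
    rw [h5]
    exact h4
  apply S5436.large_of_conj (S.map (QuotientGroup.mk' N)) ((QuotientGroup.mk' N) zΓ) hord hES'
    hZeq hL2 hL3 n hn2 hcard' ((QuotientGroup.mk' N) g₀)
  · have h5 : (QuotientGroup.mk' N) g₀ * (QuotientGroup.mk' N) zΓ * ((QuotientGroup.mk' N) g₀)⁻¹ =
        (QuotientGroup.mk' N) (g₀ * zΓ * g₀⁻¹) := by
      rw [map_mul, map_mul, map_inv]
    rw [h5]
    exact Subgroup.mem_map_of_mem _ hg₀S
  · intro h
    have h5 : (QuotientGroup.mk' N) (g₀ * zΓ * g₀⁻¹) = (QuotientGroup.mk' N) zΓ := by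
      rw [map_mul, map_mul, map_inv]; exact h
    have h6 := heq _ _ h5
    have h7 := hSN _ (S.mul_mem (S.inv_mem hg₀S) hzS) h6
    exact hg₀z (inv_mul_eq_one.mp h7)

end Quot

section General

variable {G : Type*} [Group G] [Finite G]

theorem comm_or_anti {Q : Subgroup G} {z : G} (hS : S5426.LES Q z) {x y : G} (hx : x ∈ Q)
    (hy : y ∈ Q) : x * y = y * x ∨ x * y = z * (y * x) := by
  rcases hS.comm x hx y hy with h | h
  · left
    calc x * y = (x * y * x⁻¹ * y⁻¹) * (y * x) := by group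
      _ = y * x := by rw [h, one_mul]
  · right
    calc x * y = (x * y * x⁻¹ * y⁻¹) * (y * x) := by group
      _ = z * (y * x) := by rw [h]

theorem anti_mul_anti {Q : Subgroup G} {z : G} (hS : S5426.LES Q z) {q q' u : G} (hq : q ∈ Q)
    (h1 : q * u = z * (u * q)) (h2 : q' * u = z * (u * q')) :
    (q * q') * u = u * (q * q') := by
  have hzq : q * z = z * q := hS.z_comm q hq
  calc (q * q') * u = q * (q' * u) := by group
    _ = q * (z * (u * q')) := by rw [h2]
    _ = (q * z) * (u * q') := by group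
    _ = (z * q) * (u * q') := by rw [hzq]
    _ = z * (q * u) * q' := by group
    _ = z * (z * (u * q)) * q' := by rw [h1]
    _ = (z * z) * (u * (q * q')) := by group
    _ = u * (q * q') := by rw [hS.z_sq, one_mul]

omit [Finite G] in
theorem comm_of_mul_comm {q q₀ v : G} (h1 : (q * q₀) * v = v * (q * q₀)) (h2 : q₀ * v = v * q₀) :
    q * v = v * q := by
  have c1 : Commute (q * q₀) v := h1
  have c2 : Commute q₀ v := h2
  have c3 : Commute ((q * q₀) * q₀⁻¹) v := c1.mul_left c2.inv_left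
  rw [mul_inv_cancel_right] at c3
  exact c3.eq

/-- in an extraspecial 2-group, if `v` is outside `⟨u⟩Z` then some element centralizes `u` but
not `v` -/
theorem pick (Q : Subgroup G) (z : G) (hS : S5426.LES Q z) (u v : G) (hu : u ∈ Q) (hv : v ∈ Q)
    (hu2 : u * u = 1) (h1 : v ≠ 1) (h2 : v ≠ z) (h3 : v ≠ u) (h4 : v ≠ u * z) :
    ∃ y ∈ Q, y * u = u * y ∧ y * v ≠ v * y := by
  by_contra hcon
  push Not at hcon
  have hvnc : ∃ q ∈ Q, q * v ≠ v * q := by
    by_contra h
    push Not at h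
    rcases hS.cent v h with h' | h'
    · exact h1 h'
    · exact h2 h'
  have hunc : ∃ q₀ ∈ Q, q₀ * u ≠ u * q₀ := by
    by_contra h
    push Not at h
    obtain ⟨q, hq, hqv⟩ := hvnc
    exact hqv (hcon q hq (h q hq))
  obtain ⟨q₀, hq₀, hq₀u⟩ := hunc
  have hq₀u' : q₀ * u = z * (u * q₀) := (comm_or_anti hS hq₀ hu).resolve_left hq₀u
  have hq₀v : q₀ * v ≠ v * q₀ := by
    intro hc
    obtain ⟨q, hq, hqv⟩ := hvnc
    apply hqv
    rcases comm_or_anti hS hq hu with h | h
    · exact hcon q hq h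
    · have h5 : (q * q₀) * u = u * (q * q₀) := anti_mul_anti hS hq h hq₀u'
      have h6 := hcon (q * q₀) (Q.mul_mem hq hq₀) h5
      exact comm_of_mul_comm h6 hc
  have hcentral : ∀ q ∈ Q, q * (u * v) = (u * v) * q := by
    intro q hq
    rcases comm_or_anti hS hq hu with h | h
    · have h' := hcon q hq h
      calc q * (u * v) = (q * u) * v := by group
        _ = (u * q) * v := by rw [h]
        _ = u * (q * v) := by group
        _ = u * (v * q) := by rw [h']
        _ = (u * v) * q := by group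
    · have h5 : (q * q₀) * u = u * (q * q₀) := anti_mul_anti hS hq h hq₀u'
      have h6 := hcon (q * q₀) (Q.mul_mem hq hq₀) h5
      have h7 : q * v = z * (v * q) := by
        rcases comm_or_anti hS hq hv with h' | h'
        · exfalso
          apply hq₀v
          have c1 : Commute (q * q₀) v := h6
          have c2 : Commute q v := h'
          have c3 : Commute (q⁻¹ * (q * q₀)) v := c2.inv_left.mul_left c1
          rw [inv_mul_cancel_left] at c3
          exact c3.eq
        · exact h'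
      have hzu : u * z = z * u := hS.z_comm u hu
      calc q * (u * v) = (q * u) * v := by group
        _ = (z * (u * q)) * v := by rw [h]
        _ = z * u * (q * v) := by group
        _ = z * u * (z * (v * q)) := by rw [h7]
        _ = z * (u * z) * (v * q) := by group
        _ = z * (z * u) * (v * q) := by rw [hzu]
        _ = (z * z) * (u * v * q) := by group
        _ = (u * v) * q := by rw [hS.z_sq, one_mul]
  rcases hS.cent (u * v) hcentral with h | h
  · apply h3
    calc v = (u * u) * v := by rw [hu2, one_mul]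
      _ = u * (u * v) := by group
      _ = u := by rw [h, mul_one]
  · apply h4
    calc v = (u * u) * v := by rw [hu2, one_mul]
      _ = u * (u * v) := by group
      _ = u * z := by rw [h]

omit [Finite G] in
theorem card_le_two_mul [Finite G] (P₁ P₂ : Subgroup G) (u : G) (hle : P₁ ≤ P₂) (hu : u ∈ P₂)
    (h : ∀ x ∈ P₂, x ∈ P₁ ∨ x * u ∈ P₁) : Nat.card ↥P₂ ≤ 2 * Nat.card ↥P₁ := by
  classical
  let f : ↥P₁ × Bool → ↥P₂ := fun p =>
    ⟨(p.1 : G) * (if p.2 then u⁻¹ else 1), by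
      apply P₂.mul_mem (hle p.1.2)
      split_ifs
      · exact P₂.inv_mem hu
      · exact P₂.one_mem⟩
  have hf : Function.Surjective f := by
    rintro ⟨x, hx⟩
    rcases h x hx with h1 | h1
    · refine ⟨(⟨x, h1⟩, false), ?_⟩
      apply Subtype.ext
      simp [f]
    · refine ⟨(⟨x * u, h1⟩, true), ?_⟩
      apply Subtype.ext
      simp [f]
  have h1 := Nat.card_le_card_of_surjective f hf
  rw [Nat.card_prod, Nat.card_eq_fintype_card (α := Bool), Fintype.card_bool, mul_comm] at h1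
  exact h1

/-- `z` lies in the conjugate `Q^g` when `g z g⁻¹` lies in `Q` outside the centre -/
theorem z_mem_conj (Q : Subgroup G) (z : G) (hz : orderOf z = 2) (hQ : Cfsg.IsExtraspecial 2 ↥Q)
    (hZeq : (Subgroup.center ↥Q).map Q.subtype = Subgroup.zpowers z)
    (hL2 : Subgroup.centralizer (Q : Set G) = (Subgroup.center ↥Q).map Q.subtype)
    (hL3 : Subgroup.centralizer (((Subgroup.center ↥Q).map Q.subtype : Subgroup G) : Set G) ≤
      Subgroup.normalizer (Q : Set G))
    (n : ℕ) (hn2 : 2 ≤ n) (hncard : Nat.card ↥Q = 2 ^ (2 * n + 1)) (g : G)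
    (haQ : g * z * g⁻¹ ∈ Q) (hgZ : g * z * g⁻¹ ∉ (Subgroup.center ↥Q).map Q.subtype) :
    g⁻¹ * z * g ∈ Q := by
  have hg : g ∉ Subgroup.normalizer ((((Subgroup.center ↥Q).map Q.subtype) : Subgroup G) : Set G) := by
    intro h
    apply hgZ
    have hzZ : z ∈ (Subgroup.center ↥Q).map Q.subtype := by
      rw [hZeq]; exact Subgroup.mem_zpowers z
    exact (Subgroup.mem_normalizer_iff.mp h z).mp hzZ
  have hZg : (((Subgroup.center ↥Q).map Q.subtype)).map (MulAut.conj g).toMonoidHom ≤ Q := by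
    rintro y ⟨c, hc, rfl⟩
    rw [hZeq] at hc
    have hval : (MulAut.conj g).toMonoidHom c = g * c * g⁻¹ := by
      show (MulAut.conj g) c = g * c * g⁻¹
      rw [MulAut.conj_apply]
    rw [hval]
    rcases S5436.mem_zpowers_two hz c hc with h | h
    · rw [h]
      have : g * 1 * g⁻¹ = 1 := by group
      rw [this]; exact Q.one_mem
    · rw [h]; exact haQ
  have h1 := (S5422.result Q hQ hL2 hL3 n hn2 hncard g hg hZg).1
  have hzZ : z ∈ (Subgroup.center ↥Q).map Q.subtype := by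
    rw [hZeq]; exact Subgroup.mem_zpowers z
  obtain ⟨q, hq, hqz⟩ := h1 hzZ
  have hval : (MulAut.conj g).toMonoidHom q = g * q * g⁻¹ := by
    show (MulAut.conj g) q = g * q * g⁻¹
    rw [MulAut.conj_apply]
  rw [hval] at hqz
  have : g⁻¹ * z * g = q := by rw [← hqz]; group
  rw [this]; exact hq

end General

/-- Let z be an involution of the finite group G with centralizer C whose generalized Fitting subgroup Q is extraspecial of width at least 3 (order 2^(2w+1), w ≥ 3); let g be an element of G with g z g⁻¹ in Q but outside the centre Z of Q, and t an involution lying in both Q and g Q g⁻¹ that is not conjugate to z; write P for the centralizer of t in Q and suppose that the elements of C acting trivially by conjugation on P modulo the subgroup generated by t and z are exactly the elements of Q. Then the image of P in the centralizer of t modulo the subgroup generated by t is a large extraspecial 2-subgroup there, and g z g⁻¹ is conjugate to z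 inside the subgroup generated by P and the centralizer of t in g Q g⁻¹. -/
theorem result {G : Type*} [Group G] [Finite G] (z : G) (hz : orderOf z = 2) (Q : Subgroup G) (hQC : Q ≤ Subgroup.centralizer ({z} : Set G)) (hF : (Cfsg.generalizedFittingSubgroup ↥(Subgroup.centralizer ({z} : Set G))).map (Subgroup.centralizer ({z} : Set G)).subtype = Q) (hQ : Cfsg.IsExtraspecial 2 ↥Q) (w : ℕ) (hw : 3 ≤ w) (hcard : Nat.card ↥Q = 2 ^ (2 * w + 1)) (g : G) (hgQ : g * z * g⁻¹ ∈ Q) (hgZ : g * z * g⁻¹ ∉ ((Subgroup.center ↥Q).map Q.subtype)) (t : G) (ht : orderOf t = 2) (htQ : t ∈ Q ⊓ (Q).map (MulAut.conj g).toMonoidHom) (htz : ¬ IsConj z t) (P : Subgroup G) (hP : P = Q ⊓ Subgroup.centralizer ({t} : Set G)) (hCP : ∀ c ∈ Subgroup.centralizer ({z} : Set G), (∀ x ∈ P, ∃ y ∈ Subgroup.closure ({t, z} : Set G), c * x * c⁻¹ = x * y) ↔ c ∈ Q) [hn : ((Subgroup.zpowers t).subgroupOf (Subgroup.centralizer ({t} : Set G))).Normal] : Cfsg.IsLargeExtraspecial ((P.subgroupOf (Subgroup.centralizer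 ({t} : Set G))).map (QuotientGroup.mk' ((Subgroup.zpowers t).subgroupOf (Subgroup.centralizer ({t} : Set G))))) ∧ ∃ x ∈ P ⊔ ((Q).map (MulAut.conj g).toMonoidHom ⊓ Subgroup.centralizer ({t} : Set G)), x * (g * z * g⁻¹) * x⁻¹ = z := by
  haveI : Fact (Nat.Prime 2) := ⟨Nat.prime_two⟩
  obtain ⟨hzQ, hZeq, hL2, hL3, -, -⟩ := S5436.setup z hz _ rfl Q hF hQ
  have haz : g * z * g⁻¹ ≠ z := by
    intro h
    apply hgZ
    rw [hZeq, h]
    exact Subgroup.mem_zpowers z
  have hw2 : 2 ≤ w := by omega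
  have hLarge : Cfsg.IsLargeExtraspecial Q :=
    S5436.large_of_conj Q z hz hQ hZeq hL2 hL3 w hw2 hcard g hgQ haz
  have hS : S5426.LES Q z := S5426.les_of_large Q hLarge z hZeq
  have hzg : g⁻¹ * z * g ∈ Q := z_mem_conj Q z hz hQ hZeq hL2 hL3 w hw2 hcard g hgQ hgZ
  -- basic facts on `t`
  obtain ⟨htQ1, htQ2⟩ := Subgroup.mem_inf.mp htQ
  have ht2 : t * t = 1 := by
    have h := pow_orderOf_eq_one t
    rwa [ht, pow_two] at h
  have ht1 : t ≠ 1 := by
    intro h
    rw [h, orderOf_one] at ht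
    norm_num at ht
  have htnez : t ≠ z := by
    intro h
    apply htz
    rw [h]
  obtain ⟨qt, hqtQ, hqt⟩ := htQ2
  have hqt' : g * qt * g⁻¹ = t := by
    rw [← hqt]
    show _ = (MulAut.conj g) qt
    rw [MulAut.conj_apply]
  have hzt : t * z = z * t := hS.z_comm t htQ1
  have haa : (g * z * g⁻¹) * (g * z * g⁻¹) = 1 := by
    calc (g * z * g⁻¹) * (g * z * g⁻¹) = g * (z * z) * g⁻¹ := by group
      _ = 1 := by rw [hS.z_sq]; group
  have ha1 : g * z * g⁻¹ ≠ 1 := by
    intro h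
    apply hS.z_ne
    have : z = g⁻¹ * (g * z * g⁻¹) * g := by group
    rw [this, h]; group
  have hat : (g * z * g⁻¹) * t = t * (g * z * g⁻¹) := by
    have h := hS.z_comm qt hqtQ
    rw [← hqt']
    calc (g * z * g⁻¹) * (g * qt * g⁻¹) = g * (z * qt) * g⁻¹ := by group
      _ = g * (qt * z) * g⁻¹ := by rw [h]
      _ = (g * qt * g⁻¹) * (g * z * g⁻¹) := by group
  have haz_comm : (g * z * g⁻¹) * z = z * (g * z * g⁻¹) := hS.z_comm _ hgQ
  -- `t` is not central
  have hd₀ : ∃ d₀ ∈ Q, d₀ * t ≠ t * d₀ := by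
    by_contra h
    push Not at h
    rcases hS.cent t h with h' | h'
    · exact ht1 h'
    · exact htnez h'
  obtain ⟨d₀, hd₀Q, hd₀t⟩ := hd₀
  have hd₀t' : d₀ * t = z * (t * d₀) := (comm_or_anti hS hd₀Q htQ1).resolve_left hd₀t
  have hconj_tz : d₀ * t * d₀⁻¹ = z * t := by
    calc d₀ * t * d₀⁻¹ = (z * (t * d₀)) * d₀⁻¹ := by rw [← hd₀t']
      _ = z * t := by group
  have hnc_t : ∀ x : G, x * z * x⁻¹ ≠ t := fun x h => htz (isConj_iff.mpr ⟨x, h⟩)
  have hnc_tz : ∀ x : G, x * z * x⁻¹ ≠ t * z := by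
    intro x h
    apply htz
    rw [isConj_iff]
    refine ⟨d₀⁻¹ * x, ?_⟩
    calc d₀⁻¹ * x * z * (d₀⁻¹ * x)⁻¹ = d₀⁻¹ * (x * z * x⁻¹) * d₀ := by group
      _ = d₀⁻¹ * (t * z) * d₀ := by rw [h]
      _ = d₀⁻¹ * (z * t) * d₀ := by rw [hzt]
      _ = d₀⁻¹ * (d₀ * t * d₀⁻¹) * d₀ := by rw [hconj_tz]
      _ = t := by group
  -- choice of `d`
  have htne_a : t ≠ g * z * g⁻¹ := fun h => hnc_t g h.symm
  have htne_az : t ≠ (g * z * g⁻¹) * z := by
    intro h
    apply hnc_tz g
    calc g * z * g⁻¹ = (g * z * g⁻¹) * (z * z) := by rw [hS.z_sq, mul_one]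
      _ = ((g * z * g⁻¹) * z) * z := by group
      _ = t * z := by rw [← h]
  obtain ⟨d, hdQ, hda, hdt⟩ := pick Q z hS (g * z * g⁻¹) t hgQ htQ1 haa ht1 htnez htne_a htne_az
  have hdt' : d * t = z * (t * d) := (comm_or_anti hS hdQ htQ1).resolve_left hdt
  have htd' : t * d = z * (d * t) :=
    (comm_or_anti hS htQ1 hdQ).resolve_left (fun h => hdt h.symm)
  -- the complement `Q₁`
  have hQ₁mem : ∀ x : G, x ∈ (Q ⊓ Subgroup.centralizer ({t} : Set G)) ⊓
      Subgroup.centralizer ({d} : Set G) ↔ (x ∈ Q ∧ x * t = t * x) ∧ x * d = d * x := by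
    intro x
    rw [Subgroup.mem_inf, Subgroup.mem_inf, S5436.mem_cent_singleton, S5436.mem_cent_singleton]
  have hP_dec : ∀ x ∈ Q, x * t = t * x →
      x ∈ (Q ⊓ Subgroup.centralizer ({t} : Set G)) ⊓ Subgroup.centralizer ({d} : Set G) ∨
      x * t ∈ (Q ⊓ Subgroup.centralizer ({t} : Set G)) ⊓ Subgroup.centralizer ({d} : Set G) := by
    intro x hx hxt
    rcases comm_or_anti hS hx hdQ with h | h
    · left
      exact (hQ₁mem x).mpr ⟨⟨hx, hxt⟩, h⟩
    · right
      refine (hQ₁mem _).mpr ⟨⟨Q.mul_mem hx htQ1, ?_⟩, anti_mul_anti hS hx h htd'⟩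
      calc (x * t) * t = (t * x) * t := by rw [hxt]
        _ = t * (x * t) := by group
  have hQ_dec : ∀ x ∈ Q, x * t = t * x ∨ (x * d) * t = t * (x * d) := by
    intro x hx
    rcases comm_or_anti hS hx htQ1 with h | h
    · left; exact h
    · right; exact anti_mul_anti hS hx h hdt'
  have hcen₁ : ∀ r ∈ (Q ⊓ Subgroup.centralizer ({t} : Set G)) ⊓ Subgroup.centralizer ({d} : Set G),
      (∀ y ∈ (Q ⊓ Subgroup.centralizer ({t} : Set G)) ⊓ Subgroup.centralizer ({d} : Set G),
        r * y = y * r) → r = 1 ∨ r = z := by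
    intro r hr hc
    obtain ⟨⟨hrQ, hrt⟩, hrd⟩ := (hQ₁mem r).mp hr
    have hP_comm : ∀ p ∈ Q, p * t = t * p → p * r = r * p := by
      intro p hp hpt
      rcases hP_dec p hp hpt with h | h
      · exact (hc p h).symm
      · have h1 : (p * t) * r = r * (p * t) := (hc _ h).symm
        have h2 : t * r = r * t := hrt.symm
        exact comm_of_mul_comm h1 h2
    apply hS.cent r
    intro q hq
    rcases hQ_dec q hq with h | h
    · exact hP_comm q hq h
    · have h1 : (q * d) * r = r * (q * d) := hP_comm (q * d) (Q.mul_mem hq hdQ) h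
      have h2 : d * r = r * d := hrd.symm
      exact comm_of_mul_comm h1 h2
  have hzQ₁ : z ∈ (Q ⊓ Subgroup.centralizer ({t} : Set G)) ⊓ Subgroup.centralizer ({d} : Set G) :=
    (hQ₁mem z).mpr ⟨⟨hzQ, hzt.symm⟩, (hS.z_comm d hdQ).symm⟩
  have haQ₁ : g * z * g⁻¹ ∈ (Q ⊓ Subgroup.centralizer ({t} : Set G)) ⊓
      Subgroup.centralizer ({d} : Set G) :=
    (hQ₁mem _).mpr ⟨⟨hgQ, hat⟩, hda.symm⟩
  have htQ₁ : t ∉ (Q ⊓ Subgroup.centralizer ({t} : Set G)) ⊓ Subgroup.centralizer ({d} : Set G) := by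
    intro h
    exact hdt ((hQ₁mem t).mp h).2.symm
  have hQ₁Q : (Q ⊓ Subgroup.centralizer ({t} : Set G)) ⊓ Subgroup.centralizer ({d} : Set G) ≤ Q :=
    inf_le_left.trans inf_le_left
  have hexy : ∃ y ∈ (Q ⊓ Subgroup.centralizer ({t} : Set G)) ⊓ Subgroup.centralizer ({d} : Set G),
      (g * z * g⁻¹) * y ≠ y * (g * z * g⁻¹) := by
    by_contra hcon
    push Not at hcon
    rcases hcen₁ _ haQ₁ hcon with h | h
    · exact ha1 h
    · exact haz h
  obtain ⟨y, hyQ₁, hay⟩ := hexy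
  have hRes₁ : Cfsg.IsExtraspecial 2
      ↥((Q ⊓ Subgroup.centralizer ({t} : Set G)) ⊓ Subgroup.centralizer ({d} : Set G)) :=
    S5428.es_sub Q z hS _ hQ₁Q hzQ₁ hcen₁ _ y haQ₁ hyQ₁ hay
  -- the order of `Q₁`
  have h32 : 32 ≤ Nat.card
      ↥((Q ⊓ Subgroup.centralizer ({t} : Set G)) ⊓ Subgroup.centralizer ({d} : Set G)) := by
    have hc1 : Nat.card ↥Q ≤ 2 * Nat.card ↥(Q ⊓ Subgroup.centralizer ({t} : Set G)) := by
      apply card_le_two_mul _ Q d inf_le_left hdQ
      intro x hx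
      rcases hQ_dec x hx with h | h
      · left
        exact Subgroup.mem_inf.mpr ⟨hx, (S5436.mem_cent_singleton t x).mpr h⟩
      · right
        exact Subgroup.mem_inf.mpr ⟨Q.mul_mem hx hdQ, (S5436.mem_cent_singleton t _).mpr h⟩
    have hc2 : Nat.card ↥(Q ⊓ Subgroup.centralizer ({t} : Set G)) ≤ 2 * Nat.card
        ↥((Q ⊓ Subgroup.centralizer ({t} : Set G)) ⊓ Subgroup.centralizer ({d} : Set G)) := by
      apply card_le_two_mul _ (Q ⊓ Subgroup.centralizer ({t} : Set G)) t inf_le_left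
      · exact Subgroup.mem_inf.mpr ⟨htQ1, (S5436.mem_cent_singleton t t).mpr rfl⟩
      · intro x hx
        obtain ⟨hxQ, hxt⟩ := Subgroup.mem_inf.mp hx
        rw [S5436.mem_cent_singleton] at hxt
        exact hP_dec x hxQ hxt
    have h128 : 128 ≤ Nat.card ↥Q := by
      rw [hcard]
      calc 128 = 2 ^ 7 := by norm_num
        _ ≤ 2 ^ (2 * w + 1) := Nat.pow_le_pow_right (by norm_num) (by omega)
    omega
  -- fusion
  have hane_t : g * z * g⁻¹ ≠ t := hnc_t g
  have hane_tz : g * z * g⁻¹ ≠ t * z := hnc_tz g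
  obtain ⟨r, hrQ, hrt, hra⟩ := pick Q z hS t (g * z * g⁻¹) htQ1 hgQ ht2 ha1 haz hane_t hane_tz
  have hra' : r * (g * z * g⁻¹) = z * ((g * z * g⁻¹) * r) :=
    (comm_or_anti hS hrQ hgQ).resolve_left hra
  have hr : r * (g * z * g⁻¹) * r⁻¹ = z * (g * z * g⁻¹) := by
    calc r * (g * z * g⁻¹) * r⁻¹ = (z * ((g * z * g⁻¹) * r)) * r⁻¹ := by rw [← hra']
      _ = z * (g * z * g⁻¹) := by group
  -- the conjugate situation: `t' = qt`, `z' = g⁻¹ z g`
  have hqt2 : qt * qt = 1 := by
    have h1 : qt = g⁻¹ * t * g := by rw [← hqt']; group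
    rw [h1]
    calc (g⁻¹ * t * g) * (g⁻¹ * t * g) = g⁻¹ * (t * t) * g := by group
      _ = 1 := by rw [ht2]; group
  have hz'1 : g⁻¹ * z * g ≠ 1 := by
    intro h
    apply hS.z_ne
    have : z = g * (g⁻¹ * z * g) * g⁻¹ := by group
    rw [this, h]; group
  have hz'z : g⁻¹ * z * g ≠ z := by
    intro h
    apply haz
    have : z = g * (g⁻¹ * z * g) * g⁻¹ := by group
    rw [h] at this
    exact this.symm
  have hz'qt : g⁻¹ * z * g ≠ qt := by
    intro h
    apply htnez
    rw [← hqt', ← h]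
    group
  have hz'qtz : g⁻¹ * z * g ≠ qt * z := by
    intro h
    apply hane_tz
    -- z = g (qt z) g⁻¹ = t a, hence a = t z
    have h1 : z = t * (g * z * g⁻¹) := by
      calc z = g * (g⁻¹ * z * g) * g⁻¹ := by group
        _ = g * (qt * z) * g⁻¹ := by rw [h]
        _ = (g * qt * g⁻¹) * (g * z * g⁻¹) := by group
        _ = t * (g * z * g⁻¹) := by rw [hqt']
    calc g * z * g⁻¹ = (t * t) * (g * z * g⁻¹) := by rw [ht2, one_mul]
      _ = t * (t * (g * z * g⁻¹)) := by group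
      _ = t * z := by rw [← h1]
  obtain ⟨y', hy'Q, hy't, hy'z⟩ :=
    pick Q z hS qt (g⁻¹ * z * g) hqtQ hzg hqt2 hz'1 hz'z hz'qt hz'qtz
  have hy'z' : y' * (g⁻¹ * z * g) = z * ((g⁻¹ * z * g) * y') :=
    (comm_or_anti hS hy'Q hzg).resolve_left hy'z
  have hy' : y' * (g⁻¹ * z * g) * y'⁻¹ = z * (g⁻¹ * z * g) := by
    calc y' * (g⁻¹ * z * g) * y'⁻¹ = (z * ((g⁻¹ * z * g) * y')) * y'⁻¹ := by rw [← hy'z']
      _ = z * (g⁻¹ * z * g) := by group
  have hy'zc : y' * z * y'⁻¹ = z := by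
    have h := hS.z_comm y' hy'Q
    calc y' * z * y'⁻¹ = (z * y') * y'⁻¹ := by rw [h]
      _ = z := by group
  have hr'mem : g * y' * g⁻¹ ∈ Q.map (MulAut.conj g).toMonoidHom ⊓
      Subgroup.centralizer ({t} : Set G) := by
    refine Subgroup.mem_inf.mpr ⟨⟨y', hy'Q, ?_⟩, ?_⟩
    · show (MulAut.conj g) y' = g * y' * g⁻¹
      rw [MulAut.conj_apply]
    · rw [S5436.mem_cent_singleton, ← hqt']
      calc (g * y' * g⁻¹) * (g * qt * g⁻¹) = g * (y' * qt) * g⁻¹ := by group
        _ = g * (qt * y') * g⁻¹ := by rw [hy't]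
        _ = (g * qt * g⁻¹) * (g * y' * g⁻¹) := by group
  have hr'z : (g * y' * g⁻¹) * z * (g * y' * g⁻¹)⁻¹ = (g * z * g⁻¹) * z := by
    calc (g * y' * g⁻¹) * z * (g * y' * g⁻¹)⁻¹ = g * (y' * (g⁻¹ * z * g) * y'⁻¹) * g⁻¹ := by group
      _ = g * (z * (g⁻¹ * z * g)) * g⁻¹ := by rw [hy']
      _ = (g * z * g⁻¹) * z := by group
  have hr'a : (g * y' * g⁻¹) * (g * z * g⁻¹) * (g * y' * g⁻¹)⁻¹ = g * z * g⁻¹ := by
    calc (g * y' * g⁻¹) * (g * z * g⁻¹) * (g * y' * g⁻¹)⁻¹ = g * (y' * z * y'⁻¹) * g⁻¹ := by group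
      _ = g * z * g⁻¹ := by rw [hy'zc]
  have hrP : r ∈ P := by
    rw [hP]
    exact Subgroup.mem_inf.mpr ⟨hrQ, (S5436.mem_cent_singleton t r).mpr hrt⟩
  have hx₀mem : (g * y' * g⁻¹) * r ∈ P ⊔ (Q.map (MulAut.conj g).toMonoidHom ⊓
      Subgroup.centralizer ({t} : Set G)) :=
    Subgroup.mul_mem _ (Subgroup.mem_sup_right hr'mem) (Subgroup.mem_sup_left hrP)
  have hx₀ : (g * y' * g⁻¹) * r * (g * z * g⁻¹) * ((g * y' * g⁻¹) * r)⁻¹ = z := by
    calc (g * y' * g⁻¹) * r * (g * z * g⁻¹) * ((g * y' * g⁻¹) * r)⁻¹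
        = (g * y' * g⁻¹) * (r * (g * z * g⁻¹) * r⁻¹) * (g * y' * g⁻¹)⁻¹ := by group
      _ = (g * y' * g⁻¹) * (z * (g * z * g⁻¹)) * (g * y' * g⁻¹)⁻¹ := by rw [hr]
      _ = ((g * y' * g⁻¹) * z * (g * y' * g⁻¹)⁻¹) *
            ((g * y' * g⁻¹) * (g * z * g⁻¹) * (g * y' * g⁻¹)⁻¹) := by group
      _ = ((g * z * g⁻¹) * z) * (g * z * g⁻¹) := by rw [hr'z, hr'a]
      _ = (z * (g * z * g⁻¹)) * (g * z * g⁻¹) := by rw [haz_comm]
      _ = z * ((g * z * g⁻¹) * (g * z * g⁻¹)) := by group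
      _ = z := by rw [haa, mul_one]
  refine ⟨?_, _, hx₀mem, hx₀⟩
  -- the quotient
  have hQ₁Ct : (Q ⊓ Subgroup.centralizer ({t} : Set G)) ⊓ Subgroup.centralizer ({d} : Set G) ≤
      Subgroup.centralizer ({t} : Set G) := inf_le_left.trans inf_le_right
  have hzCt : z ∈ Subgroup.centralizer ({t} : Set G) :=
    (S5436.mem_cent_singleton t z).mpr hzt.symm
  have htCt : t ∈ Subgroup.centralizer ({t} : Set G) := (S5436.mem_cent_singleton t t).mpr rfl
  have hπt : (QuotientGroup.mk' ((Subgroup.zpowers t).subgroupOf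
      (Subgroup.centralizer ({t} : Set G)))) ⟨t, htCt⟩ = 1 := by
    apply (QuotientGroup.eq_one_iff _).mpr
    exact Subgroup.mem_subgroupOf.mpr (Subgroup.mem_zpowers t)
  have hmapeq : (P.subgroupOf (Subgroup.centralizer ({t} : Set G))).map
      (QuotientGroup.mk' ((Subgroup.zpowers t).subgroupOf (Subgroup.centralizer ({t} : Set G)))) =
      (((Q ⊓ Subgroup.centralizer ({t} : Set G)) ⊓ Subgroup.centralizer ({d} : Set G)).subgroupOf
        (Subgroup.centralizer ({t} : Set G))).map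
      (QuotientGroup.mk' ((Subgroup.zpowers t).subgroupOf (Subgroup.centralizer ({t} : Set G)))) := by
    apply le_antisymm
    · rintro y ⟨p, hp, rfl⟩
      have hp' : (p : G) ∈ P := Subgroup.mem_subgroupOf.mp hp
      rw [hP] at hp'
      obtain ⟨hpQ, hpt⟩ := Subgroup.mem_inf.mp hp'
      rw [S5436.mem_cent_singleton] at hpt
      rcases hP_dec (p : G) hpQ hpt with h | h
      · exact ⟨p, Subgroup.mem_subgroupOf.mpr h, rfl⟩
      · refine ⟨p * ⟨t, htCt⟩, Subgroup.mem_subgroupOf.mpr h, ?_⟩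
        rw [map_mul, hπt, mul_one]
    · apply Subgroup.map_mono
      intro s hs
      rw [Subgroup.mem_subgroupOf] at hs ⊢
      rw [hP]
      exact (inf_le_left : (Q ⊓ Subgroup.centralizer ({t} : Set G)) ⊓
        Subgroup.centralizer ({d} : Set G) ≤ Q ⊓ Subgroup.centralizer ({t} : Set G)) hs
  rw [hmapeq]
  have hx₀Ct : ((g * y' * g⁻¹) * r)⁻¹ ∈ Subgroup.centralizer ({t} : Set G) := by
    apply Subgroup.inv_mem
    have h1 : P ⊔ (Q.map (MulAut.conj g).toMonoidHom ⊓ Subgroup.centralizer ({t} : Set G)) ≤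
        Subgroup.centralizer ({t} : Set G) := by
      apply sup_le
      · rw [hP]; exact inf_le_right
      · exact inf_le_right
    exact h1 hx₀mem
  have hconjx₀ : ((g * y' * g⁻¹) * r)⁻¹ * z * ((g * y' * g⁻¹) * r)⁻¹⁻¹ = g * z * g⁻¹ := by
    calc ((g * y' * g⁻¹) * r)⁻¹ * z * ((g * y' * g⁻¹) * r)⁻¹⁻¹
        = ((g * y' * g⁻¹) * r)⁻¹ * ((g * y' * g⁻¹) * r * (g * z * g⁻¹) * ((g * y' * g⁻¹) * r)⁻¹) *
            ((g * y' * g⁻¹) * r)⁻¹⁻¹ := by rw [hx₀]
      _ = g * z * g⁻¹ := by group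
  -- elements of `C(t)` centralizing `z` modulo `⟨t⟩` centralize `z`
  have hcentz : ∀ x : G, x * t = t * x → (x * z * x⁻¹ * z⁻¹ = 1 ∨ x * z * x⁻¹ * z⁻¹ = t) →
      x * z = z * x := by
    intro x _ h
    rcases h with h | h
    · calc x * z = (x * z * x⁻¹ * z⁻¹) * (z * x) := by group
        _ = z * x := by rw [h, one_mul]
    · exfalso
      apply hnc_tz x
      calc x * z * x⁻¹ = (x * z * x⁻¹ * z⁻¹) * z := by group
        _ = t * z := by rw [h]
  apply quot_large' ((Subgroup.zpowers t).subgroupOf (Subgroup.centralizer ({t} : Set G)))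
    (((Q ⊓ Subgroup.centralizer ({t} : Set G)) ⊓ Subgroup.centralizer ({d} : Set G)).subgroupOf
      (Subgroup.centralizer ({t} : Set G)))
    (⟨z, hzCt⟩ : ↥(Subgroup.centralizer ({t} : Set G)))
    (Subgroup.mem_subgroupOf.mpr hzQ₁)
    (fun h => hS.z_ne (congrArg Subtype.val h)) (Subtype.ext hS.z_sq)
  · -- hSN
    intro s hs hsN
    rw [Subgroup.mem_subgroupOf] at hs hsN
    rcases S5436.mem_zpowers_two ht _ hsN with h | h
    · exact Subtype.ext h
    · exfalso
      rw [h] at hs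
      exact htQ₁ hs
  · -- hES
    exact S5424.isExtraspecial_of_equiv (Subgroup.subgroupOfEquivOfLe hQ₁Ct).symm hRes₁
  · -- h32
    rw [Nat.card_congr (Subgroup.subgroupOfEquivOfLe hQ₁Ct).toEquiv]
    exact h32
  · -- hzc
    intro s hs
    rw [Subgroup.mem_subgroupOf] at hs
    apply Subtype.ext
    show (s : G) * z = z * (s : G)
    exact hS.z_comm _ (hQ₁Q hs)
  · -- hcen
    intro s hs hc
    rw [Subgroup.mem_subgroupOf] at hs
    have h1 : ∀ y ∈ (Q ⊓ Subgroup.centralizer ({t} : Set G)) ⊓ Subgroup.centralizer ({d} : Set G),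
        (s : G) * y = y * (s : G) := by
      intro y hy
      have h2 := hc ⟨y, hQ₁Ct hy⟩ (Subgroup.mem_subgroupOf.mpr hy)
      exact congrArg Subtype.val h2
    rcases hcen₁ _ hs h1 with h | h
    · left; exact Subtype.ext h
    · right; exact Subtype.ext h
  · -- hq4
    intro x hx
    have hxt : (x : G) * t = t * (x : G) := (S5436.mem_cent_singleton t x).mp x.2
    have hxt' : (x : G) * t * (x : G)⁻¹ = t := by
      calc (x : G) * t * (x : G)⁻¹ = (t * (x : G)) * (x : G)⁻¹ := by rw [hxt]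
        _ = t := by group
    have hxs : ∀ s ∈ (Q ⊓ Subgroup.centralizer ({t} : Set G)) ⊓ Subgroup.centralizer ({d} : Set G),
        (x : G) * s * (x : G)⁻¹ * s⁻¹ = 1 ∨ (x : G) * s * (x : G)⁻¹ * s⁻¹ = t := by
      intro s hs
      have h2 := hx ⟨s, hQ₁Ct hs⟩ (Subgroup.mem_subgroupOf.mpr hs)
      rw [Subgroup.mem_subgroupOf] at h2
      exact S5436.mem_zpowers_two ht _ h2
    have hxz : (x : G) * z = z * (x : G) := hcentz (x : G) hxt (hxs z hzQ₁)
    have hxH : (x : G) ∈ Subgroup.centralizer ({z} : Set G) :=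
      (S5436.mem_cent_singleton z x).mpr hxz
    have htcl : t ∈ Subgroup.closure ({t, z} : Set G) := Subgroup.subset_closure (by simp)
    have hxQ : (x : G) ∈ Q := by
      apply (hCP (x : G) hxH).mp
      intro p hp
      rw [hP] at hp
      obtain ⟨hpQ, hpt⟩ := Subgroup.mem_inf.mp hp
      rw [S5436.mem_cent_singleton] at hpt
      rcases hP_dec p hpQ hpt with h | h
      · rcases hxs p h with h' | h'
        · refine ⟨1, Subgroup.one_mem _, ?_⟩
          rw [mul_one]
          calc (x : G) * p * (x : G)⁻¹ = ((x : G) * p * (x : G)⁻¹ * p⁻¹) * p := by group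
            _ = p := by rw [h', one_mul]
        · refine ⟨t, htcl, ?_⟩
          calc (x : G) * p * (x : G)⁻¹ = ((x : G) * p * (x : G)⁻¹ * p⁻¹) * p := by group
            _ = t * p := by rw [h']
            _ = p * t := hpt.symm
      · rcases hxs (p * t) h with h' | h'
        · refine ⟨1, Subgroup.one_mem _, ?_⟩
          rw [mul_one]
          calc (x : G) * p * (x : G)⁻¹
              = ((x : G) * (p * t) * (x : G)⁻¹ * (p * t)⁻¹) * (p * t) * ((x : G) * t * (x : G)⁻¹)⁻¹ := by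
                group
            _ = 1 * (p * t) * t⁻¹ := by rw [h', hxt']
            _ = p := by group
        · refine ⟨t, htcl, ?_⟩
          calc (x : G) * p * (x : G)⁻¹
              = ((x : G) * (p * t) * (x : G)⁻¹ * (p * t)⁻¹) * (p * t) * ((x : G) * t * (x : G)⁻¹)⁻¹ := by
                group
            _ = t * (p * t) * t⁻¹ := by rw [h', hxt']
            _ = t * p := by group
            _ = p * t := hpt.symm
    have hxc : ∀ s ∈ (Q ⊓ Subgroup.centralizer ({t} : Set G)) ⊓ Subgroup.centralizer ({d} : Set G),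
        (x : G) * s = s * (x : G) := by
      intro s hs
      have h1 : (x : G) * s * (x : G)⁻¹ * s⁻¹ = 1 := by
        rcases hS.comm (x : G) hxQ s (hQ₁Q hs) with h | h
        · exact h
        · rcases hxs s hs with h' | h'
          · exact h'
          · exfalso
            rw [h] at h'
            exact htnez h'.symm
      calc (x : G) * s = ((x : G) * s * (x : G)⁻¹ * s⁻¹) * (s * (x : G)) := by group
        _ = s * (x : G) := by rw [h1, one_mul]
    rcases hP_dec (x : G) hxQ hxt with h | h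
    · rcases hcen₁ _ h hxc with h' | h'
      · left
        rw [Subgroup.mem_subgroupOf, h']
        exact Subgroup.one_mem _
      · right
        rw [Subgroup.mem_subgroupOf]
        show (x : G) * z ∈ Subgroup.zpowers t
        rw [h', hS.z_sq]
        exact Subgroup.one_mem _
    · have hc' : ∀ y ∈ (Q ⊓ Subgroup.centralizer ({t} : Set G)) ⊓
          Subgroup.centralizer ({d} : Set G), ((x : G) * t) * y = y * ((x : G) * t) := by
        intro y hy
        have hyt : y * t = t * y := ((hQ₁mem y).mp hy).1.2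
        have hxy := hxc y hy
        calc ((x : G) * t) * y = (x : G) * (t * y) := by group
          _ = (x : G) * (y * t) := by rw [hyt]
          _ = ((x : G) * y) * t := by group
          _ = (y * (x : G)) * t := by rw [hxy]
          _ = y * ((x : G) * t) := by group
      rcases hcen₁ _ h hc' with h' | h'
      · left
        rw [Subgroup.mem_subgroupOf]
        have h5 : (x : G) = t := by
          calc (x : G) = ((x : G) * t) * t := by rw [mul_assoc, ht2, mul_one]
            _ = t := by rw [h', one_mul]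
        rw [h5]
        exact Subgroup.mem_zpowers t
      · right
        rw [Subgroup.mem_subgroupOf]
        show (x : G) * z ∈ Subgroup.zpowers t
        have h5 : (x : G) * z = t := by
          calc (x : G) * z = (((x : G) * t) * t) * z := by rw [mul_assoc ((x : G)) t t, ht2, mul_one]
            _ = (z * t) * z := by rw [h']
            _ = (t * z) * z := by rw [hzt]
            _ = t * (z * z) := by group
            _ = t := by rw [hS.z_sq, mul_one]
        rw [h5]
        exact Subgroup.mem_zpowers t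
  · -- hq5
    intro x hx s hs
    rw [Subgroup.mem_subgroupOf] at hx hs
    have hxt : (x : G) * t = t * (x : G) := (S5436.mem_cent_singleton t x).mp x.2
    have hx' : (x : G) * z * (x : G)⁻¹ * z⁻¹ ∈ Subgroup.zpowers t := hx
    have hxz : (x : G) * z = z * (x : G) :=
      hcentz (x : G) hxt (S5436.mem_zpowers_two ht _ hx')
    obtain ⟨⟨hsQ, hst⟩, -⟩ := (hQ₁mem _).mp hs
    have hcQ : (x : G) * (s : G) * (x : G)⁻¹ ∈ Q := hS.norm (x : G) hxz _ hsQ
    have hct : ((x : G) * (s : G) * (x : G)⁻¹) * t = t * ((x : G) * (s : G) * (x : G)⁻¹) := by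
      have c1 : Commute (x : G) t := hxt
      have c2 : Commute (s : G) t := hst
      exact ((c1.mul_left c2).mul_left c1.inv_left).eq
    rcases hP_dec _ hcQ hct with h | h
    · exact ⟨x * s * x⁻¹, Subgroup.mem_subgroupOf.mpr h, rfl⟩
    · refine ⟨x * s * x⁻¹ * ⟨t, htCt⟩, Subgroup.mem_subgroupOf.mpr h, ?_⟩
      rw [map_mul (QuotientGroup.mk' _) (x * s * x⁻¹) ⟨t, htCt⟩, hπt, mul_one]
  · -- g₀ membership
    show (⟨((g * y' * g⁻¹) * r)⁻¹, hx₀Ct⟩ : ↥(Subgroup.centralizer ({t} : Set G))) * ⟨z, hzCt⟩ *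
      (⟨((g * y' * g⁻¹) * r)⁻¹, hx₀Ct⟩ : ↥(Subgroup.centralizer ({t} : Set G)))⁻¹ ∈ _
    rw [Subgroup.mem_subgroupOf]
    show ((g * y' * g⁻¹) * r)⁻¹ * z * ((g * y' * g⁻¹) * r)⁻¹⁻¹ ∈ _
    rw [hconjx₀]
    exact haQ₁
  · -- g₀ moves z
    intro h
    have h1 := congrArg Subtype.val h
    have h2 : ((g * y' * g⁻¹) * r)⁻¹ * z * ((g * y' * g⁻¹) * r)⁻¹⁻¹ = z := h1
    rw [hconjx₀] at h2
    exact haz h2

end Cfsg.Agent.S5429
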