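import Cfsg.Statements.S5433

set_option autoImplicit false
open Cfsg

namespace Cfsg.Agent.S5433

theorem result {G : Type*} [Group G] [Finite G] (Q : Subgroup G) (hQ : Cfsg.IsLargeExtraspecial Q) (L : Subgroup G) [L.Normal] (hQL : Q ≤ L) : L ⊔ Subgroup.normalizer (Q : Set G) = ⊤ := by
  obtain ⟨⟨⟨hp, -, -⟩, hcard⟩, hcent, hnorm, -⟩ := hQ
  have : Fact (Nat.Prime 2) := ⟨Nat.prime_two⟩
  -- Q as a subgroup of L is a 2-group
  have hpQL : IsPGroup 2 (Q.subgroupOf L) := by
    have e : (Q.subgroupOf L) ≃* Q := Subgroup.subgroupOfEquivOfLe hQL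
    exact IsPGroup.of_equiv hp e.symm
  obtain ⟨P, hP⟩ := hpQL.exists_le_sylow
  have hfr := Sylow.normalizer_sup_eq_top P
  set P0 : Subgroup G := (P : Subgroup L).map L.subtype with hP0
  have hQP0 : Q ≤ P0 := by
    intro q hq
    refine ⟨⟨q, hQL hq⟩, hP ?_, rfl⟩
    exact hq
  -- P0 is a nontrivial 2-group
  have hP0p : IsPGroup 2 P0 := by
    have := P.isPGroup'
    exact this.map L.subtype
  set ZQ : Subgroup G := (Subgroup.center Q).map Q.subtype with hZQ
  have hZQcard : Nat.card ZQ = 2 := by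
    rw [hZQ, Subgroup.card_map_of_injective Q.subtype_injective, hcard]
  -- Q is nontrivial
  have : Nontrivial P0 := by
    have h2 : Nontrivial (Subgroup.center Q) := by
      have : Finite (Subgroup.center Q) := inferInstance
      rw [← Finite.one_lt_card_iff_nontrivial, hcard]
      norm_num
    obtain ⟨a, b, hab⟩ := h2
    refine ⟨⟨⟨(a : Q), hQP0 (a : Q).2⟩, ⟨(b : Q), hQP0 (b : Q).2⟩, ?_⟩⟩
    intro h
    apply hab
    have h' := congrArg Subtype.val h
    simp only at h'
    exact Subtype.ext (Subtype.ext h')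
  have hcn : Nontrivial (Subgroup.center P0) := hP0p.center_nontrivial
  obtain ⟨c, hc1⟩ := exists_ne (1 : Subgroup.center P0)
  -- c as an element of G
  set c0 : G := ((c : P0) : G) with hc0
  have hc0P : c0 ∈ P0 := (c : P0).2
  have hc0ne : c0 ≠ 1 := by
    intro h
    apply hc1
    apply Subtype.ext
    apply Subtype.ext
    exact h
  have hc0comm : ∀ y ∈ P0, y * c0 = c0 * y := by
    intro y hy
    have := Subgroup.mem_center_iff.mp c.2 ⟨y, hy⟩
    exact congrArg Subtype.val this
  -- any element of P0 commuting with P0 lies in ZQ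
  have hinZQ : ∀ u : G, (∀ y ∈ P0, y * u = u * y) → u ∈ ZQ := by
    intro u hu
    rw [← hcent, Subgroup.mem_centralizer_iff]
    intro q hq
    exact hu q (hQP0 hq)
  have hc0Z : c0 ∈ ZQ := hinZQ c0 hc0comm
  -- ZQ = {1, c0}
  have hZQel : ∀ u ∈ ZQ, u = 1 ∨ u = c0 := by
    intro u hu
    by_contra hne
    push Not at hne
    have h3 : 3 ≤ Nat.card ZQ := by
      classical
      have : Finite ZQ := inferInstance
      have := Fintype.ofFinite ZQ
      rw [Nat.card_eq_fintype_card]
      let s : Finset ZQ := {(⟨1, ZQ.one_mem⟩ : ZQ), (⟨c0, hc0Z⟩ : ZQ), (⟨u, hu⟩ : ZQ)}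
      have hs : s.card = 3 := by
        rw [Finset.card_eq_three]
        refine ⟨_, _, _, ?_, ?_, ?_, rfl⟩
        · intro h; exact hc0ne (congrArg Subtype.val h).symm
        · intro h; exact hne.1 (congrArg Subtype.val h).symm
        · intro h; exact hne.2 (congrArg Subtype.val h).symm
      rw [← hs]
      exact Finset.card_le_univ s
    omega
  -- normalizer of P0 ≤ normalizer of Q
  have hNN : Subgroup.normalizer (P0 : Set G) ≤ Subgroup.normalizer (Q : Set G) := by
    intro n hn
    apply hnorm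
    rw [Subgroup.mem_centralizer_iff]
    intro u hu
    have hnP : ∀ y, y ∈ P0 ↔ n * y * n⁻¹ ∈ P0 := fun y => Subgroup.mem_normalizer_iff.mp hn y
    have hnP' : ∀ y, y ∈ P0 → n⁻¹ * y * n ∈ P0 := by
      intro y hy
      rw [hnP]
      have : n * (n⁻¹ * y * n) * n⁻¹ = y := by group
      rw [this]; exact hy
    -- n c0 n⁻¹ ∈ ZQ
    have hconj : n * c0 * n⁻¹ ∈ ZQ := by
      apply hinZQ
      intro y hy
      have h1 := hc0comm (n⁻¹ * y * n) (hnP' y hy)
      calc y * (n * c0 * n⁻¹) = n * ((n⁻¹ * y * n) * c0) * n⁻¹ := by group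
        _ = n * (c0 * (n⁻¹ * y * n)) * n⁻¹ := by rw [h1]
        _ = n * c0 * n⁻¹ * y := by group
    have hconj2 : n * c0 * n⁻¹ = c0 := by
      rcases hZQel _ hconj with h | h
      · exfalso
        apply hc0ne
        have : c0 = n⁻¹ * (n * c0 * n⁻¹) * n := by group
        rw [this, h]; group
      · exact h
    have hnc : n * c0 = c0 * n := by
      calc n * c0 = (n * c0 * n⁻¹) * n := by group
        _ = c0 * n := by rw [hconj2]
    rcases hZQel u hu with h | h
    · rw [h]; simp
    · rw [h]; exact hnc.symm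
  rw [eq_top_iff, ← hfr, sup_comm]
  exact sup_le_sup_left hNN L

end Cfsg.Agent.S5433
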