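import Cfsg.Statements.S5437

set_option autoImplicit false
open Cfsg

namespace Cfsg.Agent.S5437

theorem h28_mem_map_conj {G : Type*} [Group G] (H : Subgroup G) (g x : G) :
    x ∈ H.map (MulAut.conj g).toMonoidHom ↔ g⁻¹ * x * g ∈ H := by
  constructor
  · rintro ⟨y, hy, rfl⟩
    simp only [MulEquiv.toMonoidHom_eq_coe, MonoidHom.coe_coe, MulAut.conj_apply]
    have : g⁻¹ * (g * y * g⁻¹) * g = y := by group
    rw [this]; exact hy
  · intro h
    refine ⟨g⁻¹ * x * g, h, ?_⟩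
    simp only [MulEquiv.toMonoidHom_eq_coe, MonoidHom.coe_coe, MulAut.conj_apply]
    group

theorem h28_smul_coset_eq {G : Type*} [Group G] (H : Subgroup G) (x g : G) :
    x • (g : G ⧸ H) = (g : G ⧸ H) ↔ g⁻¹ * x * g ∈ H := by
  rw [MulAction.Quotient.smul_coe, eq_comm, QuotientGroup.eq]
  simp only [smul_eq_mul, mul_assoc]

theorem result {G : Type*} [Group G] [Finite G] (I : Set G) (hI : ∀ x ∈ I, orderOf x = 2) (hIc : ∀ g : G, ∀ x ∈ I, g * x * g⁻¹ ∈ I) (H : Subgroup G) : ((∀ x ∈ I, x ∈ H → (∀ g : G, g * x * g⁻¹ ∈ H → ∃ h ∈ H, h * x * h⁻¹ = g * x * g⁻¹) ∧ Subgroup.centralizer ({x} : Set G) ≤ H) ↔ (∀ g : G, g ∉ H → ∀ x ∈ I, ¬ (x ∈ H ∧ x ∈ (H : Subgroup G).map (MulAut.conj g).toMonoidHom))) ∧ ((∀ g : G, g ∉ H → ∀ x ∈ I, ¬ (x ∈ H ∧ x ∈ (H : Subgroup G).map (MulAut.conj g).toMonoidHom)) ↔ ∀ x ∈ I, x ∈ H → ∃! c : G ⧸ H, x • c = c) := by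
  refine ⟨⟨?_, ?_⟩, ⟨?_, ?_⟩⟩
  · -- (1) → (2)
    intro h1 g hg x hxI ⟨hxH, hxg⟩
    rw [h28_mem_map_conj] at hxg
    set y := g⁻¹ * x * g with hy
    have hyI : y ∈ I := by
      have := hIc g⁻¹ x hxI
      rw [inv_inv] at this
      exact this
    obtain ⟨hfus, hcent⟩ := h1 y hyI hxg
    have hgy : g * y * g⁻¹ = x := by rw [hy]; group
    obtain ⟨h, hh, hheq⟩ := hfus g (by rw [hgy]; exact hxH)
    have hc : h⁻¹ * g ∈ Subgroup.centralizer ({y} : Set G) := by
      rw [Subgroup.mem_centralizer_iff]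
      intro z hz
      rw [Set.mem_singleton_iff] at hz
      subst hz
      -- y * (h⁻¹ g) = (h⁻¹ g) * y
      have : h⁻¹ * (h * y * h⁻¹) * h = h⁻¹ * (g * y * g⁻¹) * h := by rw [hheq]
      have e1 : h⁻¹ * (h * y * h⁻¹) * h = y := by group
      rw [e1] at this
      calc y * (h⁻¹ * g) = (h⁻¹ * (g * y * g⁻¹) * h) * (h⁻¹ * g) := by rw [← this]
        _ = h⁻¹ * g * y := by group
    have := hcent hc
    have hgH : g ∈ H := by
      have := H.mul_mem hh this
      simpa using this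
    exact hg hgH
  · -- (2) → (1)
    intro h2 x hxI hxH
    refine ⟨?_, ?_⟩
    · intro g hgx
      by_cases hg : g ∈ H
      · exact ⟨g, hg, rfl⟩
      · exfalso
        refine h2 g hg (g * x * g⁻¹) (hIc g x hxI) ⟨hgx, ?_⟩
        rw [h28_mem_map_conj]
        have : g⁻¹ * (g * x * g⁻¹) * g = x := by group
        rw [this]; exact hxH
    · intro c hc
      by_contra hcH
      refine h2 c hcH x hxI ⟨hxH, ?_⟩
      rw [h28_mem_map_conj]
      rw [Subgroup.mem_centralizer_iff] at hc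
      have := hc x (Set.mem_singleton x)
      have e : c⁻¹ * x * c = x := by
        calc c⁻¹ * x * c = c⁻¹ * (x * c) := by group
          _ = c⁻¹ * (c * x) := by rw [this]
          _ = x := by group
      rw [e]; exact hxH
  · -- (2) → (3)
    intro h2 x hxI hxH
    refine ⟨((1 : G) : G ⧸ H), ?_, ?_⟩
    · show x • ((1 : G) : G ⧸ H) = ((1 : G) : G ⧸ H)
      rw [h28_smul_coset_eq]
      simpa using hxH
    · intro c hc
      induction c using QuotientGroup.induction_on with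
      | H g =>
        rw [h28_smul_coset_eq] at hc
        by_contra hne
        have hg : g ∉ H := by
          intro hg
          apply hne
          rw [QuotientGroup.eq]
          simpa using hg
        refine h2 g hg x hxI ⟨hxH, ?_⟩
        rw [h28_mem_map_conj]
        exact hc
  · -- (3) → (2)
    intro h3 g hg x hxI ⟨hxH, hxg⟩
    rw [h28_mem_map_conj] at hxg
    obtain ⟨c, _, hcu⟩ := h3 x hxI hxH
    have e1 : ((1 : G) : G ⧸ H) = c := by
      apply hcu
      show x • ((1 : G) : G ⧸ H) = ((1 : G) : G ⧸ H)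
      rw [h28_smul_coset_eq]
      simpa using hxH
    have e2 : ((g : G) : G ⧸ H) = c := by
      apply hcu
      show x • ((g : G) : G ⧸ H) = ((g : G) : G ⧸ H)
      rw [h28_smul_coset_eq]
      exact hxg
    have : ((1 : G) : G ⧸ H) = ((g : G) : G ⧸ H) := e1.trans e2.symm
    rw [QuotientGroup.eq] at this
    apply hg
    simpa using this

end Cfsg.Agent.S5437
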