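import Cfsg.Statements.S5438

set_option autoImplicit false
open Cfsg

namespace Cfsg.Agent.S5438

/-- membership in a conjugated Sylow subgroup -/
theorem h28_mem_smul_sylow {K : Type*} [Group K] {p : ℕ} (c : K) (Q : Sylow p K) (t : K) :
    t ∈ (c • Q : Sylow p K) ↔ c⁻¹ * t * c ∈ Q := by
  show t ∈ ((c • Q : Sylow p K) : Subgroup K) ↔ _
  rw [Sylow.coe_subgroup_smul, Subgroup.mem_pointwise_smul_iff_inv_smul_mem]
  simp only [MulAut.smul_def, map_inv, MulAut.inv_apply, MulAut.conj_symm_apply]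
  exact Iff.rfl

/-- Sylow conjugacy inside a subgroup `K`: a `p`-subgroup `T ≤ K` can be conjugated by an element
of `K` into a given Sylow `p`-subgroup of `K`. -/
theorem h28_sylow_conj {G : Type*} [Group G] [Finite G] (p : ℕ) [Fact p.Prime] (K : Subgroup G)
    (P : Sylow p K) (T : Subgroup G) (hT : T ≤ K) (hTp : IsPGroup p T) :
    ∃ c ∈ K, ∀ t ∈ T, c⁻¹ * t * c ∈ (P : Subgroup K).map K.subtype := by
  have hTK : IsPGroup p (T.subgroupOf K) := by
    have e : (T.subgroupOf K) ≃* T := Subgroup.subgroupOfEquivOfLe hT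
    exact IsPGroup.of_equiv hTp e.symm
  obtain ⟨Q, hQ⟩ := hTK.exists_le_sylow
  obtain ⟨c, hc⟩ := MulAction.exists_smul_eq K P Q
  refine ⟨(c : G), c.2, ?_⟩
  intro t ht
  have h1 : (⟨t, hT ht⟩ : K) ∈ Q := hQ (show (⟨t, hT ht⟩ : K) ∈ T.subgroupOf K from ht)
  rw [← hc, h28_mem_smul_sylow] at h1
  exact ⟨_, h1, rfl⟩

theorem h28_isPGroup_zpowers {G : Type*} [Group G] (x : G) (k : ℕ) (hx : orderOf x = 2 ^ k) :
    IsPGroup 2 (Subgroup.zpowers x) := by
  apply IsPGroup.of_card (n := k)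
  rw [Nat.card_zpowers, hx]

theorem result {G : Type*} [Group G] [Finite G] (z : G) (hz : Cfsg.IsTwoCentralInvolution z) (H : Subgroup G) (hzH : z ∈ H) (hfix : ∀ g : G, g⁻¹ * z * g ∈ H → g ∈ H) : Odd H.index ∧ ∀ x ∈ H, (∃ k : ℕ, orderOf x = 2 ^ k) → ∀ g : G, g * x * g⁻¹ ∈ H → ∃ h ∈ H, h * x * h⁻¹ = g * x * g⁻¹ := by
  obtain ⟨hz2, P, hzP, hPz⟩ := hz
  have : Fact (Nat.Prime 2) := ⟨Nat.prime_two⟩
  -- Step 1: P ≤ H
  have hPH : (P : Subgroup G) ≤ H := by
    intro x hx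
    apply hfix
    have := hPz x hx
    have e : x⁻¹ * z * x = z := by
      calc x⁻¹ * z * x = x⁻¹ * (z * x) := by group
        _ = x⁻¹ * (x * z) := by rw [this]
        _ = z := by group
    rw [e]; exact hzH
  -- Step 2: odd index
  have hodd : Odd H.index := by
    have h1 : H.index ∣ (P : Subgroup G).index := Subgroup.index_dvd_of_le hPH
    have h2 : ¬ 2 ∣ (P : Subgroup G).index := P.not_dvd_index
    rw [← Nat.not_even_iff_odd, even_iff_two_dvd]
    intro h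
    exact h2 (h.trans h1)
  refine ⟨hodd, ?_⟩
  have hz1 : z ^ 2 = 1 := by rw [← hz2]; exact pow_orderOf_eq_one z
  -- conjugates of z commuting with z lie in H, and the conjugating element too
  have hcomm_in : ∀ b : G, (b * z * b⁻¹) * z = z * (b * z * b⁻¹) → b ∈ H := by
    intro b hb
    have h1 : b * z * b⁻¹ ∈ H := by
      apply hfix
      have e : (b * z * b⁻¹)⁻¹ * z * (b * z * b⁻¹) = z := by
        calc (b * z * b⁻¹)⁻¹ * z * (b * z * b⁻¹) = (b * z * b⁻¹)⁻¹ * (z * (b * z * b⁻¹)) := by group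
          _ = (b * z * b⁻¹)⁻¹ * ((b * z * b⁻¹) * z) := by rw [hb]
          _ = z := by group
      rw [e]; exact hzH
    have h2 : b⁻¹ ∈ H := by
      apply hfix
      rw [inv_inv]; exact h1
    simpa using H.inv_mem h2
  -- Step 3: a 2-subgroup containing an H-conjugate of z lies in H
  have hstar : ∀ S : Subgroup G, IsPGroup 2 S → ∀ h ∈ H, h * z * h⁻¹ ∈ S → S ≤ H := by
    intro S hS h hh hzS
    obtain ⟨P', hP'⟩ := hS.exists_le_sylow
    obtain ⟨a, ha⟩ := MulAction.exists_smul_eq G P P'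
    -- h z h⁻¹ ∈ P' = a • P, so a⁻¹ h z h⁻¹ a ∈ P commutes with z
    have h1 : h * z * h⁻¹ ∈ P' := hP' hzS
    rw [← ha, h28_mem_smul_sylow] at h1
    have h2 := hPz _ h1
    -- b = h⁻¹ a
    have hb : h⁻¹ * a ∈ H := by
      apply hcomm_in
      have e1 : (h⁻¹ * a) * z * (h⁻¹ * a)⁻¹ = h⁻¹ * (a * z * a⁻¹) * h := by group
      rw [e1]
      -- from h2: a⁻¹ (h z h⁻¹) a * z = z * a⁻¹ (h z h⁻¹) a
      have h3 : (h * z * h⁻¹) * (a * z * a⁻¹) = (a * z * a⁻¹) * (h * z * h⁻¹) := by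
        calc (h * z * h⁻¹) * (a * z * a⁻¹) = a * ((a⁻¹ * (h * z * h⁻¹) * a) * z) * a⁻¹ := by group
          _ = a * (z * (a⁻¹ * (h * z * h⁻¹) * a)) * a⁻¹ := by rw [h2]
          _ = (a * z * a⁻¹) * (h * z * h⁻¹) := by group
      calc h⁻¹ * (a * z * a⁻¹) * h * z = h⁻¹ * ((a * z * a⁻¹) * (h * z * h⁻¹)) * h := by group
        _ = h⁻¹ * ((h * z * h⁻¹) * (a * z * a⁻¹)) * h := by rw [h3]
        _ = z * (h⁻¹ * (a * z * a⁻¹) * h) := by group
    have haH : a ∈ H := by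
      have := H.mul_mem hh hb
      simpa using this
    intro s hs
    have h4 : s ∈ P' := hP' hs
    rw [← ha, h28_mem_smul_sylow] at h4
    have h5 : a⁻¹ * s * a ∈ H := hPH h4
    have : s = a * (a⁻¹ * s * a) * a⁻¹ := by group
    rw [this]
    exact H.mul_mem (H.mul_mem haH h5) (H.inv_mem haH)
  -- Step 4: a 2-element of H commutes with an H-conjugate of z
  have hstep4 : ∀ x ∈ H, (∃ k : ℕ, orderOf x = 2 ^ k) → ∃ h ∈ H, (h * z * h⁻¹) * x = x * (h * z * h⁻¹) := by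
    intro x hxH ⟨k, hk⟩
    have hT : Subgroup.zpowers x ≤ H := by
      rw [Subgroup.zpowers_le]; exact hxH
    obtain ⟨c, hcH, hc⟩ := h28_sylow_conj 2 H (P.subtype hPH) (Subgroup.zpowers x) hT
      (h28_isPGroup_zpowers x k hk)
    have h1 := hc x (Subgroup.mem_zpowers x)
    rw [Sylow.coe_subtype, Subgroup.subgroupOf_map_subtype] at h1
    have h2 := hPz _ h1.1
    refine ⟨c, hcH, ?_⟩
    calc c * z * c⁻¹ * x = c * (z * (c⁻¹ * x * c)) * c⁻¹ := by group
      _ = c * ((c⁻¹ * x * c) * z) * c⁻¹ := by rw [h2]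
      _ = x * (c * z * c⁻¹) := by group
  -- Step 5
  intro x hxH hx2 g hgx
  obtain ⟨k, hk⟩ := hx2
  have hy2 : ∃ k : ℕ, orderOf (g * x * g⁻¹) = 2 ^ k := by
    refine ⟨k, ?_⟩
    have := (MulAut.conj g).orderOf_eq x
    simp only [MulAut.conj_apply] at this
    rw [this]; exact hk
  obtain ⟨h1, hh1, hc1⟩ := hstep4 x hxH ⟨k, hk⟩
  obtain ⟨h2, hh2, hc2⟩ := hstep4 _ hgx hy2
  set C := Subgroup.centralizer ({x} : Set G) with hC
  set z1 := h1 * z * h1⁻¹ with hz1def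
  set z2 := g⁻¹ * (h2 * z * h2⁻¹) * g with hz2def
  have hz1C : z1 ∈ C := by
    rw [hC, Subgroup.mem_centralizer_iff]
    intro y hy
    rw [Set.mem_singleton_iff] at hy
    subst hy
    exact hc1.symm
  have hz2C : z2 ∈ C := by
    rw [hC, Subgroup.mem_centralizer_iff]
    intro y hy
    rw [Set.mem_singleton_iff] at hy
    subst hy
    calc y * z2 = g⁻¹ * ((g * y * g⁻¹) * (h2 * z * h2⁻¹)) * g := by rw [hz2def]; group
      _ = g⁻¹ * ((h2 * z * h2⁻¹) * (g * y * g⁻¹)) * g := by rw [hc2]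
      _ = z2 * y := by rw [hz2def]; group
  have hordz : ∀ b : G, orderOf (b * z * b⁻¹) = 2 ^ 1 := by
    intro b
    have := (MulAut.conj b).orderOf_eq z
    simp only [MulAut.conj_apply] at this
    rw [this, hz2]; norm_num
  have hz1p : IsPGroup 2 (Subgroup.zpowers z1) := h28_isPGroup_zpowers z1 1 (hordz h1)
  have hz2p : IsPGroup 2 (Subgroup.zpowers z2) := by
    apply h28_isPGroup_zpowers z2 1
    have e : z2 = (g⁻¹ * h2) * z * (g⁻¹ * h2)⁻¹ := by rw [hz2def]; group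
    rw [e]; exact hordz _
  have hT1 : Subgroup.zpowers z1 ≤ C := by rw [Subgroup.zpowers_le]; exact hz1C
  have hT2 : Subgroup.zpowers z2 ≤ C := by rw [Subgroup.zpowers_le]; exact hz2C
  -- Sylow subgroup S of C containing z1
  have hz1pC : IsPGroup 2 ((Subgroup.zpowers z1).subgroupOf C) := by
    have e : ((Subgroup.zpowers z1).subgroupOf C) ≃* (Subgroup.zpowers z1) := Subgroup.subgroupOfEquivOfLe hT1
    exact IsPGroup.of_equiv hz1p e.symm
  obtain ⟨S, hS⟩ := hz1pC.exists_le_sylow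
  obtain ⟨c, hcC, hc⟩ := h28_sylow_conj 2 C S (Subgroup.zpowers z2) hT2 hz2p
  have h3 := hc z2 (Subgroup.mem_zpowers z2)
  set S0 : Subgroup G := (S : Subgroup C).map C.subtype with hS0
  have hS0p : IsPGroup 2 S0 := S.isPGroup'.map C.subtype
  have hz1S0 : z1 ∈ S0 := by
    refine ⟨⟨z1, hz1C⟩, hS ?_, rfl⟩
    show z1 ∈ Subgroup.zpowers z1
    exact Subgroup.mem_zpowers z1
  have hS0H : S0 ≤ H := hstar S0 hS0p h1 hh1 hz1S0
  have h4 : c⁻¹ * z2 * c ∈ H := hS0H h3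
  have h5 : h2⁻¹ * g * c ∈ H := by
    apply hfix
    have e : (h2⁻¹ * g * c)⁻¹ * z * (h2⁻¹ * g * c) = c⁻¹ * z2 * c := by rw [hz2def]; group
    rw [e]; exact h4
  have h6 : g * c ∈ H := by
    have := H.mul_mem hh2 h5
    have e : h2 * (h2⁻¹ * g * c) = g * c := by group
    rwa [e] at this
  refine ⟨g * c, h6, ?_⟩
  have hcx : c * x = x * c := by
    rw [hC, Subgroup.mem_centralizer_iff] at hcC
    exact (hcC x (Set.mem_singleton x)).symm
  calc g * c * x * (g * c)⁻¹ = g * (c * x) * c⁻¹ * g⁻¹ := by group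
    _ = g * (x * c) * c⁻¹ * g⁻¹ := by rw [hcx]
    _ = g * x * g⁻¹ := by group

end Cfsg.Agent.S5438
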