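import Cfsg.Statements.S5439

set_option autoImplicit false
open Cfsg

namespace Cfsg.Agent.S5439

theorem h28_sq_one_of_orderOf_two {G : Type*} [Group G] (x : G) (hx : orderOf x = 2) : x * x = 1 := by
  have := pow_orderOf_eq_one x
  rw [hx, pow_two] at this
  exact this

theorem h28_orderOf_conj {G : Type*} [Group G] (c d : G) : orderOf (c * d * c⁻¹) = orderOf d := by
  have := (MulAut.conj c).orderOf_eq d
  simpa only [MulAut.conj_apply] using this

/-- conjugation by an involution `e` inverts powers of `t` when it inverts `t` -/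
theorem h28_conj_pow {G : Type*} [Group G] (e t : G) (h : e * t * e⁻¹ = t⁻¹) (i : ℕ) :
    e * t ^ i * e⁻¹ = (t ^ i)⁻¹ := by
  have := map_pow (MulAut.conj e) t i
  simp only [MulAut.conj_apply] at this
  rw [this, h, inv_pow]

/-- two involutions with product of odd order are conjugate (by a power of the product) -/
theorem h28_invol_conj_of_odd {G : Type*} [Group G] (a e : G) (ha : a * a = 1) (he : e * e = 1)
    (j : ℕ) (hj : (a * e) ^ (2 * j + 1) = 1) :
    (a * e) ^ (j + 1) * e * ((a * e) ^ (j + 1))⁻¹ = a := by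
  have he' : e⁻¹ = e := inv_eq_of_mul_eq_one_left he
  have ha' : a⁻¹ = a := inv_eq_of_mul_eq_one_left ha
  have hinv : e * (a * e) * e⁻¹ = (a * e)⁻¹ := by
    rw [mul_inv_rev, he', ha']
    calc e * (a * e) * e = e * a * (e * e) := by group
      _ = e * a := by rw [he, mul_one]
  have hpow := h28_conj_pow e (a * e) hinv
  have h1 : e * ((a * e) ^ (j + 1))⁻¹ = (a * e) ^ (j + 1) * e := by
    have := hpow (j + 1)
    have h2 : ((a * e) ^ (j + 1))⁻¹ = e * (a * e) ^ (j + 1) * e⁻¹ := this.symm
    rw [h2]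
    rw [he']
    calc e * (e * (a * e) ^ (j + 1) * e) = (e * e) * (a * e) ^ (j + 1) * e := by group
      _ = (a * e) ^ (j + 1) * e := by rw [he, one_mul]
  calc (a * e) ^ (j + 1) * e * ((a * e) ^ (j + 1))⁻¹
      = (a * e) ^ (j + 1) * (e * ((a * e) ^ (j + 1))⁻¹) := by group
    _ = (a * e) ^ (j + 1) * ((a * e) ^ (j + 1) * e) := by rw [h1]
    _ = (a * e) ^ (2 * j + 1) * (a * e) * e := by
        rw [← mul_assoc, ← pow_add, ← pow_succ]
        congr 2
        ring
    _ = a := by
        rw [hj, one_mul, mul_assoc, he, mul_one]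

/-- In the dihedral group generated by involutions `u`, `v` whose product has even order `2k`,
the central involution `w = (uv)^k` commutes with `u` and `v`, and `u * w` is a conjugate of
`u` or of `v`. -/
theorem h28_dihedral_central {G : Type*} [Group G] (u v : G) (hu : u * u = 1) (hv : v * v = 1)
    (k : ℕ) (hk : (u * v) ^ (2 * k) = 1) :
    ((u * v) ^ k) * ((u * v) ^ k) = 1 ∧ u * (u * v) ^ k = (u * v) ^ k * u ∧
    v * (u * v) ^ k = (u * v) ^ k * v ∧
    ((∃ g : G, u * (u * v) ^ k = g * v * g⁻¹) ∨ (∃ g : G, u * (u * v) ^ k = g * u * g⁻¹)) := by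
  have hu' : u⁻¹ = u := inv_eq_of_mul_eq_one_left hu
  have hv' : v⁻¹ = v := inv_eq_of_mul_eq_one_left hv
  set t := u * v with ht
  have hww : t ^ k * t ^ k = 1 := by rw [← pow_add, ← two_mul]; exact hk
  have hwinv : (t ^ k)⁻¹ = t ^ k := inv_eq_of_mul_eq_one_left hww
  have hut : u * t * u⁻¹ = t⁻¹ := by
    rw [ht, mul_inv_rev, hu', hv']
    calc u * (u * v) * u = (u * u) * v * u := by group
      _ = v * u := by rw [hu, one_mul]
  have hvt : v * t * v⁻¹ = t⁻¹ := by
    rw [ht, mul_inv_rev, hu', hv']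
    calc v * (u * v) * v = v * u * (v * v) := by group
      _ = v * u := by rw [hv, mul_one]
  have hup := h28_conj_pow u t hut
  have hvp := h28_conj_pow v t hvt
  refine ⟨hww, ?_, ?_, ?_⟩
  · calc u * t ^ k = (u * t ^ k * u⁻¹) * u := by group
      _ = t ^ k * u := by rw [hup k, hwinv]
  · calc v * t ^ k = (v * t ^ k * v⁻¹) * v := by group
      _ = t ^ k * v := by rw [hvp k, hwinv]
  · rcases Nat.even_or_odd' k with ⟨i, hi | hi⟩
    · right
      refine ⟨(t ^ i)⁻¹, ?_⟩
      rw [inv_inv, hi, two_mul, pow_add]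
      calc u * (t ^ i * t ^ i) = (u * t ^ i * u⁻¹) * u * t ^ i := by group
        _ = (t ^ i)⁻¹ * u * t ^ i := by rw [hup i]
    · left
      refine ⟨(t ^ i)⁻¹, ?_⟩
      rw [inv_inv, hi, pow_succ, two_mul, pow_add]
      calc u * (t ^ i * t ^ i * t) = u * (t ^ i * (t * t ^ i)) := by
            rw [mul_assoc, ← pow_succ, pow_succ']
        _ = (u * t ^ i * u⁻¹) * u * (t * t ^ i) := by group
        _ = (t ^ i)⁻¹ * u * (u * v * t ^ i) := by rw [hup i]
        _ = (t ^ i)⁻¹ * (u * u) * v * t ^ i := by group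
        _ = (t ^ i)⁻¹ * v * t ^ i := by rw [hu, mul_one]

theorem h28_smul_coset_eq {G : Type*} [Group G] (H : Subgroup G) (x g : G) :
    x • (g : G ⧸ H) = (g : G ⧸ H) ↔ g⁻¹ * x * g ∈ H := by
  rw [MulAction.Quotient.smul_coe, eq_comm, QuotientGroup.eq]
  simp only [smul_eq_mul, mul_assoc]

theorem result {G : Type*} [Group G] [Finite G] (I J : Set G) (a₀ b₀ : G) (ha₀ : orderOf a₀ = 2) (hb₀ : orderOf b₀ = 2) (hI : I = {x | IsConj a₀ x}) (hJ : J = {x | IsConj b₀ x}) (hIJ : I ≠ J) (H : Subgroup G) (hfix : ∀ x ∈ I ∪ J, ∃! c : G ⧸ H, x • c = c) (hcent : ∀ a ∈ I, a ∈ H → ∀ b ∈ I ∪ J, b ∈ H → a ≠ b → a * b = b * a → Subgroup.centralizer ({a * b} : Set G) ≤ H) : H = ⊤ := by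
  -- basic facts on I, J
  have hIconj : ∀ x ∈ I, ∀ g : G, g * x * g⁻¹ ∈ I := by
    intro x hx g
    rw [hI] at hx ⊢
    exact (show IsConj a₀ x from hx).trans (isConj_iff.mpr ⟨g, rfl⟩)
  have hJconj : ∀ x ∈ J, ∀ g : G, g * x * g⁻¹ ∈ J := by
    intro x hx g
    rw [hJ] at hx ⊢
    exact (show IsConj b₀ x from hx).trans (isConj_iff.mpr ⟨g, rfl⟩)
  have hIJconj : ∀ x ∈ I ∪ J, ∀ g : G, g * x * g⁻¹ ∈ I ∪ J := by
    intro x hx g
    rcases hx with hx | hx
    · exact Or.inl (hIconj x hx g)
    · exact Or.inr (hJconj x hx g)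
  have hIord : ∀ x ∈ I, x * x = 1 := by
    intro x hx
    rw [hI] at hx
    obtain ⟨c, hc⟩ := isConj_iff.mp (show IsConj a₀ x from hx)
    apply h28_sq_one_of_orderOf_two
    rw [← hc, h28_orderOf_conj]; exact ha₀
  have hJord : ∀ x ∈ J, x * x = 1 := by
    intro x hx
    rw [hJ] at hx
    obtain ⟨c, hc⟩ := isConj_iff.mp (show IsConj b₀ x from hx)
    apply h28_sq_one_of_orderOf_two
    rw [← hc, h28_orderOf_conj]; exact hb₀
  have hnotconj : ∀ u ∈ I, ∀ v ∈ J, ¬ IsConj u v := by
    intro u hu v hv huv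
    apply hIJ
    rw [hI] at hu
    rw [hJ] at hv
    have h1 : IsConj a₀ b₀ := ((show IsConj a₀ u from hu).trans huv).trans (show IsConj b₀ v from hv).symm
    rw [hI, hJ]
    ext y
    show IsConj a₀ y ↔ IsConj b₀ y
    exact ⟨fun h => h1.symm.trans h, fun h => h1.trans h⟩
  -- fixed point function
  choose! fp hfp hfpu using hfix
  -- (F1) commuting elements fix fp
  have F1 : ∀ x ∈ I ∪ J, ∀ g : G, g * x = x * g → g • fp x = fp x := by
    intro x hx g hg
    apply hfpu x hx
    rw [← mul_smul, ← hg, mul_smul, hfp x hx]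
  -- (F3)
  have F3 : ∀ a ∈ I, ∀ b ∈ I ∪ J, a ≠ b → a * b = b * a → ∀ c : G, c * (a * b) = (a * b) * c →
      c • fp a = fp a := by
    intro a ha b hb hab hcomm c hc
    have hbfix : b • fp a = fp a := F1 a (Or.inl ha) b hcomm.symm
    have hafix : a • fp a = fp a := hfp a (Or.inl ha)
    revert hbfix hafix
    generalize fp a = p
    induction p using QuotientGroup.induction_on with
    | H g =>
      intro hbfix hafix
      rw [h28_smul_coset_eq] at hbfix hafix ⊢
      have ha' : g⁻¹ * a * g ∈ I := by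
        have := hIconj a ha g⁻¹
        rwa [inv_inv] at this
      have hb' : g⁻¹ * b * g ∈ I ∪ J := by
        have := hIJconj b hb g⁻¹
        rwa [inv_inv] at this
      have hne : g⁻¹ * a * g ≠ g⁻¹ * b * g := by
        intro h
        apply hab
        have : a = g * (g⁻¹ * a * g) * g⁻¹ := by group
        rw [this, h]; group
      have hcm : (g⁻¹ * a * g) * (g⁻¹ * b * g) = (g⁻¹ * b * g) * (g⁻¹ * a * g) := by
        calc (g⁻¹ * a * g) * (g⁻¹ * b * g) = g⁻¹ * (a * b) * g := by group
          _ = g⁻¹ * (b * a) * g := by rw [hcomm]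
          _ = (g⁻¹ * b * g) * (g⁻¹ * a * g) := by group
      have hle := hcent _ ha' hafix _ hb' hbfix hne hcm
      apply hle
      rw [Subgroup.mem_centralizer_iff]
      intro y hy
      rw [Set.mem_singleton_iff] at hy
      subst hy
      calc (g⁻¹ * a * g) * (g⁻¹ * b * g) * (g⁻¹ * c * g) = g⁻¹ * ((a * b) * c) * g := by group
        _ = g⁻¹ * (c * (a * b)) * g := by rw [hc]
        _ = (g⁻¹ * c * g) * ((g⁻¹ * a * g) * (g⁻¹ * b * g)) := by group
  -- main: fp u = fp v for u ∈ I, v ∈ J
  have main : ∀ u ∈ I, ∀ v ∈ J, fp v = fp u := by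
    intro u hu v hv
    have huu := hIord u hu
    have hvv := hJord v hv
    -- order of u*v is even
    have hpos : 0 < orderOf (u * v) := orderOf_pos _
    rcases Nat.even_or_odd' (orderOf (u * v)) with ⟨k, hk | hk⟩
    · have hkpos : 0 < k := by omega
      have hpow : (u * v) ^ (2 * k) = 1 := by rw [← hk]; exact pow_orderOf_eq_one _
      obtain ⟨hww, huw, hvw, hcases⟩ := h28_dihedral_central u v huu hvv k hpow
      set w := (u * v) ^ k with hw
      have hw1 : w ≠ 1 := pow_ne_one_of_lt_orderOf hkpos.ne' (by omega)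
      -- v fixes fp u
      have hvfix : v • fp u = fp u := by
        rcases hcases with ⟨g, hg⟩ | ⟨g, hg⟩
        · -- u*w = g v g⁻¹ ∈ J
          have hb : u * w ∈ I ∪ J := by rw [hg]; exact Or.inr (hJconj v hv g)
          have hne : u ≠ u * w := by
            intro h
            apply hw1
            have : u * 1 = u * w := by rw [mul_one]; exact h
            exact (mul_left_cancel this).symm
          have hcm : u * (u * w) = (u * w) * u := by rw [mul_assoc, huw]
          have huuw : u * (u * w) = w := by rw [← mul_assoc, huu, one_mul]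
          apply F3 u hu (u * w) hb hne hcm v
          rw [huuw]; exact hvw
        · have hb : u * w ∈ I ∪ J := by rw [hg]; exact Or.inl (hIconj u hu g)
          have hne : u ≠ u * w := by
            intro h
            apply hw1
            have : u * 1 = u * w := by rw [mul_one]; exact h
            exact (mul_left_cancel this).symm
          have hcm : u * (u * w) = (u * w) * u := by rw [mul_assoc, huw]
          have huuw : u * (u * w) = w := by rw [← mul_assoc, huu, one_mul]
          apply F3 u hu (u * w) hb hne hcm v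
          rw [huuw]; exact hvw
      exact (hfpu v (Or.inr hv) (fp u) hvfix).symm
    · exfalso
      have hpow : (u * v) ^ (2 * k + 1) = 1 := by rw [← hk]; exact pow_orderOf_eq_one _
      have := h28_invol_conj_of_odd u v huu hvv k hpow
      apply hnotconj u hu v hv
      exact (isConj_iff.mpr ⟨_, this⟩).symm
  have ha₀I : a₀ ∈ I := by rw [hI]; exact IsConj.refl a₀
  have hb₀J : b₀ ∈ J := by rw [hJ]; exact IsConj.refl b₀
  -- G fixes p = fp a₀
  have hGfix : ∀ g : G, g • fp a₀ = fp a₀ := by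
    intro g
    have h1 : g • fp a₀ = fp (g * a₀ * g⁻¹) := by
      apply hfpu _ (Or.inl (hIconj a₀ ha₀I g))
      rw [← mul_smul]
      have : g * a₀ * g⁻¹ * g = g * a₀ := by group
      rw [this, mul_smul, hfp a₀ (Or.inl ha₀I)]
    rw [h1, ← main _ (hIconj a₀ ha₀I g) b₀ hb₀J, main a₀ ha₀I b₀ hb₀J]
  revert hGfix
  generalize fp a₀ = p
  induction p using QuotientGroup.induction_on with
  | H x =>
    intro hGfix
    rw [eq_top_iff]
    intro h _
    have := hGfix (x * h * x⁻¹)
    rw [h28_smul_coset_eq] at this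
    have e : x⁻¹ * (x * h * x⁻¹) * x = h := by group
    rwa [e] at this

end Cfsg.Agent.S5439
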