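import Cfsg.Statements.S5459

set_option autoImplicit false
open Cfsg

namespace Cfsg.Agent.S5459

open scoped commutatorElement

theorem result {G : Type*} [Group G] [Finite G] (L : Subgroup G) [L.Normal] (hL : Cfsg.IsQuasisimple ↥L) (d : G) (hd : orderOf d = 2) (hgen : L ⊔ Subgroup.zpowers d = ⊤) (hodd : Odd (Nat.card ↥(Subgroup.center ↥L))) (hinv : ∀ c ∈ (Subgroup.center ↥L).map L.subtype, d * c * d⁻¹ = c⁻¹) [hn : ((Subgroup.center ↥L).map L.subtype).Normal] (hconn : (Cfsg.commutingGraph (conjugatesOf (QuotientGroup.mk d : G ⧸ (Subgroup.center ↥L).map L.subtype))).Connected) : (Cfsg.commutingGraph (conjugatesOf d)).Connected := by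
  set Z : Subgroup G := (Subgroup.center ↥L).map L.subtype with hZ
  set D : Set G := conjugatesOf d with hD
  set π : G →* G ⧸ Z := QuotientGroup.mk' Z with hπ
  have hπd : (QuotientGroup.mk d : G ⧸ Z) = π d := rfl
  -- Z has odd order; square roots
  obtain ⟨k, hk⟩ := hodd
  have hZcard : Nat.card Z = 2 * k + 1 := by
    rw [hZ, Subgroup.card_map_of_injective L.subtype_injective, hk]
  have hZpow : ∀ c ∈ Z, c ^ (2 * k + 1) = 1 := by
    intro c hc
    have := pow_card_eq_one' (G := Z) (x := ⟨c, hc⟩)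
    rw [hZcard] at this
    exact congrArg Subtype.val this
  have hsqrt : ∀ c ∈ Z, ∃ z ∈ Z, z * z = c := by
    intro c hc
    refine ⟨c ^ (k + 1), Z.pow_mem hc _, ?_⟩
    rw [← pow_add]
    have : k + 1 + (k + 1) = (2 * k + 1) + 1 := by ring
    rw [this, pow_succ, hZpow c hc, one_mul]
  -- Z is central in L
  have hZL : Z ≤ L := by
    rintro _ ⟨c, _, rfl⟩
    exact c.2
  have hZcent : ∀ c ∈ Z, ∀ l ∈ L, c * l = l * c := by
    rintro _ ⟨c, hc, rfl⟩ l hl
    have := Subgroup.mem_center_iff.mp hc ⟨l, hl⟩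
    exact (congrArg Subtype.val this).symm
  -- members of D
  have hDmem : ∀ a, a ∈ D ↔ ∃ g : G, g * d * g⁻¹ = a := by
    intro a
    show IsConj d a ↔ _
    exact isConj_iff
  have hdd : d * d = 1 := by
    have := pow_orderOf_eq_one d
    rwa [hd, pow_two] at this
  have hDsq : ∀ a ∈ D, a * a = 1 := by
    intro a ha
    obtain ⟨g, rfl⟩ := (hDmem a).mp ha
    calc g * d * g⁻¹ * (g * d * g⁻¹) = g * (d * d) * g⁻¹ := by group
      _ = 1 := by rw [hdd]; group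
  have hDinvs : ∀ a ∈ D, a⁻¹ = a := fun a ha => inv_eq_of_mul_eq_one_left (hDsq a ha)
  have hDconj : ∀ a ∈ D, ∀ g : G, g * a * g⁻¹ ∈ D := by
    intro a ha g
    obtain ⟨h, rfl⟩ := (hDmem a).mp ha
    rw [hDmem]
    exact ⟨g * h, by group⟩
  -- members of D invert Z
  have hDinv : ∀ a ∈ D, ∀ c ∈ Z, a * c * a⁻¹ = c⁻¹ := by
    intro a ha c hc
    obtain ⟨g, rfl⟩ := (hDmem a).mp ha
    have h1 : g⁻¹ * c * g ∈ Z := by
      have := hn.conj_mem c hc g⁻¹
      rwa [inv_inv] at this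
    have h2 := hinv _ h1
    calc g * d * g⁻¹ * c * (g * d * g⁻¹)⁻¹ = g * (d * (g⁻¹ * c * g) * d⁻¹) * g⁻¹ := by group
      _ = g * (g⁻¹ * c * g)⁻¹ * g⁻¹ := by rw [h2]
      _ = c⁻¹ := by group
  -- Claim A : fibres
  have claimA : ∀ a ∈ D, ∀ b : G, π b = π a → ∃ z ∈ Z, b = z * a * z⁻¹ := by
    intro a ha b hb
    have hc : a⁻¹ * b ∈ Z := by
      have : π (a⁻¹ * b) = 1 := by rw [map_mul, map_inv, hb, inv_mul_cancel]
      rwa [hπ, QuotientGroup.mk'_apply, QuotientGroup.eq_one_iff] at this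
    obtain ⟨z, hz, hzz⟩ := hsqrt _ (Z.inv_mem hc)
    refine ⟨z, hz, ?_⟩
    have h1 := hDinv a ha z⁻¹ (Z.inv_mem hz)
    rw [inv_inv] at h1
    -- a z⁻¹ a⁻¹ = z  ⇒  z a z⁻¹ = a * (a⁻¹ z a) z⁻¹
    have h2 : a⁻¹ * z * a = z⁻¹ := by
      have h3 := hDinv a ha z hz
      rw [hDinvs a ha]
      rw [hDinvs a ha] at h3
      exact h3
    calc b = a * (a⁻¹ * b) := by group
      _ = a * (z * z)⁻¹ := by rw [hzz, inv_inv]
      _ = a * (z⁻¹ * z⁻¹) := by group
      _ = a * ((a⁻¹ * z * a) * z⁻¹) := by rw [h2]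
      _ = z * a * z⁻¹ := by group
  have claimA' : ∀ a ∈ D, ∀ b : G, π b = π a → b ∈ D := by
    intro a ha b hb
    obtain ⟨z, _, rfl⟩ := claimA a ha b hb
    exact hDconj a ha z
  -- Claim B : edge lifting
  have claimB : ∀ a ∈ D, ∀ b ∈ D, π a * π b = π b * π a → ∃ b' ∈ D, π b' = π b ∧ a * b' = b' * a := by
    intro a ha b hb hcomm
    set c := a * b * a⁻¹ * b⁻¹ with hc
    have hcZ : c ∈ Z := by
      have : π c = 1 := by
        rw [hc, map_mul, map_mul, map_mul, map_inv, map_inv, hcomm]; group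
      rwa [hπ, QuotientGroup.mk'_apply, QuotientGroup.eq_one_iff] at this
    obtain ⟨z, hz, hzz⟩ := hsqrt _ (Z.inv_mem hcZ)
    have hπbz : π (b * z) = π b := by
      rw [map_mul]
      have : π z = 1 := by rw [hπ, QuotientGroup.mk'_apply, QuotientGroup.eq_one_iff]; exact hz
      rw [this, mul_one]
    refine ⟨b * z, claimA' b hb _ hπbz, hπbz, ?_⟩
    have h1 : a * z * a⁻¹ = z⁻¹ := hDinv a ha z hz
    have h2 : b⁻¹ * c * b = c⁻¹ := by
      have := hDinv b hb c hcZ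
      rw [hDinvs b hb] at this ⊢
      exact this
    -- a b z a⁻¹ = c b z⁻¹ ; want = b z ⇔ b⁻¹ c b = z z
    have h3 : a * (b * z) * a⁻¹ = b * z := by
      calc a * (b * z) * a⁻¹ = (a * b * a⁻¹ * b⁻¹) * b * (a * z * a⁻¹) := by group
        _ = c * b * z⁻¹ := by rw [h1]
        _ = b * (b⁻¹ * c * b) * z⁻¹ := by group
        _ = b * (z * z) * z⁻¹ := by rw [h2, hzz]
        _ = b * z := by group
    calc a * (b * z) = (a * (b * z) * a⁻¹) * a := by group
      _ = b * z * a := by rw [h3]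
  -- the relation
  let r : G → G → Prop := fun a b => a ∈ D ∧ b ∈ D ∧ a * b = b * a
  let R : G → G → Prop := Relation.ReflTransGen r
  have Rconj : ∀ g a b, R a b → R (g * a * g⁻¹) (g * b * g⁻¹) := by
    intro g a b h
    refine Relation.ReflTransGen.lift (fun x => g * x * g⁻¹) ?_ _ _ h
    rintro x y ⟨hx, hy, hxy⟩
    refine ⟨hDconj x hx g, hDconj y hy g, ?_⟩
    calc g * x * g⁻¹ * (g * y * g⁻¹) = g * (x * y) * g⁻¹ := by group
      _ = g * (y * x) * g⁻¹ := by rw [hxy]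
      _ = g * y * g⁻¹ * (g * x * g⁻¹) := by group
  have Rsymm : ∀ a b, R a b → R b a := by
    intro a b hab
    induction hab with
    | refl => exact Relation.ReflTransGen.refl
    | @tail y w _ hstep ih =>
      obtain ⟨hy, hw, hyw⟩ := hstep
      exact Relation.ReflTransGen.head ⟨hw, hy, hyw.symm⟩ ih
  -- lifting of walks
  set Dbar : Set (G ⧸ Z) := conjugatesOf (π d) with hDbar
  have hDbarlift : ∀ y ∈ Dbar, ∃ b ∈ D, π b = y := by
    intro y hy
    obtain ⟨g, hg⟩ := isConj_iff.mp (show IsConj (π d) y from hy)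
    obtain ⟨g0, rfl⟩ := QuotientGroup.mk'_surjective Z g
    refine ⟨g0 * d * g0⁻¹, (hDmem _).mpr ⟨g0, rfl⟩, ?_⟩
    rw [← hg]; simp [hπ]
  have lift : ∀ x y : Dbar, Relation.ReflTransGen (Cfsg.commutingGraph Dbar).Adj x y →
      ∀ a ∈ D, π a = x.1 → ∃ b ∈ D, π b = y.1 ∧ R a b := by
    intro x y h
    induction h with
    | refl => intro a ha hax; exact ⟨a, ha, hax, Relation.ReflTransGen.refl⟩
    | @tail y' w _ hstep ih =>
      intro a ha hax
      obtain ⟨b, hbD, hby, hRab⟩ := ih a ha hax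
      obtain ⟨c0, hc0D, hc0⟩ := hDbarlift w.1 w.2
      have hadj : (y'.1 : G ⧸ Z) * w.1 = w.1 * y'.1 := by
        have := hstep
        simp only [Cfsg.commutingGraph, SimpleGraph.fromRel_adj] at this
        rcases this.2 with h | h
        · exact h.eq
        · exact h.eq.symm
      rw [← hby, ← hc0] at hadj
      obtain ⟨c', hc'D, hc'π, hcomm⟩ := claimB b hbD c0 hc0D hadj
      exact ⟨c', hc'D, hc'π.trans hc0, hRab.tail ⟨hbD, hc'D, hcomm⟩⟩
  have hdD : d ∈ D := (hDmem d).mpr ⟨1, by group⟩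
  -- every element of D is Z-conjugate to something R-related to d
  have hreach : ∀ b ∈ D, ∃ z ∈ Z, R d (z * b * z⁻¹) := by
    intro b hb
    have hπd' : π d ∈ Dbar := mem_conjugatesOf_self
    have hπb : π b ∈ Dbar := by
      obtain ⟨g, rfl⟩ := (hDmem b).mp hb
      show IsConj (π d) _
      rw [isConj_iff]
      exact ⟨π g, by simp⟩
    have h1 := hconn.preconnected ⟨π d, hπd'⟩ ⟨π b, hπb⟩
    rw [SimpleGraph.reachable_iff_reflTransGen] at h1
    obtain ⟨b', hb'D, hb'π, hR⟩ := lift _ _ h1 d hdD rfl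
    obtain ⟨z, hz, rfl⟩ := claimA b hb b' hb'π
    exact ⟨z, hz, hR⟩
  -- the stabiliser of the component of d
  let H : Subgroup G :=
    { carrier := {g | R d (g * d * g⁻¹)}
      one_mem' := by
        show R d (1 * d * 1⁻¹)
        simp only [one_mul, inv_one, mul_one]
        exact Relation.ReflTransGen.refl
      mul_mem' := by
        intro g h hg hh
        show R d (g * h * d * (g * h)⁻¹)
        have h1 := Rconj g _ _ hh
        have e : g * (h * d * h⁻¹) * g⁻¹ = g * h * d * (g * h)⁻¹ := by group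
        rw [e] at h1
        exact Relation.ReflTransGen.trans hg h1
      inv_mem' := by
        intro g hg
        show R d (g⁻¹ * d * g⁻¹⁻¹)
        have h1 := Rconj g⁻¹ _ _ hg
        have e : g⁻¹ * (g * d * g⁻¹) * g⁻¹⁻¹ = d := by group
        rw [e] at h1
        -- need symmetry of R
        exact Rsymm _ _ h1 }
  have hHmem : ∀ g, g ∈ H ↔ R d (g * d * g⁻¹) := fun g => Iff.rfl
  -- G = Z H
  have hZH : ∀ g : G, ∃ z ∈ Z, z * g ∈ H := by
    intro g
    obtain ⟨z, hz, hR⟩ := hreach (g * d * g⁻¹) (hDconj d hdD g)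
    refine ⟨z, hz, ?_⟩
    rw [hHmem]
    have e : z * g * d * (z * g)⁻¹ = z * (g * d * g⁻¹) * z⁻¹ := by group
    rw [e]; exact hR
  -- L ≤ H by perfectness
  have hLH : L ≤ H := by
    have hperf : ⁅L, L⁆ = L := (Subgroup.isPerfect_iff (H := L)).mp hL.1
    rw [← hperf, Subgroup.commutator_le]
    intro l₁ hl₁ l₂ hl₂
    obtain ⟨z₁, hz₁, hh₁⟩ := hZH l₁
    obtain ⟨z₂, hz₂, hh₂⟩ := hZH l₂
    have hL1 : z₁ * l₁ ∈ L := L.mul_mem (hZL hz₁) hl₁
    have hL2 : z₂ * l₂ ∈ L := L.mul_mem (hZL hz₂) hl₂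
    have e : ⁅l₁, l₂⁆ = ⁅z₁ * l₁, z₂ * l₂⁆ := by
      simp only [commutatorElement_def]
      have c1 : ∀ l ∈ L, z₁ * l = l * z₁ := hZcent z₁ hz₁
      have c2 : ∀ l ∈ L, z₂ * l = l * z₂ := hZcent z₂ hz₂
      have c1' : ∀ l ∈ L, z₁⁻¹ * l = l * z₁⁻¹ := hZcent z₁⁻¹ (Z.inv_mem hz₁)
      have c2' : ∀ l ∈ L, z₂⁻¹ * l = l * z₂⁻¹ := hZcent z₂⁻¹ (Z.inv_mem hz₂)
      symm
      calc z₁ * l₁ * (z₂ * l₂) * (z₁ * l₁)⁻¹ * (z₂ * l₂)⁻¹
          = z₁ * (l₁ * (z₂ * l₂) * l₁⁻¹) * z₁⁻¹ * (l₂⁻¹ * z₂⁻¹) := by group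
        _ = (l₁ * (z₂ * l₂) * l₁⁻¹) * z₁ * z₁⁻¹ * (l₂⁻¹ * z₂⁻¹) := by
            rw [c1 _ (L.mul_mem (L.mul_mem hl₁ hL2) (L.inv_mem hl₁))]
        _ = l₁ * (z₂ * (l₂ * l₁⁻¹ * l₂⁻¹)) * z₂⁻¹ := by group
        _ = l₁ * ((l₂ * l₁⁻¹ * l₂⁻¹) * z₂) * z₂⁻¹ := by
            rw [c2 _ (L.mul_mem (L.mul_mem hl₂ (L.inv_mem hl₁)) (L.inv_mem hl₂))]
        _ = l₁ * l₂ * l₁⁻¹ * l₂⁻¹ := by group
    rw [e, commutatorElement_def]
    exact H.mul_mem (H.mul_mem (H.mul_mem hh₁ hh₂) (H.inv_mem hh₁)) (H.inv_mem hh₂)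
  have hdH : d ∈ H := by
    rw [hHmem]
    have e : d * d * d⁻¹ = d := by group
    rw [e]
  have hHtop : H = ⊤ := by
    rw [eq_top_iff, ← hgen]
    apply sup_le hLH
    rw [Subgroup.zpowers_le]; exact hdH
  -- conclusion
  have hRall : ∀ b ∈ D, R d b := by
    intro b hb
    obtain ⟨g, rfl⟩ := (hDmem b).mp hb
    have : g ∈ H := by rw [hHtop]; trivial
    exact this
  have hconv : ∀ a b : G, R a b → ∀ (ha : a ∈ D) (hb : b ∈ D),
      (Cfsg.commutingGraph D).Reachable ⟨a, ha⟩ ⟨b, hb⟩ := by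
    intro a b h
    induction h with
    | refl => intro ha hb; exact SimpleGraph.Reachable.refl _
    | @tail y w _ hstep ih =>
      intro ha hw
      obtain ⟨hy, _, hyw⟩ := hstep
      have h1 := ih ha hy
      by_cases heq : y = w
      · subst heq; exact h1
      · refine h1.trans (SimpleGraph.Adj.reachable ?_)
        simp only [Cfsg.commutingGraph, SimpleGraph.fromRel_adj]
        refine ⟨fun h => heq (congrArg Subtype.val h), Or.inl hyw⟩
  have hsymm := Rsymm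
  have : Nonempty D := ⟨⟨d, hdD⟩⟩
  refine ⟨fun a b => ?_⟩
  have h1 := hRall a.1 a.2
  have h2 := hRall b.1 b.2
  exact hconv _ _ (Relation.ReflTransGen.trans (hsymm _ _ h1) h2) a.2 b.2

end Cfsg.Agent.S5459
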