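import Cfsg.Statements.S5521
import Cfsg.Agent.Lib.Helper28.M24Normal
import Cfsg.Agent.Lib.Helper28.M24Five
import Cfsg.Agent.Lib.Helper28.M24Stab

set_option autoImplicit false
open Cfsg

namespace Cfsg.Agent.S5521

open Cfsg.Agent.Lib.Helper28 in
/-- witnesses: a non-identity element fixing `∞, 0, 1, 2, 3` and the point `a` -/
def h28_witP : Fin 24 → Fin 24 := ![5, 5, 5, 5, 14, 5, 14, 14, 14, 14, 14, 14, 14, 14, 5, 14, 14, 5, 14, 14, 14, 14, 14, 5]

open Cfsg.Agent.Lib.Helper28 in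
def h28_witQ : Fin 24 → Fin 24 := ![6, 6, 6, 6, 20, 6, 22, 13, 12, 6, 21, 11, 18, 15, 6, 7, 10, 6, 8, 4, 19, 16, 9, 6]

open Cfsg.Agent.Lib.Helper28 in
set_option maxRecDepth 100000 in
set_option maxHeartbeats 4000000 in
theorem h28_wit_spec : ∀ a : Fin 24,
    (∀ j : Fin 7, j.val < 5 → wordTab (m24tr 5 (h28_witP a) ++ m24tr 6 (h28_witQ a)) (m24base j) = m24base j) ∧
    wordTab (m24tr 5 (h28_witP a) ++ m24tr 6 (h28_witQ a)) a = a ∧
    ∃ c : Fin 24, wordTab (m24tr 5 (h28_witP a) ++ m24tr 6 (h28_witQ a)) c ≠ c := by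
  decide +kernel

open Cfsg.Agent.Lib.Helper28 in
theorem h28_exists_fix_six (x : Fin 5 ↪ GolayPt) (y : GolayPt) :
    ∃ g ∈ M24, g ≠ 1 ∧ (∀ i, g (x i) = x i) ∧ g y = y := by
  obtain ⟨h, hh, hx⟩ := M24_exists_map_base x
  obtain ⟨a, ha⟩ := Cfsg.Agent.Lib.Helper4.pt_bijective.2 (h⁻¹ y)
  obtain ⟨h1, h2, c, h3⟩ := h28_wit_spec a
  set w := m24tr 5 (h28_witP a) ++ m24tr 6 (h28_witQ a) with hw
  refine ⟨h * wordPerm w * h⁻¹, M24.mul_mem (M24.mul_mem hh (wordPerm_mem_M24 w)) (M24.inv_mem hh), ?_, ?_, ?_⟩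
  · intro hcon
    have h4 : wordPerm w = 1 := by
      have : wordPerm w = h⁻¹ * (h * wordPerm w * h⁻¹) * h := by group
      rw [this, hcon]; group
    have h5 : wordPerm w (Cfsg.Agent.Lib.Helper4.pt c) = Cfsg.Agent.Lib.Helper4.pt c := by rw [h4]; rfl
    rw [wordPerm_pt] at h5
    exact h3 (Cfsg.Agent.Lib.Helper4.pt_bijective.1 h5)
  · intro i
    have e1 : h⁻¹ (x i) = m24base5 i := by rw [← hx i]; simp
    simp only [Equiv.Perm.mul_apply]
    rw [e1]
    unfold m24base5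
    rw [wordPerm_pt, h1 _ (by simp)]
    exact hx i
  · simp only [Equiv.Perm.mul_apply]
    rw [← ha, wordPerm_pt, h2, ha]
    simp


/-- The Mathieu group M₂₄ in its natural action on the 24 coordinate positions of the binary Golay code has minimal base size exactly 7: every set of at most 6 positions is fixed pointwise by some non-identity element of M₂₄, while some set of 7 positions is fixed pointwise only by the identity. -/
theorem result :
    (∀ B : Finset Cfsg.GolayPt, B.card ≤ 6 → ∃ g ∈ Cfsg.M24, g ≠ 1 ∧ ∀ b ∈ B, g b = b) ∧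
    (∃ B : Finset Cfsg.GolayPt, B.card = 7 ∧ ∀ g ∈ Cfsg.M24, (∀ b ∈ B, g b = b) → g = 1) := by
  constructor
  · intro B hB
    obtain ⟨B', hBB', hB'⟩ := Finset.exists_superset_card_eq hB (by
      show 6 ≤ Fintype.card Cfsg.GolayPt
      rw [← Nat.card_eq_fintype_card, Cfsg.Agent.Lib.Helper28.natCard_golayPt]; norm_num)
    let e : Fin 6 ≃ ↥B' := (Finset.equivFinOfCardEq hB').symm
    let x : Fin 5 ↪ Cfsg.GolayPt :=
      (Fin.castSuccEmb.trans e.toEmbedding).trans (Function.Embedding.subtype _)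
    obtain ⟨g, hg, hg1, hgx, hgy⟩ := h28_exists_fix_six x (e (Fin.last 5)).1
    refine ⟨g, hg, hg1, fun b hb => ?_⟩
    have hb' : b ∈ B' := hBB' hb
    obtain ⟨i, hi⟩ := e.surjective ⟨b, hb'⟩
    have hbi : b = (e i).1 := by rw [hi]
    rw [hbi]
    rcases Fin.eq_castSucc_or_eq_last i with ⟨j, rfl⟩ | rfl
    · exact hgx j
    · exact hgy
  · refine ⟨Finset.univ.image (fun j : Fin 7 => Cfsg.Agent.Lib.Helper4.pt (Cfsg.Agent.Lib.Helper28.m24base j)), ?_, ?_⟩
    · rw [Finset.card_image_of_injective, Finset.card_univ, Fintype.card_fin]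
      intro i j hij
      have h1 := Cfsg.Agent.Lib.Helper4.pt_bijective.1 hij
      revert i j
      decide
    · intro g hg hfix
      apply Cfsg.Agent.Lib.Helper28.eq_one_of_fix_base hg
      intro j
      apply hfix
      rw [Finset.mem_image]
      exact ⟨j, Finset.mem_univ _, rfl⟩


end Cfsg.Agent.S5521
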