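import Cfsg.Statements.S5529
import Cfsg.Agent.Lib.Helper28.M23Gen
import Cfsg.Agent.Lib.Helper28.M23GenData

set_option autoImplicit false
open Cfsg Cfsg.Agent.Lib.Helper28.M23Gen

namespace Cfsg.Agent.S5529

/-- Generation of the Mathieu group M₂₃ (the stabiliser of a point in the Mathieu group M₂₄ acting on 24 points) by triples of prime orders. Let p ≤ q ≤ r be primes dividing |M₂₃| = 10200960 = 2⁷·3²·5·7·11·23, not both p and q equal to 2. Then M₂₃ contains elements x, y, z of orders p, q, r with xyz = 1 and ⟨x, y⟩ = M₂₃ if and only if (p, q, r) is none of: (2, 3, r) for any r, (2, 5, 5), (2, 5, 7), (3, 3, 3), (3, 3, 5), (3, 3, 7). -/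
theorem result (p q r : ℕ) (hp : p.Prime) (hq : q.Prime)
    (hr : r.Prime) (hpq : p ≤ q) (hqr : q ≤ r) (hp2 : ¬ (p = 2 ∧ q = 2))
    (hdvd : p ∣ 10200960 ∧ q ∣ 10200960 ∧ r ∣ 10200960) :
    (∃ x y z : Cfsg.Spor.M23, orderOf x = p ∧ orderOf y = q ∧ orderOf z = r ∧ x * y * z = 1 ∧
        Subgroup.closure {x, y} = ⊤) ↔
      ¬ ((p = 2 ∧ q = 3) ∨ (p = 2 ∧ q = 5 ∧ r = 5) ∨ (p = 2 ∧ q = 5 ∧ r = 7) ∨ (p = 3 ∧ q = 3 ∧ r ≤ 7)) := by
  have key : ∀ n : ℕ, n.Prime → n ∣ 10200960 →
      n = 2 ∨ n = 3 ∨ n = 5 ∨ n = 7 ∨ n = 11 ∨ n = 23 := by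
    intro n hn hd
    have h : n ∣ 2 ^ 7 * 3 ^ 2 * 5 * 7 * 11 * 23 := by
      have : 2 ^ 7 * 3 ^ 2 * 5 * 7 * 11 * 23 = 10200960 := by norm_num
      rw [this]; exact hd
    rcases (Nat.Prime.dvd_mul hn).mp h with h | h
    · rcases (Nat.Prime.dvd_mul hn).mp h with h | h
      · rcases (Nat.Prime.dvd_mul hn).mp h with h | h
        · rcases (Nat.Prime.dvd_mul hn).mp h with h | h
          · rcases (Nat.Prime.dvd_mul hn).mp h with h | h
            · left
              exact (Nat.prime_dvd_prime_iff_eq hn Nat.prime_two).mp (hn.dvd_of_dvd_pow h)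
            · right; left
              exact (Nat.prime_dvd_prime_iff_eq hn Nat.prime_three).mp (hn.dvd_of_dvd_pow h)
          · right; right; left
            exact (Nat.prime_dvd_prime_iff_eq hn (by norm_num)).mp h
        · right; right; right; left
          exact (Nat.prime_dvd_prime_iff_eq hn (by norm_num)).mp h
      · right; right; right; right; left
        exact (Nat.prime_dvd_prime_iff_eq hn (by norm_num)).mp h
    · right; right; right; right; right
      exact (Nat.prime_dvd_prime_iff_eq hn (by norm_num)).mp h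
  constructor
  · rintro ⟨x, y, z, hx, hy, hz, hxyz, hgen⟩
    exact neg_case p q r hr hqr x y z hx hy hz hxyz hgen
  · intro hneg
    rcases key p hp hdvd.1 with rfl | rfl | rfl | rfl | rfl | rfl <;>
    rcases key q hq hdvd.2.1 with rfl | rfl | rfl | rfl | rfl | rfl <;>
    rcases key r hr hdvd.2.2 with rfl | rfl | rfl | rfl | rfl | rfl
    · exact absurd ⟨rfl, rfl⟩ hp2
    · exact absurd ⟨rfl, rfl⟩ hp2
    · exact absurd ⟨rfl, rfl⟩ hp2
    · exact absurd ⟨rfl, rfl⟩ hp2
    · exact absurd ⟨rfl, rfl⟩ hp2
    · exact absurd ⟨rfl, rfl⟩ hp2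
    · omega
    · exact absurd (by decide) hneg
    · exact absurd (by decide) hneg
    · exact absurd (by decide) hneg
    · exact absurd (by decide) hneg
    · exact absurd (by decide) hneg
    · omega
    · omega
    · exact absurd (by decide) hneg
    · exact absurd (by decide) hneg
    · exact pos_case _ _ _ hp hq hr _ _ _ posOK_2_5_11
    · exact pos_case _ _ _ hp hq hr _ _ _ posOK_2_5_23
    · omega
    · omega
    · omega
    · exact pos_case _ _ _ hp hq hr _ _ _ posOK_2_7_7
    · exact pos_case _ _ _ hp hq hr _ _ _ posOK_2_7_11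
    · exact pos_case _ _ _ hp hq hr _ _ _ posOK_2_7_23
    · omega
    · omega
    · omega
    · omega
    · exact pos_case _ _ _ hp hq hr _ _ _ posOK_2_11_11
    · exact pos_case _ _ _ hp hq hr _ _ _ posOK_2_11_23
    · omega
    · omega
    · omega
    · omega
    · omega
    · exact pos_case _ _ _ hp hq hr _ _ _ posOK_2_23_23
    · omega
    · omega
    · omega
    · omega
    · omega
    · omega
    · omega
    · exact absurd (by decide) hneg
    · exact absurd (by decide) hneg
    · exact absurd (by decide) hneg
    · exact pos_case _ _ _ hp hq hr _ _ _ posOK_3_3_11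
    · exact pos_case _ _ _ hp hq hr _ _ _ posOK_3_3_23
    · omega
    · omega
    · exact pos_case _ _ _ hp hq hr _ _ _ posOK_3_5_5
    · exact pos_case _ _ _ hp hq hr _ _ _ posOK_3_5_7
    · exact pos_case _ _ _ hp hq hr _ _ _ posOK_3_5_11
    · exact pos_case _ _ _ hp hq hr _ _ _ posOK_3_5_23
    · omega
    · omega
    · omega
    · exact pos_case _ _ _ hp hq hr _ _ _ posOK_3_7_7
    · exact pos_case _ _ _ hp hq hr _ _ _ posOK_3_7_11
    · exact pos_case _ _ _ hp hq hr _ _ _ posOK_3_7_23
    · omega
    · omega
    · omega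
    · omega
    · exact pos_case _ _ _ hp hq hr _ _ _ posOK_3_11_11
    · exact pos_case _ _ _ hp hq hr _ _ _ posOK_3_11_23
    · omega
    · omega
    · omega
    · omega
    · omega
    · exact pos_case _ _ _ hp hq hr _ _ _ posOK_3_23_23
    · omega
    · omega
    · omega
    · omega
    · omega
    · omega
    · omega
    · omega
    · omega
    · omega
    · omega
    · omega
    · omega
    · omega
    · exact pos_case _ _ _ hp hq hr _ _ _ posOK_5_5_5
    · exact pos_case _ _ _ hp hq hr _ _ _ posOK_5_5_7
    · exact pos_case _ _ _ hp hq hr _ _ _ posOK_5_5_11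
    · exact pos_case _ _ _ hp hq hr _ _ _ posOK_5_5_23
    · omega
    · omega
    · omega
    · exact pos_case _ _ _ hp hq hr _ _ _ posOK_5_7_7
    · exact pos_case _ _ _ hp hq hr _ _ _ posOK_5_7_11
    · exact pos_case _ _ _ hp hq hr _ _ _ posOK_5_7_23
    · omega
    · omega
    · omega
    · omega
    · exact pos_case _ _ _ hp hq hr _ _ _ posOK_5_11_11
    · exact pos_case _ _ _ hp hq hr _ _ _ posOK_5_11_23
    · omega
    · omega
    · omega
    · omega
    · omega
    · exact pos_case _ _ _ hp hq hr _ _ _ posOK_5_23_23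
    · omega
    · omega
    · omega
    · omega
    · omega
    · omega
    · omega
    · omega
    · omega
    · omega
    · omega
    · omega
    · omega
    · omega
    · omega
    · omega
    · omega
    · omega
    · omega
    · omega
    · omega
    · exact pos_case _ _ _ hp hq hr _ _ _ posOK_7_7_7
    · exact pos_case _ _ _ hp hq hr _ _ _ posOK_7_7_11
    · exact pos_case _ _ _ hp hq hr _ _ _ posOK_7_7_23
    · omega
    · omega
    · omega
    · omega
    · exact pos_case _ _ _ hp hq hr _ _ _ posOK_7_11_11
    · exact pos_case _ _ _ hp hq hr _ _ _ posOK_7_11_23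
    · omega
    · omega
    · omega
    · omega
    · omega
    · exact pos_case _ _ _ hp hq hr _ _ _ posOK_7_23_23
    · omega
    · omega
    · omega
    · omega
    · omega
    · omega
    · omega
    · omega
    · omega
    · omega
    · omega
    · omega
    · omega
    · omega
    · omega
    · omega
    · omega
    · omega
    · omega
    · omega
    · omega
    · omega
    · omega
    · omega
    · omega
    · omega
    · omega
    · omega
    · exact pos_case _ _ _ hp hq hr _ _ _ posOK_11_11_11
    · exact pos_case _ _ _ hp hq hr _ _ _ posOK_11_11_23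
    · omega
    · omega
    · omega
    · omega
    · omega
    · exact pos_case _ _ _ hp hq hr _ _ _ posOK_11_23_23
    · omega
    · omega
    · omega
    · omega
    · omega
    · omega
    · omega
    · omega
    · omega
    · omega
    · omega
    · omega
    · omega
    · omega
    · omega
    · omega
    · omega
    · omega
    · omega
    · omega
    · omega
    · omega
    · omega
    · omega
    · omega
    · omega
    · omega
    · omega
    · omega
    · omega
    · omega
    · omega
    · omega
    · omega
    · omega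
    · exact pos_case _ _ _ hp hq hr _ _ _ posOK_23_23_23

end Cfsg.Agent.S5529
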