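import Cfsg.Statements.S5541

set_option autoImplicit false
open Cfsg

namespace Cfsg.Agent.S5541

theorem result {H : Type*} [Group H] {U : Type*} [AddCommGroup U] [Module ℝ U] [FiniteDimensional ℝ U] (ρ : Representation ℝ H U) (hirr : ∀ W : Submodule ℝ U, (∀ g : H, W.map (ρ g) ≤ W) → W = ⊥ ∨ W = ⊤) (B : LinearMap.BilinForm ℝ U) (hB0 : B ≠ 0) (hBs : ∀ u v, B u v = B v u) (hBi : ∀ (g : H) (u v : U), B (ρ g u) (ρ g v) = B u v) : (∃ m : U →ₗ[ℝ] U →ₗ[ℝ] U, m ≠ 0 ∧ (∀ u v, m u v = m v u) ∧ (∀ (g : H) (u v : U), m (ρ g u) (ρ g v) = ρ g (m u v)) ∧ ∀ m' : U →ₗ[ℝ] U →ₗ[ℝ] U, (∀ (g : H) (u v : U), m' (ρ g u) (ρ g v) = ρ g (m' u v)) → ∃ c : ℝ, m' = c • m) ↔ (∃ t : U →ₗ[ℝ] U →ₗ[ℝ] U →ₗ[ℝ] ℝ, t ≠ 0 ∧ (∀ u v w, t u v w = t v u w ∧ t u v w = t u w v) ∧ (∀ (g : H) (u v w : U), t (ρ g u) (ρ g v) (ρ g w) = t u v w) ∧ ∀ t' : U →ₗ[ℝ] U →ₗ[ℝ] U →ₗ[ℝ] ℝ, (∀ (g : H) (u v w : U), t' (ρ g u) (ρ g v) (ρ g w) = t' u v w) → ∃ c : ℝ, t' = c • t) := by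
  -- ρ g ρ g⁻¹ = id
  have hgg : ∀ (g : H) (w : U), ρ g (ρ g⁻¹ w) = w := by
    intro g w
    have : ρ g * ρ g⁻¹ = 1 := by rw [← map_mul, mul_inv_cancel, map_one]
    have h2 := congrArg (fun f : U →ₗ[ℝ] U => f w) this
    simpa using h2
  -- B is left-separating
  have hsep : ∀ x : U, (∀ y, B x y = 0) → x = 0 := by
    let K : Submodule ℝ U := LinearMap.ker B
    have hK : ∀ g : H, K.map (ρ g) ≤ K := by
      intro g
      rintro _ ⟨u, hu, rfl⟩
      have hu' : B u = 0 := hu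
      show B (ρ g u) = 0
      ext v
      have := hBi g u (ρ g⁻¹ v)
      rw [hgg] at this
      rw [this, hu']
      simp
    rcases hirr K hK with h | h
    · intro x hx
      have : x ∈ K := by
        show B x = 0
        ext y; simpa using hx y
      rw [h] at this
      simpa using this
    · exfalso
      apply hB0
      ext u v
      have : u ∈ K := by rw [h]; trivial
      have hu' : B u = 0 := this
      rw [hu']; simp
  have hnd : B.Nondegenerate := by
    refine ⟨hsep, ?_⟩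
    intro y hy
    apply hsep
    intro x
    rw [hBs]; exact hy x
  let β := B.toDual hnd
  have hβ : ∀ (f : Module.Dual ℝ U) (w : U), B (β.symm f) w = f w := fun f w =>
    LinearMap.BilinForm.apply_toDual_symm_apply (B := B) (hB := hnd) f w
  have hext : ∀ x y : U, (∀ w, B x w = B y w) → x = y := by
    intro x y h
    have : x - y = 0 := by
      apply hsep
      intro w
      rw [map_sub, LinearMap.sub_apply, h w, sub_self]
    exact sub_eq_zero.mp this
  -- trilinear from bilinear and back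
  -- m ↦ t := m.compr₂ B ; t ↦ m := t.compr₂ β.symm
  have key1 : ∀ m : U →ₗ[ℝ] U →ₗ[ℝ] U,
      (∀ (g : H) (u v : U), m (ρ g u) (ρ g v) = ρ g (m u v)) →
      ∀ (g : H) (u v w : U), (m.compr₂ B) (ρ g u) (ρ g v) (ρ g w) = (m.compr₂ B) u v w := by
    intro m hm g u v w
    simp only [LinearMap.compr₂_apply]
    rw [hm, hBi]
  have key2 : ∀ t : U →ₗ[ℝ] U →ₗ[ℝ] U →ₗ[ℝ] ℝ,
      (∀ (g : H) (u v w : U), t (ρ g u) (ρ g v) (ρ g w) = t u v w) →
      ∀ (g : H) (u v : U), (t.compr₂ β.symm.toLinearMap) (ρ g u) (ρ g v) =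
        ρ g ((t.compr₂ β.symm.toLinearMap) u v) := by
    intro t ht g u v
    apply hext
    intro w
    simp only [LinearMap.compr₂_apply, LinearEquiv.coe_coe]
    rw [hβ]
    have h1 := ht g u v (ρ g⁻¹ w)
    rw [hgg] at h1
    rw [h1]
    have h2 := hBi g (β.symm (t u v)) (ρ g⁻¹ w)
    rw [hgg] at h2
    rw [h2, hβ]
  constructor
  · rintro ⟨m, hm0, hms, hmi, hmu⟩
    set t := m.compr₂ B with ht
    have htapp : ∀ u v w, t u v w = B (m u v) w := fun u v w => rfl
    have ht0 : t ≠ 0 := by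
      intro h
      apply hm0
      ext u v
      have : m u v = 0 := by
        apply hsep
        intro w
        rw [← htapp, h]; simp
      rw [this]; simp
    have hti := key1 m hmi
    have htu : ∀ t' : U →ₗ[ℝ] U →ₗ[ℝ] U →ₗ[ℝ] ℝ, (∀ (g : H) (u v w : U), t' (ρ g u) (ρ g v) (ρ g w) = t' u v w) → ∃ c : ℝ, t' = c • t := by
      intro t' ht'
      obtain ⟨c, hc⟩ := hmu _ (key2 t' ht')
      refine ⟨c, ?_⟩
      ext u v w
      have h1 := congrArg (fun f : U →ₗ[ℝ] U →ₗ[ℝ] U => B (f u v) w) hc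
      simp only [LinearMap.compr₂_apply, LinearEquiv.coe_coe, LinearMap.smul_apply] at h1
      rw [hβ] at h1
      rw [h1]
      simp only [LinearMap.smul_apply, map_smul, htapp]
    have hs1 : ∀ u v w, t u v w = t v u w := by
      intro u v w; rw [htapp, htapp, hms]
    -- flipped form
    obtain ⟨c, hc⟩ := htu (LinearMap.lflip.comp t) (by
      intro g u v w
      simp only [LinearMap.comp_apply, LinearMap.lflip_apply]
      exact hti g u w v)
    have hA : ∀ u v w, t u w v = c * t u v w := by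
      intro u v w
      have h1 := congrArg (fun f : U →ₗ[ℝ] U →ₗ[ℝ] U →ₗ[ℝ] ℝ => f u v w) hc
      simpa [LinearMap.lflip_apply] using h1
    -- some nonzero value
    have hex : ∃ u v w, t u v w ≠ 0 := by
      by_contra h
      push Not at h
      apply ht0
      ext u v w
      simpa using h u v w
    obtain ⟨u₀, v₀, w₀, h0⟩ := hex
    have hc3 : c * c * c = 1 := by
      have e : t u₀ v₀ w₀ = c * (c * (c * t u₀ v₀ w₀)) := by
        calc t u₀ v₀ w₀ = t v₀ u₀ w₀ := hs1 _ _ _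
          _ = c * t v₀ w₀ u₀ := hA _ _ _
          _ = c * t w₀ v₀ u₀ := by rw [hs1 v₀ w₀ u₀]
          _ = c * (c * t w₀ u₀ v₀) := by rw [hA w₀ u₀ v₀]
          _ = c * (c * t u₀ w₀ v₀) := by rw [hs1 w₀ u₀ v₀]
          _ = c * (c * (c * t u₀ v₀ w₀)) := by rw [hA u₀ v₀ w₀]
      have e2 : (c * c * c - 1) * t u₀ v₀ w₀ = 0 := by linarith
      rcases mul_eq_zero.mp e2 with h | h
      · linarith
      · exact absurd h h0
    have hc1 : c = 1 := by
      have : (c - 1) * (c * c + c + 1) = 0 := by ring_nf; ring_nf at hc3; linarith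
      rcases mul_eq_zero.mp this with h | h
      · linarith
      · nlinarith [sq_nonneg (c + 1), sq_nonneg c]
    refine ⟨t, ht0, ?_, hti, htu⟩
    intro u v w
    refine ⟨hs1 u v w, ?_⟩
    have := hA u v w
    rw [hc1, one_mul] at this
    exact this.symm
  · rintro ⟨t, ht0, hts, hti, htu⟩
    set m := t.compr₂ β.symm.toLinearMap with hm
    have hmapp : ∀ u v w, B (m u v) w = t u v w := by
      intro u v w
      simp only [hm, LinearMap.compr₂_apply, LinearEquiv.coe_coe]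
      rw [hβ]
    refine ⟨m, ?_, ?_, key2 t hti, ?_⟩
    · intro h
      apply ht0
      ext u v w
      rw [← hmapp, h]; simp
    · intro u v
      apply hext
      intro w
      rw [hmapp, hmapp]; exact (hts u v w).1
    · intro m' hm'
      obtain ⟨c, hc⟩ := htu _ (key1 m' hm')
      refine ⟨c, ?_⟩
      ext u v
      apply hext
      intro w
      have h1 := congrArg (fun f : U →ₗ[ℝ] U →ₗ[ℝ] U →ₗ[ℝ] ℝ => f u v w) hc
      simp only [LinearMap.compr₂_apply, LinearMap.smul_apply] at h1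
      rw [h1]
      simp only [LinearMap.smul_apply, map_smul, hmapp, smul_eq_mul]

end Cfsg.Agent.S5541
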