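import Cfsg.Statements.S5543

set_option autoImplicit false
open Cfsg

namespace Cfsg.Agent.S5543

theorem h28_pick {α : Type*} (X : Set α) (S : Finset α) (h : S.card < Nat.card X) :
    ∃ z ∈ X, z ∉ S := by
  by_contra hcon
  push Not at hcon
  have hsub : X ⊆ (↑S : Set α) := fun z hz => hcon z hz
  have h1 : Nat.card X ≤ Nat.card (↑S : Set α) := Nat.card_mono (Finset.finite_toSet S) hsub
  have h2 : Nat.card (↑S : Set α) = S.card := by
    rw [Nat.card_coe_set_eq, Set.ncard_coe_finset]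
  omega

theorem result {V : Type*} [AddCommGroup V] [Module ℝ V] [FiniteDimensional ℝ V] (mul : V →ₗ[ℝ] V →ₗ[ℝ] V) (B : LinearMap.BilinForm ℝ V) (hV : Cfsg.Axial.IsMajoranaAmbient mul B) (X : Subgroup (V ≃ₗ[ℝ] V)) (hX : ∀ x ∈ X, x * x = 1) (ax : (V ≃ₗ[ℝ] V) → V) (hax : ∀ x ∈ X, x ≠ 1 → Cfsg.Axial.IsMajoranaPair mul B x (ax x)) (h1 : ∀ x ∈ X, x ≠ 1 → B (ax x) (ax x) = 1) (h2A : ∀ x ∈ X, ∀ y ∈ X, x ≠ 1 → y ≠ 1 → x ≠ y → mul (ax x) (ax y) = (1 / 8 : ℝ) • (ax x + ax y - ax (x * y))) : Nat.card ↥X ≤ 4 := by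
  classical
  by_contra hcard
  push Not at hcard
  obtain ⟨-, -, -, hfrob, -⟩ := hV
  -- commutativity in X
  have hinv : ∀ x ∈ X, x⁻¹ = x := fun x hx => inv_eq_of_mul_eq_one_left (hX x hx)
  have hcomm : ∀ x ∈ X, ∀ y ∈ X, x * y = y * x := by
    intro x hx y hy
    have h := hX (x * y) (X.mul_mem hx hy)
    have : x * y = (x * y)⁻¹ := (hinv _ (X.mul_mem hx hy)).symm
    rw [this, mul_inv_rev, hinv x hx, hinv y hy]
  -- pick three independent elements
  have hcardX : Nat.card (X : Set (V ≃ₗ[ℝ] V)) = Nat.card X := rfl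
  obtain ⟨x, hxX, hx⟩ := h28_pick (X : Set (V ≃ₗ[ℝ] V)) {1} (by rw [hcardX]; simp; omega)
  obtain ⟨y, hyX, hy⟩ := h28_pick (X : Set (V ≃ₗ[ℝ] V)) {1, x} (by
    rw [hcardX]
    have := Finset.card_le_two (a := (1 : V ≃ₗ[ℝ] V)) (b := x)
    omega)
  obtain ⟨z, hzX, hz⟩ := h28_pick (X : Set (V ≃ₗ[ℝ] V)) {1, x, y, x * y} (by
    rw [hcardX]
    have := Finset.card_le_four (a := (1 : V ≃ₗ[ℝ] V)) (b := x) (c := y) (d := x * y)
    omega)
  have hxX' : x ∈ X := hxX
  have hyX' : y ∈ X := hyX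
  have hzX' : z ∈ X := hzX
  simp only [Finset.mem_singleton] at hx
  simp only [Finset.mem_insert, Finset.mem_singleton, not_or] at hy hz
  obtain ⟨hy1, hyx⟩ := hy
  obtain ⟨hz1, hzx, hzy, hzxy⟩ := hz
  have hxx := hX x hxX'
  have hyy := hX y hyX'
  have hzz := hX z hzX'
  -- names
  set p := x * y with hp
  set q := x * z with hq
  set r := y * z with hr
  set t := y * (x * z) with ht
  have hpX : p ∈ X := X.mul_mem hxX' hyX'
  have hqX : q ∈ X := X.mul_mem hxX' hzX'
  have hrX : r ∈ X := X.mul_mem hyX' hzX'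
  have htX : t ∈ X := X.mul_mem hyX' hqX
  -- group identities
  have e_xp : x * p = y := by rw [hp, ← mul_assoc, hxx, one_mul]
  have e_xq : x * q = z := by rw [hq, ← mul_assoc, hxx, one_mul]
  have e_pz : p * z = t := by rw [hp, ht, hcomm x hxX' y hyX', mul_assoc]
  have e_pq : p * q = r := by
    rw [hp, hq, hr, hcomm x hxX' y hyX', mul_assoc, ← mul_assoc x x z, hxx, one_mul]
  have e_xr : x * r = t := by
    rw [hr, ht, ← mul_assoc, hcomm x hxX' y hyX', mul_assoc]
  have e_xt : x * t = r := by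
    rw [ht, hr, ← mul_assoc, hcomm x hxX' y hyX', mul_assoc, ← mul_assoc x x z, hxx, one_mul]
  -- inequalities
  have mul_eq_one_imp : ∀ a ∈ X, ∀ b ∈ X, a * b = 1 → a = b := by
    intro a ha b hb hab
    have := eq_inv_of_mul_eq_one_left hab
    rw [hinv b hb] at this
    exact this
  have hp1 : p ≠ 1 := fun h => hyx (mul_eq_one_imp x hxX' y hyX' h).symm
  have hq1 : q ≠ 1 := fun h => hzx (mul_eq_one_imp x hxX' z hzX' h).symm
  have hr1 : r ≠ 1 := fun h => hzy (mul_eq_one_imp y hyX' z hzX' h).symm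
  have ht1 : t ≠ 1 := by
    intro h
    rw [← e_pz] at h
    exact hzxy (mul_eq_one_imp p hpX z hzX' h).symm
  have hxp : x ≠ p := by
    intro h
    apply hy1
    have : x * 1 = x * y := by rw [mul_one]; exact h
    exact (mul_left_cancel this).symm
  have hxq : x ≠ q := by
    intro h
    apply hz1
    have : x * 1 = x * z := by rw [mul_one]; exact h
    exact (mul_left_cancel this).symm
  have hyz : y ≠ z := fun h => hzy h.symm
  have hyq : y ≠ q := by
    intro h
    apply hzxy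
    rw [hp, h, e_xq]
  have hpz : p ≠ z := fun h => hzxy h.symm
  have hpq : p ≠ q := by
    intro h
    exact hyz (mul_left_cancel h)
  have hxr : x ≠ r := by
    intro h
    apply hzxy
    rw [hp, h, hr, hcomm y hyX' z hzX', mul_assoc, hyy, mul_one]
  have hxt : x ≠ t := by
    intro h
    apply hr1
    rw [← e_xt, ← h, hxx]
  have hrt : r ≠ t := by
    intro h
    apply hxq
    have : y * z = y * (x * z) := h
    have h2 := mul_left_cancel this
    have : 1 * z = x * z := by rw [one_mul]; exact h2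
    exact absurd (mul_right_cancel this).symm hx
  -- the 2A products
  have m_yz := h2A y hyX' z hzX' hy1 hz1 hyz
  have m_yq := h2A y hyX' q hqX hy1 hq1 hyq
  have m_pz := h2A p hpX z hzX' hp1 hz1 hpz
  have m_pq := h2A p hpX q hqX hp1 hq1 hpq
  have m_xy := h2A x hxX' y hyX' hx hy1 (fun h => hyx h.symm)
  have m_xp := h2A x hxX' p hpX hx hp1 hxp
  have m_xz := h2A x hxX' z hzX' hx hz1 (fun h => hzx h.symm)
  have m_xq := h2A x hxX' q hqX hx hq1 hxq
  have m_xr := h2A x hxX' r hrX hx hr1 hxr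
  have m_xt := h2A x hxX' t htX hx ht1 hxt
  rw [e_pz] at m_pz
  rw [e_pq] at m_pq
  rw [e_xp] at m_xp
  rw [e_xq] at m_xq
  rw [e_xr] at m_xr
  rw [e_xt] at m_xt
  -- eigenvectors of a_x
  set L := mul (ax x) with hL
  have ev_y : L (ax y - ax p) = (1 / 4 : ℝ) • (ax y - ax p) := by
    rw [map_sub, hL, m_xy, m_xp]; module
  have ev_z : L (ax z - ax q) = (1 / 4 : ℝ) • (ax z - ax q) := by
    rw [map_sub, hL, m_xz, m_xq]; module
  have ev_w : L (ax t - ax r) = (1 / 4 : ℝ) • (ax t - ax r) := by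
    rw [map_sub, hL, m_xt, m_xr]; module
  -- product of the two eigenvectors
  have hprod : mul (ax y - ax p) (ax z - ax q) = (1 / 4 : ℝ) • (ax t - ax r) := by
    have e : mul (ax y - ax p) (ax z - ax q) = mul (ax y) (ax z) - mul (ax y) (ax q) - (mul (ax p) (ax z) - mul (ax p) (ax q)) := by
      simp only [map_sub, LinearMap.sub_apply]
      abel
    have : mul (ax y) (ax q) = (1 / 8 : ℝ) • (ax y + ax q - ax t) := m_yq
    rw [e, m_yz, m_pz, m_pq, this]; module
  -- fusion law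
  obtain ⟨-, -, ⟨⟨-, hidem, -, hfus⟩, -⟩, -⟩ := hax x hxX' hx
  have hmem14 : (1 / 4 : ℝ) ∈ Cfsg.Axial.majoranaSpectrum := by
    simp [Cfsg.Axial.majoranaSpectrum]
  have hf := hfus (1 / 4) hmem14 (1 / 4) hmem14 (ax y - ax p)
    (Module.End.mem_eigenspace_iff.mpr ev_y) (ax z - ax q) (Module.End.mem_eigenspace_iff.mpr ev_z)
  have hlaw : Cfsg.Axial.monsterLaw (1 / 4 : ℝ) (1 / 32) (1 / 4) (1 / 4) = {1, 0} := by
    unfold Cfsg.Axial.monsterLaw
    norm_num
  rw [hlaw, hprod] at hf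
  have hf2 : (ax t - ax r) ∈ Cfsg.Axial.eigenSum mul (ax x) {1, 0} := by
    have := Submodule.smul_mem _ (4 : ℝ) hf
    rwa [smul_smul, show (4 : ℝ) * (1 / 4) = 1 by norm_num, one_smul] at this
  have hf3 : (ax t - ax r) ∈ Cfsg.Axial.eigen mul (ax x) 1 ⊔ Cfsg.Axial.eigen mul (ax x) 0 := by
    have : Cfsg.Axial.eigenSum mul (ax x) {1, 0} = Cfsg.Axial.eigen mul (ax x) 1 ⊔ Cfsg.Axial.eigen mul (ax x) 0 := by
      unfold Cfsg.Axial.eigenSum
      rw [iSup_insert, iSup_singleton]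
    rwa [this] at hf2
  obtain ⟨v1, hv1, v0, hv0, hsum⟩ := Submodule.mem_sup.mp hf3
  have hv1' : L v1 = v1 := by
    have := Module.End.mem_eigenspace_iff.mp hv1
    rw [one_smul] at this; exact this
  have hv0' : L v0 = 0 := by
    have := Module.End.mem_eigenspace_iff.mp hv0
    rw [zero_smul] at this; exact this
  -- w = 0
  have hw0 : ax t - ax r = 0 := by
    set w := ax t - ax r with hw
    have e1 : L w = v1 := by rw [← hsum, map_add, hv1', hv0', add_zero]
    have e2 : v1 = (1 / 4 : ℝ) • w := by rw [← e1, ev_w]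
    have e3 : L v1 = (1 / 4 : ℝ) • ((1 / 4 : ℝ) • w) := by rw [e2, map_smul, ev_w]
    rw [hv1', e2] at e3
    have e4 : ((1 / 4 : ℝ) - (1 / 4) * (1 / 4)) • w = 0 := by
      rw [sub_smul, ← smul_smul, ← e3, sub_self]
    rcases smul_eq_zero.mp e4 with h | h
    · norm_num at h
    · exact h
  have htr : ax t = ax r := sub_eq_zero.mp hw0
  -- inner product 1/8
  have idem : ∀ s ∈ X, s ≠ 1 → mul (ax s) (ax s) = ax s := by
    intro s hs hs1
    obtain ⟨-, -, ⟨⟨-, hid, -, -⟩, -⟩, -⟩ := hax s hs hs1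
    exact hid
  have IP : B (ax r) (ax t) = 1 / 8 := by
    have hrt1 : r * t ≠ 1 := fun h => hrt (mul_eq_one_imp r hrX t htX h)
    have hr_rt : r ≠ r * t := by
      intro h
      apply ht1
      have : r * 1 = r * t := by rw [mul_one]; exact h
      exact (mul_left_cancel this).symm
    have m1 := h2A r hrX t htX hr1 ht1 hrt
    have m2 := h2A r hrX (r * t) (X.mul_mem hrX htX) hr1 hrt1 hr_rt
    have e : r * (r * t) = t := by rw [← mul_assoc, hX r hrX, one_mul]
    rw [e] at m2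
    have f1 := hfrob (ax r) (ax r) (ax t)
    have f2 := hfrob (ax r) (ax r) (ax (r * t))
    rw [idem r hrX hr1] at f1 f2
    rw [m1] at f1
    rw [m2] at f2
    simp only [map_smul, map_add, map_sub, smul_eq_mul, h1 r hrX hr1] at f1 f2
    linarith
  rw [htr, h1 r hrX hr1] at IP
  norm_num at IP

end Cfsg.Agent.S5543
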