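import Cfsg.Statements.S5545

set_option autoImplicit false
open Cfsg

namespace Cfsg.Agent.S5545

open Cfsg.Axial

variable {V : Type*} [AddCommGroup V] [Module ℝ V]

/-- eigenspaces transported by an automorphism of the product -/
theorem h28_eigen_map (mul : V →ₗ[ℝ] V →ₗ[ℝ] V) (μ : V ≃ₗ[ℝ] V)
    (hμ : ∀ u v : V, μ (mul u v) = mul (μ u) (μ v)) (a : V) (c : ℝ) :
    eigen mul (μ a) c = (eigen mul a c).map (μ : V →ₗ[ℝ] V) := by
  ext v
  simp only [eigen, Submodule.mem_map, Module.End.mem_eigenspace_iff]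
  constructor
  · intro h
    refine ⟨μ.symm v, ?_, by simp⟩
    apply μ.injective
    rw [hμ, LinearEquiv.apply_symm_apply, h, map_smul, LinearEquiv.apply_symm_apply]
  · rintro ⟨w, hw, rfl⟩
    simp only [LinearEquiv.coe_coe]
    rw [← hμ, hw, map_smul]

theorem h28_eigenSum_map (mul : V →ₗ[ℝ] V →ₗ[ℝ] V) (μ : V ≃ₗ[ℝ] V)
    (hμ : ∀ u v : V, μ (mul u v) = mul (μ u) (μ v)) (a : V) (S : Set ℝ) :
    eigenSum mul (μ a) S = (eigenSum mul a S).map (μ : V →ₗ[ℝ] V) := by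
  simp only [eigenSum, Submodule.map_iSup, h28_eigen_map mul μ hμ]

/-- transport of a Majorana pair by an automorphism commuting with the involution -/
theorem h28_pair_transport (mul : V →ₗ[ℝ] V →ₗ[ℝ] V) (B : LinearMap.BilinForm ℝ V)
    (μ₀ μ₁ : V ≃ₗ[ℝ] V) (a₀ : V) (h₀ : IsMajoranaPair mul B μ₀ a₀)
    (hμ₁ : ∀ u v : V, μ₁ (mul u v) = mul (μ₁ u) (μ₁ v)) (hc : μ₀ * μ₁ = μ₁ * μ₀) :
    IsMajoranaPair mul B μ₀ (μ₁ a₀) := by
  obtain ⟨hm, hB, ⟨⟨hne, hid, htop, hfus⟩, hprim⟩, hmiy1, hmiy2⟩ := h₀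
  have hcomm : ∀ x : V, μ₀ (μ₁ x) = μ₁ (μ₀ x) := by
    intro x
    have := congrArg (fun f : V ≃ₗ[ℝ] V => f x) hc
    simpa using this
  refine ⟨hm, hB, ⟨⟨?_, ?_, ?_, ?_⟩, ?_⟩, ?_, ?_⟩
  · intro h
    apply hne
    apply μ₁.injective
    rw [h, map_zero]
  · rw [← hμ₁, hid]
  · rw [h28_eigenSum_map mul μ₁ hμ₁, htop, Submodule.map_top]
    exact LinearMap.range_eq_top.mpr μ₁.surjective
  · intro c hcS d hdS u hu v hv
    rw [h28_eigen_map mul μ₁ hμ₁] at hu hv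
    obtain ⟨u', hu', rfl⟩ := hu
    obtain ⟨v', hv', rfl⟩ := hv
    rw [h28_eigenSum_map mul μ₁ hμ₁]
    refine ⟨mul u' v', hfus c hcS d hdS u' hu' v' hv', ?_⟩
    simp only [LinearEquiv.coe_coe]
    exact hμ₁ u' v'
  · rw [h28_eigen_map mul μ₁ hμ₁, hprim, Submodule.map_span, Set.image_singleton]
    rfl
  · intro v hv
    rw [h28_eigenSum_map mul μ₁ hμ₁] at hv
    obtain ⟨v', hv', rfl⟩ := hv
    simp only [LinearEquiv.coe_coe]
    rw [hcomm]
    have := hmiy1 v' hv'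
    simp only [LinearEquiv.coe_coe] at this
    rw [this]
  · intro v hv
    rw [h28_eigen_map mul μ₁ hμ₁] at hv
    obtain ⟨v', hv', rfl⟩ := hv
    simp only [LinearEquiv.coe_coe]
    rw [hcomm]
    have := hmiy2 v' hv'
    simp only [LinearEquiv.coe_coe] at this
    rw [this, map_neg]


theorem h28_law_00 : monsterLaw (1 / 4 : ℝ) (1 / 32) 0 0 = {0} := by
  unfold monsterLaw; norm_num

theorem h28_law_04 : monsterLaw (1 / 4 : ℝ) (1 / 32) 0 (1 / 4) = {1 / 4} := by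
  unfold monsterLaw; norm_num

theorem h28_law_44 : monsterLaw (1 / 4 : ℝ) (1 / 32) (1 / 4) (1 / 4) = {1, 0} := by
  unfold monsterLaw; norm_num

theorem h28_eigenSum_singleton (mul : V →ₗ[ℝ] V →ₗ[ℝ] V) (a : V) (c : ℝ) :
    eigenSum mul a {c} = eigen mul a c := by
  unfold eigenSum; rw [iSup_singleton]

theorem h28_eigenSum_pair (mul : V →ₗ[ℝ] V →ₗ[ℝ] V) (a : V) (c d : ℝ) :
    eigenSum mul a {c, d} = eigen mul a c ⊔ eigen mul a d := by
  unfold eigenSum; rw [iSup_insert, iSup_singleton]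

/-- independence of the `1/4`-eigenspace from the sum of the `1`- and `0`-eigenspaces -/
theorem h28_indep (L : V →ₗ[ℝ] V) (x1 x0 y : V) (h1 : L x1 = x1) (h0 : L x0 = 0)
    (hy : L y = (1 / 4 : ℝ) • y) (hsum : x1 + x0 + y = 0) : y = 0 := by
  have e1 : x1 + (1 / 4 : ℝ) • y = 0 := by
    have := congrArg L hsum
    rw [map_add, map_add, h1, h0, hy, map_zero, add_zero] at this
    exact this
  have e2 : x1 + (1 / 16 : ℝ) • y = 0 := by
    have := congrArg L e1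
    rw [map_add, map_smul, h1, hy, map_zero, smul_smul] at this
    norm_num at this
    exact this
  have e3 : ((1 / 4 : ℝ) - 1 / 16) • y = 0 := by
    rw [sub_smul]
    have : (1 / 4 : ℝ) • y - (1 / 16 : ℝ) • y = (x1 + (1 / 4 : ℝ) • y) - (x1 + (1 / 16 : ℝ) • y) := by abel
    rw [this, e1, e2, sub_zero]
  rcases smul_eq_zero.mp e3 with h | h
  · norm_num at h
  · exact h

/-- decomposition of a vector fixed by the Majorana involution -/
theorem h28_decomp (mul : V →ₗ[ℝ] V →ₗ[ℝ] V) (B : LinearMap.BilinForm ℝ V)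
    (μ : V ≃ₗ[ℝ] V) (a : V) (h : IsMajoranaPair mul B μ a) (x : V) (hx : μ x = x) :
    ∃ (l : ℝ) (u w : V), x = l • a + u + w ∧ mul a u = 0 ∧ mul a w = (1 / 4 : ℝ) • w := by
  obtain ⟨-, -, ⟨⟨-, -, htop, -⟩, hprim⟩, hmiy1, hmiy2⟩ := h
  have hx' : x ∈ eigenSum mul a majoranaSpectrum := by rw [htop]; trivial
  have hspec : eigenSum mul a majoranaSpectrum =
      eigen mul a 1 ⊔ (eigen mul a 0 ⊔ (eigen mul a (1 / 4) ⊔ eigen mul a (1 / 32))) := by
    unfold eigenSum majoranaSpectrum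
    rw [iSup_insert, iSup_insert, iSup_insert, iSup_singleton]
  rw [hspec] at hx'
  obtain ⟨x1, hx1, r1, hr1, e1⟩ := Submodule.mem_sup.mp hx'
  obtain ⟨x0, hx0, r2, hr2, e2⟩ := Submodule.mem_sup.mp hr1
  obtain ⟨x4, hx4, x32, hx32, e3⟩ := Submodule.mem_sup.mp hr2
  have hplus : x1 + x0 + x4 ∈ eigenSum mul a {1, 0, 1 / 4} := by
    unfold eigenSum
    rw [iSup_insert, iSup_insert, iSup_singleton]
    exact Submodule.add_mem _ (Submodule.add_mem _ (Submodule.mem_sup_left hx1)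
      (Submodule.mem_sup_right (Submodule.mem_sup_left hx0)))
      (Submodule.mem_sup_right (Submodule.mem_sup_right hx4))
  have hfix := hmiy1 _ hplus
  have hneg := hmiy2 _ hx32
  simp only [LinearEquiv.coe_coe] at hfix hneg
  have hxe : x = (x1 + x0 + x4) + x32 := by rw [← e1, ← e2, ← e3]; abel
  have h32 : x32 = 0 := by
    have h1 : μ x = (x1 + x0 + x4) - x32 := by
      rw [hxe, map_add, hfix, hneg]; abel
    rw [hx] at h1
    have h2 : (2 : ℝ) • x32 = 0 := by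
      have : (2 : ℝ) • x32 = ((x1 + x0 + x4) + x32) - ((x1 + x0 + x4) - x32) := by
        rw [two_smul]; abel
      rw [this, ← hxe, ← h1, sub_self]
    rcases smul_eq_zero.mp h2 with h | h
    · norm_num at h
    · exact h
  rw [hprim] at hx1
  obtain ⟨l, rfl⟩ := Submodule.mem_span_singleton.mp hx1
  refine ⟨l, x0, x4, ?_, ?_, ?_⟩
  · rw [hxe, h32, add_zero]
  · have := Module.End.mem_eigenspace_iff.mp hx0
    rw [zero_smul] at this; exact this
  · exact Module.End.mem_eigenspace_iff.mp hx4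


/-- decomposition with the coefficient identified as the inner product, and the product rule (F) -/
theorem h28_F (mul : V →ₗ[ℝ] V →ₗ[ℝ] V) (B : LinearMap.BilinForm ℝ V)
    (hcm : ∀ u v : V, mul u v = mul v u)
    (hfrob : ∀ u v w : V, B u (mul v w) = B (mul u v) w)
    (μ : V ≃ₗ[ℝ] V) (a : V) (h : IsMajoranaPair mul B μ a) (hn : B a a = 1)
    (b : V) (hb : μ b = b) :
    ∃ (u w : V), b = (B b a) • a + u + w ∧ mul a u = 0 ∧ mul a w = (1 / 4 : ℝ) • w ∧
      mul a (mul a b) = (3 * B b a / 4) • a + (1 / 4 : ℝ) • mul a b := by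
  obtain ⟨l, u, w, hdec, hu, hw⟩ := h28_decomp mul B μ a h b hb
  have hid : mul a a = a := h.2.2.1.1.2.1
  have hua : B u a = 0 := by
    have := hfrob u a a
    rw [hid, hcm u a, hu] at this
    simpa using this
  have hwa : B w a = 0 := by
    have := hfrob w a a
    rw [hid, hcm w a, hw] at this
    simp only [map_smul, LinearMap.smul_apply, smul_eq_mul] at this
    linarith
  have hl : B b a = l := by
    rw [hdec]
    simp only [map_add, map_smul, LinearMap.add_apply, LinearMap.smul_apply, smul_eq_mul, hn, hua, hwa]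
    ring
  refine ⟨u, w, by rw [hl]; exact hdec, hu, hw, ?_⟩
  rw [hl]
  have hab : mul a b = l • a + (1 / 4 : ℝ) • w := by
    rw [hdec]
    simp only [map_add, map_smul, hid, hu, hw]
    module
  rw [hab]
  simp only [map_add, map_smul, hid, hw]
  module

/-- the formula for the square of the product -/
theorem h28_G (mul : V →ₗ[ℝ] V →ₗ[ℝ] V) (B : LinearMap.BilinForm ℝ V)
    (hcm : ∀ u v : V, mul u v = mul v u)
    (hfrob : ∀ u v w : V, B u (mul v w) = B (mul u v) w)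
    (μ : V ≃ₗ[ℝ] V) (a : V) (h : IsMajoranaPair mul B μ a) (hn : B a a = 1)
    (b : V) (hb : μ b = b) (hbb : mul b b = b)
    (hFb : mul b (mul b a) = (3 * B b a / 4) • b + (1 / 4 : ℝ) • mul b a) :
    (16 : ℝ) • mul (mul a b) (mul a b) =
      (3 * B b a) • b + (8 * (B b a) ^ 2 + 2 * B b a) • a + (4 * B b a - 1) • mul a b := by
  obtain ⟨u, w, hdec, hu, hw, hF⟩ := h28_F mul B hcm hfrob μ a h hn b hb
  set l := B b a with hl
  set σ := mul a b with hσ
  have hid : mul a a = a := h.2.2.1.1.2.1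
  have hfus := h.2.2.1.1.2.2.2
  have hm0 : (0 : ℝ) ∈ majoranaSpectrum := by simp [majoranaSpectrum]
  have hm4 : (1 / 4 : ℝ) ∈ majoranaSpectrum := by simp [majoranaSpectrum]
  have hu' : u ∈ eigen mul a 0 := by
    rw [eigen, Module.End.mem_eigenspace_iff, zero_smul]; exact hu
  have hw' : w ∈ eigen mul a (1 / 4) := by
    rw [eigen, Module.End.mem_eigenspace_iff]; exact hw
  -- fusion
  have huu := hfus 0 hm0 0 hm0 u hu' u hu'
  have huw := hfus 0 hm0 (1 / 4) hm4 u hu' w hw'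
  have hww := hfus (1 / 4) hm4 (1 / 4) hm4 w hw' w hw'
  rw [h28_law_00, h28_eigenSum_singleton] at huu
  rw [h28_law_04, h28_eigenSum_singleton] at huw
  rw [h28_law_44, h28_eigenSum_pair] at hww
  have huu0 : mul a (mul u u) = 0 := by
    have := Module.End.mem_eigenspace_iff.mp huu
    rw [zero_smul] at this; exact this
  have huw4 : mul a (mul u w) = (1 / 4 : ℝ) • mul u w := Module.End.mem_eigenspace_iff.mp huw
  obtain ⟨y1, hy1, y0, hy0, hyw⟩ := Submodule.mem_sup.mp hww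
  have hy1' : mul a y1 = y1 := by
    have := Module.End.mem_eigenspace_iff.mp hy1
    rw [one_smul] at this; exact this
  have hy0' : mul a y0 = 0 := by
    have := Module.End.mem_eigenspace_iff.mp hy0
    rw [zero_smul] at this; exact this
  -- σ in terms of w
  have hσw : σ = l • a + (1 / 4 : ℝ) • w := by
    rw [hσ, hdec]
    simp only [map_add, map_smul, hid, hu, hw]
    module
  -- expansion of b*b
  have hexp : mul b b = (l ^ 2) • a + mul u u + mul w w + (l / 2) • w + (2 : ℝ) • mul u w := by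
    have hau : mul u a = 0 := by rw [hcm]; exact hu
    have haw : mul w a = (1 / 4 : ℝ) • w := by rw [hcm]; exact hw
    have hwu : mul w u = mul u w := hcm w u
    conv_lhs => rw [hdec]
    simp only [map_add, map_smul, LinearMap.add_apply, LinearMap.smul_apply, hid, hu, hw, hau, haw, hwu]
    module
  -- the 1/4 component
  have hY : (l / 2) • w + (2 : ℝ) • mul u w - w = 0 := by
    apply h28_indep (mul a) ((l ^ 2) • a + y1 - l • a) (mul u u + y0 - u)
    · simp only [map_add, map_sub, map_smul, hid, hy1']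
    · simp only [map_add, map_sub, huu0, hy0', hu]; simp
    · simp only [map_add, map_sub, map_smul, hw, huw4]; module
    · have e : mul b b - b = 0 := by rw [hbb, sub_self]
      rw [hexp, ← hyw] at e
      conv at e => rw [hdec]
      rw [← e]; abel
  -- uw in terms of w
  have huw_eq : mul u w = ((2 - l) / 4) • w := by
    have : (2 : ℝ) • mul u w = (1 - l / 2) • w := by
      have h2 : (2 : ℝ) • mul u w = ((l / 2) • w + (2 : ℝ) • mul u w - w) + (1 - l / 2) • w := by module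
      rw [h2, hY, zero_add]
    have h3 : mul u w = (1 / 2 : ℝ) • ((2 : ℝ) • mul u w) := by module
    rw [h3, this]; module
  -- u and w in terms of a, b, σ
  have hw_eq : w = (4 : ℝ) • σ - (4 * l) • a := by rw [hσw]; module
  have hu_eq : u = b + (3 * l) • a - (4 : ℝ) • σ := by
    have : u = b - l • a - w := by
      conv_rhs => rw [hdec]
      abel
    rw [this, hw_eq]; module
  -- products
  have hba : mul b a = σ := by rw [hσ]; exact hcm b a
  have hbσ : mul b σ = (3 * l / 4) • b + (1 / 4 : ℝ) • σ := by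
    have := hFb
    rw [hba] at this
    exact this
  have haσ : mul a σ = (3 * l / 4) • a + (1 / 4 : ℝ) • σ := hF
  have hσa : mul σ a = (3 * l / 4) • a + (1 / 4 : ℝ) • σ := by rw [hcm]; exact haσ
  have hσb : mul σ b = (3 * l / 4) • b + (1 / 4 : ℝ) • σ := by rw [hcm]; exact hbσ
  -- expand u*w
  have hexp2 : mul u w = (3 * l) • b + (9 * l ^ 2) • a + (1 + 3 * l) • σ - (16 : ℝ) • mul σ σ := by
    conv_lhs => rw [hu_eq, hw_eq]
    simp only [map_add, map_sub, map_smul, LinearMap.add_apply, LinearMap.sub_apply,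
      LinearMap.smul_apply, hid, hba, hbσ, haσ, hσa, hσb]
    module
  rw [huw_eq, hw_eq] at hexp2
  have : (16 : ℝ) • mul σ σ = ((3 * l) • b + (9 * l ^ 2) • a + (1 + 3 * l) • σ) -
      ((2 - l) / 4) • ((4 : ℝ) • σ - (4 * l) • a) := by
    rw [hexp2]; abel
  rw [this]; module


theorem result {V : Type*} [AddCommGroup V] [Module ℝ V] [FiniteDimensional ℝ V] (mul : V →ₗ[ℝ] V →ₗ[ℝ] V) (B : LinearMap.BilinForm ℝ V) (hV : Cfsg.Axial.IsMajoranaAmbient mul B) (μ₀ μ₁ : V ≃ₗ[ℝ] V) (a₀ a₁ : V) (h₀ : Cfsg.Axial.IsMajoranaPair mul B μ₀ a₀) (h₁ : Cfsg.Axial.IsMajoranaPair mul B μ₁ a₁) (hu₀ : ∀ a : V, Cfsg.Axial.IsMajoranaPair mul B μ₀ a → a = a₀) (hu₁ : ∀ a : V, Cfsg.Axial.IsMajoranaPair mul B μ₁ a → a = a₁) (hn₀ : B a₀ a₀ = 1) (hn₁ : B a₁ a₁ = 1) (hc : μ₀ * μ₁ = μ₁ * μ₀) (hne : a₀ ≠ a₁) : (B a₀ a₁ = 0 ∧ mul a₀ a₁ = 0) ∨ (B a₀ a₁ = 1 / 8 ∧ mul (a₀ + a₁ - (8 : ℝ) • mul a₀ a₁) (a₀ + a₁ - (8 : ℝ) • mul a₀ a₁) = a₀ + a₁ - (8 :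 ℝ) • mul a₀ a₁ ∧ mul a₀ (a₀ + a₁ - (8 : ℝ) • mul a₀ a₁) = (1 / 8 : ℝ) • (a₀ + (a₀ + a₁ - (8 : ℝ) • mul a₀ a₁) - a₁) ∧ mul a₁ (a₀ + a₁ - (8 : ℝ) • mul a₀ a₁) = (1 / 8 : ℝ) • (a₁ + (a₀ + a₁ - (8 : ℝ) • mul a₀ a₁) - a₀)) := by
  obtain ⟨hcm, hBs, hpos, hfrob, hnorton⟩ := hV
  have hfix0 : μ₁ a₀ = a₀ := hu₀ _ (h28_pair_transport mul B μ₀ μ₁ a₀ h₀ h₁.1 hc)
  have hfix1 : μ₀ a₁ = a₁ := hu₁ _ (h28_pair_transport mul B μ₁ μ₀ a₁ h₁ h₀.1 hc.symm)
  have hid0 : mul a₀ a₀ = a₀ := h₀.2.2.1.1.2.1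
  have hid1 : mul a₁ a₁ = a₁ := h₁.2.2.1.1.2.1
  set l := B a₀ a₁ with hl
  have hl' : B a₁ a₀ = l := hBs a₁ a₀
  set σ := mul a₀ a₁ with hσ
  have hσ' : mul a₁ a₀ = σ := hcm a₁ a₀
  -- (F) for both
  obtain ⟨-, -, -, -, -, hF1⟩ := h28_F mul B hcm hfrob μ₁ a₁ h₁ hn₁ a₀ hfix0
  obtain ⟨-, -, -, -, -, hF0⟩ := h28_F mul B hcm hfrob μ₀ a₀ h₀ hn₀ a₁ hfix1
  rw [hσ', ← hl] at hF1
  rw [← hσ, hl'] at hF0
  -- (G) for both
  have hG1 := h28_G mul B hcm hfrob μ₁ a₁ h₁ hn₁ a₀ hfix0 hid0 (by rw [← hσ, ← hl]; exact hF0)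
  have hG0 := h28_G mul B hcm hfrob μ₀ a₀ h₀ hn₀ a₁ hfix1 hid1 (by rw [hσ', hl']; exact hF1)
  rw [hσ', ← hl] at hG1
  rw [← hσ, hl'] at hG0
  -- subtract
  have hsub : (l * (1 - 8 * l)) • (a₀ - a₁) = 0 := by
    have : (l * (1 - 8 * l)) • (a₀ - a₁) =
        ((3 * l) • a₀ + (8 * l ^ 2 + 2 * l) • a₁ + (4 * l - 1) • σ) -
        ((3 * l) • a₁ + (8 * l ^ 2 + 2 * l) • a₀ + (4 * l - 1) • σ) := by module
    rw [this, ← hG1, ← hG0, sub_self]
  have hcases : l = 0 ∨ l = 1 / 8 := by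
    rcases smul_eq_zero.mp hsub with h | h
    · rcases mul_eq_zero.mp h with h' | h'
      · left; exact h'
      · right; linarith
    · exact absurd (sub_eq_zero.mp h) hne
  rcases hcases with h0 | h8
  · left
    refine ⟨h0, ?_⟩
    have hN := hnorton a₀ a₁
    rw [hid0, hid1, ← hσ, ← hl, h0] at hN
    by_contra hne0
    have := hpos σ hne0
    linarith
  · right
    refine ⟨h8, ?_, ?_, ?_⟩
    · have hσσ : mul σ σ = (3 / 128 : ℝ) • (a₀ + a₁) - (1 / 32 : ℝ) • σ := by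
        have h16 : mul σ σ = (1 / 16 : ℝ) • ((16 : ℝ) • mul σ σ) := by module
        rw [h16, hG0, h8]; module
      have hσ0 : mul σ a₀ = (3 * l / 4) • a₀ + (1 / 4 : ℝ) • σ := by rw [hcm]; exact hF0
      have hσ1 : mul σ a₁ = (3 * l / 4) • a₁ + (1 / 4 : ℝ) • σ := by rw [hcm]; exact hF1
      simp only [map_add, map_sub, map_smul, LinearMap.add_apply, LinearMap.sub_apply,
        LinearMap.smul_apply, hid0, hid1, hσ', ← hσ, hF0, hF1, hσ0, hσ1, hσσ, h8]
      module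
    · simp only [map_add, map_sub, map_smul, hid0, ← hσ, hF0, h8]
      module
    · simp only [map_add, map_sub, map_smul, hid1, hσ', hF1, h8]
      module

end Cfsg.Agent.S5545
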