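import Cfsg.Statements.S5546
import Cfsg.Agent.Lib.Helper28.LeechMod

set_option autoImplicit false
open Cfsg

namespace Cfsg.Agent.S5546

open Cfsg.Agent.Lib.Helper28

instance h28_fact13 : Fact (Nat.Prime 13) := ⟨by norm_num⟩

/-- the fixed vector modulo 13 -/
def h28_ubar : GolayPt → ZMod 13 := red13 Spor.vecU

/-- the line spanned by the fixed vector -/
def h28_W : Submodule (ZMod 13) (GolayPt → ZMod 13) := Submodule.span (ZMod 13) {h28_ubar}

/-- the inclusion of `Co2` into `Co0` -/
def h28_toCo0 (g : Spor.Co2) : Co0 := ⟨g.1, g.2.1⟩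

theorem h28_fixU (g : Spor.Co2) : co0Hom (h28_toCo0 g) Spor.leechU = Spor.leechU :=
  MulAction.mem_stabilizer_iff.mp g.2.2

theorem h28_rho_ubar (g : Spor.Co2) : (rhoMat (h28_toCo0 g)).mulVec h28_ubar = h28_ubar := by
  have := rhoMat_mulVec (h28_toCo0 g) Spor.leechU
  rw [h28_fixU] at this
  exact this

theorem h28_cast_dot (a b : GolayPt → ℤ) :
    ((dotInt a b : ℤ) : ZMod 13) = red13 a ⬝ᵥ red13 b := by
  unfold dotInt dotProduct red13
  push_cast
  rfl

theorem h28_vecMul_ubar (g : Spor.Co2) : Matrix.vecMul h28_ubar (rhoMat (h28_toCo0 g)) = h28_ubar := by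
  funext i
  simp only [Matrix.vecMul, dotProduct, rhoMat]
  have h1 : ∑ j, h28_ubar j * (5 * red13 ((co0Hom (h28_toCo0 g) (e8 i) : leechLattice) : GolayPt → ℤ) j) =
      5 * (h28_ubar ⬝ᵥ red13 ((co0Hom (h28_toCo0 g) (e8 i) : leechLattice) : GolayPt → ℤ)) := by
    unfold dotProduct
    rw [Finset.mul_sum]
    refine Finset.sum_congr rfl fun j _ => ?_
    ring
  rw [h1]
  unfold h28_ubar
  rw [← h28_cast_dot]
  have h2 : dotInt Spor.vecU ((co0Hom (h28_toCo0 g) (e8 i) : leechLattice) : GolayPt → ℤ) =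
      dotInt Spor.vecU ((e8 i : leechLattice) : GolayPt → ℤ) := by
    have := co0_dot (h28_toCo0 g) Spor.leechU (e8 i)
    rw [h28_fixU] at this
    exact this
  rw [h2]
  have h3 : dotInt Spor.vecU ((e8 i : leechLattice) : GolayPt → ℤ) = 8 * Spor.vecU i := by
    unfold dotInt
    rw [Finset.sum_eq_single i]
    · rw [e8_apply, if_pos rfl]; ring
    · intro j _ hji; rw [e8_apply, if_neg hji]; ring
    · intro h; exact absurd (Finset.mem_univ i) h
  rw [h3]
  push_cast
  rw [← mul_assoc, forty, one_mul]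
  rfl

theorem h28_dot_ubar (g : Spor.Co2) (y : GolayPt → ZMod 13) :
    (rhoMat (h28_toCo0 g)).mulVec y ⬝ᵥ h28_ubar = y ⬝ᵥ h28_ubar := by
  rw [dotProduct_comm, Matrix.dotProduct_mulVec, h28_vecMul_ubar, dotProduct_comm]

theorem h28_ubar_dot : h28_ubar ⬝ᵥ h28_ubar = 6 := by
  unfold h28_ubar
  rw [← h28_cast_dot]
  have : dotInt Spor.vecU Spor.vecU = 32 := by decide
  rw [this]
  decide

theorem h28_ubar_ne : h28_ubar ≠ 0 := by
  intro h
  have := h28_ubar_dot
  rw [h] at this
  simp at this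
  revert this
  decide

theorem h28_le (g : Spor.Co2) :
    h28_W ≤ h28_W.comap (Matrix.toLin' (rhoMat (h28_toCo0 g))) := by
  unfold h28_W
  rw [Submodule.span_le]
  rintro _ hx
  rw [Set.mem_singleton_iff.mp hx]
  show Matrix.toLin' (rhoMat (h28_toCo0 g)) h28_ubar ∈ Submodule.span (ZMod 13) {h28_ubar}
  rw [Matrix.toLin'_apply, h28_rho_ubar]
  exact Submodule.mem_span_singleton_self _

/-- the action on the 23-dimensional quotient -/
noncomputable def h28_psi : Spor.Co2 →* Module.End (ZMod 13) ((GolayPt → ZMod 13) ⧸ h28_W) where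
  toFun g := h28_W.mapQ h28_W (Matrix.toLin' (rhoMat (h28_toCo0 g))) (h28_le g)
  map_one' := by
    have h1 : h28_toCo0 1 = 1 := rfl
    apply LinearMap.ext
    intro y
    induction y using Submodule.Quotient.induction_on with
    | H y =>
      rw [Submodule.mapQ_apply]
      simp only [h1, rhoMat_one, Matrix.toLin'_one, LinearMap.id_coe, id_eq]
      rfl
  map_mul' g h := by
    have h1 : h28_toCo0 (g * h) = h28_toCo0 g * h28_toCo0 h := rfl
    apply LinearMap.ext
    intro y
    induction y using Submodule.Quotient.induction_on with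
    | H y =>
      rw [Submodule.mapQ_apply]
      simp only [h1, rhoMat_mul, Matrix.toLin'_mul, LinearMap.coe_comp, Function.comp_apply]
      rfl

theorem h28_psi_eq_one (g : Spor.Co2) (hg : h28_psi g = 1) : g = 1 := by
  have hfix : ∀ y : GolayPt → ZMod 13, (rhoMat (h28_toCo0 g)).mulVec y = y := by
    intro y
    have h1 : h28_psi g (Submodule.Quotient.mk y) = Submodule.Quotient.mk y := by rw [hg]; rfl
    have h2 : h28_psi g (Submodule.Quotient.mk y) =
        Submodule.Quotient.mk (Matrix.toLin' (rhoMat (h28_toCo0 g)) y) := rfl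
    rw [h2, Submodule.Quotient.eq, Matrix.toLin'_apply] at h1
    unfold h28_W at h1
    rw [Submodule.mem_span_singleton] at h1
    obtain ⟨c, hc⟩ := h1
    have h3 : ((rhoMat (h28_toCo0 g)).mulVec y - y) ⬝ᵥ h28_ubar = 0 := by
      rw [sub_dotProduct, h28_dot_ubar, sub_self]
    rw [← hc, smul_dotProduct, h28_ubar_dot, smul_eq_mul] at h3
    have hc0 : c = 0 := by
      rcases mul_eq_zero.mp h3 with h | h
      · exact h
      · exfalso; revert h; decide
    rw [hc0, zero_smul] at hc
    exact (sub_eq_zero.mp hc.symm)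
  have h1 : h28_toCo0 g = 1 := by
    apply co0_eq_one_of_red13
    intro x
    rw [← rhoMat_mulVec, hfix]
  apply Subtype.ext
  exact congrArg (fun z : Co0 => (z : Equiv.Perm leechLattice)) h1

theorem h28_finrank : Module.finrank (ZMod 13) ((GolayPt → ZMod 13) ⧸ h28_W) = 23 := by
  have h1 := Submodule.finrank_quotient_add_finrank h28_W
  have h2 : Module.finrank (ZMod 13) h28_W = 1 := finrank_span_singleton h28_ubar_ne
  have h3 : Module.finrank (ZMod 13) (GolayPt → ZMod 13) = 24 := by
    rw [Module.finrank_fintype_fun_eq_card]; rfl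
  omega

/-- a faithful action on an `n`-dimensional space gives a faithful matrix representation -/
theorem h28_exists_faithful {K : Type*} [Field K] {M : Type*} [AddCommGroup M] [Module K M]
    [Module.Finite K M] {G : Type*} [Group G] (n : ℕ) (hn : Module.finrank K M = n)
    (ψ : G →* Module.End K M) (hψ : ∀ g, ψ g = 1 → g = 1) :
    ∃ f : G →* GL (Fin n) K, Function.Injective f := by
  obtain ⟨b⟩ : Nonempty (Module.Basis (Fin n) K M) := ⟨Module.finBasisOfFinrankEq _ _ hn⟩
  obtain ⟨e⟩ : Nonempty (Module.End K M ≃* Matrix (Fin n) (Fin n) K) :=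
    ⟨(LinearMap.toMatrixAlgEquiv b).toRingEquiv.toMulEquiv⟩
  refine ⟨(Units.mapEquiv e).toMonoidHom.comp ψ.toHomUnits, ?_⟩
  intro g h hgh
  have h1 : ψ.toHomUnits g = ψ.toHomUnits h := (Units.mapEquiv e).injective hgh
  have h2 : ψ.toHomUnits (h⁻¹ * g) = 1 := by
    rw [map_mul, map_inv, h1, inv_mul_cancel]
  have h3 : ψ (h⁻¹ * g) = 1 := by
    have := congrArg Units.val h2
    rwa [MonoidHom.coe_toHomUnits] at this
  have h4 := hψ _ h3
  exact (inv_mul_eq_one.mp h4).symm

theorem result : ∃ f : ↥Cfsg.Spor.Co2 →* GL (Fin 23) (ZMod 13), Function.Injective f :=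
  h28_exists_faithful 23 h28_finrank h28_psi h28_psi_eq_one

end Cfsg.Agent.S5546
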