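import Cfsg.Statements.S5547
import Cfsg.Agent.Lib.Helper29.Fi22RepMain
import Cfsg.Agent.Lib.Helper4.TC.Fi22SMain

set_option autoImplicit false
open Cfsg

namespace Cfsg.Agent.S5547

/-- The Fischer group Fi₂₂ (the finitely presented 3-transposition group of the definitions) is isomorphic to a subgroup of the general linear group of degree 78 over the field with 13 elements: there is an injective homomorphism into it. -/
theorem result : ∃ f : Cfsg.Spor.Fi22 →* GL (Fin 78) (ZMod 13), Function.Injective f := by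
  refine ⟨Cfsg.Agent.Lib.Helper29.Fi22Rep.rho, ?_⟩
  have hs : IsSimpleGroup Cfsg.Spor.Fi22 := Cfsg.Agent.Helper4.TC.Fi22S.main.1
  rcases (MonoidHom.normal_ker Cfsg.Agent.Lib.Helper29.Fi22Rep.rho).eq_bot_or_eq_top with h | h
  · exact (MonoidHom.ker_eq_bot_iff _).mp h
  · exfalso
    have h2 : PresentedGroup.of Cfsg.Spor.Fi22.Gen.a ∈ Cfsg.Agent.Lib.Helper29.Fi22Rep.rho.ker := by
      rw [h]; exact Subgroup.mem_top _
    have h3 := MonoidHom.mem_ker.mp h2
    rw [Cfsg.Agent.Lib.Helper29.Fi22Rep.rho_a] at h3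
    exact Cfsg.Agent.Lib.Helper29.Fi22Rep.gA_ne_one h3

end Cfsg.Agent.S5547
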