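import Cfsg.Statements.S5553
import Cfsg.Agent.Lib.Helper28.LeechMin

set_option autoImplicit false
open Cfsg

namespace Cfsg.Agent.S5553

open Cfsg.Agent.Lib.Helper28
open Cfsg.Agent.Lib.Helper4 (wd mem_leechLattice_iff mem_leechSet_iff)

/-- the map to the code whose kernel is the totally singular sublattice -/
def h28_phi (z : GolayPt → ℤ) : GolayPt → ZMod 2 :=
  fun i => ((z i / 2 + z none / 2 + z none : ℤ) : ZMod 2)

theorem h28_two_zmod : ((2 : ℤ) : ZMod 2) = 0 := by decide

theorem h28_cast_half (a : ℤ) :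
    ((a / 2 : ℤ) : ZMod 2) = (if a ≡ 2 [ZMOD 4] then 1 else 0) + (if a ≡ 3 [ZMOD 4] then 1 else 0) := by
  have h4 : a % 4 = 0 ∨ a % 4 = 1 ∨ a % 4 = 2 ∨ a % 4 = 3 := by omega
  rw [← ZMod.intCast_mod (a / 2) 2]
  rcases h4 with h | h | h | h
  · have h2 : ¬ a ≡ 2 [ZMOD 4] := by unfold Int.ModEq; omega
    have h3 : ¬ a ≡ 3 [ZMOD 4] := by unfold Int.ModEq; omega
    have : a / 2 % ((2 : ℕ) : ℤ) = 0 := by push_cast; omega
    rw [this, if_neg h2, if_neg h3]; simp
  · have h2 : ¬ a ≡ 2 [ZMOD 4] := by unfold Int.ModEq; omega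
    have h3 : ¬ a ≡ 3 [ZMOD 4] := by unfold Int.ModEq; omega
    have : a / 2 % ((2 : ℕ) : ℤ) = 0 := by push_cast; omega
    rw [this, if_neg h2, if_neg h3]; simp
  · have h2 : a ≡ 2 [ZMOD 4] := by unfold Int.ModEq; omega
    have h3 : ¬ a ≡ 3 [ZMOD 4] := by unfold Int.ModEq; omega
    have : a / 2 % ((2 : ℕ) : ℤ) = 1 := by push_cast; omega
    rw [this, if_pos h2, if_neg h3]; simp
  · have h2 : ¬ a ≡ 2 [ZMOD 4] := by unfold Int.ModEq; omega
    have h3 : a ≡ 3 [ZMOD 4] := by unfold Int.ModEq; omega
    have : a / 2 % ((2 : ℕ) : ℤ) = 1 := by push_cast; omega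
    rw [this, if_neg h2, if_pos h3]; simp

theorem h28_const_mem (a : ZMod 2) : (fun _ : GolayPt => a) ∈ golayCode := by
  have : (fun _ : GolayPt => a) = a • (1 : GolayPt → ZMod 2) := by
    funext i; simp
  rw [this]
  exact golayCode.smul_mem _ Cfsg.Agent.Lib.Helper4.one_mem_golayCode

theorem h28_phi_mem {z : GolayPt → ℤ} (hz : z ∈ leechLattice) : h28_phi z ∈ golayCode := by
  rw [mem_leechLattice_iff, mem_leechSet_iff] at hz
  obtain ⟨m, h1, h2, h3⟩ := hz
  have : h28_phi z = wd z 2 + wd z 3 + fun _ => ((z none / 2 + z none : ℤ) : ZMod 2) := by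
    funext i
    simp only [h28_phi, Pi.add_apply, wd]
    rw [← h28_cast_half]
    push_cast
    ring
  rw [this]
  exact golayCode.add_mem (golayCode.add_mem (h3 2) (h3 3)) (h28_const_mem _)

theorem h28_parity {z : GolayPt → ℤ} (hz : z ∈ leechLattice) (i : GolayPt) :
    z i % 2 = z none % 2 := by
  rw [mem_leechLattice_iff, mem_leechSet_iff] at hz
  obtain ⟨m, h1, h2, h3⟩ := hz
  have a := h1 i
  have b := h1 none
  unfold Int.ModEq at a b
  omega

theorem h28_phi_add {x y : GolayPt → ℤ} (hx : x ∈ leechLattice) (hy : y ∈ leechLattice) :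
    h28_phi (x + y) = h28_phi x + h28_phi y := by
  funext i
  simp only [h28_phi, Pi.add_apply]
  rw [← Int.cast_add, ZMod.intCast_eq_intCast_iff']
  have a := h28_parity hx i
  have b := h28_parity hy i
  push_cast
  omega

theorem h28_phi_zero : h28_phi 0 = 0 := by
  funext i
  simp [h28_phi]

/-- the homomorphism from the lattice onto the code -/
def h28_hom : ↥leechLattice →+ ↥golayCode where
  toFun z := ⟨h28_phi z, h28_phi_mem z.2⟩
  map_zero' := by
    apply Subtype.ext
    exact h28_phi_zero
  map_add' x y := by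
    apply Subtype.ext
    exact h28_phi_add x.2 y.2

theorem h28_phi_eq_zero_iff {z : GolayPt → ℤ} (hz : z ∈ leechLattice) :
    h28_phi z = 0 ↔ (∀ i, z i % 4 = 0) ∨ (∀ i, z i % 4 = 2) := by
  constructor
  · intro h
    have hi : ∀ i, (z i / 2 + z none / 2 + z none) % 2 = 0 := by
      intro i
      have := congrFun h i
      simp only [h28_phi, Pi.zero_apply] at this
      rw [ZMod.intCast_zmod_eq_zero_iff_dvd] at this
      push_cast at this
      omega
    have hn := hi none
    have hc : z none % 4 = 0 ∨ z none % 4 = 2 := by omega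
    rcases hc with hc | hc
    · left
      intro i
      have := hi i
      have := h28_parity hz i
      omega
    · right
      intro i
      have := hi i
      have := h28_parity hz i
      omega
  · intro h
    funext i
    simp only [h28_phi, Pi.zero_apply]
    rw [ZMod.intCast_zmod_eq_zero_iff_dvd]
    push_cast
    rcases h with h | h
    · have := h i
      have := h none
      omega
    · have := h i
      have := h none
      omega

/-- lift of a code word to a lattice vector with entries `0`, `2` -/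
def h28_lift (c : GolayPt → ZMod 2) : GolayPt → ℤ := fun i => if c i = 0 then 0 else 2

theorem h28_lift_mem {c : GolayPt → ZMod 2} (hc : c ∈ golayCode) : h28_lift c ∈ leechLattice := by
  rw [mem_leechLattice_iff, mem_leechSet_iff]
  refine ⟨0, fun i => ?_, ?_, fun k => ?_⟩
  · unfold h28_lift
    split_ifs <;> decide
  · have hsum : ∑ i, h28_lift c i = 2 * ((support₂ c).card : ℤ) := by
      unfold h28_lift support₂
      rw [Finset.card_filter]
      push_cast
      rw [Finset.mul_sum]
      refine Finset.sum_congr rfl fun i _ => ?_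
      by_cases h : c i = 0 <;> simp [h]
    rw [hsum]
    obtain ⟨q, hq⟩ := Cfsg.Agent.Lib.Helper4.golay_doubly_even hc
    rw [hq]
    unfold Int.ModEq
    push_cast
    omega
  · have hk : k % 4 = 0 ∨ k % 4 = 2 ∨ (k % 4 ≠ 0 ∧ k % 4 ≠ 2) := by omega
    rcases hk with hk | hk | hk
    · have : wd (h28_lift c) k = c + 1 := by
        funext i
        simp only [wd, Pi.add_apply, Pi.one_apply]
        by_cases h : c i = 0
        · have hl0 : h28_lift c i = 0 := if_pos h
          rw [hl0, if_pos (by unfold Int.ModEq; omega), h]; simp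
        · have hl2 : h28_lift c i = 2 := if_neg h
          rw [hl2, if_neg (by unfold Int.ModEq; omega)]
          have := (Cfsg.Agent.Lib.Helper4.zmod2_ne_zero_iff (c i)).mp h
          rw [this]; decide
      rw [this]
      exact golayCode.add_mem hc Cfsg.Agent.Lib.Helper4.one_mem_golayCode
    · have : wd (h28_lift c) k = c := by
        funext i
        simp only [wd]
        by_cases h : c i = 0
        · have hl0 : h28_lift c i = 0 := if_pos h
          rw [hl0, if_neg (by unfold Int.ModEq; omega), h]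
        · have hl2 : h28_lift c i = 2 := if_neg h
          rw [hl2, if_pos (by unfold Int.ModEq; omega)]
          exact ((Cfsg.Agent.Lib.Helper4.zmod2_ne_zero_iff (c i)).mp h).symm
      rw [this]; exact hc
    · have : wd (h28_lift c) k = 0 := by
        funext i
        simp only [wd, Pi.zero_apply]
        by_cases h : c i = 0
        · have hl0 : h28_lift c i = 0 := if_pos h
          rw [hl0, if_neg (by unfold Int.ModEq; omega)]
        · have hl2 : h28_lift c i = 2 := if_neg h
          rw [hl2, if_neg (by unfold Int.ModEq; omega)]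
      rw [this]; exact golayCode.zero_mem

theorem h28_phi_lift (c : GolayPt → ZMod 2) : h28_phi (h28_lift c) = c + fun _ => c none := by
  funext i
  simp only [h28_phi, h28_lift, Pi.add_apply]
  by_cases h : c i = 0 <;> by_cases h' : c none = 0
  · rw [if_pos h, if_pos h', h, h']; simp
  · rw [if_pos h, if_neg h', h, (Cfsg.Agent.Lib.Helper4.zmod2_ne_zero_iff _).mp h']
    norm_num
    decide
  · rw [if_neg h, if_pos h', h', (Cfsg.Agent.Lib.Helper4.zmod2_ne_zero_iff _).mp h]
    norm_num
  · rw [if_neg h, if_neg h', (Cfsg.Agent.Lib.Helper4.zmod2_ne_zero_iff _).mp h,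
      (Cfsg.Agent.Lib.Helper4.zmod2_ne_zero_iff _).mp h']
    norm_num
    decide

/-- the odd vector `(-3, 1, …, 1)` -/
def h28_w0 : GolayPt → ℤ := fun i => if i = none then -3 else 1

theorem h28_w0_mem : h28_w0 ∈ leechLattice := by
  rw [mem_leechLattice_iff, mem_leechSet_iff]
  refine ⟨1, fun i => ?_, ?_, fun k => ?_⟩
  · unfold h28_w0
    split_ifs <;> decide
  · decide
  · by_cases hk : k % 4 = 1
    · have : wd h28_w0 k = 1 := by
        funext i
        simp only [wd, h28_w0, Pi.one_apply]
        split_ifs with h1 h2 h2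
        · rfl
        · exfalso; unfold Int.ModEq at h2; omega
        · rfl
        · exfalso; unfold Int.ModEq at h2; omega
      rw [this]; exact Cfsg.Agent.Lib.Helper4.one_mem_golayCode
    · have : wd h28_w0 k = 0 := by
        funext i
        simp only [wd, h28_w0, Pi.zero_apply]
        split_ifs with h1 h2 h2
        · exfalso; unfold Int.ModEq at h2; omega
        · rfl
        · exfalso; unfold Int.ModEq at h2; omega
        · rfl
      rw [this]; exact golayCode.zero_mem

theorem h28_phi_w0 : h28_phi h28_w0 = 1 := by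
  funext i
  simp only [h28_phi, h28_w0, Pi.one_apply]
  by_cases h : i = none
  · rw [if_pos h]; simp; decide
  · rw [if_neg h]; simp; decide

theorem h28_hom_surjective : Function.Surjective h28_hom := by
  rintro ⟨c, hc⟩
  by_cases h : c none = 0
  · refine ⟨⟨h28_lift c, h28_lift_mem hc⟩, ?_⟩
    apply Subtype.ext
    show h28_phi (h28_lift c) = c
    rw [h28_phi_lift, h]
    funext i; simp
  · have h1 := (Cfsg.Agent.Lib.Helper4.zmod2_ne_zero_iff _).mp h
    refine ⟨⟨h28_lift c + h28_w0, leechLattice.add_mem (h28_lift_mem hc) h28_w0_mem⟩, ?_⟩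
    apply Subtype.ext
    show h28_phi (h28_lift c + h28_w0) = c
    rw [h28_phi_add (h28_lift_mem hc) h28_w0_mem, h28_phi_lift, h28_phi_w0, h1]
    funext i
    simp only [Pi.add_apply, Pi.one_apply]
    generalize c i = a
    revert a; decide

theorem h28_dvd {z : GolayPt → ℤ} (hz : z ∈ leechLattice) (h0 : h28_phi z = 0) :
    (32 : ℤ) ∣ sqNorm z := by
  have hz' := hz
  rw [mem_leechLattice_iff, mem_leechSet_iff] at hz'
  obtain ⟨m, h1, h2, h3⟩ := hz'
  rcases (h28_phi_eq_zero_iff hz).mp h0 with h | h
  · -- all coordinates divisible by 4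
    have hm : m % 2 = 0 := by
      have := h1 none; have := h none; unfold Int.ModEq at *; omega
    have hsum : (32 : ℤ) ∣ 4 * ∑ i, z i := by
      unfold Int.ModEq at h2; omega
    have hterm : (32 : ℤ) ∣ ∑ i, (z i ^ 2 - 4 * z i) := by
      apply Finset.dvd_sum
      intro i _
      obtain ⟨u, hu⟩ : ∃ u, z i = 4 * u := ⟨z i / 4, by have := h i; omega⟩
      rw [hu]
      have : (4 * u) ^ 2 - 4 * (4 * u) = 16 * (u * (u - 1)) := by ring
      rw [this]
      have heven : (2 : ℤ) ∣ u * (u - 1) := by
        rcases Int.emod_two_eq_zero_or_one u with h' | h'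
        · exact Dvd.dvd.mul_right (Int.dvd_of_emod_eq_zero h') _
        · exact Dvd.dvd.mul_left (Int.dvd_of_emod_eq_zero (by omega)) _
      obtain ⟨t, ht⟩ := heven
      rw [ht]
      exact ⟨t, by ring⟩
    have : sqNorm z = ∑ i, (z i ^ 2 - 4 * z i) + 4 * ∑ i, z i := by
      unfold sqNorm
      rw [Finset.sum_sub_distrib, ← Finset.mul_sum]; ring
    rw [this]
    exact dvd_add hterm hsum
  · -- all coordinates are 2 mod 4
    have hterm : (32 : ℤ) ∣ ∑ i, (z i ^ 2 - 4) := by
      apply Finset.dvd_sum
      intro i _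
      obtain ⟨u, hu⟩ : ∃ u, z i = 4 * u + 2 := ⟨z i / 4, by have := h i; omega⟩
      rw [hu]
      have : (4 * u + 2) ^ 2 - 4 = 16 * (u * (u + 1)) := by ring
      rw [this]
      have heven : (2 : ℤ) ∣ u * (u + 1) := by
        rcases Int.emod_two_eq_zero_or_one u with h' | h'
        · exact Dvd.dvd.mul_right (Int.dvd_of_emod_eq_zero h') _
        · exact Dvd.dvd.mul_left (Int.dvd_of_emod_eq_zero (by omega)) _
      obtain ⟨t, ht⟩ := heven
      rw [ht]
      exact ⟨t, by ring⟩
    have : sqNorm z = ∑ i, (z i ^ 2 - 4) + 96 := by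
      unfold sqNorm
      rw [Finset.sum_sub_distrib, Finset.sum_const, Finset.card_univ, card_golayPt]
      norm_num
    rw [this]
    exact dvd_add hterm ⟨3, by norm_num⟩

theorem result : ∃ A : AddSubgroup (Cfsg.GolayPt → ℤ), A ≤ Cfsg.leechLattice ∧ (∀ v ∈ Cfsg.leechLattice, (2 : ℤ) • v ∈ A) ∧ (A.addSubgroupOf Cfsg.leechLattice).index = 2 ^ 12 ∧ ∀ v ∈ A, (32 : ℤ) ∣ Cfsg.sqNorm v := by
  refine ⟨(h28_hom.ker).map leechLattice.subtype, AddSubgroup.map_subtype_le _, ?_, ?_, ?_⟩
  · intro v hv
    have h2v : (2 : ℤ) • v = v + v := by rw [two_smul]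
    rw [h2v]
    refine ⟨⟨v + v, leechLattice.add_mem hv hv⟩, ?_, rfl⟩
    rw [SetLike.mem_coe, AddMonoidHom.mem_ker]
    apply Subtype.ext
    show h28_phi (v + v) = 0
    rw [h28_phi_add hv hv]
    funext i
    simp only [Pi.add_apply, Pi.zero_apply]
    generalize h28_phi v i = a
    revert a; decide
  · have hker : ((h28_hom.ker).map leechLattice.subtype).addSubgroupOf leechLattice = h28_hom.ker := by
      ext x
      rw [AddSubgroup.mem_addSubgroupOf, AddSubgroup.mem_map]
      constructor
      · rintro ⟨y, hy, hyx⟩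
        have : y = x := Subtype.ext hyx
        rw [← this]; exact hy
      · intro hx
        exact ⟨x, hx, rfl⟩
    rw [hker, AddSubgroup.index_ker, AddMonoidHom.range_eq_top_of_surjective _ h28_hom_surjective,
      AddSubgroup.card_top]
    exact golayCode_isGolayLike.card_code
  · rintro v ⟨x, hx, rfl⟩
    rw [SetLike.mem_coe, AddMonoidHom.mem_ker] at hx
    have h0 : h28_phi (x : GolayPt → ℤ) = 0 := congrArg Subtype.val hx
    exact h28_dvd x.2 h0

end Cfsg.Agent.S5553
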