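import Cfsg.Statements.S5555
import Cfsg.Agent.Lib.Helper25.OTTj
import Cfsg.Agent.Lib.Helper25.OTTl

set_option autoImplicit false
open Cfsg

namespace Cfsg.Agent.S5555

/-- Let G be a finite group generated by a conjugacy class D of 3-transpositions, with trivial centre and with generalized Fitting subgroup F*(G) = O₂(G) (so the Fitting subgroup is O₂(G) too). If G/O₂(G) is isomorphic to the derived group of SU₃(2) (the group of order 54 generated by nine 3-transpositions), then O₂(G) has a complement in G. -/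
theorem result {G : Type*} [Group G] [Finite G] {D : Set G} (hD : Cfsg.IsThreeTranspositionClass D)
    (hZ : Subgroup.center G = ⊥) (hF : Cfsg.generalizedFittingSubgroup G = Cfsg.pCore 2 G)
    (hq : ∃ (F : Type) (_ : Field F) (_ : Fintype F), Fintype.card F = 4 ∧ Nonempty (G ⧸ Cfsg.pCore 2 G ≃* ↥(commutator ↥(Cfsg.SU 3 F 2)))) :
    ∃ K : Subgroup G, (Cfsg.pCore 2 G).IsComplement' K := by
  obtain ⟨F, instF, instFt, hF4, ⟨e⟩⟩ := hq
  obtain ⟨t, y, s, a, hTS, hgen, hcard⟩ := Cfsg.Agent.Lib.Helper25.OTT.SUGen.su_side_gen hF4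
  exact Cfsg.Agent.Lib.Helper25.OTT.split54 hD (Cfsg.pCore 2 G) e hTS hgen hcard

end Cfsg.Agent.S5555
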