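import Cfsg.Statements.S5559
import Cfsg.Agent.S1265
import Cfsg.Agent.Lib.Helper16.PCore
import Cfsg.Agent.Lib.Helper25.OTTi

set_option autoImplicit false
open Cfsg

namespace Cfsg.Agent.S5559

/-- Let H be a finite group generated by a conjugacy class E of 3-transpositions with at least two members, with F*(H) = O₂(H), and such that H/O₂(H) has a normal Sylow 3-subgroup of 2-power index (that is, H = O_{2,3,2}(H)). Then H/O₂(H) is isomorphic to the symmetric group of degree 3 or to the derived group of SU₃(2) (of order 54). -/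
theorem result {H : Type*} [Group H] [Finite H] {E : Set H} (hE : Cfsg.IsThreeTranspositionClass E)
    (hE2 : ∃ a ∈ E, ∃ b ∈ E, a ≠ b) (hF : Cfsg.generalizedFittingSubgroup H = Cfsg.pCore 2 H)
    (h232 : ∃ P : Sylow 3 (H ⧸ Cfsg.pCore 2 H), (P : Subgroup (H ⧸ Cfsg.pCore 2 H)).Normal ∧
      ∃ k : ℕ, (P : Subgroup (H ⧸ Cfsg.pCore 2 H)).index = 2 ^ k) :
    Nonempty (H ⧸ Cfsg.pCore 2 H ≃* Equiv.Perm (Fin 3)) ∨
      ∃ (F : Type) (_ : Field F) (_ : Fintype F), Fintype.card F = 4 ∧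
        Nonempty (H ⧸ Cfsg.pCore 2 H ≃* ↥(commutator ↥(Cfsg.SU 3 F 2))) := by
  haveI : Fact (Nat.Prime 2) := ⟨Nat.prime_two⟩
  have hQ : IsPGroup 2 (Cfsg.pCore 2 H) := Cfsg.Agent.Lib.Helper16.pCore_isPGroup
  have hC : Subgroup.centralizer (Cfsg.pCore 2 H : Set H) ≤ Cfsg.pCore 2 H := by
    have := Cfsg.Agent.S1265.result (G := H)
    rwa [hF] at this
  have hmax : ∀ N : Subgroup H, N.Normal → IsPGroup 2 N → N ≤ Cfsg.pCore 2 H :=
    fun N hN hp => Cfsg.Agent.Lib.Helper16.le_pCore N hN hp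
  rcases Cfsg.Agent.Lib.Helper25.OTT.glue hE hE2 (Cfsg.pCore 2 H) hQ hC hmax h232 with h | h
  · exact Or.inl h
  · exact Or.inr ⟨Cfsg.Agent.Lib.Helper6.FFour.K4, inferInstance, inferInstance, by decide, h⟩

end Cfsg.Agent.S5559
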