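import Cfsg.Statements.S5562

set_option autoImplicit false
open Cfsg

namespace Cfsg.Agent.S5562

/-- two involutions with product of odd order are conjugate (by a power of the product) -/
theorem h28_invol_conj_of_odd {G : Type*} [Group G] (a e : G) (ha : a * a = 1) (he : e * e = 1)
    (j : ℕ) (hj : (a * e) ^ (2 * j + 1) = 1) :
    (a * e) ^ (j + 1) * e * ((a * e) ^ (j + 1))⁻¹ = a := by
  have he' : e⁻¹ = e := inv_eq_of_mul_eq_one_left he
  have ha' : a⁻¹ = a := inv_eq_of_mul_eq_one_left ha
  have hinv : e * (a * e) * e⁻¹ = (a * e)⁻¹ := by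
    rw [mul_inv_rev, he', ha']
    calc e * (a * e) * e = e * a * (e * e) := by group
      _ = e * a := by rw [he, mul_one]
  have hpow : ∀ i : ℕ, e * (a * e) ^ i * e⁻¹ = ((a * e) ^ i)⁻¹ := by
    intro i
    have := map_pow (MulAut.conj e) (a * e) i
    simp only [MulAut.conj_apply] at this
    rw [this, hinv, inv_pow]
  have h1 : e * ((a * e) ^ (j + 1))⁻¹ = (a * e) ^ (j + 1) * e := by
    have := hpow (j + 1)
    have h2 : ((a * e) ^ (j + 1))⁻¹ = e * (a * e) ^ (j + 1) * e⁻¹ := this.symm
    rw [h2]
    rw [he']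
    calc e * (e * (a * e) ^ (j + 1) * e) = (e * e) * (a * e) ^ (j + 1) * e := by group
      _ = (a * e) ^ (j + 1) * e := by rw [he, one_mul]
  calc (a * e) ^ (j + 1) * e * ((a * e) ^ (j + 1))⁻¹
      = (a * e) ^ (j + 1) * (e * ((a * e) ^ (j + 1))⁻¹) := by group
    _ = (a * e) ^ (j + 1) * ((a * e) ^ (j + 1) * e) := by rw [h1]
    _ = (a * e) ^ (2 * j + 1) * (a * e) * e := by
        rw [← mul_assoc, ← pow_add, ← pow_succ]
        congr 2
        ring
    _ = a := by
        rw [hj, one_mul, mul_assoc, he, mul_one]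

theorem h28_sq_one_of_orderOf_two {G : Type*} [Group G] (x : G) (hx : orderOf x = 2) : x * x = 1 := by
  have := pow_orderOf_eq_one x
  rw [hx, pow_two] at this
  exact this

theorem h28_conj_mem {G : Type*} [Group G] (d e g : G) (he : e ∈ conjugatesOf d) :
    g * e * g⁻¹ ∈ conjugatesOf d := by
  have he2 : IsConj d e := he
  show IsConj d _
  exact he2.trans (isConj_iff.mpr ⟨g, rfl⟩)

theorem h28_orderOf_two_of_mem {G : Type*} [Group G] (d e : G) (hd : orderOf d = 2) (he : e ∈ conjugatesOf d) :
    orderOf e = 2 := by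
  have he2 : IsConj d e := he
  obtain ⟨c, hc⟩ := isConj_iff.mp he2
  have := (MulAut.conj c).orderOf_eq d
  simp only [MulAut.conj_apply] at this
  rw [← hc, this]
  exact hd

theorem result {G : Type*} [Group G] [Finite G] (d : G) (hd : orderOf d = 2)
    (hodd : ∀ a ∈ conjugatesOf d, ∀ b ∈ conjugatesOf d, Odd (orderOf (a * b)))
    (x : G) (hx : orderOf x = 2) :
    ∀ e ∈ conjugatesOf d,
      ∃! a : G, a ∈ conjugatesOf d ∧ Commute a x ∧ Commute e (a * x) := by
  intro e he
  have hxx : x * x = 1 := h28_sq_one_of_orderOf_two x hx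
  have hee : e * e = 1 := h28_sq_one_of_orderOf_two e (h28_orderOf_two_of_mem d e hd he)
  have hx' : x⁻¹ = x := inv_eq_of_mul_eq_one_left hxx
  have he' : e⁻¹ = e := inv_eq_of_mul_eq_one_left hee
  -- uniqueness first
  have huniq : ∀ a a' : G, a ∈ conjugatesOf d → Commute a x → Commute e (a * x) →
      a' ∈ conjugatesOf d → Commute a' x → Commute e (a' * x) → a = a' := by
    intro a a' ha hax heax ha' hax' heax'
    have haa : a * a = 1 := h28_sq_one_of_orderOf_two a (h28_orderOf_two_of_mem d a hd ha)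
    have haa' : a' * a' = 1 := h28_sq_one_of_orderOf_two a' (h28_orderOf_two_of_mem d a' hd ha')
    have hainv : a⁻¹ = a := inv_eq_of_mul_eq_one_left haa
    have hainv' : a'⁻¹ = a' := inv_eq_of_mul_eq_one_left haa'
    set w := a * a' with hw
    -- e commutes with w
    have hew : Commute e w := by
      have h1 : w = (a * x) * (a' * x) := by
        rw [hw]
        calc a * a' = a * (a' * (x * x)) := by rw [hxx, mul_one]
          _ = a * ((a' * x) * x) := by rw [mul_assoc]
          _ = a * ((x * a') * x) := by rw [hax'.eq]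
          _ = (a * x) * (a' * x) := by group
      rw [h1]
      exact heax.mul_right heax'
    -- a inverts w
    have haw : a * w * a⁻¹ = w⁻¹ := by
      rw [hw, mul_inv_rev, hainv, hainv']
      calc a * (a * a') * a = (a * a) * a' * a := by group
        _ = a' * a := by rw [haa, one_mul]
    -- a*e has odd order
    obtain ⟨j, hj⟩ := hodd a ha e he
    have hpow1 : (a * e) ^ (2 * j + 1) = 1 := by rw [← hj]; exact pow_orderOf_eq_one _
    have hconj := h28_invol_conj_of_odd a e haa hee j hpow1
    -- (a*e) inverts w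
    have haew : (a * e) * w * (a * e)⁻¹ = w⁻¹ := by
      calc (a * e) * w * (a * e)⁻¹ = a * (e * w * e⁻¹) * a⁻¹ := by group
        _ = a * w * a⁻¹ := by rw [hew.eq]; group
        _ = w⁻¹ := haw
    -- g = (a*e)^(j+1) sends w to w or w⁻¹
    have hg : ∀ i : ℕ, ((a * e) ^ i) * w * ((a * e) ^ i)⁻¹ = w ∨ ((a * e) ^ i) * w * ((a * e) ^ i)⁻¹ = w⁻¹ := by
      intro i
      induction i with
      | zero => left; simp
      | succ i ih =>
        have hstep : (a * e) ^ (i + 1) * w * ((a * e) ^ (i + 1))⁻¹ =
            (a * e) * ((a * e) ^ i * w * ((a * e) ^ i)⁻¹) * (a * e)⁻¹ := by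
          rw [pow_succ', mul_inv_rev]; simp only [mul_assoc]
        rw [hstep]
        rcases ih with h | h
        · right; rw [h]; exact haew
        · left; rw [h]
          have : (a * e) * w⁻¹ * (a * e)⁻¹ = ((a * e) * w * (a * e)⁻¹)⁻¹ := by group
          rw [this, haew, inv_inv]
    set g := (a * e) ^ (j + 1) with hgdef
    -- a w a⁻¹ = w using a = g e g⁻¹
    have haw2 : a * w * a⁻¹ = w := by
      have key : ∀ u : G, (g * u * g⁻¹ = w) → a * w * a⁻¹ = g * (e * u * e⁻¹) * g⁻¹ := by
        intro u hu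
        rw [← hu]
        conv_lhs => rw [← hconj]
        group
      rcases hg (j + 1) with h | h
      · -- g w g⁻¹ = w
        have := key w h
        rw [this, hew.eq]
        calc g * (w * e * e⁻¹) * g⁻¹ = g * w * g⁻¹ := by group
          _ = w := h
      · -- g w g⁻¹ = w⁻¹, so g w⁻¹ g⁻¹ = w
        have h' : g * w⁻¹ * g⁻¹ = w := by
          have : g * w⁻¹ * g⁻¹ = (g * w * g⁻¹)⁻¹ := by group
          rw [this, h, inv_inv]
        have := key w⁻¹ h'
        rw [this]
        have hew' : e * w⁻¹ * e⁻¹ = w⁻¹ := by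
          have : e * w⁻¹ * e⁻¹ = (e * w * e⁻¹)⁻¹ := by group
          rw [this, hew.eq]; group
        rw [hew']
        exact h'
    -- so w = w⁻¹
    have hww : w * w = 1 := by
      have : w = w⁻¹ := by rw [← haw]; exact haw2.symm
      calc w * w = w * w⁻¹ := by rw [← this]
        _ = 1 := mul_inv_cancel w
    -- w has odd order
    obtain ⟨m, hm⟩ := hodd a ha a' ha'
    have hwm : w ^ (2 * m + 1) = 1 := by rw [← hm]; exact pow_orderOf_eq_one _
    have hw1 : w = 1 := by
      have : w ^ (2 * m) = 1 := by rw [pow_mul, pow_two, hww, one_pow]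
      rw [pow_succ, this, one_mul] at hwm
      exact hwm
    -- a * a' = 1 → a = a'
    have : a = a'⁻¹ := eq_inv_of_mul_eq_one_left hw1
    rw [this, hainv']
  -- existence
  have hexist : ∃ a : G, a ∈ conjugatesOf d ∧ Commute a x ∧ Commute e (a * x) := by
    rcases Nat.even_or_odd (orderOf (x * e)) with hev | hodd'
    · -- even case
      obtain ⟨k, hk⟩ := hev
      have hk2 : orderOf (x * e) = 2 * k := by omega
      -- (e x)^2 = e * (x e x⁻¹) has odd order
      have hxe_conj : x * e * x⁻¹ ∈ conjugatesOf d := h28_conj_mem d e x he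
      obtain ⟨m, hm⟩ := hodd _ hxe_conj e he
      -- (x e x⁻¹) * e = (x*e)^2
      have hsq : x * e * x⁻¹ * e = (x * e) ^ 2 := by rw [hx', pow_two]; group
      rw [hsq] at hm
      have hkpos : 0 < orderOf (x * e) := orderOf_pos _
      have hordsq : orderOf ((x * e) ^ 2) = k := by
        rw [orderOf_pow' _ (by norm_num : (2:ℕ) ≠ 0), hk2]
        have : Nat.gcd (2 * k) 2 = 2 := by simp
        rw [this]; simp
      rw [hordsq] at hm
      -- k = 2 m + 1
      set t := x * e with ht
      have htk : t ^ (2 * k) = 1 := by rw [← hk2]; exact pow_orderOf_eq_one _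
      -- y = t^k, y*y = 1
      have hyy : t ^ k * t ^ k = 1 := by rw [← pow_add, ← two_mul]; exact htk
      have hyinv : (t ^ k)⁻¹ = t ^ k := inv_eq_of_mul_eq_one_left hyy
      -- x t x⁻¹ = t⁻¹ and e t e⁻¹ = t⁻¹
      have hxt : x * t * x⁻¹ = t⁻¹ := by
        rw [ht, mul_inv_rev, he', hx']
        calc x * (x * e) * x = (x * x) * e * x := by group
          _ = e * x := by rw [hxx, one_mul]
      have het : e * t * e⁻¹ = t⁻¹ := by
        rw [ht, mul_inv_rev, he', hx']
        calc e * (x * e) * e = e * x * (e * e) := by group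
          _ = e * x := by rw [hee, mul_one]
      have hxtp : ∀ i : ℕ, x * t ^ i * x⁻¹ = (t ^ i)⁻¹ := by
        intro i
        have := map_pow (MulAut.conj x) t i
        simp only [MulAut.conj_apply] at this
        rw [this, hxt, inv_pow]
      have hetp : ∀ i : ℕ, e * t ^ i * e⁻¹ = (t ^ i)⁻¹ := by
        intro i
        have := map_pow (MulAut.conj e) t i
        simp only [MulAut.conj_apply] at this
        rw [this, het, inv_pow]
      -- a = t^k * x; (note t = x e here; we use a = x * t^k?) 
      refine ⟨t ^ k * x, ?_, ?_, ?_⟩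
      · -- membership: t^k * x = t^m * (x e x⁻¹) * (t^m)⁻¹  where k = 2m+1
        have : t ^ k * x = t ^ m * (x * e * x⁻¹) * (t ^ m)⁻¹ := by
          have h1 : (t ^ m)⁻¹ = x * t ^ m * x⁻¹ := (hxtp m).symm
          rw [h1, hm, hx']
          calc t ^ (2 * m + 1) * x = t ^ m * t * t ^ m * x := by
                rw [← pow_succ, ← pow_add]; congr 1; ring_nf
            _ = t ^ m * (x * e) * t ^ m * x := by rw [ht]
            _ = t ^ m * (x * e * (x * x)) * t ^ m * x := by rw [hxx, mul_one]
            _ = t ^ m * (x * e * x) * (x * t ^ m * x) := by group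
        rw [this]
        exact h28_conj_mem d _ _ hxe_conj
      · -- Commute (t^k x) x
        show t ^ k * x * x = x * (t ^ k * x)
        have h1 : x * t ^ k = (t ^ k)⁻¹ * x := by
          have := hxtp k
          calc x * t ^ k = (x * t ^ k * x⁻¹) * x := by group
            _ = (t ^ k)⁻¹ * x := by rw [this]
        rw [← mul_assoc, h1, hyinv]
      · -- Commute e (t^k x x)
        show e * (t ^ k * x * x) = t ^ k * x * x * e
        rw [mul_assoc (t ^ k), hxx, mul_one]
        have := hetp k
        calc e * t ^ k = (e * t ^ k * e⁻¹) * e := by group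
          _ = t ^ k * e := by rw [this, hyinv]
    · -- odd case: x is conjugate to e
      obtain ⟨j, hj⟩ := hodd'
      have hpow1 : (x * e) ^ (2 * j + 1) = 1 := by rw [← hj]; exact pow_orderOf_eq_one _
      have hconj := h28_invol_conj_of_odd x e hxx hee j hpow1
      refine ⟨x, ?_, Commute.refl x, ?_⟩
      · rw [← hconj]; exact h28_conj_mem d e _ he
      · rw [hxx]; exact Commute.one_right e
  obtain ⟨a, ha1, ha2, ha3⟩ := hexist
  exact ⟨a, ⟨ha1, ha2, ha3⟩, fun a' ⟨h1, h2, h3⟩ => huniq a' a h1 h2 h3 ha1 ha2 ha3⟩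

end Cfsg.Agent.S5562
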