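import Cfsg.Statements.S5594
import Cfsg.Agent.Lib.Helper28.M24Mem
import Cfsg.Agent.Lib.Helper28.LeechMin
import Cfsg.Agent.S0432
import Cfsg.Agent.S0433

set_option autoImplicit false
open Cfsg

namespace Cfsg.Agent.S5594

open Cfsg.Agent.Lib.Helper28

/-- the dodecad of squares -/
def h28_Q : Finset GolayPt := support₂ (qrWord 0)

theorem h28_Q_mem : h28_Q ∈ supports (golayCode : Set (GolayPt → ZMod 2)) :=
  ⟨qrWord 0, Cfsg.Agent.Lib.Helper4.qrWord_mem_golayCode 0, rfl⟩

set_option maxRecDepth 100000 in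
theorem h28_Q_swap : ∀ i : GolayPt, (projInv i ∈ h28_Q) ↔ ¬ (i ∈ h28_Q) := by
  decide +kernel

theorem h28_projInv_projInv : ∀ i : GolayPt, projInv (projInv i) = i := by
  decide

/-- sign change on the squares composed with `x ↦ -1/x` -/
def h28_gfun (v : GolayPt → ℤ) : GolayPt → ℤ :=
  fun i => if i ∈ h28_Q then - v (projInv i) else v (projInv i)

theorem h28_gfun_mem {v : GolayPt → ℤ} (hv : v ∈ leechLattice) : h28_gfun v ∈ leechLattice :=
  Cfsg.Agent.S0433.result h28_Q h28_Q_mem (fun i => v (projInv i))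
    (Cfsg.Agent.S0432.result projInv projInv_mem_M24 v hv)

theorem h28_gfun_gfun (v : GolayPt → ℤ) : h28_gfun (h28_gfun v) = -v := by
  funext i
  unfold h28_gfun
  by_cases h : i ∈ h28_Q
  · have h' : ¬ projInv i ∈ h28_Q := fun hc => ((h28_Q_swap i).mp hc) h
    simp only [h, h', if_true, if_false, h28_projInv_projInv, Pi.neg_apply]
  · have h' : projInv i ∈ h28_Q := (h28_Q_swap i).mpr h
    simp only [h, h', if_true, if_false, h28_projInv_projInv, Pi.neg_apply]

theorem h28_gfun_add (v w : GolayPt → ℤ) : h28_gfun (v + w) = h28_gfun v + h28_gfun w := by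
  funext i
  unfold h28_gfun
  simp only [Pi.add_apply]
  split_ifs <;> ring

theorem h28_gfun_neg (v : GolayPt → ℤ) : h28_gfun (-v) = - h28_gfun v := by
  funext i
  unfold h28_gfun
  simp only [Pi.neg_apply]
  split_ifs <;> ring

theorem h28_gfun_sqNorm (v : GolayPt → ℤ) : sqNorm (h28_gfun v) = sqNorm v := by
  unfold sqNorm
  rw [← Equiv.sum_comp projInv (fun i => v i ^ 2)]
  refine Finset.sum_congr rfl fun i _ => ?_
  unfold h28_gfun
  split_ifs <;> ring

/-- the element of order four -/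
def h28_g : Equiv.Perm leechLattice where
  toFun v := ⟨h28_gfun v, h28_gfun_mem v.2⟩
  invFun v := ⟨- h28_gfun v, leechLattice.neg_mem (h28_gfun_mem v.2)⟩
  left_inv v := by
    apply Subtype.ext
    show - h28_gfun (h28_gfun (v : GolayPt → ℤ)) = v
    rw [h28_gfun_gfun, neg_neg]
  right_inv v := by
    apply Subtype.ext
    show h28_gfun (- h28_gfun (v : GolayPt → ℤ)) = v
    rw [h28_gfun_neg, h28_gfun_gfun, neg_neg]

theorem h28_g_mem : h28_g ∈ Co0 := by
  refine ⟨fun v w => ?_, fun v => ?_⟩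
  · apply Subtype.ext
    show h28_gfun ((v : GolayPt → ℤ) + w) = h28_gfun v + h28_gfun w
    exact h28_gfun_add _ _
  · show sqNorm (h28_gfun (v : GolayPt → ℤ)) = sqNorm (v : GolayPt → ℤ)
    exact h28_gfun_sqNorm _

theorem h28_neg_mem : Equiv.neg leechLattice ∈ Co0 := by
  refine ⟨fun v w => ?_, fun v => ?_⟩
  · show -(v + w) = -v + -w
    abel
  · show sqNorm ((-v : leechLattice) : GolayPt → ℤ) = sqNorm (v : GolayPt → ℤ)
    rw [AddSubgroup.coe_neg, sqNorm_neg]

/-- a nonzero lattice vector -/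
theorem h28_four_mem : (fun _ => (4 : ℤ)) ∈ leechLattice := by
  rw [Cfsg.Agent.Lib.Helper4.mem_leechLattice_iff, Cfsg.Agent.Lib.Helper4.mem_leechSet_iff]
  refine ⟨0, fun i => by decide, ?_, fun k => ?_⟩
  · rw [Finset.sum_const, Finset.card_univ, card_golayPt]; decide
  · by_cases hk : (4 : ℤ) ≡ k [ZMOD 4]
    · have : Cfsg.Agent.Lib.Helper4.wd (fun _ => (4 : ℤ)) k = 1 := by
        funext i; simp [Cfsg.Agent.Lib.Helper4.wd, hk]
      rw [this]; exact Cfsg.Agent.Lib.Helper4.one_mem_golayCode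
    · have : Cfsg.Agent.Lib.Helper4.wd (fun _ => (4 : ℤ)) k = 0 := by
        funext i; simp [Cfsg.Agent.Lib.Helper4.wd, hk]
      rw [this]; exact golayCode.zero_mem

theorem result :
    ∃ n : ↥Cfsg.Co0, (∀ v : ↥Cfsg.leechLattice, ((n • v : ↥Cfsg.leechLattice) : Cfsg.GolayPt → ℤ) = -(v : Cfsg.GolayPt → ℤ)) ∧
    ∀ K : Subgroup ↥Cfsg.Co0, ¬ (Subgroup.zpowers n).IsComplement' K := by
  let n : ↥Co0 := ⟨Equiv.neg leechLattice, h28_neg_mem⟩
  let g : ↥Co0 := ⟨h28_g, h28_g_mem⟩
  have hn_apply : ∀ v : leechLattice, (n : Equiv.Perm leechLattice) v = -v := fun v => rfl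
  have hgg : g * g = n := by
    apply Subtype.ext
    apply Equiv.ext
    intro v
    apply Subtype.ext
    show h28_gfun (h28_gfun (v : GolayPt → ℤ)) = ((-v : leechLattice) : GolayPt → ℤ)
    rw [h28_gfun_gfun, AddSubgroup.coe_neg]
  have hnn : n * n = 1 := by
    apply Subtype.ext
    apply Equiv.ext
    intro v
    show - - v = v
    exact neg_neg v
  have hn1 : n ≠ 1 := by
    intro h
    have h1 : (n : Equiv.Perm leechLattice) ⟨_, h28_four_mem⟩ =
        ((1 : ↥Co0) : Equiv.Perm leechLattice) ⟨_, h28_four_mem⟩ := by rw [h]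
    rw [hn_apply] at h1
    have h2 : ((-(⟨_, h28_four_mem⟩ : leechLattice) : leechLattice) : GolayPt → ℤ) none =
        ((⟨_, h28_four_mem⟩ : leechLattice) : GolayPt → ℤ) none := by
      rw [h1]; rfl
    rw [AddSubgroup.coe_neg] at h2
    simp only [Pi.neg_apply] at h2
    omega
  have hcentral : ∀ k : ↥Co0, n * k = k * n := by
    intro k
    apply Subtype.ext
    apply Equiv.ext
    intro v
    show -((k : Equiv.Perm leechLattice) v) = (k : Equiv.Perm leechLattice) (-v)
    have hadd := k.2.1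
    have h0 : (k : Equiv.Perm leechLattice) 0 = 0 := by
      have := hadd 0 0
      rw [add_zero] at this
      exact left_eq_add.mp this
    have := hadd v (-v)
    rw [add_neg_cancel, h0] at this
    exact (neg_eq_of_add_eq_zero_right this.symm)
  refine ⟨n, fun v => ?_, fun K hK => ?_⟩
  · show ((-v : leechLattice) : GolayPt → ℤ) = -(v : GolayPt → ℤ)
    exact AddSubgroup.coe_neg _ _
  · obtain ⟨⟨⟨a, ha⟩, ⟨k, hk⟩⟩, hak⟩ := hK.2 g
    simp only at hak
    obtain ⟨z, rfl⟩ := Subgroup.mem_zpowers_iff.mp ha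
    have hcomm : Commute (n ^ z) k := (Commute.zpow_left (hcentral k) z)
    have hsq : (n ^ z) * (n ^ z) = 1 := by
      rw [← zpow_add, ← two_mul, zpow_mul, zpow_two, hnn, one_zpow]
    have hkk : k * k = n := by
      rw [← hgg, ← hak]
      calc k * k = ((n ^ z) * (n ^ z)) * (k * k) := by rw [hsq, one_mul]
        _ = (n ^ z * k) * (n ^ z * k) := by
          rw [mul_assoc, mul_assoc, ← mul_assoc (n ^ z) k k, ← mul_assoc k (n ^ z) k, hcomm.eq]
    have hnK : n ∈ K := by rw [← hkk]; exact K.mul_mem hk hk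
    have hnZ : n ∈ Subgroup.zpowers n := Subgroup.mem_zpowers n
    exact hn1 (Subgroup.disjoint_def.mp hK.disjoint hnZ hnK)

end Cfsg.Agent.S5594
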