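import Cfsg.Statements.S5599
import Cfsg.Agent.Lib.Helper28.M24Simple
import Cfsg.Agent.Lib.Helper28.M24Mask

set_option autoImplicit false
open scoped Pointwise
open Cfsg

namespace Cfsg.Agent.S5599

open Cfsg.Agent.Lib.Helper28 Cfsg.Agent.Lib.Helper4 in
theorem h28_pt_vals : pt 23 = (none : GolayPt) ∧ pt 0 = (some 0 : GolayPt) := by
  constructor <;> rfl

open Cfsg.Agent.Lib.Helper28 in
theorem h28_mem_M22 {x : Equiv.Perm GolayPt} :
    x ∈ Cfsg.Spor.M22 ↔ x ∈ M24 ∧ x none = none ∧ x (some 0) = some 0 := by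
  unfold Cfsg.Spor.M22 Cfsg.Spor.M23
  rw [Subgroup.mem_inf, Subgroup.mem_inf, and_assoc]
  exact Iff.rfl

theorem h28_ne : (none : GolayPt) ≠ some 0 := by decide

/-- an element preserving the pair either fixes or swaps the two points -/
theorem h28_pair (b : Equiv.Perm GolayPt)
    (hb : b • ({none, some 0} : Finset GolayPt) = {none, some 0}) :
    (b none = none ∧ b (some 0) = some 0) ∨ (b none = some 0 ∧ b (some 0) = none) := by
  have h1 : b none ∈ ({none, some 0} : Finset GolayPt) := by
    rw [← hb]; exact Finset.smul_mem_smul_finset (by simp)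
  have h2 : b (some 0) ∈ ({none, some 0} : Finset GolayPt) := by
    rw [← hb]; exact Finset.smul_mem_smul_finset (by simp)
  simp only [Finset.mem_insert, Finset.mem_singleton] at h1 h2
  rcases h1 with h1 | h1 <;> rcases h2 with h2 | h2
  · exact absurd (b.injective (h1.trans h2.symm)) h28_ne
  · exact Or.inl ⟨h1, h2⟩
  · exact Or.inr ⟨h1, h2⟩
  · exact absurd (b.injective (h1.trans h2.symm)) h28_ne

open Cfsg.Agent.Lib.Helper28 in
set_option maxRecDepth 100000 in
theorem h28_x3_spec : (∀ a : Fin 24, wordTab (m24tr 3 21) a = a ↔ (a = 23 ∨ a = 0 ∨ a = 1)) := by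
  decide +kernel

open Cfsg.Agent.Lib.Helper28 in
set_option maxRecDepth 100000 in
theorem h28_oct_facts : IsCodeMask 8394986 ∧
    (Finset.univ.filter fun a : Fin 24 => (8394986 : ℕ).testBit a.val = true).card = 8 ∧
    5 ≤ (Finset.univ.filter fun a : Fin 24 =>
      (8394986 : ℕ).testBit a.val = true ∧ (8388606 : ℕ).testBit a.val = true).card ∧
    (8394986 : ℕ).testBit 23 = true ∧ (8394986 : ℕ).testBit 0 = false ∧
    ∀ a : Fin 24, (8388606 : ℕ).testBit a.val = true → a ≠ 23 ∧ a ≠ 0 := by
  decide +kernel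

open Cfsg.Agent.Lib.Helper28 Cfsg.Agent.Lib.Helper4 in
/-- no element of `M24` swapping `∞` and `0` centralizes `M22` -/
theorem h28_no_central (u : Equiv.Perm GolayPt) (hu : u ∈ M24) (h1 : u none = some 0)
    (hc : ∀ x ∈ Cfsg.Spor.M22, u * x = x * u) : False := by
  -- u fixes the point 1
  have hx3 : wordPerm (m24tr 3 21) ∈ Cfsg.Spor.M22 := by
    rw [h28_mem_M22]
    refine ⟨wordPerm_mem_M24 _, ?_, ?_⟩
    · rw [← h28_pt_vals.1, wordPerm_pt, (h28_x3_spec 23).mpr (Or.inl rfl)]
    · rw [← h28_pt_vals.2, wordPerm_pt, (h28_x3_spec 0).mpr (Or.inr (Or.inl rfl))]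
  have hu1 : u (pt 1) = pt 1 := by
    obtain ⟨a, ha⟩ := pt_bijective.2 (u (pt 1))
    have hcomm := hc _ hx3
    have h2 : wordPerm (m24tr 3 21) (u (pt 1)) = u (pt 1) := by
      have := congrArg (fun f : Equiv.Perm GolayPt => f (pt 1)) hcomm
      simp only [Equiv.Perm.mul_apply] at this
      rw [wordPerm_pt, (h28_x3_spec 1).mpr (Or.inr (Or.inr rfl))] at this
      exact this.symm
    rw [← ha, wordPerm_pt] at h2
    have h3 := (h28_x3_spec a).mp (pt_bijective.1 h2)
    rcases h3 with h3 | h3 | h3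
    · exfalso
      rw [h3, h28_pt_vals.1] at ha
      -- u (pt 1) = none = u⁻¹ ... but u none = some 0; u (some 0) must be none? use injectivity differently
      have hcomm2 := hc _ hx3
      -- u maps fixed points of x3 to fixed points; none ↦ some 0, so pt 1 ↦ none forces some 0 ↦ pt 1
      have h4 : wordPerm (m24tr 3 21) (u (some 0)) = u (some 0) := by
        have := congrArg (fun f : Equiv.Perm GolayPt => f (some 0)) hcomm2
        simp only [Equiv.Perm.mul_apply] at this
        rw [← h28_pt_vals.2, wordPerm_pt, (h28_x3_spec 0).mpr (Or.inr (Or.inl rfl))] at this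
        rw [← h28_pt_vals.2]
        exact this.symm
      obtain ⟨c, hc'⟩ := pt_bijective.2 (u (some 0))
      rw [← hc', wordPerm_pt] at h4
      have h5 := (h28_x3_spec c).mp (pt_bijective.1 h4)
      rcases h5 with h5 | h5 | h5
      · rw [h5, h28_pt_vals.1] at hc'
        have := u.injective (hc'.symm.trans ha)
        revert this; decide
      · rw [h5, h28_pt_vals.2] at hc'
        have := u.injective (hc'.symm.trans h1.symm)
        revert this; decide
      · -- u (some 0) = pt 1; then consider an element of M22 moving 1 but u-structure: use x = level element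
        rw [h5] at hc'
        -- u : none ↦ some 0 ↦ pt 1 ↦ none; take m ∈ M22 with m (pt 1) = pt 2; u m = m u at some 0
        obtain ⟨m, hm, hm1, hm2⟩ := M24_level 2 2 (by decide)
        have hmM : m ∈ Cfsg.Spor.M22 := by
          rw [h28_mem_M22]
          refine ⟨hm, ?_, ?_⟩
          · have := hm1 0 (by decide)
            rw [m24base_vals.1, h28_pt_vals.1] at this; exact this
          · have := hm1 1 (by decide)
            rw [m24base_vals.2.1, h28_pt_vals.2] at this; exact this
        have hcm := congrArg (fun f : Equiv.Perm GolayPt => f (some 0)) (hc _ hmM)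
        simp only [Equiv.Perm.mul_apply] at hcm
        have hm0 : m (some 0) = some 0 := (h28_mem_M22.mp hmM).2.2
        rw [hm0, ← hc', ] at hcm
        rw [m24base_vals.2.2] at hm2
        rw [hm2] at hcm
        revert hcm; decide
    · exfalso
      rw [h3, h28_pt_vals.2] at ha
      have := u.injective (ha.symm.trans h1.symm)
      revert this; decide
    · rw [h3] at ha; exact ha.symm
  -- u fixes every point other than ∞ and 0
  have hfix : ∀ a : Fin 24, (8388606 : ℕ).testBit a.val = true → u (pt a) = pt a := by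
    intro a ha
    obtain ⟨ha1, ha2⟩ := h28_oct_facts.2.2.2.2.2 a ha
    obtain ⟨m, hm, hm1, hm2⟩ := M24_level 2 a (m24omega_low.2.2.1 a ha1 ha2)
    have hmM : m ∈ Cfsg.Spor.M22 := by
      rw [h28_mem_M22]
      refine ⟨hm, ?_, ?_⟩
      · have := hm1 0 (by decide)
        rw [m24base_vals.1, h28_pt_vals.1] at this; exact this
      · have := hm1 1 (by decide)
        rw [m24base_vals.2.1, h28_pt_vals.2] at this; exact this
    rw [m24base_vals.2.2] at hm2
    have hcm := congrArg (fun f : Equiv.Perm GolayPt => f (pt 1)) (hc _ hmM)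
    simp only [Equiv.Perm.mul_apply] at hcm
    rw [hm2, hu1, hm2] at hcm
    exact hcm
  have hinv : u • maskSet 8394986 = maskSet 8394986 :=
    maskSet_invariant hu _ 8388606 (maskSet_mem_octads _ h28_oct_facts.1 h28_oct_facts.2.1) hfix
      h28_oct_facts.2.2.1
  have h6 := apply_mem_of_smul_eq hinv (pt 23)
  rw [h28_pt_vals.1, h1, ← h28_pt_vals.2, ← h28_pt_vals.1, pt_mem_maskSet, pt_mem_maskSet] at h6
  have h8 := h6.mpr h28_oct_facts.2.2.2.1
  revert h8
  decide


/-- In the automorphism group of the length-24 code, the two-point Mathieu group (permutations of the code's group fixing the extra point and the residue 0) has index 2 in the setwise stabiliser of that pair of points, and an element of the code's group interchanging the two points normalises the two-point group and induces on it, by conjugation, an automorphism that is not inner. -/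
theorem result (g : Equiv.Perm Cfsg.GolayPt) (hg : g ∈ Cfsg.M24) (h₁ : g none = some 0) (h₂ : g (some 0) = none) : Cfsg.Spor.M22.relIndex (Cfsg.M24 ⊓ MulAction.stabilizer (Equiv.Perm Cfsg.GolayPt) ({none, some 0} : Finset Cfsg.GolayPt)) = 2 ∧ (∀ x ∈ Cfsg.Spor.M22, g * x * g⁻¹ ∈ Cfsg.Spor.M22) ∧ ¬ ∃ h ∈ Cfsg.Spor.M22, ∀ x ∈ Cfsg.Spor.M22, g * x * g⁻¹ = h * x * h⁻¹ := by
  have hg' : g • ({none, some 0} : Finset Cfsg.GolayPt) = {none, some 0} := by
    ext y
    rw [Finset.mem_smul_finset]
    simp only [Finset.mem_insert, Finset.mem_singleton]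
    constructor
    · rintro ⟨z, hz | hz, rfl⟩
      · rw [hz]; exact Or.inr h₁
      · rw [hz]; exact Or.inl h₂
    · rintro (hy | hy)
      · exact ⟨some 0, Or.inr rfl, by rw [hy]; exact h₂⟩
      · exact ⟨none, Or.inl rfl, by rw [hy]; exact h₁⟩
  have hginv1 : g⁻¹ none = some 0 := by rw [Equiv.Perm.inv_eq_iff_eq, h₂]
  have hginv2 : g⁻¹ (some 0) = none := by rw [Equiv.Perm.inv_eq_iff_eq, h₁]
  refine ⟨?_, ?_, ?_⟩
  · rw [Subgroup.relIndex_eq_two_iff_exists_notMem_and]
    refine ⟨g, ⟨hg, hg'⟩, ?_, ?_⟩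
    · intro hcon
      have := (h28_mem_M22.mp hcon).2.1
      rw [h₁] at this
      exact h28_ne this.symm
    · rintro b ⟨hbM, hb⟩
      rcases h28_pair b hb with ⟨hb1, hb2⟩ | ⟨hb1, hb2⟩
      · exact Or.inr (h28_mem_M22.mpr ⟨hbM, hb1, hb2⟩)
      · left
        rw [h28_mem_M22]
        refine ⟨Cfsg.M24.mul_mem hbM hg, ?_, ?_⟩
        · rw [Equiv.Perm.mul_apply, h₁, hb2]
        · rw [Equiv.Perm.mul_apply, h₂, hb1]
  · intro x hx
    rw [h28_mem_M22] at hx ⊢
    refine ⟨Cfsg.M24.mul_mem (Cfsg.M24.mul_mem hg hx.1) (Cfsg.M24.inv_mem hg), ?_, ?_⟩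
    · rw [Equiv.Perm.mul_apply, Equiv.Perm.mul_apply, hginv1, hx.2.2, h₂]
    · rw [Equiv.Perm.mul_apply, Equiv.Perm.mul_apply, hginv2, hx.2.1, h₁]
  · rintro ⟨h, hh, hconj⟩
    have hh' := h28_mem_M22.mp hh
    apply h28_no_central (h⁻¹ * g) (Cfsg.M24.mul_mem (Cfsg.M24.inv_mem hh'.1) hg)
    · rw [Equiv.Perm.mul_apply, h₁, Equiv.Perm.inv_eq_iff_eq, hh'.2.2]
    · intro x hx
      have := hconj x hx
      calc h⁻¹ * g * x = h⁻¹ * (g * x * g⁻¹) * g := by group
        _ = h⁻¹ * (h * x * h⁻¹) * g := by rw [this]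
        _ = x * (h⁻¹ * g) := by group


end Cfsg.Agent.S5599
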