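import Cfsg.Statements.S5600
import Cfsg.Agent.Lib.Helper28.SixSets

set_option autoImplicit false
open scoped Pointwise
open Cfsg

namespace Cfsg.Agent.S5600

open Cfsg.Agent.Lib.Helper28


/-- Although the group of the length-24 code is only 5-transitive on the 24 points, it induces the full symmetric group on every 6-element subset: every permutation of a 6-set E is the restriction of an element of the group mapping E to itself. The pointwise stabiliser of E has order 16 when E lies in an octad and order 3 otherwise; in the latter case the setwise stabiliser of E has order 2160. -/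
theorem result (E : Finset Cfsg.GolayPt) (hE : E.card = 6) : (∀ σ : Equiv.Perm ↥E, ∃ g ∈ Cfsg.M24, ∀ p : ↥E, g p = σ p) ∧ ((∃ o ∈ Cfsg.octads, E ⊆ o) → Nat.card {g : Equiv.Perm Cfsg.GolayPt // g ∈ Cfsg.M24 ∧ ∀ p ∈ E, g p = p} = 16) ∧ ((¬ ∃ o ∈ Cfsg.octads, E ⊆ o) → Nat.card {g : Equiv.Perm Cfsg.GolayPt // g ∈ Cfsg.M24 ∧ ∀ p ∈ E, g p = p} = 3 ∧ Nat.card ↥(MulAction.stabilizer Cfsg.M24 E) = 2160) := by
  classical
  have hsurj : ∀ σ : Equiv.Perm ↥E, ∃ g ∈ Cfsg.M24, ∀ p : ↥E, g p = σ p := by
    intro σ
    set lE : List ↥E := E.attach.toList with hlE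
    have hlEnd : lE.Nodup := Finset.nodup_toList _
    have hlElen : lE.length = 6 := by rw [hlE, Finset.length_toList, Finset.card_attach, hE]
    have hmemlE : ∀ p : ↥E, p ∈ lE := fun p => Finset.mem_toList.mpr (Finset.mem_attach _ _)
    have hnd : (lE.map (fun p : ↥E => p.1)).Nodup :=
      hlEnd.map Subtype.val_injective
    have hnd' : (lE.map (fun p : ↥E => (σ p).1)).Nodup :=
      hlEnd.map (fun p q h => σ.injective (Subtype.ext h))
    have key : ∀ g : Equiv.Perm Cfsg.GolayPt, (lE.map (fun p : ↥E => p.1)).map g =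
        lE.map (fun p : ↥E => (σ p).1) → ∀ p : ↥E, g p = σ p := by
      intro g hg p
      rw [List.map_map, List.map_inj_left] at hg
      exact hg p (hmemlE p)
    by_cases hex : ∃ o ∈ Cfsg.octads, E ⊆ o
    · obtain ⟨o, ho, hEo⟩ := hex
      obtain ⟨g, hg, _, hmap⟩ := octad_stab_map_list ho _ _ hnd hnd'
        (by
          intro x hx
          rw [List.mem_map] at hx
          obtain ⟨p, _, rfl⟩ := hx
          exact hEo p.2)
        (by
          intro x hx
          rw [List.mem_map] at hx
          obtain ⟨p, _, rfl⟩ := hx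
          exact hEo (σ p).2)
        (by rw [List.length_map, List.length_map])
        (by rw [List.length_map, hlElen])
      exact ⟨g, hg, key g hmap⟩
    · have hno : ∀ f : ↥E → ↥E, Function.Surjective f →
          ¬ ∃ o ∈ Cfsg.octads, ∀ x ∈ lE.map (fun p : ↥E => (f p).1), x ∈ o := by
        rintro f hf ⟨o, ho, hx⟩
        apply hex
        refine ⟨o, ho, fun x hxE => ?_⟩
        obtain ⟨p, hp⟩ := hf ⟨x, hxE⟩
        apply hx
        rw [List.mem_map]
        exact ⟨p, hmemlE p, by rw [hp]⟩
      obtain ⟨h, hh, hmap⟩ := exists_map_umbral_list _ hnd (by rw [List.length_map, hlElen])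
        (hno id Function.surjective_id)
      obtain ⟨h', hh', hmap'⟩ := exists_map_umbral_list _ hnd' (by rw [List.length_map, hlElen])
        (hno σ σ.surjective)
      refine ⟨h' * h⁻¹, Cfsg.M24.mul_mem hh' (Cfsg.M24.inv_mem hh), ?_⟩
      apply key
      rw [← hmap, ← hmap', List.map_map]
      apply List.map_congr_left
      intro x _
      simp
  refine ⟨hsurj, ?_, ?_⟩
  · rintro ⟨o, ho, hEo⟩
    rw [card_subtype_ptwise, card_ptwise_six_in_octad ho hE hEo]
  · intro hno
    have h3 : Nat.card (ptwise E) = 3 := card_ptwise_umbral hE hno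
    refine ⟨by rw [card_subtype_ptwise, h3], ?_⟩
    rw [card_stabilizer_subgroup, card_restrict]
    have hr : (restrictHomOf Cfsg.M24 E).range = ⊤ := by
      rw [eq_top_iff]
      intro σ _
      rw [mem_range_restrictHomOf_iff]
      obtain ⟨g, hg, hgσ⟩ := hsurj σ
      have hiff : ∀ x, g x ∈ E ↔ x ∈ E := by
        intro x
        constructor
        · intro hx
          obtain ⟨p, hp⟩ := σ.surjective ⟨g x, hx⟩
          have := hgσ p
          rw [hp] at this
          have h2 : x = p.1 := g.injective this.symm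
          rw [h2]; exact p.2
        · intro hx
          rw [hgσ ⟨x, hx⟩]
          exact (σ ⟨x, hx⟩).2
      refine ⟨g, hg, hiff, ?_⟩
      apply Equiv.ext
      intro p
      apply Subtype.ext
      exact hgσ p
    have h720 : Nat.card (restrictHomOf Cfsg.M24 E).range = 720 := by
      rw [hr, Nat.card_congr (Subgroup.topEquiv (G := Equiv.Perm ↥E)).toEquiv,
        Nat.card_eq_fintype_card, Fintype.card_perm, Fintype.card_coe, hE]
      decide
    have h3' : Nat.card ↥(Cfsg.M24 ⊓ fixingSubgroup (Equiv.Perm Cfsg.GolayPt) (E : Set Cfsg.GolayPt)) = 3 := h3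
    rw [h720, h3']

end Cfsg.Agent.S5600
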