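import Cfsg.Statements.S5601
import Cfsg.Agent.Lib.Helper28.InvolTypes
import Cfsg.Agent.Lib.Helper28.SubgroupPrime

set_option autoImplicit false
open scoped Pointwise
open Cfsg

namespace Cfsg.Agent.S5601

open Cfsg.Agent.Lib.Helper28


/-- The group of the length-24 code has exactly two conjugacy classes of subgroups of order 3: a subgroup of order 3 fixes either exactly 6 of the 24 points or none of them, both cases occur, and two subgroups of order 3 with the same number of fixed points are conjugate. -/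
theorem result : (∀ X : Subgroup ↥Cfsg.M24, Nat.card X = 3 → {p : Cfsg.GolayPt | ∀ x ∈ X, ((x : ↥Cfsg.M24) : Equiv.Perm Cfsg.GolayPt) p = p}.ncard = 6 ∨ {p : Cfsg.GolayPt | ∀ x ∈ X, ((x : ↥Cfsg.M24) : Equiv.Perm Cfsg.GolayPt) p = p}.ncard = 0) ∧ (∃ X : Subgroup ↥Cfsg.M24, Nat.card X = 3 ∧ {p : Cfsg.GolayPt | ∀ x ∈ X, ((x : ↥Cfsg.M24) : Equiv.Perm Cfsg.GolayPt) p = p}.ncard = 6) ∧ (∃ X : Subgroup ↥Cfsg.M24, Nat.card X = 3 ∧ {p : Cfsg.GolayPt | ∀ x ∈ X, ((x : ↥Cfsg.M24) : Equiv.Perm Cfsg.GolayPt) p = p}.ncard = 0) ∧ ∀ X Y : Subgroup ↥Cfsg.M24, Nat.card X = 3 → Nat.card Y = 3 → {p : Cfsg.GolayPt | ∀ x ∈ X, ((x : ↥Cfsg.M24) : Equiv.Perm Cfsg.GolayPt) p = p}.ncard = {p : Cfsg.GolayPt | ∀ x ∈ Y, ((x : ↥Cfsg.M24) : Equiv.Perm Cfsg.GolayPt) p = p}.ncard → ∃ k : ↥Cfsg.M24, MulAut.conj k • X = Y := by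
  classical
  -- the fixed points of a subgroup of order three through a generator
  have key : ∀ X : Subgroup ↥Cfsg.M24, Nat.card X = 3 → ∃ x : ↥Cfsg.M24, X = Subgroup.zpowers x ∧
      orderOf (x : Equiv.Perm Cfsg.GolayPt) = 3 ∧
      {p : Cfsg.GolayPt | ∀ y ∈ X, ((y : ↥Cfsg.M24) : Equiv.Perm Cfsg.GolayPt) p = p}.ncard =
        (Finset.univ.filter fun p => (x : Equiv.Perm Cfsg.GolayPt) p = p).card := by
    intro X hX
    obtain ⟨x, _, hord, rfl⟩ := exists_gen_of_card_three X hX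
    refine ⟨x, rfl, by rw [Subgroup.orderOf_coe]; exact hord, ?_⟩
    rw [← Set.ncard_coe_finset]
    congr 1
    ext p
    simp only [Set.mem_setOf_eq, Finset.coe_filter, Finset.mem_univ, true_and]
    exact fixed_zpowers Cfsg.M24 x p
  have hzero : ∀ g : Equiv.Perm Cfsg.GolayPt, (∀ p, g p ≠ p) →
      (Finset.univ.filter fun p => g p = p).card = 0 := by
    intro g hg
    rw [Finset.card_eq_zero, Finset.filter_eq_empty_iff]
    intro p _
    exact hg p
  have hcardz : ∀ x : ↥Cfsg.M24, orderOf (x : Equiv.Perm Cfsg.GolayPt) = 3 →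
      Nat.card (Subgroup.zpowers x) = 3 := by
    intro x hx
    rw [Nat.card_zpowers, ← Subgroup.orderOf_coe, hx]
  refine ⟨?_, ?_, ?_, ?_⟩
  · intro X hX
    obtain ⟨x, _, hord, hfix⟩ := key X hX
    rw [hfix]
    rcases order_three_type x.2 hord with ⟨_, _, _, h6⟩ | ⟨_, _, _, h0⟩
    · exact Or.inl h6
    · exact Or.inr (hzero _ h0)
  · refine ⟨Subgroup.zpowers ⟨rep3 0, rep3_mem 0⟩, hcardz _ (rep3_order 0), ?_⟩
    obtain ⟨x, hx, hord, hfix⟩ := key _ (hcardz ⟨rep3 0, rep3_mem 0⟩ (rep3_order 0))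
    have := fixed_zpowers Cfsg.M24 (⟨rep3 0, rep3_mem 0⟩ : ↥Cfsg.M24)
    have hset : {p : Cfsg.GolayPt | ∀ y ∈ Subgroup.zpowers (⟨rep3 0, rep3_mem 0⟩ : ↥Cfsg.M24),
        ((y : ↥Cfsg.M24) : Equiv.Perm Cfsg.GolayPt) p = p} =
        ((Finset.univ.filter fun p => rep3 0 p = p : Finset Cfsg.GolayPt) : Set Cfsg.GolayPt) := by
      ext p
      simp only [Set.mem_setOf_eq, Finset.coe_filter, Finset.mem_univ, true_and]
      exact this p
    rw [hset, Set.ncard_coe_finset]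
    exact rep3_fix0
  · refine ⟨Subgroup.zpowers ⟨rep3 1, rep3_mem 1⟩, hcardz _ (rep3_order 1), ?_⟩
    have := fixed_zpowers Cfsg.M24 (⟨rep3 1, rep3_mem 1⟩ : ↥Cfsg.M24)
    have hset : {p : Cfsg.GolayPt | ∀ y ∈ Subgroup.zpowers (⟨rep3 1, rep3_mem 1⟩ : ↥Cfsg.M24),
        ((y : ↥Cfsg.M24) : Equiv.Perm Cfsg.GolayPt) p = p} =
        ((Finset.univ.filter fun p => rep3 1 p = p : Finset Cfsg.GolayPt) : Set Cfsg.GolayPt) := by
      ext p
      simp only [Set.mem_setOf_eq, Finset.coe_filter, Finset.mem_univ, true_and]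
      exact this p
    rw [hset, Set.ncard_coe_finset]
    exact hzero _ rep3_fix1
  · intro X Y hX hY hXY
    obtain ⟨x, rfl, hordx, hfixx⟩ := key X hX
    obtain ⟨y, rfl, hordy, hfixy⟩ := key Y hY
    rw [hfixx, hfixy] at hXY
    -- a conjugating element
    have hconj : ∃ k ∈ Cfsg.M24, k * (x : Equiv.Perm Cfsg.GolayPt) * k⁻¹ = y := by
      rcases order_three_type x.2 hordx with ⟨k, hk, he, h6⟩ | ⟨k, hk, he, h0⟩
      · rcases order_three_type y.2 hordy with ⟨k', hk', he', h6'⟩ | ⟨k', hk', he', h0'⟩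
        · refine ⟨k'⁻¹ * k, Cfsg.M24.mul_mem (Cfsg.M24.inv_mem hk') hk, ?_⟩
          have : (k'⁻¹ * k) * (x : Equiv.Perm Cfsg.GolayPt) * (k'⁻¹ * k)⁻¹ =
              k'⁻¹ * (k * x * k⁻¹) * k' := by group
          rw [this, he, ← he']; group
        · rw [h6, hzero _ h0'] at hXY
          norm_num at hXY
      · rcases order_three_type y.2 hordy with ⟨k', hk', he', h6'⟩ | ⟨k', hk', he', h0'⟩
        · rw [h6', hzero _ h0] at hXY
          norm_num at hXY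
        · refine ⟨k'⁻¹ * k, Cfsg.M24.mul_mem (Cfsg.M24.inv_mem hk') hk, ?_⟩
          have : (k'⁻¹ * k) * (x : Equiv.Perm Cfsg.GolayPt) * (k'⁻¹ * k)⁻¹ =
              k'⁻¹ * (k * x * k⁻¹) * k' := by group
          rw [this, he, ← he']; group
    obtain ⟨k, hk, he⟩ := hconj
    refine ⟨⟨k, hk⟩, ?_⟩
    rw [conj_smul_zpowers]
    congr 1
    exact Subtype.ext he


end Cfsg.Agent.S5601
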