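import Cfsg.Statements.S5602
import Cfsg.Agent.Lib.Helper28.ElemCounts

set_option autoImplicit false
open scoped Pointwise
open Cfsg

namespace Cfsg.Agent.S5602

open Cfsg.Agent.Lib.Helper28


/-- An element of order 3 of the group of the length-24 code having exactly 6 fixed points maps to themselves exactly 21 octads, exactly 15 trios, exactly 16 sextets and exactly 20 dodecads. -/
theorem result (g : Equiv.Perm Cfsg.GolayPt) (hg : g ∈ Cfsg.M24) (h₃ : orderOf g = 3) (h₆ : (Finset.univ.filter fun p => g p = p).card = 6) : {o : Finset Cfsg.GolayPt | o ∈ Cfsg.octads ∧ g • o = o}.ncard = 21 ∧ {T : Finset (Finset Cfsg.GolayPt) | T ∈ Cfsg.trios ∧ g • T = T}.ncard = 15 ∧ {S : Finset (Finset Cfsg.GolayPt) | S ∈ Cfsg.sextets ∧ g • S = S}.ncard = 16 ∧ {d : Finset Cfsg.GolayPt | d ∈ Cfsg.dodecads ∧ g • d = d}.ncard = 20 := by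
  classical
  rcases order_three_type hg h₃ with ⟨k, hk, he, _⟩ | ⟨k, hk, he, hfpf⟩
  · obtain ⟨c1, c2, c3, c4⟩ := fixed_counts_of_conj hk he
    have hact : ActsBy (rep3 0) (el_rep3_tabs.getD 0 0) := rep3_acts 0
    rw [c1, c2, c3, c4, ncard_fixed_octads hact, ncard_fixed_trios hact, ncard_fixed_sextets hact,
      ncard_fixed_dodecads hact]
    exact ⟨rep3A_count_check.1, rep3A_count_check.2.1, rep3A_count_check.2.2.1,
      rep3A_count_check.2.2.2⟩
  · exfalso
    have : (Finset.univ.filter fun p => g p = p) = ∅ := by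
      rw [Finset.filter_eq_empty_iff]
      intro p _
      exact hfpf p
    rw [this] at h₆
    simp at h₆


end Cfsg.Agent.S5602
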