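import Cfsg.Statements.S5603
import Cfsg.Agent.Lib.Helper28.ElemCounts

set_option autoImplicit false
open scoped Pointwise
open Cfsg

namespace Cfsg.Agent.S5603

open Cfsg.Agent.Lib.Helper28


/-- A fixed-point-free element of order 3 of the group of the length-24 code maps to themselves exactly 7 sextets and exactly 15 trios. -/
theorem result (g : Equiv.Perm Cfsg.GolayPt) (hg : g ∈ Cfsg.M24) (h₃ : orderOf g = 3) (h₀ : ∀ p, g p ≠ p) : {S : Finset (Finset Cfsg.GolayPt) | S ∈ Cfsg.sextets ∧ g • S = S}.ncard = 7 ∧ {T : Finset (Finset Cfsg.GolayPt) | T ∈ Cfsg.trios ∧ g • T = T}.ncard = 15 := by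
  classical
  rcases order_three_type hg h₃ with ⟨k, hk, he, hfix⟩ | ⟨k, hk, he, _⟩
  · exfalso
    have hpos : 0 < (Finset.univ.filter fun p => g p = p).card := by rw [hfix]; norm_num
    obtain ⟨p, hp⟩ := Finset.card_pos.mp hpos
    exact h₀ p (Finset.mem_filter.mp hp).2
  · obtain ⟨_, _, c3, c4⟩ := fixed_counts_of_conj hk he
    have hact : ActsBy (rep3 1) (el_rep3_tabs.getD 1 0) := rep3_acts 1
    rw [c3, c4, ncard_fixed_trios hact, ncard_fixed_sextets hact]
    exact ⟨rep3B_count_check.2, rep3B_count_check.1⟩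


end Cfsg.Agent.S5603
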