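import Cfsg.Statements.S5605
import Cfsg.Agent.Lib.Helper28.ElemCounts

set_option autoImplicit false
open scoped Pointwise
open Cfsg

namespace Cfsg.Agent.S5605

open Cfsg.Agent.Lib.Helper28


/-- An involution of the group of the length-24 code with exactly 8 fixed points maps to themselves exactly 71 octads, exactly 99 trios and exactly 91 sextets. -/
theorem result (g : Equiv.Perm Cfsg.GolayPt) (hg : g ∈ Cfsg.M24) (h₂ : orderOf g = 2) (h₈ : (Finset.univ.filter fun p => g p = p).card = 8) : {o : Finset Cfsg.GolayPt | o ∈ Cfsg.octads ∧ g • o = o}.ncard = 71 ∧ {T : Finset (Finset Cfsg.GolayPt) | T ∈ Cfsg.trios ∧ g • T = T}.ncard = 99 ∧ {S : Finset (Finset Cfsg.GolayPt) | S ∈ Cfsg.sextets ∧ g • S = S}.ncard = 91 := by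
  classical
  rcases involution_type hg h₂ with ⟨k, hk, he, _⟩ | ⟨k, hk, he, hfpf⟩
  · obtain ⟨c1, _, c3, c4⟩ := fixed_counts_of_conj hk he
    have hact : ActsBy (rep2 0) (el_rep2_tabs.getD 0 0) := rep2_acts 0
    rw [c1, c3, c4, ncard_fixed_octads hact, ncard_fixed_trios hact, ncard_fixed_sextets hact]
    exact rep2A_count_check
  · exfalso
    have : (Finset.univ.filter fun p => g p = p) = ∅ := by
      rw [Finset.filter_eq_empty_iff]
      intro p _
      exact hfpf p
    rw [this] at h₈
    simp at h₈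


end Cfsg.Agent.S5605
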