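import Cfsg.Statements.S5606
import Cfsg.Agent.Lib.Helper28.ElemCounts

set_option autoImplicit false
open scoped Pointwise
open Cfsg

namespace Cfsg.Agent.S5606

open Cfsg.Agent.Lib.Helper28


/-- A fixed-point-free involution of the group of the length-24 code maps to themselves exactly 15 octads, exactly 75 trios and exactly 51 sextets. -/
theorem result (g : Equiv.Perm Cfsg.GolayPt) (hg : g ∈ Cfsg.M24) (h₂ : orderOf g = 2) (h₀ : ∀ p, g p ≠ p) : {o : Finset Cfsg.GolayPt | o ∈ Cfsg.octads ∧ g • o = o}.ncard = 15 ∧ {T : Finset (Finset Cfsg.GolayPt) | T ∈ Cfsg.trios ∧ g • T = T}.ncard = 75 ∧ {S : Finset (Finset Cfsg.GolayPt) | S ∈ Cfsg.sextets ∧ g • S = S}.ncard = 51 := by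
  classical
  rcases involution_type hg h₂ with ⟨k, hk, he, hfix⟩ | ⟨k, hk, he, _⟩
  · exact absurd h₀ (not_fpf_of_fix_octad hfix)
  · obtain ⟨c1, _, c3, c4⟩ := fixed_counts_of_conj hk he
    have hact : ActsBy (rep2 1) (el_rep2_tabs.getD 1 0) := rep2_acts 1
    rw [c1, c3, c4, ncard_fixed_octads hact, ncard_fixed_trios hact, ncard_fixed_sextets hact]
    exact rep2B_count_check


end Cfsg.Agent.S5606
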