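import Cfsg.Statements.S5609
import Cfsg.Agent.Lib.Helper28.Sextet
import Cfsg.Agent.Lib.Helper28.GolayConcrete

set_option autoImplicit false
open Cfsg

namespace Cfsg.Agent.S5609

open Cfsg.Agent.Lib.Helper28

theorem h28_support₂_eq (w : GolayPt → ZMod 2) : support₂ w = bsupp w := by
  unfold support₂ bsupp
  congr

theorem h28_mem_octads (o : Finset GolayPt) : o ∈ octads ↔ IsOctadSet golayCode o := by
  unfold octads wordsOfWeight supports IsOctadSet
  simp only [Set.mem_setOf_eq, Set.mem_image, SetLike.mem_coe]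
  constructor
  · rintro ⟨⟨w, hw, rfl⟩, h8⟩
    rw [h28_support₂_eq] at h8 ⊢
    rw [bind_bsupp]
    exact ⟨hw, h8⟩
  · rintro ⟨h1, h8⟩
    exact ⟨⟨bind o, h1, by rw [h28_support₂_eq, bsupp_bind]⟩, h8⟩

theorem h28_adj_iff (a b : octads) :
    (blockGraph octads).Adj a b ↔ a ≠ b ∧ Disjoint (a : Finset GolayPt) (b : Finset GolayPt) := by
  unfold blockGraph
  rw [SimpleGraph.fromRel_adj]
  constructor
  · rintro ⟨h, h1 | h1⟩
    · exact ⟨h, h1⟩
    · exact ⟨h, h1.symm⟩
  · rintro ⟨h, h1⟩
    exact ⟨h, Or.inl h1⟩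

theorem h28_ne_of_disjoint {a b : octads}
    (h : Disjoint (a : Finset GolayPt) (b : Finset GolayPt)) : a ≠ b := by
  intro hab
  rw [hab, disjoint_self] at h
  have h8 := ((h28_mem_octads _).mp b.2).2
  rw [show ((b : Finset GolayPt)) = ∅ from h] at h8
  simp at h8

theorem h28_adj_of_disjoint {a b : octads}
    (h : Disjoint (a : Finset GolayPt) (b : Finset GolayPt)) : (blockGraph octads).Adj a b :=
  (h28_adj_iff a b).mpr ⟨h28_ne_of_disjoint h, h⟩

/-- distance one -/
theorem h28_case0 (a b : octads) (h0 : ((a : Finset GolayPt) ∩ b).card = 0) :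
    (blockGraph octads).dist a b = 1 := by
  rw [SimpleGraph.dist_eq_one_iff_adj]
  apply h28_adj_of_disjoint
  rw [Finset.disjoint_iff_inter_eq_empty, ← Finset.card_eq_zero]; exact h0

/-- distance two -/
theorem h28_case4 (a b : octads) (h4 : ((a : Finset GolayPt) ∩ b).card = 4) :
    (blockGraph octads).dist a b = 2 := by
  have hC := golayCode_isGolayLike
  have ha := (h28_mem_octads _).mp a.2
  have hb := (h28_mem_octads _).mp b.2
  obtain ⟨c, hc, hca, hcb⟩ := hC.exists_octad_disjoint_of_inter_four ha hb h4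
  let c' : octads := ⟨c, (h28_mem_octads c).mpr hc⟩
  have h1 : (blockGraph octads).Adj a c' := h28_adj_of_disjoint hca.symm
  have h2 : (blockGraph octads).Adj c' b := h28_adj_of_disjoint hcb
  have hne : a ≠ b := by
    intro hab
    rw [hab, Finset.inter_self] at h4
    have := hb.2; omega
  have hnadj : ¬ (blockGraph octads).Adj a b := by
    intro hadj
    have := ((h28_adj_iff a b).mp hadj).2
    rw [Finset.disjoint_iff_inter_eq_empty] at this
    rw [this] at h4; simp at h4
  have hreach : (blockGraph octads).Reachable a b := (h1.reachable).trans h2.reachable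
  have he : (blockGraph octads).edist a b = 2 := by
    rw [SimpleGraph.edist_eq_two_iff]
    exact ⟨hne, hnadj, ⟨c', by
      rw [SimpleGraph.mem_commonNeighbors]; exact ⟨h1, h2.symm⟩⟩⟩
  have := hreach.coe_dist_eq_edist
  rw [he] at this
  exact_mod_cast this

/-- distance three -/
theorem h28_case2 (a b : octads) (h2 : ((a : Finset GolayPt) ∩ b).card = 2) :
    (blockGraph octads).dist a b = 3 := by
  have hC := golayCode_isGolayLike
  have ha := (h28_mem_octads _).mp a.2
  have hb := (h28_mem_octads _).mp b.2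
  obtain ⟨x, hx, hxa, hxb⟩ := hC.exists_octad_of_inter_two ha hb h2
  let x' : octads := ⟨x, (h28_mem_octads x).mpr hx⟩
  have hx'b : (blockGraph octads).dist x' b = 2 := h28_case4 x' b hxb
  have h1 : (blockGraph octads).Adj a x' := h28_adj_of_disjoint hxa.symm
  obtain ⟨y, hy, hyx, hyb⟩ := hC.exists_octad_disjoint_of_inter_four hx hb hxb
  let y' : octads := ⟨y, (h28_mem_octads y).mpr hy⟩
  have h2' : (blockGraph octads).Adj x' y' := h28_adj_of_disjoint hyx.symm
  have h3 : (blockGraph octads).Adj y' b := h28_adj_of_disjoint hyb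
  have hle : (blockGraph octads).dist a b ≤ 3 :=
    SimpleGraph.dist_le (SimpleGraph.Walk.cons h1 (SimpleGraph.Walk.cons h2'
      (SimpleGraph.Walk.cons h3 SimpleGraph.Walk.nil)))
  have hreach : (blockGraph octads).Reachable a b :=
    (h1.reachable.trans h2'.reachable).trans h3.reachable
  have hne : a ≠ b := by
    intro hab
    rw [hab, Finset.inter_self] at h2
    have := hb.2; omega
  have hnadj : ¬ (blockGraph octads).Adj a b := by
    intro hadj
    have := ((h28_adj_iff a b).mp hadj).2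
    rw [Finset.disjoint_iff_inter_eq_empty] at this
    rw [this] at h2; simp at h2
  have h0 : 0 < (blockGraph octads).dist a b := hreach.pos_dist_of_ne hne
  have hn1 : (blockGraph octads).dist a b ≠ 1 := by
    rw [Ne, SimpleGraph.dist_eq_one_iff_adj]; exact hnadj
  have hn2 : (blockGraph octads).dist a b ≠ 2 := by
    intro hd2
    have he : (blockGraph octads).edist a b = 2 := by
      rw [← hreach.coe_dist_eq_edist, hd2]; rfl
    rw [SimpleGraph.edist_eq_two_iff] at he
    obtain ⟨z, hz⟩ := he.2.2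
    rw [SimpleGraph.mem_commonNeighbors] at hz
    have hz1 := ((h28_adj_iff a z).mp hz.1).2
    have hz2 := ((h28_adj_iff b z).mp hz.2).2
    exact hC.no_octad_disjoint_of_inter_two ha hb ((h28_mem_octads _).mp z.2) h2 hz1.symm hz2.symm
  omega

theorem result (o o' : Finset Cfsg.GolayPt) (ho : o ∈ Cfsg.octads) (ho' : o' ∈ Cfsg.octads) (hne : o ≠ o') : (Cfsg.blockGraph Cfsg.octads).Connected ∧ ((Cfsg.blockGraph Cfsg.octads).dist ⟨o, ho⟩ ⟨o', ho'⟩ = 1 ↔ (o ∩ o').card = 0) ∧ ((Cfsg.blockGraph Cfsg.octads).dist ⟨o, ho⟩ ⟨o', ho'⟩ = 2 ↔ (o ∩ o').card = 4) ∧ ((Cfsg.blockGraph Cfsg.octads).dist ⟨o, ho⟩ ⟨o', ho'⟩ = 3 ↔ (o ∩ o').card = 2) := by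
  have hC := golayCode_isGolayLike
  have key : ∀ a b : octads, a ≠ b →
      (((a : Finset GolayPt) ∩ b).card = 0 ∧ (blockGraph octads).dist a b = 1) ∨
      (((a : Finset GolayPt) ∩ b).card = 4 ∧ (blockGraph octads).dist a b = 2) ∨
      (((a : Finset GolayPt) ∩ b).card = 2 ∧ (blockGraph octads).dist a b = 3) := by
    intro a b hab
    have ha := (h28_mem_octads _).mp a.2
    have hb := (h28_mem_octads _).mp b.2
    have hab' : (a : Finset GolayPt) ≠ b := fun h => hab (Subtype.ext h)
    rcases hC.octad_inter_card ha hb hab' with h | h | h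
    · exact Or.inl ⟨h, h28_case0 a b h⟩
    · exact Or.inr (Or.inr ⟨h, h28_case2 a b h⟩)
    · exact Or.inr (Or.inl ⟨h, h28_case4 a b h⟩)
  refine ⟨?_, ?_⟩
  · haveI : Nonempty octads := ⟨⟨o, ho⟩⟩
    refine ⟨fun a b => ?_⟩
    by_cases hab : a = b
    · rw [hab]
    · apply SimpleGraph.Reachable.of_dist_ne_zero
      rcases key a b hab with ⟨_, h⟩ | ⟨_, h⟩ | ⟨_, h⟩ <;> rw [h] <;> norm_num
  · have hab : (⟨o, ho⟩ : octads) ≠ ⟨o', ho'⟩ := fun h => hne (congrArg Subtype.val h)
    rcases key ⟨o, ho⟩ ⟨o', ho'⟩ hab with ⟨h1, h2⟩ | ⟨h1, h2⟩ | ⟨h1, h2⟩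
    · simp only [] at h1
      rw [h2, h1]; norm_num
    · simp only [] at h1
      rw [h2, h1]; norm_num
    · simp only [] at h1
      rw [h2, h1]; norm_num

end Cfsg.Agent.S5609
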