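import Cfsg.Statements.S5610
import Cfsg.Agent.Lib.Helper28.Data5610
import Cfsg.Agent.Lib.Helper28.CertOrbits
import Cfsg.Agent.Lib.Helper28.OctadStab

set_option autoImplicit false
open scoped Pointwise
open Cfsg

namespace Cfsg.Agent.S5610

open Cfsg.Agent.Lib.Helper28


/-- The stabiliser of an octad in the group of the length-24 code has exactly three orbits on the 3795 trios, of sizes 15, 420 and 3360, and exactly three orbits on the 1771 sextets, of sizes 35, 840 and 896. -/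
theorem result (o : Finset Cfsg.GolayPt) (ho : o ∈ Cfsg.octads) : (∃ X₁ ∈ Cfsg.trios, ∃ X₂ ∈ Cfsg.trios, ∃ X₃ ∈ Cfsg.trios, (MulAction.orbit ↥(MulAction.stabilizer Cfsg.M24 o) X₁).ncard = 15 ∧ (MulAction.orbit ↥(MulAction.stabilizer Cfsg.M24 o) X₂).ncard = 420 ∧ (MulAction.orbit ↥(MulAction.stabilizer Cfsg.M24 o) X₃).ncard = 3360 ∧ Cfsg.trios = MulAction.orbit ↥(MulAction.stabilizer Cfsg.M24 o) X₁ ∪ MulAction.orbit ↥(MulAction.stabilizer Cfsg.M24 o) X₂ ∪ MulAction.orbit ↥(MulAction.stabilizer Cfsg.M24 o) X₃) ∧ (∃ Y₁ ∈ Cfsg.sextets, ∃ Y₂ ∈ Cfsg.sextets, ∃ Y₃ ∈ Cfsg.sextets, (MulAction.orbit ↥(MulAction.stabilizer Cfsg.M24 o) Y₁).ncard = 35 ∧ (MulAction.orbit ↥(MulAction.stabilizer Cfsg.M24 o) Y₂).ncard = 840 ∧ (MulAction.orbit ↥(MulAction.stabilizer Cfsg.M24 o) Y₃).ncard = 896 ∧ Cfsg.sextets = MulAction.orbit ↥(MulAction.stabilizer Cfsg.M24 o) Y₁ ∪ MulAction.orbit ↥(MulAction.stabilizer Cfsg.M24 o) Y₂ ∪ MulAction.orbit ↥(MulAction.stabilizer Cfsg.M24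 o) Y₃) := by
  classical
  have hbase : ptSet oc_base ∈ Cfsg.octads := oc_base_check.mem
  obtain ⟨h, hh, rfl⟩ := M24_octad_transitive hbase ho
  have hgens := gens_stab_set oc_tabs oc_base oc_base_check.1 oc_tabs_check
  have hc := card_stabilizer_octad ho
  constructor
  · obtain ⟨h1, h2⟩ := octrio_model.orbits (ptSet oc_base) oc_tabs hgens Cfsg.trios
      (fun g hg y hy => smul_mem_trios hg hy) 3795 ncard_trios (Set.toFinite _) octrio_roots
      (fun i => (octrio_rootcheck i).goodFam) (fun i => (octrio_rootcheck i).mem) octrio_certs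
      octrio_sizes octrio_check octrio_len (by decide) h hh 322560 hc (by decide)
    rw [iUnion_fin_three] at h2
    exact ⟨_, smul_mem_trios hh (octrio_rootcheck 0).mem, _, smul_mem_trios hh (octrio_rootcheck 1).mem,
      _, smul_mem_trios hh (octrio_rootcheck 2).mem, h1 0, h1 1, h1 2, h2⟩
  · obtain ⟨h1, h2⟩ := ocsext_model.orbits (ptSet oc_base) oc_tabs hgens Cfsg.sextets
      (fun g hg y hy => smul_mem_sextets hg hy) 1771 ncard_sextets (Set.toFinite _) ocsext_roots
      (fun i => (ocsext_rootcheck i).goodFam) (fun i => (ocsext_rootcheck i).mem) ocsext_certs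
      ocsext_sizes ocsext_check ocsext_len (by decide) h hh 322560 hc (by decide)
    rw [iUnion_fin_three] at h2
    exact ⟨_, smul_mem_sextets hh (ocsext_rootcheck 0).mem, _, smul_mem_sextets hh (ocsext_rootcheck 1).mem,
      _, smul_mem_sextets hh (ocsext_rootcheck 2).mem, h1 0, h1 1, h1 2, h2⟩

end Cfsg.Agent.S5610
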