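import Cfsg.Statements.S5611
import Cfsg.Agent.Lib.Helper28.Data5611
import Cfsg.Agent.Lib.Helper28.CertOrbits
import Cfsg.Agent.Lib.Helper28.StabCards

set_option autoImplicit false
open scoped Pointwise
open Cfsg

namespace Cfsg.Agent.S5611

open Cfsg.Agent.Lib.Helper28


/-- The stabiliser of a sextet in the group of the length-24 code has exactly three orbits on the 759 octads, of sizes 15, 360 and 384, and exactly four orbits on the 3795 trios, of sizes 15, 180, 720 and 2880. -/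
theorem result (S : Finset (Finset Cfsg.GolayPt)) (hS : S ∈ Cfsg.sextets) : (∃ X₁ ∈ Cfsg.octads, ∃ X₂ ∈ Cfsg.octads, ∃ X₃ ∈ Cfsg.octads, (MulAction.orbit ↥(MulAction.stabilizer Cfsg.M24 S) X₁).ncard = 15 ∧ (MulAction.orbit ↥(MulAction.stabilizer Cfsg.M24 S) X₂).ncard = 360 ∧ (MulAction.orbit ↥(MulAction.stabilizer Cfsg.M24 S) X₃).ncard = 384 ∧ Cfsg.octads = MulAction.orbit ↥(MulAction.stabilizer Cfsg.M24 S) X₁ ∪ MulAction.orbit ↥(MulAction.stabilizer Cfsg.M24 S) X₂ ∪ MulAction.orbit ↥(MulAction.stabilizer Cfsg.M24 S) X₃) ∧ (∃ Y₁ ∈ Cfsg.trios, ∃ Y₂ ∈ Cfsg.trios, ∃ Y₃ ∈ Cfsg.trios, ∃ Y₄ ∈ Cfsg.trios, (MulAction.orbit ↥(MulAction.stabilizer Cfsg.M24 S) Y₁).ncard = 15 ∧ (MulAction.orbit ↥(MulAction.stabilizer Cfsg.M24 S) Y₂).ncard = 180 ∧ (MulAction.orbit ↥(MulAction.stabilizer Cfsg.M24 S) Y₃).ncard = 720 ∧ (MulAction.orbit ↥(MulAction.stabilizer Cfsg.M24 S) Y₄).ncard = 2880 ∧ Cfsg.trios = MulAction.orbit ↥(MulAction.stabilizer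 Cfsg.M24 S) Y₁ ∪ MulAction.orbit ↥(MulAction.stabilizer Cfsg.M24 S) Y₂ ∪ MulAction.orbit ↥(MulAction.stabilizer Cfsg.M24 S) Y₃ ∪ MulAction.orbit ↥(MulAction.stabilizer Cfsg.M24 S) Y₄) := by
  classical
  have hbase : famSet sx_base ∈ Cfsg.sextets := sx_base_check.mem
  obtain ⟨h, hh, rfl⟩ := M24_sextet_transitive hbase hS
  have hgens := gens_stab_fam sx_tabs sx_base sx_base_check.goodFam sx_tabs_check
  have hc := card_stabilizer_sextet hS
  constructor
  · obtain ⟨h1, h2⟩ := sxoct_model.orbits (famSet sx_base) sx_tabs hgens Cfsg.octads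
      (fun g hg y hy => smul_mem_octads hg hy) 759 Cfsg.Agent.S0360.result (Set.toFinite _) sxoct_roots
      (fun i => (sxoct_rootcheck i).1) (fun i => (sxoct_rootcheck i).mem) sxoct_certs
      sxoct_sizes sxoct_check sxoct_len (by decide) h hh 138240 hc (by decide)
    rw [iUnion_fin_three] at h2
    exact ⟨_, smul_mem_octads hh (sxoct_rootcheck 0).mem, _, smul_mem_octads hh (sxoct_rootcheck 1).mem,
      _, smul_mem_octads hh (sxoct_rootcheck 2).mem, h1 0, h1 1, h1 2, h2⟩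
  · obtain ⟨h1, h2⟩ := sxtrio_model.orbits (famSet sx_base) sx_tabs hgens Cfsg.trios
      (fun g hg y hy => smul_mem_trios hg hy) 3795 ncard_trios (Set.toFinite _) sxtrio_roots
      (fun i => (sxtrio_rootcheck i).goodFam) (fun i => (sxtrio_rootcheck i).mem) sxtrio_certs
      sxtrio_sizes sxtrio_check sxtrio_len (by decide) h hh 138240 hc (by decide)
    rw [iUnion_fin_four] at h2
    exact ⟨_, smul_mem_trios hh (sxtrio_rootcheck 0).mem, _, smul_mem_trios hh (sxtrio_rootcheck 1).mem,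
      _, smul_mem_trios hh (sxtrio_rootcheck 2).mem, _, smul_mem_trios hh (sxtrio_rootcheck 3).mem,
      h1 0, h1 1, h1 2, h1 3, h2⟩

end Cfsg.Agent.S5611
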