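import Cfsg.Statements.S5612
import Cfsg.Agent.Lib.Helper28.Data5612
import Cfsg.Agent.Lib.Helper28.CertOrbits
import Cfsg.Agent.Lib.Helper28.StabCards

set_option autoImplicit false
open scoped Pointwise
open Cfsg

namespace Cfsg.Agent.S5612

open Cfsg.Agent.Lib.Helper28


/-- The stabiliser of a trio in the group of the length-24 code has exactly three orbits on the 759 octads, of sizes 3, 84 and 672, and exactly four orbits on the 1771 sextets, of sizes 7, 84, 336 and 1344. -/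
theorem result (T : Finset (Finset Cfsg.GolayPt)) (hT : T ∈ Cfsg.trios) : (∃ X₁ ∈ Cfsg.octads, ∃ X₂ ∈ Cfsg.octads, ∃ X₃ ∈ Cfsg.octads, (MulAction.orbit ↥(MulAction.stabilizer Cfsg.M24 T) X₁).ncard = 3 ∧ (MulAction.orbit ↥(MulAction.stabilizer Cfsg.M24 T) X₂).ncard = 84 ∧ (MulAction.orbit ↥(MulAction.stabilizer Cfsg.M24 T) X₃).ncard = 672 ∧ Cfsg.octads = MulAction.orbit ↥(MulAction.stabilizer Cfsg.M24 T) X₁ ∪ MulAction.orbit ↥(MulAction.stabilizer Cfsg.M24 T) X₂ ∪ MulAction.orbit ↥(MulAction.stabilizer Cfsg.M24 T) X₃) ∧ (∃ Y₁ ∈ Cfsg.sextets, ∃ Y₂ ∈ Cfsg.sextets, ∃ Y₃ ∈ Cfsg.sextets, ∃ Y₄ ∈ Cfsg.sextets, (MulAction.orbit ↥(MulAction.stabilizer Cfsg.M24 T) Y₁).ncard = 7 ∧ (MulAction.orbit ↥(MulAction.stabilizer Cfsg.M24 T) Y₂).ncard = 84 ∧ (MulAction.orbit ↥(MulAction.stabilizer Cfsg.M24 T) Y₃).ncard = 336 ∧ (MulAction.orbit ↥(MulAction.stabilizer Cfsg.M24 T) Y₄).ncard = 1344 ∧ Cfsg.sextets = MulAction.orbit ↥(MulAction.stabilizer Cfsg.M24 T)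 Y₁ ∪ MulAction.orbit ↥(MulAction.stabilizer Cfsg.M24 T) Y₂ ∪ MulAction.orbit ↥(MulAction.stabilizer Cfsg.M24 T) Y₃ ∪ MulAction.orbit ↥(MulAction.stabilizer Cfsg.M24 T) Y₄) := by
  classical
  have hbase : famSet tr_base ∈ Cfsg.trios := tr_base_check.mem
  obtain ⟨h, hh, rfl⟩ := M24_trio_transitive hbase hT
  have hgens := gens_stab_fam tr_tabs tr_base tr_base_check.goodFam tr_tabs_check
  have hc := card_stabilizer_trio hT
  constructor
  · obtain ⟨h1, h2⟩ := troct_model.orbits (famSet tr_base) tr_tabs hgens Cfsg.octads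
      (fun g hg y hy => smul_mem_octads hg hy) 759 Cfsg.Agent.S0360.result (Set.toFinite _) troct_roots
      (fun i => (troct_rootcheck i).1) (fun i => (troct_rootcheck i).mem) troct_certs
      troct_sizes troct_check troct_len (by decide) h hh 64512 hc (by decide)
    rw [iUnion_fin_three] at h2
    exact ⟨_, smul_mem_octads hh (troct_rootcheck 0).mem, _, smul_mem_octads hh (troct_rootcheck 1).mem,
      _, smul_mem_octads hh (troct_rootcheck 2).mem, h1 0, h1 1, h1 2, h2⟩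
  · obtain ⟨h1, h2⟩ := trsext_model.orbits (famSet tr_base) tr_tabs hgens Cfsg.sextets
      (fun g hg y hy => smul_mem_sextets hg hy) 1771 ncard_sextets (Set.toFinite _) trsext_roots
      (fun i => (trsext_rootcheck i).goodFam) (fun i => (trsext_rootcheck i).mem) trsext_certs
      trsext_sizes trsext_check trsext_len (by decide) h hh 64512 hc (by decide)
    rw [iUnion_fin_four] at h2
    exact ⟨_, smul_mem_sextets hh (trsext_rootcheck 0).mem, _, smul_mem_sextets hh (trsext_rootcheck 1).mem,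
      _, smul_mem_sextets hh (trsext_rootcheck 2).mem, _, smul_mem_sextets hh (trsext_rootcheck 3).mem,
      h1 0, h1 1, h1 2, h1 3, h2⟩

end Cfsg.Agent.S5612
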