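import Cfsg.Statements.S5616
import Cfsg.Agent.Lib.Helper28.Data5616
import Cfsg.Agent.Lib.Helper28.SextetMeet
import Cfsg.Agent.Lib.Helper28.M24Multi
import Cfsg.Agent.Lib.Helper28.CertClasses

set_option autoImplicit false
open scoped Pointwise
open Cfsg

namespace Cfsg.Agent.S5616

open Cfsg.Agent.Lib.Helper28


/-- Let Y be a set of 3 of the 24 points. The sextets of the length-24 code whose tetrads meeting Y number 1, 2 or 3 are respectively 21, 630 and 1120 in number, and two sextets with the same number of tetrads meeting Y are conjugate under the setwise stabiliser of Y in the code's group. -/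
theorem result (Y : Finset Cfsg.GolayPt) (hY : Y.card = 3) : {S : Finset (Finset Cfsg.GolayPt) | S ∈ Cfsg.sextets ∧ (S.filter fun t => (t ∩ Y).Nonempty).card = 1}.ncard = 21 ∧ {S : Finset (Finset Cfsg.GolayPt) | S ∈ Cfsg.sextets ∧ (S.filter fun t => (t ∩ Y).Nonempty).card = 2}.ncard = 630 ∧ {S : Finset (Finset Cfsg.GolayPt) | S ∈ Cfsg.sextets ∧ (S.filter fun t => (t ∩ Y).Nonempty).card = 3}.ncard = 1120 ∧ ∀ S S' : Finset (Finset Cfsg.GolayPt), S ∈ Cfsg.sextets → S' ∈ Cfsg.sextets → (S.filter fun t => (t ∩ Y).Nonempty).card = (S'.filter fun t => (t ∩ Y).Nonempty).card → ∃ g ∈ Cfsg.M24, g • Y = Y ∧ g • S = S' := by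
  classical
  have hb3 : (ptSet ts_base).card = 3 := by rw [card_ptSet ts_base_check.1, ts_base_check.2]
  obtain ⟨h, hh, rfl⟩ := M24_exists_map_set (ptSet ts_base) Y (by rw [hb3, hY]) (by rw [hb3]; norm_num)
  have hgens := gens_stab_set ts_tabs ts_base ts_base_check.1 ts_tabs_check
  have hval : ∀ i, meetCount (ptSet ts_base) (famSet (tssext_roots i)) = (![1, 2, 3] : Fin 3 → ℕ) i := by
    intro i
    rw [meetCount_famSet (tssext_rootcheck i).goodFam ts_base_check.1]
    revert i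
    decide
  obtain ⟨_, h2, h3⟩ := tssext_model.classes (ptSet ts_base) ts_tabs hgens Cfsg.sextets
    (fun g hg y hy => smul_mem_sextets hg hy) 1771 ncard_sextets (Set.toFinite _) tssext_roots
    (fun i => (tssext_rootcheck i).goodFam) (fun i => (tssext_rootcheck i).mem) tssext_certs
    tssext_sizes tssext_check tssext_len (by decide) meetCount
    (fun g _ z y => meetCount_smul g z y)
    (by
      intro i j hij
      have : (![1, 2, 3] : Fin 3 → ℕ) i = (![1, 2, 3] : Fin 3 → ℕ) j := by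
        rw [← hval i, ← hval j]; exact hij
      revert i j
      decide) h hh
  have hmc : ∀ S : Finset (Finset Cfsg.GolayPt),
      (S.filter fun t => (t ∩ h • ptSet ts_base).Nonempty).card = meetCount (h • ptSet ts_base) S := by
    intro S
    unfold meetCount
    congr 1
  simp only [hmc]
  refine ⟨?_, ?_, ?_, ?_⟩
  · rw [show (21 : ℕ) = tssext_sizes 0 from rfl, ← h2 0]
    apply congrArg Set.ncard
    ext y
    exact ⟨fun ⟨a, c⟩ => ⟨a, c.trans (hval 0).symm⟩, fun ⟨a, c⟩ => ⟨a, c.trans (hval 0)⟩⟩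
  · rw [show (630 : ℕ) = tssext_sizes 1 from rfl, ← h2 1]
    apply congrArg Set.ncard
    ext y
    exact ⟨fun ⟨a, c⟩ => ⟨a, c.trans (hval 1).symm⟩, fun ⟨a, c⟩ => ⟨a, c.trans (hval 1)⟩⟩
  · rw [show (1120 : ℕ) = tssext_sizes 2 from rfl, ← h2 2]
    apply congrArg Set.ncard
    ext y
    exact ⟨fun ⟨a, c⟩ => ⟨a, c.trans (hval 2).symm⟩, fun ⟨a, c⟩ => ⟨a, c.trans (hval 2)⟩⟩
  · intro S S' hS hS' he
    obtain ⟨g, hg, hgy⟩ := h3 S hS S' hS' he
    obtain ⟨hgM, hgs⟩ := Subgroup.mem_inf.mp hg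
    exact ⟨g, hgM, hgs, hgy⟩


end Cfsg.Agent.S5616
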