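import Cfsg.Statements.S5617
import Cfsg.Agent.Lib.Helper28.Data5617
import Cfsg.Agent.Lib.Helper28.DodecadPair
import Cfsg.Agent.Lib.Helper28.CertOrbits

set_option autoImplicit false
open scoped Pointwise
open Cfsg

namespace Cfsg.Agent.S5617

open Cfsg.Agent.Lib.Helper28


/-- The setwise stabiliser, in the group of the length-24 code, of a complementary pair of dodecads has exactly three orbits on the 1771 sextets, of sizes 396, 495 and 880. -/
theorem result (d : Finset Cfsg.GolayPt) (hd : d ∈ Cfsg.dodecads) : ∃ X₁ ∈ Cfsg.sextets, ∃ X₂ ∈ Cfsg.sextets, ∃ X₃ ∈ Cfsg.sextets, (MulAction.orbit ↥(MulAction.stabilizer Cfsg.M24 ({d, Finset.univ \ d} : Finset (Finset Cfsg.GolayPt))) X₁).ncard = 396 ∧ (MulAction.orbit ↥(MulAction.stabilizer Cfsg.M24 ({d, Finset.univ \ d} : Finset (Finset Cfsg.GolayPt))) X₂).ncard = 495 ∧ (MulAction.orbit ↥(MulAction.stabilizer Cfsg.M24 ({d, Finset.univ \ d} : Finset (Finset Cfsg.GolayPt))) X₃).ncard = 880 ∧ Cfsg.sextets =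 MulAction.orbit ↥(MulAction.stabilizer Cfsg.M24 ({d, Finset.univ \ d} : Finset (Finset Cfsg.GolayPt))) X₁ ∪ MulAction.orbit ↥(MulAction.stabilizer Cfsg.M24 ({d, Finset.univ \ d} : Finset (Finset Cfsg.GolayPt))) X₂ ∪ MulAction.orbit ↥(MulAction.stabilizer Cfsg.M24 ({d, Finset.univ \ d} : Finset (Finset Cfsg.GolayPt))) X₃ := by
  classical
  rw [← Finset.compl_eq_univ_sdiff]
  obtain ⟨d₀, hd₀, _, he⟩ := dp_base_check.compl_mem
  have hc := card_stabilizer_dodecadPair hd
  obtain ⟨h, hh, rfl⟩ := M24_dodecad_transitive hd₀ hd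
  rw [← smul_compl_pair, ← he] at hc ⊢
  have hgens := gens_stab_fam dp_tabs dp_base dp_base_check.goodFam dp_tabs_check
  obtain ⟨h1, h2⟩ := dpsext_model.orbits (famSet dp_base) dp_tabs hgens Cfsg.sextets
    (fun g hg y hy => smul_mem_sextets hg hy) 1771 ncard_sextets (Set.toFinite _) dpsext_roots
    (fun i => (dpsext_rootcheck i).goodFam) (fun i => (dpsext_rootcheck i).mem) dpsext_certs
    dpsext_sizes dpsext_check dpsext_len (by decide) h hh 190080 hc (by decide)
  rw [iUnion_fin_three] at h2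
  exact ⟨_, smul_mem_sextets hh (dpsext_rootcheck 0).mem, _, smul_mem_sextets hh (dpsext_rootcheck 1).mem,
    _, smul_mem_sextets hh (dpsext_rootcheck 2).mem, h1 0, h1 1, h1 2, h2⟩


end Cfsg.Agent.S5617
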