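import Cfsg.Statements.S5618
import Cfsg.Agent.Lib.Helper28.HexadStab

set_option autoImplicit false
open scoped Pointwise
open Cfsg

namespace Cfsg.Agent.S5618

open Cfsg.Agent.Lib.Helper28


/-- For a dodecad d of the length-24 code and a hexad C on it (a 6-point intersection of d with an octad): the joint stabiliser of d and C in the code's group is isomorphic to the symmetric group of degree 6, and it acts faithfully both on the six points of C and on the six points of d outside C. -/
theorem result (d : Finset Cfsg.GolayPt) (hd : d ∈ Cfsg.dodecads) (C : Finset Cfsg.GolayPt) (hC : C ∈ Cfsg.hexadsOn d) : Nonempty (↥(MulAction.stabilizer Cfsg.M24 d ⊓ MulAction.stabilizer Cfsg.M24 C) ≃* Equiv.Perm (Fin 6)) ∧ (∀ g ∈ MulAction.stabilizer Cfsg.M24 d ⊓ MulAction.stabilizer Cfsg.M24 C, (∀ p ∈ C, ((g : ↥Cfsg.M24) : Equiv.Perm Cfsg.GolayPt) p = p) → g = 1) ∧ ∀ g ∈ MulAction.stabilizer Cfsg.M24 d ⊓ MulAction.stabilizer Cfsg.M24 C, (∀ p ∈ d \ C, ((g : ↥Cfsg.M24) : Equiv.Perm Cfsg.GolayPt) p = p) → g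 = 1 := by
  classical
  have hCd := hexad_subset hC
  have hC6 : C.card = 6 := hC.1
  have hd12 : d.card = 12 := ((mem_dodecads_iff d).mp hd).2
  refine ⟨hexadStab_equiv hd hC, ?_, ?_⟩
  · intro g hg hfix
    have hgd : (g : Equiv.Perm Cfsg.GolayPt) • d = d := (Subgroup.mem_inf.mp hg).1
    have := eq_one_of_fix_five hd g.2 hgd C hCd (by rw [hC6]; norm_num) hfix
    exact Subtype.ext this
  · intro g hg hfix
    have hgd : (g : Equiv.Perm Cfsg.GolayPt) • d = d := (Subgroup.mem_inf.mp hg).1
    have hcard : (d \ C).card = 6 := by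
      rw [Finset.card_sdiff_of_subset hCd, hd12, hC6]
    have := eq_one_of_fix_five hd g.2 hgd (d \ C) Finset.sdiff_subset (by rw [hcard]; norm_num) hfix
    exact Subtype.ext this


end Cfsg.Agent.S5618
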