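import Cfsg.Statements.S5623
import Cfsg.Agent.Lib.Helper28.Golay

set_option autoImplicit false
open Cfsg

namespace Cfsg.Agent.S5623

open Cfsg.Agent.Lib.Helper28

theorem result (C : Submodule (ZMod 2) (Fin 24 → ZMod 2)) (hdim : Module.finrank (ZMod 2) C = 12) (horth : ∀ v ∈ C, ∀ w ∈ C, ∑ i, v i * w i = 0) (hmin : ∀ w ∈ C, w ≠ 0 → 8 ≤ hammingNorm w) (w : Fin 24 → ZMod 2) : (∃ u : Fin 24 → ZMod 2, {u : Fin 24 → ZMod 2 | u - w ∈ C ∧ hammingNorm u ≤ 4} = {u} ∧ hammingNorm u ≤ 3) ∨ ({u : Fin 24 → ZMod 2 | u - w ∈ C ∧ hammingNorm u ≤ 4}.ncard = 6 ∧ ∀ u ∈ {u : Fin 24 → ZMod 2 | u - w ∈ C ∧ hammingNorm u ≤ 4}, hammingNorm u = 4 ∧ ∀ u' ∈ {u : Fin 24 → ZMod 2 | u - w ∈ C ∧ hammingNorm u ≤ 4}, u ≠ u' → Disjoint (Finset.univ.filter fun i => u i ≠ 0) (Finset.univ.filter fun i => u' i ≠ 0)) := by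
  have hC : IsGolayLike C := ⟨by simp, hdim, horth, hmin⟩
  have hset : {u : Fin 24 → ZMod 2 | u - w ∈ C ∧ hammingNorm u ≤ 4} = ↑(lightCoset C w) := by
    ext u
    rw [Finset.mem_coe, mem_lightCoset]
    exact and_comm
  rw [hset]
  rcases hC.lightCoset_structure w with ⟨u0, hu0, h3⟩ | ⟨h6, h4, hdis⟩
  · left
    refine ⟨u0, ?_, h3⟩
    rw [hu0]; simp
  · right
    refine ⟨?_, ?_⟩
    · rw [Set.ncard_coe_finset]; exact h6
    · intro u hu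
      rw [Finset.mem_coe] at hu
      refine ⟨h4 u hu, ?_⟩
      intro u' hu' hne
      rw [Finset.mem_coe] at hu'
      exact hdis u hu u' hu' hne

end Cfsg.Agent.S5623
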