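import Cfsg.Statements.S5625

set_option autoImplicit false
open Cfsg

namespace Cfsg.Agent.S5625

open Finset in
/-- one step of the downward recursion for the block counts of a Steiner system S(5,8,24) -/
theorem h28_step {α : Type*} [Fintype α] [DecidableEq α] (hα : Fintype.card α = 24)
    (Bf : Finset (Finset α)) (hk : ∀ b ∈ Bf, b.card = 8) (i n : ℕ)
    (h : ∀ S : Finset α, S.card = i + 1 → (Bf.filter (fun b => S ⊆ b)).card = n) :
    ∀ S : Finset α, S.card = i → (Bf.filter (fun b => S ⊆ b)).card * (8 - i) = (24 - i) * n := by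
  intro S hS
  have key := Finset.sum_card_bipartiteAbove_eq_sum_card_bipartiteBelow
    (s := Bf.filter (fun b => S ⊆ b)) (t := Sᶜ) (r := fun (b : Finset α) (x : α) => x ∈ b)
  have h1 : ∀ b ∈ Bf.filter (fun b => S ⊆ b), (Finset.bipartiteAbove (fun (b : Finset α) (x : α) => x ∈ b) Sᶜ b).card = 8 - i := by
    intro b hb
    rw [Finset.mem_filter] at hb
    have e : Finset.bipartiteAbove (fun (b : Finset α) (x : α) => x ∈ b) Sᶜ b = b \ S := by
      ext x
      simp only [Finset.bipartiteAbove, Finset.mem_filter, Finset.mem_compl, Finset.mem_sdiff]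
      tauto
    rw [e, Finset.card_sdiff_of_subset hb.2, hk b hb.1, hS]
  have h2 : ∀ x ∈ Sᶜ, (Finset.bipartiteBelow (fun (b : Finset α) (x : α) => x ∈ b) (Bf.filter (fun b => S ⊆ b)) x).card = n := by
    intro x hx
    rw [Finset.mem_compl] at hx
    have e : Finset.bipartiteBelow (fun (b : Finset α) (x : α) => x ∈ b) (Bf.filter (fun b => S ⊆ b)) x = Bf.filter (fun b => insert x S ⊆ b) := by
      ext b
      simp only [Finset.bipartiteBelow, Finset.mem_filter, Finset.insert_subset_iff]
      tauto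
    rw [e]
    apply h
    rw [Finset.card_insert_of_notMem hx, hS]
  rw [Finset.sum_congr rfl h1, Finset.sum_congr rfl h2] at key
  rw [Finset.sum_const, Finset.sum_const, Finset.card_compl, hα, hS] at key
  simpa using key

theorem result (α : Type*) [Fintype α] [DecidableEq α] (hα : Fintype.card α = 24) (B : Set (Finset α)) (hB : Cfsg.IsSteinerSystem 5 8 B) (Y : Finset α) (hY : Y.card = 3) : {b : Finset α | b ∈ B ∧ (b ∩ Y).card = 3}.ncard = 21 ∧ {b : Finset α | b ∈ B ∧ (b ∩ Y).card = 2}.ncard = 168 ∧ {b : Finset α | b ∈ B ∧ (b ∩ Y).card = 1}.ncard = 360 ∧ {b : Finset α | b ∈ B ∧ (b ∩ Y).card = 0}.ncard = 210 := by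
  classical
  obtain ⟨hk, hst⟩ := hB
  set Bf : Finset (Finset α) := Finset.univ.filter (· ∈ B) with hBf
  have hmem : ∀ b, b ∈ Bf ↔ b ∈ B := by intro b; simp [hBf]
  have hkf : ∀ b ∈ Bf, b.card = 8 := fun b hb => hk b ((hmem b).mp hb)
  -- λ₅ = 1
  have l5 : ∀ S : Finset α, S.card = 5 → (Bf.filter (fun b => S ⊆ b)).card = 1 := by
    intro S hS
    obtain ⟨b, ⟨hb1, hb2⟩, hbu⟩ := hst S hS
    rw [Finset.card_eq_one]
    refine ⟨b, ?_⟩
    ext c
    simp only [Finset.mem_filter, Finset.mem_singleton, hmem]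
    constructor
    · rintro ⟨h1, h2⟩; exact hbu c ⟨h1, h2⟩
    · rintro rfl; exact ⟨hb1, hb2⟩
  have l4 : ∀ S : Finset α, S.card = 4 → (Bf.filter (fun b => S ⊆ b)).card = 5 := by
    intro S hS
    have := h28_step hα Bf hkf 4 1 l5 S hS
    omega
  have l3 : ∀ S : Finset α, S.card = 3 → (Bf.filter (fun b => S ⊆ b)).card = 21 := by
    intro S hS
    have := h28_step hα Bf hkf 3 5 l4 S hS
    omega
  have l2 : ∀ S : Finset α, S.card = 2 → (Bf.filter (fun b => S ⊆ b)).card = 77 := by
    intro S hS
    have := h28_step hα Bf hkf 2 21 l3 S hS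
    omega
  have l1 : ∀ S : Finset α, S.card = 1 → (Bf.filter (fun b => S ⊆ b)).card = 253 := by
    intro S hS
    have := h28_step hα Bf hkf 1 77 l2 S hS
    omega
  have l0 : ∀ S : Finset α, S.card = 0 → (Bf.filter (fun b => S ⊆ b)).card = 759 := by
    intro S hS
    have := h28_step hα Bf hkf 0 253 l1 S hS
    omega
  have hBfcard : Bf.card = 759 := by
    have := l0 ∅ rfl
    simpa using this
  -- the counts n j
  set n : ℕ → ℕ := fun j => (Bf.filter (fun b => (b ∩ Y).card = j)).card with hn
  have hle : ∀ b : Finset α, (b ∩ Y).card ∈ Finset.range 4 := by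
    intro b
    rw [Finset.mem_range]
    have := Finset.card_le_card (Finset.inter_subset_right (s₁ := b) (s₂ := Y))
    omega
  -- general: Σ_b f(|b ∩ Y|) = Σ_j n j * f j
  have hgen : ∀ f : ℕ → ℕ, ∑ b ∈ Bf, f (b ∩ Y).card = ∑ j ∈ Finset.range 4, n j * f j := by
    intro f
    rw [← Finset.sum_fiberwise_of_maps_to (s := Bf) (t := Finset.range 4) (g := fun b => (b ∩ Y).card) (fun b _ => hle b)]
    apply Finset.sum_congr rfl
    intro j _
    rw [Finset.sum_congr rfl (g := fun _ => f j)]
    · rw [Finset.sum_const, smul_eq_mul]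
    · intro b hb
      rw [Finset.mem_filter] at hb
      rw [hb.2]
  -- equation for subsets of size j of Y
  have heq : ∀ j lam : ℕ, (∀ S : Finset α, S.card = j → (Bf.filter (fun b => S ⊆ b)).card = lam) →
      ∑ b ∈ Bf, ((b ∩ Y).card).choose j = (Nat.choose 3 j) * lam := by
    intro j lam hl
    have key := Finset.sum_card_bipartiteAbove_eq_sum_card_bipartiteBelow
      (s := Bf) (t := Finset.powersetCard j Y) (r := fun (b : Finset α) (S : Finset α) => S ⊆ b)
    have h1 : ∀ b ∈ Bf, (Finset.bipartiteAbove (fun (b : Finset α) (S : Finset α) => S ⊆ b) (Finset.powersetCard j Y) b).card = ((b ∩ Y).card).choose j := by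
      intro b _
      have e : Finset.bipartiteAbove (fun (b : Finset α) (S : Finset α) => S ⊆ b) (Finset.powersetCard j Y) b = Finset.powersetCard j (b ∩ Y) := by
        ext S
        simp only [Finset.bipartiteAbove, Finset.mem_filter, Finset.mem_powersetCard, Finset.subset_inter_iff]
        tauto
      rw [e, Finset.card_powersetCard]
    have h2 : ∀ S ∈ Finset.powersetCard j Y, (Finset.bipartiteBelow (fun (b : Finset α) (S : Finset α) => S ⊆ b) Bf S).card = lam := by
      intro S hS
      rw [Finset.mem_powersetCard] at hS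
      exact hl S hS.2
    rw [Finset.sum_congr rfl h1, Finset.sum_congr rfl h2] at key
    rw [key, Finset.sum_const, Finset.card_powersetCard, hY, smul_eq_mul]
  have e0 := heq 0 759 l0
  have e1 := heq 1 253 l1
  have e2 := heq 2 77 l2
  have e3 := heq 3 21 l3
  rw [hgen (fun m => m.choose 0)] at e0
  rw [hgen (fun m => m.choose 1)] at e1
  rw [hgen (fun m => m.choose 2)] at e2
  rw [hgen (fun m => m.choose 3)] at e3
  simp only [Finset.sum_range_succ, Finset.sum_range_zero] at e0 e1 e2 e3
  norm_num [Nat.choose] at e0 e1 e2 e3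
  have hconv : ∀ j : ℕ, {b : Finset α | b ∈ B ∧ (b ∩ Y).card = j}.ncard = n j := by
    intro j
    have : {b : Finset α | b ∈ B ∧ (b ∩ Y).card = j} = ↑(Bf.filter (fun b => (b ∩ Y).card = j)) := by
      ext b
      simp [hmem]
    rw [this, Set.ncard_coe_finset]
  rw [hconv, hconv, hconv, hconv]
  omega

end Cfsg.Agent.S5625
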