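import Cfsg.Statements.S5628
import Cfsg.Agent.Lib.Helper28.PlaneFour

set_option autoImplicit false
open Cfsg

namespace Cfsg.Agent.S5628

/-- In a projective plane of order 4 (a Steiner system S(2, 5, 21)), every permutation of the six points of a hyperoval (a 6-set met by no line in more than two points) is the restriction of exactly one automorphism of the plane. In particular the stabiliser of a hyperoval in the automorphism group is isomorphic to the symmetric group of degree 6 acting faithfully on the hyperoval. -/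
theorem result {α : Type*} [Fintype α] [DecidableEq α] (hα : Fintype.card α = 21) (L : Set (Finset α)) (hL : Cfsg.IsSteinerSystem 2 5 L) (H : Finset α) (hH : (H.card = 6 ∧ ∀ l ∈ L, (l ∩ H).card ≤ 2)) (σ : Equiv.Perm ↥H) : ∃! g : Equiv.Perm α, g ∈ Cfsg.setSystemAut L ∧ ∀ p : ↥H, g p = σ p := by
  classical
  have e : ↥H ≃ Fin 6 := Finset.equivFinOfCardEq hH.1
  have hh := Cfsg.Agent.Lib.Helper28.PlaneFour.labHyp_of_arc (L := L) hH.2 e.symm e.symm.injective
  have hh' := Cfsg.Agent.Lib.Helper28.PlaneFour.labHyp_of_arc (L := L) hH.2 (fun i => σ (e.symm i))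
    (σ.injective.comp e.symm.injective)
  obtain ⟨ψ, hψ0, hψ⟩ := Cfsg.Agent.Lib.Helper28.PlaneFour.recognize hα hL hh
  obtain ⟨ψ', hψ0', hψ'⟩ := Cfsg.Agent.Lib.Helper28.PlaneFour.recognize hα hL hh'
  have hiso := Cfsg.Agent.Lib.Helper28.PlaneFour.iso_of_recognize hψ hψ'
  have hgl : ∀ l ∈ L, l.image (ψ.symm.trans ψ') ∈ L := by
    intro l hl
    rw [← hiso]
    exact ⟨l, hl, rfl⟩
  have hgp : ∀ p : ↥H, (ψ.symm.trans ψ') p = σ p := by
    intro p
    have hp : (p : α) = ((e.symm (e p) : ↥H) : α) := by rw [Equiv.symm_apply_apply]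
    have h1 : ψ.symm (p : α) = Sum.inl (e p) := by
      rw [Equiv.symm_apply_eq, hψ0, ← hp]
    rw [Equiv.trans_apply, h1, hψ0', Equiv.symm_apply_apply]
  refine ⟨ψ.symm.trans ψ', ⟨Cfsg.Agent.Lib.Helper28.PlaneFour.mem_aut_of_image_mem hgl, hgp⟩, ?_⟩
  rintro g ⟨hg1, hg2⟩
  apply Cfsg.Agent.Lib.Helper28.PlaneFour.aut_ext hα hL hh
    (fun l hl => Cfsg.Agent.Lib.Helper28.PlaneFour.image_mem_of_mem_aut hg1 hl) hgl
  intro i
  rw [hg2, hgp]


end Cfsg.Agent.S5628
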