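import Cfsg.Statements.S5632
import Cfsg.Agent.Lib.Helper28.Transvection

set_option autoImplicit false
open Cfsg

namespace Cfsg.Agent.S5632

open Cfsg.Agent.Lib.Helper28

theorem result {F : Type*} [Field F] [Fintype F] (n : ℕ) (W U : Submodule F (Fin n → F)) (hW0 : W ≠ ⊥) (hWU : W < U) (hdim : Module.finrank F W + Module.finrank F U = n) : ∃ K : Subgroup (Matrix.GeneralLinearGroup (Fin n) F), Cfsg.Geo.subspaceStabilizer W ⊓ Cfsg.Geo.subspaceStabilizer U ⊓ Cfsg.Geo.specialLinear (Fin n) F < K ∧ K < Cfsg.Geo.specialLinear (Fin n) F := by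
  -- U ≠ ⊤
  have hWpos : 0 < Module.finrank F W := by
    rw [Module.finrank_pos_iff_exists_ne_zero]
    obtain ⟨w, hw, hw0⟩ := (Submodule.ne_bot_iff W).mp hW0
    exact ⟨⟨w, hw⟩, fun h => hw0 (congrArg Subtype.val h)⟩
  have hUtop : U ≠ ⊤ := by
    intro h
    rw [h, finrank_top, Module.finrank_pi, Fintype.card_fin] at hdim
    omega
  obtain ⟨v, hvU⟩ : ∃ v, v ∉ U := by
    by_contra h
    push Not at h
    exact hUtop (eq_top_iff.mpr fun x _ => h x)
  obtain ⟨u, huU, huW⟩ := SetLike.exists_of_lt hWU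
  obtain ⟨w, hwW, hw0⟩ := (Submodule.ne_bot_iff W).mp hW0
  have hvW : v ∉ W := fun h => hvU (hWU.le h)
  refine ⟨Cfsg.Geo.subspaceStabilizer W ⊓ Cfsg.Geo.specialLinear (Fin n) F, ?_, ?_⟩
  · -- strictness via a transvection fixing W but moving u to u + v
    have huP : u ∉ W ⊔ Submodule.span F {v} := by
      intro h
      obtain ⟨w', hw', y, hy, hsum⟩ := Submodule.mem_sup.mp h
      obtain ⟨c, rfl⟩ := Submodule.mem_span_singleton.mp hy
      by_cases hc : c = 0
      · subst hc
        apply huW
        rw [← hsum]; simpa using hw'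
      · apply hvU
        have : c • v = u - w' := by rw [← hsum]; simp
        have h2 : c • v ∈ U := by rw [this]; exact U.sub_mem huU (hWU.le hw')
        have h3 := U.smul_mem c⁻¹ h2
        rwa [smul_smul, inv_mul_cancel₀ hc, one_smul] at h3
    have hvP : v ∈ W ⊔ Submodule.span F {v} :=
      Submodule.mem_sup_right (Submodule.mem_span_singleton_self v)
    obtain ⟨g, hgSL, hgstab, hgu⟩ := exists_transvection n _ u v huP hvP
    refine lt_of_le_of_ne ?_ ?_
    · intro x hx
      exact ⟨hx.1.1, hx.2⟩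
    · intro heq
      have hg : g ∈ Cfsg.Geo.subspaceStabilizer W ⊓ Cfsg.Geo.specialLinear (Fin n) F :=
        ⟨hgstab W le_sup_left, hgSL⟩
      rw [← heq] at hg
      have hgU : g ∈ Cfsg.Geo.subspaceStabilizer U := hg.1.2
      have := (hgU u).mp huU
      have h2 : (g : Matrix (Fin n) (Fin n) F).mulVec u ∈ U := this
      rw [hgu] at h2
      apply hvU
      have := U.sub_mem h2 huU
      simpa using this
  · -- W ≠ ⊤, transvection moving w to w + v
    have hwP : w ∉ Submodule.span F {v} := by
      intro h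
      obtain ⟨c, hc⟩ := Submodule.mem_span_singleton.mp h
      by_cases hc0 : c = 0
      · subst hc0
        apply hw0
        rw [← hc]; simp
      · apply hvW
        have h3 := W.smul_mem c⁻¹ (hc ▸ hwW)
        rwa [smul_smul, inv_mul_cancel₀ hc0, one_smul] at h3
    obtain ⟨g, hgSL, -, hgw⟩ := exists_transvection n _ w v hwP (Submodule.mem_span_singleton_self v)
    refine lt_of_le_of_ne inf_le_right ?_
    intro heq
    rw [← heq] at hgSL
    have := (hgSL.1 w).mp hwW
    have h2 : (g : Matrix (Fin n) (Fin n) F).mulVec w ∈ W := this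
    rw [hgw] at h2
    apply hvW
    have := W.sub_mem h2 hwW
    simpa using this

end Cfsg.Agent.S5632
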