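import Cfsg.Statements.S5633
import Cfsg.Agent.Lib.Helper28.Transvection

set_option autoImplicit false
open Cfsg

namespace Cfsg.Agent.S5633

open Cfsg.Agent.Lib.Helper28

theorem result {F : Type*} [Field F] [Fintype F] (n : ℕ) (W U : Submodule F (Fin n → F)) (hW0 : W ≠ ⊥) (hWU : W ⊓ U = ⊥) (hWU' : W ⊔ U = ⊤) (hdim : Module.finrank F W < Module.finrank F U) : ∃ K : Subgroup (Matrix.GeneralLinearGroup (Fin n) F), Cfsg.Geo.subspaceStabilizer W ⊓ Cfsg.Geo.subspaceStabilizer U ⊓ Cfsg.Geo.specialLinear (Fin n) F < K ∧ K < Cfsg.Geo.specialLinear (Fin n) F := by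
  have hUpos : 0 < Module.finrank F U := by omega
  obtain ⟨⟨u, huU⟩, hu0'⟩ := Module.finrank_pos_iff_exists_ne_zero.mp hUpos
  have hu0 : u ≠ 0 := fun h => hu0' (Subtype.ext h)
  obtain ⟨w, hwW, hw0⟩ := (Submodule.ne_bot_iff W).mp hW0
  have huW : u ∉ W := by
    intro h
    have : u ∈ W ⊓ U := ⟨h, huU⟩
    rw [hWU] at this
    exact hu0 (by simpa using this)
  have hwU : w ∉ U := by
    intro h
    have : w ∈ W ⊓ U := ⟨hwW, h⟩
    rw [hWU] at this
    exact hw0 (by simpa using this)
  refine ⟨Cfsg.Geo.subspaceStabilizer W ⊓ Cfsg.Geo.specialLinear (Fin n) F, ?_, ?_⟩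
  · obtain ⟨g, hgSL, hgstab, hgu⟩ := exists_transvection n W u w huW hwW
    refine lt_of_le_of_ne ?_ ?_
    · intro x hx
      exact ⟨hx.1.1, hx.2⟩
    · intro heq
      have hg : g ∈ Cfsg.Geo.subspaceStabilizer W ⊓ Cfsg.Geo.specialLinear (Fin n) F :=
        ⟨hgstab W le_rfl, hgSL⟩
      rw [← heq] at hg
      have hgU : g ∈ Cfsg.Geo.subspaceStabilizer U := hg.1.2
      have := (hgU u).mp huU
      have h2 : (g : Matrix (Fin n) (Fin n) F).mulVec u ∈ U := this
      rw [hgu] at h2
      apply hwU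
      have := U.sub_mem h2 huU
      simpa using this
  · -- transvection moving w to w + u
    have hwP : w ∉ Submodule.span F {u} := by
      intro h
      apply hwU
      exact (Submodule.span_singleton_le_iff_mem u U).mpr huU h
    obtain ⟨g, hgSL, -, hgw⟩ := exists_transvection n _ w u hwP (Submodule.mem_span_singleton_self u)
    refine lt_of_le_of_ne inf_le_right ?_
    intro heq
    rw [← heq] at hgSL
    have := (hgSL.1 w).mp hwW
    have h2 : (g : Matrix (Fin n) (Fin n) F).mulVec w ∈ W := this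
    rw [hgw] at h2
    apply huW
    have := W.sub_mem h2 hwW
    simpa using this

end Cfsg.Agent.S5633
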