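import Cfsg.Statements.S5638

set_option autoImplicit false
open Cfsg

namespace Cfsg.Agent.S5638

open scoped Matrix Kronecker
open Cfsg.Geo

section
variable {F : Type*} [Field F] [Fintype F]

theorem F2_cases (hq : Fintype.card F = 2) (x : F) : x = 0 ∨ x = 1 := by
  classical
  by_contra h
  push Not at h
  have h3 : ({0, 1, x} : Finset F).card = 3 := by
    rw [Finset.card_insert_of_notMem, Finset.card_insert_of_notMem, Finset.card_singleton]
    · simp only [Finset.mem_singleton]; exact fun h1 => h.2 h1.symm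
    · simp only [Finset.mem_insert, Finset.mem_singleton, not_or]
      exact ⟨zero_ne_one, fun h0 => h.1 h0.symm⟩
  have := Finset.card_le_univ ({0, 1, x} : Finset F)
  omega

theorem two_eq_zero (hq : Fintype.card F = 2) : (1 : F) + 1 = 0 := by
  rcases F2_cases hq ((1 : F) + 1) with h | h
  · exact h
  · exfalso
    have := congrArg (fun t => t - 1) h
    simp at this

theorem mat_add_self (hq : Fintype.card F = 2) {m : Type*} (A : Matrix m m F) : A + A = 0 := by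
  have h2 : (2 : F) = 0 := by rw [← one_add_one_eq_two]; exact two_eq_zero hq
  rw [← two_smul F A, h2, zero_smul]

/-- the element of order three -/
def om : Matrix (Fin 2) (Fin 2) F := !![0, 1; 1, 1]
/-- a nilpotent matrix -/
def nn : Matrix (Fin 2) (Fin 2) F := !![0, 1; 0, 0]

theorem key2 (hq : Fintype.card F = 2) (p q r s : F) (hdet : p * s - q * r ≠ 0) :
    (q = r ∧ s = p + q) ∨ (p = s ∧ q = p + r) := by
  have h2 := two_eq_zero hq
  rcases F2_cases hq p with rfl | rfl <;> rcases F2_cases hq q with rfl | rfl <;>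
    rcases F2_cases hq r with rfl | rfl <;> rcases F2_cases hq s with rfl | rfl <;>
    simp_all

theorem key (hq : Fintype.card F = 2) (a : Matrix.GeneralLinearGroup (Fin 2) F) :
    (a : Matrix (Fin 2) (Fin 2) F) * om = om * (a : Matrix (Fin 2) (Fin 2) F) ∨
    (a : Matrix (Fin 2) (Fin 2) F) * om = (om + 1) * (a : Matrix (Fin 2) (Fin 2) F) := by
  have h2 := two_eq_zero hq
  obtain ⟨A, hA⟩ : ∃ A : Matrix (Fin 2) (Fin 2) F, A = (a : Matrix (Fin 2) (Fin 2) F) := ⟨_, rfl⟩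
  rw [← hA]
  have hdet : A.det ≠ 0 := by
    rw [hA]
    have := (Matrix.isUnit_iff_isUnit_det _).mp a.isUnit
    exact this.ne_zero
  rw [Matrix.det_fin_two] at hdet
  rcases key2 hq _ _ _ _ hdet with ⟨h1, h3⟩ | ⟨h1, h3⟩
  · left
    ext i j
    fin_cases i <;> fin_cases j <;>
      simp [om, Matrix.mul_apply, Fin.sum_univ_two, h1, h3]
  · right
    ext i j
    fin_cases i <;> fin_cases j <;>
      simp [om, Matrix.mul_apply, Fin.sum_univ_two, Matrix.add_apply]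
    · exact h3
    · linear_combination h1
    · linear_combination (-1 : F) * h1 - A 1 0 * h2
    · linear_combination (-1 : F) * h3 - h1 - A 1 1 * h2


theorem one_add_kron_mul {n₂ : ℕ} (A B : Matrix (Fin 2) (Fin 2) F) (E : Matrix (Fin n₂) (Fin n₂) F)
    (hE : E * E = E) :
    (1 + A ⊗ₖ E) * (1 + B ⊗ₖ E) = 1 + (A + B + A * B) ⊗ₖ E := by
  have h : (A ⊗ₖ E) * (B ⊗ₖ E) = (A * B) ⊗ₖ E := by
    rw [← Matrix.mul_kronecker_mul, hE]
  rw [Matrix.add_kronecker, Matrix.add_kronecker, ← h]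
  noncomm_ring

theorem one_add_kron_mul_J {n₂ : ℕ} (A W : Matrix (Fin 2) (Fin 2) F) (E : Matrix (Fin n₂) (Fin n₂) F) :
    (1 + A ⊗ₖ E) * (W ⊗ₖ (1 : Matrix (Fin n₂) (Fin n₂) F)) = W ⊗ₖ 1 + (A * W) ⊗ₖ E := by
  rw [add_mul, one_mul, ← Matrix.mul_kronecker_mul, mul_one]

theorem J_mul_one_add_kron {n₂ : ℕ} (A W : Matrix (Fin 2) (Fin 2) F) (E : Matrix (Fin n₂) (Fin n₂) F) :
    (W ⊗ₖ (1 : Matrix (Fin n₂) (Fin n₂) F)) * (1 + A ⊗ₖ E) = W ⊗ₖ 1 + (W * A) ⊗ₖ E := by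
  rw [mul_add, mul_one, ← Matrix.mul_kronecker_mul, one_mul]

/-- the matrix whose normaliser we use -/
def JJ (n₂ : ℕ) : Matrix (Fin 2 × Fin n₂) (Fin 2 × Fin n₂) F :=
  (om : Matrix (Fin 2) (Fin 2) F) ⊗ₖ (1 : Matrix (Fin n₂) (Fin n₂) F)

/-- normalising condition -/
def NJ (n₂ : ℕ) (A : Matrix (Fin 2 × Fin n₂) (Fin 2 × Fin n₂) F) : Prop :=
  A * JJ n₂ = JJ n₂ * A ∨ A * JJ n₂ = (JJ n₂ + 1) * A

theorem NJ_mul (hq : Fintype.card F = 2) {n₂ : ℕ} {A B : Matrix (Fin 2 × Fin n₂) (Fin 2 × Fin n₂) F}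
    (hA : NJ n₂ A) (hB : NJ n₂ B) : NJ n₂ (A * B) := by
  unfold NJ at *
  rcases hA with hA | hA <;> rcases hB with hB | hB
  · left
    rw [mul_assoc, hB, ← mul_assoc, hA, mul_assoc]
  · right
    rw [mul_assoc, hB, add_mul, one_mul, mul_add, ← mul_assoc, hA, add_mul, one_mul, mul_assoc]
  · right
    rw [mul_assoc, hB, ← mul_assoc, hA, mul_assoc]
  · left
    rw [mul_assoc, hB, add_mul, one_mul, mul_add, ← mul_assoc, hA, add_mul, one_mul, add_mul, add_assoc,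
      mat_add_self hq, add_zero, mul_assoc]

theorem NJ_inv (hq : Fintype.card F = 2) {n₂ : ℕ} {A B : Matrix (Fin 2 × Fin n₂) (Fin 2 × Fin n₂) F}
    (hAB : A * B = 1) (hBA : B * A = 1) (hA : NJ n₂ A) : NJ n₂ B := by
  unfold NJ at *
  rcases hA with hA | hA
  · left
    calc B * JJ n₂ = B * JJ n₂ * (A * B) := by rw [hAB, mul_one]
      _ = B * (JJ n₂ * A) * B := by simp only [mul_assoc]
      _ = B * (A * JJ n₂) * B := by rw [hA]
      _ = (B * A) * JJ n₂ * B := by simp only [mul_assoc]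
      _ = JJ n₂ * B := by rw [hBA, one_mul]
  · right
    have h1 : JJ n₂ * B = B * JJ n₂ + B := by
      calc JJ n₂ * B = (B * A) * JJ n₂ * B := by rw [hBA, one_mul]
        _ = B * (A * JJ n₂) * B := by simp only [mul_assoc]
        _ = B * ((JJ n₂ + 1) * A) * B := by rw [hA]
        _ = B * (JJ n₂ + 1) * (A * B) := by simp only [mul_assoc]
        _ = B * JJ n₂ + B := by rw [hAB, mul_one, mul_add, mul_one]
    rw [add_mul, one_mul, h1, add_assoc, mat_add_self hq, add_zero]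

/-- the overgroup -/
def K0 (hq : Fintype.card F = 2) (n₂ : ℕ) : Subgroup (Matrix.GeneralLinearGroup (Fin 2 × Fin n₂) F) where
  carrier := {g | NJ n₂ (g : Matrix (Fin 2 × Fin n₂) (Fin 2 × Fin n₂) F)}
  mul_mem' {g h} hg hh := by
    show NJ n₂ ((g * h : Matrix.GeneralLinearGroup (Fin 2 × Fin n₂) F) : Matrix _ _ F)
    rw [Units.val_mul]
    exact NJ_mul hq (show NJ n₂ (g : Matrix _ _ F) from hg) (show NJ n₂ (h : Matrix _ _ F) from hh)
  one_mem' := by
    show NJ n₂ ((1 : Matrix.GeneralLinearGroup (Fin 2 × Fin n₂) F) : Matrix _ _ F)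
    left
    rw [Units.val_one, one_mul, mul_one]
  inv_mem' {g} hg := by
    show NJ n₂ ((g⁻¹ : Matrix.GeneralLinearGroup (Fin 2 × Fin n₂) F) : Matrix _ _ F)
    refine NJ_inv hq (A := (g : Matrix _ _ F)) ?_ ?_ (show NJ n₂ (g : Matrix _ _ F) from hg)
    · rw [← Units.val_mul, mul_inv_cancel, Units.val_one]
    · rw [← Units.val_mul, inv_mul_cancel, Units.val_one]

theorem kron_le_K0 (hq : Fintype.card F = 2) (n₂ : ℕ) : kroneckerSubgroup 2 n₂ F ≤ K0 hq n₂ := by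
  intro g hg
  obtain ⟨a, b, hab⟩ := hg
  show NJ n₂ (g : Matrix _ _ F)
  rw [hab]
  unfold NJ JJ
  have hJ1 : (om : Matrix (Fin 2) (Fin 2) F) ⊗ₖ (1 : Matrix (Fin n₂) (Fin n₂) F) + 1
      = (om + 1) ⊗ₖ (1 : Matrix (Fin n₂) (Fin n₂) F) := by
    rw [Matrix.add_kronecker, Matrix.one_kronecker_one]
  rw [hJ1, ← Matrix.mul_kronecker_mul, ← Matrix.mul_kronecker_mul, ← Matrix.mul_kronecker_mul, mul_one, one_mul]
  rcases key hq a with h | h
  · left; rw [h]
  · right; rw [h]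

/-- a diagonal idempotent -/
def EE {n₂ : ℕ} (j₀ : Fin n₂) : Matrix (Fin n₂) (Fin n₂) F :=
  Matrix.diagonal (fun j => if j = j₀ then 1 else 0)

theorem EE_mul {n₂ : ℕ} (j₀ : Fin n₂) : (EE j₀ : Matrix (Fin n₂) (Fin n₂) F) * EE j₀ = EE j₀ := by
  unfold EE
  rw [Matrix.diagonal_mul_diagonal]
  congr 1
  funext j
  split_ifs <;> simp

theorem EE_same {n₂ : ℕ} (j₀ : Fin n₂) : (EE j₀ : Matrix (Fin n₂) (Fin n₂) F) j₀ j₀ = 1 := by
  unfold EE
  rw [Matrix.diagonal_apply_eq, if_pos rfl]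

theorem EE_other {n₂ : ℕ} (j₀ j₁ : Fin n₂) (h : j₁ ≠ j₀) : (EE j₀ : Matrix (Fin n₂) (Fin n₂) F) j₁ j₁ = 0 := by
  unfold EE
  rw [Matrix.diagonal_apply_eq, if_neg h]

theorem om_sq (hq : Fintype.card F = 2) :
    (om : Matrix (Fin 2) (Fin 2) F) * om = om + 1 := by
  have h2 := two_eq_zero hq
  simp [om, Matrix.one_fin_two, h2]

theorem om_rel (hq : Fintype.card F = 2) :
    ((om : Matrix (Fin 2) (Fin 2) F) + 1) + om + (om + 1) * om = 0 := by
  rw [add_mul, one_mul, om_sq hq]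
  have e1 : ((om : Matrix (Fin 2) (Fin 2) F) + 1) + om + (om + 1 + om) = (om + om) + (om + om) + (1 + 1) := by
    abel
  rw [e1]
  simp only [mat_add_self hq]

theorem om_rel' (hq : Fintype.card F = 2) :
    (om : Matrix (Fin 2) (Fin 2) F) + (om + 1) + om * (om + 1) = 0 := by
  rw [mul_add, mul_one, om_sq hq]
  have e1 : (om : Matrix (Fin 2) (Fin 2) F) + (om + 1) + (om + 1 + om) = (om + om) + (om + om) + (1 + 1) := by
    abel
  rw [e1]
  simp only [mat_add_self hq]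

theorem nn_rel (hq : Fintype.card F = 2) :
    (nn : Matrix (Fin 2) (Fin 2) F) + nn + nn * nn = 0 := by
  rw [mat_add_self hq, zero_add]
  ext i j
  fin_cases i <;> fin_cases j <;> simp [nn]

/-- block diagonal witness -/
def g0 (hq : Fintype.card F = 2) {n₂ : ℕ} (j₀ : Fin n₂) : Matrix.GeneralLinearGroup (Fin 2 × Fin n₂) F :=
  ⟨1 + ((om : Matrix (Fin 2) (Fin 2) F) + 1) ⊗ₖ (EE j₀ : Matrix (Fin n₂) (Fin n₂) F),
   1 + (om : Matrix (Fin 2) (Fin 2) F) ⊗ₖ (EE j₀ : Matrix (Fin n₂) (Fin n₂) F),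
   by rw [one_add_kron_mul _ _ _ (EE_mul j₀), om_rel hq, Matrix.zero_kronecker, add_zero],
   by rw [one_add_kron_mul _ _ _ (EE_mul j₀), om_rel' hq, Matrix.zero_kronecker, add_zero]⟩

/-- transvection witness -/
def t0 (hq : Fintype.card F = 2) {n₂ : ℕ} (j₀ : Fin n₂) : Matrix.GeneralLinearGroup (Fin 2 × Fin n₂) F :=
  ⟨1 + (nn : Matrix (Fin 2) (Fin 2) F) ⊗ₖ (EE j₀ : Matrix (Fin n₂) (Fin n₂) F),
   1 + (nn : Matrix (Fin 2) (Fin 2) F) ⊗ₖ (EE j₀ : Matrix (Fin n₂) (Fin n₂) F),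
   by rw [one_add_kron_mul _ _ _ (EE_mul j₀), nn_rel hq, Matrix.zero_kronecker, add_zero],
   by rw [one_add_kron_mul _ _ _ (EE_mul j₀), nn_rel hq, Matrix.zero_kronecker, add_zero]⟩

theorem g0_mem (hq : Fintype.card F = 2) {n₂ : ℕ} (j₀ : Fin n₂) : g0 hq j₀ ∈ K0 hq n₂ := by
  show NJ n₂ (1 + ((om : Matrix (Fin 2) (Fin 2) F) + 1) ⊗ₖ (EE j₀ : Matrix (Fin n₂) (Fin n₂) F))
  left
  unfold JJ
  rw [one_add_kron_mul_J, J_mul_one_add_kron, add_mul, mul_add, one_mul, mul_one]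

theorem g0_not_mem (hq : Fintype.card F = 2) {n₂ : ℕ} (j₀ j₁ : Fin n₂) (h : j₁ ≠ j₀) :
    g0 hq j₀ ∉ kroneckerSubgroup 2 n₂ F := by
  rintro ⟨a, b, hab⟩
  have hab' : (1 + ((om : Matrix (Fin 2) (Fin 2) F) + 1) ⊗ₖ (EE j₀ : Matrix (Fin n₂) (Fin n₂) F))
      = (a : Matrix (Fin 2) (Fin 2) F) ⊗ₖ (b : Matrix (Fin n₂) (Fin n₂) F) := hab
  have e1 : (1 : F) = (a : Matrix (Fin 2) (Fin 2) F) 0 0 * (b : Matrix (Fin n₂) (Fin n₂) F) j₁ j₁ := by
    have := congrFun (congrFun hab' (0, j₁)) (0, j₁)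
    simpa [Matrix.add_apply, EE_other j₀ j₁ h] using this
  have e2 : (0 : F) = (a : Matrix (Fin 2) (Fin 2) F) 0 1 * (b : Matrix (Fin n₂) (Fin n₂) F) j₁ j₁ := by
    have := congrFun (congrFun hab' (0, j₁)) (1, j₁)
    simpa [Matrix.add_apply, EE_other j₀ j₁ h, Matrix.one_apply] using this
  have e3 : (1 : F) = (a : Matrix (Fin 2) (Fin 2) F) 0 1 * (b : Matrix (Fin n₂) (Fin n₂) F) j₀ j₀ := by
    have := congrFun (congrFun hab' (0, j₀)) (1, j₀)
    simpa [Matrix.add_apply, EE_same, Matrix.one_apply, om] using this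
  have hb : (b : Matrix (Fin n₂) (Fin n₂) F) j₁ j₁ ≠ 0 := by
    intro h0
    rw [h0, mul_zero] at e1
    exact one_ne_zero e1
  have ha : (a : Matrix (Fin 2) (Fin 2) F) 0 1 = 0 := by
    rcases mul_eq_zero.mp e2.symm with h0 | h0
    · exact h0
    · exact absurd h0 hb
  rw [ha, zero_mul] at e3
  exact one_ne_zero e3

theorem t0_not_mem (hq : Fintype.card F = 2) {n₂ : ℕ} (j₀ j₁ : Fin n₂) (h : j₁ ≠ j₀) :
    t0 hq j₀ ∉ K0 hq n₂ := by
  intro hmem
  have hmem' : NJ n₂ (1 + (nn : Matrix (Fin 2) (Fin 2) F) ⊗ₖ (EE j₀ : Matrix (Fin n₂) (Fin n₂) F)) := hmem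
  unfold NJ JJ at hmem'
  rw [one_add_kron_mul_J, add_mul, one_mul, J_mul_one_add_kron] at hmem'
  have o1 : (1 : Matrix (Fin 2 × Fin n₂) (Fin 2 × Fin n₂) F) (0, j₁) (0, j₁) = 1 := Matrix.one_apply_eq _
  have p1 : ((nn * om : Matrix (Fin 2) (Fin 2) F)) 0 0 = 1 := by
    simp [nn, om]
  have p2 : ((om * nn : Matrix (Fin 2) (Fin 2) F)) 0 0 = 0 := by
    simp [nn, om]
  have p3 : (om : Matrix (Fin 2) (Fin 2) F) 0 0 = 0 := by
    simp [om]
  rcases hmem' with h1 | h1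
  · have e1 := congrFun (congrFun h1 (0, j₀)) (0, j₀)
    simp only [Matrix.add_apply, Matrix.kroneckerMap_apply, EE_same, mul_one, p1, p2, p3,
      Matrix.one_apply_eq, zero_add, add_zero] at e1
    exact one_ne_zero e1
  · have e1 := congrFun (congrFun h1 (0, j₁)) (0, j₁)
    simp only [Matrix.add_apply, Matrix.kroneckerMap_apply, EE_other j₀ j₁ h, mul_zero, p3,
      Matrix.one_apply_eq, zero_add, add_zero, o1, mul_one] at e1
    exact zero_ne_one e1

theorem map_lt_map {G G' : Type*} [Group G] [Group G'] (f : G →* G') (hf : Function.Injective f)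
    {A B : Subgroup G} (h : A < B) : A.map f < B.map f := by
  rw [lt_iff_le_not_ge] at h ⊢
  refine ⟨Subgroup.map_mono h.1, fun h' => h.2 ?_⟩
  exact (Subgroup.map_le_map_iff_of_injective hf).mp h'

end

theorem result {F : Type*} [Field F] [Fintype F] (n : ℕ) (hn : 13 ≤ n) (hq : Fintype.card F = 2) (n₂ : ℕ) (e : Fin n ≃ Fin 2 × Fin n₂) (P : Matrix.GeneralLinearGroup (Fin n) F) : ∃ K : Subgroup (Matrix.GeneralLinearGroup (Fin n) F), Cfsg.Geo.tensorProductSubgroup 2 n₂ e P ⊓ Cfsg.Geo.specialLinear (Fin n) F < K ∧ K < Cfsg.Geo.specialLinear (Fin n) F := by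
  have hcard : n = 2 * n₂ := by
    have := Fintype.card_congr e
    simpa using this
  have hn2 : 2 ≤ n₂ := by omega
  have hSL : Cfsg.Geo.specialLinear (Fin n) F = ⊤ := by
    rw [eq_top_iff]
    intro g _
    unfold Cfsg.Geo.specialLinear
    rw [MonoidHom.mem_ker]
    apply Units.ext
    rcases F2_cases hq ((Matrix.GeneralLinearGroup.det g : Fˣ) : F) with h | h
    · exact absurd h (Units.ne_zero _)
    · simpa using h
  rw [hSL, inf_top_eq]
  obtain ⟨j₀, hj₀⟩ : ∃ j : Fin n₂, j = ⟨0, by omega⟩ := ⟨_, rfl⟩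
  obtain ⟨j₁, hj₁⟩ : ∃ j : Fin n₂, j = ⟨1, by omega⟩ := ⟨_, rfl⟩
  have hne : j₁ ≠ j₀ := by
    rw [hj₀, hj₁]
    intro h
    have := congrArg Fin.val h
    simp at this
  have hlt1 : kroneckerSubgroup 2 n₂ F < K0 hq n₂ := by
    rw [lt_iff_le_not_ge]
    refine ⟨kron_le_K0 hq n₂, fun h' => ?_⟩
    exact g0_not_mem hq j₀ j₁ hne (h' (g0_mem hq j₀))
  have hlt2 : K0 hq n₂ < ⊤ := by
    rw [lt_top_iff_ne_top]
    intro h'
    exact t0_not_mem hq j₀ j₁ hne (h' ▸ Subgroup.mem_top _)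
  have i1 : Function.Injective (glReindex (F := F) e.symm).toMonoidHom := (glReindex (F := F) e.symm).injective
  have i2 : Function.Injective (MulAut.conj P).toMonoidHom := (MulAut.conj P).injective
  refine ⟨((K0 hq n₂).map (glReindex e.symm).toMonoidHom).map (MulAut.conj P).toMonoidHom, ?_, ?_⟩
  · unfold Cfsg.Geo.tensorProductSubgroup
    exact map_lt_map _ i2 (map_lt_map _ i1 hlt1)
  · have h3 := map_lt_map _ i2 (map_lt_map _ i1 hlt2)
    have t1 : Subgroup.map (glReindex (F := F) e.symm).toMonoidHom ⊤ = ⊤ :=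
      Subgroup.map_top_of_surjective (glReindex (F := F) e.symm).toMonoidHom (glReindex (F := F) e.symm).surjective
    have t2 : Subgroup.map (MulAut.conj P).toMonoidHom ⊤ = ⊤ :=
      Subgroup.map_top_of_surjective (MulAut.conj P).toMonoidHom (MulAut.conj P).surjective
    rw [t1, t2] at h3
    exact h3

end Cfsg.Agent.S5638
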