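import Cfsg.Statements.S5635
import Cfsg.Agent.Lib.Helper13.DecompCoords
import Cfsg.Agent.Lib.Helper13.TensorHerm
import Cfsg.Agent.Lib.Helper13.TensorF3
import Cfsg.Agent.S5638

set_option autoImplicit false
open Cfsg

namespace Cfsg.Agent.S5635

open scoped Matrix
open Cfsg.Geo Cfsg.Agent.Lib.Helper13.TNM

section generic
variable {F : Type*} [Field F] {κ : Type} [Fintype κ] [DecidableEq κ]

/-- sandwich criterion in adapted coordinates -/
theorem sandwich {n t : ℕ} (e : Fin n ≃ κ) (P : GL (Fin n) F)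
    (D : Fin t → Submodule F (Fin n → F)) (col : κ → Fin t)
    (hD : ∀ i x, TT e P x ∈ D i ↔ x ∈ blk (F := F) col i)
    (K₀ : Subgroup (GL κ F))
    (hA : ∀ M : GL κ F, M ∈ decompositionStabilizer (blk (F := F) col) → M ∈ K₀)
    (M₁ : GL κ F) (h1K : M₁ ∈ K₀) (h1d : (M₁ : Matrix κ κ F).det = 1)
    (h1n : M₁ ∉ decompositionStabilizer (blk (F := F) col))
    (M₂ : GL κ F) (h2d : (M₂ : Matrix κ κ F).det = 1) (h2n : M₂ ∉ K₀) :
    ∃ K : Subgroup (GL (Fin n) F),
      decompositionStabilizer D ⊓ specialLinear (Fin n) F < K ∧ K < specialLinear (Fin n) F := by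
  have hinj := psi_injective (F := F) e P
  refine ⟨K₀.map (psi e P) ⊓ specialLinear (Fin n) F, ?_, ?_⟩
  · rw [SetLike.lt_iff_le_and_exists]
    constructor
    · intro g hg
      obtain ⟨hg1, hg2⟩ := Subgroup.mem_inf.mp hg
      obtain ⟨M, rfl⟩ := psi_surjective e P g
      refine Subgroup.mem_inf.mpr ⟨Subgroup.mem_map.mpr ⟨M, hA M ?_, rfl⟩, hg2⟩
      exact (psi_mem_decStab_iff e P D col hD M).mp hg1
    · refine ⟨psi e P M₁, Subgroup.mem_inf.mpr ⟨Subgroup.mem_map.mpr ⟨M₁, h1K, rfl⟩, ?_⟩, ?_⟩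
      · rw [psi_mem_specialLinear_iff]; exact h1d
      · intro hmem
        exact h1n ((psi_mem_decStab_iff e P D col hD M₁).mp (Subgroup.mem_inf.mp hmem).1)
  · rw [SetLike.lt_iff_le_and_exists]
    refine ⟨inf_le_right, psi e P M₂, ?_, ?_⟩
    · rw [psi_mem_specialLinear_iff]; exact h2d
    · intro hmem
      obtain ⟨M, hM, hMeq⟩ := Subgroup.mem_map.mp (Subgroup.mem_inf.mp hmem).1
      rw [hinj hMeq] at hM
      exact h2n hM

/-- the isometry group of a Gram matrix -/
def KG (σ : F →+* F) (G : Matrix κ κ F) : Subgroup (GL κ F) :=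
  preserving (Units.coeHom (Matrix κ κ F)) (formOfGram (⇑σ) G)

theorem mem_KG (σ : F →+* F) (G : Matrix κ κ F) (M : GL κ F) :
    M ∈ KG σ G ↔ (M : Matrix κ κ F)ᵀ * G * (M : Matrix κ κ F).map σ = G := by
  rw [← preserves_iff (⇑σ) (map_zero σ) (map_one σ) (map_add σ) (map_mul σ)]
  rfl

omit [Fintype κ] in
theorem tv_apply (c₁ c₂ a b : κ) :
    Matrix.transvection c₁ c₂ (1 : F) a b
      = (if a = b then 1 else 0) + (if c₁ = a ∧ c₂ = b then 1 else 0) := by
  rw [Matrix.transvection, Matrix.add_apply, Matrix.one_apply, Matrix.single_apply]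

theorem exists_tv (c₁ c₂ : κ) (h12 : c₁ ≠ c₂) :
    ∃ g : GL κ F, (g : Matrix κ κ F) = Matrix.transvection c₁ c₂ 1 := by
  refine ⟨⟨Matrix.transvection c₁ c₂ 1, Matrix.transvection c₁ c₂ (-1), ?_, ?_⟩, rfl⟩
  · rw [Matrix.transvection_mul_transvection_same c₁ c₂ h12, add_neg_cancel, Matrix.transvection_zero]
  · rw [Matrix.transvection_mul_transvection_same c₁ c₂ h12, neg_add_cancel, Matrix.transvection_zero]

/-! ### blocks of dimension one -/

theorem monomial_mem {t : ℕ} (col : κ → Fin t) (hcol : Function.Injective col) (σ : F →+* F)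
    (hcube : ∀ x : F, x ≠ 0 → x * σ x = 1) (M : GL κ F)
    (hM : M ∈ decompositionStabilizer (blk (F := F) col)) : M ∈ KG σ 1 := by
  rw [mem_KG, Matrix.mul_one]
  obtain ⟨π, hπ⟩ := exists_perm_of_mem_decStab col M hM
  have hmul : ((M⁻¹ : GL κ F) : Matrix κ κ F) * (M : Matrix κ κ F) = 1 := by
    rw [← Units.val_mul, inv_mul_cancel, Units.val_one]
  ext a' b'
  rw [Matrix.mul_apply]
  by_cases hab : a' = b'
  · subst hab
    rw [Matrix.one_apply_eq]
    obtain ⟨a₀, ha₀⟩ : ∃ a₀, (M : Matrix κ κ F) a₀ a' ≠ 0 := by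
      by_contra hcon
      push Not at hcon
      have h1 := congrFun (congrFun hmul a') a'
      have hz : ∑ a, ((M⁻¹ : GL κ F) : Matrix κ κ F) a' a * (M : Matrix κ κ F) a a' = 0 :=
        Finset.sum_eq_zero (fun a _ => by rw [hcon a, mul_zero])
      rw [Matrix.mul_apply, hz, Matrix.one_apply_eq] at h1
      exact zero_ne_one h1
    have hc0 : col a₀ = π (col a') := by
      by_contra h
      exact ha₀ (hπ a₀ a' h)
    rw [Finset.sum_eq_single a₀]
    · rw [Matrix.transpose_apply, Matrix.map_apply]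
      exact hcube _ ha₀
    · intro a _ ha
      have hne : col a ≠ π (col a') := by
        intro h
        exact ha (hcol (h.trans hc0.symm))
      rw [Matrix.transpose_apply, hπ a a' hne, zero_mul]
    · intro h; exact absurd (Finset.mem_univ _) h
  · rw [Matrix.one_apply_ne hab]
    apply Finset.sum_eq_zero
    intro a _
    rw [Matrix.transpose_apply, Matrix.map_apply]
    by_cases h1 : col a = π (col a')
    · have h2 : col a ≠ π (col b') := by
        intro h
        exact hab (hcol (π.injective (h1.symm.trans h)))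
      rw [hπ a b' h2, map_zero, mul_zero]
    · rw [hπ a a' h1, zero_mul]

theorem RU_mul_self (u : κ → F) (h6 : (2 : F) + u ⬝ᵥ u = 0) :
    (1 + Matrix.vecMulVec u u) * (1 + Matrix.vecMulVec u u) = 1 := by
  have hN : Matrix.vecMulVec u u * Matrix.vecMulVec u u = (u ⬝ᵥ u) • Matrix.vecMulVec u u := by
    rw [Matrix.vecMulVec_mul_vecMulVec, Matrix.vecMulVec_smul]
  rw [sq_expand, hN, ← two_smul F (Matrix.vecMulVec u u), add_assoc, ← add_smul, h6, zero_smul,
    add_zero]

theorem RU_preserve (σ : F →+* F) (u : κ → F) (hσu : ⇑σ ∘ u = u) (h6 : (2 : F) + u ⬝ᵥ u = 0) :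
    (1 + Matrix.vecMulVec u u)ᵀ * 1 * (1 + Matrix.vecMulVec u u).map σ = 1 := by
  rw [one_add_vecMulVec_map, hσu, Matrix.transpose_add, Matrix.transpose_one,
    Matrix.transpose_vecMulVec, Matrix.mul_one]
  exact RU_mul_self u h6

theorem RU_det (u : κ → F) : (1 + Matrix.vecMulVec u u).det = 1 + u ⬝ᵥ u := by
  rw [Matrix.vecMulVec_eq Unit, Matrix.det_one_add_replicateCol_mul_replicateRow]

theorem exists_witness_one {t : ℕ} (col : κ → Fin t) (hcol : Function.Injective col)
    (hκ : 5 ≤ Fintype.card κ) (σ : F →+* F) (h6 : (6 : F) = 0) :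
    ∃ M₁ : GL κ F, M₁ ∈ KG σ 1 ∧ (M₁ : Matrix κ κ F).det = 1 ∧
      M₁ ∉ decompositionStabilizer (blk (F := F) col) := by
  obtain ⟨S, -, hS⟩ := Finset.exists_subset_card_eq (s := (Finset.univ : Finset κ)) (n := 4)
    (by rw [Finset.card_univ]; omega)
  obtain ⟨a₁, h1, a₂, h2, a₃, h3, h12, h13, h23⟩ := Finset.two_lt_card.mp (by omega : 2 < S.card)
  obtain ⟨a₅, ha₅⟩ : ∃ a, a ∉ S := by
    by_contra hcon
    push Not at hcon
    have : S = Finset.univ := Finset.eq_univ_iff_forall.mpr hcon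
    rw [this, Finset.card_univ] at hS
    omega
  obtain ⟨u, hu⟩ : ∃ u : κ → F, u = fun a => if a ∈ S then 1 else 0 := ⟨_, rfl⟩
  have hσu : ⇑σ ∘ u = u := by
    funext a
    rw [Function.comp_apply, hu]
    by_cases h : a ∈ S
    · simp [h]
    · simp [h]
  have huu : u ⬝ᵥ u = 4 := by
    simp only [dotProduct]
    have hterm : ∀ a, u a * u a = if a ∈ S then 1 else 0 := by
      intro a
      rw [hu]
      by_cases h : a ∈ S
      · simp [h]
      · simp [h]
    rw [Finset.sum_congr rfl (fun a _ => hterm a), Finset.sum_ite_mem, Finset.univ_inter,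
      Finset.sum_const, hS]
    simp
  have h6' : (2 : F) + u ⬝ᵥ u = 0 := by rw [huu]; linear_combination h6
  obtain ⟨N, hN⟩ : ∃ N : Matrix κ κ F, N = 1 + Matrix.vecMulVec u u := ⟨_, rfl⟩
  have hNN : N * N = 1 := by rw [hN]; exact RU_mul_self u h6'
  obtain ⟨dv, hdv⟩ : ∃ dv : κ → F, dv = fun a => if a = a₅ then -1 else 1 := ⟨_, rfl⟩
  have hdd : Matrix.diagonal dv * Matrix.diagonal dv = 1 := by
    rw [Matrix.diagonal_mul_diagonal, ← Matrix.diagonal_one]
    congr 1
    funext a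
    rw [hdv]
    by_cases h : a = a₅
    · simp [h]
    · simp [h]
  obtain ⟨gN, hgN⟩ : ∃ g : GL κ F, (g : Matrix κ κ F) = N := ⟨⟨N, N, hNN, hNN⟩, rfl⟩
  obtain ⟨gd, hgd⟩ : ∃ g : GL κ F, (g : Matrix κ κ F) = Matrix.diagonal dv :=
    ⟨⟨Matrix.diagonal dv, Matrix.diagonal dv, hdd, hdd⟩, rfl⟩
  refine ⟨gN * gd, ?_, ?_, ?_⟩
  · apply Subgroup.mul_mem
    · rw [mem_KG, hgN, hN]
      exact RU_preserve σ u hσu h6'
    · rw [mem_KG, hgd, Matrix.mul_one, Matrix.diagonal_transpose, Matrix.diagonal_map (map_zero σ),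
        Matrix.diagonal_mul_diagonal, ← Matrix.diagonal_one]
      congr 1
      funext a
      rw [hdv]
      by_cases h : a = a₅
      · simp [h]
      · simp [h]
  · have hprod : ∏ a, dv a = -1 := by
      rw [hdv]
      simp [Finset.prod_ite_eq']
    rw [Units.val_mul, Matrix.det_mul, hgN, hgd, hN, RU_det, huu, Matrix.det_diagonal, hprod]
    linear_combination (-1 : F) * h6
  · intro hmem
    obtain ⟨k, hk⟩ := exists_col_of_mem_decStab col (gN * gd) hmem a₁
    have h15 : a₁ ≠ a₅ := fun h => ha₅ (h ▸ h1)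
    have hent : ∀ a, a ∈ S → a ≠ a₁ → ((gN * gd : GL κ F) : Matrix κ κ F) a a₁ = 1 := by
      intro a ha hne
      rw [Units.val_mul, hgN, hgd, Matrix.mul_diagonal, hN, Matrix.add_apply, Matrix.vecMulVec_apply,
        Matrix.one_apply_ne hne, hu, hdv]
      simp [ha, h1, h15]
    have hk2 : col a₂ = k := by
      by_contra h
      have := hk a₂ h
      rw [hent a₂ h2 (Ne.symm h12)] at this
      exact one_ne_zero this
    have hk3 : col a₃ = k := by
      by_contra h
      have := hk a₃ h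
      rw [hent a₃ h3 (Ne.symm h13)] at this
      exact one_ne_zero this
    exact h23 (hcol (hk2.trans hk3.symm))

theorem exists_witness_two (σ : F →+* F) (c₁ c₂ : κ) (h12 : c₁ ≠ c₂) :
    ∃ M₂ : GL κ F, (M₂ : Matrix κ κ F).det = 1 ∧ M₂ ∉ KG σ 1 := by
  obtain ⟨g, hg⟩ := exists_tv (F := F) c₁ c₂ h12
  refine ⟨g, by rw [hg]; exact Matrix.det_transvection_of_ne c₁ c₂ h12 1, ?_⟩
  intro hmem
  rw [mem_KG, Matrix.mul_one, hg] at hmem
  have h1 := congrFun (congrFun hmem c₁) c₂
  have hsum : ∑ a, (Matrix.transvection c₁ c₂ (1 : F))ᵀ c₁ a *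
      ((Matrix.transvection c₁ c₂ (1 : F)).map σ) a c₂ = 1 := by
    rw [Finset.sum_eq_single c₁]
    · rw [Matrix.transpose_apply, Matrix.map_apply, tv_apply, tv_apply]
      simp [h12, Ne.symm h12]
    · intro a _ ha
      rw [Matrix.transpose_apply, tv_apply]
      simp [ha, Ne.symm ha, Ne.symm h12]
    · intro h; exact absurd (Finset.mem_univ _) h
  rw [Matrix.mul_apply, hsum, Matrix.one_apply_ne h12] at h1
  exact one_ne_zero h1

end generic

section fields
variable {F : Type*} [Field F] [Fintype F]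

theorem exists_sigma (hF : Fintype.card F ≤ 4) :
    ∃ σ : F →+* F, (∀ x : F, x ≠ 0 → x * σ x = 1) ∧ (6 : F) = 0 := by
  have h1 : 1 < Fintype.card F := Fintype.one_lt_card
  have hcases : Fintype.card F = 2 ∨ Fintype.card F = 3 ∨ Fintype.card F = 4 := by omega
  rcases hcases with h | h | h
  · refine ⟨RingHom.id F, fun x hx => ?_, ?_⟩
    · rcases Cfsg.Agent.S5638.F2_cases h x with h0 | h1
      · exact absurd h0 hx
      · rw [h1]; simp
    · have := Cfsg.Agent.S5638.two_eq_zero h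
      linear_combination (3 : F) * this
  · refine ⟨RingHom.id F, fun x hx => ?_, ?_⟩
    · rcases F3_sq h x with ⟨h0, _⟩ | ⟨_, h1⟩
      · exact absurd h0 hx
      · exact h1
    · have h3 := FiniteField.cast_card_eq_zero F
      rw [h] at h3
      have h3' : (3 : F) = 0 := by exact_mod_cast h3
      linear_combination (2 : F) * h3'
  · have h2 := F4_two h
    refine ⟨sqHom h2, fun x hx => ?_, ?_⟩
    · rw [sqHom_apply]; exact F4_cube h x hx
    · linear_combination (3 : F) * h2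

theorem case_one (n : ℕ) (hn : 13 ≤ n) {t : ℕ} (D : Fin t → Submodule F (Fin n → F))
    (hD : IsMDecomposition 1 D) (hF : Fintype.card F ≤ 4) :
    ∃ K : Subgroup (GL (Fin n) F),
      decompositionStabilizer D ⊓ specialLinear (Fin n) F < K ∧ K < specialLinear (Fin n) F := by
  obtain ⟨e, P, hcoords⟩ := exists_coords_of_decomposition D hD
  have hcard : 13 ≤ Fintype.card (Fin t × Fin 1) := by
    rw [← Fintype.card_congr e, Fintype.card_fin]; exact hn
  obtain ⟨σ, hcube, h6⟩ := exists_sigma hF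
  have hcol : Function.Injective (Prod.fst : Fin t × Fin 1 → Fin t) := by
    intro a b h
    exact Prod.ext h (Subsingleton.elim _ _)
  obtain ⟨M₁, h1K, h1d, h1n⟩ :=
    exists_witness_one (Prod.fst : Fin t × Fin 1 → Fin t) hcol (by omega) σ h6
  obtain ⟨c₁, c₂, h12⟩ :=
    Fintype.exists_pair_of_one_lt_card (by omega : 1 < Fintype.card (Fin t × Fin 1))
  obtain ⟨M₂, h2d, h2n⟩ := exists_witness_two σ c₁ c₂ h12
  exact sandwich e P D Prod.fst hcoords (KG σ 1)
    (fun M hM => monomial_mem Prod.fst hcol σ hcube M hM) M₁ h1K h1d h1n M₂ h2d h2n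

end fields

/-! ### blocks of dimension two over the field with two elements -/

section mtwo
variable {F : Type*} [Field F] {t : ℕ}

/-- swap on `Fin 2` -/
def sj (j : Fin 2) : Fin 2 := if j = 0 then 1 else 0

theorem sj_sj : ∀ j : Fin 2, sj (sj j) = j := by decide
theorem sj_ne : ∀ j : Fin 2, sj j ≠ j := by decide
theorem eq_or_sj : ∀ j j' : Fin 2, j' = j ∨ j' = sj j := by decide

/-- the block swap -/
def sw (a : Fin t × Fin 2) : Fin t × Fin 2 := (a.1, sj a.2)

theorem sw_sw (a : Fin t × Fin 2) : sw (sw a) = a := by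
  unfold sw
  exact Prod.ext rfl (sj_sj a.2)

theorem sw_ne (a : Fin t × Fin 2) : sw a ≠ a := by
  intro h
  exact sj_ne a.2 (congrArg Prod.snd h)

theorem sw_fst (a : Fin t × Fin 2) : (sw a).1 = a.1 := rfl

theorem sw_mk_zero (i : Fin t) : sw ((i, 0) : Fin t × Fin 2) = (i, 1) := rfl

theorem sw_mk_one (i : Fin t) : sw ((i, 1) : Fin t × Fin 2) = (i, 0) := rfl

theorem sw_inj {a b : Fin t × Fin 2} (h : sw a = sw b) : a = b := by
  rw [← sw_sw a, h, sw_sw]

theorem eq_or_eq_sw (a b : Fin t × Fin 2) (h : a.1 = b.1) : b = a ∨ b = sw a := by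
  rcases eq_or_sj a.2 b.2 with h2 | h2
  · left; exact Prod.ext h.symm h2
  · right; exact Prod.ext h.symm h2

variable (F t) in
/-- Gram matrix of the block symplectic form -/
def GS : Matrix (Fin t × Fin 2) (Fin t × Fin 2) F :=
  Matrix.of fun a b => if b = sw a then 1 else 0

theorem GS_apply (a b : Fin t × Fin 2) : GS F t a b = if b = sw a then 1 else 0 := rfl

theorem GS_mul (N : Matrix (Fin t × Fin 2) (Fin t × Fin 2) F) (a c : Fin t × Fin 2) :
    (GS F t * N) a c = N (sw a) c := by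
  rw [Matrix.mul_apply, Finset.sum_eq_single (sw a)]
  · rw [GS_apply, if_pos rfl, one_mul]
  · intro b _ hb; rw [GS_apply, if_neg hb, zero_mul]
  · intro h; exact absurd (Finset.mem_univ _) h

theorem GS_mulVec (v : Fin t × Fin 2 → F) (a : Fin t × Fin 2) : (GS F t *ᵥ v) a = v (sw a) := by
  simp only [Matrix.mulVec, dotProduct]
  rw [Finset.sum_eq_single (sw a)]
  · rw [GS_apply, if_pos rfl, one_mul]
  · intro b _ hb; rw [GS_apply, if_neg hb, zero_mul]
  · intro h; exact absurd (Finset.mem_univ _) h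

theorem GS_symm : (GS F t)ᵀ = (GS F t).map (RingHom.id F) := by
  ext a b
  rw [Matrix.transpose_apply, Matrix.map_apply, RingHom.id_apply, GS_apply, GS_apply]
  by_cases h : b = sw a
  · rw [if_pos h, if_pos (by rw [h, sw_sw])]
  · rw [if_neg h, if_neg (fun h' => h (by rw [h', sw_sw]))]

theorem gram_entry (M : Matrix (Fin t × Fin 2) (Fin t × Fin 2) F) (a' b' : Fin t × Fin 2) :
    (Mᵀ * GS F t * M.map (RingHom.id F)) a' b' = ∑ a, M a a' * M (sw a) b' := by
  have hmap : M.map (RingHom.id F) = M := by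
    ext a b; rw [Matrix.map_apply, RingHom.id_apply]
  rw [hmap, Matrix.mul_assoc, Matrix.mul_apply]
  apply Finset.sum_congr rfl
  intro a _
  rw [Matrix.transpose_apply, GS_mul]

theorem blockmono_mem [Fintype F] (hq : Fintype.card F = 2) (M : GL (Fin t × Fin 2) F)
    (hM : M ∈ decompositionStabilizer (blk (F := F) (Prod.fst : Fin t × Fin 2 → Fin t))) :
    M ∈ KG (RingHom.id F) (GS F t) := by
  rw [mem_KG]
  obtain ⟨π, hπ⟩ := exists_perm_of_mem_decStab _ M hM
  have h2 : (2 : F) = 0 := by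
    rw [← one_add_one_eq_two]; exact Cfsg.Agent.S5638.two_eq_zero hq
  obtain ⟨A, hA⟩ : ∃ A : Matrix (Fin t × Fin 2) (Fin t × Fin 2) F,
      A = (M : Matrix (Fin t × Fin 2) (Fin t × Fin 2) F) := ⟨_, rfl⟩
  obtain ⟨B, hB⟩ : ∃ B : Matrix (Fin t × Fin 2) (Fin t × Fin 2) F,
      B = ((M⁻¹ : GL (Fin t × Fin 2) F) : Matrix (Fin t × Fin 2) (Fin t × Fin 2) F) := ⟨_, rfl⟩
  have hBA : B * A = 1 := by rw [hA, hB, ← Units.val_mul, inv_mul_cancel, Units.val_one]
  have hπA : ∀ a a' : Fin t × Fin 2, a.1 ≠ π a'.1 → A a a' = 0 := by rw [hA]; exact hπ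
  rw [← hA]
  have hcolsum : ∀ (f : Fin t × Fin 2 → F) (c : Fin t × Fin 2),
      ∑ a, f a * A a c = f (π c.1, 0) * A (π c.1, 0) c + f (π c.1, 1) * A (π c.1, 1) c := by
    intro f c
    rw [Fintype.sum_prod_type, Finset.sum_eq_single (π c.1)]
    · rw [Fin.sum_univ_two]
    · intro i _ hi
      apply Finset.sum_eq_zero
      intro j _
      rw [hπA (i, j) c hi, mul_zero]
    · intro h; exact absurd (Finset.mem_univ _) h
  ext a' b'
  rw [gram_entry, GS_apply]
  by_cases h1 : a'.1 = b'.1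
  · rcases eq_or_eq_sw a' b' h1 with hb | hb
    · rw [if_neg (by rw [hb]; exact fun h => sw_ne a' h.symm)]
      rw [hb, Fintype.sum_prod_type]
      apply Finset.sum_eq_zero
      intro i _
      rw [Fin.sum_univ_two, sw_mk_zero, sw_mk_one]
      linear_combination (A (i, 0) a' * A (i, 1) a') * h2
    · rw [if_pos hb, hb]
      have hS : ∑ a, A a a' * A (sw a) (sw a')
          = A (π a'.1, 0) a' * A (π a'.1, 1) (sw a') + A (π a'.1, 1) a' * A (π a'.1, 0) (sw a') := by
        rw [Fintype.sum_prod_type, Finset.sum_eq_single (π a'.1)]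
        · rw [Fin.sum_univ_two, sw_mk_zero, sw_mk_one]
        · intro i _ hi
          apply Finset.sum_eq_zero
          intro j _
          rw [hπA (i, j) a' hi, zero_mul]
        · intro h; exact absurd (Finset.mem_univ _) h
      rw [hS]
      have k1 := congrFun (congrFun hBA a') a'
      have k2 := congrFun (congrFun hBA a') (sw a')
      have k3 := congrFun (congrFun hBA (sw a')) (sw a')
      rw [Matrix.mul_apply, hcolsum, Matrix.one_apply_eq] at k1 k3
      rw [Matrix.mul_apply, hcolsum, Matrix.one_apply_ne (sw_ne a').symm] at k2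
      simp only [sw_fst] at k2 k3
      obtain ⟨p, hp⟩ : ∃ p, p = A (π a'.1, 0) a' := ⟨_, rfl⟩
      obtain ⟨r, hr⟩ : ∃ r, r = A (π a'.1, 1) a' := ⟨_, rfl⟩
      obtain ⟨q, hq'⟩ : ∃ q, q = A (π a'.1, 0) (sw a') := ⟨_, rfl⟩
      obtain ⟨s, hs⟩ : ∃ s, s = A (π a'.1, 1) (sw a') := ⟨_, rfl⟩
      rw [← hp, ← hr] at k1
      rw [← hq', ← hs] at k2 k3
      rw [← hp, ← hr, ← hq', ← hs]
      rcases Cfsg.Agent.S5638.F2_cases hq (p * s + r * q) with h0 | h1'
      · exfalso
        have hdet : p * s - r * q = 0 := by linear_combination h0 - (r * q) * h2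
        have hq0 : q = 0 := by
          linear_combination (-q) * k1 + p * k2 - B a' (π a'.1, 1) * hdet
        have hs0 : s = 0 := by
          linear_combination (-s) * k1 + r * k2 + B a' (π a'.1, 0) * hdet
        rw [hq0, hs0, mul_zero, mul_zero, add_zero] at k3
        exact zero_ne_one k3
      · exact h1'
  · rw [if_neg (fun h => h1 (by rw [h]; rfl))]
    apply Finset.sum_eq_zero
    intro a _
    by_cases h3 : a.1 = π a'.1
    · have h4 : (sw a).1 ≠ π b'.1 := by
        rw [sw_fst, h3]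
        intro h; exact h1 (π.injective h)
      rw [hπA (sw a) b' h4, mul_zero]
    · rw [hπA a a' h3, zero_mul]

theorem exists_witness_one' [Fintype F] (hq : Fintype.card F = 2) (i₁ i₂ : Fin t) (h12 : i₁ ≠ i₂) :
    ∃ M₁ : GL (Fin t × Fin 2) F, M₁ ∈ KG (RingHom.id F) (GS F t) ∧
      (M₁ : Matrix (Fin t × Fin 2) (Fin t × Fin 2) F).det = 1 ∧
      M₁ ∉ decompositionStabilizer (blk (F := F) (Prod.fst : Fin t × Fin 2 → Fin t)) := by
  have h2 : (2 : F) = 0 := by
    rw [← one_add_one_eq_two]; exact Cfsg.Agent.S5638.two_eq_zero hq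
  obtain ⟨u, hu⟩ : ∃ u : Fin t × Fin 2 → F,
      u = fun a => if a.2 = 0 ∧ (a.1 = i₁ ∨ a.1 = i₂) then 1 else 0 := ⟨_, rfl⟩
  have hσu : ⇑(RingHom.id F) ∘ u = u := by funext a; rfl
  have hiso : u ⬝ᵥ (GS F t *ᵥ (⇑(RingHom.id F) ∘ u)) = 0 := by
    rw [hσu]
    simp only [dotProduct]
    apply Finset.sum_eq_zero
    intro a _
    rw [GS_mulVec, hu]
    by_cases ha : a.2 = 0
    · have h3 : (sw a).2 ≠ 0 := by
        show sj a.2 ≠ 0
        rw [ha]; decide
      simp [h3]
    · simp [ha]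
  refine ⟨htv (RingHom.id F) h2 (GS F t) u hiso, ?_, ?_, ?_⟩
  · rw [mem_KG, htv_val]
    exact HT_preserve (RingHom.id F) (fun x => rfl) h2 (GS F t) GS_symm u hiso
  · rw [htv_val]; exact HT_det (RingHom.id F) h2 (GS F t) u hiso
  · intro hmem
    obtain ⟨k, hk⟩ := exists_col_of_mem_decStab _ _ hmem ((i₁, 1) : Fin t × Fin 2)
    have hent : ∀ i : Fin t, (i = i₁ ∨ i = i₂) →
        HT (RingHom.id F) (GS F t) u (i, 0) (i₁, 1) = 1 := by
      intro i hi
      have hne : ((i, 0) : Fin t × Fin 2) ≠ (i₁, 1) := by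
        intro h
        have := congrArg Prod.snd h
        simp at this
      rw [HT_apply, hσu, GS_mulVec, Matrix.one_apply_ne hne, sw_mk_one, hu]
      simp [hi]
    have k1 : i₁ = k := by
      by_contra h
      have := hk (i₁, 0) h
      rw [htv_val, hent i₁ (Or.inl rfl)] at this
      exact one_ne_zero this
    have k2 : i₂ = k := by
      by_contra h
      have := hk (i₂, 0) h
      rw [htv_val, hent i₂ (Or.inr rfl)] at this
      exact one_ne_zero this
    exact h12 (k1.trans k2.symm)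

theorem exists_witness_two' (i₁ i₂ : Fin t) (h12 : i₁ ≠ i₂) :
    ∃ M₂ : GL (Fin t × Fin 2) F,
      (M₂ : Matrix (Fin t × Fin 2) (Fin t × Fin 2) F).det = 1 ∧
      M₂ ∉ KG (RingHom.id F) (GS F t) := by
  obtain ⟨c₁, hc₁⟩ : ∃ c₁ : Fin t × Fin 2, c₁ = (i₁, 0) := ⟨_, rfl⟩
  obtain ⟨c₂, hc₂⟩ : ∃ c₂ : Fin t × Fin 2, c₂ = (i₂, 0) := ⟨_, rfl⟩
  have hc : c₁ ≠ c₂ := by
    rw [hc₁, hc₂]; intro h; exact h12 (congrArg Prod.fst h)
  obtain ⟨g, hg⟩ := exists_tv (F := F) c₁ c₂ hc
  refine ⟨g, by rw [hg]; exact Matrix.det_transvection_of_ne c₁ c₂ hc 1, ?_⟩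
  intro hmem
  rw [mem_KG, hg] at hmem
  have h1 := congrFun (congrFun hmem c₂) (sw c₁)
  rw [gram_entry, GS_apply] at h1
  have hne : sw c₁ ≠ sw c₂ := fun h => hc (sw_inj h)
  rw [if_neg hne] at h1
  have hsum : ∑ a, Matrix.transvection c₁ c₂ (1 : F) a c₂ *
      Matrix.transvection c₁ c₂ (1 : F) (sw a) (sw c₁) = 1 := by
    rw [Finset.sum_eq_single c₁]
    · rw [tv_apply, tv_apply]
      simp [hc, (sw_ne c₁).symm]
    · intro a _ ha
      have h3 : sw a ≠ sw c₁ := fun h => ha (sw_inj h)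
      have h4 : c₂ ≠ sw c₁ := by
        rw [hc₁, hc₂]; intro h; exact h12 (congrArg Prod.fst h).symm
      rw [tv_apply c₁ c₂ (sw a) (sw c₁)]
      simp [h3, h4]
    · intro h; exact absurd (Finset.mem_univ _) h
  rw [hsum] at h1
  exact one_ne_zero h1

theorem case_two [Fintype F] (n : ℕ) {t : ℕ} (D : Fin t → Submodule F (Fin n → F))
    (hD : IsMDecomposition 2 D) (hF : Fintype.card F = 2) :
    ∃ K : Subgroup (GL (Fin n) F),
      decompositionStabilizer D ⊓ specialLinear (Fin n) F < K ∧ K < specialLinear (Fin n) F := by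
  obtain ⟨e, P, hcoords⟩ := exists_coords_of_decomposition D hD
  have ht : 2 ≤ t := hD.two_le
  obtain ⟨i₁, hi₁⟩ : ∃ i : Fin t, i = ⟨0, by omega⟩ := ⟨_, rfl⟩
  obtain ⟨i₂, hi₂⟩ : ∃ i : Fin t, i = ⟨1, by omega⟩ := ⟨_, rfl⟩
  have h12 : i₁ ≠ i₂ := by
    rw [hi₁, hi₂]; intro h; have := congrArg Fin.val h; simp at this
  obtain ⟨M₁, h1K, h1d, h1n⟩ := exists_witness_one' hF i₁ i₂ h12
  obtain ⟨M₂, h2d, h2n⟩ := exists_witness_two' (F := F) i₁ i₂ h12
  exact sandwich e P D Prod.fst hcoords (KG (RingHom.id F) (GS F t))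
    (fun M hM => blockmono_mem hF M hM) M₁ h1K h1d h1n M₂ h2d h2n

end mtwo

/-- For a finite field F with q elements and n ≥ 13, let D be a decomposition of F^n into t ≥ 2 independent subspaces of equal dimension m spanning F^n, where m = 1 and q ≤ 4, or m = 2 and q = 2. Then the elements of SL_n(F) permuting the members of D form a subgroup that is not maximal: some subgroup lies strictly between it and SL_n(F). -/
theorem result {F : Type*} [Field F] [Fintype F] (n : ℕ) (hn : 13 ≤ n) {t : ℕ} (m : ℕ) (D : Fin t → Submodule F (Fin n → F)) (hD : Cfsg.Geo.IsMDecomposition m D) (h : (m = 1 ∧ Fintype.card F ≤ 4) ∨ (m = 2 ∧ Fintype.card F = 2)) : ∃ K : Subgroup (Matrix.GeneralLinearGroup (Fin n) F), Cfsg.Geo.decompositionStabilizer D ⊓ Cfsg.Geo.specialLinear (Fin n) F < K ∧ K < Cfsg.Geo.specialLinear (Fin n) F := by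
  rcases h with ⟨rfl, hF⟩ | ⟨rfl, hF⟩
  · exact case_one n hn D hD hF
  · exact case_two n D hD hF

end Cfsg.Agent.S5635
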