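import Cfsg.Statements.S5643
import Cfsg.Agent.Lib.Helper13.GUMax4

set_option autoImplicit false
open Cfsg

namespace Cfsg.Agent.S5643

/-- For a finite field F and n ≥ 13, let σ be a field automorphism of F of order two and f a non-degenerate unitary form on F^n with respect to σ. Then the elements of SL_n(F) that are similarities of f form a maximal subgroup of SL_n(F). -/
theorem result {F : Type*} [Field F] [Fintype F] (n : ℕ) (hn : 13 ≤ n) (σ : F ≃+* F) (f : (Fin n → F) → (Fin n → F) → F) (hf : Cfsg.Geo.IsUnitaryForm σ f) : Cfsg.Geo.IsMaximalIn (Cfsg.Geo.specialLinear (Fin n) F) (Cfsg.Geo.similarityGroup f ⊓ Cfsg.Geo.specialLinear (Fin n) F) := by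
  have hadd_r : ∀ (m n₁ n₂ : Fin n → F), f m (n₁ + n₂) = f m n₁ + f m n₂ := by
    intro m n₁ n₂
    rw [hf.herm m (n₁ + n₂), hf.add_left, map_add, ← hf.herm, ← hf.herm]
  have hsmul_r : ∀ (c : F) (m n' : Fin n → F), f m (c • n') = (σ : F →+* F) c • f m n' := by
    intro c m n'
    rw [hf.herm m (c • n'), hf.smul_left, map_mul, ← hf.herm]
    rfl
  have hU : Cfsg.Agent.Lib.Helper13.IsU (σ : F →+* F)
      (LinearMap.mk₂'ₛₗ (RingHom.id F) (σ : F →+* F) f hf.add_left
        (fun c x v => hf.smul_left c x v) hadd_r hsmul_r) :=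
    { ne_id := by
        intro h0
        apply hf.ne_refl
        ext a
        have := congrArg (fun φ : F →+* F => φ a) h0
        simpa using this
      inv := fun a => hf.involutive a
      herm := fun v w => hf.herm v w
      nd := fun v hv => (hf.nondegenerate v hv).1 }
  have h := Cfsg.Agent.Lib.Helper13.gu_maximal hU (by omega)
  exact h

end Cfsg.Agent.S5643
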