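import Cfsg.Statements.S5644
import Cfsg.Agent.Lib.Helper13.GOMax

set_option autoImplicit false
open Cfsg

namespace Cfsg.Agent.S5644

/-- For a finite field F of odd order and n ≥ 13, let Q be a non-degenerate quadratic form on F^n (its polar form is non-degenerate). Then the elements of SL_n(F) that are similarities of Q (Q(gv) = c Q(v) for a non-zero scalar c depending on g) form a maximal subgroup of SL_n(F). -/
theorem result {F : Type*} [Field F] [Fintype F] (n : ℕ) (hn : 13 ≤ n) (hodd : Odd (Fintype.card F)) (Q : (Fin n → F) → F) (hQ : Cfsg.Geo.IsNondegenerateQuadraticForm Q) : Cfsg.Geo.IsMaximalIn (Cfsg.Geo.specialLinear (Fin n) F) (Cfsg.Geo.quadSimilarityGroup Q ⊓ Cfsg.Geo.specialLinear (Fin n) F) := by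
  have h2 : (2 : F) ≠ 0 := by
    intro h
    have h2 : ((2 : ℕ) : F) = 0 := by exact_mod_cast h
    obtain ⟨p, hp⟩ := CharP.exists F
    have hprime : p.Prime := CharP.char_is_prime F p
    have hdvd : p ∣ 2 := (CharP.cast_eq_zero_iff F p 2).mp h2
    have hp2 : p = 2 := (Nat.prime_dvd_prime_iff_eq hprime Nat.prime_two).mp hdvd
    subst hp2
    have h3 : ((Fintype.card F : ℕ) : F) = 0 := FiniteField.cast_card_eq_zero F
    have h4 : 2 ∣ Fintype.card F := (CharP.cast_eq_zero_iff F 2 _).mp h3
    exact (Nat.not_even_iff_odd.mpr hodd) (even_iff_two_dvd.mpr h4)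
  have hb := hQ.polar_bilinear
  obtain ⟨B, hB⟩ : ∃ B : (Fin n → F) →ₗ[F] (Fin n → F) →ₗ[F] F,
      ∀ x y, B x y = QuadraticMap.polar Q x y :=
    ⟨LinearMap.mk₂ F (QuadraticMap.polar Q) hb.add_left (fun c x v => hb.smul_left c x v)
      hb.add_right (fun c v x => hb.smul_right c v x), fun x y => rfl⟩
  have hS : Cfsg.Agent.Lib.Helper13.IsS B := by
    refine ⟨h2, fun v w => ?_, fun v hv => ?_⟩
    · rw [hB, hB, QuadraticMap.polar_comm]
    · obtain ⟨x, hx⟩ := (hQ.nondegenerate v hv).1
      exact ⟨x, by rw [hB]; exact hx⟩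
  have hself : ∀ v, B v v = 2 * Q v := by
    intro v
    rw [hB]
    unfold QuadraticMap.polar
    have e : v + v = (2 : F) • v := by rw [two_smul]
    rw [e, hQ.smul]
    ring
  have heq : Cfsg.Geo.quadSimilarityGroup Q =
      Cfsg.Geo.similarityGroup (fun x y : Fin n → F => B x y) := by
    ext g
    constructor
    · rintro ⟨c, hc⟩
      refine ⟨c, fun u v => ?_⟩
      change B _ _ = (c : F) * B u v
      rw [hB, hB]
      unfold QuadraticMap.polar
      rw [← Matrix.mulVec_add, hc, hc, hc]
      ring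
    · rintro ⟨c, hc⟩
      refine ⟨c, fun v => ?_⟩
      have h1 := hc v v
      change B _ _ = (c : F) * B v v at h1
      rw [hself, hself] at h1
      have h3 : 2 * Q ((g : Matrix (Fin n) (Fin n) F).mulVec v) = 2 * ((c : F) * Q v) := by
        rw [h1]
        ring
      exact mul_left_cancel₀ h2 h3
  rw [heq]
  exact Cfsg.Agent.Lib.Helper13.go_maximal hS (by omega)

end Cfsg.Agent.S5644
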