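import Cfsg.Statements.S5664
import Cfsg.Agent.Lib.Helper7.SpExtMain
import Cfsg.Agent.Lib.Helper10.S5664FOBR2
import Cfsg.Agent.Lib.Helper12.S5664FOBR1
import Cfsg.Agent.Lib.Helper12.S5664FOBR3
import Cfsg.Agent.Lib.Helper13.SpMax
import Cfsg.Agent.Lib.Helper15.SympOrder

set_option autoImplicit false
open Cfsg

namespace Cfsg.Agent.S5664

open Matrix Module Cfsg.Agent.Lib.Helper7.SpExt

/-- For a finite field F and m ≥ 7, let K be a subfield of the algebra of 2m × 2m matrices over F containing the scalars, of prime degree r over F, whose elements k are self-adjoint for the standard alternating form f on F^(2m) (f(k u, v) = f(u, k v)) and satisfy f(k v, v) = 0 for all v. Then the elements of Sp_2m(F) normalising K form a maximal subgroup of Sp_2m(F). -/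
theorem result {F : Type*} [Field F] [Fintype F] (m : ℕ) (hm : 7 ≤ m) (r : ℕ) (hr : r.Prime) (K : Subalgebra F (Matrix (Fin m ⊕ Fin m) (Fin m ⊕ Fin m) F)) (hK : Cfsg.Geo.IsFieldSubalgebra r K) (hsa : Cfsg.Geo.IsSelfAdjointFor (Cfsg.sympForm m F) K) (halt : ∀ k ∈ K, ∀ v : (Fin m ⊕ Fin m → F), Cfsg.sympForm m F (Matrix.mulVec k v) v = 0) : Cfsg.Geo.IsMaximalIn (Cfsg.spGL m F) (Cfsg.Geo.subalgebraNormalizer K ⊓ Cfsg.spGL m F) := by
  classical
  have hne0 : Nonempty (Fin m ⊕ Fin m) := ⟨Sum.inl ⟨0, by omega⟩⟩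
  let _inst : Field ↥K := fieldOf K hK
  have hrk : finrank F ↥K = r := hK.finrank_eq
  set ff := Cfsg.Agent.Lib.Helper15.stdSymp m F with hff
  have hcard : Fintype.card (Fin m ⊕ Fin m) = 2 * m := by
    rw [Fintype.card_sum, Fintype.card_fin]; ring
  have hnd : ∀ v, v ≠ 0 → ∃ w, ff v w ≠ 0 := by
    intro v hv
    by_contra hcon
    push Not at hcon
    exact hv (Cfsg.Agent.Lib.Helper15.stdSymp_nondeg v hcon)
  obtain ⟨τ, B, S⟩ := Cfsg.Agent.Lib.Helper10.S5664FOBR2.exists_spstr (K.val) hrk hr.pos ff hnd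
    (fun a v w => hsa a a.2 v w) (fun a v => halt a a.2 v)
  -- the isometry group is spGL
  have hisom : isom ff = Cfsg.spGL m F := by
    ext g
    rfl
  have hSpLN : SpL K.val B ≤ Cfsg.Geo.subalgebraNormalizer K ⊓ Cfsg.spGL m F := by
    intro g hg
    refine Subgroup.mem_inf.2 ⟨?_, ?_⟩
    · rw [Cfsg.Agent.Lib.Helper12.S5664FOBR1.mem_normalizer_iff K hK]
      intro a
      refine ⟨a, ?_⟩
      apply Matrix.toLin'.injective
      apply LinearMap.ext
      intro v
      rw [Matrix.toLin'_apply, Matrix.toLin'_apply, ← Matrix.mulVec_mulVec, ← Matrix.mulVec_mulVec]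
      exact hg.1 a v
    · rw [← hisom]
      exact SpL_le_isom S hg
  -- the key step
  have key : ∀ M : Subgroup (GL (Fin m ⊕ Fin m) F),
      Cfsg.Geo.subalgebraNormalizer K ⊓ Cfsg.spGL m F ≤ M → M ≤ Cfsg.spGL m F →
      ¬ M ≤ Cfsg.Geo.subalgebraNormalizer K → Cfsg.spGL m F ≤ M := by
    intro M hle hMS hnot
    obtain ⟨g, hgM, hgN⟩ := SetLike.not_le_iff_exists.mp hnot
    have hnn : ¬ Normalizes K.val g := fun h => hgN ((Cfsg.Agent.Lib.Helper12.S5664FOBR1.mem_normalizer_iff K hK g).2 h)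
    have hall := Cfsg.Agent.Lib.Helper7.SpExtMain.main S hr hrk (by omega) M (hSpLN.trans hle) (by rw [hisom]; exact hMS) g hgM hnn
    apply Cfsg.Agent.Lib.Helper13.spGL_le_of_transvections
    intro a c
    apply hall a c
    intro v
    exact Cfsg.Agent.Lib.Helper13.sympTransvGL_mulVec a c v
  -- a transvection not in the normaliser
  obtain ⟨u, hu⟩ : ∃ u : Fin m ⊕ Fin m → F, u ≠ 0 := by
    refine ⟨Pi.single (Sum.inl ⟨0, by omega⟩) 1, ?_⟩
    intro h
    have := congrFun h (Sum.inl ⟨0, by omega⟩)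
    simp at this
  have htN : Cfsg.Agent.Lib.Helper13.sympTransvGL u 1 ∉ Cfsg.Geo.subalgebraNormalizer K := by
    intro h
    rw [Cfsg.Agent.Lib.Helper12.S5664FOBR1.mem_normalizer_iff K hK] at h
    exact Cfsg.Agent.Lib.Helper12.S5664FOBR3.tv_not_normalizes S hrk hr.two_le (by omega) u hu 1 one_ne_zero _
      (fun v => Cfsg.Agent.Lib.Helper13.sympTransvGL_mulVec u 1 v) h
  refine ⟨?_, ?_⟩
  · refine lt_of_le_of_ne inf_le_right ?_
    intro h
    have : Cfsg.Agent.Lib.Helper13.sympTransvGL u 1 ∈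
        Cfsg.Geo.subalgebraNormalizer K ⊓ Cfsg.spGL m F := by
      rw [h]
      exact Cfsg.Agent.Lib.Helper13.sympTransvGL_mem u 1
    exact htN this.1
  · intro M hle hMS
    by_cases hMN : M ≤ Cfsg.Geo.subalgebraNormalizer K
    · left
      exact le_antisymm (le_inf hMN hMS) hle
    · right
      exact le_antisymm hMS (key M hle hMS hMN)


end Cfsg.Agent.S5664
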