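import Cfsg.Statements.S5667
import Cfsg.Agent.Lib.Helper13.TensorF3
import Cfsg.Agent.Lib.Helper13.TensorSkew

set_option autoImplicit false
open Cfsg

namespace Cfsg.Agent.S5667

open scoped Matrix Kronecker
open Cfsg.Geo Cfsg.Agent.Lib.Helper13.TNM

theorem result {F : Type*} [Field F] [Fintype F] (m : ℕ) (hm : 7 ≤ m) (hq : Fintype.card F = 3) (n₁ : ℕ) (e : (Fin m ⊕ Fin m) ≃ Fin n₁ × Fin 3) (P : Matrix.GeneralLinearGroup (Fin m ⊕ Fin m) F) (f₁ : (Fin n₁ → F) → (Fin n₁ → F) → F) (f₂ : (Fin 3 → F) → (Fin 3 → F) → F) (hf₁ : Cfsg.Geo.IsSymplecticForm f₁) (hf₂ : Cfsg.Geo.IsSymmetricForm f₂) (hT : Cfsg.Geo.IsTensorFormStructure id (Cfsg.sympForm m F) f₁ f₂ e P) : ∃ K : Subgroup (Matrix.GeneralLinearGroup (Fin m ⊕ Fin m) F), Cfsg.Geo.tensorProductSubgroup n₁ 3 e P ⊓ Cfsg.spGL m F < K ∧ K < Cfsg.spGL m F := by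
  classical
  obtain ⟨c, hc, hT⟩ := hT
  obtain ⟨G₁, hG₁⟩ : ∃ G₁ : Matrix (Fin n₁) (Fin n₁) F, G₁ = gramMatrix f₁ := ⟨_, rfl⟩
  obtain ⟨G₂, hG₂⟩ : ∃ G₂ : Matrix (Fin 3) (Fin 3) F, G₂ = gramMatrix f₂ := ⟨_, rfl⟩
  rw [← hG₁, ← hG₂] at hT
  have h2 : (2 : F) ≠ 0 := F3_two_ne hq
  have hn₁ : 0 < n₁ := by
    have := Fintype.card_congr e
    simp at this
    omega
  -- facts on G₁
  have hG₁skew : ∀ i j, G₁ j i = - G₁ i j := by
    intro i j
    rw [hG₁]
    exact hf₁.skew _ _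
  have hG₁diag : ∀ i, G₁ i i = 0 := by
    intro i
    rw [hG₁]
    exact hf₁.alternating _
  obtain ⟨j₀, i₀, hji⟩ : ∃ j₀ i₀, G₁ j₀ i₀ ≠ 0 := by
    by_contra hcon
    push Not at hcon
    have hz : G₁ = 0 := by ext i j; exact hcon i j
    have hv : (Pi.single (⟨0, hn₁⟩ : Fin n₁) 1 : Fin n₁ → F) ≠ 0 := by
      intro h
      have := congrFun h ⟨0, hn₁⟩
      simp at this
    obtain ⟨x, hx⟩ := (hf₁.nondegenerate _ hv).1
    apply hx
    rw [bilin_eq_formOfGram hf₁.bilinear, ← hG₁, hz]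
    unfold formOfGram
    simp
  have hne : j₀ ≠ i₀ := by
    rintro rfl
    exact hji (hG₁diag _)
  -- normalise G₂
  obtain ⟨C₂, ε, hε, hC₂⟩ := exists_orthonormal_F3 hq hf₂
  rw [← hG₂] at hC₂
  obtain ⟨C, hCdef⟩ : ∃ C : GL (Fin n₁ × Fin 3) F, C = kronGL 1 C₂ := ⟨_, rfl⟩
  obtain ⟨P', hP'⟩ : ∃ P' : GL (Fin m ⊕ Fin m) F, P' = P * glReindex e.symm C := ⟨_, rfl⟩
  have htps : tensorProductSubgroup n₁ 3 e P = (kroneckerSubgroup n₁ 3 F).map (psi e P') := by
    rw [← tps_eq, hP', tps_change _ _ _ _ _ (hCdef ▸ kronGL_mem 1 C₂)]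
  obtain ⟨G, hG⟩ : ∃ G : Matrix (Fin n₁ × Fin 3) (Fin n₁ × Fin 3) F,
      G = G₁ ⊗ₖ (1 : Matrix (Fin 3) (Fin 3) F) := ⟨_, rfl⟩
  have hGapp : ∀ a b : Fin n₁ × Fin 3, G a b = G₁ a.1 b.1 * (1 : Matrix (Fin 3) (Fin 3) F) a.2 b.2 := by
    intro a b
    rw [hG]
    rfl
  have hT' : ∀ x y, sympForm m F (TT e P' x) (TT e P' y) = (c * ε) * formOfGram id G x y := by
    intro x y
    rw [hP', TT_change, TT_change]
    have h1 := hT ((C : Matrix _ _ F) *ᵥ x) ((C : Matrix _ _ F) *ᵥ y)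
    have hmat : (C : Matrix (Fin n₁ × Fin 3) (Fin n₁ × Fin 3) F)ᵀ * (G₁ ⊗ₖ G₂) *
        (C : Matrix (Fin n₁ × Fin 3) (Fin n₁ × Fin 3) F).map id = ε • G := by
      rw [hCdef, kronGL_val, Matrix.map_id, Units.val_one, ← Matrix.kroneckerMap_transpose,
        Matrix.transpose_one, ← Matrix.mul_kronecker_mul, ← Matrix.mul_kronecker_mul, one_mul, mul_one, hC₂,
        Matrix.kronecker_smul, hG]
    have h3 : sympForm m F (TT e P ((C : Matrix _ _ F) *ᵥ x)) (TT e P ((C : Matrix _ _ F) *ᵥ y))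
        = c * formOfGram id (G₁ ⊗ₖ G₂) ((C : Matrix _ _ F) *ᵥ x) ((C : Matrix _ _ F) *ᵥ y) := h1
    rw [h3, formOfGram_mulVec id rfl (fun _ _ => rfl) (fun _ _ => rfl), hmat, formOfGram_smul]
    ring
  have hGskew : Gᵀ = -G := by
    ext a b
    rw [Matrix.transpose_apply, Matrix.neg_apply, hGapp, hGapp, hG₁skew a.1 b.1, Matrix.one_apply,
      Matrix.one_apply]
    by_cases h : a.2 = b.2
    · rw [if_pos h, if_pos h.symm]; ring
    · rw [if_neg h, if_neg (Ne.symm h)]; ring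
  -- membership in the symplectic group
  have hSp : ∀ M : GL (Fin n₁ × Fin 3) F, psi e P' M ∈ spGL m F ↔
      (M : Matrix _ _ F)ᵀ * G * (M : Matrix _ _ F) = G := by
    intro M
    have h1 := psi_mem_preserving_iff e P' (f := sympForm m F) (φ := formOfGram id G)
      (mul_ne_zero hc hε) hT' M
    have h3 := preserves_iff (id : F → F) rfl rfl (fun _ _ => rfl) (fun _ _ => rfl) G (M : Matrix _ _ F)
    rw [Matrix.map_id] at h3
    exact h1.trans h3
  obtain ⟨K₀, hK₀⟩ : ∃ K₀ : Subgroup (GL (Fin n₁ × Fin 3) F),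
      K₀ = decompositionStabilizer (blk (F := F) (Prod.snd : Fin n₁ × Fin 3 → Fin 3)) := ⟨_, rfl⟩
  have hinj := psi_injective (F := F) e P'
  -- witnesses
  obtain ⟨u₁, hu₁⟩ : ∃ u₁ : Fin n₁ × Fin 3 → F, u₁ = Pi.single (i₀, 0) 1 := ⟨_, rfl⟩
  obtain ⟨u₂, hu₂⟩ : ∃ u₂ : Fin n₁ × Fin 3 → F, u₂ = Pi.single (i₀, 0) 1 + Pi.single (i₀, 1) 1 := ⟨_, rfl⟩
  have hGu₁ : ∀ a', (G *ᵥ u₁) a' = G₁ a'.1 i₀ * (1 : Matrix (Fin 3) (Fin 3) F) a'.2 0 := by
    intro a'
    rw [hu₁, mulVec_single_one', hGapp]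
  have hGu₂ : ∀ a', (G *ᵥ u₂) a' = G₁ a'.1 i₀ * (1 : Matrix (Fin 3) (Fin 3) F) a'.2 0
      + G₁ a'.1 i₀ * (1 : Matrix (Fin 3) (Fin 3) F) a'.2 1 := by
    intro a'
    rw [hu₂, Matrix.mulVec_add, Pi.add_apply, mulVec_single_one', mulVec_single_one', hGapp, hGapp]
  obtain ⟨M₁, hM₁⟩ : ∃ M₁ : GL (Fin n₁ × Fin 3) F, M₁ = tvG G u₁ (skew_self G hGskew h2 u₁) := ⟨_, rfl⟩
  obtain ⟨M₂, hM₂⟩ : ∃ M₂ : GL (Fin n₁ × Fin 3) F, M₂ = tvG G u₂ (skew_self G hGskew h2 u₂) := ⟨_, rfl⟩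
  have hM₁sp : psi e P' M₁ ∈ spGL m F := by
    rw [hSp, hM₁, tvG_val]
    exact NN_preserve G hGskew u₁ (skew_self G hGskew h2 u₁)
  have hM₂sp : psi e P' M₂ ∈ spGL m F := by
    rw [hSp, hM₂, tvG_val]
    exact NN_preserve G hGskew u₂ (skew_self G hGskew h2 u₂)
  have hM₁K : M₁ ∈ K₀ := by
    rw [hK₀]
    apply mem_decStab_of_blockMonomial _ _ (Equiv.refl _)
    · intro a a' h
      rw [Equiv.refl_apply] at h
      have hne' : a ≠ a' := fun h' => h (by rw [h'])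
      rw [hM₁, tvG_apply, Matrix.one_apply_ne hne', zero_add, hGu₁, hu₁]
      by_cases ha : a = (i₀, 0)
      · have : a'.2 ≠ 0 := by
          intro h0
          apply h
          rw [ha, h0]
        rw [Matrix.one_apply_ne this, mul_zero, mul_zero]
      · rw [Pi.single_apply, if_neg ha, zero_mul]
    · intro a a' h
      rw [Equiv.refl_symm, Equiv.refl_apply] at h
      have hne' : a ≠ a' := fun h' => h (by rw [h'])
      rw [hM₁, tvG_inv_apply, Matrix.one_apply_ne hne', zero_sub, hGu₁, hu₁, neg_eq_zero]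
      by_cases ha : a = (i₀, 0)
      · have : a'.2 ≠ 0 := by
          intro h0
          apply h
          rw [ha, h0]
        rw [Matrix.one_apply_ne this, mul_zero, mul_zero]
      · rw [Pi.single_apply, if_neg ha, zero_mul]
  have hM₁kron : M₁ ∉ kroneckerSubgroup n₁ 3 F := by
    rintro ⟨a, b, hab⟩
    have e1 := congrFun (congrFun hab (i₀, 1)) (i₀, 1)
    have e2 := congrFun (congrFun hab (i₀, 1)) (j₀, 1)
    have e3 := congrFun (congrFun hab (i₀, 0)) (j₀, 0)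
    rw [hM₁, tvG_apply, Matrix.kroneckerMap_apply] at e1 e2 e3
    have hs1 : u₁ (i₀, 1) = 0 := by
      rw [hu₁, Pi.single_apply, if_neg]
      intro h
      have := congrArg Prod.snd h
      simp at this
    have hs0 : u₁ (i₀, 0) = 1 := by
      rw [hu₁, Pi.single_apply, if_pos rfl]
    rw [hs1, zero_mul, add_zero, Matrix.one_apply_eq] at e1
    rw [hs1, zero_mul, add_zero, Matrix.one_apply_ne (by
      intro h; exact hne (congrArg Prod.fst h).symm)] at e2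
    rw [hs0, one_mul, hGu₁, Matrix.one_apply_ne (by
      intro h; exact hne (congrArg Prod.fst h).symm), zero_add, Matrix.one_apply_eq, mul_one] at e3
    have hb : (b : Matrix (Fin 3) (Fin 3) F) 1 1 ≠ 0 := by
      intro h0
      rw [h0, mul_zero] at e1
      exact one_ne_zero e1
    have ha : (a : Matrix (Fin n₁) (Fin n₁) F) i₀ j₀ = 0 := by
      rcases mul_eq_zero.mp e2.symm with h | h
      · exact h
      · exact absurd h hb
    rw [ha, zero_mul] at e3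
    exact hji e3
  have hM₂K : M₂ ∉ K₀ := by
    intro hmem
    rw [hK₀] at hmem
    obtain ⟨k, hk⟩ := exists_col_of_mem_decStab _ M₂ hmem (j₀, 0)
    have hs : u₂ (j₀, 0) = 0 := by
      rw [hu₂, Pi.add_apply, Pi.single_apply, Pi.single_apply, if_neg, if_neg, add_zero]
      · intro h; exact hne (congrArg Prod.fst h)
      · intro h; exact hne (congrArg Prod.fst h)
    have hs1 : u₂ (i₀, 1) = 1 := by
      rw [hu₂, Pi.add_apply, Pi.single_apply, Pi.single_apply, if_neg, if_pos rfl, zero_add]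
      intro h
      have := congrArg Prod.snd h
      simp at this
    have k0 : k = 0 := by
      by_contra hk0
      have := hk (j₀, 0) (fun h => hk0 h.symm)
      rw [hM₂, tvG_apply, hs, zero_mul, add_zero, Matrix.one_apply_eq] at this
      exact one_ne_zero this
    have k1 : k = 1 := by
      by_contra hk1
      have := hk (i₀, 1) (fun h => hk1 h.symm)
      rw [hM₂, tvG_apply, hs1, one_mul, hGu₂, Matrix.one_apply_ne (by
        intro h; exact hne (congrArg Prod.fst h).symm), zero_add, Matrix.one_apply_eq, mul_one,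
        Matrix.one_apply_ne (show (j₀, (0 : Fin 3)).2 ≠ 1 by show (0 : Fin 3) ≠ 1; decide), mul_zero,
        add_zero] at this
      exact hji this
    rw [k0] at k1
    exact absurd k1 (by decide)
  refine ⟨K₀.map (psi e P') ⊓ spGL m F, ?_, ?_⟩
  · rw [SetLike.lt_iff_le_and_exists]
    constructor
    · intro g hg
      obtain ⟨hg1, hg2⟩ := Subgroup.mem_inf.mp hg
      rw [htps] at hg1
      obtain ⟨M, hM, rfl⟩ := Subgroup.mem_map.mp hg1
      obtain ⟨a, b, rfl⟩ := eq_kronGL_of_mem hM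
      refine Subgroup.mem_inf.mpr ⟨Subgroup.mem_map.mpr ⟨_, ?_, rfl⟩, hg2⟩
      have h1 := (hSp _).mp hg2
      rw [kronGL_val, hG, ← Matrix.kroneckerMap_transpose, ← Matrix.mul_kronecker_mul,
        ← Matrix.mul_kronecker_mul, mul_one] at h1
      obtain ⟨s, hs⟩ : ∃ s : F, s = ((a : Matrix (Fin n₁) (Fin n₁) F)ᵀ * G₁ * (a : Matrix (Fin n₁) (Fin n₁) F)) j₀ i₀ :=
        ⟨_, rfl⟩
      have hent : ∀ k k' : Fin 3, s * ((b : Matrix (Fin 3) (Fin 3) F)ᵀ * (b : Matrix (Fin 3) (Fin 3) F)) k k'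
          = G₁ j₀ i₀ * (1 : Matrix (Fin 3) (Fin 3) F) k k' := by
        intro k k'
        have := congrFun (congrFun h1 (j₀, k)) (i₀, k')
        rw [Matrix.kroneckerMap_apply, Matrix.kroneckerMap_apply, ← hs] at this
        exact this
      have hs0 : s ≠ 0 := by
        intro h0
        have := hent 0 0
        rw [h0, zero_mul, Matrix.one_apply_eq, mul_one] at this
        exact hji this.symm
      have hb : (b : Matrix (Fin 3) (Fin 3) F)ᵀ * (b : Matrix (Fin 3) (Fin 3) F)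
          = (G₁ j₀ i₀ / s) • (1 : Matrix (Fin 3) (Fin 3) F) := by
        ext k k'
        rw [Matrix.smul_apply, smul_eq_mul]
        have := hent k k'
        field_simp
        linear_combination this
      obtain ⟨π, hπ1, hπ2⟩ := monomial_of_orth_F3 hq b (G₁ j₀ i₀ / s) (div_ne_zero hji hs0) hb
      rw [hK₀]
      exact kronGL_mem_decStab_snd a b π hπ1 hπ2
    · refine ⟨psi e P' M₁, Subgroup.mem_inf.mpr ⟨Subgroup.mem_map.mpr ⟨M₁, hM₁K, rfl⟩, hM₁sp⟩, ?_⟩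
      intro hmem
      have h1 := (Subgroup.mem_inf.mp hmem).1
      rw [htps] at h1
      obtain ⟨M, hM, hMeq⟩ := Subgroup.mem_map.mp h1
      rw [hinj hMeq] at hM
      exact hM₁kron hM
  · rw [SetLike.lt_iff_le_and_exists]
    refine ⟨inf_le_right, psi e P' M₂, hM₂sp, ?_⟩
    intro hmem
    have h1 := (Subgroup.mem_inf.mp hmem).1
    obtain ⟨M, hM, hMeq⟩ := Subgroup.mem_map.mp h1
    rw [hinj hMeq] at hM
    exact hM₂K hM

end Cfsg.Agent.S5667
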