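import Cfsg.Statements.S5671
import Cfsg.Agent.Lib.Helper13.TensorHerm

set_option autoImplicit false
open Cfsg

namespace Cfsg.Agent.S5671

open scoped Matrix Kronecker
open Cfsg.Geo Cfsg.Agent.Lib.Helper13.TNM

theorem result {F : Type*} [Field F] [Fintype F] (n : ℕ) (hF : Fintype.card F = 4) (hn : 13 ≤ n) (n₂ : ℕ) (e : Fin n ≃ Fin 2 × Fin n₂) (P : Matrix.GeneralLinearGroup (Fin n) F) (f₁ : (Fin 2 → F) → (Fin 2 → F) → F) (f₂ : (Fin n₂ → F) → (Fin n₂ → F) → F) (hf₁ : Cfsg.Geo.IsUnitaryFormPow 2 f₁) (hf₂ : Cfsg.Geo.IsUnitaryFormPow 2 f₂) (hT : Cfsg.Geo.IsTensorFormStructure (fun x : F => x ^ 2) (Cfsg.hermForm n F 2) f₁ f₂ e P) : ∃ K : Subgroup (Matrix.GeneralLinearGroup (Fin n) F), Cfsg.Geo.tensorProductSubgroup 2 n₂ e P ⊓ (Cfsg.GU n F 2 ⊓ Cfsg.Geo.specialLinear (Fin n) F) < K ∧ K < (Cfsg.GU n F 2 ⊓ Cfsg.Geo.specialLinear (Fin n) F) := by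
  classical
  obtain ⟨c, hc, hT⟩ := hT
  have h2 : (2 : F) = 0 := F4_two hF
  obtain ⟨σ, hσ⟩ : ∃ σ : F →+* F, σ = sqHom h2 := ⟨_, rfl⟩
  have hσapp : ∀ x, σ x = x ^ 2 := by intro x; rw [hσ]; rfl
  have hσfun : (fun x : F => x ^ 2) = ⇑σ := by funext x; exact (hσapp x).symm
  have hσσ : ∀ x, σ (σ x) = x := by
    intro x; rw [hσapp, hσapp, ← pow_mul]; exact F4_pow4 hF x
  have hfix : ∀ t : F, σ t = t → t = 0 ∨ t = 1 := by
    intro t ht; rw [hσapp] at ht; exact sq_fix t ht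
  obtain ⟨ω, hω⟩ : ∃ ω : F, σ ω ≠ ω := by
    obtain ⟨ω, h⟩ := F4_exists_omega hF
    exact ⟨ω, by rw [hσapp]; exact h⟩
  have hcube : ∀ x : F, x ≠ 0 → x * σ x = 1 := by
    intro x hx; rw [hσapp]; exact F4_cube hF x hx
  obtain ⟨G₁, hG₁⟩ : ∃ G₁ : Matrix (Fin 2) (Fin 2) F, G₁ = gramMatrix f₁ := ⟨_, rfl⟩
  obtain ⟨G₂, hG₂⟩ : ∃ G₂ : Matrix (Fin n₂) (Fin n₂) F, G₂ = gramMatrix f₂ := ⟨_, rfl⟩
  rw [← hG₁, ← hG₂, hσfun] at hT
  have hn₂ : 7 ≤ n₂ := by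
    have := Fintype.card_congr e
    simp at this
    omega
  have hG₁herm : G₁ᵀ = G₁.map σ := by
    ext a b
    rw [Matrix.transpose_apply, Matrix.map_apply, hσapp, hG₁]
    exact hf₁.herm _ _
  have hG₂herm : G₂ᵀ = G₂.map σ := by
    ext a b
    rw [Matrix.transpose_apply, Matrix.map_apply, hσapp, hG₂]
    exact hf₂.herm _ _
  -- nondegeneracy
  have hN : ∀ y : Fin 2 × Fin n₂ → F, y ≠ 0 → (G₁ ⊗ₖ G₂) *ᵥ (⇑σ ∘ y) ≠ 0 :=
    gram_nondeg_of_tensorStructure e P (hermForm n F 2) (herm_nondeg_right n 2) (⇑σ) (G₁ ⊗ₖ G₂) c hT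
  have hN₁ := kron_nondeg_left σ G₁ G₂ hN ⟨0, by omega⟩
  have hN₂ := kron_nondeg_right σ G₁ G₂ hN (0 : Fin 2)
  -- normalise G₁
  obtain ⟨C₁, hC₁⟩ := exists_orthonormal_two σ hσσ hfix ω hω G₁ hG₁herm hN₁
  obtain ⟨C, hCdef⟩ : ∃ C : GL (Fin 2 × Fin n₂) F, C = kronGL C₁ 1 := ⟨_, rfl⟩
  obtain ⟨P', hP'⟩ : ∃ P' : GL (Fin n) F, P' = P * glReindex e.symm C := ⟨_, rfl⟩
  have htps : tensorProductSubgroup 2 n₂ e P = (kroneckerSubgroup 2 n₂ F).map (psi e P') := by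
    rw [← tps_eq, hP', tps_change _ _ _ _ _ (hCdef ▸ kronGL_mem C₁ 1)]
  obtain ⟨G, hG⟩ : ∃ G : Matrix (Fin 2 × Fin n₂) (Fin 2 × Fin n₂) F,
      G = (1 : Matrix (Fin 2) (Fin 2) F) ⊗ₖ G₂ := ⟨_, rfl⟩
  have hGapp : ∀ a b : Fin 2 × Fin n₂, G a b = (1 : Matrix (Fin 2) (Fin 2) F) a.1 b.1 * G₂ a.2 b.2 := by
    intro a b
    rw [hG]
    rfl
  have hT' : ∀ x y, hermForm n F 2 (TT e P' x) (TT e P' y) = c * formOfGram σ G x y := by
    intro x y
    rw [hP', TT_change, TT_change]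
    have hmat : (C : Matrix (Fin 2 × Fin n₂) (Fin 2 × Fin n₂) F)ᵀ * (G₁ ⊗ₖ G₂) *
        (C : Matrix (Fin 2 × Fin n₂) (Fin 2 × Fin n₂) F).map σ = G := by
      rw [hCdef, kronGL_val, kron_map, ← Matrix.kroneckerMap_transpose, ← Matrix.mul_kronecker_mul,
        ← Matrix.mul_kronecker_mul, hC₁, Units.val_one, Matrix.transpose_one, one_mul,
        Matrix.map_one _ (map_zero σ) (map_one σ), mul_one, hG]
    have h3 : hermForm n F 2 (TT e P ((C : Matrix _ _ F) *ᵥ x)) (TT e P ((C : Matrix _ _ F) *ᵥ y))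
        = c * formOfGram σ (G₁ ⊗ₖ G₂) ((C : Matrix _ _ F) *ᵥ x) ((C : Matrix _ _ F) *ᵥ y) := hT _ _
    rw [h3, formOfGram_mulVec σ (map_zero σ) (map_add σ) (map_mul σ), hmat]
  have hGherm : Gᵀ = G.map σ := by
    rw [hG, kron_map, ← Matrix.kroneckerMap_transpose, Matrix.transpose_one, ← hG₂herm,
      Matrix.map_one _ (map_zero σ) (map_one σ)]
  have hGU : ∀ M : GL (Fin 2 × Fin n₂) F, psi e P' M ∈ GU n F 2 ↔
      (M : Matrix _ _ F)ᵀ * G * (M : Matrix _ _ F).map σ = G := by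
    intro M
    have h1 := psi_mem_preserving_iff e P' (f := hermForm n F 2) (φ := formOfGram σ G) hc hT' M
    have h3 := preserves_iff (⇑σ) (map_zero σ) (map_one σ) (map_add σ) (map_mul σ) G (M : Matrix _ _ F)
    exact h1.trans h3
  have hGmv : ∀ (v : Fin 2 × Fin n₂ → F) (a : Fin 2 × Fin n₂),
      (G *ᵥ v) a = ∑ j, G₂ a.2 j * v (a.1, j) := by
    intro v a
    simp only [Matrix.mulVec, dotProduct]
    rw [Fintype.sum_prod_type, Finset.sum_eq_single a.1]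
    · apply Finset.sum_congr rfl
      intro j _
      have : G a (a.1, j) = G₂ a.2 j := by rw [hGapp]; simp
      rw [this]
    · intro i _ hi
      apply Finset.sum_eq_zero
      intro j _
      have : G a (i, j) = 0 := by rw [hGapp]; simp [Matrix.one_apply_ne (Ne.symm hi)]
      rw [this, zero_mul]
    · intro h; exact absurd (Finset.mem_univ _) h
  obtain ⟨K₀, hK₀⟩ : ∃ K₀ : Subgroup (GL (Fin 2 × Fin n₂) F),
      K₀ = decompositionStabilizer (blk (F := F) (Prod.fst : Fin 2 × Fin n₂ → Fin 2)) := ⟨_, rfl⟩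
  have hinj := psi_injective (F := F) e P'
  -- a nonzero entry of G₂
  obtain ⟨j₀, j₁, hji⟩ : ∃ j₀ j₁, G₂ j₀ j₁ ≠ 0 := by
    by_contra hcon
    push Not at hcon
    have hz : G₂ = 0 := by ext i j; exact hcon i j
    apply hN₂ (Pi.single ⟨0, by omega⟩ 1)
    · intro h
      have := congrFun h ⟨0, by omega⟩
      simp at this
    · rw [hz, Matrix.zero_mulVec]
  obtain ⟨j₂, hj₂⟩ : ∃ j₂ : Fin n₂, j₂ ≠ j₁ := by
    by_cases h : j₁ = ⟨0, by omega⟩
    · refine ⟨⟨1, by omega⟩, ?_⟩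
      rw [h]
      intro h'
      have := congrArg Fin.val h'
      simp at this
    · exact ⟨⟨0, by omega⟩, fun h' => h h'.symm⟩
  -- second witness: outside the block stabiliser
  obtain ⟨u₂, hu₂⟩ : ∃ u₂ : Fin 2 × Fin n₂ → F, u₂ = fun p => if p.2 = j₁ then 1 else 0 := ⟨_, rfl⟩
  have hσu₂ : ⇑σ ∘ u₂ = u₂ := by
    funext p
    rw [Function.comp_apply, hu₂]
    by_cases hp : p.2 = j₁
    · simp [hp]
    · simp [hp]
  have hw₂ : ∀ a, (G *ᵥ (⇑σ ∘ u₂)) a = G₂ a.2 j₁ := by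
    intro a
    rw [hσu₂, hGmv, Finset.sum_eq_single j₁]
    · rw [hu₂]; simp
    · intro j _ hj; rw [hu₂]; simp [hj]
    · intro h; exact absurd (Finset.mem_univ _) h
  have hiso₂ : u₂ ⬝ᵥ (G *ᵥ (⇑σ ∘ u₂)) = 0 := by
    simp only [dotProduct]
    rw [Fintype.sum_prod_type, Fin.sum_univ_two]
    have hrow : ∀ i : Fin 2, ∑ j, u₂ (i, j) * (G *ᵥ (⇑σ ∘ u₂)) (i, j) = G₂ j₁ j₁ := by
      intro i
      rw [Finset.sum_eq_single j₁]
      · rw [hw₂, hu₂]; simp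
      · intro j _ hj; rw [hu₂]; simp [hj]
      · intro h; exact absurd (Finset.mem_univ _) h
    rw [hrow, hrow]
    linear_combination (G₂ j₁ j₁) * h2
  obtain ⟨M₂, hM₂⟩ : ∃ M₂ : GL (Fin 2 × Fin n₂) F, M₂ = htv σ h2 G u₂ hiso₂ := ⟨_, rfl⟩
  have hM₂GU : psi e P' M₂ ∈ GU n F 2 := by
    rw [hGU, hM₂, htv_val]
    exact HT_preserve σ hσσ h2 G hGherm u₂ hiso₂
  have hM₂SL : psi e P' M₂ ∈ specialLinear (Fin n) F := by
    rw [psi_mem_specialLinear_iff, hM₂, htv_val]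
    exact HT_det σ h2 G u₂ hiso₂
  have hM₂K : M₂ ∉ K₀ := by
    intro hmem
    rw [hK₀] at hmem
    obtain ⟨π, hπ⟩ := exists_perm_of_mem_decStab _ M₂ hmem
    have k1 : π 0 = 1 := by
      by_contra hk
      have h3 := hπ (1, j₁) (0, j₀) (fun h => hk h.symm)
      rw [hM₂, htv_val, HT_apply, hw₂, Matrix.one_apply_ne (by simp), zero_add, hu₂] at h3
      simp at h3
      exact hji h3
    have k0 : π 0 = 0 := by
      by_contra hk
      have h3 := hπ (0, j₂) (0, j₂) (fun h => hk h.symm)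
      rw [hM₂, htv_val, HT_apply, Matrix.one_apply_eq, hu₂] at h3
      simp [hj₂] at h3
    rw [k0] at k1
    exact absurd k1 (by decide)
  -- first witness: inside the block stabiliser, not a Kronecker product
  obtain ⟨z, hz0, hziso⟩ := exists_isotropic σ hσσ h2 hfix ω hω G₂ hG₂herm hN₂
    (⟨0, by omega⟩ : Fin n₂) ⟨1, by omega⟩ (by intro h; have := congrArg Fin.val h; simp at this)
  obtain ⟨w₂, hw₂def⟩ : ∃ w₂ : Fin n₂ → F, w₂ = G₂ *ᵥ (⇑σ ∘ z) := ⟨_, rfl⟩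
  have hw₂ne : w₂ ≠ 0 := by rw [hw₂def]; exact hN₂ z hz0
  have hzw : z ⬝ᵥ w₂ = 0 := by rw [hw₂def, ← formOfGram_eq]; exact hziso
  obtain ⟨ja, jb, hjab, hzja, hwjb⟩ := exists_ne_of_dot_zero z w₂ hz0 hw₂ne hzw
  obtain ⟨u₁, hu₁⟩ : ∃ u₁ : Fin 2 × Fin n₂ → F, u₁ = fun p => if p.1 = 0 then z p.2 else 0 := ⟨_, rfl⟩
  have hw₁ : ∀ a, (G *ᵥ (⇑σ ∘ u₁)) a = if a.1 = 0 then w₂ a.2 else 0 := by
    intro a
    rw [hGmv]
    by_cases ha : a.1 = 0
    · rw [if_pos ha, hw₂def]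
      simp only [Matrix.mulVec, dotProduct, Function.comp_apply]
      apply Finset.sum_congr rfl
      intro j _
      rw [hu₁]
      simp [ha]
    · rw [if_neg ha]
      apply Finset.sum_eq_zero
      intro j _
      rw [Function.comp_apply, hu₁]
      simp [ha]
  have hiso₁ : u₁ ⬝ᵥ (G *ᵥ (⇑σ ∘ u₁)) = 0 := by
    simp only [dotProduct]
    rw [Fintype.sum_prod_type, Fin.sum_univ_two]
    have hr0 : ∑ j, u₁ (0, j) * (G *ᵥ (⇑σ ∘ u₁)) (0, j) = z ⬝ᵥ w₂ := by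
      simp only [dotProduct]
      apply Finset.sum_congr rfl
      intro j _
      rw [hw₁, hu₁]
      simp
    have hr1 : ∑ j, u₁ (1, j) * (G *ᵥ (⇑σ ∘ u₁)) (1, j) = 0 := by
      apply Finset.sum_eq_zero
      intro j _
      rw [hu₁]
      simp
    rw [hr0, hr1, hzw, add_zero]
  obtain ⟨M₁, hM₁⟩ : ∃ M₁ : GL (Fin 2 × Fin n₂) F, M₁ = htv σ h2 G u₁ hiso₁ := ⟨_, rfl⟩
  have hM₁GU : psi e P' M₁ ∈ GU n F 2 := by
    rw [hGU, hM₁, htv_val]
    exact HT_preserve σ hσσ h2 G hGherm u₁ hiso₁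
  have hM₁SL : psi e P' M₁ ∈ specialLinear (Fin n) F := by
    rw [psi_mem_specialLinear_iff, hM₁, htv_val]
    exact HT_det σ h2 G u₁ hiso₁
  have hM₁entry : ∀ a a' : Fin 2 × Fin n₂, a.1 ≠ a'.1 → HT σ G u₁ a a' = 0 := by
    intro a a' h
    have hne' : a ≠ a' := fun h' => h (by rw [h'])
    rw [HT_apply, Matrix.one_apply_ne hne', zero_add, hw₁]
    by_cases ha : a.1 = 0
    · have ha' : a'.1 ≠ 0 := fun h0 => h (by rw [ha, h0])
      rw [if_neg ha', mul_zero]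
    · rw [hu₁]
      simp [ha]
  have hM₁K : M₁ ∈ K₀ := by
    rw [hK₀]
    apply mem_decStab_of_blockMonomial _ _ (Equiv.refl _)
    · intro a a' h
      rw [Equiv.refl_apply] at h
      rw [hM₁, htv_val]
      exact hM₁entry a a' h
    · intro a a' h
      rw [Equiv.refl_symm, Equiv.refl_apply] at h
      rw [hM₁, htv_inv_val]
      exact hM₁entry a a' h
  have hM₁kron : M₁ ∉ kroneckerSubgroup 2 n₂ F := by
    rintro ⟨a, b, hab⟩
    have e1 := congrFun (congrFun hab (1, ja)) (1, ja)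
    have e2 := congrFun (congrFun hab (1, ja)) (1, jb)
    have e3 := congrFun (congrFun hab (0, ja)) (0, jb)
    rw [hM₁, htv_val, HT_apply, Matrix.kroneckerMap_apply] at e1 e2 e3
    have hs1 : u₁ (1, ja) = 0 := by rw [hu₁]; simp
    have hs0 : u₁ (0, ja) = z ja := by rw [hu₁]; simp
    have hneab : ((1 : Fin 2), ja) ≠ (1, jb) := fun h => hjab (congrArg Prod.snd h)
    have hneab0 : ((0 : Fin 2), ja) ≠ (0, jb) := fun h => hjab (congrArg Prod.snd h)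
    rw [hs1, zero_mul, add_zero, Matrix.one_apply_eq] at e1
    rw [hs1, zero_mul, add_zero, Matrix.one_apply_ne hneab] at e2
    rw [hs0, hw₁, Matrix.one_apply_ne hneab0, zero_add] at e3
    have ha11 : (a : Matrix (Fin 2) (Fin 2) F) 1 1 ≠ 0 := by
      intro h0
      rw [h0, zero_mul] at e1
      exact one_ne_zero e1
    have hb : (b : Matrix (Fin n₂) (Fin n₂) F) ja jb = 0 := by
      rcases mul_eq_zero.mp e2.symm with h | h
      · exact absurd h ha11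
      · exact h
    rw [hb, mul_zero] at e3
    simp at e3
    rcases e3 with h | h
    · exact hzja h
    · exact hwjb h
  refine ⟨K₀.map (psi e P') ⊓ (GU n F 2 ⊓ specialLinear (Fin n) F), ?_, ?_⟩
  · rw [SetLike.lt_iff_le_and_exists]
    constructor
    · intro g hg
      obtain ⟨hg1, hg2⟩ := Subgroup.mem_inf.mp hg
      rw [htps] at hg1
      obtain ⟨M, hM, rfl⟩ := Subgroup.mem_map.mp hg1
      obtain ⟨a, b, rfl⟩ := eq_kronGL_of_mem hM
      refine Subgroup.mem_inf.mpr ⟨Subgroup.mem_map.mpr ⟨_, ?_, rfl⟩, hg2⟩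
      have h1 := (hGU _).mp (Subgroup.mem_inf.mp hg2).1
      rw [kronGL_val, hG, kron_map, ← Matrix.kroneckerMap_transpose, ← Matrix.mul_kronecker_mul,
        ← Matrix.mul_kronecker_mul, mul_one] at h1
      obtain ⟨s, hs⟩ : ∃ s : F, s = ((b : Matrix (Fin n₂) (Fin n₂) F)ᵀ * G₂ *
          (b : Matrix (Fin n₂) (Fin n₂) F).map σ) j₀ j₁ := ⟨_, rfl⟩
      have hent : ∀ k k' : Fin 2, ((a : Matrix (Fin 2) (Fin 2) F)ᵀ *
          (a : Matrix (Fin 2) (Fin 2) F).map σ) k k' * s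
          = (1 : Matrix (Fin 2) (Fin 2) F) k k' * G₂ j₀ j₁ := by
        intro k k'
        have := congrFun (congrFun h1 (k, j₀)) (k', j₁)
        rw [Matrix.kroneckerMap_apply, Matrix.kroneckerMap_apply, ← hs] at this
        exact this
      have hs0 : s ≠ 0 := by
        intro h0
        have := hent 0 0
        rw [h0, mul_zero, Matrix.one_apply_eq, one_mul] at this
        exact hji this.symm
      have ha : (a : Matrix (Fin 2) (Fin 2) F)ᵀ * (a : Matrix (Fin 2) (Fin 2) F).map σ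
          = (G₂ j₀ j₁ / s) • (1 : Matrix (Fin 2) (Fin 2) F) := by
        ext k k'
        rw [Matrix.smul_apply, smul_eq_mul]
        have := hent k k'
        field_simp
        linear_combination this
      obtain ⟨π, hπ1, hπ2⟩ := monomial_of_unitary_two σ h2 hcube a (G₂ j₀ j₁ / s)
        (div_ne_zero hji hs0) ha
      rw [hK₀]
      exact kronGL_mem_decStab_fst a b π hπ1 hπ2
    · refine ⟨psi e P' M₁, Subgroup.mem_inf.mpr ⟨Subgroup.mem_map.mpr ⟨M₁, hM₁K, rfl⟩,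
        Subgroup.mem_inf.mpr ⟨hM₁GU, hM₁SL⟩⟩, ?_⟩
      intro hmem
      have h1 := (Subgroup.mem_inf.mp hmem).1
      rw [htps] at h1
      obtain ⟨M, hM, hMeq⟩ := Subgroup.mem_map.mp h1
      rw [hinj hMeq] at hM
      exact hM₁kron hM
  · rw [SetLike.lt_iff_le_and_exists]
    refine ⟨inf_le_right, psi e P' M₂, Subgroup.mem_inf.mpr ⟨hM₂GU, hM₂SL⟩, ?_⟩
    intro hmem
    have h1 := (Subgroup.mem_inf.mp hmem).1
    obtain ⟨M, hM, hMeq⟩ := Subgroup.mem_map.mp h1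
    rw [hinj hMeq] at hM
    exact hM₂K hM

end Cfsg.Agent.S5671
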