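import Cfsg.Statements.S5674
import Cfsg.Agent.Lib.Helper13.OrthParab
import Cfsg.Agent.Lib.Helper6.OrthForms

set_option autoImplicit false
open Cfsg

namespace Cfsg.Agent.S5674

open Cfsg.Agent.Lib.Helper13 Cfsg.Agent.Lib.Helper6 Module

/-- Let F be a finite field of odd order, m ≥ 6, Q the standard quadratic form x₀² + Σ x_i y_i on F^(2m+1) and Ω the commutator subgroup of its isometry group inside GL_(2m+1)(F). The elements of Ω stabilising a non-zero subspace on which Q vanishes form a maximal subgroup of Ω. -/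
theorem result {F : Type*} [Field F] [Fintype F] (hodd : Odd (Fintype.card F)) (m : ℕ) (hm : 6 ≤ m) (W : Submodule F (Unit ⊕ (Fin m ⊕ Fin m) → F)) (hW0 : W ≠ ⊥) (hW : Cfsg.Geo.IsTotallySingularQuad (Cfsg.quadFormOdd m F) W) : Cfsg.Geo.IsMaximalIn (Cfsg.Geo.omegaGL (Cfsg.quadFormOdd m F)) (Cfsg.Geo.subspaceStabilizer W ⊓ Cfsg.Geo.omegaGL (Cfsg.quadFormOdd m F)) := by
  have hcoe : ⇑(QOdd F m) = Cfsg.quadFormOdd m F := funext (QOdd_apply F m)
  have h2 : (2 : F) ≠ 0 := Cfsg.Agent.Lib.Helper6.two_ne_zero_of_odd_card hodd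
  rw [← hcoe] at hW ⊢
  refine orth_ts_stabilizer_maximal (Q := QOdd F m) (nondegenerate_QOdd F h2 m)
    (by simp only [Fintype.card_sum, Fintype.card_fin, Fintype.card_unit]; omega) W hW0 hW ?_
  intro W' hW' hlt
  have h1 := ts_two_mul_finrank_le (nondegenerate_QOdd F h2 m) W' hW'
  have h3 := Submodule.finrank_lt_finrank_of_lt hlt
  simp only [Fintype.card_sum, Fintype.card_fin, Fintype.card_unit] at h1 ⊢
  omega

end Cfsg.Agent.S5674
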