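import Cfsg.Statements.S5675
import Cfsg.Agent.Lib.Helper13.OrthNondeg
import Cfsg.Agent.Lib.Helper6.OrthForms

set_option autoImplicit false
open Cfsg

namespace Cfsg.Agent.S5675

open Cfsg.Agent.Lib.Helper13 Cfsg.Agent.Lib.Helper13.OND Cfsg.Agent.Lib.Helper6 Module QuadraticMap

/-- Let F be a finite field of odd order q, m ≥ 6, Q the standard quadratic form on F^(2m+1) and Ω the commutator subgroup of its isometry group. Let W be a non-zero subspace of even dimension on which the polar form of Q is non-degenerate; exclude the case q = 3, dim W = 2 with Q vanishing on some line of W (a plus-type plane). Then the elements of Ω stabilising W (equivalently, stabilising its orthogonal complement, of odd dimension) form a maximal subgroup of Ω. -/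
theorem result {F : Type*} [Field F] [Fintype F] (hodd : Odd (Fintype.card F)) (m : ℕ) (hm : 6 ≤ m) (W : Submodule F (Unit ⊕ (Fin m ⊕ Fin m) → F)) (hW0 : W ≠ ⊥) (hev : Even (Module.finrank F W)) (hW : Cfsg.Geo.IsNondegenerateOn (QuadraticMap.polar (Cfsg.quadFormOdd m F)) W) (hex : ¬ (Fintype.card F = 3 ∧ Module.finrank F W = 2 ∧ Cfsg.Geo.IsPlusTypeOn (Cfsg.quadFormOdd m F) W)) : Cfsg.Geo.IsMaximalIn (Cfsg.Geo.omegaGL (Cfsg.quadFormOdd m F)) (Cfsg.Geo.subspaceStabilizer W ⊓ Cfsg.Geo.omegaGL (Cfsg.quadFormOdd m F)) := by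
  have hcoe : ⇑(QOdd F m) = Cfsg.quadFormOdd m F := funext (QOdd_apply F m)
  have h2 : (2 : F) ≠ 0 := Cfsg.Agent.Lib.Helper6.two_ne_zero_of_odd_card hodd
  rw [← hcoe] at hW hex ⊢
  have hQ := nondegenerate_QOdd F h2 m
  have hP := orthPair_of_nondeg (QOdd F m) hQ W hW
  have hfr := hP.finrank_add
  simp only [Fintype.card_sum, Fintype.card_fin, Fintype.card_unit] at hfr
  obtain ⟨r, hr⟩ := hev
  refine nondeg_stabilizer_maximal (QOdd F m) hQ
    (by simp only [Fintype.card_sum, Fintype.card_fin, Fintype.card_unit]; omega) W hW0 ?_ hW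
    (Or.inl (by omega)) ?_ ?_
  · intro htop
    rw [htop, finrank_top, Module.finrank_fintype_fun_eq_card] at hr
    simp only [Fintype.card_sum, Fintype.card_fin, Fintype.card_unit] at hr
    omega
  · rintro ⟨hq, hd, s, hsW, hs0, hs⟩
    apply hex
    refine ⟨?_, hd, plusType_of_singular (QOdd F m) W hd s hsW hs0 hs⟩
    obtain ⟨k, hk⟩ := hodd
    have := Fintype.one_lt_card (α := F)
    omega
  · rintro ⟨-, hd, -⟩
    omega

end Cfsg.Agent.S5675
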