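import Cfsg.Statements.S5677
import Cfsg.Agent.Lib.Helper13.OrthDecompE
import Cfsg.Agent.Lib.Helper13.OrthNondeg
import Cfsg.Agent.Lib.Helper6.OrthForms

set_option autoImplicit false
open Cfsg

namespace Cfsg.Agent.S5677

open Cfsg.Agent.Lib.Helper13 Cfsg.Agent.Lib.Helper13.OND Cfsg.Agent.Lib.Helper13.ODC Cfsg.Agent.Lib.Helper6 Module QuadraticMap

/-- Let F be a finite field of odd order q, m ≥ 6, Q the standard quadratic form on F^(2m+1) and Ω the commutator subgroup of its isometry group. Let D be a decomposition of F^(2m+1) into t ≥ 2 pairwise orthogonal, pairwise Q-isometric subspaces of equal dimension k > 1 on which the polar form is non-degenerate. Unless q = 3 and k = 3, the elements of Ω permuting the members of D form a maximal subgroup of Ω. -/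
theorem result {F : Type*} [Field F] [Fintype F] (hodd : Odd (Fintype.card F)) (m : ℕ) (hm : 6 ≤ m) {t : ℕ} (k : ℕ) (hk : 1 < k) (D : Fin t → Submodule F (Unit ⊕ (Fin m ⊕ Fin m) → F)) (hD : Cfsg.Geo.IsOrthogonalMDecomposition (Cfsg.quadFormOdd m F) k D) (hex : ¬ (Fintype.card F = 3 ∧ k = 3)) : Cfsg.Geo.IsMaximalIn (Cfsg.Geo.omegaGL (Cfsg.quadFormOdd m F)) (Cfsg.Geo.decompositionStabilizer D ⊓ Cfsg.Geo.omegaGL (Cfsg.quadFormOdd m F)) := by
  classical
  have hcoe : ⇑(QOdd F m) = Cfsg.quadFormOdd m F := funext (QOdd_apply F m)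
  have h2 : (2 : F) ≠ 0 := Cfsg.Agent.Lib.Helper6.two_ne_zero_of_odd_card hodd
  rw [← hcoe] at hD ⊢
  have hQ := nondegenerate_QOdd F h2 m
  have hdec := hD.decomp.decomp
  -- dimension count
  have hint : DirectSum.IsInternal D :=
    DirectSum.isInternal_submodule_of_iSupIndep_of_iSup_eq_top hdec.indep hdec.iSup_eq_top
  obtain ⟨b, hb⟩ : ∃ b : ∀ i, Module.Basis (Fin k) F (D i),
      b = fun i => Module.finBasisOfFinrankEq F (D i) (hdec.finrank_eq i) := ⟨_, rfl⟩
  have hcard : Fintype.card (Unit ⊕ (Fin m ⊕ Fin m)) = t * k := by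
    rw [← Module.finrank_fintype_fun_eq_card (R := F),
      Module.finrank_eq_card_basis (hint.collectedBasis b)]
    simp only [Fintype.card_sigma, Fintype.card_fin, Finset.sum_const, Finset.card_univ,
      smul_eq_mul]
  have hcard2 : Fintype.card (Unit ⊕ (Fin m ⊕ Fin m)) = 2 * m + 1 := by
    simp only [Fintype.card_sum, Fintype.card_fin, Fintype.card_unit]; omega
  have hk3 : 3 ≤ k := by
    by_contra hlt
    have hk2 : k = 2 := by omega
    rw [hk2] at hcard
    omega
  -- the component decomposition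
  have hcomp : ∀ x : Unit ⊕ (Fin m ⊕ Fin m) → F,
      ∃ f : Fin t → (Unit ⊕ (Fin m ⊕ Fin m) → F), (∀ i, f i ∈ D i) ∧ x = ∑ i, f i := by
    intro x
    have hx : x ∈ iSup D := by rw [hdec.iSup_eq_top]; exact Submodule.mem_top
    rw [Submodule.mem_iSup_iff_exists_finsupp] at hx
    obtain ⟨f, hf, hsum⟩ := hx
    refine ⟨fun i => f i, hf, ?_⟩
    rw [← hsum, Finsupp.sum_fintype]
    intro i
    rfl
  have hB : Blk (QOdd F m) D k := by
    refine ⟨hk3, hdec.finrank_eq, ?_, ?_, ?_, hcomp, h2, hQ, by omega⟩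
    · intro i x hx hx0
      exact (hD.decomp.nondegenerate i x hx hx0).2
    · intro i j hij u hu w hw
      exact hD.decomp.orthogonal i j hij u hu w hw
    · intro x hx
      apply hQ.1 x
      intro y
      obtain ⟨f, hf, hy⟩ := hcomp y
      rw [hy]
      change polar (⇑(QOdd F m)) x (∑ i, f i) = 0
      rw [polar_sum_right]
      apply Finset.sum_eq_zero
      intro i _
      exact hx i (f i) (hf i)
  refine decomp_stabilizer_maximal hB ?_ hdec.two_le ?_
  · intro i j
    exact hD.isometric i j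
  · intro hk3'
    obtain ⟨r, hr⟩ := hodd
    have := Fintype.one_lt_card (α := F)
    have hne : Fintype.card F ≠ 3 := fun h => hex ⟨h, hk3'⟩
    omega

end Cfsg.Agent.S5677
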