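import Cfsg.Statements.S5689
import Cfsg.Agent.Lib.Helper13.OrthNondeg
import Cfsg.Agent.Lib.Helper13.OrthHalves
import Cfsg.Agent.Lib.Helper6.OrthForms

set_option autoImplicit false
open Cfsg

namespace Cfsg.Agent.S5689

open Cfsg.Agent.Lib.Helper13 Cfsg.Agent.Lib.Helper13.OND Cfsg.Agent.Lib.Helper6 Module QuadraticMap

/-- Let F be a finite field with q elements, n ≥ 13 even, Q a non-degenerate quadratic form on F^n of minus type (no subspace of dimension n/2 is totally singular), and Ω the commutator subgroup of the isometry group of Q, viewed inside GL_n(F). Let W be a non-zero proper subspace on which the polar form of Q is non-degenerate, not of odd dimension n/2. Exclude the case q ≤ 3 in which W, or its orthogonal complement, is a plane containing a line on which Q vanishes. Then the elements of Ω stabilising W form a maximal subgroup of Ω. -/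
theorem result {F : Type*} [Field F] [Fintype F] {n : ℕ} (hn : 13 ≤ n) (heven : Even n) (Q : (Fin n → F) → F) (hQ : Cfsg.Geo.IsNondegenerateQuadraticForm Q) (hminus : ¬ Cfsg.Geo.IsPlusTypeOn Q ⊤) (W : Submodule F (Fin n → F)) (hW0 : W ≠ ⊥) (hW1 : W ≠ ⊤) (hdim : ¬ (2 * Module.finrank F W = n ∧ Odd (Module.finrank F W))) (hW : Cfsg.Geo.IsNondegenerateOn (QuadraticMap.polar Q) W) (hex : ¬ (Fintype.card F ≤ 3 ∧ (∃ U : Submodule F (Fin n → F), Module.finrank F U = 2 ∧ Cfsg.Geo.IsNondegenerateOn (QuadraticMap.polar Q) U ∧ Cfsg.Geo.IsPlusTypeOn Q U ∧ (U = W ∨ (Cfsg.Geo.AreOrthogonalFor (QuadraticMap.polar Q) U W ∧ Module.finrank F U + Module.finrank F W = n))))) : Cfsg.Geo.IsMaximalIn (Cfsg.Geo.omegaGL Q) (Cfsg.Geo.subspaceStabilizer W ⊓ Cfsg.Geo.omegaGL Q) := by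
  have hQn := toQF_nondegenerate Q hQ
  have hW' : Cfsg.Geo.IsNondegenerateOn (polar (⇑(toQF Q hQ))) W := hW
  have hP := orthPair_of_nondeg (toQF Q hQ) hQn W hW'
  have hfr := hP.finrank_add
  rw [Fintype.card_fin] at hfr
  have hni : finrank F W ≠
      finrank F (LinearMap.BilinForm.orthogonal (polarBilin (toQF Q hQ)) W) ∨
      ∀ γ : ↥(Cfsg.isometryGroup F ⇑(toQF Q hQ)),
        ¬ ∀ x ∈ W, gact (toQF Q hQ) γ x ∈
          LinearMap.BilinForm.orthogonal (polarBilin (toQF Q hQ)) W := by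
    by_cases h : finrank F W =
        finrank F (LinearMap.BilinForm.orthogonal (polarBilin (toQF Q hQ)) W)
    · right
      intro γ hγ
      have hev : Even (finrank F W) := by
        rw [← Nat.not_odd_iff_even]
        intro hodd
        exact hdim ⟨by omega, hodd⟩
      exact hminus (plus_of_isometric_halves (toQF Q hQ) hQn hP h hev γ hγ)
    · exact Or.inl h
  refine nondeg_stabilizer_maximal (toQF Q hQ) hQn (by rw [Fintype.card_fin]; exact hn) W hW0 hW1
    hW' hni ?_ ?_
  · rintro ⟨hq, hd, s, hsW, hs0, hs⟩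
    apply hex
    exact ⟨hq, W, hd, hW, plusType_of_singular (toQF Q hQ) W hd s hsW hs0 hs, Or.inl rfl⟩
  · rintro ⟨hq, hd, s, hsW, hs0, hs⟩
    apply hex
    refine ⟨hq, _, hd, ?_, plusType_of_singular (toQF Q hQ) _ hd s hsW hs0 hs, Or.inr ⟨?_, ?_⟩⟩
    · intro w hw hw0
      obtain ⟨y, hy, hyw⟩ := hP.ndW w hw hw0
      exact ⟨⟨y, hy, by rw [polar_comm]; exact hyw⟩, ⟨y, hy, hyw⟩⟩
    · intro u hu v hv
      rw [polar_comm]
      exact hP.orth v hv u hu
    · omega

end Cfsg.Agent.S5689
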