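import Cfsg.Statements.S5699
import Cfsg.Agent.Lib.Helper13.OrthNondeg
import Cfsg.Agent.Lib.Helper6.OrthForms

set_option autoImplicit false
open Cfsg

namespace Cfsg.Agent.S5699

open Cfsg.Agent.Lib.Helper13 Cfsg.Agent.Lib.Helper13.OND Cfsg.Agent.Lib.Helper6 Module QuadraticMap

theorem map_eq_of_mem_stab {F : Type*} [Field F] {n : ℕ} (S : Submodule F (Fin n → F))
    (g : GL (Fin n) F) (hg : g ∈ Cfsg.Geo.subspaceStabilizer S) :
    S.map (Matrix.toLin' (g : Matrix (Fin n) (Fin n) F)) = S := by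
  have hiff : ∀ x, x ∈ S ↔ (g : Matrix (Fin n) (Fin n) F).mulVec x ∈ S := hg
  ext y
  constructor
  · rintro ⟨x, hx, rfl⟩
    rw [Matrix.toLin'_apply]
    exact (hiff x).mp hx
  · intro hy
    refine ⟨((g⁻¹ : GL (Fin n) F) : Matrix (Fin n) (Fin n) F).mulVec y, ?_, ?_⟩
    · apply (hiff _).mpr
      rw [Matrix.mulVec_mulVec, ← Units.val_mul, mul_inv_cancel, Units.val_one, Matrix.one_mulVec]
      exact hy
    · rw [Matrix.toLin'_apply, Matrix.mulVec_mulVec, ← Units.val_mul, mul_inv_cancel,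
        Units.val_one, Matrix.one_mulVec]

/-- Let F be a finite field with q elements, n ≥ 13 even, Q a non-degenerate quadratic form on F^n (of either type), and Ω the commutator subgroup of the isometry group of Q, viewed inside GL_n(F). Let D be a decomposition of F^n into two orthogonal subspaces of odd dimension n/2 on which the polar form is non-degenerate and which are not Q-isometric to each other. Then the elements of Ω permuting (necessarily fixing) the two subspaces form a maximal subgroup of Ω. -/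
theorem result {F : Type*} [Field F] [Fintype F] {n : ℕ} (hn : 13 ≤ n) (heven : Even n) (Q : (Fin n → F) → F) (hQ : Cfsg.Geo.IsNondegenerateQuadraticForm Q) (k : ℕ) (hk : 2 * k = n) (hko : Odd k) (D : Fin 2 → Submodule F (Fin n → F)) (hD : Cfsg.Geo.IsNondegenerateMDecomposition (QuadraticMap.polar Q) k D) (hni : ¬ Cfsg.Geo.AreIsometricFor Q (D 0) (D 1)) : Cfsg.Geo.IsMaximalIn (Cfsg.Geo.omegaGL Q) (Cfsg.Geo.decompositionStabilizer D ⊓ Cfsg.Geo.omegaGL Q) := by
  have hQn := toQF_nondegenerate Q hQ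
  have hW' : Cfsg.Geo.IsNondegenerateOn (polar (⇑(toQF Q hQ))) (D 1) := hD.nondegenerate 1
  have hP := orthPair_of_nondeg (toQF Q hQ) hQn (D 1) hW'
  have hfr := hP.finrank_add
  rw [Fintype.card_fin, hD.decomp.finrank_eq 1] at hfr
  have hD0 : D 0 = LinearMap.BilinForm.orthogonal (polarBilin (toQF Q hQ)) (D 1) := by
    apply Submodule.eq_of_le_of_finrank_eq
    · intro x hx
      rw [LinearMap.BilinForm.mem_orthogonal_iff]
      intro w hw
      exact hD.orthogonal 1 0 (by decide) w hw x hx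
    · rw [hD.decomp.finrank_eq 0]
      omega
  rw [← hD0] at hP
  have hk7 : 7 ≤ k := by omega
  have hni' : ∀ γ : ↥(Cfsg.isometryGroup F ⇑(toQF Q hQ)),
      ¬ ∀ x ∈ D 0, gact (toQF Q hQ) γ x ∈ D 1 := by
    intro γ hγ
    apply hni
    obtain ⟨fr, hfr'⟩ : ∃ fr : ↥(D 0) →ₗ[F] ↥(D 1), ∀ a : ↥(D 0),
        ((fr a : ↥(D 1)) : Fin n → F) = gact (toQF Q hQ) γ a :=
      ⟨(Matrix.toLin' ((γ : GL (Fin n) F) : Matrix (Fin n) (Fin n) F)).restrict
        (fun x hx => by rw [Matrix.toLin'_apply]; exact hγ x hx), fun a => by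
        rw [LinearMap.coe_restrict_apply, Matrix.toLin'_apply]
        rfl⟩
    have hinj : Function.Injective fr := by
      intro a b hab
      have h1 : gact (toQF Q hQ) γ a = gact (toQF Q hQ) γ b := by
        rw [← hfr' a, ← hfr' b, hab]
      apply Subtype.ext
      have h2 := congrArg (gact (toQF Q hQ) γ⁻¹) h1
      rwa [gact_inv_gact, gact_inv_gact] at h2
    have hbij : Function.Bijective fr :=
      ⟨hinj, (LinearMap.injective_iff_surjective_of_finrank_eq_finrank
        (by rw [hD.decomp.finrank_eq 0, hD.decomp.finrank_eq 1])).mp hinj⟩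
    refine ⟨LinearEquiv.ofBijective fr hbij, fun w => ?_⟩
    rw [LinearEquiv.ofBijective_apply, hfr' w]
    exact Q_gact (toQF Q hQ) γ w
  have hD1 : D 1 ≠ ⊥ := by
    intro h
    have := hD.decomp.finrank_eq 1
    rw [h, finrank_bot] at this
    omega
  have hmax := orth_nondeg_stabilizer_maximal (toQF Q hQ) hQn hP.symm
    (by rw [hD.decomp.finrank_eq 0]; exact hk7) hD1 hni'
    (fun h => by
      have := hD.decomp.finrank_eq 1
      omega)
  have h01 : ∀ a : Fin 2, a = 0 ∨ a = 1 := by decide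
  have heq : Cfsg.Geo.decompositionStabilizer D ⊓ Cfsg.Geo.omegaGL Q =
      Cfsg.Geo.subspaceStabilizer (D 0) ⊓ Cfsg.Geo.omegaGL Q := by
    apply le_antisymm
    · rintro g ⟨⟨σ, hσ⟩, hgΩ⟩
      refine ⟨?_, hgΩ⟩
      obtain ⟨γ, hγ, rfl⟩ := (mem_omegaGL_iff (toQF Q hQ) g).mp hgΩ
      have hmap : ∀ x ∈ D 0, gact (toQF Q hQ) γ x ∈ D (σ 0) := by
        intro x hx
        rw [← hσ 0]
        exact ⟨x, hx, by rw [Matrix.toLin'_apply]; rfl⟩
      rcases h01 (σ 0) with h | h
      · rw [h] at hmap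
        exact mem_subspaceStabilizer_of_forall' _ (D 0) hmap
      · rw [h] at hmap
        exact absurd hmap (hni' γ)
    · rintro g ⟨hg, hgΩ⟩
      refine ⟨?_, hgΩ⟩
      obtain ⟨γ, hγ, rfl⟩ := (mem_omegaGL_iff (toQF Q hQ) g).mp hgΩ
      have hg1 := hP.symm.stab_le γ hg
      refine ⟨1, fun i => ?_⟩
      rcases h01 i with h | h
      · rw [h]
        exact map_eq_of_mem_stab (D 0) _ hg
      · rw [h]
        exact map_eq_of_mem_stab (D 1) _ hg1
  rw [heq]
  exact hmax

end Cfsg.Agent.S5699
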