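import Mathlib
import Cfsg.Statements.S5701
import Cfsg.Agent.Lib.Helper9.OExtMain
import Cfsg.Agent.Lib.Helper12.S5664FOBR1
import Cfsg.Agent.Lib.Helper25.ExtFEa
import Cfsg.Agent.Lib.Helper13.OrthMax
import Cfsg.Agent.Lib.Helper23.S5701FOBR1
import Cfsg.Agent.Lib.Helper23.S5701FOBR23

set_option autoImplicit false
open Cfsg

namespace Cfsg.Agent.S5701

/-- Let F be a finite field with q elements, n ≥ 13 even, Q a non-degenerate quadratic form on F^n (of either type), and Ω the commutator subgroup of the isometry group of Q, viewed inside GL_n(F). Suppose q is odd. Let K be a subfield of the algebra of n × n matrices over F containing the scalars, of prime degree r over F with n/r ≥ 3, whose elements are self-adjoint for the polar form of Q. Then the elements of Ω normalising K form a maximal subgroup of Ω. -/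
theorem result {F : Type*} [Field F] [Fintype F] {n : ℕ} (hn : 13 ≤ n) (heven : Even n) (Q : (Fin n → F) → F) (hQ : Cfsg.Geo.IsNondegenerateQuadraticForm Q) (hodd : Odd (Fintype.card F)) (r : ℕ) (hr : r.Prime) (hnr : 3 * r ≤ n) (K : Subalgebra F (Matrix (Fin n) (Fin n) F)) (hK : Cfsg.Geo.IsFieldSubalgebra r K) (hsa : Cfsg.Geo.IsSelfAdjointFor (QuadraticMap.polar Q) K) : Cfsg.Geo.IsMaximalIn (Cfsg.Geo.omegaGL Q) (Cfsg.Geo.subalgebraNormalizer K ⊓ Cfsg.Geo.omegaGL Q) := by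
  classical
  have : Nonempty (Fin n) := ⟨⟨0, by omega⟩⟩
  let _ := Cfsg.Agent.Lib.Helper7.SpExt.fieldOf K hK
  have hrk : Module.finrank F ↥K = r := hK.finrank_eq
  have hQc : ⇑(Cfsg.Agent.Lib.Helper13.toQF Q hQ) = Q := Cfsg.Agent.Lib.Helper13.toQF_coe Q hQ
  have h2 : (2 : F) ≠ 0 := Cfsg.Agent.Lib.Helper9.OExtMain.two_ne_zero_of_odd hodd
  have hnd : ∀ v, v ≠ 0 → ∃ w, QuadraticMap.polar (⇑(Cfsg.Agent.Lib.Helper13.toQF Q hQ)) v w ≠ 0 := by
    intro v hv
    by_contra hcon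
    push Not at hcon
    exact hv ((Cfsg.Agent.Lib.Helper13.toQF_nondegenerate Q hQ).1 v (fun w => by
      rw [QuadraticMap.polarBilin_apply_apply]; exact hcon w))
  have hsa' : ∀ (a : ↥K) v w,
      QuadraticMap.polar (⇑(Cfsg.Agent.Lib.Helper13.toQF Q hQ)) (Matrix.mulVec (K.val a) v) w =
      QuadraticMap.polar (⇑(Cfsg.Agent.Lib.Helper13.toQF Q hQ)) v (Matrix.mulVec (K.val a) w) := by
    intro a v w
    rw [hQc]
    exact hsa a.1 a.2 v w
  obtain ⟨τ, B, S⟩ := Cfsg.Agent.Lib.Helper23.S5701BR1.exists_ostr K.val hrk hr.pos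
    (Cfsg.Agent.Lib.Helper13.toQF Q hQ) h2 hnd hsa'
  -- arithmetic
  have hdvd : r ∣ n := Cfsg.Agent.Lib.Helper25.ExtFEa.finrank_dvd K.val hrk hr.pos
  have hcard : Fintype.card (Fin n) = n := Fintype.card_fin n
  have h4 : 4 * r ≤ Fintype.card (Fin n) := by
    rw [hcard]
    obtain ⟨m, rfl⟩ := hdvd
    have hrpos := hr.pos
    have h3m : 3 ≤ m := by
      by_contra hlt
      have hlt : m ≤ 2 := by omega
      have : r * m ≤ r * 2 := Nat.mul_le_mul_left r hlt
      omega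
    rcases hr.eq_two_or_odd' with h2r | hoddr
    · subst h2r
      omega
    · have hm_even : Even m := by
        rcases Nat.even_mul.mp heven with h | h
        · exact absurd h (Nat.not_even_iff_odd.mpr hoddr)
        · exact h
      have h4m : 4 ≤ m := by
        rcases hm_even with ⟨k, rfl⟩
        omega
      have : r * 4 ≤ r * m := Nat.mul_le_mul_left r h4m
      omega
  have h12 : r = 2 → 12 ≤ Fintype.card (Fin n) := by
    intro _
    rw [hcard]
    omega
  have hnorm : ∀ g : GL (Fin n) F, g ∈ Cfsg.Geo.subalgebraNormalizer K ↔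
      Cfsg.Agent.Lib.Helper7.SpExt.Normalizes K.val g :=
    fun g => Cfsg.Agent.Lib.Helper12.S5664FOBR1.mem_normalizer_iff K hK g
  rw [← hQc]
  -- Siegel elements lie in the normaliser ∩ Ω
  have hSieg : Cfsg.Agent.Lib.Helper9.OExt.HasSieg K.val B
      (Cfsg.Geo.subalgebraNormalizer K ⊓ Cfsg.Geo.omegaGL ⇑(Cfsg.Agent.Lib.Helper13.toQF Q hQ)) := by
    intro v w g hv hvw hg
    refine ⟨(hnorm g).2 (fun a => ⟨a, Cfsg.Agent.Lib.Helper23.S5701BR23.sieg_normalizes S hg a⟩), Cfsg.Agent.Lib.Helper23.S5701BR23.sieg_mem_omega S hv hvw hg⟩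
  obtain ⟨t, htΩ, htN⟩ := Cfsg.Agent.Lib.Helper9.OExtBR4.exists_omega_not_normalizes_aux S hr hrk h4
    (by
      obtain ⟨s, hs, -⟩ := Cfsg.Agent.Lib.Helper26.S5701GEO.exists_lsing_perp S hrk hr.pos h4 0
      exact ⟨s, hs⟩)
  refine ⟨lt_of_le_of_ne inf_le_right ?_, ?_⟩
  · intro heq
    have : t ∈ Cfsg.Geo.subalgebraNormalizer K ⊓
        Cfsg.Geo.omegaGL ⇑(Cfsg.Agent.Lib.Helper13.toQF Q hQ) := by
      rw [heq]; exact htΩ
    exact htN ((hnorm t).1 this.1)
  · intro M hNM hMΩ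
    by_cases hM : M ≤ Cfsg.Geo.subalgebraNormalizer K
    · left
      exact le_antisymm (le_inf hM hMΩ) hNM
    · right
      obtain ⟨g, hgM, hgN⟩ := SetLike.not_le_iff_exists.mp hM
      have hgN' : ¬ Cfsg.Agent.Lib.Helper7.SpExt.Normalizes K.val g := fun h => hgN ((hnorm g).2 h)
      have hSM : Cfsg.Agent.Lib.Helper9.OExt.HasSieg K.val B M :=
        fun v w g hv hvw hg => hNM (hSieg v w g hv hvw hg)
      have hMiso : M ≤ Cfsg.isometryGroup F ⇑(Cfsg.Agent.Lib.Helper13.toQF Q hQ) :=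
        hMΩ.trans (Cfsg.Agent.Lib.Helper9.OExtMain.omegaGL_le_isometryGroup
          (Cfsg.Agent.Lib.Helper13.toQF Q hQ))
      exact le_antisymm hMΩ
        (Cfsg.Agent.Lib.Helper9.OExtMain.main S hr hrk h4 h12 M hSM hMiso g hgM hgN')

end Cfsg.Agent.S5701
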