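import Cfsg.Statements.S5713
import Cfsg.Agent.Lib.Helper23.BabaiTwo

set_option autoImplicit false
open Cfsg

namespace Cfsg.Agent.S5713

/-- A classification-free minimal-degree bound. Let G be a finite group acting faithfully and primitively on a finite set Ω with n elements, and suppose that the image of G in the symmetric group on Ω does not contain the alternating group on Ω. Then every non-identity element of G moves at least (√n − 1)/2 points of Ω, that is, it fixes at most n − (√n − 1)/2 points. -/
theorem result {G Ω : Type*} [Group G] [Finite G] [MulAction G Ω] [FaithfulSMul G Ω] [Fintype Ω] [DecidableEq Ω]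
    (hprim : MulAction.IsPreprimitive G Ω)
    (hA : ¬ alternatingGroup Ω ≤ (MulAction.toPermHom G Ω).range)
    (g : G) (hg : g ≠ 1) :
    (Real.sqrt (Fintype.card Ω) - 1) / 2 ≤ (Fintype.card Ω : ℝ) - Nat.card (MulAction.fixedBy Ω g) := by
  classical
  haveI : MulAction.IsPreprimitive G Ω := hprim
  obtain ⟨x, hx⟩ : ∃ x : Ω, g • x ≠ x := by
    by_contra hcon
    apply hg
    apply FaithfulSMul.eq_of_smul_eq_smul (α := Ω)
    intro a
    rw [one_smul]
    by_contra h
    exact hcon ⟨a, h⟩
  have hno3 : ∀ (h : G) (a b c : Ω), a ≠ b → b ≠ c → a ≠ c → h • a = b → h • b = c → h • c = a →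
      (∀ z, z ≠ a → z ≠ b → z ≠ c → h • z = z) → False := by
    intro h a b c hab hbc hac e1 e2 e3 e4
    apply hA
    have hperm : MulAction.toPermHom G Ω h = Equiv.swap c b * Equiv.swap c a := by
      ext z
      rw [MulAction.toPermHom_apply, MulAction.toPerm_apply, Equiv.Perm.mul_apply]
      by_cases hza : z = a
      · rw [hza, Equiv.swap_apply_right, Equiv.swap_apply_left, e1]
      · by_cases hzb : z = b
        · rw [hzb, Equiv.swap_apply_of_ne_of_ne hbc hab.symm, Equiv.swap_apply_right, e2]
        · by_cases hzc : z = c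
          · rw [hzc, Equiv.swap_apply_left, Equiv.swap_apply_of_ne_of_ne hac hab, e3]
          · rw [Equiv.swap_apply_of_ne_of_ne hzc hza, Equiv.swap_apply_of_ne_of_ne hzc hzb,
              e4 z hza hzb hzc]
    have h3 : (MulAction.toPermHom G Ω h).IsThreeCycle := by
      rw [hperm]
      exact Equiv.Perm.isThreeCycle_swap_mul_swap_same hbc.symm hac.symm hab.symm
    have hprim' : MulAction.IsPreprimitive (MulAction.toPermHom G Ω).range Ω := by
      let f : Ω →ₑ[(MulAction.toPermHom G Ω).rangeRestrict] Ω :=
        { toFun := id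
          map_smul' := fun m z => rfl }
      exact MulAction.IsPreprimitive.of_surjective (f := f) Function.surjective_id
    exact Equiv.Perm.alternatingGroup_le_of_isPreprimitive_of_isThreeCycle_mem hprim' h3 ⟨h, rfl⟩
  have hmain := Cfsg.Agent.Lib.Helper23.Babai.card_le_sq hno3 g x hx
  have hadd := Cfsg.Agent.Lib.Helper23.Babai.supp_card_add (Ω := Ω) g
  have hfix : (Nat.card (MulAction.fixedBy Ω g) : ℝ)
      = (Fintype.card Ω : ℝ) - ((Cfsg.Agent.Lib.Helper23.Babai.supp Ω g).card : ℝ) := by
    rw [← hadd]
    push_cast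
    ring
  rw [hfix]
  have hsq : Real.sqrt (Fintype.card Ω)
      ≤ 2 * ((Cfsg.Agent.Lib.Helper23.Babai.supp Ω g).card : ℝ) + 1 := by
    rw [Real.sqrt_le_iff]
    refine ⟨by positivity, ?_⟩
    exact_mod_cast hmain
  linarith

end Cfsg.Agent.S5713
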