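-- Statement S5726.
import Cfsg.Statements.S5726
-- import your own Cfsg.Agent.* helpers here

set_option autoImplicit false
open Cfsg

namespace Cfsg.Agent.S5726

open MulAction

theorem aux_sylow_trans {G Ω : Type*} [Group G] [Finite G] [MulAction G Ω] [Fintype Ω]
    (htr : IsPretransitive G Ω) (p k : ℕ) [Fact p.Prime] (hΩ : Fintype.card Ω = p ^ k)
    (P : Sylow p G) (ω : Ω) : orbit (P : Subgroup G) ω = Set.univ := by
  classical
  have hidx : (stabilizer G ω).index = p ^ k := by
    rw [index_stabilizer_of_transitive, Nat.card_eq_fintype_card, hΩ]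
  have hstab : stabilizer (P : Subgroup G) ω = (stabilizer G ω).subgroupOf (P : Subgroup G) := by
    ext x; rfl
  have h1 : (stabilizer G ω).relIndex (P : Subgroup G) * (P : Subgroup G).index
      = (P : Subgroup G).relIndex (stabilizer G ω) * (stabilizer G ω).index := by
    rw [← Subgroup.inf_relIndex_right, ← Subgroup.inf_relIndex_left (stabilizer G ω),
      Subgroup.relIndex_mul_index inf_le_right, inf_comm,
      Subgroup.relIndex_mul_index inf_le_right]
  have h2 : p ^ k ∣ (stabilizer G ω).relIndex (P : Subgroup G) * (P : Subgroup G).index := by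
    rw [h1, hidx]; exact dvd_mul_left _ _
  have hcop : Nat.Coprime (p ^ k) (P : Subgroup G).index :=
    Nat.Coprime.pow_left k ((Nat.Prime.coprime_iff_not_dvd (Fact.out)).mpr P.not_dvd_index)
  have h3 : p ^ k ∣ (stabilizer G ω).relIndex (P : Subgroup G) := hcop.dvd_of_dvd_mul_right h2
  have h4 : (stabilizer G ω).relIndex (P : Subgroup G) = (orbit (P : Subgroup G) ω).ncard := by
    rw [Subgroup.relIndex, ← hstab, index_stabilizer]
  rw [h4] at h3
  rw [Set.eq_univ_iff_ncard, Nat.card_eq_fintype_card, hΩ]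
  apply le_antisymm
  · rw [← hΩ, ← Nat.card_eq_fintype_card]
    exact Set.ncard_le_card _
  · apply Nat.le_of_dvd _ h3
    rw [Set.ncard_pos]
    exact ⟨ω, mem_orbit_self ω⟩

theorem aux_central_derangement {G Ω : Type*} [Group G] [Finite G] [MulAction G Ω] [FaithfulSMul G Ω]
    (p : ℕ) [Fact p.Prime] (P : Subgroup G) (hP : IsPGroup p P) (ω₀ : Ω)
    (htrans : orbit P ω₀ = Set.univ) (hnt : Nontrivial P) :
    ∃ g : G, orderOf g = p ∧ ∀ ω : Ω, g • ω ≠ ω := by
  have hcnt : Nontrivial (Subgroup.center P) := hP.center_nontrivial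
  have hcp : IsPGroup p (Subgroup.center P) := hP.to_subgroup _
  have hdvd : p ∣ Nat.card (Subgroup.center P) := by
    rcases hcp.card_eq_or_dvd with h | h
    · exfalso
      have := Finite.one_lt_card_iff_nontrivial.mpr hcnt
      omega
    · exact h
  obtain ⟨z, hz⟩ := exists_prime_orderOf_dvd_card' p hdvd
  refine ⟨((z : P) : G), ?_, ?_⟩
  · rw [Subgroup.orderOf_coe, Subgroup.orderOf_coe]; exact hz
  · intro ω hω
    have hall : ∀ ω' : Ω, ((z : P) : G) • ω' = ω' := by
      intro ω'
      have h1 : ω ∈ orbit P ω₀ := by rw [htrans]; exact Set.mem_univ _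
      have h2 : ω' ∈ orbit P ω₀ := by rw [htrans]; exact Set.mem_univ _
      obtain ⟨a, ha⟩ := h1
      obtain ⟨b, hb⟩ := h2
      -- ω' = (b * a⁻¹) • ω
      have h3 : ω' = (b * a⁻¹ : P) • ω := by
        rw [← ha, ← hb, mul_smul, inv_smul_smul]
      have hcomm : (z : P) * (b * a⁻¹) = (b * a⁻¹) * (z : P) := by
        have := z.2
        rw [Subgroup.mem_center_iff] at this
        exact (this _).symm
      rw [h3]
      change (z : P) • ((b * a⁻¹ : P) • ω) = _
      rw [← mul_smul, hcomm, mul_smul]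
      congr 1
    have h1 : ((z : P) : G) = 1 := by
      apply FaithfulSMul.eq_of_smul_eq_smul (α := Ω)
      intro ω'
      rw [hall ω', one_smul]
    have h2 : orderOf (((z : P) : G)) = p := by
      rw [Subgroup.orderOf_coe, Subgroup.orderOf_coe]; exact hz
    rw [h1, orderOf_one] at h2
    exact (Fact.out : p.Prime).one_lt.ne h2


/-- If a finite group acts faithfully and transitively on a set with p^k elements, p a prime and k ≥ 1, then some element of order p fixes no point. -/
theorem result {G Ω : Type*} [Group G] [Finite G] [MulAction G Ω] [FaithfulSMul G Ω] [Fintype Ω] (htr : MulAction.IsPretransitive G Ω)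
    (p k : ℕ) (hp : p.Prime) (hk : 1 ≤ k) (hΩ : Fintype.card Ω = p ^ k) :
    ∃ g : G, orderOf g = p ∧ ∀ ω : Ω, g • ω ≠ ω := by
  have : Fact p.Prime := ⟨hp⟩
  have hpos : 0 < Fintype.card Ω := by rw [hΩ]; exact pow_pos hp.pos k
  obtain ⟨ω₀⟩ := Fintype.card_pos_iff.mp hpos
  let P : Sylow p G := default
  have htrans := aux_sylow_trans htr p k hΩ P ω₀
  apply aux_central_derangement p (P : Subgroup G) P.isPGroup' ω₀ htrans
  -- P nontrivial
  by_contra hnt
  rw [not_nontrivial_iff_subsingleton] at hnt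
  have hsub : (orbit (P : Subgroup G) ω₀).Subsingleton := by
    rintro x ⟨a, rfl⟩ y ⟨b, rfl⟩
    rw [Subsingleton.elim a b]
  rw [htrans] at hsub
  have : Fintype.card Ω ≤ 1 := by
    rw [Fintype.card_le_one_iff_subsingleton]
    exact ⟨fun a b => hsub (Set.mem_univ a) (Set.mem_univ b)⟩
  rw [hΩ] at this
  have h1 : p ^ 1 ≤ p ^ k := Nat.pow_le_pow_right hp.pos hk
  rw [pow_one] at h1
  have := hp.one_lt
  omega

end Cfsg.Agent.S5726
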