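-- Statement S5727.
import Cfsg.Statements.S5727
-- import your own Cfsg.Agent.* helpers here

set_option autoImplicit false
open Cfsg

namespace Cfsg.Agent.S5727

open MulAction

theorem aux_sylow_trans {G Ω : Type*} [Group G] [Finite G] [MulAction G Ω] [Fintype Ω]
    (htr : IsPretransitive G Ω) (p k : ℕ) [Fact p.Prime] (hΩ : Fintype.card Ω = p ^ k)
    (P : Sylow p G) (ω : Ω) : orbit (P : Subgroup G) ω = Set.univ := by
  classical
  have hidx : (stabilizer G ω).index = p ^ k := by
    rw [index_stabilizer_of_transitive, Nat.card_eq_fintype_card, hΩ]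
  have hstab : stabilizer (P : Subgroup G) ω = (stabilizer G ω).subgroupOf (P : Subgroup G) := by
    ext x; rfl
  have h1 : (stabilizer G ω).relIndex (P : Subgroup G) * (P : Subgroup G).index
      = (P : Subgroup G).relIndex (stabilizer G ω) * (stabilizer G ω).index := by
    rw [← Subgroup.inf_relIndex_right, ← Subgroup.inf_relIndex_left (stabilizer G ω),
      Subgroup.relIndex_mul_index inf_le_right, inf_comm,
      Subgroup.relIndex_mul_index inf_le_right]
  have h2 : p ^ k ∣ (stabilizer G ω).relIndex (P : Subgroup G) * (P : Subgroup G).index := by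
    rw [h1, hidx]; exact dvd_mul_left _ _
  have hcop : Nat.Coprime (p ^ k) (P : Subgroup G).index :=
    Nat.Coprime.pow_left k ((Nat.Prime.coprime_iff_not_dvd (Fact.out)).mpr P.not_dvd_index)
  have h3 : p ^ k ∣ (stabilizer G ω).relIndex (P : Subgroup G) := hcop.dvd_of_dvd_mul_right h2
  have h4 : (stabilizer G ω).relIndex (P : Subgroup G) = (orbit (P : Subgroup G) ω).ncard := by
    rw [Subgroup.relIndex, ← hstab, index_stabilizer]
  rw [h4] at h3
  rw [Set.eq_univ_iff_ncard, Nat.card_eq_fintype_card, hΩ]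
  apply le_antisymm
  · rw [← hΩ, ← Nat.card_eq_fintype_card]
    exact Set.ncard_le_card _
  · apply Nat.le_of_dvd _ h3
    rw [Set.ncard_pos]
    exact ⟨ω, mem_orbit_self ω⟩

theorem aux_central_derangement {G Ω : Type*} [Group G] [Finite G] [MulAction G Ω] [FaithfulSMul G Ω]
    (p : ℕ) [Fact p.Prime] (P : Subgroup G) (hP : IsPGroup p P) (ω₀ : Ω)
    (htrans : orbit P ω₀ = Set.univ) (hnt : Nontrivial P) :
    ∃ g : G, orderOf g = p ∧ ∀ ω : Ω, g • ω ≠ ω := by
  have hcnt : Nontrivial (Subgroup.center P) := hP.center_nontrivial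
  have hcp : IsPGroup p (Subgroup.center P) := hP.to_subgroup _
  have hdvd : p ∣ Nat.card (Subgroup.center P) := by
    rcases hcp.card_eq_or_dvd with h | h
    · exfalso
      have := Finite.one_lt_card_iff_nontrivial.mpr hcnt
      omega
    · exact h
  obtain ⟨z, hz⟩ := exists_prime_orderOf_dvd_card' p hdvd
  refine ⟨((z : P) : G), ?_, ?_⟩
  · rw [Subgroup.orderOf_coe, Subgroup.orderOf_coe]; exact hz
  · intro ω hω
    have hall : ∀ ω' : Ω, ((z : P) : G) • ω' = ω' := by
      intro ω'
      have h1 : ω ∈ orbit P ω₀ := by rw [htrans]; exact Set.mem_univ _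
      have h2 : ω' ∈ orbit P ω₀ := by rw [htrans]; exact Set.mem_univ _
      obtain ⟨a, ha⟩ := h1
      obtain ⟨b, hb⟩ := h2
      -- ω' = (b * a⁻¹) • ω
      have h3 : ω' = (b * a⁻¹ : P) • ω := by
        rw [← ha, ← hb, mul_smul, inv_smul_smul]
      have hcomm : (z : P) * (b * a⁻¹) = (b * a⁻¹) * (z : P) := by
        have := z.2
        rw [Subgroup.mem_center_iff] at this
        exact (this _).symm
      rw [h3]
      change (z : P) • ((b * a⁻¹ : P) • ω) = _
      rw [← mul_smul, hcomm, mul_smul]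
      congr 1
    have h1 : ((z : P) : G) = 1 := by
      apply FaithfulSMul.eq_of_smul_eq_smul (α := Ω)
      intro ω'
      rw [hall ω', one_smul]
    have h2 : orderOf (((z : P) : G)) = p := by
      rw [Subgroup.orderOf_coe, Subgroup.orderOf_coe]; exact hz
    rw [h1, orderOf_one] at h2
    exact (Fact.out : p.Prime).one_lt.ne h2



theorem aux_index_p {G Ω : Type*} [Group G] [Finite G] [MulAction G Ω] [Fintype Ω]
    (htr : IsPretransitive G Ω) (p m : ℕ) [Fact p.Prime] (hmp : m < p)
    (hΩ : Fintype.card Ω = m * p)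
    (P : Sylow p G) (ω : Ω) : (stabilizer (P : Subgroup G) ω).index = p := by
  classical
  have hp : p.Prime := Fact.out
  have hidx : (stabilizer G ω).index = m * p := by
    rw [index_stabilizer_of_transitive, Nat.card_eq_fintype_card, hΩ]
  have hstab : stabilizer (P : Subgroup G) ω = (stabilizer G ω).subgroupOf (P : Subgroup G) := by
    ext x; rfl
  have h1 : (stabilizer G ω).relIndex (P : Subgroup G) * (P : Subgroup G).index
      = (P : Subgroup G).relIndex (stabilizer G ω) * (stabilizer G ω).index := by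
    rw [← Subgroup.inf_relIndex_right, ← Subgroup.inf_relIndex_left (stabilizer G ω),
      Subgroup.relIndex_mul_index inf_le_right, inf_comm,
      Subgroup.relIndex_mul_index inf_le_right]
  have h2 : p ∣ (stabilizer G ω).relIndex (P : Subgroup G) * (P : Subgroup G).index := by
    rw [h1, hidx, ← mul_assoc]; exact dvd_mul_left _ _
  have hcop : Nat.Coprime p (P : Subgroup G).index :=
    (Nat.Prime.coprime_iff_not_dvd hp).mpr P.not_dvd_index
  have h3 : p ∣ (stabilizer G ω).relIndex (P : Subgroup G) := hcop.dvd_of_dvd_mul_right h2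
  have h4 : (stabilizer (P : Subgroup G) ω).index = (orbit (P : Subgroup G) ω).ncard := by
    rw [index_stabilizer]
  have h5 : (stabilizer (P : Subgroup G) ω).index ≤ m * p := by
    rw [h4, ← hΩ, ← Nat.card_eq_fintype_card]
    exact Set.ncard_le_card _
  rw [Subgroup.relIndex, ← hstab] at h3
  obtain ⟨n, hn⟩ := P.isPGroup'.index (stabilizer (P : Subgroup G) ω)
  rw [hn] at h3 h5 ⊢
  rcases n with _ | _ | n
  · rw [pow_zero] at h3
    exact absurd (Nat.le_of_dvd one_pos h3) (not_le.mpr hp.one_lt)
  · simp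
  · exfalso
    have h6 : p ^ 2 ≤ p ^ (n + 1 + 1) := Nat.pow_le_pow_right hp.pos (by omega)
    have h7 : m * p < p * p := Nat.mul_lt_mul_of_pos_right hmp hp.pos
    rw [sq] at h6
    omega


theorem aux_double_count {P Ω : Type*} [Group P] [Fintype P] [MulAction P Ω] [Fintype Ω] :
    ∑ g : P, Nat.card (fixedBy Ω g) = ∑ ω : Ω, Nat.card (stabilizer P ω) := by
  classical
  have e : (Σ g : P, fixedBy Ω g) ≃ Σ b : Ω, stabilizer P b :=
    calc
      (Σ g : P, fixedBy Ω g) ≃ { ab : P × Ω // ab.1 • ab.2 = ab.2 } :=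
        (Equiv.subtypeProdEquivSigmaSubtype _).symm
      _ ≃ { ba : Ω × P // ba.2 • ba.1 = ba.1 } := (Equiv.prodComm P Ω).subtypeEquiv fun _ => Iff.rfl
      _ ≃ Σ b : Ω, stabilizer P b :=
        Equiv.subtypeProdEquivSigmaSubtype fun (b : Ω) a => a ∈ stabilizer P b
  have := Fintype.card_congr e
  rw [Fintype.card_sigma, Fintype.card_sigma] at this
  simp only [Nat.card_eq_fintype_card]
  exact this

theorem aux_small {G Ω : Type*} [Group G] [Finite G] [MulAction G Ω] [FaithfulSMul G Ω] [Fintype Ω]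
    (p m : ℕ) [Fact p.Prime] (hm : 1 ≤ m) (hmp : m < p) (hΩ : Fintype.card Ω = m * p)
    (P : Subgroup G) (hP : IsPGroup p P) (hidx : ∀ ω : Ω, (stabilizer P ω).index = p) :
    ∃ g : G, orderOf g = p ∧ ∀ ω : Ω, g • ω ≠ ω := by
  classical
  have hp : p.Prime := Fact.out
  cases nonempty_fintype P
  have hpos : 0 < Fintype.card Ω := by rw [hΩ]; exact Nat.mul_pos hm hp.pos
  obtain ⟨ω₀⟩ := Fintype.card_pos_iff.mp hpos
  have hcard : ∀ ω : Ω, Nat.card (stabilizer P ω) * p = Nat.card P := by
    intro ω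
    rw [← hidx ω]; exact Subgroup.card_mul_index _
  have hnorm : ∀ ω : Ω, (stabilizer P ω).Normal := by
    intro ω
    apply Subgroup.normal_of_index_eq_minFac_card
    rw [hidx ω]
    obtain ⟨a, ha⟩ := hP.exists_card_eq
    rw [ha]
    have ha0 : a ≠ 0 := by
      rintro rfl
      have := hcard ω
      rw [ha, pow_zero] at this
      have h1 : p ∣ 1 := ⟨_, by rw [mul_comm]; exact this.symm⟩
      exact absurd (Nat.le_of_dvd one_pos h1) (not_le.mpr hp.one_lt)
    exact (hp.pow_minFac ha0).symm
  have hsame : ∀ (ω : Ω) (h : P), stabilizer P (h • ω) = stabilizer P ω := by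
    intro ω h
    ext x
    rw [mem_stabilizer_iff, mem_stabilizer_iff]
    have := hnorm ω
    constructor
    · intro hx
      have h1 : h⁻¹ * x * h ∈ stabilizer P ω := by
        rw [mem_stabilizer_iff, mul_smul, mul_smul, hx, inv_smul_smul]
      have h2 := this.conj_mem _ h1 h
      have h3 : h * (h⁻¹ * x * h) * h⁻¹ = x := by group
      rw [h3] at h2
      exact h2
    · intro hx
      have h1 : x ∈ stabilizer P ω := hx
      have h2 := this.conj_mem _ h1 h⁻¹
      rw [mem_stabilizer_iff, inv_inv, mul_smul, mul_smul] at h2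
      have := congrArg (fun y => h • y) h2
      simpa using this
  have hfixge : ∀ g : P, (∃ ω : Ω, g • ω = ω) → p ≤ Nat.card (fixedBy Ω g) := by
    rintro g ⟨ω, hω⟩
    have h1 : orbit P ω ⊆ fixedBy Ω g := by
      rintro _ ⟨h, rfl⟩
      have : g ∈ stabilizer P (h • ω) := by rw [hsame]; exact hω
      exact this
    have h2 : (orbit P ω).ncard = p := by rw [← index_stabilizer, hidx]
    rw [Nat.card_coe_set_eq, ← h2]
    exact Set.ncard_le_ncard h1
  have hsum : ∑ g : P, Nat.card (fixedBy Ω g) = m * Nat.card P := by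
    rw [aux_double_count]
    have h1 : (∑ ω : Ω, Nat.card (stabilizer P ω)) * p = m * Nat.card P * p := by
      rw [Finset.sum_mul]
      rw [Finset.sum_congr rfl (fun ω _ => hcard ω), Finset.sum_const, Finset.card_univ, hΩ,
        smul_eq_mul]
      ring
    exact Nat.eq_of_mul_eq_mul_right hp.pos h1
  have hex : ∃ g : P, ∀ ω : Ω, g • ω ≠ ω := by
    by_contra hcon
    push Not at hcon
    have h1 : ∑ _g : P, p ≤ ∑ g : P, Nat.card (fixedBy Ω g) :=
      Finset.sum_le_sum (fun g _ => hfixge g (hcon g))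
    rw [hsum, Finset.sum_const, Finset.card_univ, smul_eq_mul, ← Nat.card_eq_fintype_card] at h1
    have hNpos : 0 < Nat.card P := Nat.card_pos
    have : p ≤ m := by
      rw [mul_comm (Nat.card P) p] at h1
      exact Nat.le_of_mul_le_mul_right h1 hNpos
    omega
  obtain ⟨g, hg⟩ := hex
  refine ⟨(g : G), ?_, fun ω => hg ω⟩
  have hpow : ((g : G)) ^ p = 1 := by
    apply FaithfulSMul.eq_of_smul_eq_smul (α := Ω)
    intro ω
    rw [one_smul]
    have := hnorm ω
    have h1 := Subgroup.pow_index_mem (stabilizer P ω) g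
    rw [hidx ω, mem_stabilizer_iff] at h1
    exact h1
  have hne : (g : G) ≠ 1 := by
    intro h
    apply hg ω₀
    change (g : G) • ω₀ = ω₀
    rw [h, one_smul]
  exact orderOf_eq_prime hpow hne


/-- If a finite group acts faithfully and transitively on a set with m·p elements, where p is a prime and 1 ≤ m ≤ p, then some element of order p fixes no point. -/
theorem result {G Ω : Type*} [Group G] [Finite G] [MulAction G Ω] [FaithfulSMul G Ω] [Fintype Ω] (htr : MulAction.IsPretransitive G Ω)
    (p m : ℕ) (hp : p.Prime) (hm : 1 ≤ m) (hmp : m ≤ p) (hΩ : Fintype.card Ω = m * p) :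
    ∃ g : G, orderOf g = p ∧ ∀ ω : Ω, g • ω ≠ ω := by
  have : Fact p.Prime := ⟨hp⟩
  rcases Nat.lt_or_ge m p with hlt | hge
  · let P : Sylow p G := default
    exact aux_small p m hm hlt hΩ (P : Subgroup G) P.isPGroup'
      (fun ω => aux_index_p htr p m hlt hΩ P ω)
  · have hmeq : m = p := le_antisymm hmp hge
    subst hmeq
    have hΩ2 : Fintype.card Ω = m ^ 2 := by rw [hΩ, sq]
    have hpos : 0 < Fintype.card Ω := by rw [hΩ2]; exact pow_pos hp.pos 2
    obtain ⟨ω₀⟩ := Fintype.card_pos_iff.mp hpos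
    let P : Sylow m G := default
    have htrans := aux_sylow_trans htr m 2 hΩ2 P ω₀
    apply aux_central_derangement m (P : Subgroup G) P.isPGroup' ω₀ htrans
    by_contra hnt
    rw [not_nontrivial_iff_subsingleton] at hnt
    have hsub : (orbit (P : Subgroup G) ω₀).Subsingleton := by
      rintro x ⟨a, rfl⟩ y ⟨b, rfl⟩
      rw [Subsingleton.elim a b]
    rw [htrans] at hsub
    have h1 : Fintype.card Ω ≤ 1 := by
      rw [Fintype.card_le_one_iff_subsingleton]
      exact ⟨fun a b => hsub (Set.mem_univ a) (Set.mem_univ b)⟩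
    rw [hΩ] at h1
    have h2 := hp.one_lt
    have h3 : m * 1 < m * m := Nat.mul_lt_mul_of_pos_left h2 hp.pos
    omega

end Cfsg.Agent.S5727
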