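-- Statement S5728.
import Cfsg.Statements.S5728
-- import your own Cfsg.Agent.* helpers here

set_option autoImplicit false
open Cfsg

namespace Cfsg.Agent.S5728


theorem mem_prime_field {p : ℕ} [Fact p.Prime] {L : Type*} [Field L] [Algebra (ZMod p) L] (x : L)
    (hx : x ^ p = x) : ∃ a : ZMod p, algebraMap (ZMod p) L a = x := by
  classical
  by_contra hcon
  push Not at hcon
  have hp1 : 1 < p := (Fact.out : p.Prime).one_lt
  set P : Polynomial L := Polynomial.X ^ p - Polynomial.X with hP
  have hP0 : P ≠ 0 := FiniteField.X_pow_card_sub_X_ne_zero L hp1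
  have hdeg : P.natDegree = p := FiniteField.X_pow_card_sub_X_natDegree_eq L hp1
  set Z0 : Finset L := Finset.univ.image (algebraMap (ZMod p) L) with hZ0
  have hxZ0 : x ∉ Z0 := by
    intro h
    rw [hZ0, Finset.mem_image] at h
    obtain ⟨a, _, ha⟩ := h
    exact hcon a ha
  set Z : Finset L := insert x Z0 with hZdef
  have hZ : Z.val ⊆ P.roots := by
    intro y hy
    rw [Polynomial.mem_roots hP0, Polynomial.IsRoot, hP]
    simp only [Polynomial.eval_sub, Polynomial.eval_pow, Polynomial.eval_X]
    rw [Finset.mem_val, hZdef, Finset.mem_insert] at hy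
    rcases hy with rfl | hy
    · rw [hx, sub_self]
    · rw [hZ0, Finset.mem_image] at hy
      obtain ⟨a, _, rfl⟩ := hy
      rw [← map_pow, ZMod.pow_card, sub_self]
  have hcard : Z.card = p + 1 := by
    rw [hZdef, Finset.card_insert_of_notMem hxZ0, hZ0,
      Finset.card_image_of_injective _ (algebraMap (ZMod p) L).injective, Finset.card_univ, ZMod.card]
  have := Polynomial.card_le_degree_of_subset_roots hZ
  omega

theorem pow_affine {R : Type*} [Ring R] (g : Equiv.Perm R) (α β : R) (h : ∀ x, g x = α * x + β) (k : ℕ) :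
    ∃ b : R, ∀ x, (g ^ k) x = α ^ k * x + b := by
  induction k with
  | zero => exact ⟨0, fun x => by simp⟩
  | succ k ih =>
    obtain ⟨b, hb⟩ := ih
    refine ⟨α * b + β, fun x => ?_⟩
    rw [pow_succ', Equiv.Perm.mul_apply, hb, h, pow_succ']
    noncomm_ring

theorem main_aux (p s : ℕ) [Fact p.Prime] (hs : p = 2 ^ s - 1)
    (g : Equiv.Perm (GaloisField p 2)) (hg : g ∈ Cfsg.affineGroup (GaloisField p 2)) (hord : (orderOf g).Prime) :
    ∃ x ∈ Cfsg.affineGroup (GaloisField p 2), ∃ a b : ZMod p, a ≠ 0 ∧
      ∀ y : GaloisField p 2, (x * g * x⁻¹) y = algebraMap (ZMod p) (GaloisField p 2) a * y + algebraMap (ZMod p) (GaloisField p 2) b := by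
  classical
  have hp : p.Prime := Fact.out
  obtain ⟨α, β, hαβ⟩ := hg
  have hg1 : g ≠ 1 := by
    intro h
    rw [h, orderOf_one] at hord
    exact Nat.not_prime_one hord
  by_cases hα : (α : GaloisField p 2) = 1
  · -- translation
    have hβ : β ≠ 0 := by
      intro h
      apply hg1
      ext x
      rw [hαβ, hα, h]; simp
    refine ⟨Equiv.mulLeft₀ β⁻¹ (inv_ne_zero hβ), ⟨Units.mk0 β⁻¹ (inv_ne_zero hβ), 0, fun x => by simp⟩, 1, 1, one_ne_zero, fun y => ?_⟩
    have hinv : (Equiv.mulLeft₀ β⁻¹ (inv_ne_zero hβ))⁻¹ y = β * y := by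
      rw [Equiv.Perm.inv_def, Equiv.symm_apply_eq]
      simp [hβ]
    rw [Equiv.Perm.mul_apply, Equiv.Perm.mul_apply, hinv, hαβ, hα]
    simp only [Equiv.mulLeft₀_apply, map_one, one_mul]
    field_simp
  · -- fixed point
    have h1α : (1 : GaloisField p 2) - α ≠ 0 := fun h => hα (by rw [sub_eq_zero] at h; exact h.symm)
    set x₀ : GaloisField p 2 := β / (1 - α) with hx₀
    -- α ∈ prime field
    have hαpow : (α : GaloisField p 2) ^ (orderOf g) = 1 := by
      obtain ⟨b, hb⟩ := pow_affine g α β hαβ (orderOf g)
      rw [pow_orderOf_eq_one] at hb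
      have h0 := hb 0
      have h1 := hb 1
      simp only [Equiv.Perm.one_apply, mul_zero, zero_add] at h0
      rw [← h0] at h1
      simpa using h1.symm
    have hαu : α ^ (orderOf g) = 1 := Units.ext (by simpa using hαpow)
    have hordα : orderOf α = orderOf g := by
      have hdvd := orderOf_dvd_of_pow_eq_one hαu
      rcases (Nat.dvd_prime hord).mp hdvd with h | h
      · exfalso
        rw [orderOf_eq_one_iff] at h
        apply hα; rw [h]; rfl
      · exact h
    have hcardF : Nat.card (GaloisField p 2) = p ^ 2 := GaloisField.card p 2 (by norm_num)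
    have hdvd1 : orderOf g ∣ p ^ 2 - 1 := by
      rw [← hordα]
      have := orderOf_dvd_natCard α
      rwa [Nat.card_units, hcardF] at this
    have hp2 : 2 ≤ p := hp.two_le
    have hpow2 : 2 ^ s = p + 1 := by omega
    have hpodd : p ≠ 2 := by
      intro h
      rw [h] at hpow2
      have : (2 : ℕ) ∣ 2 ^ s := dvd_pow_self 2 (by rintro rfl; simp at hpow2)
      omega
    have hfac : p ^ 2 - 1 = (p - 1) * 2 ^ s := by
      rw [hpow2]
      obtain ⟨k, rfl⟩ : ∃ k, p = k + 1 := ⟨p - 1, by omega⟩
      simp only [Nat.add_sub_cancel]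
      have : (k + 1) ^ 2 = k * (k + 1 + 1) + 1 := by ring
      omega
    have hdvd2 : orderOf g ∣ p - 1 := by
      rw [hfac] at hdvd1
      rcases (Nat.Prime.dvd_mul hord).mp hdvd1 with h | h
      · exact h
      · have h2 := (Nat.prime_dvd_prime_iff_eq hord Nat.prime_two).mp (hord.dvd_of_dvd_pow h)
        rw [h2]
        rcases hp.eq_two_or_odd with h3 | h3
        · exact absurd h3 hpodd
        · omega
    have hαp : (α : GaloisField p 2) ^ p = α := by
      obtain ⟨k, hk⟩ := hdvd2
      have : (α : GaloisField p 2) ^ (p - 1) = 1 := by rw [hk, pow_mul, hαpow, one_pow]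
      calc (α : GaloisField p 2) ^ p = α ^ (p - 1 + 1) := by congr 1; omega
        _ = α := by rw [pow_succ, this, one_mul]
    obtain ⟨a, ha⟩ := mem_prime_field (α : GaloisField p 2) hαp
    refine ⟨Equiv.addRight (-x₀), ⟨1, -x₀, fun x => by simp⟩, a, 0, ?_, fun y => ?_⟩
    · rintro rfl
      rw [map_zero] at ha
      exact α.ne_zero ha.symm
    · have hinv : (Equiv.addRight (-x₀))⁻¹ y = y + x₀ := by
        rw [Equiv.Perm.inv_def, Equiv.symm_apply_eq]
        simp
      rw [Equiv.Perm.mul_apply, Equiv.Perm.mul_apply, hinv, hαβ, ha, map_zero, add_zero]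
      simp only [Equiv.coe_addRight]
      rw [hx₀]
      field_simp
      ring


/-- An elusive transitive action. Let p = 2^s − 1 be a prime and let F be the field with p² elements. Inside the group of affine maps x ↦ a·x + b of F (a ≠ 0), consider the subgroup of maps with both coefficients in the prime field. Then every element of prime order of the affine group is conjugate, within the affine group, to an element of that subgroup; equivalently, in the transitive action of the affine group on the cosets of that subgroup (of degree p(p + 1)) every element of prime order fixes a point. -/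
theorem result (p s : ℕ) [Fact p.Prime] (hs : p = 2 ^ s - 1)
    (g : Equiv.Perm (GaloisField p 2)) (hg : g ∈ Cfsg.affineGroup (GaloisField p 2)) (hord : (orderOf g).Prime) :
    ∃ x ∈ Cfsg.affineGroup (GaloisField p 2), ∃ a b : ZMod p, a ≠ 0 ∧
      ∀ y : GaloisField p 2, (x * g * x⁻¹) y = algebraMap (ZMod p) (GaloisField p 2) a * y + algebraMap (ZMod p) (GaloisField p 2) b := by
  exact main_aux p s hs g hg hord

end Cfsg.Agent.S5728
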