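-- Statement S5729.
import Cfsg.Statements.S5729
-- import your own Cfsg.Agent.* helpers here

set_option autoImplicit false
open Cfsg

namespace Cfsg.Agent.S5729

open MulAction

theorem aux_sum1 {G Ω : Type*} [Group G] [Fintype G] [MulAction G Ω] [Fintype Ω]
    (htr : IsPretransitive G Ω) [Nonempty Ω] :
    ∑ g : G, Nat.card (fixedBy Ω g) = Fintype.card G := by
  classical
  have h := sum_card_fixedBy_eq_card_orbits_mul_card_group G Ω
  obtain ⟨u⟩ := (pretransitive_iff_unique_quotient_of_nonempty G Ω).mp htr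
  have h1 : Fintype.card (Quotient (orbitRel G Ω)) = 1 := by
    rw [Fintype.card_eq_one_iff]
    exact ⟨u.default, fun y => u.uniq y⟩
  rw [h1, one_mul] at h
  rw [← h]
  apply Finset.sum_congr rfl
  intro g _
  rw [Nat.card_eq_fintype_card]

theorem aux_sum2 {G Ω : Type*} [Group G] [Fintype G] [MulAction G Ω] [Fintype Ω]
    (hn : 2 ≤ Fintype.card Ω) :
    2 * Fintype.card G ≤ ∑ g : G, (Nat.card (fixedBy Ω g)) ^ 2 := by
  classical
  have h := sum_card_fixedBy_eq_card_orbits_mul_card_group G (Ω × Ω)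
  have h1 : 2 ≤ Fintype.card (Quotient (orbitRel G (Ω × Ω))) := by
    obtain ⟨a, b, hab⟩ := Fintype.one_lt_card_iff.mp (by omega : 1 < Fintype.card Ω)
    apply Fintype.one_lt_card_iff.mpr
    refine ⟨Quotient.mk'' (a, a), Quotient.mk'' (a, b), ?_⟩
    intro heq
    rw [Quotient.eq''] at heq
    change (a, a) ∈ orbit G (a, b) at heq
    obtain ⟨g, hg⟩ := heq
    have h1 : g • a = a := congrArg Prod.fst hg
    have h2 : g • b = a := congrArg Prod.snd hg
    exact hab (smul_left_cancel g (h1.trans h2.symm))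
  have h2 : ∀ g : G, Fintype.card (fixedBy (Ω × Ω) g) = (Nat.card (fixedBy Ω g)) ^ 2 := by
    intro g
    rw [Nat.card_eq_fintype_card, sq, ← Fintype.card_prod]
    apply Fintype.card_congr
    refine ⟨fun x => (⟨x.1.1, congrArg Prod.fst x.2⟩, ⟨x.1.2, congrArg Prod.snd x.2⟩),
      fun y => ⟨(y.1.1, y.2.1), Prod.ext y.1.2 y.2.2⟩, fun x => rfl, fun y => rfl⟩
  calc 2 * Fintype.card G ≤ Fintype.card (Quotient (orbitRel G (Ω × Ω))) * Fintype.card G :=
        Nat.mul_le_mul_right _ h1
    _ = ∑ g : G, Fintype.card (fixedBy (Ω × Ω) g) := h.symm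
    _ = _ := Finset.sum_congr rfl (fun g _ => h2 g)


theorem aux_arith1 (f n : ℕ) (h1 : 1 ≤ f) (h2 : f ≤ n) : f ^ 2 + n ≤ (n + 1) * f := by
  obtain ⟨k, rfl⟩ : ∃ k, f = k + 1 := ⟨f - 1, by omega⟩
  obtain ⟨m, rfl⟩ : ∃ m, n = k + 1 + m := ⟨n - (k + 1), by omega⟩
  have : (k + 1 + m + 1) * (k + 1) = (k + 1) ^ 2 + (k + 1 + m) + m * k := by ring
  omega

theorem aux_arith2 (f n : ℕ) (h1 : 1 ≤ f) (h2 : f ≤ n) (h : f ^ 2 + n = (n + 1) * f) : f = 1 ∨ f = n := by
  obtain ⟨k, rfl⟩ : ∃ k, f = k + 1 := ⟨f - 1, by omega⟩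
  obtain ⟨m, rfl⟩ : ∃ m, n = k + 1 + m := ⟨n - (k + 1), by omega⟩
  have : (k + 1 + m + 1) * (k + 1) = (k + 1) ^ 2 + (k + 1 + m) + m * k := by ring
  have h0 : m * k = 0 := by omega
  rcases Nat.mul_eq_zero.mp h0 with h | h
  · right; omega
  · left; omega

/-- the core counting argument -/
theorem aux_core {G : Type*} [Fintype G] [DecidableEq G] (one : G) (n : ℕ) (hn : 3 ≤ n) (fix : G → ℕ)
    (hS1 : ∑ g, fix g = Fintype.card G)
    (hS2 : 2 * Fintype.card G ≤ ∑ g, fix g ^ 2)
    (hle : ∀ g, fix g ≤ n) (hone : fix one = n) (hfn : ∀ g, fix g = n → g = one) :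
    ((∃ g, g ≠ one ∧ fix g ≠ 0) ∧ (∀ g, g ≠ one → fix g ≤ 1) ∧ Fintype.card G = n * (n - 1) ∧
      n * (Finset.univ.filter (fun g => fix g = 0)).card = Fintype.card G) ∨
    Fintype.card G < n * (Finset.univ.filter (fun g => fix g = 0)).card := by
  set A := Finset.univ.filter (fun g => fix g ≠ 0) with hA
  set D := Finset.univ.filter (fun g => fix g = 0) with hD
  have hAD : D.card + A.card = Fintype.card G := by
    rw [hA, hD]
    exact Finset.card_filter_add_card_filter_not (fun g => fix g = 0)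
  have hterm : ∀ g ∈ A, fix g ^ 2 + n ≤ (n + 1) * fix g := by
    intro g hg
    rw [hA, Finset.mem_filter] at hg
    exact aux_arith1 _ _ (Nat.one_le_iff_ne_zero.mpr hg.2) (hle g)
  have hsumA1 : ∑ g ∈ A, fix g = Fintype.card G := by
    rw [← hS1, hA]; exact Finset.sum_filter_ne_zero _
  have hsumA2 : ∑ g ∈ A, fix g ^ 2 = ∑ g, fix g ^ 2 := by
    rw [hA]
    apply Finset.sum_filter_of_ne
    intro g _ hg h0
    apply hg
    rw [h0]; rfl
  have hsumL : ∑ g ∈ A, (fix g ^ 2 + n) = ∑ g, fix g ^ 2 + n * A.card := by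
    rw [Finset.sum_add_distrib, hsumA2, Finset.sum_const, smul_eq_mul, mul_comm]
  have hsumR : ∑ g ∈ A, (n + 1) * fix g = (n + 1) * Fintype.card G := by
    rw [← Finset.mul_sum, hsumA1]
  have hmain : ∑ g ∈ A, (fix g ^ 2 + n) ≤ ∑ g ∈ A, (n + 1) * fix g := Finset.sum_le_sum hterm
  rw [hsumL, hsumR] at hmain
  have e1 : (n + 1) * Fintype.card G = n * Fintype.card G + Fintype.card G := by ring
  have e2 : n * Fintype.card G = n * D.card + n * A.card := by rw [← hAD]; ring
  by_cases hlt : Fintype.card G < n * D.card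
  · right; exact hlt
  left
  have heq : n * D.card = Fintype.card G := by omega
  have hS2' : ∑ g, fix g ^ 2 = 2 * Fintype.card G := by omega
  have hsumeq : ∑ g ∈ A, (fix g ^ 2 + n) = ∑ g ∈ A, (n + 1) * fix g := by
    rw [hsumL, hsumR]; omega
  have htermeq := (Finset.sum_eq_sum_iff_of_le hterm).mp hsumeq
  have hA1n : ∀ g ∈ A, fix g = 1 ∨ fix g = n := by
    intro g hg
    have := htermeq g hg
    rw [hA, Finset.mem_filter] at hg
    exact aux_arith2 _ _ (Nat.one_le_iff_ne_zero.mpr hg.2) (hle g) this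
  have hfix1 : ∀ g, g ≠ one → fix g ≤ 1 := by
    intro g hg
    by_cases h0 : fix g = 0
    · omega
    · have hgA : g ∈ A := by rw [hA, Finset.mem_filter]; exact ⟨Finset.mem_univ g, h0⟩
      rcases hA1n g hgA with h | h
      · omega
      · exact absurd (hfn g h) hg
  have honeA : one ∈ A := by
    rw [hA, Finset.mem_filter]; exact ⟨Finset.mem_univ _, by omega⟩
  -- sum over A of fix = n + (|A| - 1)
  have hsumA3 : ∑ g ∈ A, fix g = n + (A.card - 1) := by
    rw [← Finset.add_sum_erase A fix honeA, hone]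
    congr 1
    rw [← Finset.card_erase_of_mem honeA]
    rw [Finset.card_eq_sum_ones]
    apply Finset.sum_congr rfl
    intro g hg
    rw [Finset.mem_erase] at hg
    have h1 := hfix1 g hg.1
    have h2 : fix g ≠ 0 := by
      have := hg.2; rw [hA, Finset.mem_filter] at this; exact this.2
    omega
  have hApos : 1 ≤ A.card := Finset.card_pos.mpr ⟨one, honeA⟩
  have hDcard : D.card = n - 1 := by
    rw [hsumA1] at hsumA3
    omega
  have hG : Fintype.card G = n * (n - 1) := by rw [← heq, hDcard]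
  refine ⟨?_, hfix1, hG, heq⟩
  -- existence of nonidentity element with a fixed point: |A| ≥ 2
  have hA2 : 1 < A.card := by
    rw [hsumA1] at hsumA3
    have : n * (n - 1) = n + (A.card - 1) := by rw [← hG]; exact hsumA3
    obtain ⟨k, rfl⟩ : ∃ k, n = k + 3 := ⟨n - 3, by omega⟩
    have e3 : (k + 3) * (k + 3 - 1) = (k + 3) + (k * k + 4 * k + 3) := by
      have : k + 3 - 1 = k + 2 := by omega
      rw [this]; ring
    have : 0 ≤ k * k := Nat.zero_le _
    omega
  obtain ⟨g, hgA, hgne⟩ := Finset.exists_mem_ne hA2 one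
  refine ⟨g, hgne, ?_⟩
  rw [hA, Finset.mem_filter] at hgA
  exact hgA.2


/-- Let a finite group G act faithfully and transitively on a set with n ≥ 3 points. Then either G is a Frobenius permutation group (Frobenius as a permutation group: transitive, some non-identity element fixes a point, and no non-identity element fixes two points) of order n(n − 1) and exactly |G|/n of its elements are derangements (fix no point), or the number of derangements is greater than |G|/n. -/
theorem result {G Ω : Type*} [Group G] [Finite G] [MulAction G Ω] [FaithfulSMul G Ω] [Fintype Ω] (htr : MulAction.IsPretransitive G Ω) (hn : 3 ≤ Fintype.card Ω) :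
    ((MulAction.IsPretransitive G Ω ∧ (∃ g : G, g ≠ 1 ∧ ∃ ω : Ω, g • ω = ω) ∧ ∀ g : G, g ≠ 1 → Nat.card (MulAction.fixedBy Ω g) ≤ 1) ∧ Nat.card G = Fintype.card Ω * (Fintype.card Ω - 1) ∧ Fintype.card Ω * Nat.card {g : G // ∀ ω : Ω, g • ω ≠ ω} = Nat.card G) ∨
    Nat.card G < Fintype.card Ω * Nat.card {g : G // ∀ ω : Ω, g • ω ≠ ω} := by
  classical
  cases nonempty_fintype G
  have hne : Nonempty Ω := Fintype.card_pos_iff.mp (by omega)
  set fix : G → ℕ := fun g => Nat.card (fixedBy Ω g) with hfix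
  have hS1 : ∑ g, fix g = Fintype.card G := aux_sum1 htr
  have hS2 : 2 * Fintype.card G ≤ ∑ g, fix g ^ 2 := aux_sum2 (by omega)
  have hle : ∀ g, fix g ≤ Fintype.card Ω := by
    intro g
    rw [← Nat.card_eq_fintype_card]
    exact Nat.card_le_card_of_injective Subtype.val Subtype.val_injective
  have hone : fix 1 = Fintype.card Ω := by
    simp only [hfix]
    rw [MulAction.fixedBy_one_eq_univ, Nat.card_coe_set_eq, Set.ncard_univ, Nat.card_eq_fintype_card]
  have hfn : ∀ g, fix g = Fintype.card Ω → g = 1 := by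
    intro g hg
    simp only [hfix] at hg
    rw [Nat.card_coe_set_eq, ← Nat.card_eq_fintype_card, ← Set.eq_univ_iff_ncard] at hg
    apply FaithfulSMul.eq_of_smul_eq_smul (α := Ω)
    intro ω
    rw [one_smul]
    have : ω ∈ fixedBy Ω g := by rw [hg]; exact Set.mem_univ ω
    exact this
  have hf0 : ∀ g, fix g = 0 ↔ ∀ ω : Ω, g • ω ≠ ω := by
    intro g
    simp only [hfix]
    rw [Nat.card_coe_set_eq, Set.ncard_eq_zero, Set.eq_empty_iff_forall_notMem]
    rfl
  have hD : Nat.card {g : G // ∀ ω : Ω, g • ω ≠ ω} = (Finset.univ.filter (fun g => fix g = 0)).card := by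
    rw [Nat.card_eq_fintype_card, Fintype.card_subtype]
    congr 1
    ext g
    simp only [Finset.mem_filter, Finset.mem_univ, true_and]
    exact (hf0 g).symm
  rw [hD, Nat.card_eq_fintype_card]
  rcases aux_core (1 : G) (Fintype.card Ω) hn fix hS1 hS2 hle hone hfn with h | h
  · left
    obtain ⟨⟨g, hg1, hg2⟩, h2, h3, h4⟩ := h
    refine ⟨⟨htr, ⟨g, hg1, ?_⟩, h2⟩, h3, h4⟩
    by_contra hcon
    push Not at hcon
    exact hg2 ((hf0 g).mpr hcon)
  · right; exact h

end Cfsg.Agent.S5729
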