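-- Statement S5738.
import Cfsg.Statements.S5738
-- import your own Cfsg.Agent.* helpers here

set_option autoImplicit false
open Cfsg

namespace Cfsg.Agent.S5738


section
variable {F K : Type*} [Field F] [Field K] [Algebra F K]

/-- multiplication map as monoid hom into End -/
noncomputable abbrev Lm (F K : Type*) [Field F] [Field K] [Algebra F K] : K →* Module.End F K :=
  ((Algebra.lmul F K : K →ₐ[F] Module.End F K) : K →* Module.End F K)

theorem Lm_apply (k x : K) : Lm F K k x = k * x := by simp [Lm]

theorem Lm_injective : Function.Injective (Lm F K) := by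
  intro a b h
  have := congrArg (fun φ : Module.End F K => φ 1) h
  simpa [Lm_apply] using this

/-- unit of End from an algebra automorphism -/
noncomputable def uAut (σ : K ≃ₐ[F] K) : (Module.End F K)ˣ :=
  LinearMap.GeneralLinearGroup.ofLinearEquiv σ.toLinearEquiv

theorem uAut_apply (σ : K ≃ₐ[F] K) (x : K) : ((uAut σ : (Module.End F K)ˣ) : Module.End F K) x = σ x := rfl

theorem uAut_inv_apply (σ : K ≃ₐ[F] K) (x : K) :
    (((uAut σ)⁻¹ : (Module.End F K)ˣ) : Module.End F K) x = σ.symm x := rfl

noncomputable def Psi (p : Kˣ × (K ≃ₐ[F] K)) : (Module.End F K)ˣ := Units.map (Lm F K) p.1 * uAut p.2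

theorem Psi_apply (c : Kˣ) (σ : K ≃ₐ[F] K) (x : K) :
    ((Psi (c, σ) : (Module.End F K)ˣ) : Module.End F K) x = c * σ x := by
  simp only [Psi, Units.val_mul, Units.coe_map, Module.End.mul_apply, uAut_apply]
  exact Lm_apply _ _

theorem Psi_injective : Function.Injective (Psi : Kˣ × (K ≃ₐ[F] K) → (Module.End F K)ˣ) := by
  rintro ⟨c, σ⟩ ⟨c', σ'⟩ h
  have h1 : ∀ x : K, (c : K) * σ x = c' * σ' x := by
    intro x
    rw [← Psi_apply, ← Psi_apply, h]
  have hc : c = c' := by
    apply Units.ext
    have := h1 1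
    simpa using this
  subst hc
  have hσ : σ = σ' := by
    ext x
    have := h1 x
    exact mul_left_cancel₀ c.ne_zero this
  rw [hσ]

theorem conj_uAut (σ : K ≃ₐ[F] K) (k : Kˣ) :
    uAut σ * Units.map (Lm F K) k * (uAut σ)⁻¹ = Units.map (Lm F K) (Units.map (σ : K →* K) k) := by
  apply Units.ext
  apply LinearMap.ext
  intro x
  simp only [Units.val_mul, Module.End.mul_apply, Units.coe_map, uAut_apply, uAut_inv_apply]
  rw [Lm_apply, Lm_apply]
  simp

end

section
variable {F K : Type*} [Field F] [Field K] [Algebra F K]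

theorem uAut_symm (σ : K ≃ₐ[F] K) : uAut σ.symm = (uAut σ)⁻¹ := by
  apply Units.ext
  apply LinearMap.ext
  intro x
  rw [uAut_apply, uAut_inv_apply]

theorem uAut_mem_normalizer (σ : K ≃ₐ[F] K) :
    uAut σ ∈ Subgroup.normalizer (((Units.map (Lm F K)).range : Subgroup (Module.End F K)ˣ) : Set (Module.End F K)ˣ) := by
  rw [Subgroup.mem_normalizer_iff]
  intro h
  constructor
  · rintro ⟨k, rfl⟩
    exact ⟨_, (conj_uAut σ k).symm⟩
  · rintro ⟨k, hk⟩
    refine ⟨Units.map (σ.symm : K →* K) k, ?_⟩
    rw [← conj_uAut σ.symm k, hk, uAut_symm]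
    group

theorem Psi_mem_normalizer (p : Kˣ × (K ≃ₐ[F] K)) :
    Psi p ∈ Subgroup.normalizer (((Units.map (Lm F K)).range : Subgroup (Module.End F K)ˣ) : Set (Module.End F K)ˣ) := by
  apply Subgroup.mul_mem
  · exact Subgroup.le_normalizer ⟨p.1, rfl⟩
  · exact uAut_mem_normalizer p.2

theorem normalizer_subset_range [FiniteDimensional F K] (g : (Module.End F K)ˣ)
    (hg : g ∈ Subgroup.normalizer (((Units.map (Lm F K)).range : Subgroup (Module.End F K)ˣ) : Set (Module.End F K)ˣ)) :
    ∃ p : Kˣ × (K ≃ₐ[F] K), Psi p = g := by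
  rw [Subgroup.mem_normalizer_iff] at hg
  -- τ as a linear map
  let ev1 : Module.End F K →ₗ[F] K := LinearMap.applyₗ (1 : K)
  let conjg : Module.End F K →ₗ[F] Module.End F K :=
    (LinearMap.mulLeft F (g : Module.End F K)).comp (LinearMap.mulRight F ((g⁻¹ : (Module.End F K)ˣ) : Module.End F K))
  let τl : K →ₗ[F] K := ev1.comp (conjg.comp (Algebra.lmul F K).toLinearMap)
  have hτl : ∀ k : K, τl k = ((g : Module.End F K) * Lm F K k * ((g⁻¹ : (Module.End F K)ˣ) : Module.End F K)) 1 := by
    intro k
    simp [τl, ev1, conjg, mul_assoc]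
  have hkey : ∀ k : K, (g : Module.End F K) * Lm F K k * ((g⁻¹ : (Module.End F K)ˣ) : Module.End F K) = Lm F K (τl k) := by
    intro k
    by_cases hk : k = 0
    · subst hk
      simp
    · obtain ⟨k', hk'⟩ := (hg (Units.map (Lm F K) (Units.mk0 k hk))).mp ⟨_, rfl⟩
      have h1 := congrArg (fun u : (Module.End F K)ˣ => (u : Module.End F K)) hk'
      simp only [Units.coe_map, Units.val_mul, Units.val_mk0] at h1
      rw [hτl, ← h1]
      congr 1
      rw [Lm_apply, mul_one]
  have hmul : ∀ a b : K, τl (a * b) = τl a * τl b := by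
    intro a b
    apply Lm_injective (F := F)
    rw [map_mul (Lm F K) (τl a) (τl b), ← hkey, ← hkey a, ← hkey b, map_mul (Lm F K) a b]
    have : ((g⁻¹ : (Module.End F K)ˣ) : Module.End F K) * (g : Module.End F K) = 1 := by
      rw [← Units.val_mul, inv_mul_cancel, Units.val_one]
    calc (g : Module.End F K) * (Lm F K a * Lm F K b) * ((g⁻¹ : (Module.End F K)ˣ) : Module.End F K)
        = (g : Module.End F K) * Lm F K a * (1 : Module.End F K) * Lm F K b * ((g⁻¹ : (Module.End F K)ˣ) : Module.End F K) := by
          simp [mul_assoc]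
      _ = _ := by rw [← this]; simp [mul_assoc]
  have hone : τl 1 = 1 := by
    apply Lm_injective (F := F)
    rw [← hkey, map_one, mul_one, ← Units.val_mul, mul_inv_cancel, Units.val_one]
  let τ : K →ₐ[F] K := AlgHom.ofLinearMap τl hone hmul
  have hτbij : Function.Bijective τ := AlgHom.bijective τ
  let σ : K ≃ₐ[F] K := AlgEquiv.ofBijective τ hτbij
  have hginj : Function.Injective ((g : Module.End F K) : K → K) := by
    intro a b hab
    have h1 : ((g⁻¹ : (Module.End F K)ˣ) : Module.End F K) ((g : Module.End F K) a) = a := by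
      rw [← Module.End.mul_apply, Units.inv_mul, Module.End.one_apply]
    have h2 : ((g⁻¹ : (Module.End F K)ˣ) : Module.End F K) ((g : Module.End F K) b) = b := by
      rw [← Module.End.mul_apply, Units.inv_mul, Module.End.one_apply]
    rw [← h1, ← h2, hab]
  have hc : (g : Module.End F K) 1 ≠ 0 := by
    intro h
    have : (g : Module.End F K) 1 = (g : Module.End F K) 0 := by rw [h, map_zero]
    exact one_ne_zero (hginj this)
  refine ⟨(Units.mk0 _ hc, σ), ?_⟩
  apply Units.ext
  apply LinearMap.ext
  intro x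
  rw [Psi_apply]
  -- g x = τ x * g 1
  have h2 : (g : Module.End F K) * Lm F K x = Lm F K (τl x) * (g : Module.End F K) := by
    rw [← hkey x]
    have : ((g⁻¹ : (Module.End F K)ˣ) : Module.End F K) * (g : Module.End F K) = 1 := by
      rw [← Units.val_mul, inv_mul_cancel, Units.val_one]
    rw [mul_assoc, mul_assoc, this, mul_one]
  have h3 := congrArg (fun φ : Module.End F K => φ 1) h2
  simp only [Module.End.mul_apply, Lm_apply, mul_one] at h3
  rw [h3, Units.val_mk0, mul_comm]
  rfl
end


/-- Let F ⊆ K be finite fields with |F| = q and [K : F] = n ≥ 2, so |K| = q^n. Regard K as an n-dimensional F-vector space; the multiplications by non-zero elements of K form a cyclic subgroup of GL_F(K) of order q^n − 1 acting regularly on the non-zero vectors (a Singer group). Its normaliser in GL_F(K) has order n·(q^n − 1). -/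
theorem result {F K : Type*} [Field F] [Fintype F] [Field K] [Fintype K] [Algebra F K] (n : ℕ) (hn : 2 ≤ n) (hdim : Module.finrank F K = n) :
    Nat.card (Subgroup.normalizer (((Units.map ((Algebra.lmul F K : K →ₐ[F] Module.End F K) : K →* Module.End F K)).range : Subgroup (Module.End F K)ˣ) : Set (Module.End F K)ˣ)) = n * (Fintype.card K - 1) := by
  classical
  have hfd : FiniteDimensional F K := Module.Finite.of_finite
  have hsurj : Function.Surjective (fun p : Kˣ × (K ≃ₐ[F] K) =>
      (⟨Psi p, Psi_mem_normalizer p⟩ : Subgroup.normalizer (((Units.map (Lm F K)).range : Subgroup (Module.End F K)ˣ) : Set (Module.End F K)ˣ))) := by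
    rintro ⟨g, hg⟩
    obtain ⟨p, hp⟩ := normalizer_subset_range g hg
    exact ⟨p, Subtype.ext hp⟩
  have hinj : Function.Injective (fun p : Kˣ × (K ≃ₐ[F] K) =>
      (⟨Psi p, Psi_mem_normalizer p⟩ : Subgroup.normalizer (((Units.map (Lm F K)).range : Subgroup (Module.End F K)ˣ) : Set (Module.End F K)ˣ))) := by
    intro p q h
    exact Psi_injective (congrArg Subtype.val h)
  have := Nat.card_congr (Equiv.ofBijective _ ⟨hinj, hsurj⟩)
  change _ = Nat.card (Subgroup.normalizer (((Units.map ((Algebra.lmul F K : K →ₐ[F] Module.End F K) : K →* Module.End F K)).range : Subgroup (Module.End F K)ˣ) : Set (Module.End F K)ˣ)) at this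
  rw [← this, Nat.card_prod, IsGalois.card_aut_eq_finrank, hdim, Nat.card_eq_fintype_card,
    Fintype.card_units, mul_comm]

end Cfsg.Agent.S5738
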