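-- Statement S5739.
import Cfsg.Statements.S5739
-- import your own Cfsg.Agent.* helpers here

set_option autoImplicit false
open Cfsg

namespace Cfsg.Agent.S5739


section
variable {F K : Type*} [Field F] [Field K] [Algebra F K]

/-- multiplication map as monoid hom into End -/
noncomputable abbrev Lm (F K : Type*) [Field F] [Field K] [Algebra F K] : K →* Module.End F K :=
  ((Algebra.lmul F K : K →ₐ[F] Module.End F K) : K →* Module.End F K)

theorem Lm_apply (k x : K) : Lm F K k x = k * x := by simp [Lm]

theorem Lm_injective : Function.Injective (Lm F K) := by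
  intro a b h
  have := congrArg (fun φ : Module.End F K => φ 1) h
  simpa [Lm_apply] using this

theorem Lm_zero : Lm F K 0 = 0 := by
  apply LinearMap.ext
  intro x
  rw [Lm_apply, zero_mul]; rfl

/-- conjugation by a unit as an algebra automorphism of End -/
noncomputable def cg (g : (Module.End F K)ˣ) : Module.End F K ≃ₐ[F] Module.End F K :=
  (LinearMap.GeneralLinearGroup.toLinearEquiv g).conjAlgEquiv F

theorem cg_apply (g : (Module.End F K)ˣ) (φ : Module.End F K) :
    cg g φ = (g : Module.End F K) * φ * ((g⁻¹ : (Module.End F K)ˣ) : Module.End F K) := by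
  apply LinearMap.ext
  intro x
  rfl

noncomputable def Tsub (g : (Module.End F K)ˣ) : Subalgebra F K :=
  (((Algebra.lmul F K).range) ⊓ ((Algebra.lmul F K).range.map (cg g).toAlgHom)).comap (Algebra.lmul F K)

theorem mem_Tsub (g : (Module.End F K)ˣ) (k : K) :
    k ∈ Tsub g ↔ ∃ k' : K, (g : Module.End F K) * Lm F K k' * ((g⁻¹ : (Module.End F K)ˣ) : Module.End F K) = Lm F K k := by
  rw [Tsub, Subalgebra.mem_comap, Algebra.mem_inf]
  constructor
  · rintro ⟨_, hk⟩
    obtain ⟨φ, ⟨k', rfl⟩, hφ⟩ := hk
    refine ⟨k', ?_⟩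
    rw [← cg_apply]
    exact hφ
  · rintro ⟨k', hk'⟩
    refine ⟨⟨k, rfl⟩, ⟨Algebra.lmul F K k', ⟨k', rfl⟩, ?_⟩⟩
    rw [← cg_apply] at hk'
    exact hk'
end

section
variable {F K : Type*} [Field F] [Fintype F] [Field K] [Fintype K] [Algebra F K]

theorem main_aux (n : ℕ) (hdim : Module.finrank F K = n)
    (g : (Module.End F K)ˣ) (hg : ((Units.map (Lm F K)).range).map (MulAut.conj g).toMonoidHom ≠ (Units.map (Lm F K)).range) :
    ∃ r : ℕ, 1 ≤ r ∧ r ∣ n ∧ r < n ∧ Nat.card ↥(((Units.map (Lm F K)).range).map (MulAut.conj g).toMonoidHom ⊓ (Units.map (Lm F K)).range) ∣ Fintype.card F ^ r - 1 := by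
  classical
  have hfd : FiniteDimensional F K := Module.Finite.of_finite
  have hfinE : Finite (Module.End F K) := Finite.of_injective (fun φ : Module.End F K => (φ : K → K)) DFunLike.coe_injective
  have hfinU : Finite (Module.End F K)ˣ := inferInstance
  set S := (Units.map (Lm F K)).range with hS
  set Sg := S.map (MulAut.conj g).toMonoidHom with hSg
  set T' : IntermediateField F K := subalgebraEquivIntermediateField (Tsub g) with hT'
  have hmemT' : ∀ k : K, k ∈ T' ↔ ∃ k' : K, (g : Module.End F K) * Lm F K k' * ((g⁻¹ : (Module.End F K)ˣ) : Module.End F K) = Lm F K k := by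
    intro k
    rw [hT', mem_subalgebraEquivIntermediateField, mem_Tsub]
  have hinjU : Function.Injective (Units.map (Lm F K)) := Units.map_injective Lm_injective
  -- T' ≠ ⊤
  have hTtop : T' ≠ ⊤ := by
    intro htop
    apply hg
    symm
    apply Subgroup.eq_of_le_of_card_ge
    · rintro h ⟨u, rfl⟩
      have hu : (u : K) ∈ T' := by rw [htop]; exact IntermediateField.mem_top
      obtain ⟨k', hk'⟩ := (hmemT' _).mp hu
      have hk'0 : k' ≠ 0 := by
        rintro rfl
        rw [Lm_zero, mul_zero, zero_mul] at hk'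
        have : (u : K) = 0 := Lm_injective (F := F) (by rw [← hk', Lm_zero])
        exact u.ne_zero this
      refine ⟨Units.map (Lm F K) (Units.mk0 k' hk'0), ⟨_, rfl⟩, ?_⟩
      apply Units.ext
      simp only [MulEquiv.coe_toMonoidHom, MulAut.conj_apply, Units.val_mul, Units.coe_map,
        Units.val_mk0]
      exact hk'
    · rw [hSg, Subgroup.card_map_of_injective (MulAut.conj g).injective]
  set r := Module.finrank F T' with hr
  have hr1 : 1 ≤ r := Module.finrank_pos
  have hrn : r ∣ n := by
    rw [← hdim, ← Module.finrank_mul_finrank F T' K]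
    exact dvd_mul_right _ _
  have hrlt : r < n := by
    rw [← hdim]
    have := Submodule.finrank_lt (s := T'.toSubalgebra.toSubmodule) (by
      intro h
      apply hTtop
      rw [← IntermediateField.toSubalgebra_inj, IntermediateField.top_toSubalgebra]
      exact Algebra.toSubmodule_eq_top.mp h)
    exact this
  refine ⟨r, hr1, hrn, hrlt, ?_⟩
  -- the subgroup U of Kˣ
  set U : Subgroup Kˣ := (Sg ⊓ S).comap (Units.map (Lm F K)) with hU
  have hcardU : Nat.card (Sg ⊓ S : Subgroup (Module.End F K)ˣ) = Nat.card U := by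
    have h1 : U.map (Units.map (Lm F K)) = Sg ⊓ S := by
      rw [hU]
      apply Subgroup.map_comap_eq_self
      exact inf_le_right
    rw [← h1, Subgroup.card_map_of_injective hinjU]
  rw [hcardU]
  have hcardT : Fintype.card T' = Fintype.card F ^ r := Module.card_eq_pow_finrank
  have hUT : ∀ u ∈ U, (u : K) ∈ T' := by
    intro u hu
    rw [hU, Subgroup.mem_comap] at hu
    obtain ⟨h', ⟨u', rfl⟩, hh'⟩ := hu.1
    rw [hmemT']
    refine ⟨u', ?_⟩
    have := congrArg (fun x : (Module.End F K)ˣ => (x : Module.End F K)) hh'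
    simpa using this
  have hpow : ∀ u : U, u ^ (Fintype.card F ^ r - 1) = 1 := by
    rintro ⟨u, hu⟩
    apply Subtype.ext
    apply Units.ext
    simp only [SubgroupClass.coe_pow, Units.val_pow_eq_pow_val, OneMemClass.coe_one, Units.val_one]
    have h1 := FiniteField.pow_card_sub_one_eq_one (⟨(u : K), hUT u hu⟩ : T') (by
      intro h
      have := congrArg Subtype.val h
      exact u.ne_zero this)
    rw [hcardT] at h1
    have := congrArg Subtype.val h1
    simpa using this
  have hcyc : IsCyclic U := Subgroup.isCyclic U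
  rw [← IsCyclic.exponent_eq_card]
  exact Monoid.exponent_dvd_of_forall_pow_eq_one hpow
end


/-- Let F ⊆ K be finite fields with |F| = q and [K : F] = n ≥ 2, and let M ≤ GL_F(K) be the Singer group of multiplications by non-zero elements of K. If g ∈ GL_F(K) does not normalise M, then the order of M ∩ gMg⁻¹ divides q^r − 1 for some proper divisor r of n. In particular, when n is prime, that order divides q − 1. -/
theorem result {F K : Type*} [Field F] [Fintype F] [Field K] [Fintype K] [Algebra F K] (n : ℕ) (hn : 2 ≤ n) (hdim : Module.finrank F K = n)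
    (g : (Module.End F K)ˣ) (hg : ((Units.map ((Algebra.lmul F K : K →ₐ[F] Module.End F K) : K →* Module.End F K)).range).map (MulAut.conj g).toMonoidHom ≠ (Units.map ((Algebra.lmul F K : K →ₐ[F] Module.End F K) : K →* Module.End F K)).range) :
    ∃ r : ℕ, 1 ≤ r ∧ r ∣ n ∧ r < n ∧ Nat.card ↥(((Units.map ((Algebra.lmul F K : K →ₐ[F] Module.End F K) : K →* Module.End F K)).range).map (MulAut.conj g).toMonoidHom ⊓ (Units.map ((Algebra.lmul F K : K →ₐ[F] Module.End F K) : K →* Module.End F K)).range) ∣ Fintype.card F ^ r - 1 := by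
  exact main_aux n hdim g hg

end Cfsg.Agent.S5739
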