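-- Statement S5747.
import Cfsg.Statements.S5747
-- import your own Cfsg.Agent.* helpers here

set_option autoImplicit false
open Cfsg

namespace Cfsg.Agent.S5747

variable {G Ω : Type*} [Group G] [MulAction G Ω]

/-- g fixes all elements of list a -/
def Fx (g : G) (a : List Ω) : Prop := ∀ x ∈ a, g • x = x

variable (G) in
def Irr : List Ω → List Ω → Prop
  | _, [] => True
  | a, x :: l => (∃ g : G, Fx g a ∧ g • x ≠ x) ∧ Irr (a ++ [x]) l

variable (G) in
def IsB (l : List Ω) : Prop := ∀ g : G, Fx g l → g = 1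

@[simp] lemma Fx_nil {g : G} : Fx g ([] : List Ω) := by simp [Fx]

@[simp] lemma Fx_append {g : G} {a b : List Ω} : Fx g (a ++ b) ↔ Fx g a ∧ Fx g b := by
  simp [Fx, or_imp, forall_and]

@[simp] lemma Fx_cons {g : G} {x : Ω} {a : List Ω} : Fx g (x :: a) ↔ g • x = x ∧ Fx g a := by
  simp [Fx]

lemma Irr_congr (l : List Ω) : ∀ a a' : List Ω, (∀ g : G, Fx g a ↔ Fx g a') →
    (Irr G a l ↔ Irr G a' l) := by
  induction l with
  | nil => intro a a' _; simp [Irr]
  | cons x l ih =>
    intro a a' h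
    simp only [Irr]
    rw [ih (a ++ [x]) (a' ++ [x]) (by intro g; simp [h g])]
    simp only [h]

lemma Irr_append (l₁ l₂ : List Ω) : ∀ a : List Ω,
    (Irr G a (l₁ ++ l₂) ↔ Irr G a l₁ ∧ Irr G (a ++ l₁) l₂) := by
  induction l₁ with
  | nil => intro a; simp [Irr]
  | cons x l ih =>
    intro a
    simp only [List.cons_append, Irr]
    rw [ih (a ++ [x])]
    simp [and_assoc]

lemma extract (l : List Ω) : ∀ a : List Ω, ∃ l'' : List Ω, l''.Sublist l ∧ Irr G a l'' ∧
    ∀ g : G, Fx g (a ++ l'') ↔ Fx g (a ++ l) := by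
  induction l with
  | nil => intro a; exact ⟨[], List.Sublist.refl _, by simp [Irr], fun g => Iff.rfl⟩
  | cons x l ih =>
    intro a
    by_cases h : ∃ g : G, Fx g a ∧ g • x ≠ x
    · obtain ⟨l'', h1, h2, h3⟩ := ih (a ++ [x])
      refine ⟨x :: l'', h1.cons_cons x, ⟨h, h2⟩, fun g => ?_⟩
      have := h3 g
      simpa [and_assoc] using this
    · push Not at h
      obtain ⟨l'', h1, h2, h3⟩ := ih a
      refine ⟨l'', h1.cons x, h2, fun g => ?_⟩
      have := h3 g
      simp only [Fx_append, Fx_cons] at this ⊢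
      constructor
      · intro hh
        exact ⟨hh.1, h g hh.1, (this.1 hh).2⟩
      · intro hh
        exact this.2 ⟨hh.1, hh.2.2⟩

lemma Irr_nodup (l : List Ω) : ∀ a : List Ω, Irr G a l → l.Nodup ∧ ∀ x ∈ l, x ∉ a := by
  induction l with
  | nil => intro a _; simp
  | cons x l ih =>
    intro a h
    obtain ⟨⟨g, hg, hgx⟩, h2⟩ := h
    obtain ⟨h3, h4⟩ := ih _ h2
    refine ⟨List.nodup_cons.2 ⟨?_, h3⟩, ?_⟩
    · intro hx
      exact h4 x hx (by simp)
    · intro z hz
      rcases List.mem_cons.1 hz with rfl | hz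
      · intro hza; exact hgx (hg _ hza)
      · intro hza; exact h4 z hz (by simp [hza])

lemma Irr_iff_idx (l : List Ω) : ∀ a : List Ω, Irr G a l ↔
    ∀ i (h : i < l.length), ∃ g : G, Fx g a ∧ (∀ j (hj : j < i), g • l[j] = l[j]) ∧ g • l[i] ≠ l[i] := by
  induction l with
  | nil => intro a; simp [Irr]
  | cons x l ih =>
    intro a
    simp only [Irr]
    rw [ih]
    constructor
    · rintro ⟨⟨g, hg, hgx⟩, h2⟩ i hi
      rcases i with _ | i
      · exact ⟨g, hg, by simp, by simpa using hgx⟩
      · obtain ⟨g', hg', h3, h4⟩ := h2 i (by simpa using hi)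
        simp only [Fx_append, Fx_cons, Fx_nil, and_true] at hg'
        refine ⟨g', hg'.1, ?_, by simpa using h4⟩
        intro j hj
        rcases j with _ | j
        · simpa using hg'.2
        · simpa using h3 j (by omega)
    · intro h
      constructor
      · obtain ⟨g, hg, _, h3⟩ := h 0 (by simp)
        exact ⟨g, hg, by simpa using h3⟩
      · intro i hi
        obtain ⟨g, hg, h2, h3⟩ := h (i+1) (by simpa using hi)
        refine ⟨g, ?_, ?_, by simpa using h3⟩
        · simp only [Fx_append, Fx_cons, Fx_nil, and_true]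
          exact ⟨hg, by simpa using h2 0 (by omega)⟩
        · intro j hj
          simpa using h2 (j+1) (by omega)


variable (G) in
def P (t : ℕ) (f : Fin t → Ω) : Prop :=
  (∀ g : G, (∀ i : Fin t, g • f i = f i) → g = 1) ∧
    ∀ i : Fin t, ∃ g : G, (∀ j : Fin t, j < i → g • f j = f j) ∧ g • f i ≠ f i

lemma P_iff (t : ℕ) (f : Fin t → Ω) : P G t f ↔ IsB G (List.ofFn f) ∧ Irr G [] (List.ofFn f) := by
  unfold P IsB
  rw [Irr_iff_idx]
  constructor
  · rintro ⟨h1, h2⟩
    constructor
    · intro g hg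
      apply h1 g
      intro i
      exact hg _ (List.mem_ofFn.2 ⟨i, rfl⟩)
    · intro i hi
      have hi' : i < t := by simpa using hi
      obtain ⟨g, hg1, hg2⟩ := h2 ⟨i, hi'⟩
      refine ⟨g, Fx_nil, ?_, by simpa using hg2⟩
      intro j hj
      simpa using hg1 ⟨j, by omega⟩ hj
  · rintro ⟨h1, h2⟩
    constructor
    · intro g hg
      apply h1 g
      intro x hx
      obtain ⟨i, rfl⟩ := List.mem_ofFn.1 hx
      exact hg i
    · intro i
      obtain ⟨g, -, hg1, hg2⟩ := h2 i.1 (by simp)
      refine ⟨g, ?_, by simpa using hg2⟩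
      intro j hj
      simpa using hg1 j.1 hj


variable (G Ω) in
def A : Prop := ∀ (t t' : ℕ) (f : Fin t → Ω) (f' : Fin t' → Ω), P G t f → P G t' f' → t = t'

variable (G Ω) in
def B : Prop := ∀ (t : ℕ) (f : Fin t → Ω) (σ : Equiv.Perm (Fin t)), P G t f → P G t (f ∘ σ)

variable (G Ω) in
def A' : Prop := ∀ l l' : List Ω, IsB G l ∧ Irr G [] l → IsB G l' ∧ Irr G [] l' → l.length = l'.length

variable (G Ω) in
def B' : Prop := ∀ l l' : List Ω, l.Perm l' → IsB G l ∧ Irr G [] l → IsB G l' ∧ Irr G [] l'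

lemma A_imp_A' (h : A G Ω) : A' G Ω := by
  intro l l' hl hl'
  apply h l.length l'.length l.get l'.get
  · rw [P_iff, List.ofFn_get]; exact hl
  · rw [P_iff, List.ofFn_get]; exact hl'

lemma A'_imp_A (h : A' G Ω) : A G Ω := by
  intro t t' f f' hf hf'
  rw [P_iff] at hf hf'
  simpa using h _ _ hf hf'

lemma B'_imp_B (h : B' G Ω) : B G Ω := by
  intro t f σ hf
  rw [P_iff] at hf ⊢
  exact h _ _ (Equiv.Perm.ofFn_comp_perm σ f).symm hf

lemma exists_perm_of_perm {l l' : List Ω} (hl : l.Nodup) (hp : l.Perm l') :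
    ∃ σ : Equiv.Perm (Fin l.length), List.ofFn (l.get ∘ σ) = l' := by
  classical
  have hl' : l'.Nodup := hp.nodup_iff.1 hl
  have hlen : l.length = l'.length := hp.length_eq
  let e₁ := hl'.getEquiv l'
  let e₂ : {x // x ∈ l'} ≃ {x // x ∈ l} := Equiv.subtypeEquivRight (fun x => hp.mem_iff.symm)
  let e₃ := (hl.getEquiv l).symm
  let σ : Equiv.Perm (Fin l.length) := (finCongr hlen).trans (e₁.trans (e₂.trans e₃))
  refine ⟨σ, ?_⟩
  apply List.ext_getElem
  · simp [hlen]
  · intro i h1 h2
    rw [List.getElem_ofFn]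
    have h3 : (hl.getEquiv l) (σ ⟨i, by simpa using h1⟩) = e₂ (e₁ ⟨i, h2⟩) := by
      simp [σ, e₃]
    have h4 := congrArg Subtype.val h3
    simpa [e₁, e₂] using h4

lemma B_imp_B' (h : B G Ω) : B' G Ω := by
  intro l l' hp hl
  obtain ⟨σ, hσ⟩ := exists_perm_of_perm (Irr_nodup (G := G) l [] hl.2).1 hp
  have := h l.length l.get σ (by rw [P_iff, List.ofFn_get]; exact hl)
  rw [P_iff, hσ] at this
  exact this

lemma A'_imp_B' (h : A' G Ω) : B' G Ω := by
  intro l l' hp hl
  have hb : IsB G l' := by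
    intro g hg
    apply hl.1 g
    intro x hx
    exact hg x (hp.mem_iff.1 hx)
  obtain ⟨l'', h1, h2, h3⟩ := extract (G := G) l' []
  have hb'' : IsB G l'' := by
    intro g hg
    apply hb g
    simpa using (h3 g).1 (by simpa using hg)
  have hlen := h l l'' hl ⟨hb'', h2⟩
  have : l'' = l' := h1.eq_of_length (by rw [← hlen, hp.length_eq])
  rw [this] at h2
  exact ⟨hb, h2⟩


lemma split_first (x : Ω) (l' : List Ω) : ∀ a : List Ω, (∃ g : G, Fx g a ∧ g • x ≠ x) →
    (∀ g : G, Fx g (a ++ l') → g • x = x) →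
    ∃ p y q, l' = p ++ y :: q ∧ (∃ g : G, Fx g (a ++ p) ∧ g • x ≠ x) ∧
      (∀ g : G, Fx g (a ++ p ++ [y]) → g • x = x) := by
  induction l' with
  | nil =>
    intro a ⟨g, hg, hgx⟩ h
    exact absurd (h g (by simpa using hg)) hgx
  | cons y q ih =>
    intro a h1 h2
    by_cases h : ∀ g : G, Fx g (a ++ [y]) → g • x = x
    · exact ⟨[], y, q, rfl, by simpa using h1, by simpa using h⟩
    · push Not at h
      obtain ⟨p', y', q', h3, h4, h5⟩ := ih (a ++ [y]) h (by
        intro g hg
        apply h2 g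
        simpa [and_assoc] using hg)
      refine ⟨y :: p', y', q', by rw [h3]; rfl, ?_, ?_⟩
      · obtain ⟨g, hg, hgx⟩ := h4
        exact ⟨g, by simpa [and_assoc] using hg, hgx⟩
      · intro g hg
        apply h5 g
        simpa [and_assoc] using hg

lemma main (h : B' G Ω) : ∀ n : ℕ, ∀ a l l' : List Ω, l.length = n → IsB G (a ++ l) → Irr G [] (a ++ l) →
    IsB G (a ++ l') → Irr G [] (a ++ l') → l'.length = n := by
  intro n
  induction n with
  | zero =>
    intro a l l' hl hb hi hb' hi'
    rw [List.length_eq_zero_iff] at hl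
    subst hl
    rcases l' with _ | ⟨y, q⟩
    · rfl
    · exfalso
      rw [Irr_append] at hi'
      obtain ⟨g, hg, hgy⟩ := hi'.2.1
      have := hb g (by simpa using hg)
      subst this
      exact hgy (one_smul _ _)
  | succ n ih =>
    intro a l l' hl hb hi hb' hi'
    rcases l with _ | ⟨x, l₀⟩
    · simp at hl
    have hl₀ : l₀.length = n := by simpa using hl
    rw [Irr_append] at hi
    obtain ⟨hia, hx, hil₀⟩ := hi
    simp only [List.nil_append] at hx hil₀
    obtain ⟨p, y, q, rfl, hxp, hxy⟩ := split_first x l' a hx (by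
      intro g hg
      rw [hb' g hg, one_smul])
    have hi'' := hi'
    rw [Irr_append, Irr_append] at hi''
    obtain ⟨-, hip, hy, hiq⟩ := hi''
    simp only [List.nil_append] at hip hy hiq
    -- claim: y is fixed by Stab(a ++ p ++ [x])
    have hyx : ∀ g : G, Fx g (a ++ p ++ [x]) → g • y = y := by
      by_contra hcon
      push Not at hcon
      obtain ⟨r, -, hr1, hr2⟩ := extract (G := G) (a ++ (p ++ y :: q)) (a ++ (p ++ [x, y]))
      have hL1 : IsB G (a ++ (p ++ (x :: y :: r))) ∧ Irr G [] (a ++ (p ++ (x :: y :: r))) := by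
        constructor
        · intro g hg
          apply hb' g
          have := (hr2 g).1 (by simpa using hg)
          simp only [Fx_append] at this
          simpa using this.2
        · rw [Irr_append, Irr_append]
          refine ⟨hia, by simpa using hip, ?_⟩
          simp only [List.nil_append, Irr]
          refine ⟨by simpa using hxp, by simpa using hcon, ?_⟩
          refine (Irr_congr r _ _ ?_).1 hr1
          intro g; simp [and_assoc]
      have hperm : (a ++ (p ++ (x :: y :: r))).Perm (a ++ (p ++ (y :: x :: r))) :=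
        ((List.Perm.swap y x r).append_left p).append_left a
      have hL2 := (h _ _ hperm hL1).2
      rw [Irr_append, Irr_append] at hL2
      obtain ⟨g, hg, hgx⟩ := hL2.2.2.2.1
      exact hgx (hxy g (by simpa [and_assoc] using hg))
    have hcongr : ∀ g : G, Fx g (a ++ p ++ [x]) ↔ Fx g (a ++ p ++ [y]) := by
      intro g
      constructor
      · intro hg
        have := hyx g hg
        simp only [Fx_append, Fx_cons, Fx_nil, and_true] at hg ⊢
        exact ⟨hg.1, this⟩
      · intro hg
        have := hxy g hg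
        simp only [Fx_append, Fx_cons, Fx_nil, and_true] at hg ⊢
        exact ⟨hg.1, this⟩
    have hL3 : IsB G (a ++ (p ++ x :: q)) ∧ Irr G [] (a ++ (p ++ x :: q)) := by
      constructor
      · intro g hg
        apply hb' g
        have h1 : Fx g (a ++ p ++ [x]) := by
          simp only [Fx_append, Fx_cons, Fx_nil, and_true] at hg ⊢
          exact ⟨⟨hg.1, hg.2.1⟩, hg.2.2.1⟩
        have h2 := (hcongr g).1 h1
        simp only [Fx_append, Fx_cons, Fx_nil, and_true] at hg h2 ⊢
        exact ⟨hg.1, hg.2.1, h2.2, hg.2.2.2⟩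
      · rw [Irr_append, Irr_append]
        refine ⟨hia, by simpa using hip, ?_⟩
        simp only [List.nil_append, Irr]
        refine ⟨by simpa using hxp, ?_⟩
        refine (Irr_congr q _ _ ?_).1 hiq
        intro g
        have := hcongr g
        simp only [Fx_append, Fx_cons, Fx_nil, and_true] at this ⊢
        rw [and_assoc, and_assoc] at *
        exact this.symm
    have hperm2 : (a ++ (p ++ x :: q)).Perm ((a ++ [x]) ++ (p ++ q)) := by
      rw [List.append_assoc]
      exact (List.perm_middle).append_left a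
    have hL4 := h _ _ hperm2 hL3
    have := ih (a ++ [x]) l₀ (p ++ q) hl₀ (by simpa using hb)
      (by rw [Irr_append, Irr_append]; exact ⟨⟨hia, by simpa [Irr] using hx⟩, by simpa using hil₀⟩)
      hL4.1 hL4.2
    simp only [List.length_append, List.length_cons] at this ⊢
    omega

lemma B'_imp_A' (h : B' G Ω) : A' G Ω := by
  intro l l' hl hl'
  exact (main h l.length [] l l' rfl hl.1 hl.2 hl'.1 hl'.2).symm

theorem AB : A G Ω ↔ B G Ω :=
  ⟨fun h => B'_imp_B (A'_imp_B' (A_imp_A' h)), fun h => A'_imp_A (B'_imp_A' (B_imp_B' h))⟩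



/-- Let a finite group G act on a finite set Ω. An irredundant base is a sequence of points ω₁, …, ω_t whose pointwise stabiliser is trivial and in which each ω_i is moved by some element fixing ω₁, …, ω_{i−1}. Then all irredundant bases have the same length if and only if every reordering of an irredundant base is again an irredundant base. -/
theorem result {G Ω : Type*} [Group G] [Finite G] [MulAction G Ω] [Fintype Ω] :
    (∀ (t t' : ℕ) (f : Fin t → Ω) (f' : Fin t' → Ω), ((∀ g : G, (∀ i : Fin t, g • f i = f i) → g = 1) ∧ ∀ i : Fin t, ∃ g : G, (∀ j : Fin t, j < i → g • f j = f j) ∧ g • f i ≠ f i) → ((∀ g : G, (∀ i : Fin t', g • f' i = f' i) → g = 1) ∧ ∀ i : Fin t', ∃ g : G, (∀ j : Fin t', j < i → g • f' j = f' j) ∧ g • f' i ≠ f' i) → t = t') ↔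
    (∀ (t : ℕ) (f : Fin t → Ω) (σ : Equiv.Perm (Fin t)), ((∀ g : G, (∀ i : Fin t, g • f i = f i) → g = 1) ∧ ∀ i : Fin t, ∃ g : G, (∀ j : Fin t, j < i → g • f j = f j) ∧ g • f i ≠ f i) → ((∀ g : G, (∀ i : Fin t, g • (f ∘ σ) i = (f ∘ σ) i) → g = 1) ∧ ∀ i : Fin t, ∃ g : G, (∀ j : Fin t, j < i → g • (f ∘ σ) j = (f ∘ σ) j) ∧ g • (f ∘ σ) i ≠ (f ∘ σ) i)) := by
  exact AB (G := G) (Ω := Ω)

end Cfsg.Agent.S5747
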