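import Cfsg.Statements.S5748
import Cfsg.Agent.Lib.Helper7.CA6
import Cfsg.Agent.S1230
import Cfsg.Agent.S0182
import Cfsg.Agent.S4065

set_option autoImplicit false
open Cfsg

namespace Cfsg.Agent.S5748

open Cfsg.Agent.Lib.Helper7.CA

/-- Forward direction: a finite simple non-abelian CT-group is `PSL₂(2^f)`. -/
theorem forward {G : Type*} [Group G] [Finite G] [IsSimpleGroup G] (hG : ¬ IsMulCommutative G)
    (h : CT G) :
    ∃ (F : Type) (_ : Field F) (_ : Fintype F) (f : ℕ), 2 ≤ f ∧ Fintype.card F = 2 ^ f ∧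
      Nonempty (G ≃* Matrix.ProjectiveSpecialLinearGroup (Fin 2) F) := by
  haveI : Fact (Nat.Prime 2) := ⟨Nat.prime_two⟩
  have hncomm : ¬ ∀ a b : G, a * b = b * a := fun hc => hG ⟨⟨hc⟩⟩
  -- even order
  have heven : 2 ∣ Nat.card G := by
    by_contra hnd
    have hodd : Odd (Nat.card G) := Nat.odd_iff.mpr (Nat.two_dvd_ne_zero.mp hnd)
    have hsolv : Group.IsSolvable G := Cfsg.Agent.S0182.result hodd (by
      intro x hx a ha b hb
      exact (Cen_comm h hx ha hb).eq)
    exact hncomm (IsSimpleGroup.comm_iff_isSolvable.mpr hsolv)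
  obtain ⟨t, ht⟩ := exists_prime_orderOf_dvd_card' 2 heven
  -- a Sylow 2-subgroup
  obtain ⟨T⟩ : Nonempty (Sylow 2 G) := inferInstance
  have hne2 : Nat.card G ≠ 2 := by
    intro hc
    have hcyc : IsCyclic G := isCyclic_of_prime_card hc
    exact hG hcyc.isMulCommutative
  have hNC : ¬ Subgroup.normalizer ((T : Subgroup G) : Set G) ≤
      Subgroup.centralizer ((T : Subgroup G) : Set G) := fun hh =>
    hne2 (Cfsg.Agent.Lib.Helper7.card_eq_prime_of_simple_of_normalizer_le_centralizer T heven hh)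
  have hncyc : ¬ IsCyclic (T : Subgroup G) := fun hh =>
    hNC (IsCyclic.normalizer_le_centralizer ((Nat.minFac_eq_two_iff _).mpr heven) hh)
  have hTbot : (T : Subgroup G) ≠ ⊥ := by
    intro hb
    apply hncyc
    rw [hb]
    infer_instance
  have hnn : ¬ (T : Subgroup G).Normal := by
    intro hn
    rcases hn.eq_bot_or_eq_top with hb | htop
    · exact hTbot hb
    · -- G is a 2-group, hence nilpotent, hence solvable
      have hp : IsPGroup 2 G := by
        have := T.isPGroup'
        rw [htop] at this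
        exact IsPGroup.of_equiv this Subgroup.topEquiv
      haveI : Group.IsNilpotent G := hp.isNilpotent
      exact hncomm (IsSimpleGroup.comm_iff_isSolvable.mpr inferInstance)
  have hC : ∀ s : G, orderOf s = 2 → IsMulCommutative (Subgroup.centralizer ({s} : Set G)) ∧
      ∀ c ∈ Subgroup.centralizer ({s} : Set G), c ^ 2 = 1 := by
    intro s hs
    refine ⟨⟨⟨fun a b => Subtype.ext (Cen_comm h (inv_ne_one hs) a.2 b.2).eq⟩⟩, ?_⟩
    intro c hc
    rw [pow_two]
    exact Pt.sq_eq_one hG h (Pt.of s hs) hc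
  obtain ⟨F, iF, iFt, hcardF, hiso⟩ := Cfsg.Agent.S1230.result T hncyc hnn hC
  obtain ⟨f, hf⟩ := T.isPGroup'.exists_card_eq
  refine ⟨F, iF, iFt, f, ?_, by rw [hcardF, hf], hiso⟩
  by_contra hf2
  push Not at hf2
  interval_cases f
  · rw [pow_zero] at hf
    exact hTbot (Subgroup.card_eq_one.mp hf)
  · rw [pow_one] at hf
    exact hncyc (isCyclic_of_prime_card hf)

/-- Converse: `PSL₂(2^f)` is a CT-group. -/
theorem backward {G : Type*} [Group G] {F : Type} [Field F] [Fintype F] {f : ℕ}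
    (hF : Fintype.card F = 2 ^ f) (hf : 2 ≤ f)
    (e : G ≃* Matrix.ProjectiveSpecialLinearGroup (Fin 2) F) :
    ∀ a b c : G, a ≠ 1 → b ≠ 1 → c ≠ 1 → Commute a b → Commute b c → Commute a c := by
  haveI : CharP F 2 := by
    have h2 : (2 : F) = 0 := by
      have hcast : ((Fintype.card F : ℕ) : F) = 0 := Nat.cast_card_eq_zero F
      rw [hF] at hcast
      have : ((2 : ℕ) : F) ^ f = 0 := by
        rw [← Nat.cast_pow]; exact hcast
      have := pow_eq_zero_iff (by omega : f ≠ 0) |>.mp this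
      exact_mod_cast this
    exact CharTwo.of_one_ne_zero_of_two_eq_zero one_ne_zero h2
  let e' : G ≃* Matrix.SpecialLinearGroup (Fin 2) F :=
    e.trans ((QuotientGroup.quotientMulEquivOfEq
      (Cfsg.Agent.Lib.Helper14.center_SL2_eq_bot (F := F))).trans QuotientGroup.quotientBot)
  intro a b c _ha hb _hc hab hbc
  have hb' : e' b ≠ 1 := by
    intro hh
    apply hb
    apply e'.injective
    rw [hh, map_one]
  have h1 : e' a * e' b = e' b * e' a := by
    rw [← map_mul, ← map_mul, hab.eq]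
  have h2 : e' c * e' b = e' b * e' c := by
    rw [← map_mul, ← map_mul, hbc.eq]
  have h3 := Cfsg.Agent.S4065.ca_SL2 (e' b) hb' (e' a) (e' c) h1 h2
  show a * c = c * a
  apply e'.injective
  rw [map_mul, map_mul, h3]

theorem result {G : Type*} [Group G] [Finite G] [IsSimpleGroup G] (hG : ¬ IsMulCommutative G) :
    (∀ a b c : G, a ≠ 1 → b ≠ 1 → c ≠ 1 → Commute a b → Commute b c → Commute a c) ↔
    ∃ (F : Type) (_ : Field F) (_ : Fintype F) (f : ℕ), 2 ≤ f ∧ Fintype.card F = 2 ^ f ∧ Nonempty (G ≃* Matrix.ProjectiveSpecialLinearGroup (Fin 2) F) := by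
  constructor
  · intro h
    exact forward hG h
  · rintro ⟨F, iF, iFt, f, hf, hF, ⟨e⟩⟩
    exact backward hF hf e

end Cfsg.Agent.S5748
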