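-- Statement S5754.
import Cfsg.Statements.S5754
-- import your own Cfsg.Agent.* helpers here

set_option autoImplicit false
open Cfsg

namespace Cfsg.Agent.S5754

open QuadraticMap

variable {F V : Type*} [Field F] [AddCommGroup V] [Module F V]

lemma map_sub_eq (Q : QuadraticForm F V) (x y : V) : Q (x - y) = Q x + Q y - polar Q x y := by
  have h := polar_neg_right Q x y
  unfold polar at h ⊢
  rw [QuadraticMap.map_neg] at h
  rw [sub_eq_add_neg x y]
  linear_combination h

/-- the reflection in a non-singular vector -/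
noncomputable def refl (Q : QuadraticForm F V) (w : V) (hw : Q w ≠ 0) : Q.IsometryEquiv Q where
  toFun x := x - ((Q w)⁻¹ * polar Q x w) • w
  invFun x := x - ((Q w)⁻¹ * polar Q x w) • w
  map_add' x y := by
    rw [polar_add_left, mul_add, add_smul]; abel
  map_smul' a x := by
    simp only [RingHom.id_apply]
    rw [polar_smul_left, smul_sub, smul_smul, smul_eq_mul]
    congr 2; ring
  left_inv x := by
    simp only
    have h1 : polar Q (x - ((Q w)⁻¹ * polar Q x w) • w) w = - polar Q x w := by
      rw [sub_eq_add_neg, polar_add_left, ← neg_smul, polar_smul_left, polar_self]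
      simp only [smul_eq_mul, nsmul_eq_mul, Nat.cast_ofNat]
      field_simp
      ring
    rw [h1]
    simp only [mul_neg, neg_smul, sub_neg_eq_add, sub_add_cancel]
  right_inv x := by
    simp only
    have h1 : polar Q (x - ((Q w)⁻¹ * polar Q x w) • w) w = - polar Q x w := by
      rw [sub_eq_add_neg, polar_add_left, ← neg_smul, polar_smul_left, polar_self]
      simp only [smul_eq_mul, nsmul_eq_mul, Nat.cast_ofNat]
      field_simp
      ring
    rw [h1]
    simp only [mul_neg, neg_smul, sub_neg_eq_add, sub_add_cancel]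
  map_app' x := by
    change Q (x - ((Q w)⁻¹ * polar Q x w) • w) = Q x
    rw [map_sub_eq, QuadraticMap.map_smul, polar_smul_right]
    simp only [smul_eq_mul]
    field_simp
    ring

lemma refl_apply (Q : QuadraticForm F V) (w : V) (hw : Q w ≠ 0) (x : V) :
    refl Q w hw x = x - ((Q w)⁻¹ * polar Q x w) • w := rfl


lemma polar_isom (Q : QuadraticForm F V) (φ : Q.IsometryEquiv Q) (a b : V) :
    polar Q (φ a) (φ b) = polar Q a b := by
  unfold polar
  rw [← map_add, φ.map_app, φ.map_app, φ.map_app]

theorem linear_ext (Q : QuadraticForm F V) (hQ : Q.Anisotropic) {ι : Type*} (v v' : ι → V)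
    (hq : ∀ i, Q (v i) = Q (v' i)) (hp : ∀ i j, polar Q (v i) (v j) = polar Q (v' i) (v' j))
    (s : Finset ι) : ∃ φ : Q.IsometryEquiv Q, ∀ i ∈ s, φ (v i) = v' i := by
  classical
  induction s using Finset.induction_on with
  | empty => exact ⟨QuadraticMap.IsometryEquiv.refl Q, by simp⟩
  | insert k s hk ih =>
    obtain ⟨φ, hφ⟩ := ih
    by_cases hw : φ (v k) - v' k = 0
    · refine ⟨φ, fun i hi => ?_⟩
      rcases Finset.mem_insert.1 hi with rfl | hi
      · exact sub_eq_zero.1 hw
      · exact hφ i hi
    · have hQw : Q (φ (v k) - v' k) ≠ 0 := fun h => hw (hQ _ h)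
      have hQx : Q (φ (v k)) = Q (v' k) := by rw [φ.map_app, hq]
      refine ⟨φ.trans (refl Q _ hQw), fun i hi => ?_⟩
      change refl Q _ hQw (φ (v i)) = v' i
      rw [refl_apply]
      rcases Finset.mem_insert.1 hi with rfl | hi
      · have h1 : polar Q (φ (v i)) (φ (v i) - v' i) = Q (φ (v i) - v' i) := by
          rw [polar_sub_right, polar_self, map_sub_eq, hQx]
          simp only [nsmul_eq_mul, Nat.cast_ofNat]
          ring
        rw [h1, inv_mul_cancel₀ hQw, one_smul]
        abel
      · have h1 : polar Q (φ (v i)) (φ (v k) - v' k) = 0 := by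
          rw [polar_sub_right, polar_isom, hφ i hi, hp, sub_self]
        rw [h1, mul_zero, zero_smul, sub_zero, hφ i hi]

theorem main {F V : Type*} [Field F] [AddCommGroup V] [Module F V]
    (Q : QuadraticForm F V) (hQ : Q.Anisotropic) (n : ℕ) (hn : 2 ≤ n) (u u' : Fin n → V)
    (h2 : ∀ i j : Fin n, i ≠ j → ∃ (φ : Q.IsometryEquiv Q) (c : V), φ (u i) + c = u' i ∧ φ (u j) + c = u' j) :
    ∃ (φ : Q.IsometryEquiv Q) (c : V), ∀ i, φ (u i) + c = u' i := by
  have hD : ∀ i j : Fin n, Q (u i - u j) = Q (u' i - u' j) := by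
    intro i j
    by_cases hij : i = j
    · subst hij; simp
    · obtain ⟨φ, c, h1, h2⟩ := h2 i j hij
      rw [← h1, ← h2, add_sub_add_right_eq_sub, ← map_sub, φ.map_app]
  let i₀ : Fin n := ⟨0, by omega⟩
  let v : Fin n → V := fun i => u i - u i₀
  let v' : Fin n → V := fun i => u' i - u' i₀
  have hq : ∀ i, Q (v i) = Q (v' i) := fun i => hD i i₀
  have hp : ∀ i j, polar Q (v i) (v j) = polar Q (v' i) (v' j) := by
    intro i j
    have h1 := map_sub_eq Q (v i) (v j)
    have h2 := map_sub_eq Q (v' i) (v' j)
    have h3 : v i - v j = u i - u j := by simp [v]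
    have h4 : v' i - v' j = u' i - u' j := by simp [v']
    rw [h3] at h1
    rw [h4] at h2
    have := hD i j
    rw [h1, h2, hq i, hq j] at this
    linear_combination -this
  obtain ⟨φ, hφ⟩ := linear_ext Q hQ v v' hq hp Finset.univ
  refine ⟨φ, u' i₀ - φ (u i₀), fun i => ?_⟩
  have := hφ i (Finset.mem_univ i)
  simp only [v, v', map_sub] at this
  have h5 : φ (u i) = u' i - u' i₀ + φ (u i₀) := sub_eq_iff_eq_add.1 this
  rw [h5]
  abel



/-- Let V be a finite-dimensional vector space over a finite field F carrying an anisotropic quadratic form Q (Q(v) = 0 only for v = 0). Then the group of all maps v ↦ φ(v) + c, with φ an isometry of Q and c ∈ V, acts on V as a binary permutation group: given n ≥ 2 and two n-tuples u, u' of vectors such that every pair of corresponding entries of u is carried to that of u' by such a map, one such map carries u to u'. -/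
theorem result {F V : Type*} [Field F] [Finite F] [AddCommGroup V] [Module F V] [Module.Finite F V]
    (Q : QuadraticForm F V) (hQ : Q.Anisotropic) (n : ℕ) (hn : 2 ≤ n) (u u' : Fin n → V)
    (h2 : ∀ i j : Fin n, i ≠ j → ∃ (φ : Q.IsometryEquiv Q) (c : V), φ (u i) + c = u' i ∧ φ (u j) + c = u' j) :
    ∃ (φ : Q.IsometryEquiv Q) (c : V), ∀ i, φ (u i) + c = u' i := by
  exact main Q hQ n hn u u' h2

end Cfsg.Agent.S5754
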