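-- Statement S5763.
import Cfsg.Statements.S5763
-- import your own Cfsg.Agent.* helpers here

set_option autoImplicit false
open Cfsg

namespace Cfsg.Agent.S5763



def all4 (f : Nat → Bool) : Bool := f 0 && f 1 && f 2 && f 3
def all8 (f : Nat → Bool) : Bool := f 0 && f 1 && f 2 && f 3 && f 4 && f 5 && f 6 && f 7

def L (c i : Nat) : Nat := (c / 4 ^ i) % 4
def gi (g i : Nat) : Nat := (g / 8 ^ i) % 8

def presC (c g : Nat) : Bool :=
  all8 fun i => all8 fun j =>
    (!(L c i == L c j) || (L c (gi g i) == L c (gi g j))) &&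
    (!(L c i / 2 == L c j / 2) || (L c (gi g i) / 2 == L c (gi g j) / 2))

def candC : List Nat :=
  [16434369, 16433690, 16433235, 14571144, 11789960, 9926280, 14570689, 11789505, 9925825, 14570010,
   11788826, 9925146, 14569555, 11788371, 9924691, 16434817, 16434376, 16406152, 14599816, 6852524,
   5017068, 6823845, 4988389, 2206526, 2177406, 371511, 342391]

def chk (m0 m1 m2 m3 m4 m5 m6 m7 : Nat) : Bool :=
  !(16 ^ m0 + 16 ^ m1 + 16 ^ m2 + 16 ^ m3 + 16 ^ m4 + 16 ^ m5 + 16 ^ m6 + 16 ^ m7 == 8738) ||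
    candC.any (presC (m0 + 4 * m1 + 16 * m2 + 64 * m3 + 256 * m4 + 1024 * m5 + 4096 * m6 + 16384 * m7))

def nest8 : Bool :=
  all4 fun m0 => all4 fun m1 => all4 fun m2 => all4 fun m3 =>
  all4 fun m4 => all4 fun m5 => all4 fun m6 => all4 fun m7 => chk m0 m1 m2 m3 m4 m5 m6 m7

set_option maxRecDepth 100000 in
theorem nest8_true : nest8 = true := by decide +kernel

def invol (g : Nat) : Bool := all8 fun i => gi g (gi g i) == i
def nontriv (g : Nat) : Bool := !(all8 fun i => gi g i == i)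

theorem cands_ok : candC.all (fun g => invol g && nontriv g && presC 64080 g) = true := by
  decide +kernel

theorem all4_spec (f : Nat → Bool) (h : all4 f = true) : ∀ m, m < 4 → f m = true := by
  intro m hm
  simp only [all4, Bool.and_eq_true] at h
  interval_cases m
  · exact h.1.1.1
  · exact h.1.1.2
  · exact h.1.2
  · exact h.2

theorem all8_spec (f : Nat → Bool) (h : all8 f = true) : ∀ m, m < 8 → f m = true := by
  intro m hm
  simp only [all8, Bool.and_eq_true] at h
  interval_cases m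
  · exact h.1.1.1.1.1.1.1
  · exact h.1.1.1.1.1.1.2
  · exact h.1.1.1.1.1.2
  · exact h.1.1.1.1.2
  · exact h.1.1.1.2
  · exact h.1.1.2
  · exact h.1.2
  · exact h.2

theorem nest8_spec (m0 m1 m2 m3 m4 m5 m6 m7 : Nat) (h0 : m0 < 4) (h1 : m1 < 4) (h2 : m2 < 4)
    (h3 : m3 < 4) (h4 : m4 < 4) (h5 : m5 < 4) (h6 : m6 < 4) (h7 : m7 < 4) :
    chk m0 m1 m2 m3 m4 m5 m6 m7 = true := by
  have := nest8_true
  unfold nest8 at this
  exact all4_spec _ (all4_spec _ (all4_spec _ (all4_spec _ (all4_spec _ (all4_spec _ (all4_spec _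
    (all4_spec _ this m0 h0) m1 h1) m2 h2) m3 h3) m4 h4) m5 h5) m6 h6) m7 h7

theorem gi_lt (g i : Nat) : gi g i < 8 := Nat.mod_lt _ (by norm_num)

def permOfCode (g : Nat) (hg : invol g = true) : Equiv.Perm (Fin 8) where
  toFun i := ⟨gi g i.val, gi_lt _ _⟩
  invFun i := ⟨gi g i.val, gi_lt _ _⟩
  left_inv i := by
    apply Fin.ext
    have := all8_spec _ hg i.val i.isLt
    simpa using this
  right_inv i := by
    apply Fin.ext
    have := all8_spec _ hg i.val i.isLt
    simpa using this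

theorem permOfCode_val (g : Nat) (hg : invol g = true) (i : Fin 8) :
    (permOfCode g hg i).val = gi g i.val := rfl

theorem permOfCode_sq (g : Nat) (hg : invol g = true) : permOfCode g hg * permOfCode g hg = 1 := by
  ext i : 1
  exact (permOfCode g hg).left_inv i

theorem permOfCode_ne (g : Nat) (hg : invol g = true) (hn : nontriv g = true) :
    permOfCode g hg ≠ 1 := by
  intro h
  simp only [nontriv, Bool.not_eq_eq_eq_not, Bool.not_true] at hn
  have h2 : (all8 fun i => gi g i == i) = true := by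
    simp only [all8, Bool.and_eq_true, beq_iff_eq]
    have e : ∀ i : Fin 8, gi g i.val = i.val := by
      intro i
      rw [← permOfCode_val g hg i, h]; rfl
    exact ⟨⟨⟨⟨⟨⟨⟨e 0, e 1⟩, e 2⟩, e 3⟩, e 4⟩, e 5⟩, e 6⟩, e 7⟩
  rw [h2] at hn
  exact absurd hn (by simp)

/-- the code of a labelling -/
def code (lam : Fin 8 → Nat) : Nat :=
  lam 0 + 4 * lam 1 + 16 * lam 2 + 64 * lam 3 + 256 * lam 4 + 1024 * lam 5 + 4096 * lam 6 + 16384 * lam 7

theorem L_code (lam : Fin 8 → Nat) (hl : ∀ i, lam i < 4) (i : Fin 8) : L (code lam) i.val = lam i := by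
  have h0 := hl 0; have h1 := hl 1; have h2 := hl 2; have h3 := hl 3
  have h4 := hl 4; have h5 := hl 5; have h6 := hl 6; have h7 := hl 7
  have e0 : L (code lam) 0 = lam 0 := by unfold L code; norm_num; omega
  have e1 : L (code lam) 1 = lam 1 := by unfold L code; norm_num; omega
  have e2 : L (code lam) 2 = lam 2 := by unfold L code; norm_num; omega
  have e3 : L (code lam) 3 = lam 3 := by unfold L code; norm_num; omega
  have e4 : L (code lam) 4 = lam 4 := by unfold L code; norm_num; omega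
  have e5 : L (code lam) 5 = lam 5 := by unfold L code; norm_num; omega
  have e6 : L (code lam) 6 = lam 6 := by unfold L code; norm_num; omega
  have e7 : L (code lam) 7 = lam 7 := by unfold L code; norm_num; omega
  fin_cases i
  · exact e0
  · exact e1
  · exact e2
  · exact e3
  · exact e4
  · exact e5
  · exact e6
  · exact e7

theorem pres_spec (lam : Fin 8 → Nat) (hl : ∀ i, lam i < 4) (g : Nat) (hg : invol g = true)
    (hp : presC (code lam) g = true) (i j : Fin 8) :
    (lam i = lam j → lam (permOfCode g hg i) = lam (permOfCode g hg j)) ∧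
    (lam i / 2 = lam j / 2 → lam (permOfCode g hg i) / 2 = lam (permOfCode g hg j) / 2) := by
  have h1 := all8_spec _ (all8_spec _ hp i.val i.isLt) j.val j.isLt
  have e1 : gi g i.val = (permOfCode g hg i).val := rfl
  have e2 : gi g j.val = (permOfCode g hg j).val := rfl
  rw [e1, e2, L_code lam hl, L_code lam hl, L_code lam hl, L_code lam hl] at h1
  simp only [Bool.and_eq_true, Bool.or_eq_true, Bool.not_eq_eq_eq_not, Bool.not_true,
    beq_eq_false_iff_ne, beq_iff_eq] at h1
  constructor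
  · intro h
    rcases h1.1 with h' | h'
    · exact absurd h h'
    · exact h'
  · intro h
    rcases h1.2 with h' | h'
    · exact absurd h h'
    · exact h'




/-- stabilizer of the standard tree structure on `Fin 8` -/
def P0 : Subgroup (Equiv.Perm (Fin 8)) where
  carrier := {g | (∀ i j : Fin 8, i.val / 2 = j.val / 2 ↔ (g i).val / 2 = (g j).val / 2) ∧
    (∀ i j : Fin 8, i.val / 4 = j.val / 4 ↔ (g i).val / 4 = (g j).val / 4)}
  one_mem' := ⟨fun _ _ => Iff.rfl, fun _ _ => Iff.rfl⟩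
  mul_mem' := by
    rintro a b ⟨ha1, ha2⟩ ⟨hb1, hb2⟩
    refine ⟨fun i j => ?_, fun i j => ?_⟩
    · rw [hb1 i j, ha1 (b i) (b j)]; rfl
    · rw [hb2 i j, ha2 (b i) (b j)]; rfl
  inv_mem' := by
    rintro a ⟨ha1, ha2⟩
    refine ⟨fun i j => ?_, fun i j => ?_⟩
    · rw [ha1 (a⁻¹ i) (a⁻¹ j)]; simp
    · rw [ha2 (a⁻¹ i) (a⁻¹ j)]; simp

theorem mem_P0 (g : Equiv.Perm (Fin 8)) : g ∈ P0 ↔
    (∀ i j : Fin 8, i.val / 2 = j.val / 2 ↔ (g i).val / 2 = (g j).val / 2) ∧
    (∀ i j : Fin 8, i.val / 4 = j.val / 4 ↔ (g i).val / 4 = (g j).val / 4) := Iff.rfl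

/-- step 1: the square of an element of P0 fixes each quad -/
theorem sq_quad (g : Equiv.Perm (Fin 8)) (hg : g ∈ P0) (i : Fin 8) :
    ((g * g) i).val / 4 = i.val / 4 := by
  have h2 := ((mem_P0 g).1 hg).2
  have ha := h2 i (g i)
  have hb := h2 (g i) i
  have h1 : (g i).val < 8 := (g i).isLt
  have h3 : (g (g i)).val < 8 := (g (g i)).isLt
  have h4 : i.val < 8 := i.isLt
  change (g (g i)).val / 4 = i.val / 4
  by_cases hc : i.val / 4 = (g i).val / 4
  · have := ha.1 hc
    omega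
  · by_contra hcon
    have h5 : (g i).val / 4 = (g (g i)).val / 4 := by omega
    have := (h2 i (g i)).2 h5
    exact hc this


/-- step 2 -/
theorem sq_pair (h : Equiv.Perm (Fin 8)) (hh : h ∈ P0) (hq : ∀ i : Fin 8, (h i).val / 4 = i.val / 4)
    (i : Fin 8) : ((h * h) i).val / 2 = i.val / 2 := by
  have h2 := ((mem_P0 h).1 hh).1
  have ha := h2 i (h i)
  have q1 := hq i
  have q2 := hq (h i)
  have h1 : (h i).val < 8 := (h i).isLt
  have h3 : (h (h i)).val < 8 := (h (h i)).isLt
  have h4 : i.val < 8 := i.isLt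
  change (h (h i)).val / 2 = i.val / 2
  by_cases hc : i.val / 2 = (h i).val / 2
  · have := ha.1 hc
    omega
  · by_contra hcon
    have h5 : (h i).val / 2 = (h (h i)).val / 2 := by omega
    exact hc (ha.2 h5)

/-- step 3 -/
theorem sq_one (k : Equiv.Perm (Fin 8)) (hk : ∀ i : Fin 8, (k i).val / 2 = i.val / 2) : k * k = 1 := by
  ext i : 1
  change k (k i) = i
  have p1 := hk i
  have p2 := hk (k i)
  by_cases hc : k i = i
  · rw [hc, hc]
  · have h5 : k (k i) ≠ k i := fun h => hc (k.injective h)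
    have h6 : (k (k i)).val ≠ (k i).val := fun h => h5 (Fin.ext h)
    have h7 : (k i).val ≠ i.val := fun h => hc (Fin.ext h)
    apply Fin.ext
    omega

theorem pow8 (g : Equiv.Perm (Fin 8)) (hg : g ∈ P0) : g ^ 8 = 1 := by
  have h1 : g * g ∈ P0 := P0.mul_mem hg hg
  have h2 := sq_quad g hg
  have h3 := sq_pair (g * g) h1 h2
  have h4 := sq_one ((g * g) * (g * g)) h3
  calc g ^ 8 = ((g * g) * (g * g)) * ((g * g) * (g * g)) := by
        simp only [pow_succ, pow_zero, one_mul, mul_assoc]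
    _ = 1 := h4

theorem P0_pgroup : IsPGroup 2 P0 := by
  intro g
  refine ⟨3, ?_⟩
  apply Subtype.ext
  have := pow8 g.1 g.2
  simpa using this


theorem reduction
    (star : ∀ y : Equiv.Perm (Fin 8), ∃ g : Equiv.Perm (Fin 8), g ≠ 1 ∧ g ∈ P0 ∧ y⁻¹ * g * y ∈ P0)
    (H : Sylow 2 (Equiv.Perm (Fin 8))) (x : Equiv.Perm (Fin 8)) :
    (H : Subgroup (Equiv.Perm (Fin 8))) ⊓
      (H : Subgroup (Equiv.Perm (Fin 8))).map (MulAut.conj x).toMonoidHom ≠ ⊥ := by
  have : Fact (Nat.Prime 2) := ⟨Nat.prime_two⟩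
  obtain ⟨P, hP⟩ := P0_pgroup.exists_le_sylow
  obtain ⟨c, hc⟩ := MulAction.exists_smul_eq (Equiv.Perm (Fin 8)) P H
  have hmem : ∀ z, z ∈ (H : Subgroup (Equiv.Perm (Fin 8))) ↔
      c⁻¹ * z * c ∈ (P : Subgroup (Equiv.Perm (Fin 8))) := by
    intro z
    rw [← hc, Sylow.coe_subgroup_smul, Subgroup.mem_pointwise_smul_iff_inv_smul_mem]
    simp [MulAut.smul_def]
  obtain ⟨g, hg1, hg2, hg3⟩ := star (c⁻¹ * x * c)
  intro hbot
  have hmem2 : c * g * c⁻¹ ∈ (H : Subgroup (Equiv.Perm (Fin 8))) ⊓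
      (H : Subgroup (Equiv.Perm (Fin 8))).map (MulAut.conj x).toMonoidHom := by
    constructor
    · change c * g * c⁻¹ ∈ (H : Subgroup (Equiv.Perm (Fin 8)))
      rw [hmem]
      have : c⁻¹ * (c * g * c⁻¹) * c = g := by group
      rw [this]
      exact hP hg2
    · change c * g * c⁻¹ ∈ (H : Subgroup (Equiv.Perm (Fin 8))).map (MulAut.conj x).toMonoidHom
      refine ⟨x⁻¹ * (c * g * c⁻¹) * x, ?_, ?_⟩
      · change _ ∈ (H : Subgroup (Equiv.Perm (Fin 8)))
        rw [hmem]
        have : c⁻¹ * (x⁻¹ * (c * g * c⁻¹) * x) * c = (c⁻¹ * x * c)⁻¹ * g * (c⁻¹ * x * c) := by group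
        rw [this]
        exact hP hg3
      · simp [MulAut.conj_apply]
        group
  rw [hbot, Subgroup.mem_bot] at hmem2
  apply hg1
  have : g = c⁻¹ * (c * g * c⁻¹) * c := by group
  rw [this, hmem2]
  group



theorem invol_iff (G : Equiv.Perm (Fin 8)) (hG : G * G = 1) (A : Fin 8 → Fin 8 → Prop)
    (h : ∀ i j, A i j → A (G i) (G j)) : ∀ i j, A i j ↔ A (G i) (G j) := by
  intro i j
  refine ⟨h i j, fun h' => ?_⟩
  have := h (G i) (G j) h'
  have e : ∀ k, G (G k) = k := fun k => by rw [← Equiv.Perm.mul_apply, hG]; rfl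
  rwa [e, e] at this

theorem star (y : Equiv.Perm (Fin 8)) :
    ∃ g : Equiv.Perm (Fin 8), g ≠ 1 ∧ g ∈ P0 ∧ y⁻¹ * g * y ∈ P0 := by
  let lam : Fin 8 → Nat := fun i => (y⁻¹ i).val / 2
  have hl : ∀ i, lam i < 4 := fun i => by
    have := (y⁻¹ i).isLt
    simp only [lam]; omega
  have hsum : 16 ^ lam 0 + 16 ^ lam 1 + 16 ^ lam 2 + 16 ^ lam 3 + 16 ^ lam 4 + 16 ^ lam 5 +
      16 ^ lam 6 + 16 ^ lam 7 = 8738 := by
    have h1 : ∑ i : Fin 8, 16 ^ lam i = ∑ k : Fin 8, 16 ^ (k.val / 2) :=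
      Equiv.sum_comp y⁻¹ (fun k : Fin 8 => 16 ^ (k.val / 2))
    rw [Fin.sum_univ_eight, Fin.sum_univ_eight] at h1
    rw [h1]
    norm_num [Fin.val]
  have hchk := nest8_spec (lam 0) (lam 1) (lam 2) (lam 3) (lam 4) (lam 5) (lam 6) (lam 7)
    (hl 0) (hl 1) (hl 2) (hl 3) (hl 4) (hl 5) (hl 6) (hl 7)
  unfold chk at hchk
  rw [hsum] at hchk
  have hany : candC.any (presC (code lam)) = true := by
    simpa [code] using hchk
  obtain ⟨g, hgmem, hgp⟩ := List.any_eq_true.1 hany
  have hok := List.all_eq_true.1 cands_ok g hgmem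
  simp only [Bool.and_eq_true] at hok
  obtain ⟨⟨hinv, hnt⟩, hstd⟩ := hok
  have hsq := permOfCode_sq g hinv
  refine ⟨permOfCode g hinv, permOfCode_ne g hinv hnt, ?_, ?_⟩
  · let lams : Fin 8 → Nat := fun i => i.val / 2
    have hls : ∀ i, lams i < 4 := fun i => by
      have := i.isLt
      simp only [lams]; omega
    have hcs : code lams = 64080 := by norm_num [code, lams, Fin.val]
    rw [← hcs] at hstd
    have hps := pres_spec lams hls g hinv hstd
    rw [mem_P0]
    constructor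
    · exact invol_iff _ hsq (fun i j => i.val / 2 = j.val / 2) (fun i j h => (hps i j).1 h)
    · refine invol_iff _ hsq (fun i j => i.val / 4 = j.val / 4) (fun i j h => ?_)
      have := (hps i j).2 (by simp only [lams]; omega)
      simp only [lams] at this
      omega
  · have hps := pres_spec lam hl g hinv hgp
    have e1 : ∀ i : Fin 8, lam (y i) = i.val / 2 := fun i => by simp [lam]
    have e2 : ∀ i : Fin 8, ((y⁻¹ * permOfCode g hinv * y) i).val / 2 =
        lam (permOfCode g hinv (y i)) := fun i => rfl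
    have hA := invol_iff _ hsq (fun i j => lam i = lam j) (fun i j h => (hps i j).1 h)
    have hB := invol_iff _ hsq (fun i j => lam i / 2 = lam j / 2) (fun i j h => (hps i j).2 h)
    rw [mem_P0]
    constructor
    · intro i j
      rw [e2, e2, ← e1 i, ← e1 j]
      exact hA (y i) (y j)
    · intro i j
      have h4 : ∀ k : Fin 8, ((y⁻¹ * permOfCode g hinv * y) k).val / 4 =
          lam (permOfCode g hinv (y k)) / 2 := fun k => by
        rw [← e2 k, Nat.div_div_eq_div_mul]
      have h5 : ∀ k : Fin 8, k.val / 4 = lam (y k) / 2 := fun k => by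
        rw [e1 k, Nat.div_div_eq_div_mul]
      rw [h4, h4, h5 i, h5 j]
      exact hB (y i) (y j)



/-- In the symmetric group on 8 letters any two Sylow 2-subgroups have non-trivial intersection: for a Sylow 2-subgroup H and every element x, H ∩ xHx⁻¹ ≠ 1. -/
theorem result (H : Sylow 2 (Equiv.Perm (Fin 8))) (x : Equiv.Perm (Fin 8)) :
    (H : Subgroup (Equiv.Perm (Fin 8))) ⊓ (H : Subgroup (Equiv.Perm (Fin 8))).map (MulAut.conj x).toMonoidHom ≠ ⊥ := by
  exact reduction star H x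

end Cfsg.Agent.S5763
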