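-- S5876: fixed-point spaces in primitive soluble linear groups (architect helper24; pieces by helper5, helper18, helper21).
import Cfsg.Statements.S5876
import Cfsg.Agent.Lib.Helper24.S5876Defs
import Cfsg.Agent.Lib.Helper24.S5876P1
import Cfsg.Agent.H5.S5876FOP4
import Cfsg.Agent.H5.S5876FOP2
import Cfsg.Agent.Lib.Helper18.S5876FOP3

set_option autoImplicit false
open Cfsg

namespace Cfsg.Agent.S5876

open Matrix Module Cfsg.Agent.Lib.Helper24.S5876 in
/-- Fixed-point spaces in primitive soluble linear groups. Let F be a finite field and G a soluble subgroup of GL_n(F) that acts irreducibly on F^n and primitively (G preserves no decomposition of F^n into two or more independent subspaces of equal dimension). Then every non-identity element g of G has fixed-point space {v : g v = v} of dimension at most 3n/4. -/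
theorem result {F : Type*} [Field F] [Fintype F] {n : ℕ} (G : Subgroup (Matrix.GeneralLinearGroup (Fin n) F)) (hsol : IsSolvable G) (hirr : Cfsg.Geo.ActsIrreducibly (Cfsg.Geo.matrixSet G)) (hprim : ∀ (m t : ℕ) (D : Fin t → Submodule F (Fin n → F)), 2 ≤ t → Cfsg.Geo.IsMDecomposition m D → ¬ G ≤ Cfsg.Geo.decompositionStabilizer D) (g : Matrix.GeneralLinearGroup (Fin n) F) (hg : g ∈ G) (hg1 : g ≠ 1) :
    4 * Module.finrank F (Module.End.eigenspace (Matrix.toLin' (g : Matrix (Fin n) (Fin n) F)) 1) ≤ 3 * n := by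
  have hs := semiReg_of_primitive G hirr hprim
  obtain ⟨N, hNG, hN, hnil, hC⟩ := Cfsg.Agent.Lib.Helper18.S5876FOP3.exists_fitting G hsol
  by_cases hgN : g ∈ N
  · have := Cfsg.H5.S5876P2.two_mul_finrank_fix_le G hs N hNG hN hnil g hgN hg1
    change 4 * finrank F (fixS g) ≤ 3 * n
    omega
  · have hex : ∃ x ∈ N, g * x ≠ x * g := by
      by_contra hcon
      push Not at hcon
      exact hgN (hC g hg hcon)
    obtain ⟨x, hxN, hgx⟩ := hex
    have hyN : g⁻¹ * (x * g * x⁻¹) ∈ N := by
      have h1 : g⁻¹ * x * (g⁻¹)⁻¹ ∈ N := hN g⁻¹ (G.inv_mem hg) x hxN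
      rw [inv_inv] at h1
      have h2 := N.mul_mem h1 (N.inv_mem hxN)
      have e : g⁻¹ * x * g * x⁻¹ = g⁻¹ * (x * g * x⁻¹) := by group
      rwa [e] at h2
    have hy1 : g⁻¹ * (x * g * x⁻¹) ≠ 1 := by
      intro h1
      apply hgx
      have h2 : x * g * x⁻¹ = g := by
        have := congrArg (fun z => g * z) h1
        simpa [mul_assoc] using this
      have h3 := congrArg (fun z => z * x) h2
      simp only [inv_mul_cancel_right] at h3
      exact h3.symm
    have h1 := Cfsg.H5.S5876P2.two_mul_finrank_fix_le G hs N hNG hN hnil _ hyN hy1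
    have h2 := Cfsg.H5.S5876P4.finrank_fix_comm g x
    change 4 * finrank F (fixS g) ≤ 3 * n
    omega

end Cfsg.Agent.S5876
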