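import Cfsg.Statements.S5877
import Cfsg.Agent.Lib.Helper29.ES9

set_option autoImplicit false
open Cfsg

namespace Cfsg.Agent.S5877

/-- Eigenspaces of elements normalising an absolutely irreducible extraspecial group. Let F be a finite field, r a prime, and R ≤ GL_n(F) an absolutely irreducible extraspecial r-group (an r-group whose centre equals its derived subgroup and has order r) of exponent r or 4. Let g ∈ GL_n(F) normalise the product of R with the scalar matrices, have prime order ϖ and not be scalar, and let W be the eigenspace of g for any c ∈ F (W may be the zero subspace). Then dim W ≤ 3n/4 if ϖ = 2, dim W ≤ 2n/3 if ϖ = 3, and dim W ≤ n/2 if ϖ > 3; moreover if ϖ = 3 and 3 does not divide n then dim W ≤ n/2. -/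
theorem result {F : Type*} [Field F] [Fintype F] {n r ϖ : ℕ} (R : Subgroup (Matrix.GeneralLinearGroup (Fin n) F)) (hr : r.Prime) (hR : IsPGroup r R) (hZ : Nat.card (Subgroup.center R) = r) (hext : commutator R = Subgroup.center R) (hexp : Monoid.exponent R = r ∨ Monoid.exponent R = 4) (hirr : Cfsg.Geo.ActsAbsolutelyIrreducibly (Cfsg.Geo.matrixSet R)) (g : Matrix.GeneralLinearGroup (Fin n) F) (hg : g ∈ Cfsg.Geo.subgroupNormalizer (R ⊔ Cfsg.Geo.scalars (Fin n) F)) (hϖ : ϖ.Prime) (hord : orderOf g = ϖ) (hns : g ∉ Cfsg.Geo.scalars (Fin n) F) (c : F) :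
    (ϖ = 2 → 4 * Module.finrank F (Module.End.eigenspace (Matrix.toLin' (g : Matrix (Fin n) (Fin n) F)) c) ≤ 3 * n) ∧
    (ϖ = 3 → 3 * Module.finrank F (Module.End.eigenspace (Matrix.toLin' (g : Matrix (Fin n) (Fin n) F)) c) ≤ 2 * n) ∧
    (3 < ϖ → 2 * Module.finrank F (Module.End.eigenspace (Matrix.toLin' (g : Matrix (Fin n) (Fin n) F)) c) ≤ n) ∧
    (ϖ = 3 → ¬ 3 ∣ n → 2 * Module.finrank F (Module.End.eigenspace (Matrix.toLin' (g : Matrix (Fin n) (Fin n) F)) c) ≤ n) := by
  classical
  rcases Nat.eq_zero_or_pos n with hn0 | hn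
  · subst hn0
    have h0 : Module.finrank F (Module.End.eigenspace
        (Matrix.toLin' (g : Matrix (Fin 0) (Fin 0) F)) c) = 0 :=
      Module.finrank_zero_of_subsingleton
    rw [h0]
    refine ⟨fun _ => by omega, fun _ => by omega, fun _ => by omega, fun _ _ => by omega⟩
  have hsetup := Cfsg.Agent.Lib.Helper29.ES.setup_of_extraspecial R hr hZ hext hirr hn
  obtain ⟨ω, hω⟩ := Cfsg.Agent.Lib.Helper29.ES.exists_primitiveRoot R hr hZ hirr hn
  have hgN : ∀ a, a ∈ R ⊔ Cfsg.Geo.scalars (Fin n) F ↔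
      g * a * g⁻¹ ∈ R ⊔ Cfsg.Geo.scalars (Fin n) F := fun a =>
    Subgroup.mem_set_normalizer_iff.mp hg a
  have hgϖ : g ^ ϖ = 1 := by rw [← hord]; exact pow_orderOf_eq_one g
  have hgs : ¬ Cfsg.Agent.Lib.Helper29.ES.IsSc ((g : Matrix.GeneralLinearGroup (Fin n) F) :
      Matrix (Fin n) (Fin n) F) := by
    rintro ⟨d, hd⟩
    apply hns
    rw [Cfsg.Geo.mem_scalars_iff]
    have hd0 : d ≠ 0 := by
      intro h
      rw [h, zero_smul] at hd
      have h1 : (g : Matrix (Fin n) (Fin n) F) * ((g⁻¹ : Matrix.GeneralLinearGroup (Fin n) F) :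
          Matrix (Fin n) (Fin n) F) = 1 := by
        rw [← Units.val_mul, mul_inv_cancel, Units.val_one]
      rw [hd, Matrix.zero_mul] at h1
      have h2 := congrFun (congrFun h1 ⟨0, hn⟩) ⟨0, hn⟩
      simp at h2
    exact ⟨Units.mk0 d hd0, hd⟩
  have h3n : r = 3 → 3 ∣ n := by
    intro hr3
    subst hr3
    have hexp3 : Monoid.exponent R = 3 := by
      rcases hexp with h | h
      · exact h
      · exfalso
        obtain ⟨k, hk⟩ := (IsPGroup.iff_card (p := 3) (G := R)).mp hR
        have h1 : Monoid.exponent R ∣ Nat.card R := Group.exponent_dvd_nat_card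
        rw [h, hk] at h1
        have h2 : 2 ∣ 3 ^ k := Dvd.dvd.trans (by norm_num) h1
        have h3 := Nat.Prime.dvd_of_dvd_pow Nat.prime_two h2
        omega
    obtain ⟨a, haR, hans⟩ := Cfsg.Agent.Lib.Helper29.ES.exists_nonscalar R hr hZ hext
    have ha3 : a ^ 3 = 1 := by
      have h1 := Monoid.pow_exponent_eq_one (⟨a, haR⟩ : R)
      rw [hexp3] at h1
      have := congrArg Subtype.val h1
      simpa using this
    exact hsetup.dvd_of_pow_eq_one ω hω (Subgroup.mem_sup_left haR) hans ha3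
  exact hsetup.core ω hω g hgN ϖ hϖ hgϖ hgs h3n c

end Cfsg.Agent.S5877
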