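-- Statement S5885.
import Cfsg.Statements.S5885
-- import your own Cfsg.Agent.* helpers here

set_option autoImplicit false
open Cfsg

namespace Cfsg.Agent.S5885


section
variable {G : Type*} [Group G]

lemma coatom_subgroupOf {H K : Subgroup G} (hHK : H ≤ K) :
    IsCoatom (H.subgroupOf K) ↔ H < K ∧ ∀ L : Subgroup G, H < L → L ≤ K → L = K := by
  constructor
  · rintro ⟨h1, h2⟩
    refine ⟨lt_of_le_of_ne hHK ?_, ?_⟩
    · intro hne
      apply h1
      rw [Subgroup.subgroupOf_eq_top, hne]
    · intro L hHL hLK
      have hle : H.subgroupOf K ≤ L.subgroupOf K := Subgroup.comap_mono hHL.le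
      have hne : H.subgroupOf K ≠ L.subgroupOf K := by
        intro heq
        have := congrArg (Subgroup.map K.subtype) heq
        rw [Subgroup.subgroupOf_map_subtype, Subgroup.subgroupOf_map_subtype,
          inf_eq_left.mpr hHK, inf_eq_left.mpr hLK] at this
        exact hHL.ne this
      have := h2 _ (lt_of_le_of_ne hle hne)
      rw [Subgroup.subgroupOf_eq_top] at this
      exact le_antisymm hLK this
  · rintro ⟨h1, h2⟩
    refine ⟨?_, ?_⟩
    · rw [Ne, Subgroup.subgroupOf_eq_top]
      exact fun h => absurd h1 (not_lt_of_ge h)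
    · intro X hX
      have hXK : X.map K.subtype ≤ K := Subgroup.map_subtype_le X
      have hHX : H < X.map K.subtype := by
        have hle : H ≤ X.map K.subtype := by
          have := Subgroup.map_mono (f := K.subtype) hX.le
          rwa [Subgroup.subgroupOf_map_subtype, inf_eq_left.mpr hHK] at this
        refine lt_of_le_of_ne hle ?_
        intro heq
        apply hX.ne
        rw [heq, Subgroup.subgroupOf, Subgroup.comap_map_eq_self_of_injective K.subtype_injective]
      have := h2 _ hHX hXK
      rw [eq_top_iff]
      intro x _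
      have hx : (x : G) ∈ X.map K.subtype := by rw [this]; exact x.2
      obtain ⟨y, hy, hyx⟩ := hx
      have : y = x := Subtype.ext hyx
      rwa [← this]

end

section
open MulAction

lemma alt_le_range {G Ω : Type*} [Group G] [Fintype Ω] [DecidableEq Ω] [MulAction G Ω]
    (hprim : MulAction.IsPreprimitive G Ω) (n : ℕ) (hcard : Fintype.card Ω = n)
    (hA : ∀ P : Subgroup (Equiv.Perm (Fin n)), MulAction.IsPreprimitive P (Fin n) →
      alternatingGroup (Fin n) ≤ P) :
    alternatingGroup Ω ≤ (MulAction.toPermHom G Ω).range := by
  let e : Ω ≃ Fin n := Fintype.equivFinOfCardEq hcard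
  let θ : G →* Equiv.Perm (Fin n) := e.permCongrHom.toMonoidHom.comp (MulAction.toPermHom G Ω)
  let f : Ω →ₑ[θ.rangeRestrict] (Fin n) :=
    { toFun := e
      map_smul' := by
        intro g x
        change e (g • x) = θ g (e x)
        simp [θ, Equiv.permCongrHom, Equiv.permCongr_apply] }
  have hP : MulAction.IsPreprimitive θ.range (Fin n) :=
    MulAction.IsPreprimitive.of_surjective (f := f) e.surjective
  have h1 := hA θ.range hP
  intro σ hσ
  have hσ' : e.permCongrHom σ ∈ alternatingGroup (Fin n) := by
    rw [Equiv.Perm.mem_alternatingGroup] at hσ ⊢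
    have : e.permCongrHom σ = e.permCongr σ := rfl
    rw [this, Equiv.Perm.sign_permCongr, hσ]
  obtain ⟨g, hg⟩ := h1 hσ'
  refine ⟨g, ?_⟩
  apply e.permCongrHom.injective
  exact hg

end

section
open MulAction
open Pointwise

theorem result' {G : Type*} [Group G]
    [Finite G] (n : ℕ) (hodd : Odd n)
    (hA : ∀ P : Subgroup (Equiv.Perm (Fin n)), MulAction.IsPreprimitive P (Fin n) → alternatingGroup (Fin n) ≤ P)
    (M : Subgroup G) (hM : IsCoatom M) (hn : M.index = n) (H : Subgroup G) (hHM : H ≤ M)
    (hmax : IsCoatom (H.subgroupOf M)) (K : Subgroup G) (hK : IsCoatom K) (hHK : H ≤ K) :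
    IsCoatom (H.subgroupOf K) := by
  classical
  by_cases hKM : K = M
  · subst hKM; exact hmax
  have hKtop : K ≠ ⊤ := hK.1
  obtain ⟨hHltM, hHmaxM⟩ := (coatom_subgroupOf hHM).mp hmax
  have hbetween : ∀ X : Subgroup G, H ≤ X → X ≤ M → X = H ∨ X = M := by
    intro X h1 h2
    by_cases h : X = H
    · exact Or.inl h
    · exact Or.inr (hHmaxM X (lt_of_le_of_ne h1 (Ne.symm h)) h2)
  have hMK : ¬ M ≤ K := by
    intro h
    rcases eq_or_lt_of_le h with h' | h'
    · exact hKM h'.symm
    · exact hKtop (hM.2 K h')
  have hKM_inf : K ⊓ M = H := by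
    rcases hbetween (K ⊓ M) (le_inf hHK hHM) inf_le_right with h | h
    · exact h
    · exact absurd (h ▸ inf_le_left : M ≤ K) hMK
  rw [coatom_subgroupOf hHK]
  constructor
  · refine lt_of_le_of_ne hHK ?_
    intro hHK'
    have hKM' : K ≤ M := hHK' ▸ hHM
    rcases eq_or_lt_of_le hKM' with h' | h'
    · exact hKM h'
    · exact hM.1 (hK.2 M h')
  · intro L hHL hLK
    let Ω := G ⧸ M
    haveI : Fintype Ω := Fintype.ofFinite Ω
    have hcard : Fintype.card Ω = n := by
      rw [← Nat.card_eq_fintype_card]; exact hn
    let a : Ω := ((1 : G) : Ω)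
    have hstab : MulAction.stabilizer G a = M := MulAction.stabilizer_quotient M
    let Δ : Set Ω := MulAction.orbit L a
    let S : Subgroup G := MulAction.stabilizer G Δ
    have haΔ : a ∈ Δ := MulAction.mem_orbit_self a
    have hLS : L ≤ S := by
      intro l hl
      change l • Δ = Δ
      have hsub : ∀ l' ∈ L, l' • Δ ⊆ Δ := by
        intro l' hl'
        rintro _ ⟨x, ⟨⟨l₀, hl₀⟩, rfl⟩, rfl⟩
        exact ⟨⟨l' * l₀, L.mul_mem hl' hl₀⟩, mul_smul l' l₀ a⟩
      apply Set.Subset.antisymm (hsub l hl)
      intro x hx
      have := hsub l⁻¹ (L.inv_mem hl) (Set.smul_mem_smul_set hx)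
      have h2 := Set.smul_mem_smul_set (a := l) this
      rwa [smul_inv_smul] at h2
    have hLM : L ⊓ M = H :=
      le_antisymm (by rw [← hKM_inf]; exact inf_le_inf_right M hLK) (le_inf hHL.le hHM)
    have hLnM : ¬ L ≤ M := by
      intro h
      have : L ≤ H := by rw [← hLM]; exact le_inf le_rfl h
      exact absurd hHL (not_lt_of_ge this)
    have key : ∀ s ∈ S, ∃ l ∈ L, l⁻¹ * s ∈ S ⊓ M := by
      intro s hs
      have h1 : s • Δ = Δ := hs
      have h2 : s • a ∈ Δ := by
        rw [← h1]; exact Set.smul_mem_smul_set haΔ
      obtain ⟨⟨l, hl⟩, hla⟩ := h2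
      have hla' : l • a = s • a := hla
      have h3 : l⁻¹ * s ∈ MulAction.stabilizer G a := by
        rw [MulAction.mem_stabilizer_iff, mul_smul, ← hla', inv_smul_smul]
      rw [hstab] at h3
      exact ⟨l, hl, Subgroup.mem_inf.mpr ⟨S.mul_mem (S.inv_mem (hLS hl)) hs, h3⟩⟩
    rcases hbetween (S ⊓ M) (le_inf (hHL.le.trans hLS) hHM) inf_le_right with hX | hX
    · -- S ⊓ M = H : then S = L, the full set stabilizer, a coatom
      have hSL : S = L := by
        apply le_antisymm _ hLS
        intro s hs
        obtain ⟨l, hl, hls⟩ := key s hs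
        rw [hX] at hls
        have := L.mul_mem hl (hHL.le hls)
        simpa using this
      have hΔne : Δ.Nonempty := ⟨a, haΔ⟩
      have hΔc : Δᶜ.Nonempty := by
        rw [Set.nonempty_compl]
        intro hΔ
        have hStop : S = ⊤ := by
          rw [eq_top_iff]
          intro g _
          change g • Δ = Δ
          rw [hΔ]; exact Set.smul_set_univ
        have : M ≤ H := by rw [← hX, hStop]; simp
        exact absurd hHltM (not_lt_of_ge this)
      have hncard : Nat.card Ω ≠ 2 * Δ.ncard := by
        rw [Nat.card_eq_fintype_card, hcard]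
        intro h
        rw [h] at hodd
        exact (Nat.not_odd_iff_even.mpr (even_two_mul _)) hodd
      -- primitivity
      haveI : Nontrivial Ω := by
        rw [← Fintype.one_lt_card_iff_nontrivial, hcard]
        rcases hodd with ⟨k, hk⟩
        by_contra hcon
        have hn1 : n = 1 := by omega
        rw [hn1] at hn
        exact hM.1 (Subgroup.index_eq_one.mp hn)
      have hprim : MulAction.IsPreprimitive G Ω := by
        rw [← MulAction.isCoatom_stabilizer_iff_preprimitive (G := G) (X := Ω) a, hstab]
        exact hM
      have halt := alt_le_range hprim n hcard hA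
      let φ : G →* Equiv.Perm Ω := MulAction.toPermHom G Ω
      have hLcoatom : IsCoatom L := by
        have hidx : φ.range.index ∣ 2 := by
          have := Subgroup.index_dvd_of_le halt
          rwa [alternatingGroup.index_eq_two] at this
        have h12 : φ.range.index = 1 ∨ φ.range.index = 2 := by
          have := Nat.le_of_dvd (by norm_num) hidx
          have h0 : φ.range.index ≠ 0 := Subgroup.index_ne_zero_of_finite
          omega
        rcases h12 with h1 | h2
        · have hsurj : Function.Surjective φ := by
            rw [← MonoidHom.range_eq_top]; exact Subgroup.index_eq_one.mp h1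
          have hco := Equiv.Perm.isCoatom_stabilizer hΔne hΔc hncard
          have := Subgroup.isCoatom_comap_of_surjective hsurj hco
          have heq : (MulAction.stabilizer (Equiv.Perm Ω) Δ).comap φ = L := by
            rw [← hSL]
            ext g
            rw [Subgroup.mem_comap, MulAction.mem_stabilizer_iff, MulAction.mem_stabilizer_iff]
            rfl
          rwa [heq] at this
        · have hrange : φ.range = alternatingGroup Ω :=
            Equiv.Perm.eq_alternatingGroup_of_index_eq_two h2
          let ψ : G →* alternatingGroup Ω := φ.codRestrict (alternatingGroup Ω) (fun g => by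
            rw [← hrange]; exact ⟨g, rfl⟩)
          have hsurj : Function.Surjective ψ := by
            rintro ⟨σ, hσ⟩
            rw [← hrange] at hσ
            obtain ⟨g, hg⟩ := hσ
            exact ⟨g, Subtype.ext hg⟩
          have hco := alternatingGroup.isCoatom_stabilizer hΔne hΔc hncard
          have := Subgroup.isCoatom_comap_of_surjective hsurj hco
          have heq : (MulAction.stabilizer (alternatingGroup Ω) Δ).comap ψ = L := by
            rw [← hSL]
            ext g
            rw [Subgroup.mem_comap, MulAction.mem_stabilizer_iff, MulAction.mem_stabilizer_iff]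
            rfl
          rwa [heq] at this
      rcases eq_or_lt_of_le hLK with h | h
      · exact h
      · exact absurd (hLcoatom.2 K h) hKtop
    · -- M ≤ S : then L is transitive on Ω and K ≤ L
      have hMS : M ≤ S := by rw [← hX]; exact inf_le_left
      have hsup : L ⊔ M = ⊤ := by
        apply hM.2
        refine lt_of_le_of_ne le_sup_right ?_
        intro h
        exact hLnM (h ▸ le_sup_left)
      have hStop : S = ⊤ := by
        rw [eq_top_iff, ← hsup]; exact sup_le hLS hMS
      apply le_antisymm hLK
      intro k hk
      obtain ⟨l, hl, hlk⟩ := key k (by rw [hStop]; trivial)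
      have h1 : l⁻¹ * k ∈ K ⊓ M := ⟨K.mul_mem (K.inv_mem (hLK hl)) hk, hlk.2⟩
      rw [hKM_inf] at h1
      have := L.mul_mem hl (hHL.le h1)
      simpa using this

end


/-- Let n be an odd positive integer such that every primitive permutation group of degree n contains the alternating group (so the symmetric and alternating groups are the only primitive groups of degree n). Let G be a finite group, M a maximal subgroup of G of index n, and H a maximal subgroup of M. Then H is a second maximal subgroup of G: H is maximal in every maximal subgroup K of G containing H. -/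
theorem result {G : Type*} [Group G]
    [Finite G] (n : ℕ) (hodd : Odd n)
    (hA : ∀ P : Subgroup (Equiv.Perm (Fin n)), MulAction.IsPreprimitive P (Fin n) → alternatingGroup (Fin n) ≤ P)
    (M : Subgroup G) (hM : IsCoatom M) (hn : M.index = n) (H : Subgroup G) (hHM : H ≤ M)
    (hmax : IsCoatom (H.subgroupOf M)) (K : Subgroup G) (hK : IsCoatom K) (hHK : H ≤ K) :
    IsCoatom (H.subgroupOf K) := by
  exact result' n hodd hA M hM hn H hHM hmax K hK hHK

end Cfsg.Agent.S5885
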