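import Cfsg.Statements.S5886
import Mathlib
import Cfsg.Agent.Lib.Helper17.ExtFMain
import Cfsg.Agent.Lib.Helper16.S5886FOP1
import Cfsg.Agent.Lib.Helper16.S5886FOSTRICT
import Cfsg.Agent.Lib.Helper20.S5886FOBR1
import Cfsg.Agent.Lib.Helper20.S5886FODET

set_option autoImplicit false
open Cfsg

namespace Cfsg.Agent.S5886

open Matrix Module Cfsg.Agent.Lib.Helper17.ExtF
open Cfsg.Agent.Lib.Helper17.ExtFMain (sl_le_of_moves)
open Cfsg.Agent.Lib.Helper16.S5886FOP1 (normalizes_of_not_moves)
open Cfsg.Agent.Lib.Helper16.S5886FOSTRICT (exists_sl_not_normalizes)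
open Cfsg.Agent.Lib.Helper20.S5886BR (fieldOf mem_normalizer_iff)
open Cfsg.Agent.Lib.Helper20.S5886DET (det_elem exists_centralizes_det)

lemma mem_sl_iff {F : Type*} [Field F] {n : ℕ} (g : GL (Fin n) F) :
    g ∈ Cfsg.Geo.specialLinear (Fin n) F ↔ (g : Matrix (Fin n) (Fin n) F).det = 1 := by
  change Matrix.GeneralLinearGroup.det g = 1 ↔ _
  rw [Units.ext_iff, Matrix.GeneralLinearGroup.val_det_apply, Units.val_one]

/-- Let F be a finite field, n a positive integer and r a prime that divides n with r < n. Let K be a subalgebra of the algebra of n × n matrices over F which is a field of degree r over F (commutative, every non-zero element invertible, of dimension r over F; it contains the scalars). Then the normaliser N of K in GL_n(F) — the invertible F-linear maps that are semilinear over the field K, a group of type ΓL_{n/r}(F_{q^r}) for |F| = q — is a maximal subgroup of GL_n(F), and N ∩ SL_n(F) is a maximal subgroup of SL_n(F). No lower bound on n is assumed. -/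
theorem result {F : Type*} [Field F]
    [Fintype F] (n r : ℕ) (hr : r.Prime) (hrn : r ∣ n) (hlt : r < n) (K : Subalgebra F (Matrix (Fin n) (Fin n) F))
    (hK : Cfsg.Geo.IsFieldSubalgebra r K) :
    IsCoatom (Cfsg.Geo.subalgebraNormalizer K) ∧
      Cfsg.Geo.IsMaximalIn (Cfsg.Geo.specialLinear (Fin n) F)
        (Cfsg.Geo.subalgebraNormalizer K ⊓ Cfsg.Geo.specialLinear (Fin n) F) := by
  classical
  have hn0 : 0 < n := by omega
  letI := fieldOf K hK hn0
  have hrk : finrank F ↥K = r := hK.finrank_eq
  have hn2 : 2 * r ≤ n := by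
    obtain ⟨m, rfl⟩ := hrn
    have hrpos := hr.pos
    have hm : 2 ≤ m := by
      by_contra h
      have h : m < 2 := Nat.lt_of_not_le h
      have : r * m ≤ r * 1 := Nat.mul_le_mul_left r (by omega)
      omega
    have : r * 2 ≤ r * m := Nat.mul_le_mul_left r hm
    omega
  have hcomm_norm : ∀ g : GL (Fin n) F, (∀ a : ↥K, (g : Matrix (Fin n) (Fin n) F) * K.val a =
      K.val a * (g : Matrix (Fin n) (Fin n) F)) → g ∈ Cfsg.Geo.subalgebraNormalizer K := by
    intro g hg
    rw [mem_normalizer_iff K hK hn0]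
    intro a
    exact ⟨a, hg a⟩
  -- the key step
  have key : ∀ H : Subgroup (GL (Fin n) F),
      Cfsg.Geo.subalgebraNormalizer K ⊓ Cfsg.Geo.specialLinear (Fin n) F ≤ H →
      ¬ H ≤ Cfsg.Geo.subalgebraNormalizer K → Cfsg.Geo.specialLinear (Fin n) F ≤ H := by
    intro H hle hnot
    have hE : HasElem K.val H := by
      intro ψ e hψ hnorm g hg
      apply hle
      refine ⟨hcomm_norm g ?_, ?_⟩
      · intro a
        apply Matrix.toLin'.injective
        apply LinearMap.ext
        intro v
        rw [Matrix.toLin'_apply, Matrix.toLin'_apply, ← Matrix.mulVec_mulVec, ← Matrix.mulVec_mulVec]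
        have h1 := hg (K.val a *ᵥ v)
        have h2 := hg v
        unfold act at h1 h2
        rw [h1, h2, hψ a v, Matrix.mulVec_add, rho_mul_mulVec]
      · exact (mem_sl_iff g).2 (by rw [det_elem K.val hrk hr.pos ψ e hψ g hg, hnorm])
    have hN : Fintype.card F = 2 → ∀ g : GL (Fin n) F, Normalizes K.val g → g ∈ H := by
      intro hq g hg
      apply hle
      refine ⟨(mem_normalizer_iff K hK hn0 g).2 hg, ?_⟩
      have hsub : Subsingleton Fˣ := by
        rw [← Fintype.card_le_one_iff_subsingleton, Fintype.card_units, hq]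
      change Matrix.GeneralLinearGroup.det g = 1
      exact Subsingleton.elim _ _
    obtain ⟨g, hgH, hgN⟩ := SetLike.not_le_iff_exists.mp hnot
    have hnn : ¬ Normalizes K.val g := fun h => hgN ((mem_normalizer_iff K hK hn0 g).2 h)
    have hm : Moves K.val g := by
      by_contra h
      exact hnn (normalizes_of_not_moves K.val hrk hr.pos hn2 g h)
    exact sl_le_of_moves K.val hr hrk hn2 H hE hN g hgH hm
  obtain ⟨t, htSL, htN⟩ := exists_sl_not_normalizes K.val hrk hr.two_le hn2
  have htN' : t ∉ Cfsg.Geo.subalgebraNormalizer K := fun h =>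
    htN ((mem_normalizer_iff K hK hn0 t).1 h)
  refine ⟨⟨?_, ?_⟩, ⟨?_, ?_⟩⟩
  · intro htop
    exact htN' (htop ▸ Subgroup.mem_top t)
  · intro H hNH
    have hSL := key H (inf_le_left.trans hNH.le) (not_le_of_gt hNH)
    rw [eq_top_iff]
    intro x _
    obtain ⟨ν, hνc, hνd⟩ := exists_centralizes_det K.val hrk hr.pos (by omega)
      (Matrix.GeneralLinearGroup.det x)
    have hνH : ν ∈ H := hNH.le (hcomm_norm ν hνc)
    have hx : x * ν⁻¹ ∈ H := by
      apply hSL
      rw [mem_sl_iff, Units.val_mul, Matrix.det_mul, Matrix.coe_units_inv, Matrix.det_nonsing_inv,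
        hνd, Matrix.GeneralLinearGroup.val_det_apply]
      have hdx : IsUnit (x : Matrix (Fin n) (Fin n) F).det :=
        (Matrix.isUnit_iff_isUnit_det _).1 (Units.isUnit x)
      rw [Ring.mul_inverse_cancel _ hdx]
    have := H.mul_mem hx hνH
    simpa using this
  · refine lt_of_le_of_ne inf_le_right ?_
    intro h
    have : t ∈ Cfsg.Geo.subalgebraNormalizer K ⊓ Cfsg.Geo.specialLinear (Fin n) F := by
      rw [h]; exact htSL
    exact htN' this.1
  · intro M hle hMS
    by_cases hMN : M ≤ Cfsg.Geo.subalgebraNormalizer K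
    · left
      exact le_antisymm (le_inf hMN hMS) hle
    · right
      exact le_antisymm hMS (key M hle hMN)

end Cfsg.Agent.S5886
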