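-- Statement S5887.
import Cfsg.Statements.S5887
-- import your own Cfsg.Agent.* helpers here

set_option autoImplicit false
open Cfsg

namespace Cfsg.Agent.S5887

section
variable {F : Type*} [Field F] [Fintype F] {n : ℕ}

noncomputable abbrev fieldOf {r : ℕ} (K : Subalgebra F (Matrix (Fin n) (Fin n) F))
    (hK : Cfsg.Geo.IsFieldSubalgebra r K) (hn : 0 < n) : Field ↥K :=
  IsField.toField (R := ↥K)
    { exists_pair_ne := by
        haveI : Nonempty (Fin n) := ⟨⟨0, hn⟩⟩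
        refine ⟨0, 1, ?_⟩
        intro h
        have := congrArg Subtype.val h
        exact zero_ne_one this
      mul_comm := fun a b => Subtype.ext (hK.comm a a.2 b b.2)
      mul_inv_cancel := by
        intro a ha
        have ha' : (a : Matrix (Fin n) (Fin n) F) ≠ 0 := fun h => ha (Subtype.ext h)
        obtain ⟨y, hy, hxy⟩ := hK.inv a a.2 ha'
        exact ⟨⟨y, hy⟩, Subtype.ext hxy⟩ }

lemma arith1 (q r s : ℕ) (hq : 2 ≤ q) (hs : s < r) : q ^ s - 1 < q ^ r - 1 := by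
  have h1 : q ^ s < q ^ r := Nat.pow_lt_pow_right (by omega) hs
  have h2 : 0 < q ^ s := Nat.pos_of_ne_zero (by positivity)
  omega

lemma field_facts {r : ℕ} (K : Subalgebra F (Matrix (Fin n) (Fin n) F))
    (hK : Cfsg.Geo.IsFieldSubalgebra r K) (hn : 0 < n) (s : ℕ) (hs1 : 1 < s) (hsr : s ∣ r)
    (hslt : s < r) :
    ∃ ζ η : Matrix (Fin n) (Fin n) F, ζ ∈ K ∧ ζ ^ (Fintype.card F ^ s) ≠ ζ ∧ η ∈ K ∧
      η ^ (Fintype.card F ^ s) = η ∧ (∀ c : F, η ≠ c • 1) := by
  classical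
  letI := fieldOf K hK hn
  haveI : Fintype ↥K := Fintype.ofFinite _
  set q := Fintype.card F with hq
  have hq2 : 2 ≤ q := Fintype.one_lt_card
  have hcard : Fintype.card ↥K = q ^ r := by
    rw [Module.card_eq_pow_finrank (K := F) (V := ↥K), hK.finrank_eq]
  obtain ⟨g, hg⟩ := IsCyclic.exists_generator (α := (↥K)ˣ)
  have hord : orderOf g = q ^ r - 1 := by
    rw [orderOf_eq_card_of_forall_mem_zpowers hg, Nat.card_eq_fintype_card, Fintype.card_units, hcard]
  have hqs : q < q ^ s := by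
    have : q ^ 1 < q ^ s := Nat.pow_lt_pow_right (by omega) hs1
    rwa [pow_one] at this
  have hQ1 : 0 < q ^ s - 1 := by omega
  have hdvd : q ^ s - 1 ∣ q ^ r - 1 := by
    obtain ⟨t, rfl⟩ := hsr
    rw [pow_mul]
    simpa using Nat.sub_dvd_pow_sub_pow (q ^ s) 1 t
  obtain ⟨m, hm⟩ := hdvd
  refine ⟨((g : ↥K) : Matrix (Fin n) (Fin n) F), (((g ^ m : (↥K)ˣ) : ↥K) : Matrix (Fin n) (Fin n) F),
    (g : ↥K).2, ?_, ((g ^ m : (↥K)ˣ) : ↥K).2, ?_, ?_⟩
  · intro h
    have h1 : (g : ↥K) ^ (q ^ s) = (g : ↥K) := Subtype.ext (by simpa using h)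
    have h2 : g ^ (q ^ s - 1) = 1 := by
      apply Units.ext
      have h3 : (g : ↥K) ^ (q ^ s - 1) * (g : ↥K) = 1 * (g : ↥K) := by
        rw [← pow_succ, Nat.sub_add_cancel (by omega), h1, one_mul]
      have := mul_right_cancel₀ (Units.ne_zero g) h3
      simpa using this
    have h4 := orderOf_dvd_of_pow_eq_one h2
    rw [hord] at h4
    have := Nat.le_of_dvd hQ1 h4
    have := arith1 q r s hq2 hslt
    omega
  · have h2 : (g ^ m) ^ (q ^ s - 1) = 1 := by
      rw [← pow_mul, mul_comm, ← hm, ← hord, pow_orderOf_eq_one]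
    have h3 : ((g ^ m : (↥K)ˣ) : ↥K) ^ (q ^ s) = ((g ^ m : (↥K)ˣ) : ↥K) := by
      have : q ^ s = (q ^ s - 1) + 1 := by omega
      rw [this, pow_succ, ← Units.val_pow_eq_pow_val, h2, Units.val_one, one_mul]
    have := congrArg Subtype.val h3
    simpa using this
  · intro c hc
    -- η = c • 1 leads to η^(q-1) = 1
    have hc0 : c ≠ 0 := by
      rintro rfl
      rw [zero_smul] at hc
      have : ((g ^ m : (↥K)ˣ) : ↥K) = 0 := Subtype.ext hc
      exact Units.ne_zero _ this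
    have h1 : ((g ^ m : (↥K)ˣ) : ↥K) ^ (q - 1) = 1 := by
      apply Subtype.ext
      rw [SubmonoidClass.coe_pow, hc, smul_pow, one_pow, FiniteField.pow_card_sub_one_eq_one c hc0]
      simp
    have h2 : (g ^ m) ^ (q - 1) = 1 := by
      apply Units.ext
      rw [Units.val_pow_eq_pow_val, h1, Units.val_one]
    rw [← pow_mul] at h2
    have h4 := orderOf_dvd_of_pow_eq_one h2
    rw [hord, hm] at h4
    have hm0 : 0 < m := by
      rcases Nat.eq_zero_or_pos m with rfl | h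
      · have := arith1 q r s hq2 hslt
        omega
      · exact h
    have h5 : q ^ s - 1 ∣ q - 1 := by
      rw [mul_comm] at h4
      exact Nat.dvd_of_mul_dvd_mul_left hm0 h4
    have h6 := Nat.le_of_dvd (by omega) h5
    omega

lemma not_scalar_vec (η : Matrix (Fin n) (Fin n) F) (hη : ∀ c : F, η ≠ c • 1) :
    ∃ v : Fin n → F, ∀ c : F, η.mulVec v ≠ c • v := by
  by_contra hcon
  push Not at hcon
  choose c hc using fun i : Fin n => hcon (Pi.single i 1)
  obtain ⟨c₀, hc₀⟩ := hcon (fun _ => 1)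
  have hentry : ∀ j i, η j i = if j = i then c i else 0 := by
    intro j i
    have := congrFun (hc i) j
    rw [Matrix.mulVec_single_one] at this
    simp only [Matrix.col_apply, Pi.smul_apply, smul_eq_mul, Pi.single_apply] at this
    rw [this]
    split_ifs <;> simp
  have hci : ∀ i, c i = c₀ := by
    intro i
    have := congrFun hc₀ i
    simp only [Matrix.mulVec, dotProduct, Pi.smul_apply, smul_eq_mul, mul_one, hentry,
      Finset.sum_ite_eq, Finset.mem_univ, if_true] at this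
    exact this
  apply hη c₀
  ext j i
  rw [hentry, hci]
  simp [Matrix.one_apply]

lemma mulVec_ext {A B : Matrix (Fin n) (Fin n) F} (h : ∀ x, A.mulVec x = B.mulVec x) : A = B := by
  apply Matrix.toLin'.injective
  refine LinearMap.ext fun x => ?_
  rw [Matrix.toLin'_apply, Matrix.toLin'_apply]
  exact h x

lemma unipotent (p : ℕ) [hp : Fact p.Prime] [CharP F p] (hn : 0 < n)
    (A : Matrix (Fin n) (Fin n) F) (hA : A * A = 0) :
    ∃ g : GL (Fin n) F, (g : Matrix (Fin n) (Fin n) F) = 1 + A ∧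
      ((g⁻¹ : GL (Fin n) F) : Matrix (Fin n) (Fin n) F) = 1 - A ∧
      g ∈ Cfsg.Geo.specialLinear (Fin n) F := by
  haveI : Nonempty (Fin n) := ⟨⟨0, hn⟩⟩
  have h1 : (1 + A) * (1 - A) = 1 := by
    rw [mul_sub, add_mul, add_mul, hA]; simp
  have h2 : (1 - A) * (1 + A) = 1 := by
    rw [mul_add, sub_mul, sub_mul, hA]; simp
  refine ⟨⟨1 + A, 1 - A, h1, h2⟩, rfl, rfl, ?_⟩
  change Matrix.GeneralLinearGroup.det _ = 1
  apply Units.ext
  change Matrix.det (1 + A) = 1
  have hAp : A ^ p = 0 := by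
    have : p = 2 + (p - 2) := by have := hp.1.two_le; omega
    rw [this, pow_add, pow_two, hA, zero_mul]
  have h3 : (1 + A) ^ p = 1 := by
    rw [add_pow_char_of_commute (p := p) (Commute.one_left A), one_pow, hAp, add_zero]
  have h4 : Matrix.det (1 + A) ^ p = 1 := by
    rw [← Matrix.det_pow, h3, Matrix.det_one]
  have h5 : (Matrix.det (1 + A) - 1) ^ p = 0 := by
    rw [sub_pow_char, h4, one_pow, sub_self]
  exact sub_eq_zero.mp (pow_eq_zero_iff (hp.1.ne_zero) |>.mp h5)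

def subK (p : ℕ) [hp : Fact p.Prime] [CharP F p] (hn : 0 < n)
    (K : Subalgebra F (Matrix (Fin n) (Fin n) F))
    (hcomm : ∀ x ∈ K, ∀ y ∈ K, x * y = y * x) (e : ℕ) (hQ : ∀ c : F, c ^ (p ^ e) = c) :
    Subalgebra F (Matrix (Fin n) (Fin n) F) where
  carrier := {x | x ∈ K ∧ x ^ (p ^ e) = x}
  mul_mem' := by
    rintro x y ⟨hx, hx'⟩ ⟨hy, hy'⟩
    refine ⟨K.mul_mem hx hy, ?_⟩
    have hc : Commute x y := hcomm x hx y hy
    rw [hc.mul_pow, hx', hy']
  add_mem' := by
    rintro x y ⟨hx, hx'⟩ ⟨hy, hy'⟩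
    refine ⟨K.add_mem hx hy, ?_⟩
    haveI : Nonempty (Fin n) := ⟨⟨0, hn⟩⟩
    have hc : Commute x y := hcomm x hx y hy
    rw [add_pow_char_pow_of_commute p e hc, hx', hy']
  algebraMap_mem' := by
    intro c
    refine ⟨K.algebraMap_mem c, ?_⟩
    rw [← map_pow, hQ]

lemma mem_subK (p : ℕ) [hp : Fact p.Prime] [CharP F p] (hn : 0 < n)
    (K : Subalgebra F (Matrix (Fin n) (Fin n) F))
    (hcomm : ∀ x ∈ K, ∀ y ∈ K, x * y = y * x) (e : ℕ) (hQ : ∀ c : F, c ^ (p ^ e) = c)
    (x : Matrix (Fin n) (Fin n) F) :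
    x ∈ subK p hn K hcomm e hQ ↔ x ∈ K ∧ x ^ (p ^ e) = x := Iff.rfl

lemma normalizer_le (p : ℕ) [hp : Fact p.Prime] [CharP F p] (hn : 0 < n)
    (K : Subalgebra F (Matrix (Fin n) (Fin n) F))
    (hcomm : ∀ x ∈ K, ∀ y ∈ K, x * y = y * x) (e : ℕ) (hQ : ∀ c : F, c ^ (p ^ e) = c) :
    Cfsg.Geo.subalgebraNormalizer K ≤ Cfsg.Geo.subalgebraNormalizer (subK p hn K hcomm e hQ) := by
  intro g hg k
  have hg' := hg k
  rw [mem_subK, mem_subK, ← hg', Units.conj_pow]
  constructor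
  · rintro ⟨h1, h2⟩
    exact ⟨h1, by rw [h2]⟩
  · rintro ⟨h1, h2⟩
    refine ⟨h1, ?_⟩
    have := congrArg (fun M => ((g⁻¹ : GL (Fin n) F) : Matrix (Fin n) (Fin n) F) * M * (g : Matrix (Fin n) (Fin n) F)) h2
    simp only [← mul_assoc] at this
    simpa [mul_assoc] using this

lemma K_kills {r : ℕ} (K : Subalgebra F (Matrix (Fin n) (Fin n) F))
    (hK : Cfsg.Geo.IsFieldSubalgebra r K) (k : Matrix (Fin n) (Fin n) F) (hk : k ∈ K)
    (x : Fin n → F) (hx : x ≠ 0) (hkx : k.mulVec x = 0) : k = 0 := by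
  by_contra hk0
  obtain ⟨y, hy, hky⟩ := hK.inv k hk hk0
  have hyk : y * k = 1 := by rw [hK.comm y hy k hk, hky]
  apply hx
  have : (y * k).mulVec x = x := by rw [hyk, Matrix.one_mulVec]
  rw [← this, ← Matrix.mulVec_mulVec, hkx, Matrix.mulVec_zero]

lemma exists_not_in_Kv {r : ℕ} (K : Subalgebra F (Matrix (Fin n) (Fin n) F))
    (hK : Cfsg.Geo.IsFieldSubalgebra r K) (hrn : r < n) (v : Fin n → F) :
    ∃ u : Fin n → F, ∀ k ∈ K, k.mulVec v ≠ u := by
  classical
  by_contra hcon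
  push Not at hcon
  haveI : Fintype ↥K := Fintype.ofFinite _
  have hsurj : Function.Surjective (fun k : ↥K => (k : Matrix (Fin n) (Fin n) F).mulVec v) := by
    intro u
    obtain ⟨k, hk, hku⟩ := hcon u
    exact ⟨⟨k, hk⟩, hku⟩
  have h1 := Fintype.card_le_of_surjective _ hsurj
  have hcard : Fintype.card ↥K = Fintype.card F ^ r := by
    rw [Module.card_eq_pow_finrank (K := F) (V := ↥K), hK.finrank_eq]
  rw [hcard, Fintype.card_fun, Fintype.card_fin] at h1
  have hq2 : 2 ≤ Fintype.card F := Fintype.one_lt_card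
  have := Nat.pow_lt_pow_right (show 1 < Fintype.card F by omega) hrn
  omega

lemma exists_g2 {r : ℕ} (p : ℕ) [hp : Fact p.Prime] [CharP F p]
    (K : Subalgebra F (Matrix (Fin n) (Fin n) F))
    (hK : Cfsg.Geo.IsFieldSubalgebra r K) (hrn : r < n)
    (K₀ : Subalgebra F (Matrix (Fin n) (Fin n) F)) (hK₀ : K₀ ≤ K)
    (η : Matrix (Fin n) (Fin n) F) (hη : η ∈ K₀) (hηs : ∀ c : F, η ≠ c • 1) :
    ∃ g : GL (Fin n) F, g ∈ Cfsg.Geo.specialLinear (Fin n) F ∧
      g ∉ Cfsg.Geo.subalgebraNormalizer K₀ := by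
  classical
  have hn : 0 < n := by omega
  obtain ⟨v, hv⟩ := not_scalar_vec η hηs
  obtain ⟨u, hu⟩ := exists_not_in_Kv K hK hrn v
  -- the functional
  have hnot : η.mulVec v ∉ Submodule.span F ({v, u} : Set (Fin n → F)) := by
    intro hmem
    rw [Submodule.mem_span_pair] at hmem
    obtain ⟨a, b, hab⟩ := hmem
    by_cases hb : b = 0
    · rw [hb, zero_smul, add_zero] at hab
      exact hv a hab.symm
    · apply hu (b⁻¹ • (η - a • 1)) (K.smul_mem (K.sub_mem (hK₀ hη) (K.smul_mem K.one_mem a)) _)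
      rw [Matrix.smul_mulVec, Matrix.sub_mulVec, Matrix.smul_mulVec, Matrix.one_mulVec, ← hab]
      rw [add_sub_cancel_left, smul_smul, inv_mul_cancel₀ hb, one_smul]
  obtain ⟨f, hf1, hf2⟩ := Submodule.exists_dual_map_eq_bot_of_notMem hnot inferInstance
  have hfv : f v = 0 := by
    have : f v ∈ (Submodule.span F ({v, u} : Set (Fin n → F))).map f :=
      Submodule.mem_map_of_mem (Submodule.subset_span (by simp))
    rw [hf2] at this
    exact (Submodule.mem_bot F).mp this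
  have hfu : f u = 0 := by
    have : f u ∈ (Submodule.span F ({v, u} : Set (Fin n → F))).map f :=
      Submodule.mem_map_of_mem (Submodule.subset_span (by simp))
    rw [hf2] at this
    exact (Submodule.mem_bot F).mp this
  let φ : Module.Dual F (Fin n → F) := (f (η.mulVec v))⁻¹ • f
  have hφv : φ v = 0 := by simp [φ, hfv]
  have hφu : φ u = 0 := by simp [φ, hfu]
  have hφη : φ (η.mulVec v) = 1 := by simp [φ, hf1]
  let N : (Fin n → F) →ₗ[F] (Fin n → F) := φ.smulRight u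
  let A : Matrix (Fin n) (Fin n) F := LinearMap.toMatrix' N
  have hAx : ∀ x, A.mulVec x = φ x • u := by
    intro x
    have : A.mulVec x = N x := by
      rw [← Matrix.toLin'_apply, Matrix.toLin'_toMatrix']
    rw [this]; rfl
  have hAA : A * A = 0 := by
    rw [← LinearMap.toMatrix'_mul]
    have : N * N = 0 := by
      refine LinearMap.ext fun x => ?_
      change N (N x) = 0
      simp only [N, LinearMap.smulRight_apply]
      rw [map_smul, hφu, smul_zero, zero_smul]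
    rw [this]; simp
  obtain ⟨g, hg1, hg2, hg3⟩ := unipotent p hn A hAA
  refine ⟨g, hg3, fun hmem => ?_⟩
  have hκ := (hmem η).mp hη
  rw [hg1, hg2] at hκ
  set κ := (1 + A) * η * (1 - A) with hκdef
  have hκv : κ.mulVec v = η.mulVec v + u := by
    rw [hκdef, ← Matrix.mulVec_mulVec, ← Matrix.mulVec_mulVec, Matrix.sub_mulVec, Matrix.one_mulVec,
      hAx v, hφv, zero_smul, sub_zero, Matrix.add_mulVec, Matrix.one_mulVec, hAx, hφη, one_smul]
  apply hu (κ - η) (K.sub_mem (hK₀ hκ) (hK₀ hη))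
  rw [Matrix.sub_mulVec, hκv, add_sub_cancel_left]

lemma exists_g1 {r : ℕ} (p : ℕ) [hp : Fact p.Prime] [CharP F p]
    (K : Subalgebra F (Matrix (Fin n) (Fin n) F))
    (hK : Cfsg.Geo.IsFieldSubalgebra r K) (hrn : r < n) (hn : 0 < n)
    (e : ℕ) (hQ : ∀ c : F, c ^ (p ^ e) = c)
    (ζ : Matrix (Fin n) (Fin n) F) (hζ : ζ ∈ K) (hζQ : ζ ^ (p ^ e) ≠ ζ) :
    ∃ g : GL (Fin n) F, g ∈ Cfsg.Geo.specialLinear (Fin n) F ∧
      g ∈ Cfsg.Geo.subalgebraNormalizer (subK p hn K hK.comm e hQ) ∧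
      g ∉ Cfsg.Geo.subalgebraNormalizer K := by
  classical
  haveI : Nonempty (Fin n) := ⟨⟨0, hn⟩⟩
  letI := fieldOf K hK hn
  letI modK : Module ↥K (Fin n → F) :=
    { smul := fun k x => (k : Matrix (Fin n) (Fin n) F).mulVec x
      one_smul := fun x => Matrix.one_mulVec x
      mul_smul := fun a b x => (Matrix.mulVec_mulVec x a.1 b.1).symm
      smul_zero := fun a => Matrix.mulVec_zero _
      smul_add := fun a x y => Matrix.mulVec_add _ _ _
      add_smul := fun a b x => Matrix.add_mulVec _ _ _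
      zero_smul := fun x => Matrix.zero_mulVec _ }
  have hsmul : ∀ (k : ↥K) (x : Fin n → F), k • x = (k : Matrix (Fin n) (Fin n) F).mulVec x :=
    fun k x => rfl
  set Q := p ^ e with hQdef
  have hQ0 : Q ≠ 0 := pow_ne_zero _ hp.1.ne_zero
  -- Frobenius on K (through matrices)
  have hfrob_add : ∀ a b : ↥K, ((a + b) ^ Q : ↥K) = a ^ Q + b ^ Q := by
    intro a b
    apply Subtype.ext
    have hc : Commute (a : Matrix (Fin n) (Fin n) F) b := hK.comm a a.2 b b.2
    change ((a : Matrix (Fin n) (Fin n) F) + b) ^ Q = (a : Matrix (Fin n) (Fin n) F) ^ Q + (b : Matrix (Fin n) (Fin n) F) ^ Q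
    exact add_pow_char_pow_of_commute p e hc
  have hfrob_mul : ∀ a b : ↥K, ((a * b) ^ Q : ↥K) = a ^ Q * b ^ Q := fun a b => mul_pow a b Q
  let e₂ : Fin n → F := Pi.single ⟨0, hn⟩ 1
  have he₂ : e₂ ≠ 0 := by
    intro h
    have := congrFun h ⟨0, hn⟩
    simp [e₂] at this
  obtain ⟨e₁, he₁⟩ := exists_not_in_Kv K hK hrn e₂
  have hnot : e₁ ∉ Submodule.span ↥K ({e₂} : Set (Fin n → F)) := by
    intro hmem
    rw [Submodule.mem_span_singleton] at hmem
    obtain ⟨k, hk⟩ := hmem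
    exact he₁ k k.2 hk
  have hproj : Module.Projective ↥K ((Fin n → F) ⧸ Submodule.span ↥K ({e₂} : Set (Fin n → F))) := by
    haveI : Module.Free ↥K ((Fin n → F) ⧸ Submodule.span ↥K ({e₂} : Set (Fin n → F))) :=
      Module.Free.of_divisionRing _ _
    exact Module.Projective.of_free
  obtain ⟨f, hf1, hf2⟩ := Submodule.exists_dual_map_eq_bot_of_notMem hnot hproj
  have hfe₂ : f e₂ = 0 := by
    have : f e₂ ∈ (Submodule.span ↥K ({e₂} : Set (Fin n → F))).map f :=
      Submodule.mem_map_of_mem (Submodule.subset_span (by simp))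
    rw [hf2] at this
    exact (Submodule.mem_bot ↥K).mp this
  let ψ : Module.Dual ↥K (Fin n → F) := (f e₁)⁻¹ • f
  have hψ₁ : ψ e₁ = 1 := by simp [ψ, hf1]
  have hψ₂ : ψ e₂ = 0 := by simp [ψ, hfe₂]
  have hψsmul : ∀ (k : ↥K) (x : Fin n → F), ψ ((k : Matrix (Fin n) (Fin n) F).mulVec x) = k * ψ x := by
    intro k x
    rw [← hsmul, map_smul, smul_eq_mul]
  -- the F-linear square-zero map
  have halg : ∀ (c : F) (x : Fin n → F), c • x = (algebraMap F ↥K c) • x := by
    intro c x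
    rw [hsmul]
    change c • x = (algebraMap F (Matrix (Fin n) (Fin n) F) c).mulVec x
    rw [Algebra.algebraMap_eq_smul_one, Matrix.smul_mulVec, Matrix.one_mulVec]
  have halgQ : ∀ c : F, ((algebraMap F ↥K c) ^ Q : ↥K) = algebraMap F ↥K c := by
    intro c
    rw [← map_pow, hQ]
  let N : (Fin n → F) →ₗ[F] (Fin n → F) :=
    { toFun := fun x => (((ψ x) ^ Q : ↥K) : Matrix (Fin n) (Fin n) F).mulVec e₂
      map_add' := by
        intro x y
        rw [map_add, hfrob_add]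
        change ((((ψ x) ^ Q : ↥K) : Matrix (Fin n) (Fin n) F) + (((ψ y) ^ Q : ↥K) : Matrix (Fin n) (Fin n) F)).mulVec e₂ = _
        rw [Matrix.add_mulVec]
      map_smul' := by
        intro c x
        rw [halg c x, map_smul, smul_eq_mul, hfrob_mul, halgQ, RingHom.id_apply]
        change ((algebraMap F (Matrix (Fin n) (Fin n) F) c) * (((ψ x) ^ Q : ↥K) : Matrix (Fin n) (Fin n) F)).mulVec e₂ = _
        rw [Algebra.algebraMap_eq_smul_one, smul_mul_assoc, one_mul, Matrix.smul_mulVec] }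
  have hNx : ∀ x, N x = (((ψ x) ^ Q : ↥K) : Matrix (Fin n) (Fin n) F).mulVec e₂ := fun x => rfl
  let A : Matrix (Fin n) (Fin n) F := LinearMap.toMatrix' N
  have hAx : ∀ x, A.mulVec x = (((ψ x) ^ Q : ↥K) : Matrix (Fin n) (Fin n) F).mulVec e₂ := by
    intro x
    rw [← hNx, ← Matrix.toLin'_apply, Matrix.toLin'_toMatrix']
  have hAe₂ : A.mulVec e₂ = 0 := by
    rw [hAx, hψ₂, zero_pow hQ0]
    exact Matrix.zero_mulVec _
  have hAK : ∀ (k : ↥K) , A.mulVec ((k : Matrix (Fin n) (Fin n) F).mulVec e₂) = 0 := by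
    intro k
    rw [hAx, hψsmul, hψ₂, mul_zero, zero_pow hQ0]
    exact Matrix.zero_mulVec _
  have hAA : A * A = 0 := by
    apply mulVec_ext
    intro x
    rw [← Matrix.mulVec_mulVec, hAx x, hAK, Matrix.zero_mulVec]
  obtain ⟨g, hg1, hg2, hg3⟩ := unipotent p hn A hAA
  have h1 : (1 + A) * (1 - A) = 1 := by
    rw [mul_sub, add_mul, add_mul, hAA]; simp
  have h2 : (1 - A) * (1 + A) = 1 := by
    rw [mul_add, sub_mul, sub_mul, hAA]; simp
  -- A commutes with the fixed subalgebra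
  have hcommA : ∀ m ∈ subK p hn K hK.comm e hQ, A * m = m * A := by
    intro m hm
    rw [mem_subK] at hm
    obtain ⟨hmK, hmQ⟩ := hm
    apply mulVec_ext
    intro x
    rw [← Matrix.mulVec_mulVec, ← Matrix.mulVec_mulVec, hAx, hAx]
    have : ψ (m.mulVec x) = (⟨m, hmK⟩ : ↥K) * ψ x := hψsmul ⟨m, hmK⟩ x
    rw [this, hfrob_mul]
    have hm' : ((⟨m, hmK⟩ : ↥K) ^ Q : ↥K) = ⟨m, hmK⟩ := Subtype.ext hmQ
    rw [hm']
    change (m * (((ψ x) ^ Q : ↥K) : Matrix (Fin n) (Fin n) F)).mulVec e₂ = _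
    rw [Matrix.mulVec_mulVec]
  have hconj : ∀ m ∈ subK p hn K hK.comm e hQ, (1 + A) * m * (1 - A) = m := by
    intro m hm
    have hc := hcommA m hm
    calc (1 + A) * m * (1 - A) = m * ((1 + A) * (1 - A)) := by
          rw [add_mul, one_mul, hc, ← mul_one_add, mul_assoc]
      _ = m := by rw [h1, mul_one]
  have hconj' : ∀ m ∈ subK p hn K hK.comm e hQ, (1 - A) * m * (1 + A) = m := by
    intro m hm
    have hc := hcommA m hm
    calc (1 - A) * m * (1 + A) = m * ((1 - A) * (1 + A)) := by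
          rw [sub_mul, one_mul, hc, ← mul_one_sub, mul_assoc]
      _ = m := by rw [h2, mul_one]
  refine ⟨g, hg3, ?_, ?_⟩
  · intro m
    rw [hg1, hg2]
    constructor
    · intro hm
      rw [hconj m hm]; exact hm
    · intro hm
      have := hconj' _ hm
      have h3 : (1 - A) * ((1 + A) * m * (1 - A)) * (1 + A) = m := by
        calc (1 - A) * ((1 + A) * m * (1 - A)) * (1 + A)
            = ((1 - A) * (1 + A)) * m * ((1 - A) * (1 + A)) := by simp only [mul_assoc]
          _ = m := by rw [h2, one_mul, mul_one]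
      rw [h3] at this
      rw [this]; exact hm
  · intro hmem
    have hκ := (hmem ζ).mp hζ
    rw [hg1, hg2] at hκ
    set κ := (1 + A) * ζ * (1 - A) with hκdef
    have hκe₂ : κ.mulVec e₂ = ζ.mulVec e₂ := by
      rw [hκdef, ← Matrix.mulVec_mulVec, ← Matrix.mulVec_mulVec, Matrix.sub_mulVec, Matrix.one_mulVec,
        hAe₂, sub_zero, Matrix.add_mulVec, Matrix.one_mulVec]
      have := hAK ⟨ζ, hζ⟩
      rw [this, add_zero]
    have hκζ : κ = ζ := by
      have := K_kills K hK (κ - ζ) (K.sub_mem hκ hζ) e₂ he₂ (by rw [Matrix.sub_mulVec, hκe₂, sub_self])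
      exact sub_eq_zero.mp this
    -- hence A commutes with ζ
    have hAζ : A * ζ = ζ * A := by
      have h3 : (1 + A) * ζ = ζ * (1 + A) := by
        calc (1 + A) * ζ = (1 + A) * ζ * ((1 - A) * (1 + A)) := by rw [h2, mul_one]
          _ = κ * (1 + A) := by rw [hκdef]; simp only [mul_assoc]
          _ = ζ * (1 + A) := by rw [hκζ]
      rw [add_mul, mul_add, one_mul, mul_one] at h3
      exact add_left_cancel h3
    have h4 := congrArg (fun M : Matrix (Fin n) (Fin n) F => M.mulVec e₁) hAζ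
    simp only [← Matrix.mulVec_mulVec] at h4
    rw [hAx, hAx, hψ₁, one_pow] at h4
    have : ψ (ζ.mulVec e₁) = (⟨ζ, hζ⟩ : ↥K) * ψ e₁ := hψsmul ⟨ζ, hζ⟩ e₁
    rw [this, hψ₁, mul_one] at h4
    change (ζ ^ Q).mulVec e₂ = ζ.mulVec ((1 : Matrix (Fin n) (Fin n) F).mulVec e₂) at h4
    rw [Matrix.one_mulVec] at h4
    have := K_kills K hK (ζ ^ Q - ζ) (K.sub_mem (K.pow_mem hζ Q) hζ) e₂ he₂
      (by rw [Matrix.sub_mulVec, h4, sub_self])
    exact hζQ (sub_eq_zero.mp this)

theorem result' (n r : ℕ) (hr1 : 1 < r) (hrp : ¬ r.Prime) (hrn : r ∣ n) (hlt : r < n)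
    (K : Subalgebra F (Matrix (Fin n) (Fin n) F)) (hK : Cfsg.Geo.IsFieldSubalgebra r K) :
    ¬ IsCoatom (Cfsg.Geo.subalgebraNormalizer K) ∧
      ¬ Cfsg.Geo.IsMaximalIn (Cfsg.Geo.specialLinear (Fin n) F)
        (Cfsg.Geo.subalgebraNormalizer K ⊓ Cfsg.Geo.specialLinear (Fin n) F) := by
  classical
  have hn : 0 < n := by omega
  obtain ⟨p, hchar⟩ := CharP.exists F
  obtain ⟨f, hprime, hcard⟩ := FiniteField.card F p
  haveI : Fact p.Prime := ⟨hprime⟩
  set s := r.minFac with hs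
  have hsp : s.Prime := Nat.minFac_prime (by omega)
  have hsr : s ∣ r := Nat.minFac_dvd r
  have hslt : s < r := by
    have h1 : s ≤ r := Nat.minFac_le (by omega)
    have h2 : s ≠ r := by
      intro h
      apply hrp
      rw [Nat.prime_def_minFac]
      exact ⟨by omega, h⟩
    omega
  have hpow : Fintype.card F ^ s = p ^ ((f : ℕ) * s) := by
    rw [hcard, pow_mul]
  have hQ : ∀ c : F, c ^ (p ^ ((f : ℕ) * s)) = c := by
    intro c
    rw [← hpow]
    exact FiniteField.pow_card_pow s c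
  obtain ⟨ζ, η, hζ, hζQ, hη, hηQ, hηs⟩ := field_facts K hK hn s hsp.one_lt hsr hslt
  rw [hpow] at hζQ hηQ
  set K₀ := subK p hn K hK.comm ((f : ℕ) * s) hQ with hK₀def
  have hK₀K : K₀ ≤ K := fun x hx => ((mem_subK p hn K hK.comm _ hQ x).mp hx).1
  have hηK₀ : η ∈ K₀ := (mem_subK p hn K hK.comm _ hQ η).mpr ⟨hη, hηQ⟩
  obtain ⟨g₁, hg1SL, hg1mem, hg1not⟩ := exists_g1 p K hK hlt hn ((f : ℕ) * s) hQ ζ hζ hζQ
  obtain ⟨g₂, hg2SL, hg2not⟩ := exists_g2 p K hK hlt K₀ hK₀K η hηK₀ hηs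
  have hle := normalizer_le p hn K hK.comm ((f : ℕ) * s) hQ
  constructor
  · intro hco
    have hlt' : Cfsg.Geo.subalgebraNormalizer K < Cfsg.Geo.subalgebraNormalizer K₀ :=
      lt_of_le_of_ne hle (fun h => hg1not (h ▸ hg1mem))
    have htop := hco.2 _ hlt'
    exact hg2not (htop ▸ Subgroup.mem_top g₂)
  · rintro ⟨-, hall⟩
    rcases hall (Cfsg.Geo.subalgebraNormalizer K₀ ⊓ Cfsg.Geo.specialLinear (Fin n) F)
      (inf_le_inf_right _ hle) inf_le_right with h | h
    · have : g₁ ∈ Cfsg.Geo.subalgebraNormalizer K ⊓ Cfsg.Geo.specialLinear (Fin n) F := by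
        rw [← h]; exact ⟨hg1mem, hg1SL⟩
      exact hg1not this.1
    · have : g₂ ∈ Cfsg.Geo.subalgebraNormalizer K₀ ⊓ Cfsg.Geo.specialLinear (Fin n) F := by
        rw [h]; exact hg2SL
      exact hg2not this.1

end


/-- Let F be a finite field, n a positive integer and r a composite number (r > 1, not prime) that divides n with r < n. Let K be a subalgebra of the algebra of n × n matrices over F which is a field of degree r over F (commutative, every non-zero element invertible, of dimension r over F). Then the normaliser N of K in GL_n(F) (a group of type ΓL_{n/r}(F_{q^r})) is not a maximal subgroup of GL_n(F), and N ∩ SL_n(F) is not a maximal subgroup of SL_n(F): both lie properly inside the normaliser of an intermediate subfield of prime degree over F. -/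
theorem result {F : Type*} [Field F]
    [Fintype F] (n r : ℕ) (hr1 : 1 < r) (hrp : ¬ r.Prime) (hrn : r ∣ n) (hlt : r < n)
    (K : Subalgebra F (Matrix (Fin n) (Fin n) F)) (hK : Cfsg.Geo.IsFieldSubalgebra r K) :
    ¬ IsCoatom (Cfsg.Geo.subalgebraNormalizer K) ∧
      ¬ Cfsg.Geo.IsMaximalIn (Cfsg.Geo.specialLinear (Fin n) F)
        (Cfsg.Geo.subalgebraNormalizer K ⊓ Cfsg.Geo.specialLinear (Fin n) F) := by
  exact result' n r hr1 hrp hrn hlt K hK

end Cfsg.Agent.S5887
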