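-- Statement S5905.
import Cfsg.Statements.S5905
-- import your own Cfsg.Agent.* helpers here

set_option autoImplicit false
open Cfsg

namespace Cfsg.Agent.S5905

/-- the partition-preserving permutations form a subgroup -/
def partStab {Ω : Type*} {b : ℕ} (f : Ω → Fin b) : Subgroup (Equiv.Perm Ω) where
  carrier := {g : Equiv.Perm Ω | ∀ x y : Ω, f x = f y ↔ f (g x) = f (g y)}
  one_mem' := fun x y => Iff.rfl
  mul_mem' := by
    intro g h hg hh x y
    rw [hh x y, hg (h x) (h y)]
    rfl
  inv_mem' := by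
    intro g hg x y
    have := hg (g⁻¹ x) (g⁻¹ y)
    rw [← Equiv.Perm.mul_apply, ← Equiv.Perm.mul_apply, mul_inv_cancel, Equiv.Perm.one_apply,
      Equiv.Perm.one_apply] at this
    exact this.symm

theorem closure_eq_partStab {Ω : Type*} {b : ℕ} (f : Ω → Fin b) :
    Subgroup.closure {g : Equiv.Perm Ω | ∀ x y : Ω, f x = f y ↔ f (g x) = f (g y)} = partStab f :=
  Subgroup.closure_eq (partStab f)

theorem swap_mem_partStab {Ω : Type*} [DecidableEq Ω] {b : ℕ} (f : Ω → Fin b) (x y : Ω) (h : f x = f y) :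
    Equiv.swap x y ∈ partStab f := by
  have key : ∀ u, f (Equiv.swap x y u) = f u := by
    intro u
    by_cases hux : u = x
    · subst hux; rw [Equiv.swap_apply_left]; exact h.symm
    · by_cases huy : u = y
      · subst huy; rw [Equiv.swap_apply_right]; exact h
      · rw [Equiv.swap_apply_of_ne_of_ne hux huy]
  intro u v
  rw [key u, key v]

/-- global coordinates -/
noncomputable def coordEquiv {Ω : Type*} [Finite Ω] (a b : ℕ) (f : Ω → Fin b)
    (hf : ∀ i : Fin b, Nat.card {x : Ω // f x = i} = a) : Ω ≃ Fin b × Fin a :=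
  (Equiv.sigmaFiberEquiv f).symm.trans
    ((Equiv.sigmaCongrRight (fun i => Finite.equivFinOfCardEq (hf i))).trans
      (Equiv.sigmaEquivProd (Fin b) (Fin a)))

theorem coordEquiv_fst {Ω : Type*} [Finite Ω] (a b : ℕ) (f : Ω → Fin b)
    (hf : ∀ i : Fin b, Nat.card {x : Ω // f x = i} = a) (x : Ω) :
    (coordEquiv a b f hf x).1 = f x := rfl

noncomputable def blockSwap {Ω : Type*} [Finite Ω] (a b : ℕ) (f : Ω → Fin b)
    (hf : ∀ i : Fin b, Nat.card {x : Ω // f x = i} = a) (j k : Fin b) : Equiv.Perm Ω :=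
  (coordEquiv a b f hf).trans ((Equiv.prodCongr (Equiv.swap j k) (Equiv.refl _)).trans
    (coordEquiv a b f hf).symm)

theorem blockSwap_f {Ω : Type*} [Finite Ω] (a b : ℕ) (f : Ω → Fin b)
    (hf : ∀ i : Fin b, Nat.card {x : Ω // f x = i} = a) (j k : Fin b) (x : Ω) :
    f (blockSwap a b f hf j k x) = Equiv.swap j k (f x) := by
  rw [← coordEquiv_fst a b f hf, ← coordEquiv_fst a b f hf x]
  simp [blockSwap]

theorem blockSwap_mem {Ω : Type*} [Finite Ω] (a b : ℕ) (f : Ω → Fin b)
    (hf : ∀ i : Fin b, Nat.card {x : Ω // f x = i} = a) (j k : Fin b) :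
    blockSwap a b f hf j k ∈ partStab f := by
  intro u v
  rw [blockSwap_f a b f hf j k u, blockSwap_f a b f hf j k v, (Equiv.swap j k).apply_eq_iff_eq]

theorem blockSwap_fix {Ω : Type*} [Finite Ω] (a b : ℕ) (f : Ω → Fin b)
    (hf : ∀ i : Fin b, Nat.card {x : Ω // f x = i} = a) (j k : Fin b) (x : Ω)
    (hj : f x ≠ j) (hk : f x ≠ k) : blockSwap a b f hf j k x = x := by
  apply (coordEquiv a b f hf).injective
  simp only [blockSwap, Equiv.trans_apply, Equiv.apply_symm_apply, Equiv.prodCongr_apply,
    Equiv.coe_refl]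
  ext
  · simp only [Prod.map_fst]
    rw [coordEquiv_fst, Equiv.swap_apply_of_ne_of_ne hj hk]
  · simp
theorem exists_pair_fibre {Ω : Type*} [Finite Ω] (a b : ℕ) (ha : 2 ≤ a) (f : Ω → Fin b)
    (hf : ∀ i : Fin b, Nat.card {x : Ω // f x = i} = a) (i : Fin b) :
    ∃ x x' : Ω, x ≠ x' ∧ f x = i ∧ f x' = i := by
  have h1 : 1 < Nat.card {x : Ω // f x = i} := by rw [hf i]; omega
  rw [Finite.one_lt_card_iff_nontrivial] at h1
  obtain ⟨⟨x, hx⟩, ⟨x', hx'⟩, hne⟩ := h1.exists_pair_ne
  exact ⟨x, x', fun h => hne (Subtype.ext h), hx, hx'⟩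

theorem partStab_isCoatom {Ω : Type*} [Fintype Ω] [DecidableEq Ω] (a b : ℕ) (ha : 2 ≤ a) (hb : 2 ≤ b)
    (f : Ω → Fin b) (hf : ∀ i : Fin b, Nat.card {x : Ω // f x = i} = a) :
    IsCoatom (partStab f) := by
  constructor
  · intro htop
    obtain ⟨x, x', hne, hx, hx'⟩ := exists_pair_fibre a b ha f hf ⟨0, by omega⟩
    obtain ⟨y, _, _, hy, _⟩ := exists_pair_fibre a b ha f hf ⟨1, by omega⟩
    have hmem : Equiv.swap x y ∈ partStab f := by rw [htop]; exact Subgroup.mem_top _
    have h1 := (hmem x x').mp (hx.trans hx'.symm)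
    have hx'y : x' ≠ y := by
      intro h; rw [h, hy] at hx'
      have := congrArg Fin.val hx'
      simp at this
    rw [Equiv.swap_apply_left, Equiv.swap_apply_of_ne_of_ne hne.symm hx'y, hy, hx'] at h1
    have := congrArg Fin.val h1
    simp at this
  · intro L hL
    -- the relation
    set R : Ω → Ω → Prop := fun x y => x = y ∨ Equiv.swap x y ∈ L with hR
    have hRsymm : ∀ x y, R x y → R y x := by
      intro x y h
      rcases h with h | h
      · exact Or.inl h.symm
      · right; rw [Equiv.swap_comm]; exact h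
    have hRtrans : ∀ x y z, R x y → R y z → R x z := by
      intro x y z hxy hyz
      rcases hxy with rfl | hxy
      · exact hyz
      rcases hyz with rfl | hyz
      · exact Or.inr hxy
      by_cases hxz : x = z
      · exact Or.inl hxz
      by_cases hxy' : x = y
      · subst hxy'; exact Or.inr hyz
      right
      have : Equiv.swap x z = Equiv.swap y z * Equiv.swap x y * (Equiv.swap y z)⁻¹ := by
        rw [← Equiv.swap_apply_apply, Equiv.swap_apply_of_ne_of_ne hxy' hxz, Equiv.swap_apply_left]
      rw [this]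
      exact L.mul_mem (L.mul_mem hyz hxy) (L.inv_mem hyz)
    have hRsmul : ∀ g ∈ L, ∀ x y, R x y → R (g x) (g y) := by
      intro g hg x y h
      rcases h with h | h
      · left; rw [h]
      · right
        rw [Equiv.swap_apply_apply]
        exact L.mul_mem (L.mul_mem hg h) (L.inv_mem hg)
    have hRfib : ∀ x y, f x = f y → R x y := by
      intro x y h
      right
      exact hL.le (swap_mem_partStab f x y h)
    -- a cross pair
    obtain ⟨g, hgL, hgK⟩ := Set.exists_of_ssubset hL
    have hgK' : ¬ ∀ x y : Ω, f x = f y ↔ f (g x) = f (g y) := hgK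
    push Not at hgK'
    obtain ⟨u, v, huv⟩ := hgK'
    have hcross : ∃ x y, f x ≠ f y ∧ R x y := by
      by_cases h1 : f u = f v
      · have h2 : f (g u) ≠ f (g v) := by
          intro h2; exact huv.elim (fun h => h.2 h2) (fun h => h.1 h1)
        exact ⟨g u, g v, h2, hRsmul g hgL u v (hRfib u v h1)⟩
      · have h2 : f (g u) = f (g v) := by
          by_contra h2; exact huv.elim (fun h => h1 h.1) (fun h => h2 h.2)
        have h3 := hRsmul g⁻¹ (L.inv_mem hgL) (g u) (g v) (hRfib _ _ h2)
        rw [← Equiv.Perm.mul_apply, ← Equiv.Perm.mul_apply, inv_mul_cancel, Equiv.Perm.one_apply,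
          Equiv.Perm.one_apply] at h3
        exact ⟨u, v, h1, h3⟩
    obtain ⟨x0, y0, hxy0, hR0⟩ := hcross
    have hall : ∀ w, R w x0 := by
      intro w
      by_cases h1 : f w = f x0
      · exact hRfib w x0 h1
      by_cases h2 : f w = f y0
      · exact hRtrans w y0 x0 (hRfib w y0 h2) (hRsymm _ _ hR0)
      · -- use block swap of f y0 and f w
        set s := blockSwap a b f hf (f y0) (f w) with hs
        have hsL : s ∈ L := hL.le (blockSwap_mem a b f hf (f y0) (f w))
        have hsx : s x0 = x0 := blockSwap_fix a b f hf (f y0) (f w) x0 hxy0 (Ne.symm h1)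
        have hsy : f (s y0) = f w := by
          rw [hs, blockSwap_f a b f hf (f y0) (f w) y0, Equiv.swap_apply_left]
        have h3 := hRsmul s hsL x0 y0 hR0
        rw [hsx] at h3
        exact hRtrans w (s y0) x0 (hRfib _ _ hsy.symm) (hRsymm _ _ h3)
    rw [eq_top_iff, ← Equiv.Perm.closure_isSwap, Subgroup.closure_le]
    rintro σ ⟨x, y, hxy, rfl⟩
    have := hRtrans x x0 y (hall x) (hRsymm _ _ (hall y))
    rcases this with h | h
    · exact absurd h hxy
    · exact h


/-- Let Ω be a finite set and f : Ω → Fin b a map onto b ≥ 2 labels whose fibres all have the same size a ≥ 2 (a partition of Ω into b blocks of size a, so |Ω| = ab). Then the stabilizer of this partition in the symmetric group on Ω — the permutations g such that x and y lie in the same block exactly when g x and g y do, a group isomorphic to the imprimitive wreath product S_a ≀ S_b — is a maximal subgroup of the symmetric group. -/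
theorem result {Ω : Type*} [Fintype Ω] [DecidableEq Ω] (a b : ℕ) (ha : 2 ≤ a) (hb : 2 ≤ b)
    (f : Ω → Fin b) (hf : ∀ i : Fin b, Nat.card {x : Ω // f x = i} = a) :
    IsCoatom (Subgroup.closure {g : Equiv.Perm Ω | ∀ x y : Ω, f x = f y ↔ f (g x) = f (g y)}) := by
  rw [closure_eq_partStab]
  exact partStab_isCoatom a b ha hb f hf

end Cfsg.Agent.S5905
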