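-- Statement S5894.
import Cfsg.Statements.S5894
import Cfsg.Agent.S5905

set_option autoImplicit false
open Cfsg

namespace Cfsg.Agent.S5894

open scoped Pointwise
open MulAction

theorem isCoatom_subgroupOf_range {G G' : Type*} [Group G] [Group G'] (ι : G' →* G)
    (H : Subgroup G) (hco : IsCoatom (H.comap ι)) :
    IsCoatom (H.subgroupOf ι.range) := by
  constructor
  · intro htop
    rw [Subgroup.subgroupOf_eq_top] at htop
    apply hco.1
    rw [eq_top_iff]
    intro x _
    exact htop ⟨x, rfl⟩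
  · intro Y hY
    set Y' := Y.map ι.range.subtype with hY'
    have hlt : H.comap ι < Y'.comap ι := by
      obtain ⟨y, hyY, hyH⟩ := Set.exists_of_ssubset hY
      apply lt_of_le_of_ne
      · intro x hx
        have h1 : (⟨ι x, x, rfl⟩ : ι.range) ∈ H.subgroupOf ι.range := hx
        exact ⟨_, hY.le h1, rfl⟩
      · intro heq
        obtain ⟨yv, x, rfl⟩ := y
        apply hyH
        have : x ∈ Y'.comap ι := ⟨_, hyY, rfl⟩
        rw [← heq] at this
        exact this
    have htop := hco.2 _ hlt
    rw [eq_top_iff]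
    rintro ⟨y, x, rfl⟩ _
    have hx : x ∈ Y'.comap ι := by rw [htop]; trivial
    obtain ⟨z, hz, hzx⟩ := hx
    have : z = ⟨ι x, x, rfl⟩ := Subtype.ext hzx
    rwa [this] at hz

theorem range_ofSubtype_eq_stabilizer {Ω : Type*} [Fintype Ω] [DecidableEq Ω] (c : Ω) :
    (Equiv.Perm.ofSubtype : Equiv.Perm {x : Ω // x ≠ c} →* Equiv.Perm Ω).range
      = stabilizer (Equiv.Perm Ω) c := by
  ext g
  rw [Equiv.Perm.mem_range_ofSubtype_iff, mem_stabilizer_iff]
  constructor
  · intro h
    by_contra hne
    have : c ∈ (g.support : Set Ω) := by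
      simp only [Finset.mem_coe, Equiv.Perm.mem_support]; exact hne
    exact (h this) rfl
  · intro h x hx
    simp only [Finset.mem_coe, Equiv.Perm.mem_support] at hx
    intro hxc
    apply hx
    rw [hxc]; exact h

theorem H_coatom {Ω : Type*} [Fintype Ω] [DecidableEq Ω] (c : Ω) (A : Set Ω) (hcA : c ∉ A)
    (hA : ∃ x, x ∈ A) (hB : ∃ y, y ∉ A ∧ y ≠ c) (hodd : Odd (Nat.card {x : Ω // x ≠ c})) :
    IsCoatom ((stabilizer (Equiv.Perm Ω) c ⊓ stabilizer (Equiv.Perm Ω) A).subgroupOf
      (stabilizer (Equiv.Perm Ω) c)) := by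
  rw [← range_ofSubtype_eq_stabilizer c]
  apply isCoatom_subgroupOf_range
  set A' : Set {x : Ω // x ≠ c} := {x | x.val ∈ A} with hA'
  have hcomap : ((Equiv.Perm.ofSubtype : Equiv.Perm {x : Ω // x ≠ c} →* Equiv.Perm Ω).range ⊓
      stabilizer (Equiv.Perm Ω) A).comap Equiv.Perm.ofSubtype
      = stabilizer (Equiv.Perm {x : Ω // x ≠ c}) A' := by
    ext σ
    rw [Subgroup.mem_comap, Subgroup.mem_inf, mem_stabilizer_set, mem_stabilizer_set]
    constructor
    · rintro ⟨_, h⟩ x
      have := h x.val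
      rw [Equiv.Perm.smul_def, Equiv.Perm.ofSubtype_apply_coe] at this
      exact this
    · intro h
      refine ⟨⟨σ, rfl⟩, fun x => ?_⟩
      by_cases hx : x = c
      · subst hx
        rw [Equiv.Perm.smul_def, Equiv.Perm.ofSubtype_apply_of_not_mem σ (by simp)]
      · have := h ⟨x, hx⟩
        rw [Equiv.Perm.smul_def, Equiv.Perm.ofSubtype_apply_of_mem σ hx]
        exact this
  rw [hcomap]
  apply Equiv.Perm.isCoatom_stabilizer
  · obtain ⟨x, hx⟩ := hA
    exact ⟨⟨x, fun h => hcA (h ▸ hx)⟩, hx⟩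
  · obtain ⟨y, hy, hyc⟩ := hB
    exact ⟨⟨y, hyc⟩, hy⟩
  · intro h
    rw [h] at hodd
    exact (Nat.not_odd_iff_even.mpr (even_two_mul _)) hodd


/-- For every m ≥ 2 the symmetric group on 2m letters has a maximal subgroup M of index 2m together with a maximal subgroup H of M that is not second maximal: some maximal subgroup K of the symmetric group contains H without H being maximal in K. (One may take M the stabiliser of a letter, H ≅ S_m × S_{m−1} inside it, and K ≅ S_m ≀ S₂ the stabiliser of a partition into two m-sets, with H < S_m × S_m < K.) So the prime-index hypothesis in the second-maximality criterion cannot be relaxed to any even index ≥ 4. -/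
theorem result (m : ℕ) (hm : 2 ≤ m) :
    ∃ M H K : Subgroup (Equiv.Perm (Fin (2 * m))), IsCoatom M ∧ M.index = 2 * m ∧ H ≤ M ∧ IsCoatom (H.subgroupOf M) ∧
      IsCoatom K ∧ H ≤ K ∧ ¬ IsCoatom (H.subgroupOf K) := by
  classical
  have hm0 : 0 < m := by omega
  set e : Fin 2 × Fin m ≃ Fin (2 * m) := finProdFinEquiv with he
  set f : Fin (2 * m) → Fin 2 := fun x => (e.symm x).1 with hf_def
  have hf : ∀ i : Fin 2, Nat.card {x : Fin (2 * m) // f x = i} = m := by
    intro i
    have eqv : {x : Fin (2 * m) // f x = i} ≃ Fin m :=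
      { toFun := fun x => (e.symm x.val).2
        invFun := fun j => ⟨e (i, j), by simp [hf_def]⟩
        left_inv := by
          rintro ⟨x, hx⟩
          apply Subtype.ext
          simp only
          have : (i, (e.symm x).2) = e.symm x := by
            ext
            · simp only; rw [← hx]
            · rfl
          rw [this, Equiv.apply_symm_apply]
        right_inv := by
          intro j
          simp }
    rw [Nat.card_congr eqv, Nat.card_fin]
  set c : Fin (2 * m) := e (1, ⟨0, hm0⟩) with hc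
  have hfc : f c = 1 := by simp [hf_def, hc]
  set A : Set (Fin (2 * m)) := {x | f x = 0} with hA
  have hcA : c ∉ A := by
    intro h
    have h1 : f c = 0 := h
    rw [hfc] at h1
    exact absurd h1 (by decide)
  obtain ⟨a0, _, _, ha0, _⟩ := Cfsg.Agent.S5905.exists_pair_fibre m 2 hm f hf 0
  obtain ⟨b1, b2, hb12, hb1, hb2⟩ := Cfsg.Agent.S5905.exists_pair_fibre m 2 hm f hf 1
  -- an element of fibre 1 different from c
  obtain ⟨b', hb'1, hb'c⟩ : ∃ b', f b' = 1 ∧ b' ≠ c := by
    by_cases h : b1 = c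
    · exact ⟨b2, hb2, fun h2 => hb12 (h.trans h2.symm)⟩
    · exact ⟨b1, hb1, h⟩
  have hb'A : b' ∉ A := by
    intro h
    have h1 : f b' = 0 := h
    rw [hb'1] at h1
    exact absurd h1 (by decide)
  have hnt : Nontrivial (Fin (2 * m)) := Fin.nontrivial_iff_two_le.mpr (by omega)
  set M := stabilizer (Equiv.Perm (Fin (2 * m))) c with hM
  set J := stabilizer (Equiv.Perm (Fin (2 * m))) A with hJ
  set K := Cfsg.Agent.S5905.partStab f with hK
  have hJK : J ≤ K := by
    intro g hg
    rw [hJ, mem_stabilizer_set] at hg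
    intro x y
    have hx := hg x
    have hy := hg y
    simp only [Equiv.Perm.smul_def, hA, Set.mem_ofPred_eq] at hx hy
    have key : ∀ u v : Fin 2, (u = v ↔ (u = 0 ↔ v = 0)) := by decide
    rw [key (f x) (f y), key (f (g x)) (f (g y)), hx, hy]
  refine ⟨M, M ⊓ J, K, ?_, ?_, inf_le_left, ?_, ?_, inf_le_right.trans hJK, ?_⟩
  · exact IsPreprimitive.isCoatom_stabilizer_of_isPreprimitive _ c
  · rw [hM, index_stabilizer_of_transitive, Nat.card_fin]
  · apply H_coatom c A hcA ⟨a0, ha0⟩ ⟨b', hb'A, hb'c⟩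
    have h1 : Nat.card {x : Fin (2 * m) // x ≠ c} = 2 * m - 1 := by
      rw [Nat.card_eq_fintype_card, Fintype.card_subtype_compl, Fintype.card_fin]
      simp
    rw [h1]
    exact ⟨m - 1, by omega⟩
  · exact Cfsg.Agent.S5905.partStab_isCoatom m 2 hm le_rfl f hf
  · intro hco
    -- swap c b' ∈ J \ M
    have hsw : Equiv.swap c b' ∈ J := by
      rw [hJ, ← stabilizer_compl]
      exact Equiv.Perm.swap_mem_stabilizer hcA hb'A
    have hswM : Equiv.swap c b' ∉ M := by
      rw [hM, mem_stabilizer_iff, Equiv.Perm.smul_def, Equiv.swap_apply_left]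
      exact hb'c
    -- blockSwap ∈ K \ J
    set s := Cfsg.Agent.S5905.blockSwap m 2 f hf 0 1 with hs
    have hsK : s ∈ K := Cfsg.Agent.S5905.blockSwap_mem m 2 f hf 0 1
    have hsJ : s ∉ J := by
      intro h
      rw [hJ, mem_stabilizer_set] at h
      have h1 := (h a0).mpr ha0
      have h2 : f (s a0) = 0 := h1
      rw [hs, Cfsg.Agent.S5905.blockSwap_f m 2 f hf 0 1 a0, ha0, Equiv.swap_apply_left] at h2
      exact absurd h2 (by decide)
    have hle : (M ⊓ J).subgroupOf K ≤ J.subgroupOf K := fun x hx => hx.2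
    rcases eq_or_lt_of_le hle with heq | hlt
    · apply hswM
      have h1 : (⟨Equiv.swap c b', hJK hsw⟩ : K) ∈ J.subgroupOf K := hsw
      rw [← heq] at h1
      exact h1.1
    · have htop := hco.2 _ hlt
      rw [Subgroup.subgroupOf_eq_top] at htop
      exact hsJ (htop hsK)

end Cfsg.Agent.S5894
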