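-- Statement S5895.
import Cfsg.Statements.S5895
-- import your own Cfsg.Agent.* helpers here

set_option autoImplicit false
open Cfsg
open scoped LinearAlgebra.Projectivization

namespace Cfsg.Agent.S5895

variable {K V : Type*} [Field K] [AddCommGroup V] [Module K V]

lemma lin_trans (v w : V) (hv : v ≠ 0) (hw : w ≠ 0) : ∃ h : V ≃ₗ[K] V, h v = w := by
  have h2 := Projectivization.linearEquiv_is_two_pretransitive K V
  have : MulAction.IsPretransitive (V ≃ₗ[K] V) (ℙ K V) :=
    MulAction.isPretransitive_of_is_two_pretransitive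
  obtain ⟨g, hg⟩ := MulAction.exists_smul_eq (V ≃ₗ[K] V) (Projectivization.mk K v hv)
    (Projectivization.mk K w hw)
  rw [Projectivization.smul_mk, Projectivization.mk_eq_mk_iff] at hg
  obtain ⟨a, ha⟩ := hg
  refine ⟨g.trans (LinearEquiv.smulOfUnit a⁻¹), ?_⟩
  have h1 : g v = a • w := ha.symm
  have h2 : ∀ x : V, (LinearEquiv.smulOfUnit a⁻¹ : V ≃ₗ[K] V) x = a⁻¹ • x := fun x => rfl
  rw [LinearEquiv.trans_apply, h2, h1, smul_smul]
  simp

lemma aff_eq (g : V ≃ᵃ[K] V) (v : V) : g v = g.linear v + g 0 := by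
  have := g.map_vadd 0 v
  simpa using this

instance affAct : MulAction (V ≃ᵃ[K] V) V where
  smul g v := g v
  one_smul _ := rfl
  mul_smul _ _ _ := rfl

lemma affAct_def (g : V ≃ᵃ[K] V) (v : V) : g • v = g v := rfl

instance : MulAction.IsPretransitive (V ≃ᵃ[K] V) V where
  exists_smul_eq v w := ⟨AffineEquiv.constVAdd K V (w - v), by
    rw [affAct_def, AffineEquiv.constVAdd_apply]; simp⟩

lemma aff_two : MulAction.IsMultiplyPretransitive (V ≃ᵃ[K] V) V 2 := by
  rw [MulAction.is_two_pretransitive_iff]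
  intro a b c d hab hcd
  obtain ⟨h, hh⟩ := lin_trans (K := K) (b - a) (d - c) (sub_ne_zero.2 hab.symm) (sub_ne_zero.2 hcd.symm)
  refine ⟨AffineEquiv.constVAdd K V c * h.toAffineEquiv * AffineEquiv.constVAdd K V (-a), ?_, ?_⟩
  · simp [affAct_def, AffineEquiv.constVAdd_apply]
  · simp only [affAct_def, AffineEquiv.coe_mul, Function.comp_apply, AffineEquiv.constVAdd_apply,
      vadd_eq_add, LinearEquiv.coe_toAffineEquiv]
    rw [neg_add_eq_sub, hh]
    abel


lemma P_span (e₀ : V) (he₀ : e₀ ≠ 0) (h : V ≃ₗ[K] V)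
    (hh : h ∈ MulAction.stabilizer (V ≃ₗ[K] V) (Projectivization.mk K e₀ he₀)) (w : V)
    (hw : w ∈ Submodule.span K {e₀}) : h w ∈ Submodule.span K {e₀} := by
  rw [MulAction.mem_stabilizer_iff, Projectivization.smul_mk, Projectivization.mk_eq_mk_iff] at hh
  obtain ⟨a, ha⟩ := hh
  rw [Submodule.mem_span_singleton] at hw ⊢
  obtain ⟨c, rfl⟩ := hw
  refine ⟨c * (a : K), ?_⟩
  have h1 : h e₀ = (a : K) • e₀ := by
    have : h e₀ = h • e₀ := rfl
    rw [this, ← ha]
    rfl
  rw [map_smul, h1, smul_smul]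

theorem main_general (e₀ e₁ : V) (he₀ : e₀ ≠ 0) (he₁ : e₁ ∉ Submodule.span K {e₀}) :
    ∃ (M H Kk : Subgroup (V ≃ᵃ[K] V)), IsCoatom M ∧ M.index = Nat.card V ∧ H ≤ M ∧
      IsCoatom (H.subgroupOf M) ∧ IsCoatom Kk ∧ H ≤ Kk ∧ ¬ IsCoatom (H.subgroupOf Kk) := by
  classical
  have he₁0 : e₁ ≠ 0 := by
    rintro rfl
    exact he₁ (Submodule.zero_mem _)
  have hVnt : Nontrivial V := ⟨⟨e₀, 0, he₀⟩⟩
  let lin : (V ≃ᵃ[K] V) →* (V ≃ₗ[K] V) := AffineEquiv.linearHom
  have hlin_apply : ∀ g : V ≃ᵃ[K] V, lin g = g.linear := fun g => rfl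
  have hlin_surj : Function.Surjective lin := fun h => ⟨h.toAffineEquiv, rfl⟩
  let M : Subgroup (V ≃ᵃ[K] V) := MulAction.stabilizer (V ≃ᵃ[K] V) (0 : V)
  have hMmem : ∀ g : V ≃ᵃ[K] V, g ∈ M ↔ g 0 = 0 := fun g => Iff.rfl
  let D : ℙ K V := Projectivization.mk K e₀ he₀
  let D₁ : ℙ K V := Projectivization.mk K e₁ he₁0
  have hDD₁ : D₁ ≠ D := by
    intro h
    rw [Projectivization.mk_eq_mk_iff] at h
    obtain ⟨a, ha⟩ := h
    apply he₁
    rw [← ha]
    exact Submodule.smul_mem _ _ (Submodule.mem_span_singleton_self e₀)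
  have hPnt : Nontrivial (ℙ K V) := ⟨⟨D₁, D, hDD₁⟩⟩
  let P : Subgroup (V ≃ₗ[K] V) := MulAction.stabilizer (V ≃ₗ[K] V) D
  have hPco : IsCoatom P := by
    have : MulAction.IsPreprimitive (V ≃ₗ[K] V) (ℙ K V) :=
      MulAction.isPreprimitive_of_is_two_pretransitive
        (Projectivization.linearEquiv_is_two_pretransitive K V)
    exact MulAction.IsPreprimitive.isCoatom_stabilizer_of_isPreprimitive _ D
  let Kk : Subgroup (V ≃ᵃ[K] V) := P.comap lin
  let H : Subgroup (V ≃ᵃ[K] V) := M ⊓ Kk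
  have hMco : IsCoatom M := by
    have : MulAction.IsPreprimitive (V ≃ᵃ[K] V) V :=
      MulAction.isPreprimitive_of_is_two_pretransitive aff_two
    exact MulAction.IsPreprimitive.isCoatom_stabilizer_of_isPreprimitive _ (0 : V)
  refine ⟨M, H, Kk, hMco, MulAction.index_stabilizer_of_transitive _ _, inf_le_left, ?_,
    Subgroup.isCoatom_comap_of_surjective hlin_surj hPco, inf_le_right, ?_⟩
  · -- H maximal in M
    have hinj : Function.Injective (lin.comp M.subtype) := by
      intro m m' hmm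
      apply Subtype.ext
      apply AffineEquiv.ext
      intro v
      have h1 : (m : V ≃ᵃ[K] V).linear = (m' : V ≃ᵃ[K] V).linear := hmm
      rw [aff_eq, aff_eq (m' : V ≃ᵃ[K] V), h1, (hMmem _).1 m.2, (hMmem _).1 m'.2]
    have hsurj : Function.Surjective (lin.comp M.subtype) := by
      intro h
      exact ⟨⟨h.toAffineEquiv, (hMmem _).2 (by simp)⟩, rfl⟩
    let e : M ≃* (V ≃ₗ[K] V) := MulEquiv.ofBijective (lin.comp M.subtype) ⟨hinj, hsurj⟩
    have hmap : (H.subgroupOf M).map (e : M →* (V ≃ₗ[K] V)) = P := by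
      ext h
      constructor
      · rintro ⟨m, hm, rfl⟩
        rw [SetLike.mem_coe, Subgroup.mem_subgroupOf] at hm
        exact hm.2
      · intro hh
        refine ⟨⟨h.toAffineEquiv, (hMmem _).2 (by simp)⟩, ?_, rfl⟩
        rw [SetLike.mem_coe, Subgroup.mem_subgroupOf]
        exact ⟨(hMmem _).2 (by simp), hh⟩
    rw [← OrderIso.isCoatom_iff e.mapSubgroup]
    change IsCoatom ((H.subgroupOf M).map (e : M →* (V ≃ₗ[K] V)))
    rw [hmap]
    exact hPco
  · -- H not maximal in Kk
    let X : Subgroup (V ≃ᵃ[K] V) :=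
      { carrier := {g | lin g ∈ P ∧ g 0 ∈ Submodule.span K {e₀}}
        one_mem' := ⟨by rw [map_one]; exact P.one_mem, by simp⟩
        mul_mem' := by
          rintro g g' ⟨hg1, hg2⟩ ⟨hg'1, hg'2⟩
          refine ⟨by rw [map_mul]; exact P.mul_mem hg1 hg'1, ?_⟩
          rw [AffineEquiv.coe_mul, Function.comp_apply, aff_eq g]
          exact Submodule.add_mem _ (P_span e₀ he₀ _ hg1 _ hg'2) hg2
        inv_mem' := by
          rintro g ⟨hg1, hg2⟩
          have hinv : lin g⁻¹ ∈ P := by rw [map_inv]; exact P.inv_mem hg1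
          refine ⟨hinv, ?_⟩
          have h1 : g (g⁻¹ 0) = 0 := by
            have : (g * g⁻¹) 0 = 0 := by rw [mul_inv_cancel]; rfl
            rw [AffineEquiv.coe_mul] at this
            exact this
          rw [aff_eq g] at h1
          have h2 : g.linear (g⁻¹ 0) = - g 0 := eq_neg_of_add_eq_zero_left h1
          have h3 : g⁻¹ 0 = (lin g⁻¹) (- g 0) := by
            rw [← h2, map_inv]
            change _ = (g.linear)⁻¹ (g.linear (g⁻¹ 0))
            exact ((g.linear).symm_apply_apply _).symm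
          rw [h3]
          exact P_span e₀ he₀ _ hinv _ (Submodule.neg_mem _ hg2) }
    have hXmem : ∀ g, g ∈ X ↔ lin g ∈ P ∧ g 0 ∈ Submodule.span K {e₀} := fun g => Iff.rfl
    have hHX : H ≤ X := by
      intro g hg
      rw [hXmem]
      refine ⟨hg.2, ?_⟩
      rw [(hMmem g).1 hg.1]
      exact Submodule.zero_mem _
    have hXK : X ≤ Kk := fun g hg => hg.1
    have hτ₀ : AffineEquiv.constVAdd K V e₀ ∈ X := by
      rw [hXmem]
      refine ⟨?_, by simp⟩
      have : lin (AffineEquiv.constVAdd K V e₀) = 1 := by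
        ext v; simp [lin]
      rw [this]; exact P.one_mem
    have hτ₀' : AffineEquiv.constVAdd K V e₀ ∉ H := by
      intro h
      have := (hMmem _).1 h.1
      simp at this
      exact he₀ this
    have hτ₁ : AffineEquiv.constVAdd K V e₁ ∈ Kk := by
      have : lin (AffineEquiv.constVAdd K V e₁) = 1 := by
        ext v; simp [lin]
      change lin _ ∈ P
      rw [this]; exact P.one_mem
    have hτ₁' : AffineEquiv.constVAdd K V e₁ ∉ X := by
      intro h
      have := ((hXmem _).1 h).2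
      simp at this
      exact he₁ this
    intro hco
    have hlt : H.subgroupOf Kk < X.subgroupOf Kk := by
      rw [SetLike.lt_iff_le_and_exists]
      refine ⟨fun g hg => ?_, ⟨⟨_, hXK hτ₀⟩, ?_, ?_⟩⟩
      · rw [Subgroup.mem_subgroupOf] at hg ⊢
        exact hHX hg
      · rw [Subgroup.mem_subgroupOf]; exact hτ₀
      · rw [Subgroup.mem_subgroupOf]; exact hτ₀'
    have htop := hco.2 _ hlt
    have : (⟨_, hτ₁⟩ : Kk) ∈ X.subgroupOf Kk := by rw [htop]; trivial
    rw [Subgroup.mem_subgroupOf] at this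
    exact hτ₁' this



/-- For every prime p and every d ≥ 2 there is a finite group G with a maximal subgroup M of index p^d and a maximal subgroup H of M that is not second maximal in G: some maximal subgroup K of G contains H without H being maximal in K. (One may take G the affine group V ⋊ GL(V) of V = 𝔽_p^d, M = GL(V), H the stabiliser in M of a line W of V, and K = V ⋊ H, with H < W ⋊ H < K.) So the prime-index hypothesis in the second-maximality criterion cannot be relaxed to prime-power index. -/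
theorem result (p d : ℕ) (hp : p.Prime)
    (hd : 2 ≤ d) :
    ∃ (G : Type) (_ : Group G) (_ : Finite G) (M H K : Subgroup G), IsCoatom M ∧ M.index = p ^ d ∧ H ≤ M ∧
      IsCoatom (H.subgroupOf M) ∧ IsCoatom K ∧ H ≤ K ∧ ¬ IsCoatom (H.subgroupOf K) := by
  haveI : Fact p.Prime := ⟨hp⟩
  let e₀ : Fin d → ZMod p := Pi.single ⟨0, by omega⟩ 1
  let e₁ : Fin d → ZMod p := Pi.single ⟨1, by omega⟩ 1
  have he₀ : e₀ ≠ 0 := by
    intro h
    have := congrFun h ⟨0, by omega⟩
    simp [e₀] at this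
  have he₁ : e₁ ∉ Submodule.span (ZMod p) {e₀} := by
    intro h
    rw [Submodule.mem_span_singleton] at h
    obtain ⟨c, hc⟩ := h
    have := congrFun hc ⟨1, by omega⟩
    simp [e₀, e₁] at this
  obtain ⟨M, H, Kk, h1, h2, h3, h4, h5, h6, h7⟩ := main_general (K := ZMod p) e₀ e₁ he₀ he₁
  have hfin : Finite ((Fin d → ZMod p) ≃ᵃ[ZMod p] (Fin d → ZMod p)) :=
    Finite.of_injective (fun g => (g : (Fin d → ZMod p) → (Fin d → ZMod p))) DFunLike.coe_injective
  refine ⟨(Fin d → ZMod p) ≃ᵃ[ZMod p] (Fin d → ZMod p), inferInstance, hfin, M, H, Kk, h1, ?_,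
    h3, h4, h5, h6, h7⟩
  rw [h2]
  simp [Nat.card_eq_fintype_card]

end Cfsg.Agent.S5895
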