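-- Statement S5896.
import Cfsg.Statements.S5896
-- import your own Cfsg.Agent.* helpers here

set_option autoImplicit false
open Cfsg

namespace Cfsg.Agent.S5896

open scoped commutatorElement


theorem solv_of_prime_pow {G : Type*} [Group G] [Finite G] (p n : ℕ) (hp : p.Prime)
    (h : Nat.card G = p ^ n) : Group.IsSolvable G := by
  have : Fact p.Prime := ⟨hp⟩
  have := (IsPGroup.of_card h).isNilpotent
  infer_instance

theorem solv_of_normal {G : Type*} [Group G] (N : Subgroup G) [N.Normal] (h1 : Group.IsSolvable N)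
    (h2 : Group.IsSolvable (G ⧸ N)) : Group.IsSolvable G :=
  (Group.isSolvable_iff_subgroup_quotient N).2 ⟨h1, h2⟩

theorem solv_of_card_six {G : Type*} [Group G] [Finite G] (h : Nat.card G = 6) :
    Group.IsSolvable G := by
  have : Fact (Nat.Prime 3) := ⟨Nat.prime_three⟩
  obtain ⟨P⟩ : Nonempty (Sylow 3 G) := inferInstance
  have hP : Nat.card P = 3 := by
    rw [Sylow.card_eq_multiplicity, h]
    have : (6 : ℕ).factorization 3 = 1 := by
      have : (6 : ℕ) = 2 * 3 := by norm_num
      rw [this, Nat.factorization_mul (by norm_num) (by norm_num)]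
      simp [Nat.Prime.factorization Nat.prime_two, Nat.Prime.factorization Nat.prime_three]
    rw [this, pow_one]
  have hidx : (P : Subgroup G).index = 2 := by
    have := (P : Subgroup G).card_mul_index
    rw [hP, h] at this
    omega
  have hn : (P : Subgroup G).Normal := Subgroup.normal_of_index_eq_two hidx
  have hq : Nat.card (G ⧸ (P : Subgroup G)) = 2 := hidx
  exact solv_of_normal (P : Subgroup G) (solv_of_prime_pow 3 1 Nat.prime_three (by rw [hP, pow_one]))
    (solv_of_prime_pow 2 1 Nat.prime_two (by rw [hq, pow_one]))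


theorem solv_of_card_twelve {G : Type*} [Group G] [Finite G] (h : Nat.card G = 12) :
    Group.IsSolvable G := by
  have : Fact (Nat.Prime 2) := ⟨Nat.prime_two⟩
  obtain ⟨P⟩ : Nonempty (Sylow 2 G) := inferInstance
  have hP : Nat.card P = 4 := by
    rw [Sylow.card_eq_multiplicity, h]
    have : (12 : ℕ).factorization 2 = 2 := by
      have : (12 : ℕ) = 2 ^ 2 * 3 := by norm_num
      rw [this, Nat.factorization_mul (by norm_num) (by norm_num), Nat.factorization_pow]
      simp [Nat.Prime.factorization Nat.prime_two, Nat.Prime.factorization Nat.prime_three]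
    rw [this]; norm_num
  have hidx : (P : Subgroup G).index = 3 := by
    have := (P : Subgroup G).card_mul_index
    rw [hP, h] at this
    omega
  let K : Subgroup G := (P : Subgroup G).normalCore
  have hKn : K.Normal := Subgroup.normalCore_normal _
  have hKle : K ≤ (P : Subgroup G) := Subgroup.normalCore_le _
  -- K is a 2-group
  have hKdvd : Nat.card K ∣ 4 := by
    rw [← hP]; exact Subgroup.card_dvd_of_le hKle
  have hKsolv : Group.IsSolvable K := by
    have : Nat.card K ∣ 2 ^ 2 := by simpa using hKdvd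
    obtain ⟨m, -, hm⟩ := (Nat.dvd_prime_pow Nat.prime_two).1 this
    exact solv_of_prime_pow 2 m Nat.prime_two hm
  -- the quotient embeds in Perm (G ⧸ P)
  have hker : K = (MulAction.toPermHom G (G ⧸ (P : Subgroup G))).ker :=
    Subgroup.normalCore_eq_ker _
  have hcardQ : Nat.card (G ⧸ K) ∣ 6 := by
    have hfin : Fintype (G ⧸ (P : Subgroup G)) := Fintype.ofFinite _
    have h1 : Nat.card (G ⧸ (MulAction.toPermHom G (G ⧸ (P : Subgroup G))).ker) ∣
        Nat.card (Equiv.Perm (G ⧸ (P : Subgroup G))) := by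
      rw [Nat.card_congr (QuotientGroup.quotientKerEquivRange _).toEquiv]
      exact Subgroup.card_subgroup_dvd_card _
    have h2 : Nat.card (Equiv.Perm (G ⧸ (P : Subgroup G))) = 6 := by
      rw [Nat.card_perm]
      have : Nat.card (G ⧸ (P : Subgroup G)) = 3 := hidx
      rw [this]; rfl
    rw [h2] at h1
    rw [hker]
    exact h1
  have hmul : Nat.card K * Nat.card (G ⧸ K) = 12 := by
    rw [← h, mul_comm]; exact (Subgroup.card_eq_card_quotient_mul_card_subgroup K).symm
  have hQsolv : Group.IsSolvable (G ⧸ K) := by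
    have h4 : Nat.card K ≤ 4 := Nat.le_of_dvd (by norm_num) hKdvd
    have h6 : Nat.card (G ⧸ K) ≤ 6 := Nat.le_of_dvd (by norm_num) hcardQ
    have hKpos : 0 < Nat.card K := Nat.card_pos
    have hcases : Nat.card (G ⧸ K) = 6 ∨ Nat.card (G ⧸ K) = 3 := by
      generalize Nat.card (G ⧸ K) = b at *
      generalize Nat.card K = a at *
      have : a = 1 ∨ a = 2 ∨ a = 3 ∨ a = 4 := by omega
      rcases this with h1 | h1 | h1 | h1 <;> subst h1 <;> omega
    rcases hcases with h1 | h1
    · exact solv_of_card_six h1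
    · exact solv_of_prime_pow 3 1 Nat.prime_three (by rw [h1, pow_one])
  exact solv_of_normal K hKsolv hQsolv




section wreath
open RegularWreathProduct
variable {D Q : Type*} [Group D] [Group Q]

/-- base embedding -/
def baseHom (D Q : Type*) [Group D] [Group Q] : (Q → D) →* D ≀ᵣ Q where
  toFun b := ⟨b, 1⟩
  map_one' := rfl
  map_mul' a b := by ext <;> simp

theorem pi_solvable (ι : Type*) (D : Type*) [Group D] [h : Group.IsSolvable D] :
    Group.IsSolvable (ι → D) := by
  obtain ⟨n, hn⟩ := h
  refine ⟨n, ?_⟩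
  rw [eq_bot_iff]
  intro f hf
  rw [Subgroup.mem_bot]
  funext i
  have h1 : (Pi.evalMonoidHom (fun _ : ι => D) i) f ∈
      (derivedSeries (ι → D) n).map (Pi.evalMonoidHom (fun _ : ι => D) i) := ⟨f, hf, rfl⟩
  have h2 := map_derivedSeries_le_derivedSeries (Pi.evalMonoidHom (fun _ : ι => D) i) n h1
  rw [hn, Subgroup.mem_bot] at h2
  exact h2

theorem wreath_solvable [Group.IsSolvable D] [Group.IsSolvable Q] : Group.IsSolvable (D ≀ᵣ Q) := by
  have := pi_solvable Q D
  exact Group.isSolvable_of_ker_le_range (baseHom D Q) rightHom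
    (fun x hx => ⟨x.left, RegularWreathProduct.ext rfl (by
      have : x.right = 1 := hx
      rw [this]; rfl)⟩)

/-- projection of the part of a subgroup lying in the base group onto the coordinate 1 -/
def projSub (X : Subgroup (D ≀ᵣ Q)) : Subgroup D where
  carrier := {s | ∃ w ∈ X, w.right = 1 ∧ w.left 1 = s}
  one_mem' := ⟨1, X.one_mem, rfl, rfl⟩
  mul_mem' := by
    rintro a b ⟨w, hw, hw1, rfl⟩ ⟨w', hw', hw1', rfl⟩
    refine ⟨w * w', X.mul_mem hw hw', by simp [hw1, hw1'], ?_⟩
    simp [hw1]
  inv_mem' := by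
    rintro a ⟨w, hw, hw1, rfl⟩
    refine ⟨w⁻¹, X.inv_mem hw, by simp [hw1], ?_⟩
    simp [hw1]

theorem derived_le_proj (τ : Q) (hτ : τ ≠ 1) (n : ℕ) :
    derivedSeries D n ≤ projSub (derivedSeries (D ≀ᵣ Q) (n + 1)) := by
  classical
  induction n with
  | zero =>
    intro s _
    refine ⟨⁅baseHom D Q (Pi.mulSingle 1 s), (inl τ : D ≀ᵣ Q)⁆, ?_, ?_, ?_⟩
    · rw [derivedSeries_succ, derivedSeries_zero]
      exact Subgroup.commutator_mem_commutator (Subgroup.mem_top _) (Subgroup.mem_top _)
    · simp [commutatorElement_def, baseHom]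
    · have h1 : τ⁻¹ ≠ 1 := inv_ne_one.2 hτ
      simp [commutatorElement_def, baseHom, Pi.mulSingle_eq_of_ne h1]
  | succ n ih =>
    rw [derivedSeries_succ, Subgroup.commutator_le]
    intro a ha b hb
    obtain ⟨w, hw, hw1, rfl⟩ := ih ha
    obtain ⟨w', hw', hw1', rfl⟩ := ih hb
    refine ⟨⁅w, w'⁆, ?_, ?_, ?_⟩
    · rw [derivedSeries_succ]
      exact Subgroup.commutator_mem_commutator hw hw'
    · simp [commutatorElement_def, hw1, hw1']
    · simp [commutatorElement_def, hw1, hw1']

theorem derived_wreath_ne_bot (τ : Q) (hτ : τ ≠ 1) (n : ℕ) (h : derivedSeries D n ≠ ⊥) :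
    derivedSeries (D ≀ᵣ Q) (n + 1) ≠ ⊥ := by
  intro hbot
  apply h
  rw [eq_bot_iff]
  intro s hs
  obtain ⟨w, hw, -, rfl⟩ := derived_le_proj τ hτ n hs
  rw [hbot, Subgroup.mem_bot] at hw
  rw [hw, Subgroup.mem_bot]
  rfl

theorem exists_solvable (d : ℕ) : ∃ (S : Type) (_ : Group S) (_ : Finite S),
    Group.IsSolvable S ∧ derivedSeries S d ≠ ⊥ := by
  induction d with
  | zero =>
    refine ⟨Multiplicative (ZMod 2), inferInstance, inferInstance, inferInstance, ?_⟩
    rw [derivedSeries_zero]
    exact top_ne_bot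
  | succ d ih =>
    obtain ⟨S, hg, hf, hs, hd⟩ := ih
    refine ⟨S ≀ᵣ Multiplicative (ZMod 2), inferInstance, inferInstance, wreath_solvable, ?_⟩
    exact derived_wreath_ne_bot (Multiplicative.ofAdd (1 : ZMod 2)) (by decide) d hd




end wreath

variable (S : Type) [Group S]

abbrev A5 := alternatingGroup (Fin 5)

/-- the action of A5 on functions `Fin 5 → S` -/
noncomputable def phi : A5 →* MulAut (Fin 5 → S) := mulAutArrow

theorem phi_apply (σ : A5) (f : Fin 5 → S) (i : Fin 5) : phi S σ f i = f ((σ⁻¹ : A5).1 i) := rfl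

abbrev W := (Fin 5 → S) ⋊[phi S] A5

/-- product of the classes of the coordinates in the abelianization -/
noncomputable def psi : (Fin 5 → S) →* Abelianization S where
  toFun f := ∏ i, Abelianization.of (f i)
  map_one' := by simp
  map_mul' f g := by simp [Finset.prod_mul_distrib]

theorem psi_phi (σ : A5) (f : Fin 5 → S) : psi S (phi S σ f) = psi S f := by
  change ∏ i, Abelianization.of (f ((σ⁻¹ : A5).1 i)) = ∏ i, Abelianization.of (f i)
  exact Equiv.prod_comp (σ⁻¹ : A5).1 (fun i => Abelianization.of (f i))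

noncomputable def Psi : W S →* Abelianization S :=
  SemidirectProduct.lift (psi S) 1 (by
    intro σ
    ext f
    simp only [MonoidHom.comp_apply, MulEquiv.coe_toMonoidHom, MonoidHom.one_apply, MulAut.conj_apply,
      one_mul, inv_one, mul_one]
    exact psi_phi S σ f)

theorem Psi_apply (w : W S) : Psi S w = psi S w.left := by
  simp [Psi, SemidirectProduct.lift]


theorem A5_perfect : commutator A5 = ⊤ := by
  have hs : IsSimpleGroup A5 := alternatingGroup.isSimpleGroup (by simp)
  rcases (inferInstance : (commutator A5).Normal).eq_bot_or_eq_top with h | h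
  · exfalso
    -- A5 would be abelian
    let a : A5 := ⟨Equiv.swap 0 1 * Equiv.swap 1 2, by
      rw [Equiv.Perm.mem_alternatingGroup, map_mul, Equiv.Perm.sign_swap (by decide),
        Equiv.Perm.sign_swap (by decide)]; rfl⟩
    let b : A5 := ⟨Equiv.swap 0 1 * Equiv.swap 1 3, by
      rw [Equiv.Perm.mem_alternatingGroup, map_mul, Equiv.Perm.sign_swap (by decide),
        Equiv.Perm.sign_swap (by decide)]; rfl⟩
    have hab : ⁅a, b⁆ ∈ commutator A5 := by
      rw [commutator_def]
      exact Subgroup.commutator_mem_commutator (Subgroup.mem_top _) (Subgroup.mem_top _)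
    rw [h, Subgroup.mem_bot] at hab
    have h2 : a * b = b * a := by
      rw [commutatorElement_def] at hab
      calc a * b = (a * b * a⁻¹ * b⁻¹) * b * a := by group
        _ = b * a := by rw [hab, one_mul]
    have h3 := congrArg (fun x : A5 => x.1 0) h2
    revert h3
    simp only [a, b, Subgroup.coe_mul]
    decide
  · exact h

/-- the basic elements: `s` at `k`, `s⁻¹` at `j` -/
def dd (k j : Fin 5) (s : S) : Fin 5 → S := Pi.mulSingle k s * Pi.mulSingle j s⁻¹

theorem psi_single (k : Fin 5) (s : S) : psi S (Pi.mulSingle k s) = Abelianization.of s := by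
  change ∏ i, Abelianization.of (Pi.mulSingle k s i) = _
  rw [Finset.prod_eq_single k]
  · simp
  · intro b _ hb
    simp [Pi.mulSingle_eq_of_ne hb]
  · simp

theorem psi_dd (k j : Fin 5) (s : S) : psi S (dd S k j s) = 1 := by
  unfold dd
  rw [map_mul, psi_single, psi_single, map_inv, mul_inv_cancel]

theorem exists_other : ∀ i j k : Fin 5, ∃ l : Fin 5, l ≠ i ∧ l ≠ j ∧ l ≠ k := by decide

theorem exists_sigma (i j k : Fin 5) (hij : i ≠ j) (hik : i ≠ k) (hjk : j ≠ k) :
    ∃ σ : A5, σ.1 i = i ∧ σ.1 j = k := by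
  obtain ⟨l, hli, hlj, hlk⟩ := exists_other i j k
  refine ⟨⟨Equiv.swap j k * Equiv.swap k l, ?_⟩, ?_, ?_⟩
  · rw [Equiv.Perm.mem_alternatingGroup, map_mul, Equiv.Perm.sign_swap hjk,
      Equiv.Perm.sign_swap hlk.symm]; rfl
  · simp only [Equiv.Perm.coe_mul, Function.comp_apply]
    rw [Equiv.swap_apply_of_ne_of_ne hik hli.symm, Equiv.swap_apply_of_ne_of_ne hij hik]
  · simp only [Equiv.Perm.coe_mul, Function.comp_apply]
    rw [Equiv.swap_apply_of_ne_of_ne hjk hlj.symm, Equiv.swap_apply_left]


open SemidirectProduct in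
theorem phi_single (σ : A5) (j : Fin 5) (t : S) :
    phi S σ (Pi.mulSingle j t) = Pi.mulSingle (σ.1 j) t := by
  funext x
  rw [phi_apply]
  by_cases hx : x = σ.1 j
  · subst hx
    have : (σ⁻¹ : A5).1 (σ.1 j) = j := by
      simp
    rw [this]; simp
  · rw [Pi.mulSingle_eq_of_ne hx, Pi.mulSingle_eq_of_ne]
    intro h
    apply hx
    rw [← h]
    simp

open SemidirectProduct in
theorem inr_mem_ker (σ : A5) : (inr σ : W S) ∈ (Psi S).ker := by
  rw [MonoidHom.mem_ker, Psi_apply]
  simp

open SemidirectProduct in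
theorem inl_mem_ker (f : Fin 5 → S) (hf : psi S f = 1) : (inl f : W S) ∈ (Psi S).ker := by
  rw [MonoidHom.mem_ker, Psi_apply]
  simpa using hf

open SemidirectProduct in
theorem step1 (σ : A5) : (inr σ : W S) ∈ ⁅(Psi S).ker, (Psi S).ker⁆ := by
  have h1 : σ ∈ commutator A5 := by rw [A5_perfect]; exact Subgroup.mem_top _
  rw [commutator_def] at h1
  have h2 : (inr σ : W S) ∈ Subgroup.map (inr : A5 →* W S) ⁅(⊤ : Subgroup A5), (⊤ : Subgroup A5)⁆ :=
    ⟨σ, h1, rfl⟩
  rw [Subgroup.map_commutator] at h2
  refine Subgroup.commutator_mono ?_ ?_ h2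
  · rintro _ ⟨τ, -, rfl⟩; exact inr_mem_ker S τ
  · rintro _ ⟨τ, -, rfl⟩; exact inr_mem_ker S τ

open SemidirectProduct in
theorem step2 (k j : Fin 5) (hkj : k ≠ j) (s : S) :
    (inl (dd S k j s) : W S) ∈ ⁅(Psi S).ker, (Psi S).ker⁆ := by
  classical
  obtain ⟨i, hik, hij, -⟩ := exists_other k j k
  obtain ⟨σ, hσi, hσj⟩ := exists_sigma i j k hij hik hkj.symm
  have h1 : (inl (dd S i j s) : W S) ∈ (Psi S).ker := inl_mem_ker S _ (psi_dd S i j s)
  have h2 : (inr σ : W S) ∈ (Psi S).ker := inr_mem_ker S σ
  have h3 := Subgroup.commutator_mem_commutator h1 h2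
  have h4 : ⁅(inl (dd S i j s) : W S), (inr σ : W S)⁆ = inl (dd S k j s) := by
    rw [commutatorElement_def]
    have e1 : (inl (dd S i j s) : W S) * inr σ * (inl (dd S i j s))⁻¹ * (inr σ)⁻¹ =
        inl (dd S i j s) * (inr σ * inl (dd S i j s)⁻¹ * inr σ⁻¹) := by
      rw [map_inv, map_inv]; group
    rw [e1, ← inl_aut, ← map_mul]
    congr 1
    unfold dd
    rw [map_inv (phi S σ), map_mul, phi_single, phi_single, hσi, hσj]
    funext x
    simp only [Pi.mul_apply, Pi.inv_apply]
    by_cases hxi : x = i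
    · subst hxi
      simp [Pi.mulSingle_eq_of_ne hij, Pi.mulSingle_eq_of_ne hik]
    · by_cases hxj : x = j
      · subst hxj
        simp [Pi.mulSingle_eq_of_ne hxi, Pi.mulSingle_eq_of_ne hkj.symm]
      · by_cases hxk : x = k
        · subst hxk
          simp [Pi.mulSingle_eq_of_ne hxi, Pi.mulSingle_eq_of_ne hxj]
        · simp [Pi.mulSingle_eq_of_ne hxi, Pi.mulSingle_eq_of_ne hxj, Pi.mulSingle_eq_of_ne hxk]
  rw [h4] at h3
  exact h3


open SemidirectProduct in
theorem step3 (c : S) (hc : c ∈ commutator S) :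
    (inl (Pi.mulSingle 4 c) : W S) ∈ ⁅(Psi S).ker, (Psi S).ker⁆ := by
  classical
  have hle : commutator S ≤ Subgroup.comap ((inl : (Fin 5 → S) →* W S).comp
      (MonoidHom.mulSingle (fun _ : Fin 5 => S) 4)) ⁅(Psi S).ker, (Psi S).ker⁆ := by
    rw [commutator_def, Subgroup.commutator_le]
    intro s _ t _
    rw [Subgroup.mem_comap]
    have h1 : (inl (dd S 4 0 s) : W S) ∈ (Psi S).ker := inl_mem_ker S _ (psi_dd S 4 0 s)
    have h2 : (inl (dd S 4 1 t) : W S) ∈ (Psi S).ker := inl_mem_ker S _ (psi_dd S 4 1 t)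
    have h3 := Subgroup.commutator_mem_commutator h1 h2
    have h4 : ⁅(inl (dd S 4 0 s) : W S), (inl (dd S 4 1 t) : W S)⁆ =
        (inl : (Fin 5 → S) →* W S) (Pi.mulSingle 4 ⁅s, t⁆) := by
      rw [← map_commutatorElement]
      congr 1
      funext x
      simp only [commutatorElement_def, dd, Pi.mul_apply, Pi.inv_apply]
      fin_cases x <;> simp [Pi.mulSingle_apply]
    rw [h4] at h3
    exact h3
  exact hle hc

theorem decomp (f : Fin 5 → S) :
    f = dd S 0 1 (f 0) * dd S 1 2 (f 0 * f 1) * dd S 2 3 (f 0 * f 1 * f 2) *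
      dd S 3 4 (f 0 * f 1 * f 2 * f 3) * Pi.mulSingle 4 (f 0 * f 1 * f 2 * f 3 * f 4) := by
  funext x
  simp only [dd, Pi.mul_apply]
  fin_cases x <;> simp [Pi.mulSingle_apply] <;> group

open SemidirectProduct in
theorem ker_le_comm : (Psi S).ker ≤ ⁅(Psi S).ker, (Psi S).ker⁆ := by
  intro w hw
  rw [← inl_left_mul_inr_right w]
  refine Subgroup.mul_mem _ ?_ (step1 S w.right)
  rw [MonoidHom.mem_ker, Psi_apply] at hw
  have hc : w.left 0 * w.left 1 * w.left 2 * w.left 3 * w.left 4 ∈ commutator S := by
    have h1 : psi S w.left = Abelianization.of (w.left 0 * w.left 1 * w.left 2 * w.left 3 * w.left 4) := by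
      change ∏ i, Abelianization.of (w.left i) = _
      rw [Fin.prod_univ_five]
      simp only [map_mul]
    rw [h1] at hw
    exact (QuotientGroup.eq_one_iff _).1 hw
  rw [decomp S w.left, map_mul, map_mul, map_mul, map_mul]
  refine Subgroup.mul_mem _ (Subgroup.mul_mem _ (Subgroup.mul_mem _ (Subgroup.mul_mem _ ?_ ?_) ?_) ?_) ?_
  · exact step2 S 0 1 (by decide) _
  · exact step2 S 1 2 (by decide) _
  · exact step2 S 2 3 (by decide) _
  · exact step2 S 3 4 (by decide) _
  · exact step3 S _ hc

theorem ker_perfect : commutator (Psi S).ker = ⊤ := by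
  rw [eq_top_iff]
  intro x _
  have h1 := ker_le_comm S x.2
  have h2 : ⁅(Psi S).ker, (Psi S).ker⁆ = (commutator (Psi S).ker).map (Psi S).ker.subtype := by
    rw [commutator_def, Subgroup.map_commutator, ← MonoidHom.range_eq_map, Subgroup.range_subtype]
  rw [h2] at h1
  obtain ⟨y, hy, hyx⟩ := h1
  have : y = x := Subtype.ext hyx
  rw [← this]; exact hy





theorem W_finite [Finite S] : Finite (W S) :=
  Finite.of_equiv _ (SemidirectProduct.equivProd (φ := phi S)).symm

open SemidirectProduct in
theorem main_construction [Finite S] (hsolv : Group.IsSolvable S) (d : ℕ) (hd : derivedSeries S d ≠ ⊥) :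
    ∃ (H : Subgroup (Psi S).ker), commutator (Psi S).ker = ⊤ ∧ IsCoatom H ∧ Group.IsSolvable H ∧
      derivedSeries H d ≠ ⊥ := by
  classical
  have hprim : MulAction.IsPreprimitive A5 (Fin 5) :=
    alternatingGroup.isPreprimitive_of_three_le_card (Fin 5) (by simp)
  have htrans : MulAction.IsPretransitive A5 (Fin 5) := hprim.toIsPretransitive
  let π : (Psi S).ker →* A5 := (rightHom : W S →* A5).comp (Psi S).ker.subtype
  have hπsurj : Function.Surjective π := fun σ => ⟨⟨inr σ, inr_mem_ker S σ⟩, rfl⟩
  let Q₀ : Subgroup A5 := MulAction.stabilizer A5 (0 : Fin 5)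
  have hQ₀co : IsCoatom Q₀ := MulAction.IsPreprimitive.isCoatom_stabilizer_of_isPreprimitive _ _
  have hQ₀card : Nat.card Q₀ = 12 := by
    have h1 : Q₀.index = 5 := by
      have := MulAction.index_stabilizer_of_transitive A5 (0 : Fin 5)
      simpa using this
    have h2 : Nat.card A5 = 60 := by
      rw [nat_card_alternatingGroup]
      simp [Nat.factorial]
    have h3 := Q₀.card_mul_index
    rw [h1, h2] at h3
    omega
  have hQ₀solv : Group.IsSolvable Q₀ := solv_of_card_twelve hQ₀card
  let H : Subgroup (Psi S).ker := Q₀.comap π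
  refine ⟨H, ker_perfect S, Subgroup.isCoatom_comap_of_surjective hπsurj hQ₀co, ?_, ?_⟩
  · -- solvable
    let g : H →* Q₀ := (π.comp H.subtype).codRestrict Q₀ (fun h => h.2)
    let θ : (psi S).ker →* H :=
      { toFun := fun f => ⟨⟨inl f.1, inl_mem_ker S f.1 f.2⟩, by
          change π _ ∈ Q₀
          have : π ⟨inl f.1, inl_mem_ker S f.1 f.2⟩ = 1 := by
            simp [π]
          rw [this]; exact Q₀.one_mem⟩
        map_one' := by
          apply Subtype.ext; apply Subtype.ext; simp
        map_mul' := by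
          intro a b
          apply Subtype.ext; apply Subtype.ext; simp }
    have hpi : Group.IsSolvable (Fin 5 → S) := pi_solvable (Fin 5) S
    have hker : g.ker ≤ θ.range := by
      intro h hh
      rw [MonoidHom.mem_ker] at hh
      have h1 : (h.1.1 : W S).right = 1 := by
        exact congrArg Subtype.val hh
      have h2 : psi S (h.1.1 : W S).left = 1 := by
        have := h.1.2
        rw [MonoidHom.mem_ker, Psi_apply] at this
        exact this
      refine ⟨⟨(h.1.1 : W S).left, h2⟩, ?_⟩
      apply Subtype.ext; apply Subtype.ext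
      change (inl (h.1.1 : W S).left : W S) = h.1.1
      have := inl_left_mul_inr_right (h.1.1 : W S)
      rw [h1, map_one, mul_one] at this
      exact this
    exact Group.isSolvable_of_ker_le_range θ g hker
  · -- derived length
    let θ : (psi S).ker →* H :=
      { toFun := fun f => ⟨⟨inl f.1, inl_mem_ker S f.1 f.2⟩, by
          change π _ ∈ Q₀
          have : π ⟨inl f.1, inl_mem_ker S f.1 f.2⟩ = 1 := by
            simp [π]
          rw [this]; exact Q₀.one_mem⟩
        map_one' := by
          apply Subtype.ext; apply Subtype.ext; simp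
        map_mul' := by
          intro a b
          apply Subtype.ext; apply Subtype.ext; simp }
    have hθinj : Function.Injective θ := by
      intro a b hab
      have h1 := congrArg (fun x : H => (x.1.1 : W S).left) hab
      exact Subtype.ext h1
    let ρ : (psi S).ker →* S := (Pi.evalMonoidHom (fun _ : Fin 5 => S) 0).comp (psi S).ker.subtype
    have hρsurj : Function.Surjective ρ := by
      intro s
      refine ⟨⟨dd S 0 1 s, psi_dd S 0 1 s⟩, ?_⟩
      simp [ρ, dd]
    have h1 : (derivedSeries (psi S).ker d).map ρ = derivedSeries S d := map_derivedSeries_eq hρsurj d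
    obtain ⟨s, hs, hs1⟩ : ∃ s ∈ derivedSeries S d, s ≠ 1 := by
      by_contra hcon
      push Not at hcon
      exact hd ((Subgroup.eq_bot_iff_forall _).2 hcon)
    rw [← h1] at hs
    obtain ⟨x, hx, rfl⟩ := hs
    have h2 : θ x ∈ derivedSeries H d :=
      map_derivedSeries_le_derivedSeries θ d ⟨x, hx, rfl⟩
    intro hbot
    rw [hbot, Subgroup.mem_bot] at h2
    have : x = 1 := hθinj (by rw [h2, map_one])
    rw [this, map_one] at hs1
    exact hs1 rfl



/-- Finite perfect groups have solvable maximal subgroups of unbounded derived length: for every d there is a finite perfect group G (equal to its commutator subgroup) with a solvable maximal subgroup H whose derived length exceeds d, i.e. the d-th term of the derived series of H is non-trivial. (Take the derived subgroup of a wreath product S ≀ A₅ with S solvable of large derived length, and H the preimage of a maximal subgroup of A₅.) -/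
theorem result (d : ℕ) :
    ∃ (G : Type) (_ : Group G) (_ : Finite G) (H : Subgroup G), commutator G = ⊤ ∧ IsCoatom H ∧ Group.IsSolvable H ∧
      derivedSeries H d ≠ ⊥ := by
  obtain ⟨S, hg, hf, hs, hd⟩ := exists_solvable d
  have hfin := W_finite S
  obtain ⟨H, h1, h2, h3, h4⟩ := main_construction S hs d hd
  exact ⟨(Psi S).ker, inferInstance, inferInstance, H, h1, h2, h3, h4⟩

end Cfsg.Agent.S5896
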