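-- Statement S5902.
import Cfsg.Statements.S5902
-- import your own Cfsg.Agent.* helpers here

set_option autoImplicit false
open Cfsg

namespace Cfsg.Agent.S5902

theorem aux_compl {G : Type*} [Group G] [Finite G] (T X M : Subgroup G)
    (hTX : T ≤ X)
    (hint : ∀ Y : Subgroup G, T ≤ Y → Y ≤ X → ∃ C : Subgroup G, T ≤ C ∧ C ≤ X ∧ Y ⊔ C = X ∧ Y ⊓ C = T)
    (huniq : ∀ M' : Subgroup G, IsCoatom M' → X ≤ M' → M' = M)
    (H : Subgroup G) (hH : ¬ H ≤ M) (hHT : H ⊓ T = ⊥) :
    ∃ C : Subgroup G, H ⊔ C = ⊤ ∧ H ⊓ C = ⊥ := by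
  obtain ⟨C, hTC, hCX, hsup, hinf⟩ := hint ((H ⊓ X) ⊔ T) le_sup_right (sup_le inf_le_right hTX)
  refine ⟨C, ?_, ?_⟩
  · by_contra hne
    obtain ⟨M', hM', hle⟩ := (eq_top_or_exists_le_coatom (H ⊔ C)).resolve_left hne
    have hXle : X ≤ H ⊔ C := by
      rw [← hsup]
      exact sup_le (sup_le (inf_le_left.trans le_sup_left) (hTC.trans le_sup_right)) le_sup_right
    have := huniq M' hM' (hXle.trans hle)
    subst this
    exact hH (le_sup_left.trans hle)
  · have h1 : H ⊓ C ≤ (H ⊓ X ⊔ T) ⊓ C :=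
      le_inf ((le_inf inf_le_left (inf_le_right.trans hCX)).trans le_sup_left) inf_le_right
    rw [hinf] at h1
    have h2 : H ⊓ C ≤ H ⊓ T := le_inf inf_le_left h1
    rw [hHT] at h2
    exact le_bot_iff.mp h2

theorem aux_interval {G : Type*} [Group G] (X : Subgroup G)
    (hK : ComplementedLattice (Subgroup X)) :
    ∀ Y : Subgroup G, ⊥ ≤ Y → Y ≤ X → ∃ C : Subgroup G, ⊥ ≤ C ∧ C ≤ X ∧ Y ⊔ C = X ∧ Y ⊓ C = ⊥ := by
  intro Y _ hYX
  obtain ⟨C', hC'⟩ := hK.exists_isCompl (Y.subgroupOf X)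
  refine ⟨C'.map X.subtype, bot_le, Subgroup.map_subtype_le C', ?_, ?_⟩
  · have h1 : (Y.subgroupOf X ⊔ C').map X.subtype = X := by
      rw [hC'.sup_eq_top, ← MonoidHom.range_eq_map, Subgroup.range_subtype]
    rw [Subgroup.map_sup, Subgroup.map_subgroupOf_eq_of_le hYX] at h1
    exact h1
  · have h1 : (Y.subgroupOf X ⊓ C').map X.subtype = ⊥ := by
      rw [hC'.inf_eq_bot]; simp
    rw [Subgroup.map_inf _ _ _ X.subtype_injective, Subgroup.map_subgroupOf_eq_of_le hYX] at h1
    exact h1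

theorem aux_part1 {G : Type*} [Group G] [Finite G] (X M : Subgroup G)
    (hK : ComplementedLattice (Subgroup X))
    (huniq : ∀ M' : Subgroup G, IsCoatom M' → X ≤ M' → M' = M) :
    ∀ H : Subgroup G, ¬ H ≤ M.normalCore → ∃ C : Subgroup G, H ⊔ C = ⊤ ∧ H ⊓ C = ⊥ := by
  intro H hH
  obtain ⟨h, hhH, hh⟩ := Set.not_subset.mp hH
  have hh' : ¬ ∀ b : G, b * h * b⁻¹ ∈ M := hh
  push Not at hh'
  obtain ⟨b, hb⟩ := hh'
  set φ : Subgroup G ≃o Subgroup G := (MulAut.conj b).mapSubgroup with hφ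
  have hφH : ¬ φ H ≤ M := by
    intro hle
    apply hb
    apply hle
    rw [hφ, MulEquiv.mapSubgroup_apply]
    exact ⟨h, hhH, by simp [MulAut.conj_apply]⟩
  obtain ⟨C', h1, h2⟩ := aux_compl ⊥ X M bot_le (aux_interval X hK) huniq (φ H) hφH (by simp)
  refine ⟨φ.symm C', ?_, ?_⟩
  · apply φ.injective
    rw [OrderIso.map_sup, OrderIso.apply_symm_apply, h1, OrderIso.map_top]
  · apply φ.injective
    rw [OrderIso.map_inf, OrderIso.apply_symm_apply, h2, OrderIso.map_bot]

/-- Let G be a finite group, X a subgroup whose own subgroup lattice is complemented, and suppose X lies in exactly one maximal subgroup M of G. Then every subgroup H of G not contained in the normal core of M has a complement in the subgroup lattice of G (some C with H ⊔ C = G and H ⊓ C = 1); in particular the subgroup lattice of G modulo the normal core of M is complemented. -/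
theorem result {G : Type*} [Group G] [Finite G] (X M : Subgroup G)
    (hK : ComplementedLattice (Subgroup X))
    (hM : IsCoatom M) (hXM : X ≤ M) (huniq : ∀ M' : Subgroup G, IsCoatom M' → X ≤ M' → M' = M) :
    (∀ H : Subgroup G, ¬ H ≤ M.normalCore → ∃ C : Subgroup G, H ⊔ C = ⊤ ∧ H ⊓ C = ⊥) ∧
    ComplementedLattice (Subgroup (G ⧸ M.normalCore)) := by
  have part1 := aux_part1 X M hK huniq
  refine ⟨part1, ⟨fun Kb => ?_⟩⟩
  by_cases hKb : Kb = ⊥
  · subst hKb
    exact ⟨⊤, isCompl_bot_top⟩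
  · set N := M.normalCore with hN
    set K := Kb.comap (QuotientGroup.mk' N) with hKdef
    have hsurj : Function.Surjective (QuotientGroup.mk' N) := QuotientGroup.mk'_surjective N
    have hKN : ¬ K ≤ N := by
      intro hle
      apply hKb
      rw [eq_bot_iff]
      intro xb hxb
      obtain ⟨x, rfl⟩ := hsurj xb
      have hxK : x ∈ K := hxb
      have hxN : x ∈ N := hle hxK
      rw [Subgroup.mem_bot]
      exact (QuotientGroup.eq_one_iff x).mpr hxN
    obtain ⟨C, h1, h2⟩ := part1 K hKN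
    refine ⟨C.map (QuotientGroup.mk' N), ?_⟩
    rw [isCompl_iff, disjoint_iff, codisjoint_iff]
    constructor
    · rw [eq_bot_iff]
      intro yb hyb
      obtain ⟨hy1, hy2⟩ := hyb
      obtain ⟨c, hcC, rfl⟩ := hy2
      have hcK : c ∈ K := hy1
      have : c ∈ K ⊓ C := ⟨hcK, hcC⟩
      rw [h2, Subgroup.mem_bot] at this
      rw [this, map_one]
      exact Subgroup.one_mem _
    · have hKb' : Kb = K.map (QuotientGroup.mk' N) := by
        rw [hKdef, Subgroup.map_comap_eq_self_of_surjective hsurj]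
      rw [hKb', ← Subgroup.map_sup, h1, Subgroup.map_top_of_surjective _ hsurj]

end Cfsg.Agent.S5902
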