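-- Statement S5903.
import Cfsg.Statements.S5903
-- import your own Cfsg.Agent.* helpers here

set_option autoImplicit false
open Cfsg

namespace Cfsg.Agent.S5903

theorem aux_compl {G : Type*} [Group G] [Finite G] (T X M : Subgroup G)
    (hTX : T ≤ X)
    (hint : ∀ Y : Subgroup G, T ≤ Y → Y ≤ X → ∃ C : Subgroup G, T ≤ C ∧ C ≤ X ∧ Y ⊔ C = X ∧ Y ⊓ C = T)
    (huniq : ∀ M' : Subgroup G, IsCoatom M' → X ≤ M' → M' = M)
    (H : Subgroup G) (hH : ¬ H ≤ M) (hHT : H ⊓ T = ⊥) :
    ∃ C : Subgroup G, H ⊔ C = ⊤ ∧ H ⊓ C = ⊥ := by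
  obtain ⟨C, hTC, hCX, hsup, hinf⟩ := hint ((H ⊓ X) ⊔ T) le_sup_right (sup_le inf_le_right hTX)
  refine ⟨C, ?_, ?_⟩
  · by_contra hne
    obtain ⟨M', hM', hle⟩ := (eq_top_or_exists_le_coatom (H ⊔ C)).resolve_left hne
    have hXle : X ≤ H ⊔ C := by
      rw [← hsup]
      exact sup_le (sup_le (inf_le_left.trans le_sup_left) (hTC.trans le_sup_right)) le_sup_right
    have := huniq M' hM' (hXle.trans hle)
    subst this
    exact hH (le_sup_left.trans hle)
  · have h1 : H ⊓ C ≤ (H ⊓ X ⊔ T) ⊓ C :=
      le_inf ((le_inf inf_le_left (inf_le_right.trans hCX)).trans le_sup_left) inf_le_right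
    rw [hinf] at h1
    have h2 : H ⊓ C ≤ H ⊓ T := le_inf inf_le_left h1
    rw [hHT] at h2
    exact le_bot_iff.mp h2

theorem aux_interval {G : Type*} [Group G] (X N : Subgroup G) (hNX : N ≤ X)
    [(N.subgroupOf X).Normal] (hK : ComplementedLattice (Subgroup (X ⧸ N.subgroupOf X))) :
    ∀ Y : Subgroup G, N ≤ Y → Y ≤ X → ∃ C : Subgroup G, N ≤ C ∧ C ≤ X ∧ Y ⊔ C = X ∧ Y ⊓ C = N := by
  intro Y hNY hYX
  set N' := N.subgroupOf X with hN'
  set π := QuotientGroup.mk' N' with hπ
  have hsurj : Function.Surjective π := QuotientGroup.mk'_surjective N'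
  have hker : π.ker = N' := QuotientGroup.ker_mk' N'
  set Y' := Y.subgroupOf X with hY'
  have hN'Y' : N' ≤ Y' := fun x hx => hNY hx
  obtain ⟨Cb, hCb⟩ := hK.exists_isCompl (Y'.map π)
  set C' := Cb.comap π with hC'
  have hN'C' : N' ≤ C' := by
    rw [← hker]; exact Subgroup.ker_le_comap π Cb
  have hY'eq : (Y'.map π).comap π = Y' := by
    rw [Subgroup.comap_map_eq, hker, sup_eq_left.mpr hN'Y']
  have hsup' : Y' ⊔ C' = ⊤ := by
    have := Subgroup.comap_sup_eq π (Y'.map π) Cb hsurj
    rw [hY'eq, hCb.sup_eq_top, Subgroup.comap_top] at this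
    exact this
  have hinf' : Y' ⊓ C' = N' := by
    have := Subgroup.comap_inf (Y'.map π) Cb π
    rw [hY'eq, hCb.inf_eq_bot] at this
    rw [← this]
    exact (MonoidHom.comap_bot π).trans hker
  refine ⟨C'.map X.subtype, ?_, Subgroup.map_subtype_le C', ?_, ?_⟩
  · have := Subgroup.map_mono (f := X.subtype) hN'C'
    rwa [hN', Subgroup.map_subgroupOf_eq_of_le hNX] at this
  · have h1 : (Y' ⊔ C').map X.subtype = X := by
      rw [hsup', ← MonoidHom.range_eq_map, Subgroup.range_subtype]
    rw [Subgroup.map_sup, hY', Subgroup.map_subgroupOf_eq_of_le hYX] at h1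
    exact h1
  · have h1 : (Y' ⊓ C').map X.subtype = N := by
      rw [hinf', hN', Subgroup.map_subgroupOf_eq_of_le hNX]
    rw [Subgroup.map_inf _ _ _ X.subtype_injective, hY', Subgroup.map_subgroupOf_eq_of_le hYX] at h1
    exact h1

/-- Let G be a finite simple group, X a subgroup lying in exactly one maximal subgroup M of G, and N a subgroup of prime order with N ≤ X that is central in M. If the subgroup lattice of X/N is complemented, then the subgroup lattice of G is complemented. -/
theorem result {G : Type*} [Group G] [Finite G] [IsSimpleGroup G] (X M N : Subgroup G)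
    (hM : IsCoatom M) (hXM : X ≤ M) (huniq : ∀ M' : Subgroup G, IsCoatom M' → X ≤ M' → M' = M)
    (hNX : N ≤ X) (hN : (Nat.card N).Prime) (hcen : ∀ n ∈ N, ∀ m ∈ M, m * n = n * m)
    [(N.subgroupOf X).Normal] (hK : ComplementedLattice (Subgroup (X ⧸ N.subgroupOf X))) :
    ComplementedLattice (Subgroup G) := by
  have hint := aux_interval X N hNX hK
  refine ⟨fun H => ?_⟩
  by_cases hHbot : H = ⊥
  · subst hHbot; exact ⟨⊤, isCompl_bot_top⟩
  by_cases hHtop : H = ⊤
  · subst hHtop; exact ⟨⊥, isCompl_top_bot⟩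
  -- N is nontrivial
  have hNbot : N ≠ ⊥ := by
    intro h
    rw [h] at hN
    simp at hN
    exact Nat.not_prime_one hN
  -- key claim
  have claim : ∃ g : G, ¬ ((MulAut.conj g).mapSubgroup H ≤ M) ∧ (MulAut.conj g).mapSubgroup H ⊓ N = ⊥ := by
    by_contra hcon
    push Not at hcon
    apply hHbot
    have hnorm : ∀ g : G, ∀ n ∈ N, g⁻¹ * n * g ∈ Subgroup.normalizer (H : Set G) := by
      intro g n hn
      by_cases hle : (MulAut.conj g).mapSubgroup H ≤ M
      · -- g⁻¹ n g centralizes H
        have hcomm : ∀ h ∈ H, h * (g⁻¹ * n * g) = (g⁻¹ * n * g) * h := by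
          intro h hh
          have hm : g * h * g⁻¹ ∈ M := by
            apply hle
            rw [MulEquiv.mapSubgroup_apply]
            exact ⟨h, hh, by simp [MulAut.conj_apply]⟩
          have := hcen n hn _ hm
          calc h * (g⁻¹ * n * g) = g⁻¹ * ((g * h * g⁻¹) * n) * g := by group
            _ = g⁻¹ * (n * (g * h * g⁻¹)) * g := by rw [this]
            _ = (g⁻¹ * n * g) * h := by group
        apply Subgroup.centralizer_le_normalizer
        rw [Subgroup.mem_centralizer_iff]
        exact hcomm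
      · have hne := hcon g hle
        -- N ≤ conj g H
        have hNle : N ≤ (MulAut.conj g).mapSubgroup H := by
          have h1 : ((MulAut.conj g).mapSubgroup H ⊓ N).subgroupOf N = ⊥ ∨
              ((MulAut.conj g).mapSubgroup H ⊓ N).subgroupOf N = ⊤ := by
            have : Fact (Nat.card N).Prime := ⟨hN⟩
            exact Subgroup.eq_bot_or_eq_top_of_prime_card _
          rcases h1 with h1 | h1
          · exfalso
            apply hne
            rw [Subgroup.subgroupOf_eq_bot] at h1
            rw [disjoint_iff] at h1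
            rw [← h1]
            simp
          · rw [Subgroup.subgroupOf_eq_top] at h1
            exact h1.trans inf_le_left
        have := hNle hn
        rw [MulEquiv.mapSubgroup_apply] at this
        obtain ⟨h, hh, hhn⟩ := this
        have e : g⁻¹ * n * g = h := by
          rw [← hhn]; simp [MulAut.conj_apply]; group
        rw [e]
        exact Subgroup.le_normalizer hh
    have hcl : Subgroup.normalClosure (N : Set G) ≤ Subgroup.normalizer (H : Set G) := by
      rw [Subgroup.normalClosure, Subgroup.closure_le]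
      intro x hx
      rw [Group.mem_conjugatesOfSet_iff] at hx
      obtain ⟨n, hn, hconj⟩ := hx
      rw [isConj_iff] at hconj
      obtain ⟨c, rfl⟩ := hconj
      have := hnorm c⁻¹ n hn
      simpa using this
    have hcl_top : Subgroup.normalClosure (N : Set G) = ⊤ := by
      rcases (Subgroup.normalClosure_normal (s := (N : Set G))).eq_bot_or_eq_top with h | h
      · exfalso
        apply hNbot
        rw [eq_bot_iff, ← h]
        exact Subgroup.le_normalClosure
      · exact h
    rw [hcl_top, top_le_iff, Subgroup.normalizer_eq_top_iff] at hcl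
    rcases hcl.eq_bot_or_eq_top with h | h
    · exact h
    · exact absurd h hHtop
  obtain ⟨g, hg1, hg2⟩ := claim
  set φ : Subgroup G ≃o Subgroup G := (MulAut.conj g).mapSubgroup with hφ
  obtain ⟨C', h1, h2⟩ := aux_compl N X M hNX hint huniq (φ H) hg1 hg2
  refine ⟨φ.symm C', ?_⟩
  rw [isCompl_iff, disjoint_iff, codisjoint_iff]
  constructor
  · apply φ.injective
    rw [OrderIso.map_inf, OrderIso.apply_symm_apply, h2, OrderIso.map_bot]
  · apply φ.injective
    rw [OrderIso.map_sup, OrderIso.apply_symm_apply, h1, OrderIso.map_top]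

end Cfsg.Agent.S5903
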