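-- Statement S5904.
import Cfsg.Statements.S5904
-- import your own Cfsg.Agent.* helpers here

set_option autoImplicit false
open scoped Pointwise
open Cfsg

namespace Cfsg.Agent.S5904

/-- Let Ω be a finite set with more than two elements and O ⊆ Ω a subset with exactly as many elements as its complement. Then the setwise stabilizer of O in the symmetric group on Ω is not a maximal subgroup (it is properly contained in the stabilizer of the partition {O, Ω ∖ O}, which is proper). -/
theorem result {Ω : Type*} [Fintype Ω] [DecidableEq Ω] (hΩ : 2 < Fintype.card Ω)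
    (O : Set Ω) (hO : Nat.card O = Nat.card ↥Oᶜ) :
    ¬ IsCoatom (MulAction.stabilizer (Equiv.Perm Ω) O) := by
  classical
  intro hco
  have hsum := Set.ncard_add_ncard_compl O
  rw [Nat.card_coe_set_eq, Nat.card_coe_set_eq] at hO
  rw [Nat.card_eq_fintype_card] at hsum
  have h2 : 1 < O.ncard := by omega
  obtain ⟨a1, a2, ha1, ha2, hne⟩ := (Set.one_lt_ncard_iff).mp h2
  have hcne : Oᶜ.Nonempty := by
    rw [← Set.ncard_pos]; omega
  obtain ⟨b, hb⟩ := hcne
  -- the swapping permutation
  have hOeq : Nat.card O = Nat.card ↥Oᶜ := by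
    rw [Nat.card_coe_set_eq, Nat.card_coe_set_eq]; exact hO
  obtain ⟨e⟩ := (Finite.card_eq).mp hOeq
  set σ : Equiv.Perm Ω := e.extendSubtype with hσ
  have hσO : σ • O = Oᶜ := by
    ext x
    constructor
    · rintro ⟨y, hy, rfl⟩
      have : σ y = e ⟨y, hy⟩ := Equiv.extendSubtype_apply_of_mem e y hy
      change σ y ∈ Oᶜ
      rw [this]
      exact (e ⟨y, hy⟩).2
    · intro hx
      refine ⟨(e.symm ⟨x, hx⟩ : Ω), (e.symm ⟨x, hx⟩).2, ?_⟩
      change σ (e.symm ⟨x, hx⟩ : Ω) = x
      rw [Equiv.extendSubtype_apply_of_mem e _ (e.symm ⟨x, hx⟩).2]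
      simp
  set P : Set (Set Ω) := {O, Oᶜ} with hP
  set L := MulAction.stabilizer (Equiv.Perm Ω) P with hL
  have hsmulP : ∀ g : Equiv.Perm Ω, g • P = {g • O, (g • O)ᶜ} := by
    intro g
    rw [hP, Set.smul_set_insert, Set.smul_set_singleton, Set.smul_set_compl]
  have hle : MulAction.stabilizer (Equiv.Perm Ω) O ≤ L := by
    intro g hg
    rw [MulAction.mem_stabilizer_iff] at hg
    rw [hL, MulAction.mem_stabilizer_iff, hsmulP, hg]
  have hσL : σ ∈ L := by
    rw [hL, MulAction.mem_stabilizer_iff, hsmulP, hσO, compl_compl, Set.pair_comm]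
  have hσO' : σ ∉ MulAction.stabilizer (Equiv.Perm Ω) O := by
    intro h
    rw [MulAction.mem_stabilizer_iff, hσO] at h
    have : a1 ∈ Oᶜ := by rw [h]; exact ha1
    exact this ha1
  have hlt : MulAction.stabilizer (Equiv.Perm Ω) O < L :=
    lt_of_le_of_ne hle (fun h => hσO' (h ▸ hσL))
  have htop := hco.2 L hlt
  have hτ : Equiv.swap a1 b ∈ L := by rw [htop]; exact Subgroup.mem_top _
  rw [hL, MulAction.mem_stabilizer_iff] at hτ
  have hmem : Equiv.swap a1 b • O ∈ Equiv.swap a1 b • P := Set.smul_mem_smul_set (Set.mem_insert _ _)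
  rw [hτ, hP] at hmem
  have hb' : b ∈ Equiv.swap a1 b • O := ⟨a1, ha1, by simp⟩
  have ha2' : a2 ∈ Equiv.swap a1 b • O := by
    refine ⟨a2, ha2, ?_⟩
    have hne2 : a2 ≠ b := fun h => hb (h ▸ ha2)
    simp [Equiv.swap_apply_of_ne_of_ne hne.symm hne2]
  rcases hmem with h | h
  · rw [h] at hb'
    exact hb hb'
  · rw [Set.mem_singleton_iff] at h
    rw [h] at ha2'
    exact ha2' ha2

end Cfsg.Agent.S5904
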