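-- Statement S5908
import Cfsg.Statements.S5908
import Mathlib
import Cfsg.Agent.S0827

set_option autoImplicit false
open Cfsg

namespace Cfsg.Agent.S5908

/-- the centre `{1, a 2}` of the quaternion group of order eight -/
def ZQ : Subgroup (QuaternionGroup 2) where
  carrier := {q | q = 1 ∨ q = QuaternionGroup.a 2}
  mul_mem' := by
    intro a b ha hb
    revert a b
    simp only [Set.mem_setOf_eq]
    decide
  one_mem' := Or.inl rfl
  inv_mem' := by
    intro a ha
    revert a
    simp only [Set.mem_setOf_eq]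
    decide

theorem mem_ZQ (q : QuaternionGroup 2) : q ∈ ZQ ↔ q = 1 ∨ q = QuaternionGroup.a 2 := Iff.rfl

theorem sq_or (q : QuaternionGroup 2) (hq : q ≠ 1) :
    q * q = QuaternionGroup.a 2 ∨ q = QuaternionGroup.a 2 := by
  revert q
  decide

/-- The subgroup lattice of PSU₃(2) (the solvable group of order 72, realised over the field with 4 elements) is not complemented: some subgroup H has no subgroup X with H ⊔ X = ⊤ and H ⊓ X = ⊥. -/
theorem result {F : Type*} [Field F] [Fintype F] (hF : Fintype.card F = 4) :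
    ¬ ComplementedLattice (Subgroup (Cfsg.PSU 3 F 2)) := by
  intro hcompl
  obtain ⟨N, hN, -, -, ⟨e⟩⟩ := Cfsg.Agent.S0827.result hF
  obtain ⟨π, hπ⟩ : ∃ π : Cfsg.PSU 3 F 2 →* QuaternionGroup 2,
      π = e.toMonoidHom.comp (QuotientGroup.mk' N) := ⟨_, rfl⟩
  have hsurj : Function.Surjective π := by
    rw [hπ]
    exact e.surjective.comp (QuotientGroup.mk'_surjective N)
  obtain ⟨X, hX⟩ := hcompl.exists_isCompl (ZQ.comap π)
  have hinf : ZQ.comap π ⊓ X = ⊥ := disjoint_iff.mp hX.disjoint
  have hsup : ZQ.comap π ⊔ X = ⊤ := codisjoint_iff.mp hX.codisjoint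
  have hsup' : ZQ ⊔ X.map π = ⊤ := by
    have h1 := congrArg (Subgroup.map π) hsup
    rw [Subgroup.map_sup, Subgroup.map_comap_eq_self_of_surjective hsurj,
      Subgroup.map_top_of_surjective π hsurj] at h1
    exact h1
  -- the involution lies in the image of `X`
  have hmem : QuaternionGroup.a 2 ∈ X.map π := by
    by_cases hbot : X.map π = ⊥
    · exfalso
      rw [hbot, sup_bot_eq] at hsup'
      have h1 : QuaternionGroup.a 1 ∈ ZQ := by rw [hsup']; exact Subgroup.mem_top _
      rw [mem_ZQ] at h1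
      revert h1
      decide
    · obtain ⟨q, hq, hq1⟩ := (Subgroup.ne_bot_iff_exists_ne_one (H := X.map π)).mp hbot |>.imp
        (fun q h => h) |> fun ⟨q, h⟩ => (⟨q.1, q.2, fun h1 => h (Subtype.ext h1)⟩ :
          ∃ q : QuaternionGroup 2, q ∈ X.map π ∧ q ≠ 1)
      rcases sq_or q hq1 with h | h
      · rw [← h]; exact Subgroup.mul_mem _ hq hq
      · rw [← h]; exact hq
  obtain ⟨x, hxX, hx⟩ := Subgroup.mem_map.mp hmem
  have hxH : x ∈ ZQ.comap π := by
    rw [Subgroup.mem_comap, hx, mem_ZQ]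
    exact Or.inr rfl
  have hx1 : x ∈ (⊥ : Subgroup (Cfsg.PSU 3 F 2)) := by
    rw [← hinf]
    exact ⟨hxH, hxX⟩
  rw [Subgroup.mem_bot] at hx1
  rw [hx1, map_one] at hx
  revert hx
  decide

end Cfsg.Agent.S5908
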