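-- Statement S5909.
import Cfsg.Statements.S5909
import Cfsg.Agent.S5905

set_option autoImplicit false
open Cfsg

namespace Cfsg.Agent.S5909
open Cfsg.Agent.S5905

variable {Ω : Type*} [DecidableEq Ω]

/-- the 3-cycle x → y → z → x -/
def cyc (x y z : Ω) : Equiv.Perm Ω := Equiv.swap x y * Equiv.swap y z

theorem cyc_conj (g : Equiv.Perm Ω) (x y z : Ω) :
    g * cyc x y z * g⁻¹ = cyc (g x) (g y) (g z) := by
  unfold cyc
  rw [Equiv.swap_apply_apply, Equiv.swap_apply_apply]
  group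

theorem cyc_inv (x y z : Ω) : (cyc x y z)⁻¹ = cyc z y x := by
  unfold cyc
  rw [mul_inv_rev, Equiv.swap_inv, Equiv.swap_inv, Equiv.swap_comm y z, Equiv.swap_comm x y]

theorem cyc_left {x y z : Ω} (hxy : x ≠ y) (hxz : x ≠ z) : cyc x y z x = y := by
  unfold cyc
  rw [Equiv.Perm.mul_apply, Equiv.swap_apply_of_ne_of_ne hxy hxz, Equiv.swap_apply_left]

theorem cyc_mid {x y z : Ω} (hxz : x ≠ z) (hyz : y ≠ z) : cyc x y z y = z := by
  unfold cyc
  rw [Equiv.Perm.mul_apply, Equiv.swap_apply_left, Equiv.swap_apply_of_ne_of_ne hxz.symm hyz.symm]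

theorem cyc_right {x y z : Ω} : cyc x y z z = x := by
  unfold cyc
  rw [Equiv.Perm.mul_apply, Equiv.swap_apply_right, Equiv.swap_apply_right]

theorem cyc_other {x y z w : Ω} (hx : w ≠ x) (hy : w ≠ y) (hz : w ≠ z) : cyc x y z w = w := by
  unfold cyc
  rw [Equiv.Perm.mul_apply, Equiv.swap_apply_of_ne_of_ne hy hz, Equiv.swap_apply_of_ne_of_ne hx hy]

theorem cyc_rot {x y z : Ω} (hxy : x ≠ y) (hxz : x ≠ z) (hyz : y ≠ z) : cyc x y z = cyc y z x := by
  ext w
  by_cases h1 : w = x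
  · subst h1; rw [cyc_left hxy hxz, cyc_right]
  by_cases h2 : w = y
  · subst h2; rw [cyc_mid hxz hyz, cyc_left hyz hxy.symm]
  by_cases h3 : w = z
  · subst h3; rw [cyc_right, cyc_mid hxy.symm hxz.symm]
  rw [cyc_other h1 h2 h3, cyc_other h2 h3 h1]

theorem cyc_sign {x y z : Ω} [Fintype Ω] (hxy : x ≠ y) (hyz : y ≠ z) : Equiv.Perm.sign (cyc x y z) = 1 := by
  unfold cyc
  rw [map_mul, Equiv.Perm.sign_swap hxy, Equiv.Perm.sign_swap hyz]
  rfl

/-- the 3-cycle relation -/
def Rel (L : Subgroup (Equiv.Perm Ω)) (x y : Ω) : Prop :=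
  x = y ∨ ∃ z, z ≠ x ∧ z ≠ y ∧ cyc x y z ∈ L

theorem Rel.symm {L : Subgroup (Equiv.Perm Ω)} {x y : Ω} (h : Rel L x y) : Rel L y x := by
  rcases h with h | ⟨z, hzx, hzy, hc⟩
  · exact Or.inl h.symm
  by_cases hxy : x = y
  · exact Or.inl hxy.symm
  refine Or.inr ⟨z, hzy, hzx, ?_⟩
  have h1 := L.inv_mem hc
  rw [cyc_inv, cyc_rot hzy hzx (Ne.symm hxy)] at h1
  exact h1

theorem Rel.smul {L : Subgroup (Equiv.Perm Ω)} {x y : Ω} (h : Rel L x y) {g : Equiv.Perm Ω} (hg : g ∈ L) :
    Rel L (g x) (g y) := by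
  rcases h with h | ⟨z, hzx, hzy, hc⟩
  · exact Or.inl (by rw [h])
  refine Or.inr ⟨g z, fun h => hzx (g.injective h), fun h => hzy (g.injective h), ?_⟩
  rw [← cyc_conj]
  exact L.mul_mem (L.mul_mem hg hc) (L.inv_mem hg)

theorem Rel.trans {L : Subgroup (Equiv.Perm Ω)} {x y w : Ω} (h1 : Rel L x y) (h2 : Rel L y w) : Rel L x w := by
  rcases h1 with h1 | ⟨z, hzx, hzy, hc1⟩
  · rw [h1]; exact h2
  rcases h2 with h2 | ⟨v, hvy, hvw, hc2⟩
  · rw [← h2]; exact Or.inr ⟨z, hzx, hzy, hc1⟩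
  by_cases hxw : x = w
  · exact Or.inl hxw
  by_cases hxy : x = y
  · rw [hxy]; exact Or.inr ⟨v, hvy, hvw, hc2⟩
  by_cases hyw : y = w
  · rw [← hyw]; exact Or.inr ⟨z, hzx, hzy, hc1⟩
  by_cases hxv : x = v
  · -- c2 = cyc y w x
    subst hxv
    have hi := L.inv_mem hc2
    have h3 : (cyc y w x)⁻¹ * cyc x y z * ((cyc y w x)⁻¹)⁻¹ ∈ L :=
      L.mul_mem (L.mul_mem hi hc1) (L.inv_mem hi)
    rw [cyc_conj, cyc_inv] at h3
    -- cyc x w y : x → w → y → x
    rw [cyc_left hxw hxy, cyc_right] at h3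
    apply Rel.symm
    refine Or.inr ⟨cyc x w y z, ?_, ?_, h3⟩
    · intro h
      have : cyc x w y z = cyc x w y x := by rw [h, cyc_left hxw hxy]
      exact hzx ((cyc x w y).injective this)
    · intro h
      have : cyc x w y z = cyc x w y y := by rw [h, cyc_right]
      exact hzy ((cyc x w y).injective this)
  · have h3 : cyc y w v * cyc x y z * (cyc y w v)⁻¹ ∈ L :=
      L.mul_mem (L.mul_mem hc2 hc1) (L.inv_mem hc2)
    rw [cyc_conj, cyc_other hxy hxw hxv, cyc_left hyw hvy.symm] at h3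
    refine Or.inr ⟨cyc y w v z, ?_, ?_, h3⟩
    · intro h
      have : cyc y w v z = cyc y w v x := by rw [h, cyc_other hxy hxw hxv]
      exact hzx ((cyc y w v).injective this)
    · intro h
      have : cyc y w v z = cyc y w v y := by rw [h, cyc_left hyw hvy.symm]
      exact hzy ((cyc y w v).injective this)

theorem all_cyc {L : Subgroup (Equiv.Perm Ω)} (hfull : ∀ x y, Rel L x y) {x y z : Ω}
    (hxy : x ≠ y) (hxz : x ≠ z) (hyz : y ≠ z) : cyc x y z ∈ L := by
  rcases hfull x y with h | ⟨t, htx, hty, hc⟩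
  · exact absurd h hxy
  by_cases htz : t = z
  · rw [← htz]; exact hc
  rcases hfull t z with h | ⟨s, hst, hsz, hg⟩
  · exact absurd h htz
  by_cases hsx : s = x
  · subst hsx
    have hi := L.inv_mem hg
    have h3 : (cyc t z s)⁻¹ * cyc s y t * ((cyc t z s)⁻¹)⁻¹ ∈ L :=
      L.mul_mem (L.mul_mem hi hc) (L.inv_mem hi)
    rw [cyc_conj, cyc_inv] at h3
    -- cyc s z t : s → z → t → s
    rw [cyc_left hxz hst, cyc_other hxy.symm hyz hty.symm, cyc_right] at h3
    have := L.inv_mem h3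
    rwa [cyc_inv] at this
  by_cases hsy : s = y
  · subst hsy
    have hi := L.inv_mem hg
    have h3 : (cyc t z s)⁻¹ * cyc x s t * ((cyc t z s)⁻¹)⁻¹ ∈ L :=
      L.mul_mem (L.mul_mem hi hc) (L.inv_mem hi)
    rw [cyc_conj, cyc_inv] at h3
    -- cyc s z t : s → z → t → s
    rw [cyc_other hxy hxz htx.symm, cyc_left hyz hst, cyc_right] at h3
    have := L.inv_mem h3
    rw [cyc_inv, ← cyc_rot hxy hxz hyz] at this
    exact this
  · have h3 : cyc t z s * cyc x y t * (cyc t z s)⁻¹ ∈ L :=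
      L.mul_mem (L.mul_mem hg hc) (L.inv_mem hg)
    rw [cyc_conj, cyc_other htx.symm hxz (Ne.symm hsx), cyc_other hty.symm hyz (Ne.symm hsy),
      cyc_left htz hst.symm] at h3
    exact h3

theorem alt_le_of_full [Fintype Ω] {L : Subgroup (Equiv.Perm Ω)} (hfull : ∀ x y, Rel L x y) :
    alternatingGroup Ω ≤ L := by
  rw [← Equiv.Perm.closure_three_cycles_eq_alternating, Subgroup.closure_le]
  intro σ hσ
  have hσ' : σ.IsThreeCycle := hσ
  have hne : σ.support.Nonempty := by
    rw [Finset.nonempty_iff_ne_empty]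
    intro h
    rw [Equiv.Perm.support_eq_empty_iff] at h
    exact hσ'.ne_one h
  obtain ⟨a, ha⟩ := hne
  have h1 := hσ'.eq_swap_mul_swap_iff_mem_support.mpr ha
  have h2 := hσ'.nodup_iff_mem_support.mpr ha
  simp only [List.nodup_cons, List.mem_cons, List.not_mem_nil, or_false, not_or, List.nodup_nil,
    and_true, not_false_eq_true] at h2
  have : σ = cyc a (σ a) (σ (σ a)) := h1
  rw [this]
  exact all_cyc hfull h2.1.1 h2.1.2 h2.2


theorem swap_fib {b : ℕ} (f : Ω → Fin b) {x y : Ω} (h : f x = f y) (u : Ω) :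
    f (Equiv.swap x y u) = f u := by
  by_cases hux : u = x
  · subst hux; rw [Equiv.swap_apply_left]; exact h.symm
  · by_cases huy : u = y
    · subst huy; rw [Equiv.swap_apply_right]; exact h
    · rw [Equiv.swap_apply_of_ne_of_ne hux huy]

theorem exists_evenBlockSwap [Fintype Ω] (a b : ℕ) (ha : 2 ≤ a) (f : Ω → Fin b)
    (hf : ∀ i : Fin b, Nat.card {x : Ω // f x = i} = a) (j k : Fin b) :
    ∃ h : Equiv.Perm Ω, h ∈ partStab f ⊓ alternatingGroup Ω ∧
      (∀ x, f x ≠ j → f x ≠ k → h x = x) ∧ (∀ x, f (h x) = Equiv.swap j k (f x)) := by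
  set bs := blockSwap a b f hf j k with hbs
  rcases Int.units_eq_one_or (Equiv.Perm.sign bs) with h1 | h1
  · refine ⟨bs, Subgroup.mem_inf.mpr ⟨blockSwap_mem a b f hf j k, Equiv.Perm.mem_alternatingGroup.mpr h1⟩, ?_, ?_⟩
    · intro x hj hk; exact blockSwap_fix a b f hf j k x hj hk
    · intro x; exact blockSwap_f a b f hf j k x
  · obtain ⟨x, x', hne, hx, hx'⟩ := exists_pair_fibre a b ha f hf j
    refine ⟨bs * Equiv.swap x x', Subgroup.mem_inf.mpr ⟨(partStab f).mul_mem (blockSwap_mem a b f hf j k)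
      (swap_mem_partStab f x x' (hx.trans hx'.symm)), ?_⟩, ?_, ?_⟩
    · rw [Equiv.Perm.mem_alternatingGroup, map_mul, h1, Equiv.Perm.sign_swap hne]
      rfl
    · intro y hj hk
      have hyx : y ≠ x := fun h => hj (h ▸ hx)
      have hyx' : y ≠ x' := fun h => hj (h ▸ hx')
      rw [Equiv.Perm.mul_apply, Equiv.swap_apply_of_ne_of_ne hyx hyx']
      exact blockSwap_fix a b f hf j k y hj hk
    · intro y
      rw [Equiv.Perm.mul_apply, blockSwap_f a b f hf j k, swap_fib f (hx.trans hx'.symm)]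

theorem full_of [Fintype Ω] (a b : ℕ) (ha : 2 ≤ a) (f : Ω → Fin b)
    (hf : ∀ i : Fin b, Nat.card {x : Ω // f x = i} = a) (L : Subgroup (Equiv.Perm Ω))
    (hHL : partStab f ⊓ alternatingGroup Ω ≤ L)
    (hfib : ∀ x y, f x = f y → Rel L x y) (hcross : ∃ x y, f x ≠ f y ∧ Rel L x y) :
    ∀ x y, Rel L x y := by
  obtain ⟨x0, y0, hxy0, hR0⟩ := hcross
  have hall : ∀ w, Rel L w x0 := by
    intro w
    by_cases h1 : f w = f x0
    · exact hfib w x0 h1
    by_cases h2 : f w = f y0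
    · exact (hfib w y0 h2).trans hR0.symm
    · obtain ⟨s, hsH, hsfix, hsf⟩ := exists_evenBlockSwap a b ha f hf (f y0) (f w)
      have hsL : s ∈ L := hHL hsH
      have hsx : s x0 = x0 := hsfix x0 hxy0 (Ne.symm h1)
      have hsy : f (s y0) = f w := by rw [hsf, Equiv.swap_apply_left]
      have h3 := hR0.smul hsL
      rw [hsx] at h3
      exact (hfib _ _ hsy.symm).trans h3.symm
  intro x y
  exact (hall x).trans (hall y).symm

theorem cross_of_notMem {b : ℕ} (f : Ω → Fin b) (L : Subgroup (Equiv.Perm Ω))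
    (hfib : ∀ x y, f x = f y → Rel L x y) (g : Equiv.Perm Ω) (hgL : g ∈ L) (hgK : g ∉ partStab f) :
    ∃ x y, f x ≠ f y ∧ Rel L x y := by
  have hgK' : ¬ ∀ x y : Ω, f x = f y ↔ f (g x) = f (g y) := hgK
  push Not at hgK'
  obtain ⟨u, v, huv⟩ := hgK'
  by_cases h1 : f u = f v
  · have h2 : f (g u) ≠ f (g v) := by
      intro h2; exact huv.elim (fun h => h.2 h2) (fun h => h.1 h1)
    exact ⟨g u, g v, h2, (hfib u v h1).smul hgL⟩
  · have h2 : f (g u) = f (g v) := by
      by_contra h2; exact huv.elim (fun h => h1 h.1) (fun h => h2 h.2)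
    have h3 := (hfib _ _ h2).smul (L.inv_mem hgL)
    rw [← Equiv.Perm.mul_apply, ← Equiv.Perm.mul_apply, inv_mul_cancel, Equiv.Perm.one_apply,
      Equiv.Perm.one_apply] at h3
    exact ⟨u, v, h1, h3⟩

omit [DecidableEq Ω] in
theorem fibre_card [Fintype Ω] (a b : ℕ) (f : Ω → Fin b)
    (hf : ∀ i : Fin b, Nat.card {x : Ω // f x = i} = a) (i : Fin b) :
    (Finset.univ.filter (fun x => f x = i)).card = a := by
  rw [← hf i, Nat.card_eq_fintype_card, Fintype.card_subtype]

theorem fib_rel_of_three_le [Fintype Ω] (a b : ℕ) (ha : 3 ≤ a) (f : Ω → Fin b)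
    (hf : ∀ i : Fin b, Nat.card {x : Ω // f x = i} = a) (L : Subgroup (Equiv.Perm Ω))
    (hHL : partStab f ⊓ alternatingGroup Ω ≤ L) :
    ∀ x y, f x = f y → Rel L x y := by
  intro x y hxy
  by_cases hne : x = y
  · exact Or.inl hne
  have hc := fibre_card a b f hf (f x)
  have hlt : ({x, y} : Finset Ω).card < (Finset.univ.filter (fun w => f w = f x)).card := by
    rw [hc, Finset.card_pair hne]; omega
  obtain ⟨z, hz, hz'⟩ := Finset.exists_mem_notMem_of_card_lt_card hlt
  rw [Finset.mem_filter] at hz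
  rw [Finset.mem_insert, Finset.mem_singleton, not_or] at hz'
  refine Or.inr ⟨z, hz'.1, hz'.2, hHL (Subgroup.mem_inf.mpr ⟨?_, ?_⟩)⟩
  · exact (partStab f).mul_mem (swap_mem_partStab f x y hxy)
      (swap_mem_partStab f y z (hxy.symm.trans hz.2.symm))
  · rw [Equiv.Perm.mem_alternatingGroup]
    exact cyc_sign hne (Ne.symm hz'.2)


theorem isCoatom_subgroupOf_of {G : Type*} [Group G] (H A : Subgroup G) (hHA : H ≤ A) (hne : H ≠ A)
    (hmax : ∀ L : Subgroup G, H < L → L ≤ A → L = A) : IsCoatom (H.subgroupOf A) := by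
  constructor
  · intro htop
    rw [Subgroup.subgroupOf_eq_top] at htop
    exact hne (le_antisymm hHA htop)
  · intro M hM
    have h1 : H < M.map A.subtype := by
      have : H = (H.subgroupOf A).map A.subtype := by rw [Subgroup.map_subgroupOf_eq_of_le hHA]
      rw [this]
      exact (Subgroup.map_lt_map_iff_of_injective A.subtype_injective).mpr hM
    have h2 : M.map A.subtype ≤ A := by
      rintro _ ⟨y, _, rfl⟩; exact y.2
    have h3 := hmax _ h1 h2
    rw [eq_top_iff]
    intro y _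
    have : (y : G) ∈ M.map A.subtype := by rw [h3]; exact y.2
    obtain ⟨z, hz, hzy⟩ := this
    have : z = y := Subtype.ext hzy
    rwa [← this]

theorem ne_alt [Fintype Ω] (a b : ℕ) (ha : 2 ≤ a) (hb : 2 ≤ b) (f : Ω → Fin b)
    (hf : ∀ i : Fin b, Nat.card {x : Ω // f x = i} = a) :
    partStab f ⊓ alternatingGroup Ω ≠ alternatingGroup Ω := by
  intro h
  obtain ⟨x, x', hne, hx, hx'⟩ := exists_pair_fibre a b ha f hf ⟨0, by omega⟩
  obtain ⟨y, _, _, hy, _⟩ := exists_pair_fibre a b ha f hf ⟨1, by omega⟩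
  have hxy : x ≠ y := by
    intro h; rw [h, hy] at hx
    have := congrArg Fin.val hx
    simp at this
  have hx'y : x' ≠ y := by
    intro h; rw [h, hy] at hx'
    have := congrArg Fin.val hx'
    simp at this
  have hmem : cyc x x' y ∈ partStab f ⊓ alternatingGroup Ω := by
    rw [h, Equiv.Perm.mem_alternatingGroup]
    exact cyc_sign hne hx'y
  have h1 := (hmem.1 x x').mp (hx.trans hx'.symm)
  rw [cyc_left hne hxy, cyc_mid hxy hx'y, hx', hy] at h1
  have := congrArg Fin.val h1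
  simp at this

theorem main_three_le [Fintype Ω] (a b : ℕ) (ha : 3 ≤ a) (f : Ω → Fin b)
    (hf : ∀ i : Fin b, Nat.card {x : Ω // f x = i} = a) (L : Subgroup (Equiv.Perm Ω))
    (hlt : partStab f ⊓ alternatingGroup Ω < L) (hLA : L ≤ alternatingGroup Ω) :
    L = alternatingGroup Ω := by
  have hfib := fib_rel_of_three_le a b ha f hf L hlt.le
  obtain ⟨g, hgL, hgH⟩ := Set.exists_of_ssubset hlt
  have hgK : g ∉ partStab f := fun h => hgH (Subgroup.mem_inf.mpr ⟨h, hLA hgL⟩)
  have hcross := cross_of_notMem f L hfib g hgL hgK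
  exact le_antisymm hLA (alt_le_of_full (full_of a b (by omega) f hf L hlt.le hfib hcross))

/-! ### fibres of size two -/

theorem fib2 [Fintype Ω] {b : ℕ} (f : Ω → Fin b)
    (hf : ∀ i : Fin b, Nat.card {x : Ω // f x = i} = 2) {u u' x : Ω} (huu' : u ≠ u')
    (hu' : f u' = f u) (hx : f x = f u) : x = u ∨ x = u' := by
  by_contra hcon
  push Not at hcon
  have hc := fibre_card 2 b f hf (f u)
  have hsub : ({x, u, u'} : Finset Ω) ⊆ Finset.univ.filter (fun w => f w = f u) := by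
    intro t ht
    rw [Finset.mem_insert, Finset.mem_insert, Finset.mem_singleton] at ht
    rw [Finset.mem_filter]
    rcases ht with rfl | rfl | rfl
    · exact ⟨Finset.mem_univ _, hx⟩
    · exact ⟨Finset.mem_univ _, rfl⟩
    · exact ⟨Finset.mem_univ _, hu'⟩
  have h3 : ({x, u, u'} : Finset Ω).card = 3 :=
    Finset.card_eq_three.mpr ⟨x, u, u', hcon.1, hcon.2, huu', rfl⟩
  have := Finset.card_le_card hsub
  omega

omit [DecidableEq Ω] in
theorem exists_partner [Fintype Ω] {b : ℕ} (f : Ω → Fin b)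
    (hf : ∀ i : Fin b, Nat.card {x : Ω // f x = i} = 2) (u : Ω) : ∃ u', u' ≠ u ∧ f u' = f u := by
  have hc := fibre_card 2 b f hf (f u)
  have hlt : ({u} : Finset Ω).card < (Finset.univ.filter (fun w => f w = f u)).card := by
    rw [hc, Finset.card_singleton]; omega
  obtain ⟨z, hz, hz'⟩ := Finset.exists_mem_notMem_of_card_lt_card hlt
  rw [Finset.mem_filter] at hz
  rw [Finset.mem_singleton] at hz'
  exact ⟨z, hz', hz.2⟩

theorem conj_swap_mul_swap (g : Equiv.Perm Ω) (p q r s : Ω) :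
    g * (Equiv.swap p q * Equiv.swap r s) * g⁻¹ = Equiv.swap (g p) (g q) * Equiv.swap (g r) (g s) := by
  rw [Equiv.swap_apply_apply, Equiv.swap_apply_apply]
  group

theorem swap_swap_mem [Fintype Ω] {b : ℕ} (f : Ω → Fin b) {p q r s : Ω} (hpq : p ≠ q) (hrs : r ≠ s)
    (h1 : f p = f q) (h2 : f r = f s) :
    Equiv.swap p q * Equiv.swap r s ∈ partStab f ⊓ alternatingGroup Ω := by
  refine Subgroup.mem_inf.mpr ⟨(partStab f).mul_mem (swap_mem_partStab f p q h1) (swap_mem_partStab f r s h2), ?_⟩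
  rw [Equiv.Perm.mem_alternatingGroup, map_mul, Equiv.Perm.sign_swap hpq, Equiv.Perm.sign_swap hrs]
  rfl

theorem blockMatch_mem [Fintype Ω] {b : ℕ} (f : Ω → Fin b)
    (hf : ∀ i : Fin b, Nat.card {x : Ω // f x = i} = 2) {u u' v v' : Ω} (huu' : u' ≠ u) (hu' : f u' = f u)
    (hvv' : v' ≠ v) (hv' : f v' = f v) (hAB : f u ≠ f v) :
    Equiv.swap u v * Equiv.swap u' v' ∈ partStab f ⊓ alternatingGroup Ω := by
  have huv : u ≠ v := fun h => hAB (by rw [h])
  have hu'v' : u' ≠ v' := fun h => hAB (by rw [← hu', h, hv'])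
  have hu'v : u' ≠ v := fun h => hAB (by rw [← hu', h])
  have huv' : u ≠ v' := fun h => hAB (by rw [h, hv'])
  refine Subgroup.mem_inf.mpr ⟨?_, ?_⟩
  · have key : ∀ t, f ((Equiv.swap u v * Equiv.swap u' v') t) = Equiv.swap (f u) (f v) (f t) := by
      intro t
      rw [Equiv.Perm.mul_apply]
      by_cases h1 : t = u'
      · subst h1
        rw [Equiv.swap_apply_left, Equiv.swap_apply_of_ne_of_ne huv'.symm hvv', hv', hu',
          Equiv.swap_apply_left]
      by_cases h2 : t = v'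
      · subst h2
        rw [Equiv.swap_apply_right, Equiv.swap_apply_of_ne_of_ne huu' hu'v, hv', hu',
          Equiv.swap_apply_right]
      rw [Equiv.swap_apply_of_ne_of_ne h1 h2]
      by_cases h3 : t = u
      · subst h3; rw [Equiv.swap_apply_left, Equiv.swap_apply_left]
      by_cases h4 : t = v
      · subst h4; rw [Equiv.swap_apply_right, Equiv.swap_apply_right]
      rw [Equiv.swap_apply_of_ne_of_ne h3 h4]
      have h5 : f t ≠ f u := by
        intro h
        rcases fib2 f hf (Ne.symm huu') hu' h with h | h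
        · exact h3 h
        · exact h1 h
      have h6 : f t ≠ f v := by
        intro h
        rcases fib2 f hf (Ne.symm hvv') hv' h with h | h
        · exact h4 h
        · exact h2 h
      rw [Equiv.swap_apply_of_ne_of_ne h5 h6]
    intro s t
    show f s = f t ↔ f ((Equiv.swap u v * Equiv.swap u' v') s) = f ((Equiv.swap u v * Equiv.swap u' v') t)
    rw [key s, key t, (Equiv.swap (f u) (f v)).apply_eq_iff_eq]
  · rw [Equiv.Perm.mem_alternatingGroup, map_mul, Equiv.Perm.sign_swap huv, Equiv.Perm.sign_swap hu'v']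
    rfl


omit [DecidableEq Ω] in
theorem exists_split {b : ℕ} (f : Ω → Fin b) (L : Subgroup (Equiv.Perm Ω))
    (g : Equiv.Perm Ω) (hgL : g ∈ L) (hgK : g ∉ partStab f) :
    ∃ g ∈ L, ∃ x x', f x = f x' ∧ f (g x) ≠ f (g x') := by
  have hgK' : ¬ ∀ x y : Ω, f x = f y ↔ f (g x) = f (g y) := hgK
  push Not at hgK'
  obtain ⟨u, v, huv⟩ := hgK'
  by_cases h1 : f u = f v
  · have h2 : f (g u) ≠ f (g v) := by
      intro h2; exact huv.elim (fun h => h.2 h2) (fun h => h.1 h1)
    exact ⟨g, hgL, u, v, h1, h2⟩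
  · have h2 : f (g u) = f (g v) := by
      by_contra h2; exact huv.elim (fun h => h1 h.1) (fun h => h2 h.2)
    refine ⟨g⁻¹, L.inv_mem hgL, g u, g v, h2, ?_⟩
    rw [← Equiv.Perm.mul_apply, ← Equiv.Perm.mul_apply, inv_mul_cancel, Equiv.Perm.one_apply,
      Equiv.Perm.one_apply]
    exact h1

theorem exists_three_cycle [Fintype Ω] (b : ℕ) (hb3 : 3 ≤ b) (hb4 : b ≠ 4) (f : Ω → Fin b)
    (hf : ∀ i : Fin b, Nat.card {x : Ω // f x = i} = 2) (L : Subgroup (Equiv.Perm Ω))
    (hHL : partStab f ⊓ alternatingGroup Ω ≤ L)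
    (g : Equiv.Perm Ω) (hgL : g ∈ L) (hgK : g ∉ partStab f) :
    ∃ p q r, p ≠ q ∧ p ≠ r ∧ q ≠ r ∧ cyc p q r ∈ L := by
  obtain ⟨g, hgL, x, x', hxx', hgx⟩ := exists_split f L g hgL hgK
  clear hgK
  have hne : x ≠ x' := fun h => hgx (by rw [h])
  set u := g x with hu
  set v := g x' with hv
  have huv : u ≠ v := fun h => hgx (by rw [h])
  obtain ⟨u', huu', hfu'⟩ := exists_partner f hf u
  obtain ⟨v', hvv', hfv'⟩ := exists_partner f hf v
  have hu'v : u' ≠ v := fun h => hgx (by rw [← hfu', h])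
  have hv'u : v' ≠ u := fun h => hgx (by rw [← hfv', h])
  have hu'v' : u' ≠ v' := fun h => hgx (by rw [← hfu', h, hfv'])
  -- the preimage of u'
  set y := g⁻¹ u' with hy
  have hgy : g y = u' := by
    rw [hy, ← Equiv.Perm.mul_apply, mul_inv_cancel, Equiv.Perm.one_apply]
  have hyx : y ≠ x := fun h => huu' (by rw [← hgy, h])
  have hyx' : y ≠ x' := fun h => hu'v (by rw [← hgy, h])
  have hfyx : f y ≠ f x := by
    intro h
    rcases fib2 f hf hne hxx'.symm h with h | h
    · exact hyx h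
    · exact hyx' h
  obtain ⟨y', hyy', hfy'⟩ := exists_partner f hf y
  set w := g y' with hw
  have hy'x : y' ≠ x := fun h => hfyx (by rw [← hfy', h])
  have hy'x' : y' ≠ x' := fun h => hfyx (by rw [← hfy', h, hxx'])
  have hwu' : w ≠ u' := fun h => hyy' (g.injective (by rw [hgy]; exact h))
  have hwu : w ≠ u := fun h => hy'x (g.injective h)
  have hwv : w ≠ v := fun h => hy'x' (g.injective h)
  -- s0
  have hs0 : Equiv.swap u' w * Equiv.swap u v ∈ L := by
    have h1 : Equiv.swap y y' * Equiv.swap x x' ∈ L :=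
      hHL (swap_swap_mem f (Ne.symm hyy') hne hfy'.symm hxx')
    have h2 := L.mul_mem (L.mul_mem hgL h1) (L.inv_mem hgL)
    rw [conj_swap_mul_swap, hgy] at h2
    exact h2
  by_cases hwv' : w = v'
  swap
  · -- case (b)
    have hβ : Equiv.swap u v * Equiv.swap u' v' ∈ L := hHL (blockMatch_mem f hf huu' hfu' hvv' hfv' hgx)
    have h3 := L.mul_mem hs0 hβ
    have h4 : Equiv.swap u' w * Equiv.swap u v * (Equiv.swap u v * Equiv.swap u' v') = cyc w u' v' := by
      unfold cyc
      rw [mul_assoc, ← mul_assoc (Equiv.swap u v), Equiv.swap_mul_self, one_mul, Equiv.swap_comm u' w]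
    rw [h4] at h3
    exact ⟨w, u', v', hwu', hwv', hu'v', h3⟩
  · -- case (a)
    have hk : ∃ k : Fin b, k ≠ f x ∧ k ≠ f y := by
      have hlt : ({f x, f y} : Finset (Fin b)).card < (Finset.univ : Finset (Fin b)).card := by
        rw [Finset.card_univ, Fintype.card_fin]
        exact lt_of_le_of_lt (Finset.card_le_two) (by omega)
      obtain ⟨k, _, hk⟩ := Finset.exists_mem_notMem_of_card_lt_card hlt
      rw [Finset.mem_insert, Finset.mem_singleton, not_or] at hk
      exact ⟨k, hk.1, hk.2⟩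
    obtain ⟨k, hkx, hky⟩ := hk
    obtain ⟨y2, y2', hne2, hy2, hy2'⟩ := exists_pair_fibre 2 b le_rfl f hf k
    set w2 := g y2 with hw2
    set z2 := g y2' with hz2
    have hwz2 : w2 ≠ z2 := fun h => hne2 (g.injective h)
    -- y2, y2' are not among x x' y y'
    have hA : ∀ t, f t = k → f (g t) ≠ f u ∧ f (g t) ≠ f v := by
      intro t ht
      have ht1 : t ≠ x := fun h => hkx (by rw [← ht, h])
      have ht2 : t ≠ x' := fun h => hkx (by rw [← ht, h, hxx'])
      have ht3 : t ≠ y := fun h => hky (by rw [← ht, h])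
      have ht4 : t ≠ y' := fun h => hky (by rw [← ht, h, hfy'])
      constructor
      · intro h
        rcases fib2 f hf (Ne.symm huu') hfu' h with h | h
        · exact ht1 (g.injective h)
        · exact ht3 (g.injective (by rw [hgy]; exact h))
      · intro h
        rcases fib2 f hf (Ne.symm hvv') hfv' h with h | h
        · exact ht2 (g.injective h)
        · exact ht4 (g.injective (by rw [← hw, hwv']; exact h))
    have hw2A := hA y2 hy2
    have hz2A := hA y2' hy2'
    have hs2 : Equiv.swap u v * Equiv.swap w2 z2 ∈ L := by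
      have h1 : Equiv.swap x x' * Equiv.swap y2 y2' ∈ L :=
        hHL (swap_swap_mem f hne hne2 hxx' (hy2.trans hy2'.symm))
      have h2 := L.mul_mem (L.mul_mem hgL h1) (L.inv_mem hgL)
      rw [conj_swap_mul_swap] at h2
      exact h2
    by_cases hfib : f w2 = f z2
    · have hm : Equiv.swap w2 z2 * Equiv.swap u u' ∈ L :=
        hHL (swap_swap_mem f hwz2 (Ne.symm huu') hfib hfu'.symm)
      have h3 := L.mul_mem hs2 hm
      have h4 : Equiv.swap u v * Equiv.swap w2 z2 * (Equiv.swap w2 z2 * Equiv.swap u u') = cyc v u u' := by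
        unfold cyc
        rw [mul_assoc, ← mul_assoc (Equiv.swap w2 z2), Equiv.swap_mul_self, one_mul, Equiv.swap_comm u v]
      rw [h4] at h3
      exact ⟨v, u, u', Ne.symm huv, Ne.symm hu'v, Ne.symm huu', h3⟩
    · -- need a fifth fibre
      have hC : ∃ C : Fin b, C ≠ f u ∧ C ≠ f v ∧ C ≠ f w2 ∧ C ≠ f z2 := by
        have h4 : ({f u, f v, f w2, f z2} : Finset (Fin b)).card = 4 := by
          rw [Finset.card_insert_of_notMem, Finset.card_insert_of_notMem, Finset.card_pair hfib]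
          · simp only [Finset.mem_insert, Finset.mem_singleton, not_or]
            exact ⟨Ne.symm hw2A.2, Ne.symm hz2A.2⟩
          · simp only [Finset.mem_insert, Finset.mem_singleton, not_or]
            exact ⟨hgx, Ne.symm hw2A.1, Ne.symm hz2A.1⟩
        have hle : ({f u, f v, f w2, f z2} : Finset (Fin b)).card ≤ (Finset.univ : Finset (Fin b)).card :=
          Finset.card_le_card (Finset.subset_univ _)
        rw [h4, Finset.card_univ, Fintype.card_fin] at hle
        have hlt : ({f u, f v, f w2, f z2} : Finset (Fin b)).card < (Finset.univ : Finset (Fin b)).card := by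
          rw [h4, Finset.card_univ, Fintype.card_fin]; omega
        obtain ⟨C, _, hC⟩ := Finset.exists_mem_notMem_of_card_lt_card hlt
        simp only [Finset.mem_insert, Finset.mem_singleton, not_or] at hC
        exact ⟨C, hC.1, hC.2.1, hC.2.2.1, hC.2.2.2⟩
      obtain ⟨C, hC1, hC2, hC3, hC4⟩ := hC
      obtain ⟨c, c', hcc', hc, hc'⟩ := exists_pair_fibre 2 b le_rfl f hf C
      have hm : Equiv.swap u u' * Equiv.swap c c' ∈ L :=
        hHL (swap_swap_mem f (Ne.symm huu') hcc' hfu'.symm (hc.trans hc'.symm))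
      set s2 := Equiv.swap u v * Equiv.swap w2 z2 with hs2def
      have hs2u : s2 u = v := by
        have e1 : u ≠ w2 := fun h => hw2A.1 (by rw [← hw2, ← h])
        have e2 : u ≠ z2 := fun h => hz2A.1 (by rw [← hz2, ← h])
        rw [hs2def, Equiv.Perm.mul_apply, Equiv.swap_apply_of_ne_of_ne e1 e2, Equiv.swap_apply_left]
      have hs2u' : s2 u' = u' := by
        have e1 : u' ≠ w2 := fun h => hw2A.1 (by rw [← hw2, ← h, hfu'])
        have e2 : u' ≠ z2 := fun h => hz2A.1 (by rw [← hz2, ← h, hfu'])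
        rw [hs2def, Equiv.Perm.mul_apply, Equiv.swap_apply_of_ne_of_ne e1 e2,
          Equiv.swap_apply_of_ne_of_ne huu' hu'v]
      have hfix : ∀ t, f t = C → s2 t = t := by
        intro t ht
        have e1 : t ≠ u := fun h => hC1 (by rw [← ht, h])
        have e2 : t ≠ v := fun h => hC2 (by rw [← ht, h])
        have e3 : t ≠ w2 := fun h => hC3 (by rw [← ht, h])
        have e4 : t ≠ z2 := fun h => hC4 (by rw [← ht, h])
        rw [hs2def, Equiv.Perm.mul_apply, Equiv.swap_apply_of_ne_of_ne e3 e4,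
          Equiv.swap_apply_of_ne_of_ne e1 e2]
      have h3 : s2 * (Equiv.swap u u' * Equiv.swap c c') * s2⁻¹ * (Equiv.swap u u' * Equiv.swap c c')⁻¹ ∈ L :=
        L.mul_mem (L.mul_mem (L.mul_mem hs2 hm) (L.inv_mem hs2)) (L.inv_mem hm)
      have h4 : s2 * (Equiv.swap u u' * Equiv.swap c c') * s2⁻¹ * (Equiv.swap u u' * Equiv.swap c c')⁻¹
          = cyc v u' u := by
        rw [conj_swap_mul_swap, hs2u, hs2u', hfix c hc, hfix c' hc']
        unfold cyc
        rw [mul_inv_rev, Equiv.swap_inv, Equiv.swap_inv, mul_assoc, ← mul_assoc (Equiv.swap c c'),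
          Equiv.swap_mul_self, one_mul, Equiv.swap_comm u u']
      rw [h4] at h3
      exact ⟨v, u', u, Ne.symm hu'v, Ne.symm huv, huu', h3⟩


theorem rel_of_cyc {L : Subgroup (Equiv.Perm Ω)} {p q r : Ω} (hpq : p ≠ q) (hpr : p ≠ r) (hqr : q ≠ r)
    (hc : cyc p q r ∈ L) : Rel L p q ∧ Rel L q r ∧ Rel L p r := by
  have h1 : Rel L p q := Or.inr ⟨r, Ne.symm hpr, Ne.symm hqr, hc⟩
  have h2 : Rel L q r := Or.inr ⟨p, hpq, hpr, by rw [← cyc_rot hpq hpr hqr]; exact hc⟩
  exact ⟨h1, h2, h1.trans h2⟩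

theorem fib_pair_of_cyc [Fintype Ω] {b : ℕ} (f : Ω → Fin b)
    (hf : ∀ i : Fin b, Nat.card {x : Ω // f x = i} = 2) (L : Subgroup (Equiv.Perm Ω))
    (hHL : partStab f ⊓ alternatingGroup Ω ≤ L) {p q r : Ω} (hpq : p ≠ q) (hpr : p ≠ r) (hqr : q ≠ r)
    (hc : cyc p q r ∈ L) :
    (∃ x0 x0', x0 ≠ x0' ∧ f x0 = f x0' ∧ Rel L x0 x0') ∧ (∃ x y, f x ≠ f y ∧ Rel L x y) := by
  obtain ⟨h1, h2, h3⟩ := rel_of_cyc hpq hpr hqr hc
  constructor
  · by_cases e1 : f p = f q
    · exact ⟨p, q, hpq, e1, h1⟩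
    by_cases e2 : f q = f r
    · exact ⟨q, r, hqr, e2, h2⟩
    by_cases e3 : f p = f r
    · exact ⟨p, r, hpr, e3, h3⟩
    obtain ⟨p', hpp', hfp'⟩ := exists_partner f hf p
    obtain ⟨q', hqq', hfq'⟩ := exists_partner f hf q
    have he : Equiv.swap p p' * Equiv.swap q q' ∈ L :=
      hHL (swap_swap_mem f (Ne.symm hpp') (Ne.symm hqq') hfp'.symm hfq'.symm)
    have hpq' : p ≠ q' := fun h => e1 (by rw [h, hfq'])
    have hp'q : p' ≠ q := fun h => e1 (by rw [← hfp', h])
    have hp'q' : p' ≠ q' := fun h => e1 (by rw [← hfp', h, hfq'])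
    have hrp' : r ≠ p' := fun h => e3 (by rw [h, hfp'])
    have hrq' : r ≠ q' := fun h => e2 (by rw [h, hfq'])
    have hep : (Equiv.swap p p' * Equiv.swap q q') p = p' := by
      rw [Equiv.Perm.mul_apply, Equiv.swap_apply_of_ne_of_ne hpq hpq', Equiv.swap_apply_left]
    have heq : (Equiv.swap p p' * Equiv.swap q q') q = q' := by
      rw [Equiv.Perm.mul_apply, Equiv.swap_apply_left, Equiv.swap_apply_of_ne_of_ne (Ne.symm hpq') (Ne.symm hp'q')]
    have her : (Equiv.swap p p' * Equiv.swap q q') r = r := by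
      rw [Equiv.Perm.mul_apply, Equiv.swap_apply_of_ne_of_ne (Ne.symm hqr) hrq',
        Equiv.swap_apply_of_ne_of_ne (Ne.symm hpr) hrp']
    have h4 := L.mul_mem (L.mul_mem he hc) (L.inv_mem he)
    rw [cyc_conj, hep, heq, her] at h4
    obtain ⟨_, h5, h6⟩ := rel_of_cyc hp'q' (Ne.symm hrp') (Ne.symm hrq') h4
    exact ⟨p, p', Ne.symm hpp', hfp'.symm, h3.trans h6.symm⟩
  · by_cases e1 : f p = f q
    · by_cases e2 : f q = f r
      · exfalso
        rcases fib2 f hf hpq e1.symm (e2.symm.trans e1.symm) with h | h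
        · exact hpr h.symm
        · exact hqr h.symm
      · exact ⟨q, r, e2, h2⟩
    · exact ⟨p, q, e1, h1⟩

theorem fib_rel_of_two [Fintype Ω] {b : ℕ} (f : Ω → Fin b)
    (hf : ∀ i : Fin b, Nat.card {x : Ω // f x = i} = 2) (L : Subgroup (Equiv.Perm Ω))
    (hHL : partStab f ⊓ alternatingGroup Ω ≤ L) {x0 x0' : Ω} (hne : x0 ≠ x0') (hfx : f x0 = f x0')
    (hR : Rel L x0 x0') : ∀ x y, f x = f y → Rel L x y := by
  -- any two points in a fibre containing a related pair p ≠ p' are related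
  have key : ∀ p p', p ≠ p' → f p = f p' → Rel L p p' → ∀ x y, f x = f p → f y = f p → Rel L x y := by
    intro p p' hpp' hfp hRp x y hx hy
    rcases fib2 f hf hpp' hfp.symm hx with rfl | rfl <;> rcases fib2 f hf hpp' hfp.symm hy with rfl | rfl
    · exact Or.inl rfl
    · exact hRp
    · exact hRp.symm
    · exact Or.inl rfl
  intro x y hxy
  by_cases hk : f x = f x0
  · exact key x0 x0' hne hfx hR x y hk (hxy.symm.trans hk)
  · obtain ⟨h, hhH, _, hhf⟩ := exists_evenBlockSwap 2 b le_rfl f hf (f x0) (f x)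
    have hhL : h ∈ L := hHL hhH
    have e1 : f (h x0) = f x := by rw [hhf, Equiv.swap_apply_left]
    have e2 : f (h x0') = f x := by rw [hhf, ← hfx, Equiv.swap_apply_left]
    have hne' : h x0 ≠ h x0' := fun e => hne (h.injective e)
    exact key (h x0) (h x0') hne' (e1.trans e2.symm) (hR.smul hhL) x y e1.symm (hxy.symm.trans e1.symm)

theorem main_two [Fintype Ω] (b : ℕ) (hb3 : 3 ≤ b) (hb4 : b ≠ 4) (f : Ω → Fin b)
    (hf : ∀ i : Fin b, Nat.card {x : Ω // f x = i} = 2) (L : Subgroup (Equiv.Perm Ω))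
    (hlt : partStab f ⊓ alternatingGroup Ω < L) (hLA : L ≤ alternatingGroup Ω) :
    L = alternatingGroup Ω := by
  obtain ⟨g, hgL, hgH⟩ := Set.exists_of_ssubset hlt
  have hgK : g ∉ partStab f := fun h => hgH (Subgroup.mem_inf.mpr ⟨h, hLA hgL⟩)
  obtain ⟨p, q, r, hpq, hpr, hqr, hc⟩ := exists_three_cycle b hb3 hb4 f hf L hlt.le g hgL hgK
  obtain ⟨⟨x0, x0', hne, hfx, hR⟩, hcross⟩ := fib_pair_of_cyc f hf L hlt.le hpq hpr hqr hc
  have hfib := fib_rel_of_two f hf L hlt.le hne hfx hR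
  exact le_antisymm hLA (alt_le_of_full (full_of 2 b le_rfl f hf L hlt.le hfib hcross))


omit [DecidableEq Ω] in
theorem card_eq_mul [Fintype Ω] (a b : ℕ) (f : Ω → Fin b)
    (hf : ∀ i : Fin b, Nat.card {x : Ω // f x = i} = a) : Nat.card Ω = b * a := by
  rw [Nat.card_congr (coordEquiv a b f hf), Nat.card_prod, Nat.card_fin, Nat.card_fin]

theorem exists_mem_map_fib [Fintype Ω] (a b : ℕ) (ha : 2 ≤ a) (hb : 2 ≤ b) (f : Ω → Fin b)
    (hf : ∀ i : Fin b, Nat.card {x : Ω // f x = i} = a) (x y : Ω) (hxy : f x = f y) :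
    ∃ h ∈ partStab f ⊓ alternatingGroup Ω, h x = y := by
  by_cases hne : x = y
  · exact ⟨1, Subgroup.one_mem _, by rw [hne]; rfl⟩
  have hk : ∃ k : Fin b, k ≠ f x := by
    by_cases h0 : f x = ⟨0, by omega⟩
    · refine ⟨⟨1, by omega⟩, ?_⟩
      rw [h0]; intro h
      have := congrArg Fin.val h
      simp at this
    · exact ⟨⟨0, by omega⟩, Ne.symm h0⟩
  obtain ⟨k, hk⟩ := hk
  obtain ⟨z, z', hzz', hz, hz'⟩ := exists_pair_fibre a b ha f hf k
  refine ⟨Equiv.swap x y * Equiv.swap z z', swap_swap_mem f hne hzz' hxy (hz.trans hz'.symm), ?_⟩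
  have e1 : x ≠ z := fun h => hk (by rw [← hz, h])
  have e2 : x ≠ z' := fun h => hk (by rw [← hz', h])
  rw [Equiv.Perm.mul_apply, Equiv.swap_apply_of_ne_of_ne e1 e2, Equiv.swap_apply_left]

theorem exists_mem_map [Fintype Ω] (a b : ℕ) (ha : 2 ≤ a) (hb : 2 ≤ b) (f : Ω → Fin b)
    (hf : ∀ i : Fin b, Nat.card {x : Ω // f x = i} = a) (x y : Ω) :
    ∃ h ∈ partStab f ⊓ alternatingGroup Ω, h x = y := by
  by_cases hxy : f x = f y
  · exact exists_mem_map_fib a b ha hb f hf x y hxy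
  · obtain ⟨s, hsH, _, hsf⟩ := exists_evenBlockSwap a b ha f hf (f x) (f y)
    have e1 : f (s x) = f y := by rw [hsf, Equiv.swap_apply_left]
    obtain ⟨h', hh', hh'x⟩ := exists_mem_map_fib a b ha hb f hf (s x) y e1
    exact ⟨h' * s, Subgroup.mul_mem _ hh' hsH, by rw [Equiv.Perm.mul_apply, hh'x]⟩

theorem four_dvd_card [Fintype Ω] (f : Ω → Fin 2)
    (hf : ∀ i : Fin 2, Nat.card {x : Ω // f x = i} = 2) :
    4 ∣ Nat.card (partStab f ⊓ alternatingGroup Ω : Subgroup (Equiv.Perm Ω)) := by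
  have hcard : Nat.card Ω = 4 := by rw [card_eq_mul 2 2 f hf]
  obtain ⟨x, _, _, _, _⟩ := exists_pair_fibre 2 2 le_rfl f hf 0
  have : MulAction.IsPretransitive (partStab f ⊓ alternatingGroup Ω : Subgroup (Equiv.Perm Ω)) Ω := by
    constructor
    intro u v
    obtain ⟨h, hh, huv⟩ := exists_mem_map 2 2 le_rfl le_rfl f hf u v
    exact ⟨⟨h, hh⟩, huv⟩
  have h1 := MulAction.index_stabilizer_of_transitive
    (partStab f ⊓ alternatingGroup Ω : Subgroup (Equiv.Perm Ω)) x
  rw [hcard] at h1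
  rw [← h1]
  exact Subgroup.index_dvd_card _

theorem main_two_two [Fintype Ω] (f : Ω → Fin 2)
    (hf : ∀ i : Fin 2, Nat.card {x : Ω // f x = i} = 2) (L : Subgroup (Equiv.Perm Ω))
    (hlt : partStab f ⊓ alternatingGroup Ω < L) (hLA : L ≤ alternatingGroup Ω) :
    L = alternatingGroup Ω := by
  have hcard : Nat.card Ω = 4 := by rw [card_eq_mul 2 2 f hf]
  have : Nontrivial Ω := by
    rw [← Finite.one_lt_card_iff_nontrivial, hcard]; omega
  have hA : Nat.card (alternatingGroup Ω) = 12 := by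
    rw [nat_card_alternatingGroup, hcard]; rfl
  have h4 := four_dvd_card f hf
  have hHL : Nat.card (partStab f ⊓ alternatingGroup Ω : Subgroup (Equiv.Perm Ω)) ∣ Nat.card L :=
    Subgroup.card_dvd_of_le hlt.le
  have hL12 : Nat.card L ∣ 12 := by rw [← hA]; exact Subgroup.card_dvd_of_le hLA
  have hlt' : Nat.card (partStab f ⊓ alternatingGroup Ω : Subgroup (Equiv.Perm Ω)) < Nat.card L := by
    by_contra hcon
    push Not at hcon
    exact hlt.ne (Subgroup.eq_of_le_of_card_ge hlt.le hcon)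
  have hpos : 0 < Nat.card (partStab f ⊓ alternatingGroup Ω : Subgroup (Equiv.Perm Ω)) := Nat.card_pos
  have h4L : 4 ∣ Nat.card L := dvd_trans h4 hHL
  have hLle : Nat.card L ≤ 12 := Nat.le_of_dvd (by norm_num) hL12
  have hL : Nat.card L = 12 := by
    generalize Nat.card L = l at *
    generalize Nat.card (partStab f ⊓ alternatingGroup Ω : Subgroup (Equiv.Perm Ω)) = h at *
    interval_cases l <;> omega
  refine Subgroup.eq_of_le_of_card_ge hLA ?_
  rw [hA, hL]


/-- Let Ω be a finite set whose size is not 8, and f : Ω → Fin b a labelling with b ≥ 2 whose fibres all have the same size a ≥ 2 (a partition into b blocks of size a). Then the even permutations preserving the partition — the intersection of the imprimitive wreath product S_a ≀ S_b with the alternating group — form a maximal subgroup of the alternating group on Ω. -/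
theorem result {Ω : Type*} [Fintype Ω] [DecidableEq Ω] (h8 : Fintype.card Ω ≠ 8) (a b : ℕ) (ha : 2 ≤ a) (hb : 2 ≤ b)
    (f : Ω → Fin b) (hf : ∀ i : Fin b, Nat.card {x : Ω // f x = i} = a) :
    IsCoatom ((Subgroup.closure {g : Equiv.Perm Ω | ∀ x y : Ω, f x = f y ↔ f (g x) = f (g y)} ⊓ alternatingGroup Ω).subgroupOf (alternatingGroup Ω)) := by
  rw [closure_eq_partStab]
  apply isCoatom_subgroupOf_of _ _ inf_le_right (ne_alt a b ha hb f hf)
  intro L hlt hLA
  by_cases ha3 : 3 ≤ a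
  · exact main_three_le a b ha3 f hf L hlt hLA
  · have ha2 : a = 2 := by omega
    subst ha2
    have hcard : Fintype.card Ω = b * 2 := by
      rw [← Nat.card_eq_fintype_card, card_eq_mul 2 b f hf]
    by_cases hb2 : b = 2
    · subst hb2; exact main_two_two f hf L hlt hLA
    · exact main_two b (by omega) (by omega) f hf L hlt hLA

end Cfsg.Agent.S5909
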