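-- Statement S5910.
import Cfsg.Statements.S5910
import Cfsg.Agent.S5905
-- import your own Cfsg.Agent.* helpers here

set_option autoImplicit false
open Cfsg

namespace Cfsg.Agent.S5910


def x4 (i j : Fin 4) : Fin 4 := ⟨(i.val ^^^ j.val) % 4, Nat.mod_lt _ (by norm_num)⟩

set_option maxRecDepth 100000 in
theorem fact1 : ∀ π : Equiv.Perm (Fin 4), ∀ i j k : Fin 4,
    π (x4 (x4 i j) k) = x4 (x4 (π i) (π j)) (π k) := by decide

theorem fact2 : ∀ e0 e1 e2 e3 : Fin 2, e0 + e1 + e2 + e3 = 0 →
    ∀ i j k : Fin 4, ![e0, e1, e2, e3] (x4 (x4 i j) k) = ![e0, e1, e2, e3] i + ![e0, e1, e2, e3] j + ![e0, e1, e2, e3] k := by decide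


abbrev T := Fin 4 × Fin 2

def m' (x y z : T) : T := (x4 (x4 x.1 y.1) z.1, x.2 + y.2 + z.2)

theorem fin2_ne : ∀ a b : Fin 2, b ≠ a → b = 1 + a := by decide

theorem sign_prod_fact : ∀ e0 e1 e2 e3 : Fin 2,
    Equiv.Perm.sign (Equiv.addRight e0) * Equiv.Perm.sign (Equiv.addRight e1) *
      Equiv.Perm.sign (Equiv.addRight e2) * Equiv.Perm.sign (Equiv.addRight e3) = 1 →
    e0 + e1 + e2 + e3 = 0 := by decide

theorem lemmaA (g : Equiv.Perm T) (hg : ∀ x y : T, x.1 = y.1 ↔ (g x).1 = (g y).1)
    (hs : Equiv.Perm.sign g = 1) : ∀ x y z, g (m' x y z) = m' (g x) (g y) (g z) := by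
  have hinj : Function.Injective (fun i : Fin 4 => (g (i, 0)).1) := by
    intro i j hij
    exact (hg (i, 0) (j, 0)).2 hij
  let π : Equiv.Perm (Fin 4) := Equiv.ofBijective _ (Finite.injective_iff_bijective.1 hinj)
  have key1 : ∀ i β, (g (i, β)).1 = π i := fun i β => (hg (i, β) (i, 0)).1 rfl
  let ε : Fin 4 → Fin 2 := fun i => (g (i, 0)).2
  have key2 : ∀ i β, (g (i, β)).2 = β + ε i := by
    intro i β
    have h1 : (g (i, 1)).2 ≠ (g (i, 0)).2 := by
      intro h
      have : g (i, 1) = g (i, 0) := Prod.ext (by rw [key1, key1]) h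
      have := g.injective this
      simp at this
    have h2 := fin2_ne _ _ h1
    fin_cases β
    · simp [ε]
    · simpa [ε] using h2
  have hdecomp : g = Equiv.prodCongrLeft (fun _ : Fin 2 => π) *
      Equiv.prodCongrRight (fun i : Fin 4 => Equiv.addRight (ε i)) := by
    ext ⟨i, β⟩ : 1
    apply Prod.ext
    · rw [key1]; rfl
    · rw [key2]; rfl
  have hsum : ε 0 + ε 1 + ε 2 + ε 3 = 0 := by
    apply sign_prod_fact
    rw [hdecomp, map_mul, Equiv.Perm.sign_prodCongrLeft, Equiv.Perm.sign_prodCongrRight,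
      Fin.prod_univ_two, Int.units_mul_self, one_mul, Fin.prod_univ_four] at hs
    exact hs
  have hε : ε = ![ε 0, ε 1, ε 2, ε 3] := by
    funext i
    fin_cases i <;> rfl
  intro x y z
  obtain ⟨i, β⟩ := x
  obtain ⟨j, γ⟩ := y
  obtain ⟨k, δ⟩ := z
  apply Prod.ext
  · simp only [m']
    rw [key1, key1, key1, key1]
    exact fact1 π i j k
  · simp only [m']
    rw [key2, key2, key2, key2]
    have := fact2 (ε 0) (ε 1) (ε 2) (ε 3) hsum i j k
    rw [← hε] at this
    rw [this]
    abel


def h' : Equiv.Perm T := Equiv.swap ((1 : Fin 4), (0 : Fin 2)) (0, 1) * Equiv.swap (3, 0) (2, 1)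

def k' : Equiv.Perm T := Equiv.swap ((1 : Fin 4), (1 : Fin 2)) (2, 0) * Equiv.swap (2, 0) (3, 0)

theorem h'_pres : ∀ x y z : T, h' (m' x y z) = m' (h' x) (h' y) (h' z) := by decide

theorem h'_sign : Equiv.Perm.sign h' = 1 := by
  unfold h'
  rw [map_mul, Equiv.Perm.sign_swap (by decide), Equiv.Perm.sign_swap (by decide)]
  rfl

theorem h'_not : ¬ ∀ x y : T, x.1 = y.1 ↔ (h' x).1 = (h' y).1 := by decide

theorem k'_sign : Equiv.Perm.sign k' = 1 := by
  unfold k'
  rw [map_mul, Equiv.Perm.sign_swap (by decide), Equiv.Perm.sign_swap (by decide)]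
  rfl

theorem k'_not : ¬ ∀ x y z : T, k' (m' x y z) = m' (k' x) (k' y) (k' z) := by decide



open Cfsg.Agent.S5905 in
theorem main {Ω : Type*} [Fintype Ω] [DecidableEq Ω]
    (f : Ω → Fin 4) (hf : ∀ i : Fin 4, Nat.card {x : Ω // f x = i} = 2) :
    ¬ IsCoatom ((partStab f ⊓ alternatingGroup Ω).subgroupOf (alternatingGroup Ω)) := by
  let c : Ω ≃ T := coordEquiv 2 4 f hf
  have hc1 : ∀ x, (c x).1 = f x := fun x => coordEquiv_fst 2 4 f hf x
  let m : Ω → Ω → Ω → Ω := fun x y z => c.symm (m' (c x) (c y) (c z))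
  let X : Subgroup (Equiv.Perm Ω) :=
    { carrier := {g | ∀ x y z, g (m x y z) = m (g x) (g y) (g z)}
      one_mem' := fun x y z => rfl
      mul_mem' := by
        intro a b ha hb x y z
        simp only [Equiv.Perm.coe_mul, Function.comp_apply]
        rw [hb, ha]
      inv_mem' := by
        intro a ha x y z
        have := ha (a⁻¹ x) (a⁻¹ y) (a⁻¹ z)
        have e1 : ∀ u, a (a⁻¹ u) = u := fun u => by simp
        have e2 : ∀ u, a⁻¹ (a u) = u := fun u => by simp
        rw [e1, e1, e1] at this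
        rw [← this, e2] }
  have hXmem : ∀ g : Equiv.Perm Ω, g ∈ X ↔ ∀ x y z, g (m x y z) = m (g x) (g y) (g z) :=
    fun g => Iff.rfl
  have hX_iff : ∀ g : Equiv.Perm Ω, g ∈ X ↔
      ∀ x y z : T, ((c.symm.trans g).trans c) (m' x y z) =
        m' (((c.symm.trans g).trans c) x) (((c.symm.trans g).trans c) y)
          (((c.symm.trans g).trans c) z) := by
    intro g
    rw [hXmem]
    constructor
    · intro h x y z
      have := h (c.symm x) (c.symm y) (c.symm z)
      simp only [m, Equiv.apply_symm_apply] at this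
      simp only [Equiv.trans_apply]
      rw [this, Equiv.apply_symm_apply]
    · intro h x y z
      have := h (c x) (c y) (c z)
      simp only [Equiv.trans_apply, Equiv.symm_apply_apply] at this
      simp only [m]
      rw [← this]
      simp
  have hW_iff : ∀ g : Equiv.Perm Ω, g ∈ partStab f ↔
      ∀ x y : T, x.1 = y.1 ↔ (((c.symm.trans g).trans c) x).1 = (((c.symm.trans g).trans c) y).1 := by
    intro g
    constructor
    · intro h x y
      have := h (c.symm x) (c.symm y)
      rw [← hc1, ← hc1, ← hc1, ← hc1] at this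
      simpa using this
    · intro h x y
      have := h (c x) (c y)
      rw [hc1, hc1] at this
      simp only [Equiv.trans_apply, Equiv.symm_apply_apply, hc1] at this
      exact this
  -- (i)
  have hi : partStab f ⊓ alternatingGroup Ω ≤ X ⊓ alternatingGroup Ω := by
    intro g hg
    refine ⟨?_, hg.2⟩
    apply (hX_iff g).2
    apply lemmaA
    · exact (hW_iff g).1 hg.1
    · rw [Equiv.Perm.sign_symm_trans_trans]
      exact Equiv.Perm.mem_alternatingGroup.1 hg.2
  -- (ii)
  let h : Equiv.Perm Ω := (c.trans h').trans c.symm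
  have hconj : (c.symm.trans h).trans c = h' := by
    ext x : 1
    simp [h]
  have hhX : h ∈ X ⊓ alternatingGroup Ω := by
    refine ⟨?_, ?_⟩
    · apply (hX_iff h).2
      rw [hconj]; exact h'_pres
    · apply Equiv.Perm.mem_alternatingGroup.2
      rw [Equiv.Perm.sign_trans_trans_symm]
      exact h'_sign
  have hhW : h ∉ partStab f ⊓ alternatingGroup Ω := by
    intro hh
    have := (hW_iff h).1 hh.1
    rw [hconj] at this
    exact h'_not this
  -- (iii)
  let k : Equiv.Perm Ω := (c.trans k').trans c.symm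
  have hkconj : (c.symm.trans k).trans c = k' := by
    ext x : 1
    simp [k]
  have hkA : k ∈ alternatingGroup Ω := by
    rw [Equiv.Perm.mem_alternatingGroup, Equiv.Perm.sign_trans_trans_symm]
    exact k'_sign
  have hkX : k ∉ X ⊓ alternatingGroup Ω := by
    intro hk
    have := (hX_iff k).1 hk.1
    rw [hkconj] at this
    exact k'_not this
  intro hco
  have hlt : (partStab f ⊓ alternatingGroup Ω).subgroupOf (alternatingGroup Ω) <
      (X ⊓ alternatingGroup Ω).subgroupOf (alternatingGroup Ω) := by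
    rw [SetLike.lt_iff_le_and_exists]
    refine ⟨fun g hg => ?_, ⟨⟨h, hhX.2⟩, ?_, ?_⟩⟩
    · rw [Subgroup.mem_subgroupOf] at hg ⊢
      exact hi hg
    · rw [Subgroup.mem_subgroupOf]; exact hhX
    · rw [Subgroup.mem_subgroupOf]; exact hhW
  have htop := hco.2 _ hlt
  have : (⟨k, hkA⟩ : alternatingGroup Ω) ∈ (X ⊓ alternatingGroup Ω).subgroupOf (alternatingGroup Ω) := by
    rw [htop]; trivial
  rw [Subgroup.mem_subgroupOf] at this
  exact hkX this


/-- Let Ω be a set with 8 elements and f : Ω → Fin 4 a labelling whose four fibres all have size 2 (a partition of the 8 points into 4 pairs). Then the group of even permutations preserving this partition, (S₂ ≀ S₄) ∩ A₈, is not a maximal subgroup of the alternating group A₈ (it lies in a subgroup isomorphic to the affine group AGL₃(2)). -/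
theorem result {Ω : Type*} [Fintype Ω] [DecidableEq Ω] (h8 : Fintype.card Ω = 8)
    (f : Ω → Fin 4) (hf : ∀ i : Fin 4, Nat.card {x : Ω // f x = i} = 2) :
    ¬ IsCoatom ((Subgroup.closure {g : Equiv.Perm Ω | ∀ x y : Ω, f x = f y ↔ f (g x) = f (g y)} ⊓ alternatingGroup Ω).subgroupOf (alternatingGroup Ω)) := by
  rw [Cfsg.Agent.S5905.closure_eq_partStab]
  exact main f hf

end Cfsg.Agent.S5910
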