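-- Statement S5912.
import Cfsg.Statements.S5912
import Cfsg.Agent.Lib.Helper29.SymSix

set_option autoImplicit false
open Cfsg

namespace Cfsg.Agent.S5912

/-- The symmetric group on a 6-element set Ω has exactly two conjugacy classes of subgroups of index 6: there are two non-conjugate subgroups of index 6 (a point stabilizer and a transitive subgroup isomorphic to S₅), and every subgroup of index 6 is conjugate to one of them. -/
theorem result {Ω : Type*} [Fintype Ω] [DecidableEq Ω] (h6 : Fintype.card Ω = 6) :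
    ∃ H₁ H₂ : Subgroup (Equiv.Perm Ω), H₁.index = 6 ∧ H₂.index = 6 ∧
      (¬ ∃ g : Equiv.Perm Ω, Subgroup.map (MulAut.conj g).toMonoidHom H₁ = H₂) ∧
      ∀ H : Subgroup (Equiv.Perm Ω), H.index = 6 →
        ∃ g : Equiv.Perm Ω, Subgroup.map (MulAut.conj g).toMonoidHom H₁ = H ∨ Subgroup.map (MulAut.conj g).toMonoidHom H₂ = H := by
  classical
  have h3 : 3 ≤ Fintype.card Ω := by omega
  have h5 : 5 ≤ Fintype.card Ω := by omega
  obtain ⟨x₀⟩ : Nonempty Ω := Fintype.card_pos_iff.mp (by omega)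
  obtain ⟨H₂, hH₂, htr⟩ := Cfsg.Agent.Helper29.SymSix.exists_trans_index6 h6
  obtain ⟨α₂, hα₂⟩ := Cfsg.Agent.Helper29.SymSix.exists_aut h5 H₂ (by rw [hH₂, h6]) x₀
  have hs₂ := Cfsg.Agent.Helper29.SymSix.not_swapPres_of_trans h3 H₂ x₀ htr α₂ hα₂
  have hconjstab : ∀ (g : Equiv.Perm Ω) (a : Ω),
      Subgroup.map (MulAut.conj g).toMonoidHom (MulAction.stabilizer (Equiv.Perm Ω) a) =
        MulAction.stabilizer (Equiv.Perm Ω) (g a) := fun g a =>
    (MulAction.stabilizer_smul_eq_stabilizer_map_conj g a).symm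
  refine ⟨MulAction.stabilizer (Equiv.Perm Ω) x₀, H₂, ?_, hH₂, ?_, ?_⟩
  · rw [MulAction.index_stabilizer_of_transitive, Nat.card_eq_fintype_card, h6]
  · rintro ⟨g, hg⟩
    rw [hconjstab] at hg
    obtain ⟨y, hy⟩ : ∃ y : Ω, y ≠ g x₀ := by
      obtain ⟨a, b, hab⟩ := Fintype.exists_pair_of_one_lt_card (show 1 < Fintype.card Ω by omega)
      by_cases h : a = g x₀
      · exact ⟨b, fun hb => hab (h.trans hb.symm)⟩
      · exact ⟨a, h⟩
    obtain ⟨⟨h, hh⟩, hhy⟩ := htr.exists_smul_eq (g x₀) y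
    rw [← hg, MulAction.mem_stabilizer_iff] at hh
    have : h (g x₀) = y := hhy
    exact hy (this.symm.trans hh)
  · intro H hH
    obtain ⟨α, hα⟩ := Cfsg.Agent.Helper29.SymSix.exists_aut h5 H (by rw [hH, h6]) x₀
    by_cases hs : Cfsg.Agent.Helper29.SymSix.SwapPres α
    · obtain ⟨z, hz⟩ := Cfsg.Agent.Helper29.SymSix.point_stab_of_swapPres h3 H x₀ α hα hs
      refine ⟨Equiv.swap x₀ z, Or.inl ?_⟩
      rw [hconjstab, Equiv.swap_apply_left, hz]
    · obtain ⟨g, hg⟩ := Cfsg.Agent.Helper29.SymSix.conj_of_not_swapPres h3 H H₂ x₀ α α₂ hα hα₂ hs hs₂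
      exact ⟨g, Or.inr hg⟩

end Cfsg.Agent.S5912
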