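-- Statement S5913.
import Cfsg.Statements.S5913
-- import your own Cfsg.Agent.* helpers here

set_option autoImplicit false
open Cfsg

namespace Cfsg.Agent.S5913

theorem aux_center {S : Type*} [Group S] [IsSimpleGroup S] (hS : ¬ IsMulCommutative S)
    (a : S) (ha : a ≠ 1) : ∃ t : S, a * t * a⁻¹ * t⁻¹ ≠ 1 := by
  by_contra hcon
  push Not at hcon
  have hac : a ∈ Subgroup.center S := by
    rw [Subgroup.mem_center_iff]
    intro g
    have := hcon g
    have h2 : a * g = g * a := by
      calc a * g = (a * g * a⁻¹ * g⁻¹) * g * a := by group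
        _ = g * a := by rw [this, one_mul]
    exact h2.symm
  rcases (inferInstance : (Subgroup.center S).Normal).eq_bot_or_eq_top with h | h
  · rw [h, Subgroup.mem_bot] at hac
    exact ha hac
  · apply hS
    refine ⟨⟨fun x y => ?_⟩⟩
    have hx : x ∈ Subgroup.center S := by rw [h]; exact Subgroup.mem_top x
    rw [Subgroup.mem_center_iff] at hx
    exact (hx y).symm

/-- Let S be a non-abelian simple group and n a natural number. Every normal subgroup N of the direct power S^n (functions Fin n → S) is a subproduct: there is a set T of coordinates such that N consists exactly of the elements whose coordinates outside T are trivial. In particular the minimal normal subgroups of S^n are its n factors. -/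
theorem result {S : Type*} [Group S] [IsSimpleGroup S] (hS : ¬ IsMulCommutative S) (n : ℕ)
    (N : Subgroup (Fin n → S)) [N.Normal] :
    ∃ T : Finset (Fin n), ∀ x : Fin n → S, x ∈ N ↔ ∀ i, i ∉ T → x i = 1 := by
  classical
  refine ⟨Finset.univ.filter (fun i => ∃ y ∈ N, y i ≠ 1), fun x => ⟨?_, ?_⟩⟩
  · intro hx i hi
    by_contra hne
    apply hi
    rw [Finset.mem_filter]
    exact ⟨Finset.mem_univ i, x, hx, hne⟩
  · intro hx
    have claimA : ∀ i, (∃ y ∈ N, y i ≠ 1) → ∀ s : S, Pi.mulSingle i s ∈ N := by
      intro i ⟨y, hyN, hyi⟩ s
      set A : Subgroup S := N.comap (MonoidHom.mulSingle (fun _ : Fin n => S) i) with hA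
      have hAn : A.Normal := by
        rw [hA]
        constructor
        intro a ha t
        rw [Subgroup.mem_comap] at ha ⊢
        rw [map_mul, map_mul, map_inv]
        exact ‹N.Normal›.conj_mem _ ha _
      obtain ⟨t, ht⟩ := aux_center hS (y i) hyi
      have hmem : y i * t * (y i)⁻¹ * t⁻¹ ∈ A := by
        rw [hA, Subgroup.mem_comap]
        have h1 : y * (Pi.mulSingle i t * y⁻¹ * (Pi.mulSingle i t)⁻¹) ∈ N :=
          N.mul_mem hyN (‹N.Normal›.conj_mem _ (N.inv_mem hyN) _)
        have h2 : (MonoidHom.mulSingle (fun _ : Fin n => S) i) (y i * t * (y i)⁻¹ * t⁻¹) =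
            y * (Pi.mulSingle i t * y⁻¹ * (Pi.mulSingle i t)⁻¹) := by
          funext j
          by_cases hj : j = i
          · subst hj
            simp [mul_assoc]
          · simp [Pi.mulSingle_eq_of_ne hj]
        rw [h2]
        exact h1
      rcases hAn.eq_bot_or_eq_top with h | h
      · exfalso
        rw [h, Subgroup.mem_bot] at hmem
        exact ht hmem
      · have : s ∈ A := by rw [h]; exact Subgroup.mem_top s
        exact this
    rw [← Finset.noncommProd_mulSingle x]
    apply Subgroup.noncommProd_mem
    intro i _
    by_cases hi : ∃ y ∈ N, y i ≠ 1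
    · exact claimA i hi (x i)
    · have : x i = 1 := by
        apply hx
        rw [Finset.mem_filter]
        exact fun h => hi h.2
      rw [this, Pi.mulSingle_one]
      exact N.one_mem

end Cfsg.Agent.S5913
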