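-- Statement S5914.
import Cfsg.Statements.S5914
-- import your own Cfsg.Agent.* helpers here

set_option autoImplicit false
open Cfsg

namespace Cfsg.Agent.S5914


/-- step 1 (commutative case) -/
lemma step1_comm {S : Type*} [Group S] (hc : ∀ a b : S, a * b = b * a) (n : ℕ)
    (H : Subgroup (Fin n → S)) (hH : H.Characteristic) (h : Fin n → S) (hh : h ∈ H) (i : Fin n)
    (hi : h i ≠ 1) : ∃ (i₀ : Fin n) (t : S), t ≠ 1 ∧ Pi.mulSingle i₀ t ∈ H := by
  classical
  by_cases hj : ∃ j, j ≠ i
  · obtain ⟨j, hji⟩ := hj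
    let φ : (Fin n → S) ≃* (Fin n → S) :=
      { toFun := fun x => x * Pi.mulSingle j (x i)
        invFun := fun x => x * Pi.mulSingle j (x i)⁻¹
        left_inv := by
          intro x
          funext k
          by_cases hk : k = j
          · subst hk
            simp [Pi.mulSingle_eq_of_ne hji.symm]
          · simp [Pi.mulSingle_eq_of_ne hk]
        right_inv := by
          intro x
          funext k
          by_cases hk : k = j
          · subst hk
            simp [Pi.mulSingle_eq_of_ne hji.symm]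
          · simp [Pi.mulSingle_eq_of_ne hk]
        map_mul' := by
          intro x y
          funext k
          by_cases hk : k = j
          · subst hk
            simp only [Pi.mul_apply, Pi.mulSingle_eq_same]
            rw [mul_assoc, mul_assoc, hc (y k) (x i * y i), mul_assoc, hc (y i) (y k)]
          · simp [Pi.mulSingle_eq_of_ne hk] }
    have h1 : φ h ∈ H := by
      have := hH.fixed φ
      rw [← this] at hh
      exact hh
    refine ⟨j, h i, hi, ?_⟩
    have h2 : Pi.mulSingle j (h i) = h⁻¹ * φ h := by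
      simp [φ]
    rw [h2]
    exact H.mul_mem (H.inv_mem hh) h1
  · push Not at hj
    refine ⟨i, h i, hi, ?_⟩
    have : Pi.mulSingle i (h i) = h := by
      funext k
      rw [hj k]
      simp
    rw [this]
    exact hh

/-- step 1 (noncommutative case) -/
lemma step1_noncomm {S : Type*} [Group S] [IsSimpleGroup S] (hc : ¬ ∀ a b : S, a * b = b * a) (n : ℕ)
    (H : Subgroup (Fin n → S)) (hH : H.Normal) (h : Fin n → S) (hh : h ∈ H) (i : Fin n)
    (hi : h i ≠ 1) : ∃ (i₀ : Fin n) (t : S), t ≠ 1 ∧ Pi.mulSingle i₀ t ∈ H := by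
  classical
  have hs : ∃ s : S, s * h i * s⁻¹ * (h i)⁻¹ ≠ 1 := by
    by_contra hcon
    push Not at hcon
    have hcen : h i ∈ Subgroup.center S := by
      rw [Subgroup.mem_center_iff]
      intro g
      have := hcon g
      calc g * h i = (g * h i * g⁻¹ * (h i)⁻¹) * h i * g := by group
        _ = h i * g := by rw [this, one_mul]
    rcases (inferInstance : (Subgroup.center S).Normal).eq_bot_or_eq_top with h0 | h0
    · rw [h0, Subgroup.mem_bot] at hcen
      exact hi hcen
    · apply hc
      intro a b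
      have ha : a ∈ Subgroup.center S := by rw [h0]; exact Subgroup.mem_top a
      rw [Subgroup.mem_center_iff] at ha
      exact (ha b).symm
  obtain ⟨s, hs⟩ := hs
  refine ⟨i, _, hs, ?_⟩
  have : Pi.mulSingle i (s * h i * s⁻¹ * (h i)⁻¹) = (Pi.mulSingle i s * h * (Pi.mulSingle i s)⁻¹) * h⁻¹ := by
    funext k
    by_cases hk : k = i
    · subst hk
      simp
    · simp [Pi.mulSingle_eq_of_ne hk]
  rw [this]
  exact H.mul_mem (hH.conj_mem _ hh _) (H.inv_mem hh)

theorem pow_char_simple {S : Type*} [Group S] [IsSimpleGroup S] (n : ℕ)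
    (H : Subgroup (Fin n → S)) (hH : H.Characteristic) : H = ⊥ ∨ H = ⊤ := by
  classical
  by_cases hbot : H = ⊥
  · exact Or.inl hbot
  right
  have hHn : H.Normal := Subgroup.normal_of_characteristic H
  obtain ⟨h, hh, hne⟩ : ∃ h ∈ H, h ≠ 1 := by
    by_contra hcon
    push Not at hcon
    exact hbot ((Subgroup.eq_bot_iff_forall H).2 hcon)
  obtain ⟨i, hi⟩ : ∃ i, h i ≠ 1 := by
    by_contra hcon
    push Not at hcon
    exact hne (funext hcon)
  obtain ⟨i₀, t, ht, htH⟩ : ∃ (i₀ : Fin n) (t : S), t ≠ 1 ∧ Pi.mulSingle i₀ t ∈ H := by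
    by_cases hc : ∀ a b : S, a * b = b * a
    · exact step1_comm hc n H hH h hh i hi
    · exact step1_noncomm hc n H hHn h hh i hi
  -- step 2
  have hA : H.comap (MonoidHom.mulSingle (fun _ : Fin n => S) i₀) = ⊤ := by
    have hAn : (H.comap (MonoidHom.mulSingle (fun _ : Fin n => S) i₀)).Normal := hHn.comap _
    rcases hAn.eq_bot_or_eq_top with h0 | h0
    · exfalso
      have : t ∈ H.comap (MonoidHom.mulSingle (fun _ : Fin n => S) i₀) := by
        rw [Subgroup.mem_comap]; exact htH
      rw [h0, Subgroup.mem_bot] at this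
      exact ht this
    · exact h0
  have h2 : ∀ s : S, Pi.mulSingle i₀ s ∈ H := by
    intro s
    have : s ∈ H.comap (MonoidHom.mulSingle (fun _ : Fin n => S) i₀) := by rw [hA]; trivial
    exact this
  -- step 3
  have h3 : ∀ (j : Fin n) (s : S), Pi.mulSingle j s ∈ H := by
    intro j s
    let α : (Fin n → S) ≃* (Fin n → S) := MulEquiv.arrowCongr (Equiv.swap i₀ j) (MulEquiv.refl S)
    have h4 : α (Pi.mulSingle i₀ s) = Pi.mulSingle j s := by
      funext k
      simp only [α, MulEquiv.arrowCongr_apply, MulEquiv.refl_apply, Equiv.symm_swap]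
      by_cases hk : k = j
      · subst hk
        simp
      · rw [Pi.mulSingle_eq_of_ne hk]
        apply Pi.mulSingle_eq_of_ne
        intro h5
        apply hk
        have := congrArg (Equiv.swap i₀ j) h5
        simpa using this
    have h5 := hH.fixed α.symm
    rw [← h4]
    rw [← h5]
    simpa using h2 s
  rw [eq_top_iff]
  intro x _
  exact Subgroup.pi_mem_of_mulSingle_mem x (fun j => h3 j (x j))




variable {G : Type*} [Group G]

/-- splitting off the last coordinate -/
def splitLast (N : Type*) [Group N] (k : ℕ) : (Fin (k+1) → N) ≃* (Fin k → N) × N where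
  toFun x := (fun i => x i.castSucc, x (Fin.last k))
  invFun p := Fin.snoc p.1 p.2
  left_inv x := by
    funext i
    refine Fin.lastCases ?_ (fun j => ?_) i
    · simp
    · simp
  right_inv p := by
    ext i <;> simp
  map_mul' x y := rfl

def Good (N : Subgroup G) (k : ℕ) (M : Subgroup G) : Prop :=
  ∃ (f : (Fin k → N) →* G) (φ : Fin k → MulAut G), Function.Injective f ∧ f.range = M ∧
    ∀ i (x : N), f (Pi.mulSingle i x) = φ i x

lemma good_zero (N : Subgroup G) : Good N 0 ⊥ := by
  refine ⟨1, fun i => i.elim0, ?_, ?_, fun i => i.elim0⟩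
  · intro x y _
    exact Subsingleton.elim _ _
  · rw [MonoidHom.range_eq_bot_iff]

lemma good_step (N : Subgroup G) (k : ℕ) (M : Subgroup G) (hM : M.Normal) (hg : Good N k M)
    (ψ : MulAut G) (hψn : (N.map ψ.toMonoidHom).Normal) (hd : Disjoint M (N.map ψ.toMonoidHom)) :
    Good N (k+1) (M ⊔ N.map ψ.toMonoidHom) := by
  classical
  obtain ⟨f, φ, hf, hr, hs⟩ := hg
  let g : N →* G := ψ.toMonoidHom.comp N.subtype
  have hgr : g.range = N.map ψ.toMonoidHom := by
    rw [← MonoidHom.map_range, Subgroup.range_subtype]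
  have comm : ∀ m n, Commute (f m) (g n) := by
    intro m n
    apply Subgroup.commute_of_normal_of_disjoint M _ hM hψn hd
    · rw [← hr]; exact ⟨m, rfl⟩
    · rw [← hgr]; exact ⟨n, rfl⟩
  refine ⟨(f.noncommCoprod g comm).comp (splitLast N k).toMonoidHom, Fin.snoc φ ψ, ?_, ?_, ?_⟩
  · rw [MonoidHom.coe_comp]
    apply Function.Injective.comp
    · rw [MonoidHom.noncommCoprod_injective]
      refine ⟨hf, ?_, ?_⟩
      · intro a b hab
        simp only [g, MonoidHom.comp_apply, MulEquiv.toMonoidHom_eq_coe, MonoidHom.coe_coe,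
          Subgroup.subtype_apply] at hab
        exact Subtype.ext (ψ.injective hab)
      · rw [hr, hgr]; exact hd
    · exact (splitLast N k).injective
  · rw [MonoidHom.range_comp, MonoidHom.range_eq_top.2 (splitLast N k).surjective, ← MonoidHom.range_eq_map,
      MonoidHom.noncommCoprod_range, hr, hgr]
  · intro i x
    refine Fin.lastCases ?_ (fun j => ?_) i
    · have : (splitLast N k) (Pi.mulSingle (Fin.last k) x) = (1, x) := by
        ext j
        · simp [splitLast]
        · simp [splitLast]
      simp [this, g]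
    · have : (splitLast N k) (Pi.mulSingle j.castSucc x) = (Pi.mulSingle j x, 1) := by
        ext l
        · by_cases hl : l = j
          · subst hl; simp [splitLast]
          · have : l.castSucc ≠ j.castSucc := fun h => hl (Fin.castSucc_injective _ h)
            simp [splitLast, Pi.mulSingle_eq_of_ne hl, Pi.mulSingle_eq_of_ne this]
        · simp [splitLast]
      simp [this, hs]


variable [Finite G]

lemma exists_min_normal [Nontrivial G] : ∃ N : Subgroup G, N.Normal ∧ N ≠ ⊥ ∧
    ∀ K : Subgroup G, K.Normal → K ≠ ⊥ → Nat.card N ≤ Nat.card K := by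
  obtain ⟨N, hN, hmin⟩ := Set.exists_min_image {K : Subgroup G | K.Normal ∧ K ≠ ⊥}
    (fun K => Nat.card K) (Set.toFinite _) ⟨⊤, inferInstance, top_ne_bot⟩
  exact ⟨N, hN.1, hN.2, fun K hK1 hK2 => hmin K ⟨hK1, hK2⟩⟩

theorem fwd [Nontrivial G] (hcs : ∀ H : Subgroup G, H.Characteristic → H = ⊥ ∨ H = ⊤) :
    ∃ (N : Subgroup G) (k : ℕ), IsSimpleGroup N ∧ 1 ≤ k ∧ Nonempty (G ≃* (Fin k → N)) := by
  classical
  obtain ⟨N, hNn, hNb, hNmin⟩ := exists_min_normal (G := G)
  have hmapn : ∀ ψ : MulAut G, (N.map ψ.toMonoidHom).Normal := fun ψ =>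
    hNn.map _ ψ.surjective
  have hmapc : ∀ ψ : MulAut G, Nat.card (N.map ψ.toMonoidHom) = Nat.card N := fun ψ =>
    Subgroup.card_map_of_injective ψ.injective
  have hsup : (⨆ ψ : MulAut G, N.map ψ.toMonoidHom) = ⊤ := by
    have hchar : (⨆ ψ : MulAut G, N.map ψ.toMonoidHom).Characteristic := by
      rw [Subgroup.characteristic_iff_map_le]
      intro ϕ
      rw [Subgroup.map_iSup]
      apply iSup_le
      intro ψ
      rw [Subgroup.map_map]
      exact le_iSup (fun ψ : MulAut G => N.map ψ.toMonoidHom) (ψ.trans ϕ)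
    rcases hcs _ hchar with h | h
    · exfalso
      apply hNb
      rw [eq_bot_iff, ← h]
      have h1 := le_iSup (fun ψ : MulAut G => N.map ψ.toMonoidHom) 1
      have h2 : N.map ((1 : MulAut G).toMonoidHom) = N := Subgroup.map_id N
      rw [h2] at h1
      exact h1
    · exact h
  have hmain : ∀ M : Subgroup G, M.Normal → (∃ k, Good N k M) → ∃ k, Good N k ⊤ := by
    intro M
    induction M using WellFoundedGT.induction with
    | ind M ih =>
      intro hMn ⟨k, hk⟩
      by_cases hM : M = ⊤
      · exact ⟨k, hM ▸ hk⟩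
      obtain ⟨ψ, hψ⟩ : ∃ ψ : MulAut G, ¬ N.map ψ.toMonoidHom ≤ M := by
        by_contra hcon
        push Not at hcon
        apply hM
        rw [eq_top_iff, ← hsup]
        exact iSup_le hcon
      have hd : Disjoint M (N.map ψ.toMonoidHom) := by
        rw [disjoint_iff]
        by_contra hne
        have hn : (M ⊓ N.map ψ.toMonoidHom).Normal := by
          have := hMn; have := hmapn ψ; infer_instance
        have h1 := hNmin _ hn hne
        have h2 : M ⊓ N.map ψ.toMonoidHom = N.map ψ.toMonoidHom :=
          Subgroup.eq_of_le_of_card_ge inf_le_right (by rw [hmapc]; exact h1)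
        apply hψ
        rw [← h2]
        exact inf_le_left
      have hn2 : (M ⊔ N.map ψ.toMonoidHom).Normal := by
        have := hMn; have := hmapn ψ; infer_instance
      exact ih _ (left_lt_sup.2 hψ) hn2 ⟨k+1, good_step N k M hMn hk ψ (hmapn ψ) hd⟩
  obtain ⟨k, f, φ, hf, hr, hs⟩ := hmain ⊥ inferInstance ⟨0, good_zero N⟩
  have hsurj : Function.Surjective f := MonoidHom.range_eq_top.1 hr
  have hk : 1 ≤ k := by
    by_contra hk0
    have hk0 : k = 0 := by omega
    subst hk0
    obtain ⟨a, b, hab⟩ := exists_pair_ne G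
    obtain ⟨a', rfl⟩ := hsurj a
    obtain ⟨b', rfl⟩ := hsurj b
    exact hab (congrArg f (Subsingleton.elim _ _))
  refine ⟨N, k, ?_, hk, ⟨(MulEquiv.ofBijective f ⟨hf, hsurj⟩).symm⟩⟩
  have : Nontrivial N := (Subgroup.nontrivial_iff_ne_bot N).2 hNb
  refine ⟨fun K hK => ?_⟩
  let i : Fin k := ⟨0, hk⟩
  let K' : Subgroup G := (K.map N.subtype).map (φ i).toMonoidHom
  have hK'n : K'.Normal := by
    constructor
    rintro _ ⟨_, ⟨x, hx, rfl⟩, rfl⟩ g
    obtain ⟨y, rfl⟩ := hsurj g
    have h1 : f y * (φ i) (x : G) * (f y)⁻¹ = (φ i) ((y i * x * (y i)⁻¹ : N) : G) := by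
      rw [← hs, ← hs, ← map_inv, ← map_mul, ← map_mul]
      congr 1
      funext l
      by_cases hl : l = i
      · subst hl; simp
      · simp [Pi.mulSingle_eq_of_ne hl]
    refine ⟨((y i * x * (y i)⁻¹ : N) : G), ⟨_, hK.conj_mem x hx (y i), rfl⟩, ?_⟩
    simpa using h1.symm
  have hK'c : Nat.card K' = Nat.card K := by
    rw [Subgroup.card_map_of_injective (φ i).injective,
      Subgroup.card_map_of_injective N.subtype_injective]
  by_cases hKb : K = ⊥
  · exact Or.inl hKb
  right
  have hK'b : K' ≠ ⊥ := by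
    intro h
    apply hKb
    have : Nat.card K = 1 := by rw [← hK'c, h]; simp
    exact Subgroup.card_eq_one.1 this
  have := hNmin K' hK'n hK'b
  rw [hK'c] at this
  exact Subgroup.eq_top_of_le_card _ this



/-- a copy of `Fin n` without algebraic instances -/
def FinCopy (n : ℕ) : Type := Fin n

lemma char_map_equiv {G G' : Type*} [Group G] [Group G'] (e : G ≃* G') (H : Subgroup G)
    (hH : H.Characteristic) : (H.map e.toMonoidHom).Characteristic := by
  rw [Subgroup.characteristic_iff_map_le]
  intro ϕ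
  rintro _ ⟨_, ⟨x, hx, rfl⟩, rfl⟩
  have h1 := hH.fixed ((e.trans ϕ).trans e.symm).symm
  have h2 : ((e.trans ϕ).trans e.symm) x ∈ H := by
    rw [← h1]
    simpa using hx
  refine ⟨_, h2, ?_⟩
  simp


/-- A non-trivial finite group G is characteristically simple (its only characteristic subgroups are 1 and G) if and only if G is isomorphic to a direct power S^n (n ≥ 1) of some simple group S (possibly cyclic of prime order). -/
theorem result {G : Type*} [Group G] [Finite G] [Nontrivial G] :
    (∀ H : Subgroup G, H.Characteristic → H = ⊥ ∨ H = ⊤) ↔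
    ∃ (S : Type) (_ : Group S) (_ : IsSimpleGroup S) (n : ℕ), 1 ≤ n ∧ Nonempty (G ≃* (Fin n → S)) := by
  constructor
  · intro hcs
    obtain ⟨N, k, hNs, hk, ⟨e⟩⟩ := fwd hcs
    let eq : FinCopy (Nat.card N) ≃ N := (Finite.equivFin N).symm
    letI : Group (FinCopy (Nat.card N)) := eq.group
    let me : FinCopy (Nat.card N) ≃* N := eq.mulEquiv
    have hs : IsSimpleGroup (FinCopy (Nat.card N)) := me.isSimpleGroup
    exact ⟨FinCopy (Nat.card N), inferInstance, hs, k, hk,
      ⟨e.trans (MulEquiv.piCongrRight (fun _ => me.symm))⟩⟩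
  · rintro ⟨S, _, _, n, hn, ⟨e⟩⟩ H hH
    rcases pow_char_simple n (H.map e.toMonoidHom) (char_map_equiv e H hH) with h | h
    · left
      exact (Subgroup.map_eq_bot_iff_of_injective H e.injective).1 h
    · right
      rw [eq_top_iff]
      intro x _
      have : e x ∈ H.map e.toMonoidHom := by rw [h]; trivial
      obtain ⟨y, hy, hxy⟩ := this
      have : y = x := e.injective hxy
      rw [← this]; exact hy

end Cfsg.Agent.S5914
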