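-- Statement S5945.
import Cfsg.Statements.S5945
import Cfsg.Agent.Lib.Helper29.SymSix

set_option autoImplicit false
open Cfsg

namespace Cfsg.Agent.S5945
open Cfsg.Agent.Helper29.SymSix


section
variable {Ω : Type*} [Fintype Ω] [DecidableEq Ω]

lemma stab_equiv (x₀ : Ω) :
    Nonempty (MulAction.stabilizer (Equiv.Perm Ω) x₀ ≃* Equiv.Perm {x : Ω // x ≠ x₀}) := by
  have hrange : (Equiv.Perm.ofSubtype : Equiv.Perm {x : Ω // x ≠ x₀} →* Equiv.Perm Ω).range =
      MulAction.stabilizer (Equiv.Perm Ω) x₀ := by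
    ext g
    constructor
    · rintro ⟨f, rfl⟩
      rw [MulAction.mem_stabilizer_iff]
      exact Equiv.Perm.ofSubtype_apply_of_not_mem f (by simp)
    · intro hg
      have hg0 : g x₀ = x₀ := hg
      have h₁ : ∀ x, g x ≠ x₀ ↔ x ≠ x₀ := by
        intro x
        rw [not_iff_not]
        constructor
        · intro h; apply g.injective; rw [h, hg0]
        · intro h; rw [h, hg0]
      refine ⟨Equiv.Perm.subtypePerm g h₁, Equiv.Perm.ofSubtype_subtypePerm h₁ ?_⟩
      intro x hx hxx
      apply hx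
      rw [hxx, hg0]
  exact ⟨((MonoidHom.ofInjective Equiv.Perm.ofSubtype_injective).trans
    (MulEquiv.subgroupCongr hrange)).symm⟩

lemma no_fixed_of_cycleType (h6 : Fintype.card Ω = 6) (ρ : Equiv.Perm Ω)
    (hρ : ρ.cycleType = Multiset.replicate 3 2) (b : Ω) : ρ b ≠ b := by
  have h1 : ρ.support.card = 6 := by
    rw [← Equiv.Perm.sum_cycleType, hρ]; rfl
  have h2 : ρ.support = Finset.univ := Finset.eq_univ_of_card _ (by rw [h1, h6])
  rw [← Equiv.Perm.mem_support, h2]
  exact Finset.mem_univ b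

end


theorem result' : Nat.card {H : Subgroup (Equiv.Perm (Fin 6)) // H.index = 6} = 12 ∧ (∀ H : Subgroup (Equiv.Perm (Fin 6)), H.index = 6 → Nonempty (H ≃* Equiv.Perm (Fin 5))) ∧ ∃ H : Subgroup (Equiv.Perm (Fin 6)), H.index = 6 ∧ ∀ a : Fin 6, H ≠ MulAction.stabilizer (Equiv.Perm (Fin 6)) a := by
  classical
  have h6 : Fintype.card (Fin 6) = 6 := Fintype.card_fin 6
  have h3 : 3 ≤ Fintype.card (Fin 6) := by rw [h6]; norm_num
  have h5 : 5 ≤ Fintype.card (Fin 6) := by rw [h6]; norm_num
  let x₀ : Fin 6 := 0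
  obtain ⟨H₂, hH₂, htr⟩ := exists_trans_index6 h6
  obtain ⟨α₂, hα₂⟩ := exists_aut h5 H₂ (by rw [hH₂, h6]) x₀
  have hs₂ := not_swapPres_of_trans h3 H₂ x₀ htr α₂ hα₂
  have hidxstab : ∀ a : Fin 6, (MulAction.stabilizer (Equiv.Perm (Fin 6)) a).index = 6 := by
    intro a
    rw [MulAction.index_stabilizer_of_transitive, Nat.card_eq_fintype_card, h6]
  refine ⟨?_, ?_, ?_⟩
  · -- the count
    let f : Fin 6 ⊕ Fin 6 → {H : Subgroup (Equiv.Perm (Fin 6)) // H.index = 6} := fun s =>
      match s with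
      | Sum.inl a => ⟨MulAction.stabilizer (Equiv.Perm (Fin 6)) a, hidxstab a⟩
      | Sum.inr a => ⟨(MulAction.stabilizer (Equiv.Perm (Fin 6)) a).comap α₂.toMonoidHom, by
          rw [Subgroup.index_comap_of_surjective _ α₂.surjective, hidxstab a]⟩
    have hmix : ∀ a b : Fin 6, MulAction.stabilizer (Equiv.Perm (Fin 6)) a ≠
        (MulAction.stabilizer (Equiv.Perm (Fin 6)) b).comap α₂.toMonoidHom := by
      intro a b hab
      have hdec : ∀ a : Fin 6, ∃ c d : Fin 6, c ≠ a ∧ d ≠ a ∧ c ≠ d := by decide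
      obtain ⟨c, d, hca, hda, hcd⟩ := hdec a
      have hτ : (Equiv.swap c d).IsSwap := ⟨c, d, hcd, rfl⟩
      have hmem : Equiv.swap c d ∈ MulAction.stabilizer (Equiv.Perm (Fin 6)) a := by
        rw [MulAction.mem_stabilizer_iff]
        exact Equiv.swap_apply_of_ne_of_ne hca.symm hda.symm
      rw [hab, Subgroup.mem_comap, MulAction.mem_stabilizer_iff] at hmem
      exact no_fixed_of_cycleType h6 _ (cycleType_of_not_swapPres α₂ hs₂ _ hτ) b hmem
    have hinj : Function.Injective f := by
      rintro (a | a) (b | b) hab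
      · have := congrArg Subtype.val hab
        exact congrArg Sum.inl (stab_inj h3 a b this)
      · exact absurd (congrArg Subtype.val hab) (hmix a b)
      · exact absurd (congrArg Subtype.val hab).symm (hmix b a)
      · have := congrArg Subtype.val hab
        have h' := Subgroup.comap_injective α₂.surjective this
        exact congrArg Sum.inr (stab_inj h3 a b h')
    have hsurj : Function.Surjective f := by
      rintro ⟨H, hH⟩
      obtain ⟨α, hα⟩ := exists_aut h5 H (by rw [hH, h6]) x₀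
      by_cases hs : SwapPres α
      · obtain ⟨z, hz⟩ := point_stab_of_swapPres h3 H x₀ α hα hs
        exact ⟨Sum.inl z, Subtype.ext hz.symm⟩
      · obtain ⟨g, hg⟩ := inner_of_swap_preserving h3 (α₂.symm.trans α)
          (swapPres_symm_trans (by omega) α α₂ hs hs₂)
        refine ⟨Sum.inr (g⁻¹ x₀), Subtype.ext ?_⟩
        ext y
        change y ∈ (MulAction.stabilizer (Equiv.Perm (Fin 6)) (g⁻¹ x₀)).comap α₂.toMonoidHom ↔ y ∈ H
        rw [Subgroup.mem_comap, MulAction.mem_stabilizer_iff, hα y]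
        have hy : α y = g * α₂ y * g⁻¹ := by
          rw [← hg (α₂ y)]
          simp
        rw [hy]
        constructor
        · intro h
          have h' : α₂ y (g⁻¹ x₀) = g⁻¹ x₀ := h
          simp only [Equiv.Perm.mul_apply, h']
          simp
        · intro h
          have : g⁻¹ ((g * α₂ y * g⁻¹) x₀) = g⁻¹ x₀ := by rw [h]
          simpa using this
    rw [← Nat.card_congr (Equiv.ofBijective f ⟨hinj, hsurj⟩)]
    simp
  · intro H hH
    obtain ⟨α, hα⟩ := exists_aut h5 H (by rw [hH, h6]) x₀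
    have hmap : H.map α.toMonoidHom = MulAction.stabilizer (Equiv.Perm (Fin 6)) x₀ := by
      ext y
      rw [Subgroup.mem_map, MulAction.mem_stabilizer_iff]
      constructor
      · rintro ⟨x, hx, rfl⟩
        exact (hα x).mp hx
      · intro hy
        refine ⟨α.symm y, (hα _).mpr ?_, by simp⟩
        simpa using hy
    obtain ⟨e1⟩ := stab_equiv x₀
    have e0 : H ≃* H.map α.toMonoidHom := α.subgroupMap H
    exact ⟨(e0.trans (MulEquiv.subgroupCongr hmap)).trans
      (e1.trans (finSuccAboveEquiv x₀).symm.permCongrHom)⟩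
  · refine ⟨H₂, hH₂, fun a hHa => ?_⟩
    have hdec : ∀ a : Fin 6, ∃ y : Fin 6, y ≠ a := by decide
    obtain ⟨y, hy⟩ := hdec a
    obtain ⟨⟨h, hh⟩, hhy⟩ := htr.exists_smul_eq a y
    rw [hHa, MulAction.mem_stabilizer_iff] at hh
    have : h a = y := hhy
    exact hy (this.symm.trans hh)



/-- The symmetric group S_6 has exactly 12 subgroups of index 6; each of them is isomorphic to S_5, and at least one of them is not the stabilizer of any point. -/
theorem result : Nat.card {H : Subgroup (Equiv.Perm (Fin 6)) // H.index = 6} = 12 ∧ (∀ H : Subgroup (Equiv.Perm (Fin 6)), H.index = 6 → Nonempty (H ≃* Equiv.Perm (Fin 5))) ∧ ∃ H : Subgroup (Equiv.Perm (Fin 6)), H.index = 6 ∧ ∀ a : Fin 6, H ≠ MulAction.stabilizer (Equiv.Perm (Fin 6)) a := by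
  exact result'

end Cfsg.Agent.S5945
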