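-- Statement S5946.
import Cfsg.Statements.S5946
-- import your own Cfsg.Agent.* helpers here

set_option autoImplicit false
open Cfsg

namespace Cfsg.Agent.S5946

/-- Let F ⊆ K be finite fields with [K : F] = n ≥ 2 and regard K as an n-dimensional F-vector space. The Singer group M ≤ GL_F(K) of multiplications by the non-zero elements of K is self-centralizing: every F-linear automorphism of K commuting with all of M lies in M. -/
theorem result {F K : Type*} [Field F] [Fintype F] [Field K] [Fintype K] [Algebra F K] (n : ℕ) (hn : 2 ≤ n) (hdim : Module.finrank F K = n) :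
    Subgroup.centralizer (((Units.map ((Algebra.lmul F K : K →ₐ[F] Module.End F K) : K →* Module.End F K)).range : Subgroup (Module.End F K)ˣ) : Set (Module.End F K)ˣ) = (Units.map ((Algebra.lmul F K : K →ₐ[F] Module.End F K) : K →* Module.End F K)).range := by
  apply le_antisymm
  · intro φ hφ
    rw [Subgroup.mem_centralizer_iff] at hφ
    have hinj : Function.Injective ((φ : Module.End F K) : K → K) := by
      intro a b hab
      have h1 : ((φ⁻¹ : (Module.End F K)ˣ) : Module.End F K) ((φ : Module.End F K) a) = a := by
        rw [← Module.End.mul_apply, Units.inv_mul, Module.End.one_apply]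
      have h2 : ((φ⁻¹ : (Module.End F K)ˣ) : Module.End F K) ((φ : Module.End F K) b) = b := by
        rw [← Module.End.mul_apply, Units.inv_mul, Module.End.one_apply]
      rw [← h1, ← h2, hab]
    have hc : (φ : Module.End F K) 1 ≠ 0 := by
      intro h
      have : (φ : Module.End F K) 1 = (φ : Module.End F K) 0 := by rw [h, map_zero]
      exact one_ne_zero (hinj this)
    refine ⟨Units.mk0 _ hc, ?_⟩
    apply Units.ext
    apply LinearMap.ext
    intro k
    simp only [Units.coe_map, MonoidHom.coe_coe, Units.val_mk0]
    by_cases hk : k = 0
    · subst hk; simp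
    · have := hφ (Units.map ((Algebra.lmul F K : K →ₐ[F] Module.End F K) : K →* Module.End F K) (Units.mk0 k hk)) ⟨_, rfl⟩
      have h2 := congrArg (fun ψ : (Module.End F K)ˣ => (ψ : Module.End F K) 1) this
      simp only [Units.val_mul, Units.coe_map, MonoidHom.coe_coe, Units.val_mk0, Module.End.mul_apply] at h2
      simp at h2
      simp
      rw [← h2, mul_comm]
  · intro φ hφ
    rw [Subgroup.mem_centralizer_iff]
    intro h hh
    obtain ⟨a, rfl⟩ := hφ
    obtain ⟨b, rfl⟩ := hh
    rw [← map_mul, ← map_mul, mul_comm]

end Cfsg.Agent.S5946
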