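import Mathlib
import Cfsg.Statements.S5947
import Cfsg.Agent.Lib.Helper3.SingerCent
import Cfsg.Agent.S2904

set_option autoImplicit false
open Cfsg

namespace Cfsg.Agent.S5947

open Module Cfsg.Agent.Lib.Helper3

section commutant

variable {F K : Type*} [Field F] [Field K] [Algebra F K]

/-- an endomorphism commuting with the multiplication by a generator of the field extension is itself
a multiplication -/
theorem exists_eq_lmul (ζ : K) (hζ : Algebra.adjoin F {ζ} = ⊤) (φ : Module.End F K)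
    (h : φ * Algebra.lmul F K ζ = Algebra.lmul F K ζ * φ) : ∃ a : K, φ = Algebra.lmul F K a := by
  have hcomm : ∀ z : K, φ (ζ * z) = ζ * φ z := by
    intro z
    have h1 := congrArg (fun ψ : Module.End F K => ψ z) h
    exact h1
  have hall : ∀ x : K, ∀ z : K, φ (x * z) = x * φ z := by
    intro x
    have hx : x ∈ Algebra.adjoin F {ζ} := by rw [hζ]; exact Algebra.mem_top
    induction hx using Algebra.adjoin_induction with
    | mem y hy =>
      rw [Set.mem_singleton_iff] at hy
      subst hy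
      exact hcomm
    | algebraMap r =>
      intro z
      rw [← Algebra.smul_def, ← Algebra.smul_def, map_smul]
    | add x y _ _ hx hy =>
      intro z
      rw [add_mul, map_add, hx, hy, add_mul]
    | mul x y _ _ hx hy =>
      intro z
      rw [mul_assoc, hx, hy, mul_assoc]
  refine ⟨φ 1, ?_⟩
  apply LinearMap.ext
  intro z
  have := hall z 1
  rw [mul_one] at this
  rw [this, mul_comm]
  rfl

end commutant

/-- the `r`-part of the order of `GL_n(q)` for a primitive prime divisor `r` of `q ^ n - 1` -/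
lemma factorization_prod {q n r : ℕ} (hq : 2 ≤ q) (hn : 2 ≤ n) (hr : r.Prime) (hrd : r ∣ q ^ n - 1)
    (hprim : ∀ k : ℕ, 0 < k → k < n → ¬ r ∣ q ^ k - 1) :
    (∏ i : Fin n, (q ^ n - q ^ (i : ℕ))).factorization r = (q ^ n - 1).factorization r := by
  obtain ⟨n', rfl⟩ : ∃ n', n = n' + 1 := ⟨n - 1, by omega⟩
  rw [Fin.prod_univ_succ]
  simp only [Fin.val_zero, pow_zero, Fin.val_succ]
  have hqn : 1 < q ^ (n' + 1) := Nat.one_lt_pow (by omega) (by omega)
  have hrq : ¬ r ∣ q := by
    intro h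
    have h1 : r ∣ q ^ (n' + 1) := dvd_pow h (by omega)
    have h2 : r ∣ q ^ (n' + 1) - (q ^ (n' + 1) - 1) := Nat.dvd_sub h1 hrd
    have h3 : q ^ (n' + 1) - (q ^ (n' + 1) - 1) = 1 := by omega
    rw [h3] at h2
    exact hr.one_lt.ne' (Nat.dvd_one.1 h2)
  have hterm : ∀ i : Fin n', ¬ r ∣ q ^ (n' + 1) - q ^ ((i : ℕ) + 1) := by
    intro i h
    have hi : (i : ℕ) + 1 + (n' - i) = n' + 1 := by have := i.2; omega
    have e : q ^ (n' + 1) - q ^ ((i : ℕ) + 1) = q ^ ((i : ℕ) + 1) * (q ^ (n' - i) - 1) := by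
      rw [Nat.mul_sub, mul_one, ← pow_add, hi]
    rw [e] at h
    rcases (Nat.Prime.dvd_mul hr).1 h with h | h
    · exact hrq (hr.dvd_of_dvd_pow h)
    · exact hprim (n' - i) (by have := i.2; omega) (by omega) h
  have hne : ∀ i : Fin n', q ^ (n' + 1) - q ^ ((i : ℕ) + 1) ≠ 0 := by
    intro i
    have : q ^ ((i : ℕ) + 1) < q ^ (n' + 1) := Nat.pow_lt_pow_right (by omega) (by have := i.2; omega)
    omega
  have h0 : (∏ i : Fin n', (q ^ (n' + 1) - q ^ ((i : ℕ) + 1))).factorization r = 0 := by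
    apply Nat.factorization_eq_zero_of_not_dvd
    intro h
    obtain ⟨i, _, hi⟩ := (Prime.dvd_finsetProd_iff hr.prime _).1 h
    exact hterm i hi
  rw [Nat.factorization_mul (by omega) (Finset.prod_ne_zero_iff.2 fun i _ => hne i),
    Finsupp.add_apply, h0, add_zero]

lemma aux_ring {R : Type*} [CommRing R] (b : ℕ) (hb1 : 1 ≤ b) (hN : (2 : R) ^ (b + 1) = 0)
    (p : R) (hp : p = 2 ^ b - 1) (g d : ℕ) (h1 : p ^ (2 * g + 1) + 1 = 2 ^ (b + 1 + d)) :
    (2 : R) ^ b = 0 := by
  have hp2 : p ^ 2 = 1 := by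
    rw [hp]
    have e : ((2 : R) ^ b - 1) ^ 2 = 2 ^ (b + 1) * 2 ^ (b - 1) - 2 ^ (b + 1) + 1 := by
      obtain ⟨c, rfl⟩ : ∃ c, b = c + 1 := ⟨b - 1, by omega⟩
      simp only [Nat.add_sub_cancel]
      ring
    rw [e, hN]
    ring
  have hpf : p ^ (2 * g + 1) = p := by
    rw [pow_add, pow_one, pow_mul, hp2, one_pow, one_mul]
  rw [hpf, pow_add, hN, zero_mul, hp] at h1
  linear_combination h1

/-- a prime power `p ^ f` with `p ^ f + 1` a power of two is a prime -/
lemma eq_one_of_pow_add_one {p f a : ℕ} (hp : p.Prime) (hf : f ≠ 0) (h : p ^ f + 1 = 2 ^ a) :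
    f = 1 := by
  have hp2 : 2 ≤ p := hp.two_le
  have hpf : 2 ≤ p ^ f := le_trans hp2 (Nat.le_self_pow hf p)
  have ha2 : 2 ≤ a := by
    by_contra hlt
    have : a = 0 ∨ a = 1 := by omega
    rcases this with rfl | rfl <;> simp at h <;> omega
  have h4 : 4 ∣ p ^ f + 1 := by
    rw [h]
    exact pow_dvd_pow 2 ha2
  rcases Nat.even_or_odd f with ⟨g, hg⟩ | hodd
  · -- `p ^ f` is a square
    exfalso
    have hs : p ^ f = (p ^ g) ^ 2 := by rw [hg, ← pow_mul]; congr 1; ring
    rw [hs] at h4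
    have h5 : ((p ^ g) ^ 2 + 1) % 4 = 0 := Nat.mod_eq_zero_of_dvd h4
    have h6 : (p ^ g) % 4 < 4 := Nat.mod_lt _ (by norm_num)
    rw [Nat.add_mod, Nat.pow_mod] at h5
    interval_cases (p ^ g) % 4 <;> simp at h5
  · -- `f` odd
    have hdvd : p + 1 ∣ p ^ f + 1 := by
      have := Odd.nat_add_dvd_pow_add_pow p 1 hodd
      rwa [one_pow] at this
    rw [h] at hdvd
    obtain ⟨b, hba, hb⟩ := (Nat.dvd_prime_pow Nat.prime_two).1 hdvd
    have hb1 : 1 ≤ b := by
      by_contra hlt
      have hb0 : b = 0 := by omega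
      rw [hb0, pow_zero] at hb
      omega
    by_cases hab : a = b
    · subst hab
      have : p ^ f = p ^ 1 := by rw [pow_one]; omega
      exact Nat.pow_right_injective hp2 this
    · exfalso
      have hlt : b + 1 ≤ a := by omega
      obtain ⟨d, hd⟩ := Nat.exists_eq_add_of_le hlt
      obtain ⟨g, hg⟩ := hodd
      obtain ⟨N, hNdef⟩ : ∃ N : ℕ, N = 2 ^ (b + 1) := ⟨_, rfl⟩
      have hN : ((2 : ZMod N) ^ (b + 1)) = 0 := by
        have h0 : ((N : ℕ) : ZMod N) = 0 := ZMod.natCast_self _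
        have h0' : ((2 ^ (b + 1) : ℕ) : ZMod N) = 0 := by rw [← hNdef]; exact h0
        push_cast at h0'
        exact h0'
      have hpz : (p : ZMod N) = 2 ^ b - 1 := by
        have : ((p + 1 : ℕ) : ZMod N) = ((2 ^ b : ℕ) : ZMod N) := by rw [hb]
        push_cast at this
        linear_combination this
      have h1 : ((p ^ f + 1 : ℕ) : ZMod N) = ((2 ^ a : ℕ) : ZMod N) := by
        rw [h]
      push_cast at h1
      rw [hg, hd] at h1
      have h3 := aux_ring b hb1 hN (p : ZMod N) hpz g d h1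
      have h3' : ((2 ^ b : ℕ) : ZMod N) = 0 := by
        push_cast
        exact h3
      rw [ZMod.natCast_eq_zero_iff, hNdef] at h3'
      have := Nat.le_of_dvd (by positivity) h3'
      have : 2 ^ b < 2 ^ (b + 1) := Nat.pow_lt_pow_right (by norm_num) (by omega)
      omega

/-- every abelian subgroup of `GL_F(K)` of order `q ^ n - 1` is conjugate to the Singer group -/
theorem result {F K : Type*} [Field F] [Fintype F] [Field K] [Fintype K] [Algebra F K] (n : ℕ) (hn : 2 ≤ n) (hdim : Module.finrank F K = n)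
    (hex1 : ¬ (n = 6 ∧ Fintype.card F = 2))
    (hex2 : ¬ (n = 2 ∧ (Fintype.card F).Prime ∧ ∃ a : ℕ, Fintype.card F + 1 = 2 ^ a))
    (U : Subgroup (Module.End F K)ˣ) (hU : IsMulCommutative U) (hcard : Nat.card U = Fintype.card K - 1) :
    ∃ g : (Module.End F K)ˣ, U.map (MulAut.conj g).toMonoidHom = (Units.map ((Algebra.lmul F K : K →ₐ[F] Module.End F K) : K →* Module.End F K)).range := by
  classical
  have hq : 2 ≤ Fintype.card F := Fintype.one_lt_card
  have hK : Fintype.card K = Fintype.card F ^ n := by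
    rw [← hdim]; exact Module.card_eq_pow_finrank
  -- a primitive prime divisor
  obtain ⟨r, hr, hrd, hprim⟩ := Cfsg.Agent.S2904.result (Fintype.card F) n (by omega) (by omega)
    (by rintro ⟨h1, h2⟩; exact hex1 ⟨h2, h1⟩)
    (by
      rintro ⟨h1, a, ha⟩
      apply hex2
      refine ⟨h1, ?_, a, ha⟩
      obtain ⟨p, _, f, hp, hf⟩ := FiniteField.card' F
      rw [hf] at ha ⊢
      have := eq_one_of_pow_add_one hp f.ne_zero ha
      rw [this, pow_one]
      exact hp)
  have : Fact r.Prime := ⟨hr⟩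
  let ψ : Kˣ →* (Module.End F K)ˣ :=
    Units.map ((Algebra.lmul F K : K →ₐ[F] Module.End F K) : K →* Module.End F K)
  have hψ : Function.Injective ψ := Units.map_injective Algebra.lmul_injective
  have hMcard : Nat.card ψ.range = Fintype.card F ^ n - 1 := by
    rw [← Nat.card_congr (MonoidHom.ofInjective hψ).toEquiv, Nat.card_units,
      Nat.card_eq_fintype_card, hK]
  have hfinE0 : Finite (Module.End F K) :=
    Finite.of_injective (fun f : Module.End F K => (f : K → K)) DFunLike.coe_injective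
  have hfinE : Finite (Module.End F K)ˣ := Finite.of_injective (fun u => u.1) Units.val_injective
  have hGLcard : Nat.card (Module.End F K)ˣ
      = ∏ i : Fin n, (Fintype.card F ^ n - Fintype.card F ^ (i : ℕ)) := by
    let b : Basis (Fin n) F K := Module.finBasisOfFinrankEq F K hdim
    rw [Nat.card_congr (Units.mapEquiv (LinearMap.toMatrixAlgEquiv b).toMulEquiv).toEquiv]
    exact Matrix.card_GL_field n
  have hfac : (Nat.card ψ.range).factorization r = (Nat.card (Module.End F K)ˣ).factorization r := by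
    rw [hMcard, hGLcard, factorization_prod hq hn hr hrd hprim]
  -- an element of order `r` in `U`
  have hfinU : Finite U := inferInstance
  have hrU : r ∣ Nat.card U := by rw [hcard, hK]; exact hrd
  obtain ⟨y, hy⟩ := exists_prime_orderOf_dvd_card' r hrU
  have hy' : orderOf (y : (Module.End F K)ˣ) = r := by rw [Subgroup.orderOf_coe]; exact hy
  obtain ⟨g, ζ, hζ⟩ := Singer.exists_conj_mem r ψ.range hfac (y : (Module.End F K)ˣ) hy'
  have hordζ : orderOf ζ = r := by
    rw [← orderOf_injective ψ hψ ζ, hζ, ← hy']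
    have : g⁻¹ * (y : (Module.End F K)ˣ) * g = MulAut.conj g⁻¹ (y : (Module.End F K)ˣ) := by
      rw [MulAut.conj_apply, inv_inv]
    rw [this]
    exact orderOf_injective (MulAut.conj g⁻¹).toMonoidHom (MulAut.conj g⁻¹).injective _
  have hadj : Algebra.adjoin F {(ζ : K)} = ⊤ := by
    apply Singer.adjoin_eq_top_of_orderOf r _ ζ hordζ
    rw [hdim]
    intro d hd hlt
    exact hprim d (Nat.pos_of_dvd_of_pos hd (by omega)) hlt
  refine ⟨g⁻¹, ?_⟩
  apply Subgroup.eq_of_le_of_card_ge
  · rintro _ ⟨u, hu, rfl⟩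
    have hcomm : u * (y : (Module.End F K)ˣ) = (y : (Module.End F K)ˣ) * u := by
      have := hU.is_comm.comm ⟨u, hu⟩ y
      exact congrArg Subtype.val this
    have h1 : (g⁻¹ * u * g) * ψ ζ = ψ ζ * (g⁻¹ * u * g) := by
      rw [hζ]
      calc g⁻¹ * u * g * (g⁻¹ * (y : (Module.End F K)ˣ) * g)
          = g⁻¹ * (u * (y : (Module.End F K)ˣ)) * g := by group
        _ = g⁻¹ * ((y : (Module.End F K)ˣ) * u) * g := by rw [hcomm]
        _ = g⁻¹ * (y : (Module.End F K)ˣ) * g * (g⁻¹ * u * g) := by group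
    have h2 : ((g⁻¹ * u * g : (Module.End F K)ˣ) : Module.End F K) * Algebra.lmul F K (ζ : K)
        = Algebra.lmul F K (ζ : K) * ((g⁻¹ * u * g : (Module.End F K)ˣ) : Module.End F K) := by
      have := congrArg Units.val h1
      exact this
    obtain ⟨a, ha⟩ := exists_eq_lmul (ζ : K) hadj _ h2
    have ha0 : a ≠ 0 := by
      intro h0
      rw [h0, map_zero] at ha
      exact (g⁻¹ * u * g).ne_zero ha
    refine ⟨Units.mk0 a ha0, ?_⟩
    apply Units.ext
    show Algebra.lmul F K a = _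
    rw [← ha]
    show _ = ((MulAut.conj g⁻¹) u : (Module.End F K)ˣ).1
    rw [MulAut.conj_apply, inv_inv]
  · rw [hMcard, Subgroup.card_map_of_injective (MulAut.conj g⁻¹).injective, hcard, hK]

end Cfsg.Agent.S5947
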