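import Cfsg.Statements.S5949
import Cfsg.Agent.Lib.Helper15.PSub8

set_option autoImplicit false
open scoped MatrixGroups
open Cfsg

namespace Cfsg.Agent.S5949

open Cfsg.Agent.Lib.Helper15.PSub Module

/-- Elements of prime order of PSL_n(q) with no fixed `m`-space. Here `T = PSL_n(F)` for a field `F` with `q = p^f` elements (`n ≥ 2`, `(n, q) ≠ (2, 2), (2, 3)`); an element of `T` of prime order `r` is represented by a matrix `x` of determinant 1 with `x^r` scalar and `x` not scalar; `i` denotes the multiplicative order of `q` modulo `r` (when `r ≠ p`), and `(a)_r` the `r`-part of `a`. Let `1 ≤ m ≤ n/2` and let `r` be a prime dividing the number of `m`-dimensional subspaces of `F^n`. Then every element of `T` of order `r` fixes some `m`-dimensional subspace (the action on `m`-spaces is `r`-elusive) if and only if `r ≠ p` and either (i) `i = 1` and (`r ∣ m`, or `(q−1)_r ≥ (n)_r` where in addition `q ≡ 1 (mod 4)` is required when `r = 2` and `n` is even), or (ii) `2 ≤ i ≤ m` and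 `n mod i ≥ m mod i`. -/
theorem result {F : Type*} [Field F] [Fintype F] {p : ℕ} [Fact p.Prime] [CharP F p] {q : ℕ} (hq : Fintype.card F = q)
    (n m : ℕ) (hn : 2 ≤ n) (hT : (n, q) ≠ (2, 2) ∧ (n, q) ≠ (2, 3)) (hm : 1 ≤ m) (hmn : 2 * m ≤ n)
    (r : ℕ) [Fact r.Prime] (hrΩ : r ∣ Nat.card {W : Submodule F (Fin n → F) // Module.finrank F ↥W = m}) :
    (∀ x : Matrix.SpecialLinearGroup (Fin n) F,
      (∃ c : F, ((x ^ r : Matrix.SpecialLinearGroup (Fin n) F) : Matrix (Fin n) (Fin n) F) = c • (1 : Matrix (Fin n) (Fin n) F)) →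
      (∀ c : F, (x : Matrix (Fin n) (Fin n) F) ≠ c • (1 : Matrix (Fin n) (Fin n) F)) →
      ∃ W : Submodule F (Fin n → F), Module.finrank F ↥W = m ∧ W.map (Matrix.toLin' (x : Matrix (Fin n) (Fin n) F)) ≤ W) ↔
    (r ≠ p ∧
      ((orderOf (q : ZMod r) = 1 ∧ (r ∣ m ∨ (padicValNat r n ≤ padicValNat r (q - 1) ∧ (r = 2 → Even n → q % 4 = 1)))) ∨
       (2 ≤ orderOf (q : ZMod r) ∧ orderOf (q : ZMod r) ≤ m ∧ m % orderOf (q : ZMod r) ≤ n % orderOf (q : ZMod r)))) := by
  subst hq
  have hr : r.Prime := Fact.out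
  have hfr : finrank F (Fin n → F) = n := Module.finrank_fin_fun F
  have hq1 : 1 ≤ Fintype.card F := Fintype.card_pos
  have hrp : r ≠ p := by
    rintro rfl
    exact not_dvd_card_subspaces (F := F) (V := Fin n → F) r m (by rw [hfr]; omega) hrΩ
  set i := orderOf ((Fintype.card F : ℕ) : ZMod r) with hi
  have hipos : 0 < i := orderOf_pos_of_ne p r hrp
  obtain ⟨t, ht1, ht2, ht3⟩ := dvd_card_subspaces (F := F) (V := Fin n → F) r hr m
    (by rw [hfr]; omega) hrΩ
  rw [hfr] at ht1 ht2
  have hit : i ∣ t := (orderOf_zmod_dvd_iff _ r t hq1).mpr ht3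
  constructor
  · intro h
    refine ⟨hrp, ?_⟩
    by_cases hi1 : i = 1
    · left
      refine ⟨hi1, ?_⟩
      by_contra hcon
      have hrm : ¬ r ∣ m := fun h' => hcon (Or.inl h')
      have hbad : ¬ (padicValNat r n ≤ padicValNat r (Fintype.card F - 1) ∧
          (r = 2 → Even n → Fintype.card F % 4 = 1)) := fun h' => hcon (Or.inr h')
      have hrq : r ∣ Fintype.card F - 1 := (orderOf_zmod_eq_one_iff _ r hq1).mp hi1
      obtain ⟨x, hdet, ⟨c, hc⟩, hns, hdiv⟩ := bad_i1 r hr hrq n (by omega) hbad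
      obtain ⟨W, hWd, hW⟩ := h (toSL x hdet)
        ⟨c, (pow_SL_iff _ r c).mpr (by rw [toLin'_toSL]; exact hc)⟩
        (fun z hz => hns z (by rw [← toLin'_toSL x hdet]; exact (scalar_SL_iff _ z).mp hz))
      rw [toLin'_toSL] at hW
      have := hdiv W ((Module.End.mem_invtSubmodule_iff_map_le _).mpr hW)
      rw [hWd] at this
      exact hrm this
    · right
      have hi2 : 2 ≤ i := by omega
      have hrq : ¬ r ∣ Fintype.card F - 1 := fun h' => hi1 ((orderOf_zmod_eq_one_iff _ r hq1).mpr h')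
      have hin : i ≤ n := by
        have : i ≤ t := Nat.le_of_dvd (by omega) hit
        omega
      obtain ⟨y, hdet, hy, hns, hE⟩ := bad_i2 p r hrp hrq n hin
      obtain ⟨W, hWd, hW⟩ := h (toSL y hdet)
        ⟨1, (pow_SL_iff _ r 1).mpr (by rw [toLin'_toSL, one_smul]; exact hy)⟩
        (fun z hz => hns z (by rw [← toLin'_toSL y hdet]; exact (scalar_SL_iff _ z).mp hz))
      rw [toLin'_toSL] at hW
      obtain ⟨j, hj⟩ := invt_profile p r hrp y hy W ((Module.End.mem_invtSubmodule_iff_map_le _).mpr hW)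
      rw [hWd] at hj
      have hu : finrank F ↥(W ⊓ Module.End.eigenspace y 1) ≤ n % i :=
        (Submodule.finrank_mono inf_le_right).trans hE
      have hni : n % i < i := Nat.mod_lt n hipos
      have hmod : m % i = finrank F ↥(W ⊓ Module.End.eigenspace y 1) := by
        rw [hj, Nat.add_mul_mod_self_right, Nat.mod_eq_of_lt (by omega)]
      have hmi : m % i ≤ n % i := by rw [hmod]; exact hu
      refine ⟨hi2, ?_, hmi⟩
      by_contra hlt
      have hlt : m < i := by omega
      rw [Nat.mod_eq_of_lt hlt] at hmi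
      obtain ⟨t', rfl⟩ := hit
      have h1 : n % i = n - i * t' := by
        have h2 : n = (n - i * t') + i * t' := by omega
        conv_lhs => rw [h2, Nat.add_mul_mod_self_left]
        exact Nat.mod_eq_of_lt (by omega)
      omega
  · rintro ⟨-, hcond⟩ X ⟨c, hc⟩ -
    have hx := (pow_SL_iff X r c).mp hc
    have hcond' : (orderOf ((Fintype.card F : ℕ) : ZMod r) = 1 ∧ (r ∣ m ∨
        (padicValNat r (finrank F (Fin n → F)) ≤ padicValNat r (Fintype.card F - 1) ∧
          (r = 2 → Even (finrank F (Fin n → F)) → Fintype.card F % 4 = 1)))) ∨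
      (2 ≤ orderOf ((Fintype.card F : ℕ) : ZMod r) ∧
        m % orderOf ((Fintype.card F : ℕ) : ZMod r) ≤
          finrank F (Fin n → F) % orderOf ((Fintype.card F : ℕ) : ZMod r)) := by
      rw [hfr]
      rcases hcond with h | ⟨h1, -, h3⟩
      · exact Or.inl h
      · exact Or.inr ⟨h1, h3⟩
    obtain ⟨U, W, -, hU, -, hUd⟩ := good_mspace p r hrp _ (det_toLin'_SL X) c hx
      (by rw [hfr]; omega) m (by rw [hfr]; omega) hcond'
    exact ⟨U, hUd, (Module.End.mem_invtSubmodule_iff_map_le _).mp hU⟩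

end Cfsg.Agent.S5949
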