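import Cfsg.Statements.S5950
import Cfsg.Agent.Lib.Helper15.PSub9
import Cfsg.Agent.Lib.Helper15.PSub10
import Cfsg.Agent.Lib.Helper15.PSub12

set_option autoImplicit false
open scoped MatrixGroups
open Cfsg

namespace Cfsg.Agent.S5950

open Cfsg.Agent.Lib.Helper15.PSub Module

/-- Elements of prime order of PSL_n(q) fixing no decomposition `F^n = U ⊕ W` with `dim U = m`. Here `T = PSL_n(F)` for a field `F` with `q = p^f` elements (`n ≥ 2`, `(n, q) ≠ (2, 2), (2, 3)`); an element of `T` of prime order `r` is represented by a matrix `x` of determinant 1 with `x^r` scalar and `x` not scalar; `i` denotes the multiplicative order of `q` modulo `r` (when `r ≠ p`), and `(a)_r` the `r`-part of `a`. Let `n ≥ 3`, `1 ≤ m < n/2`, and let `r` be a prime dividing the number of such decompositions (unordered pairs `{U, W}` of complementary subspaces with `dim U = m`; since `m ≠ n − m` these are the ordered pairs with `dim U = m`). Then every element of `T` of order `r` fixes such a pair (fixes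 both `U` and `W` for some complementary `U, W` with `dim U = m`) if and only if one of: (i) `r = p > 2` and every partition of `n` into parts of size at most `p` contains, as a sub-multiset, a partition of `m`; (ii) `r = p = 2` and `n` is odd or `m` is even; (iii) `r ≠ p`, `i = 1`, and `r ∣ m` or `(q−1)_r ≥ (n)_r` (with `q ≡ 1 (mod 4)` required when `r = 2` and `n` is even); (iv) `r ≠ p`, `2 ≤ i ≤ m` and `n mod i ≥ m mod i`. -/
theorem result {F : Type*} [Field F] [Fintype F] {p : ℕ} [Fact p.Prime] [CharP F p] {q : ℕ} (hq : Fintype.card F = q)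
    (n m : ℕ) (hn : 3 ≤ n) (hm : 1 ≤ m) (hmn : 2 * m < n)
    (r : ℕ) [Fact r.Prime]
    (hrΩ : r ∣ Nat.card {P : Submodule F (Fin n → F) × Submodule F (Fin n → F) // IsCompl P.1 P.2 ∧ Module.finrank F ↥P.1 = m}) :
    (∀ x : Matrix.SpecialLinearGroup (Fin n) F,
      (∃ c : F, ((x ^ r : Matrix.SpecialLinearGroup (Fin n) F) : Matrix (Fin n) (Fin n) F) = c • (1 : Matrix (Fin n) (Fin n) F)) →
      (∀ c : F, (x : Matrix (Fin n) (Fin n) F) ≠ c • (1 : Matrix (Fin n) (Fin n) F)) →
      ∃ U W : Submodule F (Fin n → F), IsCompl U W ∧ Module.finrank F ↥U = m ∧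
        U.map (Matrix.toLin' (x : Matrix (Fin n) (Fin n) F)) ≤ U ∧ W.map (Matrix.toLin' (x : Matrix (Fin n) (Fin n) F)) ≤ W) ↔
    ((r = p ∧ 2 < p ∧ (∀ μ : Multiset ℕ, (∀ a ∈ μ, 0 < a ∧ a ≤ p) → μ.sum = n → ∃ ν : Multiset ℕ, ν ≤ μ ∧ ν.sum = m)) ∨
     (r = p ∧ p = 2 ∧ (Odd n ∨ Even m)) ∨
     (r ≠ p ∧
      ((orderOf (q : ZMod r) = 1 ∧ (r ∣ m ∨ (padicValNat r n ≤ padicValNat r (q - 1) ∧ (r = 2 → Even n → q % 4 = 1)))) ∨
       (2 ≤ orderOf (q : ZMod r) ∧ orderOf (q : ZMod r) ≤ m ∧ m % orderOf (q : ZMod r) ≤ n % orderOf (q : ZMod r))))) := by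
  subst hq
  have hr : r.Prime := Fact.out
  have hp : p.Prime := Fact.out
  have hfr : finrank F (Fin n → F) = n := Module.finrank_fin_fun F
  have hq1 : 1 ≤ Fintype.card F := Fintype.card_pos
  -- the End-level form of the left-hand side
  have hLHS : (∀ x : Matrix.SpecialLinearGroup (Fin n) F,
      (∃ c : F, ((x ^ r : Matrix.SpecialLinearGroup (Fin n) F) : Matrix (Fin n) (Fin n) F) = c • (1 : Matrix (Fin n) (Fin n) F)) →
      (∀ c : F, (x : Matrix (Fin n) (Fin n) F) ≠ c • (1 : Matrix (Fin n) (Fin n) F)) →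
      ∃ U W : Submodule F (Fin n → F), IsCompl U W ∧ Module.finrank F ↥U = m ∧
        U.map (Matrix.toLin' (x : Matrix (Fin n) (Fin n) F)) ≤ U ∧ W.map (Matrix.toLin' (x : Matrix (Fin n) (Fin n) F)) ≤ W) →
      ∀ x : (Fin n → F) →ₗ[F] (Fin n → F), LinearMap.det x = 1 →
        (∃ c : F, x ^ r = c • (1 : (Fin n → F) →ₗ[F] (Fin n → F))) →
        (∀ z : F, x ≠ z • (1 : (Fin n → F) →ₗ[F] (Fin n → F))) →
        ∃ U W : Submodule F (Fin n → F), IsCompl U W ∧ U ∈ Module.End.invtSubmodule x ∧
          W ∈ Module.End.invtSubmodule x ∧ finrank F U = m := by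
    intro h x hdet ⟨c, hc⟩ hns
    obtain ⟨U, W, hUW, hUd, hU, hW⟩ := h (toSL x hdet)
      ⟨c, (pow_SL_iff _ r c).mpr (by rw [toLin'_toSL]; exact hc)⟩
      (fun z hz => hns z (by rw [← toLin'_toSL x hdet]; exact (scalar_SL_iff _ z).mp hz))
    rw [toLin'_toSL] at hU hW
    exact ⟨U, W, hUW, (Module.End.mem_invtSubmodule_iff_map_le _).mpr hU,
      (Module.End.mem_invtSubmodule_iff_map_le _).mpr hW, hUd⟩
  by_cases hrp : r = p
  · subst hrp
    have key : (∀ x : Matrix.SpecialLinearGroup (Fin n) F,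
      (∃ c : F, ((x ^ r : Matrix.SpecialLinearGroup (Fin n) F) : Matrix (Fin n) (Fin n) F) = c • (1 : Matrix (Fin n) (Fin n) F)) →
      (∀ c : F, (x : Matrix (Fin n) (Fin n) F) ≠ c • (1 : Matrix (Fin n) (Fin n) F)) →
      ∃ U W : Submodule F (Fin n → F), IsCompl U W ∧ Module.finrank F ↥U = m ∧
        U.map (Matrix.toLin' (x : Matrix (Fin n) (Fin n) F)) ≤ U ∧ W.map (Matrix.toLin' (x : Matrix (Fin n) (Fin n) F)) ≤ W) ↔
      (∀ μ : Multiset ℕ, (∀ a ∈ μ, 0 < a ∧ a ≤ r) → μ.sum = n → ∃ ν : Multiset ℕ, ν ≤ μ ∧ ν.sum = m) := by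
      constructor
      · intro h
        apply unip_necessity (F := F) r n m (by omega)
        intro x hdet hx hns
        exact hLHS h x hdet ⟨1, by rw [one_smul]; exact hx⟩ hns
      · intro hPC X ⟨c, hc⟩ _
        have hx := (pow_SL_iff X r c).mp hc
        have hc0 : c ≠ 0 := smul_ne_zero_of_pow _ (det_toLin'_SL X) r c hx (by rw [hfr]; omega)
        have hrq : ¬ r ∣ Fintype.card F - 1 := by
          intro hd
          obtain ⟨⟨f, hf0⟩, -, hf⟩ := FiniteField.card F r
          have h1 : r ∣ Fintype.card F := by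
            rw [hf]
            exact dvd_pow_self r (by positivity)
          have h2 : r ∣ 1 := by
            have := Nat.dvd_sub h1 hd
            rwa [Nat.sub_sub_self hq1] at this
          exact hr.one_lt.ne' (Nat.dvd_one.mp h2)
        obtain ⟨b, hb0, hb⟩ := exists_pow_eq_of_not_dvd r hr hrq c hc0
        rw [← hb] at hx
        have hy := scale_pow _ r b hb0 hx
        obtain ⟨U, W, hUW, hU, hW, hUd⟩ := unip_split r _ hy m (by rw [hfr]; exact hPC)
        exact ⟨U, W, hUW, hUd,
          (Module.End.mem_invtSubmodule_iff_map_le _).mp ((scale_invt _ b hb0 U).mp hU),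
          (Module.End.mem_invtSubmodule_iff_map_le _).mp ((scale_invt _ b hb0 W).mp hW)⟩
    rw [key]
    constructor
    · intro hPC
      by_cases hp2 : r = 2
      · right; left
        refine ⟨rfl, hp2, (two_part_iff n m (by omega)).mp ?_⟩
        rw [hp2] at hPC
        exact hPC
      · left
        exact ⟨rfl, by have := hr.two_le; omega, hPC⟩
    · rintro (⟨-, -, hPC⟩ | ⟨-, hp2, h⟩ | ⟨hne, -⟩)
      · exact hPC
      · have := (two_part_iff n m (by omega)).mpr h
        rw [hp2]
        exact this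
      · exact absurd rfl hne
  · -- `r ≠ p`
    rw [card_pairs m (by rw [hfr]; omega), hfr] at hrΩ
    have hrg : r ∣ gauss (Fintype.card F) n m := by
      rcases (Nat.Prime.dvd_mul hr).mp hrΩ with h | h
      · exact h
      · exfalso
        have h1 := hr.dvd_of_dvd_pow h
        obtain ⟨⟨f, hf0⟩, -, hf⟩ := FiniteField.card F p
        rw [hf] at h1
        have h2 := hr.dvd_of_dvd_pow h1
        exact hrp ((Nat.prime_dvd_prime_iff_eq hr hp).mp h2)
    obtain ⟨t, ht1, ht2, ht3⟩ := dvd_gauss F r hr n m (by omega) hrg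
    have hit : orderOf ((Fintype.card F : ℕ) : ZMod r) ∣ t :=
      (orderOf_zmod_dvd_iff _ r t hq1).mpr ht3
    constructor
    · intro h
      right; right
      refine ⟨hrp, ?_⟩
      apply necessity_mspace p r hrp n m (by omega) hm ⟨t, ht1, ht2, hit⟩
      intro x hdet hc hns
      obtain ⟨U, W, -, hU, -, hUd⟩ := hLHS h x hdet hc hns
      exact ⟨U, hU, hUd⟩
    · rintro (⟨h, -⟩ | ⟨h, -⟩ | ⟨-, hcond⟩)
      · exact absurd h hrp
      · exact absurd h hrp
      · intro X ⟨c, hc⟩ _
        have hx := (pow_SL_iff X r c).mp hc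
        have hcond' : (orderOf ((Fintype.card F : ℕ) : ZMod r) = 1 ∧ (r ∣ m ∨
            (padicValNat r (finrank F (Fin n → F)) ≤ padicValNat r (Fintype.card F - 1) ∧
              (r = 2 → Even (finrank F (Fin n → F)) → Fintype.card F % 4 = 1)))) ∨
          (2 ≤ orderOf ((Fintype.card F : ℕ) : ZMod r) ∧
            m % orderOf ((Fintype.card F : ℕ) : ZMod r) ≤
              finrank F (Fin n → F) % orderOf ((Fintype.card F : ℕ) : ZMod r)) := by
          rw [hfr]
          rcases hcond with h | ⟨h1, -, h3⟩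
          · exact Or.inl h
          · exact Or.inr ⟨h1, h3⟩
        obtain ⟨U, W, hUW, hU, hW, hUd⟩ := good_mspace p r hrp _ (det_toLin'_SL X) c hx
          (by rw [hfr]; omega) m (by rw [hfr]; omega) hcond'
        exact ⟨U, W, hUW, hUd, (Module.End.mem_invtSubmodule_iff_map_le _).mp hU,
          (Module.End.mem_invtSubmodule_iff_map_le _).mp hW⟩

end Cfsg.Agent.S5950
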