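import Cfsg.Statements.S5951
import Cfsg.Agent.Lib.Helper15.PSub8
import Cfsg.Agent.Lib.Helper15.PSub9

set_option autoImplicit false
open scoped MatrixGroups
open Cfsg

namespace Cfsg.Agent.S5951

open Cfsg.Agent.Lib.Helper15.PSub Module

theorem sub_mod_aux (n m i : ℕ) (hmn : m ≤ n) (hb : m % i ≤ n % i) :
    (n - m) % i = n % i - m % i := by
  rcases Nat.eq_zero_or_pos i with h0 | hi
  · subst h0
    simp
  have h1 := Nat.div_add_mod n i
  have h2 := Nat.div_add_mod m i
  have h3 : m / i ≤ n / i := Nat.div_le_div_right hmn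
  have h4 : i * (m / i) ≤ i * (n / i) := Nat.mul_le_mul_left i h3
  have h5 : n - m = (n / i - m / i) * i + (n % i - m % i) := by
    rw [Nat.sub_mul, mul_comm (n / i) i, mul_comm (m / i) i]
    omega
  rw [h5, Nat.mul_add_mod_self_right]
  apply Nat.mod_eq_of_lt
  have := Nat.mod_lt n hi
  omega

/-- Elements of prime order of PSL_n(q) fixing no pair of subspaces `U < W` with `dim U = m`, `dim W = n − m`. Here `T = PSL_n(F)` for a field `F` with `q = p^f` elements (`n ≥ 2`, `(n, q) ≠ (2, 2), (2, 3)`); an element of `T` of prime order `r` is represented by a matrix `x` of determinant 1 with `x^r` scalar and `x` not scalar; `i` denotes the multiplicative order of `q` modulo `r` (when `r ≠ p`), and `(a)_r` the `r`-part of `a`. Let `1 ≤ m < n/2` and let `r` be a prime dividing the number of such pairs. Then every element of `T` of order `r` fixes such a pair (both `U` and `W`) if and only if `r ≠ p` and either (i) `i = 1` and (`r ∣ m`, or `(q−1)_r ≥ (n)_r` with `q ≡ 1 (mod 4)`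 required when `r = 2` and `n` is even), or (ii) `2 ≤ i ≤ m` and `n mod i ≥ 2 (m mod i)`. -/
theorem result {F : Type*} [Field F] [Fintype F] {p : ℕ} [Fact p.Prime] [CharP F p] {q : ℕ} (hq : Fintype.card F = q)
    (n m : ℕ) (hn : 2 ≤ n) (hT : (n, q) ≠ (2, 2) ∧ (n, q) ≠ (2, 3)) (hm : 1 ≤ m) (hmn : 2 * m < n)
    (r : ℕ) [Fact r.Prime]
    (hrΩ : r ∣ Nat.card {P : Submodule F (Fin n → F) × Submodule F (Fin n → F) //
        P.1 ≤ P.2 ∧ Module.finrank F ↥P.1 = m ∧ Module.finrank F ↥P.2 = n - m}) :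
    (∀ x : Matrix.SpecialLinearGroup (Fin n) F,
      (∃ c : F, ((x ^ r : Matrix.SpecialLinearGroup (Fin n) F) : Matrix (Fin n) (Fin n) F) = c • (1 : Matrix (Fin n) (Fin n) F)) →
      (∀ c : F, (x : Matrix (Fin n) (Fin n) F) ≠ c • (1 : Matrix (Fin n) (Fin n) F)) →
      ∃ U W : Submodule F (Fin n → F), U ≤ W ∧ Module.finrank F ↥U = m ∧ Module.finrank F ↥W = n - m ∧
        U.map (Matrix.toLin' (x : Matrix (Fin n) (Fin n) F)) ≤ U ∧ W.map (Matrix.toLin' (x : Matrix (Fin n) (Fin n) F)) ≤ W) ↔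
    (r ≠ p ∧
      ((orderOf (q : ZMod r) = 1 ∧ (r ∣ m ∨ (padicValNat r n ≤ padicValNat r (q - 1) ∧ (r = 2 → Even n → q % 4 = 1)))) ∨
       (2 ≤ orderOf (q : ZMod r) ∧ orderOf (q : ZMod r) ≤ m ∧ 2 * (m % orderOf (q : ZMod r)) ≤ n % orderOf (q : ZMod r)))) := by
  subst hq
  have hr : r.Prime := Fact.out
  have hfr : finrank F (Fin n → F) = n := Module.finrank_fin_fun F
  have hq1 : 1 ≤ Fintype.card F := Fintype.card_pos
  rw [card_flags m (n - m) (by rw [hfr]; omega) (by omega), hfr,
    gauss_symm _ n m (by omega)] at hrΩ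
  have hrp : r ≠ p := by
    rintro rfl
    rcases (Nat.Prime.dvd_mul hr).mp hrΩ with h | h
    · exact not_dvd_gauss F r n m (by omega) h
    · exact not_dvd_gauss F r (n - m) m (by omega) h
  set i := orderOf ((Fintype.card F : ℕ) : ZMod r) with hi
  have hipos : 0 < i := orderOf_pos_of_ne p r hrp
  have hcount : (∃ t, n - m < t ∧ t ≤ n ∧ i ∣ t) ∨ (∃ t, n - m - m < t ∧ t ≤ n - m ∧ i ∣ t) := by
    rcases (Nat.Prime.dvd_mul hr).mp hrΩ with h | h
    · left
      obtain ⟨t, h1, h2, h3⟩ := dvd_gauss F r hr n m (by omega) h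
      exact ⟨t, h1, h2, (orderOf_zmod_dvd_iff _ r t hq1).mpr h3⟩
    · right
      obtain ⟨t, h1, h2, h3⟩ := dvd_gauss F r hr (n - m) m (by omega) h
      exact ⟨t, h1, h2, (orderOf_zmod_dvd_iff _ r t hq1).mpr h3⟩
  constructor
  · intro h
    refine ⟨hrp, ?_⟩
    by_cases hi1 : i = 1
    · left
      refine ⟨hi1, ?_⟩
      by_contra hcon
      have hrm : ¬ r ∣ m := fun h' => hcon (Or.inl h')
      have hbad : ¬ (padicValNat r n ≤ padicValNat r (Fintype.card F - 1) ∧
          (r = 2 → Even n → Fintype.card F % 4 = 1)) := fun h' => hcon (Or.inr h')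
      have hrq : r ∣ Fintype.card F - 1 := (orderOf_zmod_eq_one_iff _ r hq1).mp hi1
      obtain ⟨x, hdet, ⟨c, hc⟩, hns, hdiv⟩ := bad_i1 r hr hrq n (by omega) hbad
      obtain ⟨U, W, -, hUd, -, hU, -⟩ := h (toSL x hdet)
        ⟨c, (pow_SL_iff _ r c).mpr (by rw [toLin'_toSL]; exact hc)⟩
        (fun z hz => hns z (by rw [← toLin'_toSL x hdet]; exact (scalar_SL_iff _ z).mp hz))
      rw [toLin'_toSL] at hU
      have := hdiv U ((Module.End.mem_invtSubmodule_iff_map_le _).mpr hU)
      rw [hUd] at this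
      exact hrm this
    · right
      have hi2 : 2 ≤ i := by omega
      have hrq : ¬ r ∣ Fintype.card F - 1 := fun h' => hi1 ((orderOf_zmod_eq_one_iff _ r hq1).mpr h')
      have hin : i ≤ n := by
        rcases hcount with ⟨t, h1, h2, h3⟩ | ⟨t, h1, h2, h3⟩
        · have : i ≤ t := Nat.le_of_dvd (by omega) h3
          omega
        · have : i ≤ t := Nat.le_of_dvd (by omega) h3
          omega
      obtain ⟨y, hdet, hy, hns, hE⟩ := bad_i2 p r hrp hrq n hin
      obtain ⟨U, W, hUW, hUd, hWd, hU, hW⟩ := h (toSL y hdet)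
        ⟨1, (pow_SL_iff _ r 1).mpr (by rw [toLin'_toSL, one_smul]; exact hy)⟩
        (fun z hz => hns z (by rw [← toLin'_toSL y hdet]; exact (scalar_SL_iff _ z).mp hz))
      rw [toLin'_toSL] at hU hW
      obtain ⟨j, hj⟩ := invt_profile p r hrp y hy U ((Module.End.mem_invtSubmodule_iff_map_le _).mpr hU)
      obtain ⟨j', hj'⟩ := invt_profile p r hrp y hy W ((Module.End.mem_invtSubmodule_iff_map_le _).mpr hW)
      rw [hUd] at hj
      rw [hWd] at hj'
      have huW : finrank F ↥(W ⊓ Module.End.eigenspace y 1) ≤ n % i :=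
        (Submodule.finrank_mono inf_le_right).trans hE
      have huUW : finrank F ↥(U ⊓ Module.End.eigenspace y 1) ≤
          finrank F ↥(W ⊓ Module.End.eigenspace y 1) :=
        Submodule.finrank_mono (inf_le_inf_right _ hUW)
      have hni : n % i < i := Nat.mod_lt n hipos
      have hmodU : m % i = finrank F ↥(U ⊓ Module.End.eigenspace y 1) := by
        rw [hj, Nat.add_mul_mod_self_right, Nat.mod_eq_of_lt (by omega)]
      have hmodW : (n - m) % i = finrank F ↥(W ⊓ Module.End.eigenspace y 1) := by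
        rw [hj', Nat.add_mul_mod_self_right, Nat.mod_eq_of_lt (by omega)]
      have hb : m % i ≤ n % i := by omega
      have hsub := sub_mod_aux n m i (by omega) hb
      have h2b : 2 * (m % i) ≤ n % i := by omega
      refine ⟨hi2, ?_, h2b⟩
      by_contra hlt
      have hlt : m < i := by omega
      rw [Nat.mod_eq_of_lt hlt] at h2b hsub
      rcases hcount with ⟨t, h1, h2, t', rfl⟩ | ⟨t, h1, h2, t', rfl⟩
      · have h3 : n % i = n - i * t' := by
          have h4 : n = (n - i * t') + i * t' := by omega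
          conv_lhs => rw [h4, Nat.add_mul_mod_self_left]
          exact Nat.mod_eq_of_lt (by omega)
        omega
      · have h3 : (n - m) % i = n - m - i * t' := by
          have h4 : n - m = (n - m - i * t') + i * t' := by omega
          conv_lhs => rw [h4, Nat.add_mul_mod_self_left]
          exact Nat.mod_eq_of_lt (by omega)
        omega
  · rintro ⟨-, hcond⟩ X ⟨c, hc⟩ -
    have hx := (pow_SL_iff X r c).mp hc
    have hcond' : (orderOf ((Fintype.card F : ℕ) : ZMod r) = 1 ∧ (r ∣ m ∨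
        (padicValNat r (finrank F (Fin n → F)) ≤ padicValNat r (Fintype.card F - 1) ∧
          (r = 2 → Even (finrank F (Fin n → F)) → Fintype.card F % 4 = 1)))) ∨
      (2 ≤ orderOf ((Fintype.card F : ℕ) : ZMod r) ∧
        2 * (m % orderOf ((Fintype.card F : ℕ) : ZMod r)) ≤
          finrank F (Fin n → F) % orderOf ((Fintype.card F : ℕ) : ZMod r)) := by
      rw [hfr]
      rcases hcond with h | ⟨h1, -, h3⟩
      · exact Or.inl h
      · exact Or.inr ⟨h1, h3⟩
    obtain ⟨U, W, hUW, hU, hW, hUd, hWd⟩ := good_flag p r hrp _ (det_toLin'_SL X) c hx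
      m (by rw [hfr]; omega) hcond'
    rw [hfr] at hWd
    exact ⟨U, W, hUW, hUd, hWd, (Module.End.mem_invtSubmodule_iff_map_le _).mp hU,
      (Module.End.mem_invtSubmodule_iff_map_le _).mp hW⟩

end Cfsg.Agent.S5951
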