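-- Statement S5952.
import Cfsg.Statements.S5952
-- import your own Cfsg.Agent.* helpers here

set_option autoImplicit false
open Cfsg

namespace Cfsg.Agent.S5952


section
variable {F V : Type*} [Field F] [AddCommGroup V] [Module F V] [FiniteDimensional F V]

theorem exists_sub_finrank (C : Submodule F V) (l : ℕ) (hl : l ≤ Module.finrank F C) :
    ∃ W₀ : Submodule F V, W₀ ≤ C ∧ Module.finrank F W₀ = l := by
  classical
  let b := Module.finBasis F C
  let v : Fin l → V := fun i => (b (Fin.castLE hl i) : V)
  have hli : LinearIndependent F v := by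
    have h1 : LinearIndependent F (fun i : Fin l => b (Fin.castLE hl i)) :=
      b.linearIndependent.comp _ (Fin.castLE_injective hl)
    exact h1.map' C.subtype (Submodule.ker_subtype C)
  refine ⟨Submodule.span F (Set.range v), ?_, ?_⟩
  · rw [Submodule.span_le]
    rintro _ ⟨i, rfl⟩
    exact (b (Fin.castLE hl i)).2
  · rw [finrank_span_eq_card hli, Fintype.card_fin]

/-- finrank of a sup of an independent family restricted to a finset, with sub-pieces -/
theorem finrank_biSup_of_indep {ι : Type*} [DecidableEq ι] (A : ι → Submodule F V) (hA : iSupIndep A)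
    (B : ι → Submodule F V) (hB : ∀ i, B i ≤ A i) (J : Finset ι) :
    Module.finrank F (⨆ i ∈ J, B i : Submodule F V) = ∑ i ∈ J, Module.finrank F (B i) := by
  induction J using Finset.induction_on with
  | empty => simp
  | insert i₀ J hi₀ ih =>
    rw [Finset.iSup_insert, Finset.sum_insert hi₀, ← ih]
    have hdisj : B i₀ ⊓ (⨆ i ∈ J, B i) = ⊥ := by
      have h1 : Disjoint (A i₀) (⨆ i ∈ (J : Set ι), A i) := hA.disjoint_biSup (by simpa using hi₀)
      rw [← le_bot_iff]
      have h2 : (⨆ i ∈ J, B i) ≤ ⨆ i ∈ (J : Set ι), A i := by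
        apply iSup₂_le
        intro i hi
        exact (hB i).trans (le_biSup A (by simpa using hi))
      exact (inf_le_inf (hB i₀) h2).trans (le_bot_iff.mpr (disjoint_iff.mp h1))
    have := Submodule.finrank_sup_add_finrank_inf_eq (B i₀) (⨆ i ∈ J, B i)
    rw [hdisj, finrank_bot, add_zero] at this
    exact this
end

section
variable {F V : Type*} [Field F] [AddCommGroup V] [Module F V] [FiniteDimensional F V]

theorem invar_sup (f : V →ₗ[F] V) (A B : Submodule F V) (hA : A.map f ≤ A) (hB : B.map f ≤ B) :
    (A ⊔ B).map f ≤ A ⊔ B := by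
  rw [Submodule.map_sup]; exact sup_le_sup hA hB

theorem invar_inf (f : V →ₗ[F] V) (A B : Submodule F V) (hA : A.map f ≤ A) (hB : B.map f ≤ B) :
    (A ⊓ B).map f ≤ A ⊓ B :=
  le_inf ((Submodule.map_mono inf_le_left).trans hA) ((Submodule.map_mono inf_le_right).trans hB)

theorem invar_biSup {ι : Type*} (f : V →ₗ[F] V) (U : ι → Submodule F V) (hU : ∀ j, (U j).map f ≤ U j)
    (J : Finset ι) : (⨆ j ∈ J, U j).map f ≤ ⨆ j ∈ J, U j := by
  rw [Submodule.map_iSup]
  apply iSup_le
  intro j
  rw [Submodule.map_iSup]
  apply iSup_le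
  intro hj
  exact (hU j).trans (le_biSup U hj)

theorem dvd_finrank_of_invariant {ι : Type*} [DecidableEq ι] (f : V →ₗ[F] V) (a : ℕ)
    (U : ι → Submodule F V) (hind : iSupIndep U)
    (hUinv : ∀ j, (U j).map f ≤ U j) (hUdim : ∀ j, Module.finrank F ↥(U j) = a)
    (hUirr : ∀ j, ∀ W : Submodule F V, W ≤ U j → W.map f ≤ W → W = ⊥ ∨ W = U j)
    (J : Finset ι) :
    ∀ W : Submodule F V, W ≤ (⨆ j ∈ J, U j) → W.map f ≤ W → a ∣ Module.finrank F W := by
  induction J using Finset.induction_on with
  | empty =>
    intro W hW _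
    have : W = ⊥ := by
      rw [eq_bot_iff]; simpa using hW
    rw [this, finrank_bot]; exact dvd_zero a
  | insert j₀ J hj₀ ih =>
    intro W hW hWinv
    set B := ⨆ j ∈ J, U j with hB
    have hBinv : B.map f ≤ B := invar_biSup f U hUinv J
    rw [Finset.iSup_insert] at hW
    have hdisj : Disjoint (U j₀) B := by
      have h1 : Disjoint (U j₀) (⨆ i ∈ (J : Set ι), U i) := hind.disjoint_biSup (by simpa using hj₀)
      simpa [hB] using h1
    set X := (W ⊔ B) ⊓ U j₀ with hX
    have hXinv : X.map f ≤ X := invar_inf f _ _ (invar_sup f _ _ hWinv hBinv) (hUinv j₀)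
    have hXle : X ≤ U j₀ := inf_le_right
    -- modular law: W ⊔ B = B ⊔ X
    have hmod : W ⊔ B = B ⊔ X := by
      apply le_antisymm
      · have h1 : W ⊔ B ≤ U j₀ ⊔ B := sup_le hW le_sup_right
        -- (W ⊔ B) = (W ⊔ B) ⊓ (B ⊔ U j₀) = B ⊔ ((W ⊔ B) ⊓ U j₀)
        have h2 : (B ⊔ U j₀) ⊓ (W ⊔ B) = B ⊔ U j₀ ⊓ (W ⊔ B) :=
          sup_inf_assoc_of_le (U j₀) (le_sup_right : B ≤ W ⊔ B)
        calc W ⊔ B = (B ⊔ U j₀) ⊓ (W ⊔ B) := by
              rw [inf_eq_right.mpr]; rw [sup_comm B]; exact h1
          _ = B ⊔ U j₀ ⊓ (W ⊔ B) := h2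
          _ ≤ B ⊔ X := by rw [hX, inf_comm]
      · exact sup_le le_sup_right (inf_le_left)
    have hBX : B ⊓ X = ⊥ := by
      rw [← le_bot_iff]
      exact (inf_le_inf le_rfl hXle).trans (le_bot_iff.mpr (disjoint_iff.mp hdisj.symm))
    have e1 := Submodule.finrank_sup_add_finrank_inf_eq B X
    rw [hBX, finrank_bot, add_zero, ← hmod] at e1
    have e2 := Submodule.finrank_sup_add_finrank_inf_eq W B
    have hW2 : a ∣ Module.finrank F ↥(W ⊓ B) := ih (W ⊓ B) inf_le_right (invar_inf f _ _ hWinv hBinv)
    have hXdim : a ∣ Module.finrank F X := by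
      rcases hUirr j₀ X hXle hXinv with h | h
      · rw [h, finrank_bot]; exact dvd_zero a
      · rw [h, hUdim]
    have : Module.finrank F W = Module.finrank F X + Module.finrank F ↥(W ⊓ B) := by omega
    rw [this]
    exact dvd_add hXdim hW2
end

section
variable {F V : Type*} [Field F] [AddCommGroup V] [Module F V] [FiniteDimensional F V]

theorem main_aux (f : V →ₗ[F] V)
    {s a : ℕ} (ha : 1 ≤ a) (U : Fin s → Submodule F V)
    (hUinv : ∀ j, (U j).map f ≤ U j) (hUdim : ∀ j, Module.finrank F ↥(U j) = a)
    (hUirr : ∀ j, ∀ W : Submodule F V, W ≤ U j → W.map f ≤ W → W = ⊥ ∨ W = U j)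
    (hdec : DirectSum.IsInternal (fun o : Option (Fin s) => o.elim (Module.End.eigenspace f 1) U))
    (m : ℕ) (hmV : m < Module.finrank F V) :
    (∃ W : Submodule F V, Module.finrank F ↥W = m ∧ W.map f ≤ W) ↔
    (m ≤ Module.finrank F ↥(Module.End.eigenspace f 1) ∨
      (a ≤ m ∧ m % a ≤ Module.finrank F ↥(Module.End.eigenspace f 1))) := by
  classical
  set C := Module.End.eigenspace f 1 with hC
  set A : Option (Fin s) → Submodule F V := fun o => o.elim C U with hA
  have hind : iSupIndep A := hdec.submodule_iSupIndep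
  have htop : ⨆ o, A o = ⊤ := hdec.submodule_iSup_eq_top
  have hindU : iSupIndep U := by
    have := hind.comp (Option.some_injective (Fin s))
    exact this
  have hCfix : ∀ x ∈ C, f x = x := by
    intro x hx
    rw [hC, Module.End.mem_eigenspace_iff, one_smul] at hx
    exact hx
  have hCinv : ∀ W₀ : Submodule F V, W₀ ≤ C → W₀.map f ≤ W₀ := by
    rintro W₀ hW₀ _ ⟨x, hx, rfl⟩
    rw [hCfix x (hW₀ hx)]; exact hx
  have hUtot_inv : (⨆ j ∈ (Finset.univ : Finset (Fin s)), U j).map f ≤ ⨆ j ∈ (Finset.univ : Finset (Fin s)), U j :=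
    invar_biSup f U hUinv Finset.univ
  have hsplit : (⊤ : Submodule F V) = C ⊔ ⨆ j ∈ (Finset.univ : Finset (Fin s)), U j := by
    rw [← htop, iSup_option]
    simp [hA]
  constructor
  · rintro ⟨W, hWm, hWinv⟩
    set g : V →ₗ[F] V := f - 1 with hg
    set W₁ := W.map g with hW₁
    have hW₁le : W₁ ≤ ⨆ j ∈ (Finset.univ : Finset (Fin s)), U j := by
      rintro _ ⟨w, _, rfl⟩
      have hw : w ∈ (⊤ : Submodule F V) := Submodule.mem_top
      rw [hsplit, Submodule.mem_sup] at hw
      obtain ⟨c, hc, u, hu, rfl⟩ := hw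
      have h1 : g c = 0 := by
        rw [hg, LinearMap.sub_apply, hCfix c hc, Module.End.one_apply, sub_self]
      rw [map_add, h1, zero_add, hg, LinearMap.sub_apply, Module.End.one_apply]
      exact Submodule.sub_mem _ (hUtot_inv ⟨u, hu, rfl⟩) hu
    have hW₁inv : W₁.map f ≤ W₁ := by
      rintro _ ⟨_, ⟨w, hw, rfl⟩, rfl⟩
      refine ⟨f w, hWinv ⟨w, hw, rfl⟩, ?_⟩
      simp [hg]
    have hdvd : a ∣ Module.finrank F W₁ :=
      dvd_finrank_of_invariant f a U hindU hUinv hUdim hUirr Finset.univ W₁ hW₁le hW₁inv
    have hrn := LinearMap.finrank_range_add_finrank_ker (g.domRestrict W)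
    rw [LinearMap.range_domRestrict] at hrn
    -- ker ≤ C
    have hker : Module.finrank F (LinearMap.ker (g.domRestrict W)) ≤ Module.finrank F C := by
      let φ : LinearMap.ker (g.domRestrict W) →ₗ[F] C :=
        { toFun := fun x => ⟨x.1.1, by
            have h3 : (f - 1) (x.1.1) = 0 := x.2
            rw [LinearMap.sub_apply, Module.End.one_apply, sub_eq_zero] at h3
            rw [hC, Module.End.mem_eigenspace_iff, one_smul]
            exact h3⟩
          map_add' := fun x y => rfl
          map_smul' := fun c x => rfl }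
      apply LinearMap.finrank_le_finrank_of_injective (f := φ)
      intro x y hxy
      apply Subtype.ext
      apply Subtype.ext
      exact congrArg (fun z : C => (z : V)) hxy
    rw [hWm] at hrn
    obtain ⟨k, hk⟩ := hdvd
    rw [← hW₁] at hrn
    rcases Nat.eq_zero_or_pos k with hk0 | hkpos
    · left
      rw [hk0, mul_zero] at hk
      omega
    · right
      have h1 : a ≤ a * k := Nat.le_mul_of_pos_right a hkpos
      refine ⟨by omega, ?_⟩
      have h2 : m = a * k + Module.finrank F (LinearMap.ker (g.domRestrict W)) := by omega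
      rw [h2, Nat.mul_add_mod]
      exact (Nat.mod_le _ _).trans hker
  · intro h
    have hdimV : Module.finrank F V = Module.finrank F C + s * a := by
      have h1 := finrank_biSup_of_indep A hind A (fun _ => le_rfl) Finset.univ
      have h2 : (⨆ i ∈ (Finset.univ : Finset (Option (Fin s))), A i) = ⊤ := by
        rw [← htop]; simp
      rw [h2, finrank_top, Fintype.sum_option] at h1
      rw [h1]
      show Module.finrank F C + ∑ x : Fin s, Module.finrank F (U x) = _
      rw [Finset.sum_congr rfl (fun j _ => hUdim j)]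
      simp
    rcases h with h | ⟨ham, hmod⟩
    · obtain ⟨W₀, hW₀C, hW₀m⟩ := exists_sub_finrank C m h
      exact ⟨W₀, hW₀m, hCinv W₀ hW₀C⟩
    · set k := m / a with hk
      have hka : a * k + m % a = m := Nat.div_add_mod m a
      set k' := min k s with hk'
      have hk's : k' ≤ s := min_le_right _ _
      have hk'k : k' ≤ k := min_le_left _ _
      have hk'a : k' * a ≤ m := by
        calc k' * a ≤ k * a := Nat.mul_le_mul_right a hk'k
          _ = a * k := mul_comm _ _
          _ ≤ m := by omega
      have hl' : m - k' * a ≤ Module.finrank F C := by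
        rcases le_total k s with hks | hks
        · have : k' = k := min_eq_left hks
          rw [this, mul_comm]; omega
        · have : k' = s := min_eq_right hks
          rw [this]; omega
      obtain ⟨W₀, hW₀C, hW₀m⟩ := exists_sub_finrank C (m - k' * a) hl'
      set B : Option (Fin s) → Submodule F V := fun o => o.elim W₀ U with hB
      have hBA : ∀ o, B o ≤ A o := by
        intro o
        cases o with
        | none => exact hW₀C
        | some j => exact le_rfl
      set J' : Finset (Fin s) := Finset.univ.map (Fin.castLEEmb hk's) with hJ'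
      set J : Finset (Option (Fin s)) := insert none (J'.map Function.Embedding.some) with hJ
      refine ⟨⨆ o ∈ J, B o, ?_, ?_⟩
      · rw [finrank_biSup_of_indep A hind B hBA J, hJ, Finset.sum_insert (by
          intro h
          rw [Finset.mem_map] at h
          obtain ⟨j, _, hj⟩ := h
          exact Option.some_ne_none j hj), Finset.sum_map]
        show Module.finrank F W₀ + ∑ x ∈ J', Module.finrank F (U x) = m
        rw [Finset.sum_congr rfl (fun j _ => hUdim j), hW₀m]
        rw [Finset.sum_const, hJ', Finset.card_map, Finset.card_univ, Fintype.card_fin, smul_eq_mul]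
        omega
      · apply invar_biSup f B _ J
        intro o
        cases o with
        | none => exact hCinv W₀ hW₀C
        | some j => exact hUinv j
end


/-- Which dimensions of invariant subspaces a semisimple linear map has. Let `V` be a finite-dimensional vector space over a field `F` and `f` an invertible semisimple linear map of `V`. Suppose `V` is the internal direct sum of the fixed space `C_V(f)` (the eigenspace for 1) and subspaces `U_1, …, U_s`, each `f`-invariant of dimension `a ≥ 1` on which `f` acts irreducibly (no `f`-invariant subspaces other than 0 and `U_j`). Let `0 < m < dim V` and `ℓ = m mod a`. Then `f` leaves some `m`-dimensional subspace invariant if and only if `dim C_V(f) ≥ m`, or `a ≤ m` and `dim C_V(f) ≥ ℓ`. -/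
theorem result {F V : Type*} [Field F] [AddCommGroup V] [Module F V]
    [FiniteDimensional F V] (f : V →ₗ[F] V) (hf : Function.Bijective f) (hss : Module.End.IsSemisimple f)
    {s a : ℕ} (ha : 1 ≤ a) (U : Fin s → Submodule F V)
    (hUinv : ∀ j, (U j).map f ≤ U j) (hUdim : ∀ j, Module.finrank F ↥(U j) = a)
    (hUirr : ∀ j, ∀ W : Submodule F V, W ≤ U j → W.map f ≤ W → W = ⊥ ∨ W = U j)
    (hdec : DirectSum.IsInternal (fun o : Option (Fin s) => o.elim (Module.End.eigenspace f 1) U))
    (m : ℕ) (hm : 0 < m) (hmV : m < Module.finrank F V) :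
    (∃ W : Submodule F V, Module.finrank F ↥W = m ∧ W.map f ≤ W) ↔
    (m ≤ Module.finrank F ↥(Module.End.eigenspace f 1) ∨
      (a ≤ m ∧ m % a ≤ Module.finrank F ↥(Module.End.eigenspace f 1))) := by
  exact main_aux f ha U hUinv hUdim hUirr hdec m hmV

end Cfsg.Agent.S5952
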