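import Mathlib
import Cfsg.Statements.S5953
import Cfsg.Agent.Lib.Helper12.HU19

set_option autoImplicit false
set_option linter.unusedVariables false
open scoped MatrixGroups
open Cfsg

namespace Cfsg.Agent.S5953

open Cfsg.Agent.Lib.Helper12.HU Cfsg.Agent.Lib.Helper6 Cfsg.Agent.S0779 Module

theorem sl_coe_mat {n : ℕ} {F : Type*} [Field F] (x : Matrix.SpecialLinearGroup (Fin n) F) :
    (Cfsg.slToMat n F x : Matrix (Fin n) (Fin n) F) = (x : Matrix (Fin n) (Fin n) F) := rfl

theorem mem_SU_iff {n : ℕ} {F : Type*} [Field F] {q : ℕ}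
    (x : Matrix.SpecialLinearGroup (Fin n) F) :
    x ∈ Cfsg.SU n F q ↔ ∀ u v, Cfsg.hermForm n F q ((x : Matrix (Fin n) (Fin n) F).mulVec u)
      ((x : Matrix (Fin n) (Fin n) F).mulVec v) = Cfsg.hermForm n F q u v := Iff.rfl

/-- the arithmetic bridge between `i = ord_r(q)` and `c = ord_r(-q)` -/
theorem bridge (i c : ℕ) (hc : c = if i % 4 = 0 then i else if i % 4 = 2 then i / 2 else 2 * i)
    (hcpos : 0 < c) :
    (Odd c ↔ i % 4 = 2) ∧ (c = 1 ↔ i = 2) := by
  split_ifs at hc with h0 h2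
  · refine ⟨⟨?_, ?_⟩, ⟨?_, ?_⟩⟩
    · rintro ⟨t, ht⟩
      omega
    · intro h
      omega
    · intro h
      omega
    · intro h
      omega
  · refine ⟨⟨fun _ => h2, ?_⟩, ⟨?_, ?_⟩⟩
    · intro _
      exact ⟨i / 4, by omega⟩
    · intro h
      omega
    · intro h
      omega
  · refine ⟨⟨?_, ?_⟩, ⟨?_, ?_⟩⟩
    · rintro ⟨t, ht⟩
      omega
    · intro h
      omega
    · intro h
      omega
    · intro h
      omega

/-- Elements of prime order of PSU_n(q) with no fixed totally isotropic `m`-space. Here `T = PSU_n(q)` (`n ≥ 3`, `(n, q) ≠ (3, 2)`), realised through the matrices of determinant 1 over the field `F` with `q²` elements preserving the Hermitian form `h(u, v) = Σ u_i v_i^q`; an element of `T` of prime order `r` is such a matrix `x` with `x^r` scalar and `x` not scalar. For `r ≠ p` let `i` be the multiplicative order of `q` modulo `r`, `b = i/2` for `i` even and `b = i` for `i` odd, `c = i, i/2, 2i` according as `i ≡ 0, 2 (mod 4)` or `i` odd, and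 write `k = n mod c`, `ℓ = m mod b`, `ℓ' = m mod c`, `n' = ⌊n/b⌋`, `m' = ⌊m/b⌋`, `s = (r−1)/b`; `(a)_r` is the `r`-part of `a`. Let `1 ≤ m ≤ n/2` and let `r` be a prime dividing the number of totally isotropic `m`-spaces. Then every element of `T` of order `r` fixes a totally isotropic `m`-space if and only if either (i) `r = 2`, `p ≠ 2`, and (`m < n/2` or `(q+1)_2 ≤ (n)_2`); or (ii) `r ≠ p`, `r > 2`, `b ≤ m`, `k ≥ 2ℓ`, and either `i ≢ 2 (mod 4)`, or `i ≡ 2 (mod 4)`, `n' − 2m' ≥ s` and (`i > 2`, or `i = 2` and (`r ∣ m` or `(q+1)_r ≥ (n)_r`)). -/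
theorem result {F : Type*} [Field F] [Fintype F] {p : ℕ} [Fact p.Prime] [CharP F p] {q : ℕ} (hq : Fintype.card F = q ^ 2)
    (n m : ℕ) (hn : 3 ≤ n) (hT : (n, q) ≠ (3, 2)) (hm : 1 ≤ m) (hmn : 2 * m ≤ n)
    (r : ℕ) [Fact r.Prime]
    (hrΩ : r ∣ Nat.card {W : Submodule F (Fin n → F) // Module.finrank F ↥W = m ∧ (∀ u ∈ W, ∀ v ∈ W, Cfsg.hermForm n F q u v = 0)})
    (i b c : ℕ) (hi : i = orderOf (q : ZMod r)) (hb : b = if Even i then i / 2 else i)
    (hc : c = if i % 4 = 0 then i else if i % 4 = 2 then i / 2 else 2 * i) :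
    (∀ x : Matrix.SpecialLinearGroup (Fin n) F, x ∈ Cfsg.SU n F q →
      (∃ z : F, ((x ^ r : Matrix.SpecialLinearGroup (Fin n) F) : Matrix (Fin n) (Fin n) F) = z • (1 : Matrix (Fin n) (Fin n) F)) →
      (∀ z : F, (x : Matrix (Fin n) (Fin n) F) ≠ z • (1 : Matrix (Fin n) (Fin n) F)) →
      ∃ W : Submodule F (Fin n → F), Module.finrank F ↥W = m ∧ (∀ u ∈ W, ∀ v ∈ W, Cfsg.hermForm n F q u v = 0) ∧
        W.map (Matrix.toLin' (x : Matrix (Fin n) (Fin n) F)) ≤ W) ↔
    ((r = 2 ∧ p ≠ 2 ∧ (2 * m < n ∨ padicValNat 2 (q + 1) ≤ padicValNat 2 n)) ∨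
     (r ≠ p ∧ 2 < r ∧ b ≤ m ∧ 2 * (m % b) ≤ n % c ∧
       (i % 4 ≠ 2 ∨ (i % 4 = 2 ∧ (r - 1) / b + 2 * (m / b) ≤ n / b ∧
         (2 < i ∨ (i = 2 ∧ (r ∣ m ∨ padicValNat r n ≤ padicValNat r (q + 1)))))))) := by
  classical
  have hrprime : r.Prime := Fact.out
  have hF := hq
  have hq2 : 2 ≤ q := two_le_q hF
  have hn0 : 0 < n := by omega
  have hfin : finrank F (Fin n → F) = n := Module.finrank_fin_fun F
  have hS := hermB_isSymm (n := n) hF
  have hN := hermB_left_nondeg hF n
  -- the number of totally isotropic subspaces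
  have hcardeq : Nat.card {W : Submodule F (Fin n → F) // Module.finrank F ↥W = m ∧
      (∀ u ∈ W, ∀ v ∈ W, Cfsg.hermForm n F q u v = 0)} =
      Nat.card {W : Submodule F (Fin n → F) // finrank F W = m ∧ TI (hermB n hF) W} := by
    apply Nat.card_congr
    apply Equiv.subtypeEquivRight
    intro W
    constructor
    · rintro ⟨h1, h2⟩
      exact ⟨h1, fun u hu v hv => h2 v hv u hu⟩
    · rintro ⟨h1, h2⟩
      exact ⟨h1, fun u hu v hv => h2 v hv u hu⟩
  rw [hcardeq] at hrΩ
  have hrp : r ≠ p := by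
    intro h
    rw [h] at hrΩ
    exact not_dvd_card_ti hF (hermB n hF) hS hN p m (by rw [hfin]; exact hmn) hrΩ
  have hrq := not_dvd_q hF p r hrprime hrp
  have hmod : n % cOrd q r < 2 * m := by
    have := mod_lt_of_dvd_card_ti hF (hermB n hF) hS hN r hrq m (by rw [hfin]; exact hmn) hrΩ
    rwa [hfin] at this
  -- reformulation through derangements
  have hkey : (∀ x : Matrix.SpecialLinearGroup (Fin n) F, x ∈ Cfsg.SU n F q →
      (∃ z : F, ((x ^ r : Matrix.SpecialLinearGroup (Fin n) F) : Matrix (Fin n) (Fin n) F) = z • (1 : Matrix (Fin n) (Fin n) F)) →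
      (∀ z : F, (x : Matrix (Fin n) (Fin n) F) ≠ z • (1 : Matrix (Fin n) (Fin n) F)) →
      ∃ W : Submodule F (Fin n → F), Module.finrank F ↥W = m ∧ (∀ u ∈ W, ∀ v ∈ W, Cfsg.hermForm n F q u v = 0) ∧
        W.map (Matrix.toLin' (x : Matrix (Fin n) (Fin n) F)) ≤ W) ↔
      ∀ z : F, ¬ HasDerangement F q n m r z := by
    constructor
    · rintro hL z ⟨x, hx, hdet, hxr, hno⟩
      set X : Matrix.SpecialLinearGroup (Fin n) F := ⟨x, hdet⟩ with hX
      have hXmem : X ∈ Cfsg.SU n F q := (mem_SU_iff X).mpr hx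
      have hXr : ∃ z : F, ((X ^ r : Matrix.SpecialLinearGroup (Fin n) F) :
          Matrix (Fin n) (Fin n) F) = z • (1 : Matrix (Fin n) (Fin n) F) :=
        ⟨z, by rw [Matrix.SpecialLinearGroup.coe_pow]; exact hxr⟩
      have hXns : ∀ z' : F, (X : Matrix (Fin n) (Fin n) F) ≠
          z' • (1 : Matrix (Fin n) (Fin n) F) := by
        intro z' hz'
        have hz'' : x = z' • (1 : Matrix (Fin n) (Fin n) F) := hz'
        have hnd : NondegOn (hermB n hF) (⊤ : Submodule F (Fin n → F)) :=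
          fun u _ hu => hN u (fun v => hu v Submodule.mem_top)
        obtain ⟨W, -, hWti, hWdim⟩ := exists_ti_le hF (hermB n hF) hS ⊤ hnd m
          (by rw [finrank_top, hfin]; exact hmn)
        apply hno
        refine ⟨W, hWdim, fun u hu v hv => hWti v hv u hu, ?_⟩
        rintro _ ⟨w, hw, rfl⟩
        rw [hz'', Matrix.toLin'_apply, Matrix.smul_mulVec, Matrix.one_mulVec]
        exact W.smul_mem _ hw
      obtain ⟨W, hW1, hW2, hW3⟩ := hL X hXmem hXr hXns
      exact hno ⟨W, hW1, hW2, hW3⟩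
    · rintro hall x hxmem ⟨z, hz⟩ hns
      by_contra hno
      apply hall z
      refine ⟨(x : Matrix (Fin n) (Fin n) F), (mem_SU_iff x).mp hxmem, x.2, ?_, hno⟩
      rw [← Matrix.SpecialLinearGroup.coe_pow]
      exact hz
  have hcpos : 0 < cOrd q r := cOrd_pos hrq
  constructor
  · intro hL
    have hall := hkey.mp hL
    by_cases hr2 : r = 2
    · left
      refine ⟨hr2, fun hp2 => hrp (by rw [hr2, hp2]), ?_⟩
      by_contra hcond
      push Not at hcond
      have h2F : (2 : F) ≠ 0 := by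
        have := cast_ne_zero_of_ne (F := F) p 2 Nat.prime_two (fun h => hrp (by rw [hr2, h]))
        exact_mod_cast this
      obtain ⟨z, hz⟩ := derangement_two hF h2F n m hm (by omega) hcond.2
      rw [hr2] at hall
      exact hall z hz
    · right
      obtain ⟨S1, S2, S3⟩ := odd_necessity hF p r hrp hr2 m hn0 hm hmn hmod hall
      have hbb : b = bOrd q r := by rw [hb, hi, bOrd_eq_of_i hrq]
      have hcc : c = cOrd q r := by rw [hc, hi, cOrd_eq_of_i hrq hr2]
      rw [← hbb, ← hcc] at S1 S2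
      rw [← hcc] at S3
      rw [← hcc] at hmod hcpos
      obtain ⟨hbr1, hbr2⟩ := bridge i c hc hcpos
      have hr3 : 2 < r := by
        have := hrprime.two_le
        omega
      have hbm : b ≤ m := by
        by_contra hlt
        push Not at hlt
        rw [Nat.mod_eq_of_lt hlt] at S1
        omega
      refine ⟨hrp, hr3, hbm, S1, ?_⟩
      by_cases hi4 : i % 4 = 2
      · right
        refine ⟨hi4, S2 (hbr1.mpr hi4), ?_⟩
        by_cases hi2 : i = 2
        · right
          exact ⟨hi2, S3 (hbr2.mpr hi2)⟩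
        · left
          omega
      · left
        exact hi4
  · rintro (⟨hr2, hp2, hcond⟩ | ⟨hrp', hr3, hbm, S1, hdisj⟩)
    · subst hr2
      have h2F : (2 : F) ≠ 0 := by
        have := cast_ne_zero_of_ne (F := F) p 2 Nat.prime_two (Ne.symm hp2)
        exact_mod_cast this
      rintro x hxmem ⟨z, hz⟩ hns
      exact two_sufficiency hF h2F m (by omega) hmn hcond (x : Matrix (Fin n) (Fin n) F)
        ((mem_SU_iff x).mp hxmem) x.2 z (by rw [← Matrix.SpecialLinearGroup.coe_pow]; exact hz)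
    · have hr2 : r ≠ 2 := by omega
      have hbb : b = bOrd q r := by rw [hb, hi, bOrd_eq_of_i hrq]
      have hcc : c = cOrd q r := by rw [hc, hi, cOrd_eq_of_i hrq hr2]
      rw [← hcc] at hcpos
      obtain ⟨hbr1, hbr2⟩ := bridge i c hc hcpos
      rintro x hxmem ⟨z, hz⟩ hns
      apply odd_sufficiency hF p r hrp hr2 m hn0 hmn _ _ _ (x : Matrix (Fin n) (Fin n) F)
        ((mem_SU_iff x).mp hxmem) x.2 z (by rw [← Matrix.SpecialLinearGroup.coe_pow]; exact hz)
      · rw [← hbb, ← hcc]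
        exact S1
      · rw [← hbb, ← hcc]
        intro hodd
        have hi4 := hbr1.mp hodd
        rcases hdisj with h | ⟨_, h, _⟩
        · exact absurd hi4 h
        · exact h
      · rw [← hcc]
        intro hc1
        have hi2 := hbr2.mp hc1
        have hi4 : i % 4 = 2 := by rw [hi2]
        rcases hdisj with h | ⟨_, _, h | ⟨_, h⟩⟩
        · exact absurd hi4 h
        · omega
        · exact h

end Cfsg.Agent.S5953
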