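import Cfsg.Statements.S5954
import Cfsg.Agent.Lib.Helper19.HSm

set_option autoImplicit false
open scoped MatrixGroups
open Cfsg

namespace Cfsg.Agent.S5954

/-- Elements of prime order of PSU_n(q) with no fixed nondegenerate `m`-space. Here `T = PSU_n(q)` (`n ≥ 3`, `(n, q) ≠ (3, 2)`), realised through the matrices of determinant 1 over the field `F` with `q²` elements preserving the Hermitian form `h(u, v) = Σ u_i v_i^q`; an element of `T` of prime order `r` is such a matrix `x` with `x^r` scalar and `x` not scalar. For `r ≠ p` let `i` be the multiplicative order of `q` modulo `r`, `b = i/2` for `i` even and `b = i` for `i` odd, `c = i, i/2, 2i` according as `i ≡ 0, 2 (mod 4)` or `i` odd, and write `k = n mod c`, `ℓ = m mod b`, `ℓ' = m mod c`, `n' = ⌊n/b⌋`, `m' = ⌊m/b⌋`, `s = (r−1)/b`; `(a)_r` is the `r`-part of `a`. Let `1 ≤ m < n/2` and let `r` be a prime dividing the number of nondegenerate `m`-spaces. Then every element of `T` of order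 `r` fixes a nondegenerate `m`-space if and only if one of: (i) `r = p > 2` and every partition of `n` into parts of size at most `p` contains (as a sub-multiset) a partition of `m`; (ii) `r = p = 2` and (`n` is odd or `m` is even); (iii) `r = 2 ≠ p` and (`n` is odd, or `m` is even, or `(q+1)_2 ≥ (n)_2` and `q ≡ 3 (mod 4)`); (iv) `r ≠ p`, `r > 2`, and either `i ≠ 2`, `c ≤ m` and `k ≥ ℓ'`, or `i = 2` and (`r ∣ m` or `(q+1)_r ≥ (n)_r`). -/
theorem result {F : Type*} [Field F] [Fintype F] {p : ℕ} [Fact p.Prime] [CharP F p] {q : ℕ} (hq : Fintype.card F = q ^ 2)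
    (n m : ℕ) (hn : 3 ≤ n) (hT : (n, q) ≠ (3, 2)) (hm : 1 ≤ m) (hmn : 2 * m < n)
    (r : ℕ) [Fact r.Prime]
    (hrΩ : r ∣ Nat.card {W : Submodule F (Fin n → F) // Module.finrank F ↥W = m ∧ (∀ u ∈ W, u ≠ 0 → ∃ v ∈ W, Cfsg.hermForm n F q u v ≠ 0)})
    (i b c : ℕ) (hi : i = orderOf (q : ZMod r)) (hb : b = if Even i then i / 2 else i)
    (hc : c = if i % 4 = 0 then i else if i % 4 = 2 then i / 2 else 2 * i) :
    (∀ x : Matrix.SpecialLinearGroup (Fin n) F, x ∈ Cfsg.SU n F q →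
      (∃ z : F, ((x ^ r : Matrix.SpecialLinearGroup (Fin n) F) : Matrix (Fin n) (Fin n) F) = z • (1 : Matrix (Fin n) (Fin n) F)) →
      (∀ z : F, (x : Matrix (Fin n) (Fin n) F) ≠ z • (1 : Matrix (Fin n) (Fin n) F)) →
      ∃ W : Submodule F (Fin n → F), Module.finrank F ↥W = m ∧ (∀ u ∈ W, u ≠ 0 → ∃ v ∈ W, Cfsg.hermForm n F q u v ≠ 0) ∧
        W.map (Matrix.toLin' (x : Matrix (Fin n) (Fin n) F)) ≤ W) ↔
    ((r = p ∧ 2 < p ∧ (∀ μ : Multiset ℕ, (∀ a ∈ μ, 0 < a ∧ a ≤ p) → μ.sum = n → ∃ ν : Multiset ℕ, ν ≤ μ ∧ ν.sum = m)) ∨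
     (r = p ∧ p = 2 ∧ (Odd n ∨ Even m)) ∨
     (r = 2 ∧ p ≠ 2 ∧ (Odd n ∨ Even m ∨ (padicValNat 2 n ≤ padicValNat 2 (q + 1) ∧ q % 4 = 3))) ∨
     (r ≠ p ∧ 2 < r ∧ ((i ≠ 2 ∧ c ≤ m ∧ m % c ≤ n % c) ∨ (i = 2 ∧ (r ∣ m ∨ padicValNat r n ≤ padicValNat r (q + 1)))))) := by
  classical
  open Cfsg.Agent.Lib.Helper19.HS Cfsg.Agent.Lib.Helper19.PSU Cfsg.Agent.Lib.Helper15.PSub in
  have hconv : (∀ x : Matrix.SpecialLinearGroup (Fin n) F, x ∈ Cfsg.SU n F q →
      (∃ z : F, ((x ^ r : Matrix.SpecialLinearGroup (Fin n) F) : Matrix (Fin n) (Fin n) F) = z • (1 : Matrix (Fin n) (Fin n) F)) →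
      (∀ z : F, (x : Matrix (Fin n) (Fin n) F) ≠ z • (1 : Matrix (Fin n) (Fin n) F)) →
      ∃ W : Submodule F (Fin n → F), Module.finrank F ↥W = m ∧ (∀ u ∈ W, u ≠ 0 → ∃ v ∈ W, Cfsg.hermForm n F q u v ≠ 0) ∧
        W.map (Matrix.toLin' (x : Matrix (Fin n) (Fin n) F)) ≤ W) ↔
      (∀ x : Matrix (Fin n) (Fin n) F, Pres q x → x.det = 1 →
        (∃ z : F, x ^ r = z • (1 : Matrix (Fin n) (Fin n) F)) →
        (∀ z : F, x ≠ z • (1 : Matrix (Fin n) (Fin n) F)) →
        ∃ W : Submodule F (Fin n → F), Module.finrank F W = m ∧ ND q W ∧ Inv x W) := by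
    constructor
    · intro H M hM hdet hz hns
      set x : Matrix.SpecialLinearGroup (Fin n) F := ⟨M, hdet⟩ with hxdef
      have hxM : (x : Matrix (Fin n) (Fin n) F) = M := rfl
      obtain ⟨W, hWd, hWnd, hWI⟩ := H x (fun u v => hM u v)
        (by
          obtain ⟨z, hz⟩ := hz
          exact ⟨z, by rw [Matrix.SpecialLinearGroup.coe_pow, hxM]; exact hz⟩)
        hns
      exact ⟨W, hWd, hWnd, (inv_iff_map M W).mpr hWI⟩
    · intro H x hx hz hns
      obtain ⟨W, hWd, hWnd, hWI⟩ := H (x : Matrix (Fin n) (Fin n) F) (fun u v => hx u v)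
        x.det_coe
        (by
          obtain ⟨z, hz⟩ := hz
          exact ⟨z, by rw [← Matrix.SpecialLinearGroup.coe_pow]; exact hz⟩)
        hns
      exact ⟨W, hWd, hWnd, (inv_iff_map _ W).mp hWI⟩
  rw [hconv]
  open Cfsg.Agent.Lib.Helper19.HS Cfsg.Agent.Lib.Helper19.PSU Cfsg.Agent.Lib.Helper15.PSub in
  have hrprime : r.Prime := Fact.out
  have hpprime : p.Prime := Fact.out
  have hn0 : 0 < n := by omega
  have hmn' : m ≤ n := by omega
  by_cases hrp : r = p
  · subst hrp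
    rw [case_p hq r n m hn0 hmn']
    by_cases hr2 : r = 2
    · subst hr2
      rw [two_part_iff n m hmn']
      constructor
      · intro h
        exact Or.inr (Or.inl ⟨rfl, rfl, h⟩)
      · rintro (⟨_, h, _⟩ | ⟨_, _, h⟩ | ⟨_, h, _⟩ | ⟨h, _⟩)
        · omega
        · exact h
        · exact absurd rfl h
        · exact absurd rfl h
    · have h2r : 2 < r := by
        have := hrprime.two_le
        omega
      constructor
      · intro h
        exact Or.inl ⟨rfl, h2r, h⟩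
      · rintro (⟨_, _, h⟩ | ⟨_, h, _⟩ | ⟨h, _⟩ | ⟨h, _⟩)
        · exact h
        · exact absurd h hr2
        · exact absurd h hr2
        · exact absurd rfl h
  · by_cases hr2 : r = 2
    · subst hr2
      have hp2 : p ≠ 2 := fun h => hrp h.symm
      rw [case_two hq p hp2 n m hn0 hmn']
      constructor
      · intro h
        exact Or.inr (Or.inr (Or.inl ⟨rfl, hp2, h⟩))
      · rintro (⟨h, _⟩ | ⟨h, _⟩ | ⟨_, _, h⟩ | ⟨_, h, _⟩)
        · exact absurd h hrp
        · exact absurd h hrp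
        · exact h
        · omega
    · have h2r : 2 < r := by
        have := hrprime.two_le
        omega
      have hodd : Odd r := hrprime.odd_of_ne_two hr2
      have hrq : ¬ r ∣ q := not_dvd_q hq p r hrprime hrp
      have hc' : c = orderOf (-(q : ZMod r)) := by
        rw [hc]
        exact c_eq r q hr2 hrq i hi
      have hi2 := i_eq_two_iff r q hr2 i hi
      by_cases hi2' : i = 2
      · have hrq1 : r ∣ q + 1 := hi2.mp hi2'
        rw [case_odd_b hq p r hrp hodd hrq1 n m hn0 hmn']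
        constructor
        · intro h
          exact Or.inr (Or.inr (Or.inr ⟨hrp, h2r, Or.inr ⟨hi2', h⟩⟩))
        · rintro (⟨h, _⟩ | ⟨h, _⟩ | ⟨h, _⟩ | ⟨_, _, ⟨h, _⟩ | ⟨_, h⟩⟩)
          · exact absurd h hrp
          · exact absurd h hrp
          · exact absurd h hr2
          · exact absurd hi2' h
          · exact h
      · have hrq1 : ¬ r ∣ q + 1 := fun h => hi2' (hi2.mpr h)
        obtain ⟨hcn, hkm⟩ := of_dvd_card hq p r hrp c hc' n m hmn' hrΩ
        rw [case_odd_a hq p r hrp hrq1 c hc' n m hn0 hmn' hcn hkm]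
        constructor
        · intro h
          exact Or.inr (Or.inr (Or.inr ⟨hrp, h2r, Or.inl ⟨hi2', h⟩⟩))
        · rintro (⟨h, _⟩ | ⟨h, _⟩ | ⟨h, _⟩ | ⟨_, _, ⟨_, h⟩ | ⟨h, _⟩⟩)
          · exact absurd h hrp
          · exact absurd h hrp
          · exact absurd h hr2
          · exact h
          · exact absurd h hi2'

end Cfsg.Agent.S5954
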