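import Cfsg.Statements.S5956
import Cfsg.Agent.Lib.Helper15.PSpL7

set_option autoImplicit false
open scoped MatrixGroups
open Cfsg

namespace Cfsg.Agent.S5956

/-- Elements of prime order of PSp_n(q) with no fixed nondegenerate `m`-space. Here `T = PSp_n(q)` with `n = 2d ≥ 4`, `(n, q) ≠ (4, 2)`, realised through the symplectic matrices over the field `F` with `q` elements (preserving the standard alternating form); an element of `T` of prime order `r` is such a matrix `x` with `x^r` scalar and `x` not scalar. For `r ≠ p` let `i` be the multiplicative order of `q` modulo `r`, `c = i` for `i` even and `c = 2i` for `i` odd, and write `k = n mod c`, `ℓ = m mod i`, `ℓ' = m mod c`, `n' = ⌊n/i⌋`, `m' = ⌊m/i⌋`, `t = (r−1)/i`. Let `m` be even with `2 ≤ m < n/2` and let `r` be a prime dividing the number of nondegenerate `m`-spaces. Then every element of `T` of order `r` fixes a nondegenerate `m`-space if and only if one of: (i) `r = p > 2` and every partition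 of `n` into parts of size at most `p` in which every odd part has even multiplicity contains (as a sub-multiset) a partition of `m` in which every odd part has even multiplicity; (ii) `r = p = 2` and (`n ≡ 2 (mod 4)` or `m ≡ 0 (mod 4)`); (iii) `r = 2 ≠ p`; (iv) `r ≠ p`, `r > 2`, `c ≤ m` and `k ≥ ℓ'`. -/
theorem result {F : Type*} [Field F] [Fintype F] {p : ℕ} [Fact p.Prime] [CharP F p] {q : ℕ} (hq : Fintype.card F = q)
    (d m : ℕ) (hd : 2 ≤ d) (hT : (d, q) ≠ (2, 2)) (hm : 2 ≤ m) (hme : Even m) (hmd : m < d)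
    (r : ℕ) [Fact r.Prime]
    (hrΩ : r ∣ Nat.card {W : Submodule F (Fin d ⊕ Fin d → F) // Module.finrank F ↥W = m ∧ (∀ u ∈ W, u ≠ 0 → ∃ v ∈ W, Cfsg.sympForm d F u v ≠ 0)})
    (i c : ℕ) (hi : i = orderOf (q : ZMod r)) (hc : c = if Even i then i else 2 * i) :
    (∀ x : ↥(Matrix.symplecticGroup (Fin d) F),
      (∃ z : F, ((x ^ r : ↥(Matrix.symplecticGroup (Fin d) F)) : Matrix (Fin d ⊕ Fin d) (Fin d ⊕ Fin d) F) = z • (1 : Matrix (Fin d ⊕ Fin d) (Fin d ⊕ Fin d) F)) →
      (∀ z : F, (x : Matrix (Fin d ⊕ Fin d) (Fin d ⊕ Fin d) F) ≠ z • (1 : Matrix (Fin d ⊕ Fin d) (Fin d ⊕ Fin d) F)) →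
      ∃ W : Submodule F (Fin d ⊕ Fin d → F), Module.finrank F ↥W = m ∧ (∀ u ∈ W, u ≠ 0 → ∃ v ∈ W, Cfsg.sympForm d F u v ≠ 0) ∧
        W.map (Matrix.toLin' (x : Matrix (Fin d ⊕ Fin d) (Fin d ⊕ Fin d) F)) ≤ W) ↔
    ((r = p ∧ 2 < p ∧ (∀ μ : Multiset ℕ, (∀ a ∈ μ, 0 < a ∧ a ≤ p) → (∀ a : ℕ, Odd a → Even (μ.count a)) → μ.sum = 2 * d →
        ∃ ν : Multiset ℕ, ν ≤ μ ∧ ν.sum = m ∧ ∀ a : ℕ, Odd a → Even (ν.count a))) ∨
     (r = p ∧ p = 2 ∧ ((2 * d) % 4 = 2 ∨ m % 4 = 0)) ∨
     (r = 2 ∧ p ≠ 2) ∨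
     (r ≠ p ∧ 2 < r ∧ c ≤ m ∧ m % c ≤ (2 * d) % c)) := by
  classical
  subst hq
  have hrpr : r.Prime := Fact.out
  have hppr : p.Prime := Fact.out
  have hm2d : m ≤ 2 * d := by omega
  have hd1 : 1 ≤ d := by omega
  have h2F : p ≠ 2 → (2 : F) ≠ 0 := by
    intro hp2 h
    have h3 : ((2 : ℕ) : F) = 0 := by exact_mod_cast h
    rw [CharP.cast_eq_zero_iff F p 2] at h3
    exact hp2 ((Nat.prime_dvd_prime_iff_eq hppr Nat.prime_two).mp h3)
  have hconv : ∀ x : ↥(Matrix.symplecticGroup (Fin d) F),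
      (Matrix.toLin' (x : Matrix (Fin d ⊕ Fin d) (Fin d ⊕ Fin d) F)) ^ r = 1 →
      ∃ z : F, ((x ^ r : ↥(Matrix.symplecticGroup (Fin d) F)) :
        Matrix (Fin d ⊕ Fin d) (Fin d ⊕ Fin d) F) =
          z • (1 : Matrix (Fin d ⊕ Fin d) (Fin d ⊕ Fin d) F) := by
    intro x hx
    refine ⟨1, ?_⟩
    rw [SubmonoidClass.coe_pow, one_smul]
    apply Matrix.toLin'.injective
    rw [Matrix.toLin'_pow, hx, Matrix.toLin'_one]
    rfl
  by_cases hrp : r = p
  · subst hrp
    by_cases hp2 : r = 2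
    · subst hp2
      have : CharP F 2 := inferInstance
      constructor
      · intro hall
        refine Or.inr (Or.inl ⟨rfl, rfl, ?_⟩)
        by_contra hcon
        rw [not_or] at hcon
        have hde : d % 2 = 0 := by omega
        have hm4 : m % 4 = 2 := by
          obtain ⟨m', hm'⟩ := hme
          omega
        obtain ⟨x, hx1, hx2, hx3⟩ :=
          Cfsg.Agent.Lib.Helper15.PSpL.exists_derangement (F := F) d m hd1 hde hm4
        exact hx3 (hall x ⟨1, hx1⟩ hx2)
      · rintro (⟨-, h, -⟩ | ⟨-, -, h⟩ | ⟨-, h⟩ | ⟨h, -⟩)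
        · omega
        · intro x hx _
          apply Cfsg.Agent.Lib.Helper15.PSpL.sq_suff d m hme hm2d _ x hx
          rcases h with h | h
          · exact Or.inr (Or.inr h)
          · exact Or.inr (Or.inl h)
        · exact absurd rfl h
        · exact absurd rfl h
    · have hp3 : 2 < r := by
        have := hrpr.two_le
        omega
      constructor
      · intro hall
        refine Or.inl ⟨rfl, hp3, ?_⟩
        intro μ hμ hμe hsum
        apply Cfsg.Agent.Lib.Helper15.PSpL.unip_nec (F := F) r d m hd1 hme hm2d _ μ hμ hμe hsum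
        intro x hx hns
        exact hall x (hconv x hx) hns
      · rintro (⟨-, -, h⟩ | ⟨-, h, -⟩ | ⟨h, -⟩ | ⟨h, -⟩)
        · intro x hx _
          exact Cfsg.Agent.Lib.Helper15.PSpL.unip_suff r hp2 d m hd1 h x hx
        · exact absurd h hp2
        · exact absurd h hp2
        · exact absurd rfl h
  · by_cases hr2 : r = 2
    · subst hr2
      have hp2 : p ≠ 2 := fun h => hrp h.symm
      constructor
      · intro _
        exact Or.inr (Or.inr (Or.inl ⟨rfl, hp2⟩))
      · intro _ x hx _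
        exact Cfsg.Agent.Lib.Helper15.PSpL.sq_suff d m hme hm2d (Or.inl (h2F hp2)) x hx
    · have hr3 : 2 < r := by
        have := hrpr.two_le
        omega
      have hN := Cfsg.Agent.Lib.Helper15.PSpL.exists_dvd_of_dvd_card_nondeg_sp p r hrpr hrp d m
        hme hm2d hrΩ
      rw [Cfsg.Agent.Lib.Helper15.PSpL.semi_criterion p r hr2 hrp d m hd1 hme hm2d hN]
      have hc' : c = Cfsg.Agent.Lib.Helper15.PSpJ.cOf i := hc
      rw [← hi, ← hc']
      constructor
      · rintro ⟨h1, h2⟩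
        exact Or.inr (Or.inr (Or.inr ⟨hrp, hr3, h1, h2⟩))
      · rintro (⟨h, -, -⟩ | ⟨h, -, -⟩ | ⟨h, -⟩ | ⟨-, -, h1, h2⟩)
        · exact absurd h hrp
        · exact absurd h hrp
        · exact absurd h hr2
        · exact ⟨h1, h2⟩

end Cfsg.Agent.S5956
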