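-- Statement S5957.
import Cfsg.Statements.S5957
import Cfsg.Agent.Lib.Helper29.MonomialDecomp

set_option autoImplicit false
open scoped MatrixGroups
open Cfsg

namespace Cfsg.Agent.S5957

/-- Involutions of PSL_n(q) and imprimitive subgroups. Here `T = PSL_n(F)` for a field `F` with `q = p^f` elements (`n ≥ 2`, `(n, q) ≠ (2, 2), (2, 3)`), `n = a·t` with `t ≥ 2`, and Ω is the set of direct-sum decompositions of `F^n` into `t` subspaces of dimension `a` (unordered; their number is the number of ordered ones divided by `t!`), whose stabilizers are the imprimitive subgroups of type GL_a(q) ≀ S_t (maximal except in some small cases; maximality is not assumed); an element of `T` of prime order `r` (a matrix `x` of determinant 1 with `x^r` scalar, `x` not scalar) fixes a point of Ω when it permutes the summands of some such decomposition. If the number of such decompositions is even, then every involution of `T` stabilizes one of them (the action is 2-elusive). -/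
theorem result {F : Type*} [Field F] [Fintype F] {p : ℕ} [Fact p.Prime] [CharP F p] {q : ℕ} (hq : Fintype.card F = q)
    (n a t : ℕ) (hn : 2 ≤ n) (hT : (n, q) ≠ (2, 2) ∧ (n, q) ≠ (2, 3)) (hat : n = a * t) (ha : 1 ≤ a) (ht : 2 ≤ t)
    (hΩ : 2 ∣ Nat.card {D : Fin t → Submodule F (Fin n → F) // Cfsg.Geo.IsMDecomposition a D} / Nat.factorial t)
    (x : Matrix.SpecialLinearGroup (Fin n) F)
    (hx1 : ∃ z : F, ((x ^ 2 : Matrix.SpecialLinearGroup (Fin n) F) : Matrix (Fin n) (Fin n) F) = z • (1 : Matrix (Fin n) (Fin n) F))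
    (hx2 : ∀ z : F, (x : Matrix (Fin n) (Fin n) F) ≠ z • (1 : Matrix (Fin n) (Fin n) F)) :
    ∃ D : Fin t → Submodule F (Fin n → F), Cfsg.Geo.IsMDecomposition a D ∧
        ∃ σ : Equiv.Perm (Fin t), ∀ j, (D j).map (Matrix.toLin' (x : Matrix (Fin n) (Fin n) F)) = D (σ j) := by
  classical
  have hpP := (Fact.out : p.Prime)
  obtain ⟨z, hz⟩ := hx1
  have hXX : (x : Matrix (Fin n) (Fin n) F) * (x : Matrix (Fin n) (Fin n) F)
      = z • (1 : Matrix (Fin n) (Fin n) F) := by
    rw [← hz, Matrix.SpecialLinearGroup.coe_pow, pow_two]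
  have hdet : (x : Matrix (Fin n) (Fin n) F).det = 1 := x.2
  haveI : Nonempty (Fin n) := ⟨⟨0, by omega⟩⟩
  have hz0 : z ≠ 0 := by
    intro h
    rw [h, zero_smul] at hXX
    have h1 := congrArg Matrix.det hXX
    rw [Matrix.det_mul, hdet, mul_one, Matrix.det_zero] at h1
    exact one_ne_zero h1
  have hL : ∀ v : Fin n → F, Matrix.toLin' (x : Matrix (Fin n) (Fin n) F)
      (Matrix.toLin' (x : Matrix (Fin n) (Fin n) F) v) = z • v := by
    intro v
    rw [← Matrix.toLin'_mul_apply, hXX, map_smul, Matrix.toLin'_one, LinearMap.smul_apply,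
      LinearMap.id_apply]
  have hcase : (2 : F) ≠ 0 ∨ ((2 : F) = 0 ∧ ∃ w : F, w * w = z) := by
    by_cases h2 : (2 : F) = 0
    · right
      refine ⟨h2, ?_⟩
      have h2' : ((2 : ℕ) : F) = 0 := by exact_mod_cast h2
      rw [CharP.cast_eq_zero_iff F p] at h2'
      have hp2 : p = 2 := (Nat.prime_dvd_prime_iff_eq hpP Nat.prime_two).mp h2'
      have hchar : ringChar F = 2 := by rw [← hp2]; exact ringChar.eq F p
      obtain ⟨w, hw⟩ := FiniteField.isSquare_of_char_two hchar z
      exact ⟨w, hw.symm⟩
    · exact Or.inl h2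
  exact Helper29.Monomial.exists_decomposition hat ht ha _ z hz0 hL hcase

end Cfsg.Agent.S5957
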