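import Cfsg.Statements.S5959
import Cfsg.Agent.Lib.Helper14.NilSplit

set_option autoImplicit false
open Cfsg

namespace Cfsg.Agent.S5959

open Cfsg.Agent.Lib.Helper14 Module

variable {F : Type*} [Field F]

/-- In characteristic `p`, `(X - 1)^(p-1) = 1 + X + ⋯ + X^(p-1)`, evaluated at an endomorphism. -/
theorem sub_one_pow_pred {p : ℕ} [Fact p.Prime] [CharP F p] {V : Type*} [AddCommGroup V]
    [Module F V] (L : V →ₗ[F] V) :
    (L - 1) ^ (p - 1) = ∑ i ∈ Finset.range p, L ^ i := by
  have hp : p.Prime := Fact.out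
  have hpoly : ((Polynomial.X : Polynomial F) - 1) ^ (p - 1) =
      ∑ i ∈ Finset.range p, (Polynomial.X : Polynomial F) ^ i := by
    have hne : (Polynomial.X : Polynomial F) - 1 ≠ 0 := by
      have := Polynomial.X_sub_C_ne_zero (1 : F)
      rwa [Polynomial.C_1] at this
    apply mul_right_cancel₀ hne
    rw [geom_sum_mul, ← pow_succ, Nat.sub_add_cancel hp.one_lt.le]
    have : CharP (Polynomial F) p := inferInstance
    rw [sub_pow_char, one_pow]
  have h := congrArg (Polynomial.aeval L) hpoly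
  simpa using h

section decomp

variable {V : Type*} [AddCommGroup V] [Module F V] {t : ℕ}

theorem map_pow_D (L : V →ₗ[F] V) (D : Fin t → Submodule F V) (σ : Equiv.Perm (Fin t))
    (hσ : ∀ j, (D j).map L = D (σ j)) (k : ℕ) (j : Fin t) :
    (D j).map (L ^ k) = D ((σ ^ k) j) := by
  induction k with
  | zero =>
    rw [pow_zero, pow_zero, Module.End.one_eq_id, Submodule.map_id, Equiv.Perm.one_apply]
  | succ k ih =>
    rw [pow_succ', Module.End.mul_eq_comp, Submodule.map_comp, ih, hσ, pow_succ',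
      Equiv.Perm.mul_apply]

theorem pow_apply_mem_D (L : V →ₗ[F] V) (D : Fin t → Submodule F V) (σ : Equiv.Perm (Fin t))
    (hσ : ∀ j, (D j).map L = D (σ j)) (k : ℕ) (j : Fin t) {v : V} (hv : v ∈ D j) :
    (L ^ k) v ∈ D ((σ ^ k) j) := by
  rw [← map_pow_D L D σ hσ k j]
  exact Submodule.mem_map_of_mem hv

/-- No power `σ^i`, `0 < i < p`, fixes `j` when `σ^p` does and `σ` does not. -/
theorem pow_apply_ne {p : ℕ} (hp : p.Prime) (σ : Equiv.Perm (Fin t)) (j : Fin t)
    (hpj : (σ ^ p) j = j) (hj : σ j ≠ j) {i : ℕ} (hi0 : 0 < i) (hip : i < p) :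
    (σ ^ i) j ≠ j := by
  intro h
  have h1 : Function.IsPeriodicPt σ p j := by
    show σ^[p] j = j
    rw [← Equiv.Perm.coe_pow]
    exact hpj
  have h2 : Function.IsPeriodicPt σ i j := by
    show σ^[i] j = j
    rw [← Equiv.Perm.coe_pow]
    exact h
  have h3 := h1.gcd h2
  have hcop : Nat.gcd p i = 1 := by
    rw [← Nat.coprime_iff_gcd_eq_one, Nat.Prime.coprime_iff_not_dvd hp]
    intro hd
    exact absurd (Nat.le_of_dvd hi0 hd) (by omega)
  rw [hcop] at h3
  exact hj h3

/-- If `σ^i j ≠ j` for `0 < i < p`, the sum `1 + L + ⋯ + L^(p-1)` is injective on `D j`. -/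
theorem eq_zero_of_sum_eq_zero {p : ℕ} (hp : p.Prime) (L : V →ₗ[F] V)
    (D : Fin t → Submodule F V) (hind : iSupIndep D) (σ : Equiv.Perm (Fin t))
    (hσ : ∀ j, (D j).map L = D (σ j)) (j : Fin t)
    (hne : ∀ i, 0 < i → i < p → (σ ^ i) j ≠ j) {v : V} (hv : v ∈ D j)
    (hsum : (∑ i ∈ Finset.range p, L ^ i) v = 0) : v = 0 := by
  have hp0 : 0 < p := hp.pos
  rw [LinearMap.sum_apply] at hsum
  obtain ⟨m, rfl⟩ : ∃ m, p = m + 1 := ⟨p - 1, by omega⟩
  rw [Finset.sum_range_succ'] at hsum
  simp only [pow_zero, Module.End.one_apply] at hsum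
  have hmem : ∑ i ∈ Finset.range m, (L ^ (i + 1)) v ∈ ⨆ (k) (_ : k ≠ j), D k := by
    apply Submodule.sum_mem
    intro i hi
    rw [Finset.mem_range] at hi
    have h1 := pow_apply_mem_D L D σ hσ (i + 1) j hv
    have h2 := hne (i + 1) (by omega) (by omega)
    exact Submodule.mem_iSup_of_mem _ (Submodule.mem_iSup_of_mem h2 h1)
  have hv2 : v = -∑ i ∈ Finset.range m, (L ^ (i + 1)) v := by
    rw [eq_neg_iff_add_eq_zero, add_comm]
    exact hsum
  have hdis := (iSupIndep_def.mp hind) j
  rw [Submodule.disjoint_def] at hdis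
  apply hdis v hv
  rw [hv2]
  exact Submodule.neg_mem _ hmem

theorem isCompl_of_decomp (D : Fin t → Submodule F V) (hind : iSupIndep D)
    (htop : iSup D = ⊤) (j : Fin t) : IsCompl (D j) (⨆ (k) (_ : k ≠ j), D k) := by
  refine ⟨(iSupIndep_def.mp hind) j, ?_⟩
  rw [codisjoint_iff, eq_top_iff, ← htop]
  apply iSup_le
  intro k
  by_cases hk : k = j
  · subst hk
    exact le_sup_left
  · exact le_sup_of_le_right (le_iSup₂_of_le k hk le_rfl)

theorem invariant_compl (L : V →ₗ[F] V) (D : Fin t → Submodule F V) (σ : Equiv.Perm (Fin t))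
    (hσ : ∀ j, (D j).map L = D (σ j)) (j : Fin t) (hj : σ j = j) :
    ∀ x ∈ ⨆ (k) (_ : k ≠ j), D k, L x ∈ ⨆ (k) (_ : k ≠ j), D k := by
  intro x hx
  have h1 : Submodule.map L (⨆ (k) (_ : k ≠ j), D k) ≤ ⨆ (k) (_ : k ≠ j), D k := by
    rw [Submodule.map_iSup]
    apply iSup_le
    intro k
    rw [Submodule.map_iSup]
    apply iSup_le
    intro hk
    rw [hσ]
    have h2 : σ k ≠ j := fun h => hk (σ.injective (h.trans hj.symm))
    exact le_iSup₂_of_le (σ k) h2 le_rfl
  exact h1 (Submodule.mem_map_of_mem hx)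

end decomp

/-- Elements of order `p` of PSL_n(q) and imprimitive subgroups: a necessary condition. Here `T = PSL_n(F)` for a field `F` with `q = p^f` elements (`n ≥ 2`, `(n, q) ≠ (2, 2), (2, 3)`), `n = a·t` with `t ≥ 2`, and Ω is the set of direct-sum decompositions of `F^n` into `t` subspaces of dimension `a` (unordered; their number is the number of ordered ones divided by `t!`), whose stabilizers are the imprimitive subgroups of type GL_a(q) ≀ S_t (maximal except in some small cases; maximality is not assumed); an element of `T` of prime order `r` (a matrix `x` of determinant 1 with `x^r` scalar, `x` not scalar) fixes a point of Ω when it permutes the summands of some such decomposition. Suppose `p > 2` divides the number of such decompositions. If every element of `T` of order `p` stabilizes such a decomposition, then every partition of `n` into parts of size at most `p` in which the part `p` occurs fewer than `a` times contains (as a sub-multiset) a partition of `a`. -/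
theorem result {F : Type*} [Field F] [Fintype F] {p : ℕ} [Fact p.Prime] [CharP F p] {q : ℕ} (hq : Fintype.card F = q)
    (n a t : ℕ) (hn : 2 ≤ n) (hT : (n, q) ≠ (2, 2) ∧ (n, q) ≠ (2, 3)) (hat : n = a * t) (ha : 1 ≤ a) (ht : 2 ≤ t)
    (hp : 2 < p) (hΩ : p ∣ Nat.card {D : Fin t → Submodule F (Fin n → F) // Cfsg.Geo.IsMDecomposition a D} / Nat.factorial t)
    (h : ∀ x : Matrix.SpecialLinearGroup (Fin n) F,
      (∃ z : F, ((x ^ p : Matrix.SpecialLinearGroup (Fin n) F) : Matrix (Fin n) (Fin n) F) = z • (1 : Matrix (Fin n) (Fin n) F)) →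
      (∀ z : F, (x : Matrix (Fin n) (Fin n) F) ≠ z • (1 : Matrix (Fin n) (Fin n) F)) →
      ∃ D : Fin t → Submodule F (Fin n → F), Cfsg.Geo.IsMDecomposition a D ∧
        ∃ σ : Equiv.Perm (Fin t), ∀ j, (D j).map (Matrix.toLin' (x : Matrix (Fin n) (Fin n) F)) = D (σ j)) :
    (∀ μ : Multiset ℕ, (∀ b ∈ μ, 0 < b ∧ b ≤ p) → μ.sum = n → μ.count p < a → ∃ ν : Multiset ℕ, ν ≤ μ ∧ ν.sum = a) := by
  classical
  intro μ hμ hsum hcount
  have hpp : p.Prime := Fact.out
  have hta : a ≤ n := by
    rw [hat]
    exact Nat.le_mul_of_pos_right a (by omega)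
  by_cases hall : ∀ b ∈ μ, b ≤ 1
  · have h1 : ∀ b ∈ μ, b = 1 := fun b hb => by
      have := hμ b hb
      have := hall b hb
      omega
    have h2 := Multiset.eq_replicate_card.mpr h1
    have h3 : Multiset.card μ = n := by
      have h4 := hsum
      rw [h2, Multiset.sum_replicate, smul_eq_mul, mul_one] at h4
      exact h4
    rw [h3] at h2
    refine ⟨Multiset.replicate a 1, ?_, by simp⟩
    rw [h2]
    exact (Multiset.replicate_le_replicate 1).mpr hta
  · push Not at hall
    obtain ⟨b₀, hb₀, hb₀1⟩ := hall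
    let μP : Nat.Partition n := ⟨μ, fun hi => (hμ _ hi).1, hsum⟩
    have hμP : μP.parts = μ := rfl
    set x₀ := stdUnip (F := F) μP with hx₀
    have hNp : (nilOf x₀) ^ p = 0 :=
      (stdUnip_pow_eq_zero_iff μP p).mpr (fun b hb => (hμ b hb).2)
    have hN1 : ¬ (nilOf x₀) ^ 1 = 0 := by
      rw [stdUnip_pow_eq_zero_iff]
      push Not
      exact ⟨b₀, hb₀, hb₀1⟩
    have hxp : (x₀ ^ p : GL (Fin n) F) = 1 := by
      have h1 := sub_one_pow_char_pow p x₀ 1
      rw [pow_one, (nilOf_pow_eq_zero_iff x₀ p).mp hNp] at h1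
      apply Units.ext
      rw [Units.val_one]
      exact sub_eq_zero.mp h1.symm
    have hdet : (x₀ : Matrix (Fin n) (Fin n) F).det = 1 := by
      have h1 : (x₀ : Matrix (Fin n) (Fin n) F).det ^ p = 1 := by
        rw [← Matrix.det_pow, ← Units.val_pow_eq_pow_val, hxp, Units.val_one, Matrix.det_one]
      have h2 : ((x₀ : Matrix (Fin n) (Fin n) F).det - 1) ^ p = 0 := by
        rw [sub_pow_char, h1, one_pow, sub_self]
      exact sub_eq_zero.mp (pow_eq_zero_iff hpp.ne_zero |>.mp h2)
    obtain ⟨x, hx⟩ : ∃ x : Matrix.SpecialLinearGroup (Fin n) F,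
        (x : Matrix (Fin n) (Fin n) F) = (x₀ : Matrix (Fin n) (Fin n) F) :=
      ⟨⟨(x₀ : Matrix (Fin n) (Fin n) F), hdet⟩, rfl⟩
    obtain ⟨D, hD, σ, hσ⟩ := h x
      ⟨1, by
        rw [Matrix.SpecialLinearGroup.coe_pow, one_smul, hx,
          ← Units.val_pow_eq_pow_val, hxp, Units.val_one]⟩
      (by
        intro z hz
        have hz' : (x₀ : Matrix (Fin n) (Fin n) F) = z • (1 : Matrix (Fin n) (Fin n) F) := by
          rw [← hx]
          exact hz
        have hnil : nilOf x₀ = (z - 1) • (LinearMap.id : (Fin n → F) →ₗ[F] (Fin n → F)) := by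
          unfold nilOf
          rw [hz']
          have : z • (1 : Matrix (Fin n) (Fin n) F) - 1 = (z - 1) • (1 : Matrix (Fin n) (Fin n) F) := by
            rw [sub_smul, one_smul]
          rw [this, map_smul, Matrix.toLin'_one]
        have h0 : (z - 1) ^ p = 0 := by
          have h1 := hNp
          rw [hnil, smul_pow] at h1
          have h2 := LinearMap.congr_fun h1 (Pi.single (⟨0, by omega⟩ : Fin n) 1)
          have h3 := congrFun h2 (⟨0, by omega⟩ : Fin n)
          simpa using h3
        have hz1 : z - 1 = 0 := pow_eq_zero_iff hpp.ne_zero |>.mp h0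
        apply hN1
        rw [hnil, hz1, zero_smul, pow_one])
    set L : (Fin n → F) →ₗ[F] (Fin n → F) :=
      Matrix.toLin' (x₀ : Matrix (Fin n) (Fin n) F) with hL
    have hσ' : ∀ j, (D j).map L = D (σ j) := by
      intro j
      rw [hL, ← hx]
      exact hσ j
    have hNL : nilOf x₀ = L - 1 := by
      unfold nilOf
      rw [map_sub, Matrix.toLin'_one]
      rfl
    have hLp : L ^ p = 1 := by
      rw [hL, ← Matrix.toLin'_pow, ← Units.val_pow_eq_pow_val, hxp, Units.val_one,
        Matrix.toLin'_one]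
      rfl
    have hfin : finrank F (Fin n → F) = n := Module.finrank_fin_fun F
    by_cases hfix : ∃ j, σ j = j
    · obtain ⟨j, hj⟩ := hfix
      have hUW := isCompl_of_decomp D hD.indep hD.iSup_eq_top j
      have hU_L : ∀ x ∈ D j, L x ∈ D j := by
        intro x hx
        have := Submodule.mem_map_of_mem (f := L) hx
        rwa [hσ', hj] at this
      have hW_L := invariant_compl L D σ hσ' j hj
      have hU : ∀ x ∈ D j, nilOf x₀ x ∈ D j := by
        intro x hx
        rw [hNL]
        exact (D j).sub_mem (hU_L x hx) hx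
      have hW : ∀ x ∈ ⨆ (k) (_ : k ≠ j), D k, nilOf x₀ x ∈ ⨆ (k) (_ : k ≠ j), D k := by
        intro x hx
        rw [hNL]
        exact Submodule.sub_mem _ (hW_L x hx) hx
      have hnil : IsNilpotent (nilOf x₀) := ⟨p, hNp⟩
      obtain ⟨ν, hν⟩ := exists_partition_of_isNilpotent ((nilOf x₀).restrict hU)
        (isNilpotent_restrict _ hU hnil)
      obtain ⟨ρ, hρ⟩ := exists_partition_of_isNilpotent ((nilOf x₀).restrict hW)
        (isNilpotent_restrict _ hW hnil)
      have hμeq : μ = ν.parts + ρ.parts := by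
        apply eq_of_nuOf_eq
        · intro h0
          exact absurd (hμ 0 h0).1 (lt_irrefl 0)
        · intro h0
          rw [Multiset.mem_add] at h0
          rcases h0 with h0 | h0
          · exact absurd (ν.parts_pos h0) (lt_irrefl 0)
          · exact absurd (ρ.parts_pos h0) (lt_irrefl 0)
        · intro k
          rw [nuOf_add, hν, hρ, ← nu_of_isCompl (nilOf x₀) hUW hU hW, hx₀, nu_nilOf_stdUnip]
      refine ⟨ν.parts, ?_, ?_⟩
      · rw [hμeq]
        exact Multiset.le_add_right _ _
      · rw [ν.parts_sum, hD.finrank_eq]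
    · push Not at hfix
      exfalso
      have ht0 : 0 < t := by omega
      set j : Fin t := ⟨0, ht0⟩ with hj
      have hDinj : Function.Injective D := hD.indep.injective (fun i h0 => by
        have := hD.finrank_eq i
        rw [h0, finrank_bot] at this
        omega)
      have hpj : (σ ^ p) j = j := by
        apply hDinj
        rw [← map_pow_D L D σ hσ' p j, hLp, Module.End.one_eq_id, Submodule.map_id]
      have hne : ∀ i, 0 < i → i < p → (σ ^ i) j ≠ j := fun i hi0 hip =>
        pow_apply_ne hpp σ j hpj (hfix j) hi0 hip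
      have hinj : LinearMap.ker ((nilOf x₀) ^ (p - 1)) ⊓ D j = ⊥ := by
        rw [eq_bot_iff]
        intro v hv
        rw [Submodule.mem_bot]
        have h1 : ((nilOf x₀) ^ (p - 1)) v = 0 := LinearMap.mem_ker.mp hv.1
        rw [hNL, sub_one_pow_pred (p := p)] at h1
        exact eq_zero_of_sum_eq_zero hpp L D hD.indep σ hσ' j hne hv.2 h1
      have hdim := Submodule.finrank_sup_add_finrank_inf_eq
        (LinearMap.ker ((nilOf x₀) ^ (p - 1))) (D j)
      rw [hinj, finrank_bot, add_zero, hD.finrank_eq] at hdim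
      have hle := Submodule.finrank_le (LinearMap.ker ((nilOf x₀) ^ (p - 1)) ⊔ D j)
      rw [hfin] at hle
      have hkd1 : kd (nilOf x₀) (p - 1) + a ≤ n := by
        unfold kd
        omega
      have hkd2 : kd (nilOf x₀) (p - 1 + 1) = n := by
        rw [Nat.sub_add_cancel hpp.one_lt.le, kd_eq_finrank_of_pow_eq_zero _ hNp le_rfl, hfin]
      have hnu : nu (nilOf x₀) (p - 1) = nuOf μ (p - 1) := by
        rw [hx₀, nu_nilOf_stdUnip]
      have hnu' : nu (nilOf x₀) (p - 1) = n - kd (nilOf x₀) (p - 1) := by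
        unfold nu
        rw [hkd2]
      have hpred := nuOf_pred μ p hpp.one_lt.le
      have hz : nuOf μ p = 0 := (nuOf_eq_zero_iff μ p).mpr (fun b hb => (hμ b hb).2)
      omega

end Cfsg.Agent.S5959
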