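import Cfsg.Statements.S5962
import Cfsg.Agent.Lib.Helper15.SympOrder

set_option autoImplicit false
open Cfsg

namespace Cfsg.Agent.S5962

open Cfsg.Agent.Lib.Helper6 Cfsg.Agent.Lib.Helper15

section abstract
variable {F : Type*} [Field F] {V : Type*} [AddCommGroup V] [Module F V]

/-- nondegenerate on a subspace -/
def NdOn (B : V →ₗ[F] V →ₗ[F] F) (S : Submodule F V) : Prop :=
  ∀ u ∈ S, u ≠ 0 → ∃ v ∈ S, B u v ≠ 0

/-- totally isotropic -/
def TI (B : V →ₗ[F] V →ₗ[F] F) (U : Submodule F V) : Prop :=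
  ∀ u ∈ U, ∀ v ∈ U, B u v = 0

/-- the perp of two vectors inside S -/
def cut (B : V →ₗ[F] V →ₗ[F] F) (S : Submodule F V) (e e' : V) : Submodule F V :=
  S ⊓ LinearMap.ker (B e) ⊓ LinearMap.ker (B e')

theorem mem_cut {B : V →ₗ[F] V →ₗ[F] F} {S : Submodule F V} {e e' v : V} :
    v ∈ cut B S e e' ↔ v ∈ S ∧ B e v = 0 ∧ B e' v = 0 := by
  unfold cut
  simp only [Submodule.mem_inf, LinearMap.mem_ker, and_assoc]

theorem skew {B : V →ₗ[F] V →ₗ[F] F} (hB : ∀ v, B v v = 0) (u v : V) : B u v = - B v u := by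
  have h := hB (u + v)
  simp only [map_add, LinearMap.add_apply] at h
  rw [hB u, hB v] at h
  linear_combination h

theorem TI_bot (B : V →ₗ[F] V →ₗ[F] F) : TI B ⊥ := by
  intro u hu v _
  rw [Submodule.mem_bot] at hu
  rw [hu, map_zero, LinearMap.zero_apply]

/-- projection of a vector into the cut -/
theorem proj_mem_cut {B : V →ₗ[F] V →ₗ[F] F} (hB : ∀ v, B v v = 0) {S : Submodule F V} {e e' : V}
    (he : e ∈ S) (he' : e' ∈ S) (hc : B e e' ≠ 0) {v : V} (hv : v ∈ S) :
    v - (B e v / B e e') • e' + (B e' v / B e e') • e ∈ cut B S e e' := by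
  rw [mem_cut]
  refine ⟨S.add_mem (S.sub_mem hv (S.smul_mem _ he')) (S.smul_mem _ he), ?_, ?_⟩
  · simp only [map_add, map_sub, map_smul, smul_eq_mul, hB e, mul_zero, add_zero]
    field_simp
    ring
  · have h1 : B e' e = - B e e' := skew hB e' e
    simp only [map_add, map_sub, map_smul, smul_eq_mul, hB e', mul_zero, sub_zero, h1]
    field_simp
    ring

theorem cut_nd {B : V →ₗ[F] V →ₗ[F] F} (hB : ∀ v, B v v = 0) {S : Submodule F V} {e e' : V}
    (he : e ∈ S) (he' : e' ∈ S) (hc : B e e' ≠ 0) (hnd : NdOn B S) : NdOn B (cut B S e e') := by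
  intro u hu hu0
  rw [mem_cut] at hu
  obtain ⟨v, hv, hv0⟩ := hnd u hu.1 hu0
  refine ⟨_, proj_mem_cut hB he he' hc hv, ?_⟩
  have h1 : B u e = 0 := by rw [skew hB, hu.2.1, neg_zero]
  have h2 : B u e' = 0 := by rw [skew hB, hu.2.2, neg_zero]
  simp only [map_add, map_sub, map_smul, smul_eq_mul, h1, h2, mul_zero, sub_zero, add_zero]
  exact hv0

theorem cut_lt [FiniteDimensional F V] {B : V →ₗ[F] V →ₗ[F] F} (hB : ∀ v, B v v = 0) {S : Submodule F V}
    {e e' : V} (he : e ∈ S) (hc : B e e' ≠ 0) :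
    Module.finrank F (cut B S e e') < Module.finrank F S := by
  apply Submodule.finrank_lt_finrank_of_lt
  rw [lt_iff_le_not_ge]
  refine ⟨fun v hv => (mem_cut.mp hv).1, fun h => ?_⟩
  have := (mem_cut.mp (h he)).2.2
  rw [skew hB, neg_eq_zero] at this
  exact hc this

theorem step_split {B : V →ₗ[F] V →ₗ[F] F} (hB : ∀ v, B v v = 0) {S : Submodule F V} {e e' : V}
    (he : e ∈ S) (he' : e' ∈ S) (hc : B e e' ≠ 0) {U' W' : Submodule F V}
    (hU' : TI B U') (hW' : TI B W') (hinf : U' ⊓ W' = ⊥) (hsup : U' ⊔ W' = cut B S e e') :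
    TI B (U' ⊔ Submodule.span F {e}) ∧ TI B (W' ⊔ Submodule.span F {e'}) ∧
      (U' ⊔ Submodule.span F {e}) ⊓ (W' ⊔ Submodule.span F {e'}) = ⊥ ∧
      (U' ⊔ Submodule.span F {e}) ⊔ (W' ⊔ Submodule.span F {e'}) = S := by
  have hUc : ∀ u ∈ U', u ∈ S ∧ B e u = 0 ∧ B e' u = 0 := fun u hu =>
    mem_cut.mp (hsup ▸ (le_sup_left : U' ≤ U' ⊔ W') hu)
  have hWc : ∀ u ∈ W', u ∈ S ∧ B e u = 0 ∧ B e' u = 0 := fun u hu =>
    mem_cut.mp (hsup ▸ (le_sup_right : W' ≤ U' ⊔ W') hu)
  have hee : B e' e = - B e e' := skew hB e' e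
  refine ⟨?_, ?_, ?_, ?_⟩
  · intro u hu v hv
    obtain ⟨u', hu', y, hy, rfl⟩ := Submodule.mem_sup.mp hu
    obtain ⟨a, rfl⟩ := Submodule.mem_span_singleton.mp hy
    obtain ⟨v', hv', y', hy', rfl⟩ := Submodule.mem_sup.mp hv
    obtain ⟨b, rfl⟩ := Submodule.mem_span_singleton.mp hy'
    have h1 : B u' v' = 0 := hU' u' hu' v' hv'
    have h2 : B u' e = 0 := by rw [skew hB, (hUc u' hu').2.1, neg_zero]
    have h3 : B e v' = 0 := (hUc v' hv').2.1
    simp only [map_add, map_smul, LinearMap.add_apply, LinearMap.smul_apply, smul_eq_mul, h1, h2, h3, hB e,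
      mul_zero, add_zero]
  · intro u hu v hv
    obtain ⟨u', hu', y, hy, rfl⟩ := Submodule.mem_sup.mp hu
    obtain ⟨a, rfl⟩ := Submodule.mem_span_singleton.mp hy
    obtain ⟨v', hv', y', hy', rfl⟩ := Submodule.mem_sup.mp hv
    obtain ⟨b, rfl⟩ := Submodule.mem_span_singleton.mp hy'
    have h1 : B u' v' = 0 := hW' u' hu' v' hv'
    have h2 : B u' e' = 0 := by rw [skew hB, (hWc u' hu').2.2, neg_zero]
    have h3 : B e' v' = 0 := (hWc v' hv').2.2
    simp only [map_add, map_smul, LinearMap.add_apply, LinearMap.smul_apply, smul_eq_mul, h1, h2, h3, hB e',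
      mul_zero, add_zero]
  · rw [eq_bot_iff]
    intro x hx
    obtain ⟨hxU, hxW⟩ := Submodule.mem_inf.mp hx
    obtain ⟨u', hu', y, hy, hxu⟩ := Submodule.mem_sup.mp hxU
    obtain ⟨a, rfl⟩ := Submodule.mem_span_singleton.mp hy
    obtain ⟨w', hw', y', hy', hxw⟩ := Submodule.mem_sup.mp hxW
    obtain ⟨b, rfl⟩ := Submodule.mem_span_singleton.mp hy'
    have e1 : B e' x = a * B e' e := by
      rw [← hxu, map_add, map_smul, smul_eq_mul, (hUc u' hu').2.2, zero_add]
    have e2 : B e' x = 0 := by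
      rw [← hxw, map_add, map_smul, smul_eq_mul, (hWc w' hw').2.2, hB e', mul_zero, add_zero]
    have e3 : B e x = 0 := by
      rw [← hxu, map_add, map_smul, smul_eq_mul, (hUc u' hu').2.1, hB e, mul_zero, add_zero]
    have e4 : B e x = b * B e e' := by
      rw [← hxw, map_add, map_smul, smul_eq_mul, (hWc w' hw').2.1, zero_add]
    have ha : a = 0 := by
      rw [e2, hee] at e1
      rcases mul_eq_zero.mp e1.symm with h | h
      · exact h
      · exact absurd (neg_eq_zero.mp h) hc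
    have hb : b = 0 := by
      rw [e3] at e4
      rcases mul_eq_zero.mp e4.symm with h | h
      · exact h
      · exact absurd h hc
    rw [ha, zero_smul, add_zero] at hxu
    rw [hb, zero_smul, add_zero] at hxw
    rw [Submodule.mem_bot]
    have : x ∈ U' ⊓ W' := Submodule.mem_inf.mpr ⟨hxu ▸ hu', hxw ▸ hw'⟩
    rw [hinf, Submodule.mem_bot] at this
    exact this
  · apply le_antisymm
    · refine sup_le (sup_le (fun u hu => (hUc u hu).1) ?_) (sup_le (fun u hu => (hWc u hu).1) ?_)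
      · rw [Submodule.span_singleton_le_iff_mem]; exact he
      · rw [Submodule.span_singleton_le_iff_mem]; exact he'
    · intro v hv
      obtain ⟨c₁, hc₁⟩ : ∃ c₁ : F, c₁ = B e v / B e e' := ⟨_, rfl⟩
      obtain ⟨c₂, hc₂⟩ : ∃ c₂ : F, c₂ = B e' v / B e e' := ⟨_, rfl⟩
      have hp := proj_mem_cut hB he he' hc hv
      rw [← hc₁, ← hc₂, ← hsup] at hp
      obtain ⟨u', hu', w', hw', huw⟩ := Submodule.mem_sup.mp hp
      have hv' : v = (u' + (-c₂) • e) + (w' + c₁ • e') := by
        have h2 : v = u' + w' + c₁ • e' - c₂ • e := by rw [huw]; abel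
        calc v = u' + w' + c₁ • e' - c₂ • e := h2
          _ = (u' + (-c₂) • e) + (w' + c₁ • e') := by
            simp only [neg_smul]
            abel
      rw [hv']
      exact Submodule.add_mem _
        (Submodule.mem_sup_left (Submodule.add_mem _ (Submodule.mem_sup_left hu')
          (Submodule.mem_sup_right (Submodule.smul_mem _ _ (Submodule.mem_span_singleton_self e)))))
        (Submodule.mem_sup_right (Submodule.add_mem _ (Submodule.mem_sup_left hw')
          (Submodule.mem_sup_right (Submodule.smul_mem _ _ (Submodule.mem_span_singleton_self e')))))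

variable [FiniteDimensional F V]

theorem fix_split {B : V →ₗ[F] V →ₗ[F] F} (hB : ∀ v, B v v = 0) (X : V →ₗ[F] V)
    (hX : ∀ u v, B (X u) (X v) = B u v) (hXX : ∀ v, X (X v) = v) (h2 : (2 : F) ≠ 0) :
    ∀ n : ℕ, ∀ S : Submodule F V, Module.finrank F S = n → (∀ v ∈ S, X v ∈ S) → NdOn B S →
      ∃ U W : Submodule F V, TI B U ∧ TI B W ∧ U ⊓ W = ⊥ ∧ U ⊔ W = S ∧
        (∀ u ∈ U, X u ∈ U) ∧ (∀ w ∈ W, X w ∈ W) := by
  intro n
  induction n using Nat.strong_induction_on with
  | _ n ih =>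
    intro S hn hinv hnd
    by_cases hS : S = ⊥
    · refine ⟨⊥, ⊥, TI_bot B, TI_bot B, by simp, by simp [hS], ?_, ?_⟩
      · intro u hu; rw [Submodule.mem_bot] at hu; rw [hu, map_zero]; exact Submodule.zero_mem _
      · intro u hu; rw [Submodule.mem_bot] at hu; rw [hu, map_zero]; exact Submodule.zero_mem _
    · obtain ⟨v, hv, hv0⟩ := Submodule.exists_mem_ne_zero_of_ne_bot hS
      -- an eigenvector
      obtain ⟨e, he, he0, ε, hεε, hXe⟩ : ∃ e ∈ S, e ≠ 0 ∧ ∃ ε : F, ε * ε = 1 ∧ X e = ε • e := by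
        by_cases h : v + X v = 0
        · refine ⟨v - X v, S.sub_mem hv (hinv v hv), ?_, -1, by ring, ?_⟩
          · intro h'
            have h3 : (2 : F) • v = 0 := by
              rw [two_smul]
              have : v + v = (v + X v) + (v - X v) := by abel
              rw [this, h, h', add_zero]
            rcases smul_eq_zero.mp h3 with h4 | h4
            · exact h2 h4
            · exact hv0 h4
          · rw [map_sub, hXX, neg_one_smul, neg_sub]
        · refine ⟨v + X v, S.add_mem hv (hinv v hv), h, 1, by ring, ?_⟩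
          rw [map_add, hXX, one_smul, add_comm]
      have hε0 : ε ≠ 0 := by
        intro h; rw [h, mul_zero] at hεε; exact zero_ne_one hεε
      obtain ⟨w, hw, hw0⟩ := hnd e he he0
      have hBX : ∀ y, B e (X y) = ε * B e y := by
        intro y
        have h1 := hX e y
        rw [hXe, map_smul, LinearMap.smul_apply, smul_eq_mul] at h1
        have : ε * (ε * B e (X y)) = ε * B e y := by rw [h1]
        rw [← mul_assoc, hεε, one_mul] at this
        exact this
      obtain ⟨e', he'def⟩ : ∃ e', e' = w + ε • X w := ⟨_, rfl⟩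
      have he' : e' ∈ S := by rw [he'def]; exact S.add_mem hw (S.smul_mem _ (hinv w hw))
      have hXe' : X e' = ε • e' := by
        rw [he'def, map_add, map_smul, hXX, smul_add, smul_smul, hεε, one_smul, add_comm]
      have hc : B e e' ≠ 0 := by
        rw [he'def, map_add, map_smul, smul_eq_mul, hBX, ← mul_assoc, hεε, one_mul]
        intro h
        have : (2 : F) * B e w = 0 := by rw [two_mul]; exact h
        rcases mul_eq_zero.mp this with h4 | h4
        · exact h2 h4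
        · exact hw0 h4
      have hBX' : ∀ y, B e' (X y) = ε * B e' y := by
        intro y
        have h1 := hX e' y
        rw [hXe', map_smul, LinearMap.smul_apply, smul_eq_mul] at h1
        have : ε * (ε * B e' (X y)) = ε * B e' y := by rw [h1]
        rw [← mul_assoc, hεε, one_mul] at this
        exact this
      have hcinv : ∀ y ∈ cut B S e e', X y ∈ cut B S e e' := by
        intro y hy
        rw [mem_cut] at hy ⊢
        refine ⟨hinv y hy.1, ?_, ?_⟩
        · rw [hBX, hy.2.1, mul_zero]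
        · rw [hBX', hy.2.2, mul_zero]
      obtain ⟨U', W', hU', hW', hinf, hsup, hUi, hWi⟩ :=
        ih _ (hn ▸ cut_lt hB he hc) (cut B S e e') rfl hcinv (cut_nd hB he he' hc hnd)
      obtain ⟨s1, s2, s3, s4⟩ := step_split hB he he' hc hU' hW' hinf hsup
      refine ⟨_, _, s1, s2, s3, s4, ?_, ?_⟩
      · intro u hu
        obtain ⟨u', hu', y, hy, rfl⟩ := Submodule.mem_sup.mp hu
        obtain ⟨a, rfl⟩ := Submodule.mem_span_singleton.mp hy
        rw [map_add, map_smul, hXe]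
        exact Submodule.add_mem _ (Submodule.mem_sup_left (hUi u' hu'))
          (Submodule.mem_sup_right (Submodule.smul_mem _ _
            (Submodule.smul_mem _ _ (Submodule.mem_span_singleton_self e))))
      · intro u hu
        obtain ⟨u', hu', y, hy, rfl⟩ := Submodule.mem_sup.mp hu
        obtain ⟨a, rfl⟩ := Submodule.mem_span_singleton.mp hy
        rw [map_add, map_smul, hXe']
        exact Submodule.add_mem _ (Submodule.mem_sup_left (hWi u' hu'))
          (Submodule.mem_sup_right (Submodule.smul_mem _ _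
            (Submodule.smul_mem _ _ (Submodule.mem_span_singleton_self e'))))

theorem swap_split {B : V →ₗ[F] V →ₗ[F] F} (hB : ∀ v, B v v = 0) (X : V →ₗ[F] V)
    (hX : ∀ u v, B (X u) (X v) = B u v) (hXX : ∀ v, X (X v) = -v) (h2 : (2 : F) ≠ 0) :
    ∀ n : ℕ, ∀ S : Submodule F V, Module.finrank F S = n → (∀ v ∈ S, X v ∈ S) → NdOn B S →
      ∃ U W : Submodule F V, TI B U ∧ TI B W ∧ U ⊓ W = ⊥ ∧ U ⊔ W = S ∧
        (∀ u ∈ U, X u ∈ W) ∧ (∀ w ∈ W, X w ∈ U) := by
  intro n
  induction n using Nat.strong_induction_on with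
  | _ n ih =>
    intro S hn hinv hnd
    by_cases hS : S = ⊥
    · refine ⟨⊥, ⊥, TI_bot B, TI_bot B, by simp, by simp [hS], ?_, ?_⟩
      · intro u hu; rw [Submodule.mem_bot] at hu; rw [hu, map_zero]; exact Submodule.zero_mem _
      · intro u hu; rw [Submodule.mem_bot] at hu; rw [hu, map_zero]; exact Submodule.zero_mem _
    · obtain ⟨u, hu, hu0⟩ := Submodule.exists_mem_ne_zero_of_ne_bot hS
      obtain ⟨w, hw, hw0⟩ := hnd u hu hu0
      obtain ⟨e, he, hc⟩ : ∃ e ∈ S, B e (X e) ≠ 0 := by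
        by_contra hcon
        push Not at hcon
        have h1 := hcon (u + X w) (S.add_mem hu (hinv w hw))
        have h3 := hcon u hu
        have h4 := hcon (X w) (hinv w hw)
        simp only [map_add, LinearMap.add_apply, hXX, map_neg] at h1 h4
        have h5 : B (X w) (X u) = B w u := hX w u
        have h6 : B w u = - B u w := skew hB w u
        rw [h3, h5, h6] at h1
        have : (2 : F) * B u w = 0 := by linear_combination (-1 : F) * h1 + h4
        rcases mul_eq_zero.mp this with h7 | h7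
        · exact h2 h7
        · exact hw0 h7
      have he' : X e ∈ S := hinv e he
      have hcinv : ∀ y ∈ cut B S e (X e), X y ∈ cut B S e (X e) := by
        intro y hy
        rw [mem_cut] at hy ⊢
        refine ⟨hinv y hy.1, ?_, ?_⟩
        · have h1 := hX (X e) y
          rw [hXX, map_neg, LinearMap.neg_apply, hy.2.2] at h1
          exact neg_eq_zero.mp h1
        · rw [hX, hy.2.1]
      obtain ⟨U', W', hU', hW', hinf, hsup, hUi, hWi⟩ :=
        ih _ (hn ▸ cut_lt hB he hc) (cut B S e (X e)) rfl hcinv (cut_nd hB he he' hc hnd)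
      obtain ⟨s1, s2, s3, s4⟩ := step_split hB he he' hc hU' hW' hinf hsup
      refine ⟨_, _, s1, s2, s3, s4, ?_, ?_⟩
      · intro u hu
        obtain ⟨u', hu', y, hy, rfl⟩ := Submodule.mem_sup.mp hu
        obtain ⟨a, rfl⟩ := Submodule.mem_span_singleton.mp hy
        rw [map_add, map_smul]
        exact Submodule.add_mem _ (Submodule.mem_sup_left (hUi u' hu'))
          (Submodule.mem_sup_right (Submodule.smul_mem _ _ (Submodule.mem_span_singleton_self (X e))))
      · intro u hu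
        obtain ⟨u', hu', y, hy, rfl⟩ := Submodule.mem_sup.mp hu
        obtain ⟨a, rfl⟩ := Submodule.mem_span_singleton.mp hy
        rw [map_add, map_smul, hXX]
        exact Submodule.add_mem _ (Submodule.mem_sup_left (hWi u' hu'))
          (Submodule.mem_sup_right (Submodule.smul_mem _ _
            (Submodule.neg_mem _ (Submodule.mem_span_singleton_self e))))

theorem map_eq_of {X : V →ₗ[F] V} {U W : Submodule F V} (h1 : ∀ u ∈ U, X u ∈ W)
    (h2 : ∀ w ∈ W, ∃ u ∈ U, X u = w) : U.map X = W := by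
  apply le_antisymm
  · rintro _ ⟨u, hu, rfl⟩
    exact h1 u hu
  · intro w hw
    obtain ⟨u, hu, rfl⟩ := h2 w hw
    exact Submodule.mem_map_of_mem hu

end abstract

theorem result {F : Type*} [Field F] [Fintype F] {p : ℕ} [Fact p.Prime] [CharP F p] {q : ℕ} (hq : Fintype.card F = q)
    (d : ℕ) (hd : 2 ≤ d) (hT : (d, q) ≠ (2, 2)) (hodd : Odd q)
    (hΩ : 2 ∣ Nat.card {P : Submodule F (Fin d ⊕ Fin d → F) × Submodule F (Fin d ⊕ Fin d → F) // IsCompl P.1 P.2 ∧ (∀ u ∈ P.1, ∀ v ∈ P.1, Cfsg.sympForm d F u v = 0) ∧ (∀ u ∈ P.2, ∀ v ∈ P.2, Cfsg.sympForm d F u v = 0)} / 2)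
    (x : ↥(Matrix.symplecticGroup (Fin d) F))
    (hx1 : ∃ z : F, ((x ^ 2 : ↥(Matrix.symplecticGroup (Fin d) F)) : Matrix (Fin d ⊕ Fin d) (Fin d ⊕ Fin d) F) = z • (1 : Matrix (Fin d ⊕ Fin d) (Fin d ⊕ Fin d) F))
    (hx2 : ∀ z : F, (x : Matrix (Fin d ⊕ Fin d) (Fin d ⊕ Fin d) F) ≠ z • (1 : Matrix (Fin d ⊕ Fin d) (Fin d ⊕ Fin d) F)) :
    ∃ U W : Submodule F (Fin d ⊕ Fin d → F), IsCompl U W ∧ (∀ u ∈ U, ∀ v ∈ U, Cfsg.sympForm d F u v = 0) ∧ (∀ u ∈ W, ∀ v ∈ W, Cfsg.sympForm d F u v = 0) ∧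
        ((U.map (Matrix.toLin' (x : Matrix (Fin d ⊕ Fin d) (Fin d ⊕ Fin d) F)) = U ∧ W.map (Matrix.toLin' (x : Matrix (Fin d ⊕ Fin d) (Fin d ⊕ Fin d) F)) = W) ∨
         (U.map (Matrix.toLin' (x : Matrix (Fin d ⊕ Fin d) (Fin d ⊕ Fin d) F)) = W ∧ W.map (Matrix.toLin' (x : Matrix (Fin d ⊕ Fin d) (Fin d ⊕ Fin d) F)) = U)) := by
  obtain ⟨z, hz⟩ := hx1
  obtain ⟨A, hA⟩ : ∃ A : Matrix (Fin d ⊕ Fin d) (Fin d ⊕ Fin d) F, A = (x : Matrix _ _ F) := ⟨_, rfl⟩
  rw [← hA]
  have hAA : A * A = z • (1 : Matrix (Fin d ⊕ Fin d) (Fin d ⊕ Fin d) F) := by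
    rw [← hz, hA, pow_two]
    rfl
  have h2 : (2 : F) ≠ 0 := by
    intro h
    have hc : ringChar F = 2 := CharP.ringChar_of_prime_eq_zero Nat.prime_two (by exact_mod_cast h)
    have := FiniteField.even_card_iff_char_two.mp hc
    rw [hq] at this
    rcases hodd with ⟨k, hk⟩
    omega
  obtain ⟨B, hBdef⟩ : ∃ B : (Fin d ⊕ Fin d → F) →ₗ[F] (Fin d ⊕ Fin d → F) →ₗ[F] F, B = stdSymp d F := ⟨_, rfl⟩
  have hBapp : ∀ u v, B u v = Cfsg.sympForm d F u v := by intro u v; rw [hBdef]; rfl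
  have hB : ∀ v, B v v = 0 := by intro v; rw [hBapp]; exact sympForm_self v
  obtain ⟨X, hXdef⟩ : ∃ X : (Fin d ⊕ Fin d → F) →ₗ[F] (Fin d ⊕ Fin d → F), X = Matrix.toLin' A := ⟨_, rfl⟩
  have hXapp : ∀ v, X v = A.mulVec v := by intro v; rw [hXdef, Matrix.toLin'_apply]
  have hX : ∀ u v, B (X u) (X v) = B u v := by
    intro u v
    rw [hBapp, hBapp, hXapp, hXapp]
    exact (mem_symplecticGroup_iff_preserves A).mp (hA ▸ x.2) u v
  have hXXz : ∀ v, X (X v) = z • v := by
    intro v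
    rw [hXapp, hXapp, Matrix.mulVec_mulVec, hAA, Matrix.smul_mulVec, Matrix.one_mulVec]
  have hndtop : NdOn B (⊤ : Submodule F (Fin d ⊕ Fin d → F)) := by
    intro u _ hu0
    by_contra hcon
    push Not at hcon
    apply hu0
    apply stdSymp_nondeg u
    intro y
    have := hcon y Submodule.mem_top
    rw [hBdef] at this
    exact this
  have hzz : z * z = 1 := by
    obtain ⟨u, hu⟩ : ∃ u : Fin d ⊕ Fin d → F, u ≠ 0 := by
      refine ⟨Pi.single (Sum.inl ⟨0, by omega⟩) 1, ?_⟩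
      intro h
      have := congrFun h (Sum.inl ⟨0, by omega⟩)
      simp at this
    obtain ⟨v, _, hv⟩ := hndtop u Submodule.mem_top hu
    have h1 : B (X (X u)) (X (X v)) = B u v := by rw [hX, hX]
    rw [hXXz, hXXz] at h1
    simp only [map_smul, LinearMap.smul_apply, smul_eq_mul] at h1
    have h3 : (z * z - 1) * B u v = 0 := by linear_combination h1
    rcases mul_eq_zero.mp h3 with h4 | h4
    · linear_combination h4
    · exact absurd h4 hv
  rw [← hXdef]
  rcases mul_self_eq_one_iff.mp hzz with h1 | h1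
  · have hXX : ∀ v, X (X v) = v := by intro v; rw [hXXz, h1, one_smul]
    obtain ⟨U, W, hU, hW, hinf, hsup, hUi, hWi⟩ :=
      fix_split hB X hX hXX h2 _ ⊤ rfl (fun v _ => Submodule.mem_top) hndtop
    refine ⟨U, W, ⟨disjoint_iff.mpr hinf, codisjoint_iff.mpr hsup⟩, ?_, ?_, Or.inl ⟨?_, ?_⟩⟩
    · intro u hu v hv; rw [← hBapp]; exact hU u hu v hv
    · intro u hu v hv; rw [← hBapp]; exact hW u hu v hv
    · exact map_eq_of hUi (fun w hw => ⟨X w, hUi w hw, hXX w⟩)
    · exact map_eq_of hWi (fun w hw => ⟨X w, hWi w hw, hXX w⟩)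
  · have hXX : ∀ v, X (X v) = -v := by intro v; rw [hXXz, h1, neg_one_smul]
    obtain ⟨U, W, hU, hW, hinf, hsup, hUi, hWi⟩ :=
      swap_split hB X hX hXX h2 _ ⊤ rfl (fun v _ => Submodule.mem_top) hndtop
    refine ⟨U, W, ⟨disjoint_iff.mpr hinf, codisjoint_iff.mpr hsup⟩, ?_, ?_, Or.inr ⟨?_, ?_⟩⟩
    · intro u hu v hv; rw [← hBapp]; exact hU u hu v hv
    · intro u hu v hv; rw [← hBapp]; exact hW u hu v hv
    · refine map_eq_of hUi (fun w hw => ⟨-(X w), U.neg_mem (hWi w hw), ?_⟩)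
      rw [map_neg, hXX, neg_neg]
    · refine map_eq_of hWi (fun w hw => ⟨-(X w), W.neg_mem (hUi w hw), ?_⟩)
      rw [map_neg, hXX, neg_neg]

end Cfsg.Agent.S5962
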