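import Cfsg.Statements.S5963
import Cfsg.Agent.Lib.Helper15.PSpD7

set_option autoImplicit false
open scoped MatrixGroups
open Cfsg

namespace Cfsg.Agent.S5963

/-- Derangements of odd prime order of PSp_n(q), q odd, on pairs of complementary totally isotropic subspaces. Here `T = PSp_n(q)`, `n = 2d ≥ 4`, `q` odd, realised through the symplectic matrices over the field `F` with `q` elements; Ω is the set of unordered pairs `{U, W}` of complementary totally isotropic `d`-spaces (`F^n = U ⊕ W`), whose stabilizers are the subgroups of type GL_d(q).2 (maximal except in some small cases; maximality is not assumed); an element of `T` of prime order `r` (a symplectic matrix `x` with `x^r` scalar, `x` not scalar) fixes such a pair when it fixes or interchanges `U` and `W`. For every odd prime `r ≠ p` dividing the number of such pairs, some element of `T` of order `r` fixes no such pair (the action is never `r`-elusive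 for odd `r ≠ p`). -/
theorem result {F : Type*} [Field F] [Fintype F] {p : ℕ} [Fact p.Prime] [CharP F p] {q : ℕ} (hq : Fintype.card F = q)
    (d : ℕ) (hd : 2 ≤ d) (hT : (d, q) ≠ (2, 2)) (hodd : Odd q)
    (r : ℕ) [Fact r.Prime] (hr2 : r ≠ 2) (hrp : r ≠ p) (hΩ : r ∣ Nat.card {P : Submodule F (Fin d ⊕ Fin d → F) × Submodule F (Fin d ⊕ Fin d → F) // IsCompl P.1 P.2 ∧ (∀ u ∈ P.1, ∀ v ∈ P.1, Cfsg.sympForm d F u v = 0) ∧ (∀ u ∈ P.2, ∀ v ∈ P.2, Cfsg.sympForm d F u v = 0)} / 2) :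
    ∃ x : ↥(Matrix.symplecticGroup (Fin d) F),
      (∃ z : F, ((x ^ r : ↥(Matrix.symplecticGroup (Fin d) F)) : Matrix (Fin d ⊕ Fin d) (Fin d ⊕ Fin d) F) = z • (1 : Matrix (Fin d ⊕ Fin d) (Fin d ⊕ Fin d) F)) ∧
      (∀ z : F, (x : Matrix (Fin d ⊕ Fin d) (Fin d ⊕ Fin d) F) ≠ z • (1 : Matrix (Fin d ⊕ Fin d) (Fin d ⊕ Fin d) F)) ∧
      ¬ (∃ U W : Submodule F (Fin d ⊕ Fin d → F), IsCompl U W ∧ (∀ u ∈ U, ∀ v ∈ U, Cfsg.sympForm d F u v = 0) ∧ (∀ u ∈ W, ∀ v ∈ W, Cfsg.sympForm d F u v = 0) ∧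
        ((U.map (Matrix.toLin' (x : Matrix (Fin d ⊕ Fin d) (Fin d ⊕ Fin d) F)) = U ∧ W.map (Matrix.toLin' (x : Matrix (Fin d ⊕ Fin d) (Fin d ⊕ Fin d) F)) = W) ∨
         (U.map (Matrix.toLin' (x : Matrix (Fin d ⊕ Fin d) (Fin d ⊕ Fin d) F)) = W ∧ W.map (Matrix.toLin' (x : Matrix (Fin d ⊕ Fin d) (Fin d ⊕ Fin d) F)) = U))) := by
  classical
  subst hq
  have hq2 : 2 ≤ Fintype.card F := Fintype.one_lt_card
  have hd1 : 1 ≤ d := by omega
  -- the count
  have hV : Module.finrank F (Fin d ⊕ Fin d → F) = 2 * d := by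
    rw [Module.finrank_pi, Fintype.card_sum, Fintype.card_fin]; ring
  have hcount := Cfsg.Agent.Lib.Helper15.PSpD.card_polar_mul
    (Cfsg.Agent.Lib.Helper15.stdSymp d F) Cfsg.Agent.Lib.Helper15.stdSymp_alt
    Cfsg.Agent.Lib.Helper15.stdSymp_nondeg d hV
  rw [← Nat.card_congr Cfsg.Agent.Lib.Helper15.sympEquivFam,
    Cfsg.Agent.Lib.Helper15.card_symplecticGroup] at hcount
  obtain ⟨N, hN⟩ : ∃ N : ℕ, N = Nat.card {P : Submodule F (Fin d ⊕ Fin d → F) × Submodule F (Fin d ⊕ Fin d → F) // IsCompl P.1 P.2 ∧ (∀ u ∈ P.1, ∀ v ∈ P.1, Cfsg.sympForm d F u v = 0) ∧ (∀ u ∈ P.2, ∀ v ∈ P.2, Cfsg.sympForm d F u v = 0)} := ⟨_, rfl⟩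
  have hN' : N = Nat.card (Cfsg.Agent.Lib.Helper15.PSpD.PolarPair (Cfsg.Agent.Lib.Helper15.stdSymp d F)) := hN
  rw [← hN] at hΩ
  rw [← hN'] at hcount
  have heven := Cfsg.Agent.Lib.Helper15.PSpD.polar_count_even _ d N hq2 hodd hd1 hcount
  have hrN : r ∣ N := by
    obtain ⟨t, ht⟩ := heven
    rw [ht, Nat.mul_div_cancel_left _ (by norm_num : 0 < 2)] at hΩ
    rw [ht]
    exact Dvd.dvd.mul_left hΩ 2
  have hrq : ¬ r ∣ Fintype.card F := by
    intro h
    obtain ⟨⟨f, hf0⟩, -, hf⟩ := FiniteField.card F p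
    rw [hf] at h
    have := (Fact.out : r.Prime).dvd_of_dvd_pow h
    exact hrp ((Nat.prime_dvd_prime_iff_eq (Fact.out : r.Prime) (Fact.out : p.Prime)).mp this)
  obtain ⟨i, hid, hri⟩ := Cfsg.Agent.Lib.Helper15.PSpD.polar_count_arith _ d N r hq2 hcount
    (Fact.out : r.Prime) hrq hrN
  obtain ⟨j, hj1, hjk, hord, hrj⟩ := Cfsg.Agent.Lib.Helper15.PSpD.order_of_dvd_add_one
    (Fintype.card F) r (i + 1) hr2 (by omega) hri
  exact Cfsg.Agent.Lib.Helper15.PSpD.exists_derangement p hodd d r hr2 hrp j hj1 (by omega) hord hrj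

end Cfsg.Agent.S5963
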