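import Cfsg.Statements.S5964
import Cfsg.Agent.Lib.Helper15.PSubf5

set_option autoImplicit false
open scoped MatrixGroups
open Cfsg

namespace Cfsg.Agent.S5964

/-- Involutions of PSL_n(q) and subfield subgroups. Here `T = PSL_n(F)` for a field `F` with `q = p^f` elements (`n ≥ 2`, `(n, q) ≠ (2, 2), (2, 3)`), `F₀` is the subfield with `q₀` elements where `q = q₀^k` for a prime `k`, and `H` is the subgroup of matrices of determinant 1 lying in the subfield group of `F₀` (invertible matrices over `F₀` times scalars) — a maximal subgroup of type GL_n(q₀) (the case `n = 2`, `q₀ = 2` is excluded); Ω is the set of `T`-conjugates of `H` (cosets of `H`), so an element of `T` of prime order `r` (a matrix `x` of determinant 1 with `x^r` scalar, `x` not scalar) fixes a point of Ω when some conjugate of `x` by a matrix of determinant 1 lies in `H`. Suppose the index of `H` is even. Then every involution of `T` is conjugate in `T` into `H` if and only if either `q` is even, or `k = 2` and `(n)_2 ≤ (q − 1)_2`. (For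 `q` odd and `k` odd the index of `H` is odd, so that case does not arise.) -/
theorem result {F : Type*} [Field F] [Fintype F] {p : ℕ} [Fact p.Prime] [CharP F p] {q : ℕ} (hq : Fintype.card F = q)
    (n : ℕ) (hn : 2 ≤ n) (hT : (n, q) ≠ (2, 2) ∧ (n, q) ≠ (2, 3))
    (F₀ : Subfield F) (k q₀ : ℕ) (hk : k.Prime) (hF₀ : Nat.card ↥F₀ = q₀) (hqk : q = q₀ ^ k) (hC5 : ¬ (n = 2 ∧ q₀ = 2)) (hΩ : 2 ∣ ((Cfsg.Geo.subfieldSubgroup F₀ 1).comap (Matrix.SpecialLinearGroup.toGL : Matrix.SpecialLinearGroup (Fin n) F →* GL (Fin n) F)).index) :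
    (∀ x : Matrix.SpecialLinearGroup (Fin n) F,
      (∃ z : F, ((x ^ 2 : Matrix.SpecialLinearGroup (Fin n) F) : Matrix (Fin n) (Fin n) F) = z • (1 : Matrix (Fin n) (Fin n) F)) →
      (∀ z : F, (x : Matrix (Fin n) (Fin n) F) ≠ z • (1 : Matrix (Fin n) (Fin n) F)) →
      ∃ P : Matrix.SpecialLinearGroup (Fin n) F, P⁻¹ * x * P ∈ ((Cfsg.Geo.subfieldSubgroup F₀ 1).comap (Matrix.SpecialLinearGroup.toGL : Matrix.SpecialLinearGroup (Fin n) F →* GL (Fin n) F))) ↔
    (Odd q → (k = 2 ∧ padicValNat 2 n ≤ padicValNat 2 (q - 1))) := by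
  classical
  subst hq
  constructor
  · intro hall hodd
    have h2 : (2 : F) ≠ 0 := by
      intro h2
      have hk' := FiniteField.even_card_of_char_two
        (CharP.ringChar_of_prime_eq_zero Nat.prime_two h2)
      have := Nat.odd_iff.mp hodd
      omega
    have hq₀odd : q₀ % 2 = 1 := by
      have h1 := Nat.odd_iff.mp hodd
      rw [hqk, Nat.pow_mod] at h1
      rcases Nat.mod_two_eq_zero_or_one q₀ with h | h
      · rw [h, zero_pow hk.ne_zero] at h1
        simp at h1
      · exact h
    by_cases hk2 : k = 2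
    · refine ⟨hk2, ?_⟩
      by_contra hlt
      have hlt' : padicValNat 2 (Fintype.card F - 1) < padicValNat 2 n := by omega
      obtain ⟨x, hx1, hx2, hx3⟩ := Cfsg.Agent.Lib.Helper15.PSubf.bad_subf (n := n) (by omega) h2
        F₀ q₀ hF₀ (by rw [hqk, hk2]) hlt'
      obtain ⟨P, hP⟩ := hall x hx1 hx2
      exact hx3 P hP
    · have hkodd : k % 2 = 1 := (hk.eq_two_or_odd).resolve_left hk2
      exact absurd hΩ (Cfsg.Agent.Lib.Helper15.PSubf.odd_index_subf (by omega) F₀ k q₀ hF₀ hqk
        hq₀odd hkodd)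
  · intro hR x hx1 hns
    obtain ⟨z, hz⟩ := hx1
    apply Cfsg.Agent.Lib.Helper15.PSubf.good_subf (by omega) F₀ x z hz hns
    intro h2
    have hodd : Odd (Fintype.card F) := by
      rw [Nat.odd_iff]
      apply FiniteField.odd_card_of_char_ne_two
      intro hch
      apply h2
      have := ringChar.Nat.cast_ringChar (R := F)
      rw [hch] at this
      exact_mod_cast this
    obtain ⟨hk2, hv⟩ := hR hodd
    exact ⟨q₀, by rw [hqk, hk2], hv⟩

end Cfsg.Agent.S5964
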