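import Cfsg.Statements.S5965
import Cfsg.Agent.Lib.Helper15.PSf10

set_option autoImplicit false
open scoped MatrixGroups
open Cfsg

namespace Cfsg.Agent.S5965

/-- Elements of odd prime order r ≠ p of PSL_n(q) and subfield subgroups. Here `T = PSL_n(F)` for a field `F` with `q = p^f` elements (`n ≥ 2`, `(n, q) ≠ (2, 2), (2, 3)`), `F₀` is the subfield with `q₀` elements where `q = q₀^k` for a prime `k`, and `H` is the subgroup of matrices of determinant 1 lying in the subfield group of `F₀` (invertible matrices over `F₀` times scalars) — a maximal subgroup of type GL_n(q₀) (the case `n = 2`, `q₀ = 2` is excluded); Ω is the set of `T`-conjugates of `H` (cosets of `H`), so an element of `T` of prime order `r` (a matrix `x` of determinant 1 with `x^r` scalar, `x` not scalar) fixes a point of Ω when some conjugate of `x` by a matrix of determinant 1 lies in `H`. Let `r ≠ p` be an odd prime dividing the index of `H`, with `(n, r) ≠ (6, 3)` and, when `r = k` divides `q₀ − 1`, with `(n)_r ≤ (q − 1)_r`. Then every element of `T` of order `r` is conjugate in `T` into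 `H` if and only if `r = k`, or `k = 2`, `r = n ∈ {3, 5}` and `(q₀ + 1)_r = r`. The two excluded cases, `(n, r) = (6, 3)` and `r = k ∣ q₀ − 1` with `(n)_r > (q − 1)_r`, are ones where this criterion can fail, so they are left out. -/
theorem result {F : Type*} [Field F] [Fintype F] {p : ℕ} [Fact p.Prime] [CharP F p] {q : ℕ} (hq : Fintype.card F = q)
    (n : ℕ) (hn : 2 ≤ n) (hT : (n, q) ≠ (2, 2) ∧ (n, q) ≠ (2, 3))
    (F₀ : Subfield F) (k q₀ : ℕ) (hk : k.Prime) (hF₀ : Nat.card ↥F₀ = q₀) (hqk : q = q₀ ^ k) (hC5 : ¬ (n = 2 ∧ q₀ = 2)) (r : ℕ) [Fact r.Prime] (hr2 : r ≠ 2) (hrp : r ≠ p) (hgap : ¬ (n = 6 ∧ r = 3)) (hgapk : r = k → r ∣ q₀ - 1 → padicValNat r n ≤ padicValNat r (q - 1)) (hΩ : r ∣ ((Cfsg.Geo.subfieldSubgroup F₀ 1).comap (Matrix.SpecialLinearGroup.toGL : Matrix.SpecialLinearGroup (Fin n) F →* GL (Fin n) F)).index) :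
    (∀ x : Matrix.SpecialLinearGroup (Fin n) F,
      (∃ z : F, ((x ^ r : Matrix.SpecialLinearGroup (Fin n) F) : Matrix (Fin n) (Fin n) F) = z • (1 : Matrix (Fin n) (Fin n) F)) →
      (∀ z : F, (x : Matrix (Fin n) (Fin n) F) ≠ z • (1 : Matrix (Fin n) (Fin n) F)) →
      ∃ P : Matrix.SpecialLinearGroup (Fin n) F, P⁻¹ * x * P ∈ ((Cfsg.Geo.subfieldSubgroup F₀ 1).comap (Matrix.SpecialLinearGroup.toGL : Matrix.SpecialLinearGroup (Fin n) F →* GL (Fin n) F))) ↔
    (r = k ∨ (k = 2 ∧ r = n ∧ (n = 3 ∨ n = 5) ∧ padicValNat r (q₀ + 1) = 1)) := by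
  classical
  subst hq
  have hr : r.Prime := Fact.out
  have hq₀2 : 2 ≤ q₀ := Cfsg.Agent.Lib.Helper15.PSf.two_le_of_card F₀ q₀ hF₀
  have hn0 : 0 < n := by omega
  have hfin : Fintype ↥F₀ := Fintype.ofFinite _
  have hF₀' : Fintype.card ↥F₀ = q₀ := by rw [← Nat.card_eq_fintype_card]; exact hF₀
  have hrq₀ : ¬ r ∣ q₀ := by
    intro h
    obtain ⟨e, hp, he⟩ := FiniteField.card ↥F₀ p
    rw [hF₀'] at he
    rw [he] at h
    exact hrp ((Nat.prime_dvd_prime_iff_eq hr hp).mp (hr.dvd_of_dvd_pow h))
  have hq₀ne : ((q₀ : ℕ) : ZMod r) ≠ 0 := by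
    intro h
    exact hrq₀ ((ZMod.natCast_eq_zero_iff _ _).mp h)
  have hcast : ((Fintype.card F : ℕ) : ZMod r) = ((q₀ : ℕ) : ZMod r) ^ k := by
    rw [hqk, Nat.cast_pow]
  have hq1 : 1 ≤ Fintype.card F := Fintype.card_pos
  constructor
  · -- necessity
    intro hall
    by_contra hcon
    have hrk : r ≠ k := fun h => hcon (Or.inl h)
    have hexc : ¬ (k = 2 ∧ r = n ∧ (n = 3 ∨ n = 5) ∧ padicValNat r (q₀ + 1) = 1) :=
      fun h => hcon (Or.inr h)
    have hbadx : ∀ x : Matrix.SpecialLinearGroup (Fin n) F,
        ((∃ z : F, ((x ^ r : Matrix.SpecialLinearGroup (Fin n) F) : Matrix (Fin n) (Fin n) F) =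
          z • (1 : Matrix (Fin n) (Fin n) F)) ∧
        (∀ z : F, (x : Matrix (Fin n) (Fin n) F) ≠ z • (1 : Matrix (Fin n) (Fin n) F)) ∧
        ∀ P : Matrix.SpecialLinearGroup (Fin n) F, P⁻¹ * x * P ∉
          ((Cfsg.Geo.subfieldSubgroup F₀ 1).comap
            (Matrix.SpecialLinearGroup.toGL :
              Matrix.SpecialLinearGroup (Fin n) F →* GL (Fin n) F))) → False := by
      rintro x ⟨h1, h2, h3⟩
      obtain ⟨P, hP⟩ := hall x h1 h2
      exact h3 P hP
    obtain ⟨i₀, hi₀⟩ : ∃ i₀, i₀ = orderOf ((q₀ : ℕ) : ZMod r) := ⟨_, rfl⟩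
    obtain ⟨i, hi⟩ : ∃ i, i = orderOf ((Fintype.card F : ℕ) : ZMod r) := ⟨_, rfl⟩
    have hipos : 0 < i := by
      rw [hi]
      exact Cfsg.Agent.Lib.Helper15.PSub.orderOf_pos_of_ne p r hrp
    have hii₀ : i = i₀ / Nat.gcd i₀ k := by
      rw [hi, hi₀, hcast]
      exact orderOf_pow' _ hk.ne_zero
    have hdvdiff : ∀ d, r ∣ (q₀ ^ k) ^ d - 1 ↔ i ∣ d := by
      intro d
      rw [hi, hqk]
      exact (Cfsg.Agent.Lib.Helper15.PSub.orderOf_zmod_dvd_iff (q₀ ^ k) r d
        (Nat.one_le_pow _ _ (by omega))).symm
    have hdvdiff₀ : ∀ d, r ∣ q₀ ^ d - 1 ↔ i₀ ∣ d := by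
      intro d
      rw [hi₀]
      exact (Cfsg.Agent.Lib.Helper15.PSub.orderOf_zmod_dvd_iff q₀ r d (by omega)).symm
    rcases hk.eq_one_or_self_of_dvd _ (Nat.gcd_dvd_right i₀ k) with hg | hg
    · -- `i = i₀`: the index is prime to `r`
      rw [hg, Nat.div_one] at hii₀
      apply Cfsg.Agent.Lib.Helper15.PSf.not_dvd_index hn0 F₀ k q₀ hk hF₀ hqk r hr hrk hrq₀ ?_ hΩ
      intro d hd
      rw [hdvdiff₀, ← hii₀, ← hdvdiff]
      exact hd
    · -- `i₀ = k * i`
      have hki₀ : k ∣ i₀ := by
        rw [← hg]
        exact Nat.gcd_dvd_left i₀ k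
      rw [hg] at hii₀
      have hi₀k : i₀ = k * i := by
        rw [hii₀]
        exact (Nat.mul_div_cancel' hki₀).symm
      obtain ⟨d, hd1, hdn, hdvd⟩ := Cfsg.Agent.Lib.Helper15.PSf.exists_dvd_of_dvd_index hn0 F₀ k
        q₀ hk hF₀ hqk r hr hrq₀ hΩ
      have hin : i ≤ n := by
        have := Nat.le_of_dvd (by omega) ((hdvdiff d).mp hdvd)
        omega
      by_cases hrq : r ∣ Fintype.card F - 1
      · -- `i = 1`
        have hi1 : i = 1 := by
          rw [hi]
          exact (Cfsg.Agent.Lib.Helper15.PSub.orderOf_zmod_eq_one_iff _ r hq1).mpr hrq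
        rw [hi1, mul_one] at hi₀k
        have hk2le := hk.two_le
        have hnq₀1 : ¬ r ∣ q₀ - 1 := by
          intro h
          have h1 : i₀ ∣ 1 := by
            rw [← hdvdiff₀, pow_one]
            exact h
          have := Nat.dvd_one.mp h1
          omega
        -- a primitive `r`-th root of unity
        have hcardu : r ∣ Fintype.card Fˣ := by
          rw [Fintype.card_units]
          exact hrq
        obtain ⟨lamu, hlamu⟩ := exists_prime_orderOf_dvd_card r hcardu
        obtain ⟨lam, hlam⟩ : ∃ lam : F, lam = (lamu : F) := ⟨_, rfl⟩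
        have hord : orderOf lam = r := by rw [hlam, orderOf_units, hlamu]
        have hlam0 : lam ≠ 0 := by
          rw [hlam]
          exact Units.ne_zero lamu
        have hlamiff : ∀ t, lam ^ t = 1 ↔ r ∣ t := by
          intro t
          rw [← hord]
          exact orderOf_dvd_iff_pow_eq_one.symm
        have hlamr : lam ^ r = 1 := (hlamiff r).mpr (dvd_refl r)
        have h1 : lam ^ q₀ ≠ 1 := by
          intro h
          exact hrq₀ ((hlamiff q₀).mp h)
        have h2 : lam ^ q₀ ≠ lam := by
          intro h
          apply hnq₀1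
          rw [← hlamiff]
          have h3 : lam ^ (q₀ - 1) * lam = lam := by
            rw [← pow_succ, Nat.sub_add_cancel (by omega)]
            exact h
          exact (mul_eq_right₀ hlam0).mp h3
        by_cases hn2 : n = 2
        · subst hn2
          by_cases hk2 : k = 2
          · subst hk2
            have hrq' : r ∣ q₀ + 1 := by
              have h3 : Fintype.card F - 1 = (q₀ - 1) * (q₀ + 1) := by
                rw [hqk]
                obtain ⟨a, rfl⟩ : ∃ a, q₀ = a + 1 := ⟨q₀ - 1, by omega⟩
                apply Nat.sub_eq_of_eq_add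
                rw [Nat.add_sub_cancel]
                ring
              rw [h3] at hrq
              rcases (Nat.Prime.dvd_mul hr).mp hrq with h | h
              · exact absurd h hnq₀1
              · exact h
            exact Cfsg.Agent.Lib.Helper15.PSf.not_dvd_index_two F₀ q₀ hF₀ hqk r hr hr2 hrq' hΩ
          · -- `k ≥ 3`
            have hnq₀p1 : ¬ r ∣ q₀ + 1 := by
              intro h
              have h3 : r ∣ q₀ ^ 2 - 1 := by
                obtain ⟨a, rfl⟩ : ∃ a, q₀ = a + 1 := ⟨q₀ - 1, by omega⟩
                have h4 : (a + 1) ^ 2 - 1 = (a + 1 + 1) * a := by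
                  apply Nat.sub_eq_of_eq_add
                  ring
                rw [h4]
                exact Dvd.dvd.mul_right h _
              have h5 : i₀ ∣ 2 := (hdvdiff₀ 2).mp h3
              rw [hi₀k] at h5
              have := (Nat.prime_dvd_prime_iff_eq hk Nat.prime_two).mp h5
              exact hk2 this
            have hcop2 : Nat.Coprime r 2 := by
              rw [Nat.coprime_primes hr Nat.prime_two]
              exact hr2
            have hd0 : (lam ^ q₀) ^ 2 ≠ 1 := by
              intro h
              rw [← pow_mul, hlamiff] at h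
              rcases (Nat.Prime.dvd_mul hr).mp h with h | h
              · exact hrq₀ h
              · exact hr2 ((Nat.prime_dvd_prime_iff_eq hr Nat.prime_two).mp h)
            have hd1 : (lam ^ q₀) ^ 2 ≠ lam ^ 2 := by
              intro h
              apply hnq₀1
              have h3 : lam ^ ((q₀ - 1) * 2) * lam ^ 2 = lam ^ 2 := by
                rw [← pow_add, ← h, ← pow_mul]
                congr 1
                have : q₀ * 2 = (q₀ - 1) * 2 + 2 := by omega
                omega
              have h4 : lam ^ ((q₀ - 1) * 2) = 1 := (mul_eq_right₀ (pow_ne_zero _ hlam0)).mp h3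
              rw [hlamiff] at h4
              exact hcop2.dvd_of_dvd_mul_right h4
            have hd2 : (lam ^ q₀) ^ 2 * lam ^ 2 ≠ 1 := by
              intro h
              apply hnq₀p1
              rw [← pow_mul, ← pow_add, hlamiff] at h
              have h3 : q₀ * 2 + 2 = (q₀ + 1) * 2 := by ring
              rw [h3] at h
              exact hcop2.dvd_of_dvd_mul_right h
            obtain ⟨x, hx⟩ := Cfsg.Agent.Lib.Helper15.PSf.bad_D2 F₀ q₀ hF₀ r lam hlamr hd0 hd1 hd2
            exact hbadx x hx
        · by_cases hn7 : 7 ≤ n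
          · obtain ⟨m, rfl⟩ : ∃ m, n = m + 1 + 1 + 1 := ⟨n - 3, by omega⟩
            obtain ⟨x, hx⟩ := Cfsg.Agent.Lib.Helper15.PSf.bad_T3 F₀ q₀ hF₀ r m (by omega) lam hlamr
              h1 h2
            exact hbadx x hx
          · obtain ⟨m, rfl⟩ : ∃ m, n = m + 1 := ⟨n - 1, by omega⟩
            have hm2 : 2 ≤ m := by omega
            by_cases hrn : r ∣ m + 1
            · -- `r = n ∈ {3, 5}` or `(n, r) = (6, 3)`
              have hcases : (m + 1 = 3 ∧ r = 3) ∨ (m + 1 = 5 ∧ r = 5) ∨ (m + 1 = 6 ∧ r = 3) := by
                have hm6 : m + 1 ≤ 6 := by omega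
                have hrle : r ≤ m + 1 := Nat.le_of_dvd (by omega) hrn
                have hr3 : 3 ≤ r := by
                  have := hr.two_le
                  omega
                have hr4 : r ≠ 4 := by
                  rintro rfl
                  norm_num at hr
                have hr6 : r ≠ 6 := by
                  rintro rfl
                  norm_num at hr
                obtain ⟨c, hc⟩ := hrn
                have hc1 : 1 ≤ c := by
                  rcases Nat.eq_zero_or_pos c with h | h
                  · rw [h] at hc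
                    omega
                  · exact h
                have hc2 : c ≤ 2 := by
                  by_contra hcon'
                  have : 3 * 3 ≤ r * c := Nat.mul_le_mul hr3 (by omega)
                  omega
                have hr6' : r ≤ 6 := by omega
                interval_cases c
                · have : r = m + 1 := by omega
                  interval_cases r <;> omega
                · have : r * 2 = m + 1 := by omega
                  interval_cases r <;> omega
              by_cases hv2 : 2 ≤ padicValNat r (Fintype.card F - 1)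
              · -- pseudo-reflection with `w^r = λ⁻¹`
                have hrn' : r = m + 1 := by
                  rcases hcases with h | h | h
                  · omega
                  · omega
                  · exact absurd ⟨h.1, h.2⟩ hgap
                have hv1 : padicValNat r r = 1 := padicValNat_self
                obtain ⟨w, hw⟩ := Cfsg.Agent.Lib.Helper15.PSub.exists_pow_eq_of_pow_eq_one r hr lam⁻¹
                  (inv_ne_zero hlam0) r hr.ne_zero (by rw [inv_pow, hlamr, inv_one])
                  (by rw [hv1]; omega)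
                have hw0 : w ≠ 0 := by
                  rintro rfl
                  rw [zero_pow hr.ne_zero] at hw
                  exact inv_ne_zero hlam0 hw.symm
                obtain ⟨x, hx⟩ := Cfsg.Agent.Lib.Helper15.PSf.bad_PR F₀ q₀ hF₀ r m hm2 lam w hw0
                  hlamr h1 h2 (by rw [← hrn', hw, inv_mul_cancel₀ hlam0])
                exact hbadx x hx
              · -- the exceptional case
                rcases hcases with h | h | h
                · apply hexc
                  obtain ⟨hm3, hr3⟩ := h
                  have hk2 : k = 2 := by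
                    have h3 : i₀ ∣ r - 1 := by
                      rw [hi₀]
                      exact ZMod.orderOf_dvd_card_sub_one hq₀ne
                    rw [hi₀k, hr3] at h3
                    exact (Nat.prime_dvd_prime_iff_eq hk Nat.prime_two).mp h3
                  refine ⟨hk2, by omega, Or.inl hm3, ?_⟩
                  subst hk2
                  have h3 : Fintype.card F - 1 = (q₀ - 1) * (q₀ + 1) := by
                    rw [hqk]
                    obtain ⟨a, rfl⟩ : ∃ a, q₀ = a + 1 := ⟨q₀ - 1, by omega⟩
                    apply Nat.sub_eq_of_eq_add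
                    rw [Nat.add_sub_cancel]
                    ring
                  have h4 : padicValNat r (Fintype.card F - 1) = padicValNat r (q₀ + 1) := by
                    rw [h3, padicValNat.mul (by omega) (by omega),
                      padicValNat.eq_zero_of_not_dvd hnq₀1, zero_add]
                  have hqne : Fintype.card F - 1 ≠ 0 := by
                    rw [h3]
                    exact Nat.mul_ne_zero (by omega) (by omega)
                  have h5 : 1 ≤ padicValNat r (Fintype.card F - 1) :=
                    one_le_padicValNat_of_dvd hqne hrq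
                  omega
                · apply hexc
                  obtain ⟨hm5, hr5⟩ := h
                  have hk2 : k = 2 := by
                    have h3 : i₀ ∣ r - 1 := by
                      rw [hi₀]
                      exact ZMod.orderOf_dvd_card_sub_one hq₀ne
                    rw [hi₀k, hr5] at h3
                    have h4 : k ∣ 2 ^ 2 := h3
                    exact (Nat.prime_dvd_prime_iff_eq hk Nat.prime_two).mp
                      (hk.dvd_of_dvd_pow h4)
                  refine ⟨hk2, by omega, Or.inr hm5, ?_⟩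
                  subst hk2
                  have h3 : Fintype.card F - 1 = (q₀ - 1) * (q₀ + 1) := by
                    rw [hqk]
                    obtain ⟨a, rfl⟩ : ∃ a, q₀ = a + 1 := ⟨q₀ - 1, by omega⟩
                    apply Nat.sub_eq_of_eq_add
                    rw [Nat.add_sub_cancel]
                    ring
                  have h4 : padicValNat r (Fintype.card F - 1) = padicValNat r (q₀ + 1) := by
                    rw [h3, padicValNat.mul (by omega) (by omega),
                      padicValNat.eq_zero_of_not_dvd hnq₀1, zero_add]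
                  have hqne : Fintype.card F - 1 ≠ 0 := by
                    rw [h3]
                    exact Nat.mul_ne_zero (by omega) (by omega)
                  have h5 : 1 ≤ padicValNat r (Fintype.card F - 1) :=
                    one_le_padicValNat_of_dvd hqne hrq
                  omega
                · exact hgap ⟨h.1, h.2⟩
            · -- pseudo-reflection with `w` a power of `λ`
              have hnz : NeZero r := ⟨hr.ne_zero⟩
              have hmne : (((m + 1 : ℕ)) : ZMod r) ≠ 0 := by
                intro h
                exact hrn ((ZMod.natCast_eq_zero_iff _ _).mp h)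
              obtain ⟨s, hs⟩ : ∃ s : ℕ, s = (-(((m + 1 : ℕ)) : ZMod r)⁻¹).val := ⟨_, rfl⟩
              have hsn : r ∣ s * (m + 1) + 1 := by
                rw [← ZMod.natCast_eq_zero_iff, Nat.cast_add, Nat.cast_mul, hs,
                  ZMod.natCast_zmod_val, Nat.cast_one, neg_mul, inv_mul_cancel₀ hmne,
                  neg_add_cancel]
              have hw0 : lam ^ s ≠ 0 := pow_ne_zero _ hlam0
              obtain ⟨x, hx⟩ := Cfsg.Agent.Lib.Helper15.PSf.bad_PR F₀ q₀ hF₀ r m hm2 lam (lam ^ s)
                hw0 hlamr h1 h2 (by rw [← pow_mul, ← pow_succ, hlamiff]; exact hsn)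
              exact hbadx x hx
      · -- `i ≥ 2`
        rw [hi₀, hi] at hi₀k
        rw [hi] at hin
        obtain ⟨x, hx⟩ := Cfsg.Agent.Lib.Helper15.PSf.bad_i2_subf p F₀ k q₀ hk.two_le hF₀ hqk r hrp
          hrq n hin hi₀k
        exact hbadx x hx
  · -- sufficiency
    rintro (hrk | ⟨hk2, hrn, hn35, hv⟩)
    · intro x ⟨z, hz⟩ _
      subst hrk
      have hcast' : ((Fintype.card F : ℕ) : ZMod r) = ((q₀ : ℕ) : ZMod r) := by
        rw [hcast, ZMod.pow_card]
      have hord : orderOf ((q₀ : ℕ) : ZMod r) = orderOf ((Fintype.card F : ℕ) : ZMod r) := by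
        rw [hcast']
      have hgood : r ∣ Fintype.card F - 1 →
          padicValNat r n ≤ padicValNat r (Fintype.card F - 1) := by
        intro h
        apply hgapk rfl
        rw [← Cfsg.Agent.Lib.Helper15.PSub.orderOf_zmod_eq_one_iff q₀ r (by omega), hord]
        exact (Cfsg.Agent.Lib.Helper15.PSub.orderOf_zmod_eq_one_iff _ r hq1).mpr h
      exact Cfsg.Agent.Lib.Helper15.PSf.good_A p hn0 F₀ q₀ hF₀ r hr2 hrp hord hgood x z hz
    · intro x ⟨z, hz⟩ hns
      subst hk2
      subst hrn
      rcases hn35 with h3 | h5
      · subst h3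
        exact Cfsg.Agent.Lib.Helper15.PSf.good_B p F₀ q₀ hF₀ hqk 3 hr2 hrp hv
          Cfsg.Agent.Lib.Helper15.PSf.sym3' x z hz hns
      · subst h5
        exact Cfsg.Agent.Lib.Helper15.PSf.good_B p F₀ q₀ hF₀ hqk 5 hr2 hrp hv
          Cfsg.Agent.Lib.Helper15.PSf.sym5' x z hz hns

end Cfsg.Agent.S5965
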