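import Cfsg.Statements.S5969
import Cfsg.Agent.Lib.Helper15.PNorm6

set_option autoImplicit false
open scoped MatrixGroups
open Cfsg

namespace Cfsg.Agent.S5969

/-- Involutions of PSL_n(q) and extension-field subgroups of degree 2. Here `T = PSL_n(F)` for a field `F` with `q = p^f` elements (`n ≥ 2`, `(n, q) ≠ (2, 2), (2, 3)`), `k` is a prime dividing `n`, `K` is a subalgebra of the `n × n` matrices that is a field of degree `k` over `F` (an extension-field structure F_{q^k} on `F^n`), and `H` is the subgroup of matrices of determinant 1 normalizing `K` — a subgroup of type GL_{n/k}(q^k) (maximal except in some small cases; maximality is not assumed); Ω is the set of cosets of `H` in `T`, so an element of `T` of prime order `r` (a matrix `x` of determinant 1 with `x^r` scalar, `x` not scalar) fixes a point of Ω when some conjugate of `x` by a matrix of determinant 1 normalizes `K`. Take `k = 2` and suppose the index of `H` is even. Then every involution of `T` is conjugate in `T` into `H` if and only if `n = 2`, or `q` is odd and `(q − 1)_2 ≤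 (n)_2`. -/
theorem result {F : Type*} [Field F] [Fintype F] {p : ℕ} [Fact p.Prime] [CharP F p] {q : ℕ} (hq : Fintype.card F = q)
    (n : ℕ) (hn : 2 ≤ n) (hT : (n, q) ≠ (2, 2) ∧ (n, q) ≠ (2, 3))
    (k : ℕ) (hk : k.Prime) (hkn : k ∣ n) (K : Subalgebra F (Matrix (Fin n) (Fin n) F)) (hK : Cfsg.Geo.IsFieldSubalgebra k K) (hk2 : k = 2) (hΩ : 2 ∣ ((Cfsg.Geo.subalgebraNormalizer K).comap (Matrix.SpecialLinearGroup.toGL : Matrix.SpecialLinearGroup (Fin n) F →* GL (Fin n) F)).index) :
    (∀ x : Matrix.SpecialLinearGroup (Fin n) F,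
      (∃ z : F, ((x ^ 2 : Matrix.SpecialLinearGroup (Fin n) F) : Matrix (Fin n) (Fin n) F) = z • (1 : Matrix (Fin n) (Fin n) F)) →
      (∀ z : F, (x : Matrix (Fin n) (Fin n) F) ≠ z • (1 : Matrix (Fin n) (Fin n) F)) →
      ∃ P : Matrix.SpecialLinearGroup (Fin n) F, P⁻¹ * x * P ∈ ((Cfsg.Geo.subalgebraNormalizer K).comap (Matrix.SpecialLinearGroup.toGL : Matrix.SpecialLinearGroup (Fin n) F →* GL (Fin n) F))) ↔
    (n = 2 ∨ (Odd q ∧ padicValNat 2 (q - 1) ≤ padicValNat 2 n)) := by
  classical
  subst hq
  subst hk2
  obtain ⟨m, hm⟩ := hkn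
  have hm0 : m ≠ 0 := by omega
  have hchar : (2 : F) ≠ 0 → ringChar F ≠ 2 := by
    intro h2 hch
    apply h2
    have := ringChar.Nat.cast_ringChar (R := F)
    rw [hch] at this
    exact_mod_cast this
  constructor
  · intro hall
    by_contra hcon
    rw [not_or] at hcon
    obtain ⟨hn2, hcon2⟩ := hcon
    have hn3 : 3 ≤ n := by omega
    by_cases h2 : (2 : F) = 0
    · obtain ⟨x, hx1, hx2, hx3⟩ := Cfsg.Agent.Lib.Helper15.PNorm.bad_norm_two hn3 h2 K hK
      obtain ⟨P, hP⟩ := hall x hx1 hx2
      exact hx3 P hP
    · have hodd : Odd (Fintype.card F) := by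
        rw [Nat.odd_iff]
        exact FiniteField.odd_card_of_char_ne_two (hchar h2)
      have hlt : padicValNat 2 n < padicValNat 2 (Fintype.card F - 1) := by
        by_contra hle
        exact hcon2 ⟨hodd, by omega⟩
      obtain ⟨x, hx1, hx2, hx3⟩ :=
        Cfsg.Agent.Lib.Helper15.PNorm.bad_norm_odd hn3 h2 hlt K hK
      obtain ⟨P, hP⟩ := hall x hx1 hx2
      exact hx3 P hP
  · intro hR x hx1 hns
    obtain ⟨z', hz'⟩ := hx1
    set X := Matrix.toLin' (x : Matrix (Fin n) (Fin n) F) with hXdef
    have hX2 : X ^ 2 = z' • (1 : (Fin n → F) →ₗ[F] (Fin n → F)) :=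
      (Cfsg.Agent.Lib.Helper15.PSub.pow_SL_iff x 2 z').mp hz'
    have hXns : ∀ c : F, X ≠ c • (1 : (Fin n → F) →ₗ[F] (Fin n → F)) := fun c hc =>
      hns c ((Cfsg.Agent.Lib.Helper15.PSub.scalar_SL_iff x c).mpr hc)
    have hdetX : LinearMap.det X = 1 := Cfsg.Agent.Lib.Helper15.PSub.det_toLin'_SL x
    have hV : Module.finrank F (Fin n → F) = n := Module.finrank_fin_fun F
    have hz'0 : z' ≠ 0 := by
      rintro rfl
      have h1 := congrArg LinearMap.det hX2
      rw [map_pow, hdetX, LinearMap.det_smul, hV, zero_pow (by omega), zero_mul] at h1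
      simp at h1
    by_cases h2 : (2 : F) = 0
    · have hn2 : n = 2 := by
        rcases hR with h | ⟨hodd, -⟩
        · exact h
        · exfalso
          have hk' := FiniteField.even_card_of_char_two
            (CharP.ringChar_of_prime_eq_zero Nat.prime_two h2)
          have := Nat.odd_iff.mp hodd
          omega
      obtain ⟨w, hw⟩ := FiniteField.isSquare_of_char_two (CharP.ringChar_of_prime_eq_zero
        Nat.prime_two h2) z'
      have hw0 : w ≠ 0 := by
        rintro rfl
        apply hz'0
        rw [hw, mul_zero]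
      exact Cfsg.Agent.Lib.Helper15.PNorm.good_norm_two hn2 h2 K hK x w hw0
        (by rw [← hw]; exact hX2) (hXns w)
    · by_cases hsq : IsSquare z'
      · obtain ⟨w, hw⟩ := hsq
        have hw0 : w ≠ 0 := by
          rintro rfl
          apply hz'0
          rw [hw, mul_zero]
        have hX2' : X ^ 2 = (w * w) • (1 : (Fin n → F) →ₗ[F] (Fin n → F)) := by
          rw [← hw]; exact hX2
        have hc := Cfsg.Agent.Lib.Helper15.PInv.typeD_isCompl X w hw0 h2 hX2'
        have hdim := Submodule.finrank_add_eq_of_isCompl hc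
        rw [hV] at hdim
        set d₁ := Module.finrank F (Module.End.eigenspace X w) with hd₁
        set d₂ := Module.finrank F (Module.End.eigenspace X (-w)) with hd₂
        have hd₂0 : d₂ ≠ 0 := by
          intro h0
          have hbot : Module.End.eigenspace X (-w) = ⊥ := Submodule.finrank_eq_zero.mp h0
          have htop : Module.End.eigenspace X w = ⊤ := by
            have := hc.sup_eq_top
            rwa [hbot, sup_bot_eq] at this
          apply hXns w
          apply LinearMap.ext
          intro v
          have hv : v ∈ Module.End.eigenspace X w := by rw [htop]; trivial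
          rw [Module.End.mem_eigenspace_iff.mp hv]
          rfl
        have hd₁0 : d₁ ≠ 0 := by
          intro h0
          have hbot : Module.End.eigenspace X w = ⊥ := Submodule.finrank_eq_zero.mp h0
          have htop : Module.End.eigenspace X (-w) = ⊤ := by
            have := hc.sup_eq_top
            rwa [hbot, bot_sup_eq] at this
          apply hXns (-w)
          apply LinearMap.ext
          intro v
          have hv : v ∈ Module.End.eigenspace X (-w) := by rw [htop]; trivial
          rw [Module.End.mem_eigenspace_iff.mp hv]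
          rfl
        rcases hR with hn2 | ⟨hodd, hv2⟩
        · have h11 : d₁ = 1 ∧ d₂ = 1 := by omega
          exact Cfsg.Agent.Lib.Helper15.PNorm.good_norm_D2 hn2 h2 K hK x w hw0 hX2' h11.1 h11.2
        · have hdet := Cfsg.Agent.Lib.Helper15.PInv.typeD_det X w hw0 h2 hX2'
          rw [hdetX] at hdet
          have hev : Even d₂ := by
            rw [← Nat.not_odd_iff_even]
            intro hodd2
            rw [← hd₁, ← hd₂, neg_pow, hodd2.neg_one_pow] at hdet
            have h5 : w ^ n = -1 := by
              rw [← hdim, pow_add]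
              linear_combination hdet
            have := Cfsg.Agent.Lib.Helper15.PInv.lt_of_pow_eq_neg_one h2 n (by omega) w h5
            omega
          obtain ⟨k₂, hk₂⟩ := hev
          have hk₂' : d₂ = 2 * k₂ := by omega
          have hk₁' : d₁ = 2 * (m - k₂) := by omega
          exact Cfsg.Agent.Lib.Helper15.PNorm.good_norm_D m hm0 hm h2 K hK x w hw0 hX2'
            (m - k₂) k₂ hk₁' hk₂'
      · exact Cfsg.Agent.Lib.Helper15.PNorm.good_norm_I m hm0 hm h2 K hK x z' hsq hX2

end Cfsg.Agent.S5969
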