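import Cfsg.Statements.S5971
import Cfsg.Agent.Lib.Helper15.PSing10

set_option autoImplicit false
open scoped MatrixGroups
open Cfsg

namespace Cfsg.Agent.S5971

/-- Elements of order 3 of PSL_3(q) and the normalizer of a Singer cycle. Here `T = PSL_n(F)` for a field `F` with `q = p^f` elements (`n ≥ 2`, `(n, q) ≠ (2, 2), (2, 3)`), `k` is a prime dividing `n`, `K` is a subalgebra of the `n × n` matrices that is a field of degree `k` over `F` (an extension-field structure F_{q^k} on `F^n`), and `H` is the subgroup of matrices of determinant 1 normalizing `K` — a subgroup of type GL_{n/k}(q^k) (maximal except in some small cases; maximality is not assumed); Ω is the set of cosets of `H` in `T`, so an element of `T` of prime order `r` (a matrix `x` of determinant 1 with `x^r` scalar, `x` not scalar) fixes a point of Ω when some conjugate of `x` by a matrix of determinant 1 normalizes `K`. Take `n = k = 3` and suppose 3 divides the index of `H`. Then every element of `T` of order 3 is conjugate in `T` into `H` if and only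 if `q ≡ 4, 7` or `8 (mod 9)`. -/
theorem result {F : Type*} [Field F] [Fintype F] {p : ℕ} [Fact p.Prime] [CharP F p] {q : ℕ} (hq : Fintype.card F = q)
    (n : ℕ) (hn : n = 3) (k : ℕ) (hk : k.Prime) (hkn : k ∣ n) (K : Subalgebra F (Matrix (Fin n) (Fin n) F)) (hK : Cfsg.Geo.IsFieldSubalgebra k K) (hk3 : k = 3) (hΩ : 3 ∣ ((Cfsg.Geo.subalgebraNormalizer K).comap (Matrix.SpecialLinearGroup.toGL : Matrix.SpecialLinearGroup (Fin n) F →* GL (Fin n) F)).index) :
    (∀ x : Matrix.SpecialLinearGroup (Fin n) F,
      (∃ z : F, ((x ^ 3 : Matrix.SpecialLinearGroup (Fin n) F) : Matrix (Fin n) (Fin n) F) = z • (1 : Matrix (Fin n) (Fin n) F)) →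
      (∀ z : F, (x : Matrix (Fin n) (Fin n) F) ≠ z • (1 : Matrix (Fin n) (Fin n) F)) →
      ∃ P : Matrix.SpecialLinearGroup (Fin n) F, P⁻¹ * x * P ∈ ((Cfsg.Geo.subalgebraNormalizer K).comap (Matrix.SpecialLinearGroup.toGL : Matrix.SpecialLinearGroup (Fin n) F →* GL (Fin n) F))) ↔
    (q % 9 = 4 ∨ q % 9 = 7 ∨ q % 9 = 8) := by
  classical
  subst hq
  subst hn
  subst hk3
  have hqpos := Fintype.one_lt_card (α := F)
  have hf3 : Fact (Nat.Prime 3) := ⟨Nat.prime_three⟩
  obtain ⟨⟨f, hf0⟩, -, hf⟩ := FiniteField.card F p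
  have hp : p.Prime := Fact.out
  have hp3iff : p = 3 ↔ 3 ∣ Fintype.card F := by
    constructor
    · intro h
      rw [hf, h]
      exact dvd_pow_self 3 (by exact_mod_cast hf0.ne')
    · intro h
      rw [hf] at h
      have h1 := Nat.prime_three.dvd_of_dvd_pow h
      exact ((Nat.prime_dvd_prime_iff_eq Nat.prime_three hp).mp h1).symm
  constructor
  · intro hall
    by_contra hR
    by_cases h3 : Fintype.card F % 3 = 0
    · have hp3 : p = 3 := hp3iff.mpr (Nat.dvd_of_mod_eq_zero h3)
      subst hp3
      obtain ⟨x, hx, hns, hbad⟩ := Cfsg.Agent.Lib.Helper15.PSing.bad3_char3 K hK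
      obtain ⟨P, hP⟩ := hall x hx hns
      exact hbad P hP
    · by_cases h1 : Fintype.card F % 9 = 1
      · have h9 : 9 ∣ Fintype.card F - 1 := by omega
        obtain ⟨x, hx, hns, hbad⟩ := Cfsg.Agent.Lib.Helper15.PSing.bad3_nine h9 K hK
        obtain ⟨P, hP⟩ := hall x hx hns
        exact hbad P hP
      · exact Cfsg.Agent.Lib.Helper15.PSing.count3 p K (by omega) hΩ hall
  · intro hR x hx hns
    by_cases h8 : Fintype.card F % 9 = 8
    · have hnp : 3 ≠ p := by
        intro h
        have := hp3iff.mp h.symm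
        omega
      have hq0 : ((Fintype.card F : ℕ) : ZMod 3) ≠ 0 := by
        rw [Ne, ZMod.natCast_eq_zero_iff]
        omega
      have hf2 : Fact (Nat.Prime 2) := ⟨Nat.prime_two⟩
      have hord : orderOf ((Fintype.card F : ℕ) : ZMod 3) = 3 - 1 := by
        show orderOf ((Fintype.card F : ℕ) : ZMod 3) = 2
        apply orderOf_eq_prime
        · exact ZMod.pow_card_sub_one_eq_one hq0
        · intro h
          have h2 : ((Fintype.card F : ℕ) : ZMod 3) = ((1 : ℕ) : ZMod 3) := by
            rw [h, Nat.cast_one]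
          rw [ZMod.natCast_eq_natCast_iff'] at h2
          omega
      exact Cfsg.Agent.Lib.Helper15.PSing.good_singer p Nat.prime_three le_rfl hnp K hK hord x hx hns
    · exact Cfsg.Agent.Lib.Helper15.PSing.good3_one p K hK (by omega) (by omega) x hx hns

end Cfsg.Agent.S5971
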