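import Cfsg.Statements.S5972
import Cfsg.Agent.S5955
import Cfsg.Agent.Lib.Helper10.OrthTS3
import Cfsg.Agent.Lib.Helper10.OrthTS5

set_option autoImplicit false
open scoped MatrixGroups
open Cfsg

namespace Cfsg.Agent.S5972

open Cfsg.Agent.Lib.Helper10.OrthTS Cfsg.Agent.Lib.Helper15 Cfsg.Agent.Lib.Helper6 Module

theorem mod_aux (d c' : ℕ) :
    (2 * d + 1) % (2 * c') = 2 * (d % c') + 1 ∧ (2 * d) % (2 * c') = 2 * (d % c') := by
  refine ⟨?_, Nat.mul_mod_mul_left 2 d c'⟩
  rcases Nat.eq_zero_or_pos c' with h | h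
  · subst h; simp
  · have h1 := Nat.div_add_mod d c'
    have h2 := Nat.mod_lt d h
    have h3 : 2 * d + 1 = (2 * c') * (d / c') + (2 * (d % c') + 1) := by
      nlinarith
    rw [h3, Nat.mul_add_mod, Nat.mod_eq_of_lt (by omega)]

theorem div_aux (d i' : ℕ) : (2 * d + 1) / (2 * i') = (2 * d) / (2 * i') := by
  rw [← Nat.div_div_eq_div_mul, ← Nat.div_div_eq_div_mul]
  congr 1
  omega

theorem arith_iff (d m t i c : ℕ) (hc : c = if Even i then i else 2 * i) :
    (2 * (m % i) < (2 * d + 1) % c ∧ (Odd i ∨ t + 2 * (m / i) ≤ (2 * d + 1) / i)) ↔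
    (2 * (m % i) ≤ (2 * d) % c ∧ (Odd i ∨ t + 2 * (m / i) ≤ (2 * d) / i)) := by
  have hceven : ∃ c', c = 2 * c' := by
    by_cases hie : Even i
    · rw [if_pos hie] at hc
      obtain ⟨k, hk⟩ := hie
      exact ⟨k, by omega⟩
    · rw [if_neg hie] at hc
      exact ⟨i, hc⟩
  obtain ⟨c', hc'⟩ := hceven
  obtain ⟨h1, h2⟩ := mod_aux d c'
  rw [hc', h1, h2]
  have hA : (2 * (m % i) < 2 * (d % c') + 1) ↔ (2 * (m % i) ≤ 2 * (d % c')) := by omega
  have hB : (Odd i ∨ t + 2 * (m / i) ≤ (2 * d + 1) / i) ↔ (Odd i ∨ t + 2 * (m / i) ≤ (2 * d) / i) := by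
    by_cases hio : Odd i
    · simp [hio]
    · have hie : Even i := Nat.not_odd_iff_even.mp hio
      obtain ⟨k, hk⟩ := hie
      have hk' : i = 2 * k := by omega
      rw [hk', div_aux]
  rw [hA, hB]

theorem result {F : Type*} [Field F] [Fintype F] {p : ℕ} [Fact p.Prime] [CharP F p] {q : ℕ} (hq : Fintype.card F = q) (hqodd : Odd q)
    (d m : ℕ) (hd : 3 ≤ d) (hm : 1 ≤ m) (hmd : m ≤ d)
    (r : ℕ) [Fact r.Prime]
    (hrΩ : r ∣ Nat.card {W : Submodule F (Unit ⊕ (Fin d ⊕ Fin d) → F) // Module.finrank F ↥W = m ∧ (∀ w ∈ W, Cfsg.quadFormOdd d F w = 0)})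
    (i c : ℕ) (hi : i = orderOf (q : ZMod r)) (hc : c = if Even i then i else 2 * i) :
    (∀ x : GL (Unit ⊕ (Fin d ⊕ Fin d)) F, x ∈ Cfsg.Geo.omegaGL (Cfsg.quadFormOdd d F) → orderOf x = r →
      ∃ W : Submodule F (Unit ⊕ (Fin d ⊕ Fin d) → F), Module.finrank F ↥W = m ∧ (∀ w ∈ W, Cfsg.quadFormOdd d F w = 0) ∧
        W.map (Matrix.toLin' (x : Matrix (Unit ⊕ (Fin d ⊕ Fin d)) (Unit ⊕ (Fin d ⊕ Fin d)) F)) ≤ W) ↔
    ((r = 2 ∧ (m < d ∨ q % 4 = 1)) ∨
     (r ≠ p ∧ 2 < r ∧ i ≤ m ∧ 2 * (m % i) < (2 * d + 1) % c ∧ (Odd i ∨ (r - 1) / i + 2 * (m / i) ≤ (2 * d + 1) / i))) := by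
  classical
  subst hq
  have h2 : (2 : F) ≠ 0 := two_ne_zero_of_odd_card hqodd
  have hsymm : ∀ u w, B0 F d u w = B0 F d w u := fun u w => (B0_symm F d).eq u w
  have hnd : ∀ u, (∀ w, B0 F d u w = 0) → u = 0 := (B0_nondeg F h2 d).1
  have hts : ∀ W : Submodule F (Unit ⊕ (Fin d ⊕ Fin d) → F),
      (∀ w ∈ W, Cfsg.quadFormOdd d F w = 0) ↔ (∀ u ∈ W, ∀ v ∈ W, B0 F d u v = 0) := by
    intro W
    constructor
    · intro h u hu v hv
      unfold B0
      rw [QuadraticMap.polarBilin_apply_apply]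
      unfold QuadraticMap.polar
      rw [QOdd_coe, h _ (W.add_mem hu hv), h u hu, h v hv]
      ring
    · intro h w hw
      have := h w hw w hw
      rw [B0_self] at this
      exact (mul_eq_zero.mp this).resolve_left h2
  have hV' : finrank F (Fin d ⊕ Fin d → F) = 2 * d := by
    rw [Module.finrank_pi, Fintype.card_sum, Fintype.card_fin, two_mul]
  have hcount : Nat.card {W : Submodule F (Unit ⊕ (Fin d ⊕ Fin d) → F) //
        finrank F W = m ∧ (∀ w ∈ W, Cfsg.quadFormOdd d F w = 0)} =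
      Nat.card {W : Submodule F (Fin d ⊕ Fin d → F) //
        finrank F W = m ∧ (∀ u ∈ W, ∀ v ∈ W, Cfsg.sympForm d F u v = 0)} := by
    rw [Nat.card_congr (Equiv.subtypeEquivRight (fun W => and_congr_right (fun _ => hts W)))]
    exact card_ts_eq_card_ti (B0 F d) h2 hsymm hnd d (finrank_std F d) m hmd (stdSymp d F)
      stdSymp_alt stdSymp_nondeg hV'
  rw [hcount] at hrΩ
  by_cases hr2 : r = 2
  · subst hr2
    constructor
    · intro h
      left
      refine ⟨rfl, ?_⟩
      by_contra hcon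
      push_neg at hcon
      obtain ⟨hcon1, hcon2⟩ := hcon
      have hmd' : m = d := by omega
      have hq3 : Fintype.card F % 4 = 3 := by
        obtain ⟨k, hk⟩ := hqodd
        omega
      obtain ⟨x, hxΩ, hxo, hxW⟩ := two_nec h2 d (by omega) hq3
      obtain ⟨W, hW1, hW2, hW3⟩ := h x hxΩ hxo
      exact hxW W (hmd' ▸ hW1) hW2 hW3
    · rintro (⟨-, hcrit⟩ | ⟨-, h3, -⟩)
      · intro x hx hord
        exact two_suff h2 d m (by omega) hmd hcrit x hx hord
      · omega
  · by_cases hrp : r = p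
    · exfalso
      subst hrp
      exact PSpK.not_dvd_card_ti (stdSymp d F) stdSymp_alt stdSymp_nondeg r m
        (by rw [hV']; omega) hrΩ
    · have hrprime : r.Prime := Fact.out
      have h2r : 2 < r := by have := hrprime.two_le; omega
      have hoddr : Odd r := hrprime.odd_of_ne_two hr2
      have hL : (∀ x : GL (Unit ⊕ (Fin d ⊕ Fin d)) F,
          x ∈ Cfsg.Geo.omegaGL (Cfsg.quadFormOdd d F) → orderOf x = r →
          ∃ W : Submodule F (Unit ⊕ (Fin d ⊕ Fin d) → F), Module.finrank F ↥W = m ∧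
            (∀ w ∈ W, Cfsg.quadFormOdd d F w = 0) ∧
            W.map (Matrix.toLin'
              (x : Matrix (Unit ⊕ (Fin d ⊕ Fin d)) (Unit ⊕ (Fin d ⊕ Fin d)) F)) ≤ W) ↔
          (∀ x : ↥(Matrix.symplecticGroup (Fin d) F),
            (∃ z : F, ((x ^ r : ↥(Matrix.symplecticGroup (Fin d) F)) :
              Matrix (Fin d ⊕ Fin d) (Fin d ⊕ Fin d) F) =
                z • (1 : Matrix (Fin d ⊕ Fin d) (Fin d ⊕ Fin d) F)) →
            (∀ z : F, (x : Matrix (Fin d ⊕ Fin d) (Fin d ⊕ Fin d) F) ≠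
              z • (1 : Matrix (Fin d ⊕ Fin d) (Fin d ⊕ Fin d) F)) →
            ∃ W : Submodule F (Fin d ⊕ Fin d → F), Module.finrank F ↥W = m ∧
              (∀ u ∈ W, ∀ v ∈ W, Cfsg.sympForm d F u v = 0) ∧
              W.map (Matrix.toLin'
                (x : Matrix (Fin d ⊕ Fin d) (Fin d ⊕ Fin d) F)) ≤ W) := by
        constructor
        · intro h y ⟨z, hz⟩ hyns
          have hpres : ∀ (g : ↥(Matrix.symplecticGroup (Fin d) F)) (u v : Fin d ⊕ Fin d → F),
              Cfsg.sympForm d F ((g : Matrix (Fin d ⊕ Fin d) (Fin d ⊕ Fin d) F).mulVec u)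
                ((g : Matrix (Fin d ⊕ Fin d) (Fin d ⊕ Fin d) F).mulVec v) = Cfsg.sympForm d F u v :=
            fun g => (mem_symplecticGroup_iff_preserves g.1).1 g.2
          -- z * z = 1
          have hzz : z * z = 1 := by
            obtain ⟨u, hu⟩ : ∃ u : Fin d ⊕ Fin d → F, u ≠ 0 :=
              ⟨Pi.single (Sum.inl ⟨0, by omega⟩) 1, by
                intro h0
                have := congrFun h0 (Sum.inl ⟨0, by omega⟩)
                simp at this⟩
            have hex : ∃ v, stdSymp d F u v ≠ 0 := by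
              by_contra hcon
              push_neg at hcon
              exact hu (stdSymp_nondeg u hcon)
            obtain ⟨v, hv⟩ := hex
            have h1 := hpres (y ^ r) u v
            rw [hz, Matrix.smul_mulVec, Matrix.smul_mulVec, Matrix.one_mulVec, Matrix.one_mulVec] at h1
            have h3 : Cfsg.sympForm d F (z • u) (z • v) = z * z * stdSymp d F u v := by
              rw [← stdSymp_apply]
              simp only [LinearMap.smul_apply, map_smul, smul_eq_mul]
              ring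
            rw [h3, stdSymp_apply] at h1
            rw [stdSymp_apply] at hv
            have h4 : (z * z - 1) * Cfsg.sympForm d F u v = 0 := by
              rw [sub_mul, h1, one_mul, sub_self]
            rcases mul_eq_zero.mp h4 with h5 | h5
            · exact sub_eq_zero.mp h5
            · exact absurd h5 hv
          obtain ⟨Y₀, hY₀⟩ : ∃ Y₀ : (Fin d ⊕ Fin d → F) →ₗ[F] (Fin d ⊕ Fin d → F),
              Y₀ = Matrix.toLin' (y : Matrix (Fin d ⊕ Fin d) (Fin d ⊕ Fin d) F) := ⟨_, rfl⟩
          have hY₀iso : ∀ u v, stdSymp d F (Y₀ u) (Y₀ v) = stdSymp d F u v := by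
            intro u v
            rw [hY₀, Matrix.toLin'_apply, Matrix.toLin'_apply, stdSymp_apply, stdSymp_apply]
            exact hpres y u v
          have hY₀r : Y₀ ^ r = z • (1 : (Fin d ⊕ Fin d → F) →ₗ[F] (Fin d ⊕ Fin d → F)) := by
            rw [hY₀, ← Matrix.toLin'_pow]
            have : ((y : Matrix (Fin d ⊕ Fin d) (Fin d ⊕ Fin d) F)) ^ r = z • 1 := by
              rw [← hz]
              rfl
            rw [this, map_smul, Matrix.toLin'_one]
            rfl
          have hzr : z ^ (r + 1) = 1 := by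
            obtain ⟨k, hk⟩ := hoddr
            have : r + 1 = 2 * (k + 1) := by omega
            rw [this, pow_mul, pow_two, hzz, one_pow]
          have hYr : (z • Y₀) ^ r = 1 := by
            rw [smul_pow, hY₀r, smul_smul, ← pow_succ, hzr, one_smul]
          have hYiso : ∀ u v, stdSymp d F ((z • Y₀) u) ((z • Y₀) v) = stdSymp d F u v := by
            intro u v
            simp only [LinearMap.smul_apply, map_smul, smul_eq_mul]
            rw [hY₀iso, ← mul_assoc, hzz, one_mul]
          have hY1 : z • Y₀ ≠ 1 := by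
            intro hcon
            apply hyns z
            have h5 : Y₀ = z • (1 : (Fin d ⊕ Fin d → F) →ₗ[F] (Fin d ⊕ Fin d → F)) := by
              rw [← hcon, smul_smul, hzz, one_smul]
            apply Matrix.toLin'.injective
            rw [← hY₀, h5, map_smul, Matrix.toLin'_one]
            rfl
          obtain ⟨W, hW1, hW2, hW3⟩ := symp_to_orth p r hr2 hrp h2 (stdSymp d F) stdSymp_alt
            stdSymp_nondeg d (by omega) hV' (z • Y₀) hYiso hYr hY1 m h
          refine ⟨W, hW1, hW2, ?_⟩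
          rintro _ ⟨w, hw, rfl⟩
          have h6 := W.smul_mem z (hW3 w hw)
          rw [LinearMap.smul_apply, smul_smul, hzz, one_smul] at h6
          rw [← hY₀]
          exact h6
        · intro h x hx hord
          rw [← QOdd_coe] at hx
          unfold Cfsg.Geo.omegaGL at hx
          obtain ⟨g, hgΩ, hgx⟩ := Subgroup.mem_map.mp hx
          have hgx' : (g.1 : GL (Unit ⊕ (Fin d ⊕ Fin d)) F) = x := hgx
          subst hgx'
          clear hgx
          obtain ⟨X, hX⟩ : ∃ X : (Unit ⊕ (Fin d ⊕ Fin d) → F) →ₗ[F] (Unit ⊕ (Fin d ⊕ Fin d) → F),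
              X = Matrix.toLin' ((g.1 : GL (Unit ⊕ (Fin d ⊕ Fin d)) F) :
                Matrix (Unit ⊕ (Fin d ⊕ Fin d)) (Unit ⊕ (Fin d ⊕ Fin d)) F) := ⟨_, rfl⟩
          have hgr : (g.1 : GL (Unit ⊕ (Fin d ⊕ Fin d)) F) ^ r = 1 := by
            have := pow_orderOf_eq_one (g.1 : GL (Unit ⊕ (Fin d ⊕ Fin d)) F)
            rw [show orderOf (g.1 : GL (Unit ⊕ (Fin d ⊕ Fin d)) F) = r from hord] at this
            exact this
          have hXr : X ^ r = 1 := by
            rw [hX, ← Matrix.toLin'_pow, ← Units.val_pow_eq_pow_val, hgr, Units.val_one,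
              Matrix.toLin'_one]
            rfl
          have hX1 : X ≠ 1 := by
            intro hcon
            have hg1 : (g.1 : GL (Unit ⊕ (Fin d ⊕ Fin d)) F) = 1 := by
              apply Units.ext
              apply Matrix.toLin'.injective
              rw [← hX, hcon, Units.val_one, Matrix.toLin'_one]
              rfl
            rw [hg1, orderOf_one] at hord
            omega
          have hQiso : ∀ u, Cfsg.quadFormOdd d F (X u) = Cfsg.quadFormOdd d F u := by
            intro u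
            rw [hX, Matrix.toLin'_apply, ← QOdd_coe]
            exact g.2 u u
          have hiso : ∀ u w, B0 F d (X u) (X w) = B0 F d u w := by
            intro u w
            unfold B0
            rw [QuadraticMap.polarBilin_apply_apply, QuadraticMap.polarBilin_apply_apply]
            unfold QuadraticMap.polar
            rw [QOdd_coe, ← map_add, hQiso, hQiso, hQiso]
          obtain ⟨W, hW1, hW2, hW3⟩ := orth_to_symp p r hr2 hrp h2 (B0 F d) hsymm hnd d (by omega)
            (finrank_std F d) X hiso hXr hX1 m h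
          refine ⟨W, hW1, (hts W).mpr hW2, ?_⟩
          rintro _ ⟨w, hw, rfl⟩
          rw [← hX]
          exact hW3 w hw
      rw [hL, Cfsg.Agent.S5955.result rfl d m (by omega)
        (fun hcon => by have := (Prod.mk.inj hcon).1; omega) hm hmd r hrΩ i c hi hc]
      have har := arith_iff d m ((r - 1) / i) i c hc
      constructor
      · rintro (⟨h3, -⟩ | ⟨h3, h4, h5, h6, h7⟩)
        · exact absurd h3 hr2
        · right
          exact ⟨h3, h4, h5, (har.mpr ⟨h6, h7⟩).1, (har.mpr ⟨h6, h7⟩).2⟩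
      · rintro (⟨h3, -⟩ | ⟨h3, h4, h5, h6, h7⟩)
        · exact absurd h3 hr2
        · right
          exact ⟨h3, h4, h5, (har.mp ⟨h6, h7⟩).1, (har.mp ⟨h6, h7⟩).2⟩

end Cfsg.Agent.S5972
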