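-- Statement S5974
import Cfsg.Statements.S5974
import Mathlib
import Cfsg.Agent.Lib.Helper6.OrtP2
import Cfsg.Agent.Lib.Helper6.OrtT8
import Cfsg.Agent.Lib.Helper6.OrtU4

set_option autoImplicit false
open scoped MatrixGroups
open Cfsg

namespace Cfsg.Agent.S5974

/-- Elements of prime order of PΩ⁺_n(q), n = 2d ≥ 8, with no fixed nondegenerate hyperbolic `m`-space. Here `T = PΩ⁺_n(q)` is realised through `Ω⁺_n(q)`, the commutator subgroup of the isometry group of `Q = Σ xᵢyᵢ` over the field `F` with `q` elements; an element of `T` of prime order `r` is an element `x` of `Ω⁺_n(q)` with `x^r` scalar and `x` not scalar. A hyperbolic `m`-space is a subspace `W` of even dimension `m` on which the polar form of `Q` is nondegenerate and which contains a totally singular subspace of dimension `m/2`. Let `m` be even with `2 ≤ m < n/2`, and let `r` be a prime dividing the number of hyperbolic `m`-spaces,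 with `r = 2` or `r ≠ p`. For `r ≠ p` let `i` be the multiplicative order of `q` modulo `r`, `c = i` for `i` even and `c = 2i` for `i` odd, and write `k = n mod c`, `ℓ' = m mod c`. Then every element of `T` of order `r` fixes some hyperbolic `m`-space if and only if one of: (i) `r = 2` and (`n ≡ 2 (mod 4)`, or `m ≡ 0 (mod 4)`, or `q ≡ 1 (mod 4)`); (ii) `r ≠ p` odd, `i` odd, `c ≤ m` and `k ≥ ℓ'`; (iii) `r ≠ p` odd, `i` even, and either `k = 0` and (`n/i` odd, or `ℓ' = 0` and `m/i` even), or `i ≤ m` and (`k > ℓ' > 0`, or `k = ℓ' > 0` and `(n + m − 2k)/i` even, or `k > ℓ' = 0` and `m/i` even). -/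
theorem result {F : Type*} [Field F] [Fintype F] {p : ℕ} [Fact p.Prime] [CharP F p] {q : ℕ} (hq : Fintype.card F = q)
    (d m : ℕ) (hd : 4 ≤ d) (hm : 2 ≤ m) (hme : Even m) (hmd : m < d)
    (r : ℕ) [Fact r.Prime] (hr : r = 2 ∨ r ≠ p)
    (hrΩ : r ∣ Nat.card {W : Submodule F (Fin d ⊕ Fin d → F) // (Module.finrank F ↥W = m ∧ (∀ u ∈ W, u ≠ 0 → ∃ v ∈ W, QuadraticMap.polar (Cfsg.quadFormPlus d F) u v ≠ 0) ∧
          ∃ U : Submodule F (Fin d ⊕ Fin d → F), U ≤ W ∧ 2 * Module.finrank F ↥U = m ∧ ∀ u ∈ U, Cfsg.quadFormPlus d F u = 0)})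
    (i c : ℕ) (hi : i = orderOf (q : ZMod r)) (hc : c = if Even i then i else 2 * i) :
    (∀ x : GL (Fin d ⊕ Fin d) F, x ∈ Cfsg.Geo.omegaGL (Cfsg.quadFormPlus d F) →
      (∃ z : F, ((x ^ r : GL (Fin d ⊕ Fin d) F) : Matrix (Fin d ⊕ Fin d) (Fin d ⊕ Fin d) F) = z • (1 : Matrix (Fin d ⊕ Fin d) (Fin d ⊕ Fin d) F)) →
      (∀ z : F, (x : Matrix (Fin d ⊕ Fin d) (Fin d ⊕ Fin d) F) ≠ z • (1 : Matrix (Fin d ⊕ Fin d) (Fin d ⊕ Fin d) F)) →
      ∃ W : Submodule F (Fin d ⊕ Fin d → F), (Module.finrank F ↥W = m ∧ (∀ u ∈ W, u ≠ 0 → ∃ v ∈ W, QuadraticMap.polar (Cfsg.quadFormPlus d F) u v ≠ 0) ∧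
          ∃ U : Submodule F (Fin d ⊕ Fin d → F), U ≤ W ∧ 2 * Module.finrank F ↥U = m ∧ ∀ u ∈ U, Cfsg.quadFormPlus d F u = 0) ∧
        W.map (Matrix.toLin' (x : Matrix (Fin d ⊕ Fin d) (Fin d ⊕ Fin d) F)) ≤ W) ↔
    ((r = 2 ∧ ((2 * d) % 4 = 2 ∨ m % 4 = 0 ∨ q % 4 = 1)) ∨
     (r ≠ p ∧ 2 < r ∧ Odd i ∧ c ≤ m ∧ m % c ≤ (2 * d) % c) ∨
     (r ≠ p ∧ 2 < r ∧ Even i ∧
       (((2 * d) % c = 0 ∧ (Odd ((2 * d) / i) ∨ (m % c = 0 ∧ Even (m / i)))) ∨
        (i ≤ m ∧ ((m % c < (2 * d) % c ∧ 0 < m % c) ∨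
                  ((2 * d) % c = m % c ∧ 0 < m % c ∧ Even ((2 * d + m - 2 * ((2 * d) % c)) / i)) ∨
                  (0 < (2 * d) % c ∧ m % c = 0 ∧ Even (m / i))))))) := by
  classical
  subst hq
  have hc' : c = Cfsg.Agent.Lib.Helper15.PSpJ.cOf i := hc
  subst hc'
  have hmem : ∀ W : Submodule F (Fin d ⊕ Fin d → F),
      (Module.finrank F ↥W = m ∧ (∀ u ∈ W, u ≠ 0 → ∃ v ∈ W, QuadraticMap.polar (Cfsg.quadFormPlus d F) u v ≠ 0) ∧
          ∃ U : Submodule F (Fin d ⊕ Fin d → F), U ≤ W ∧ 2 * Module.finrank F ↥U = m ∧ ∀ u ∈ U, Cfsg.quadFormPlus d F u = 0) ↔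
      W ∈ Cfsg.Agent.Lib.Helper6.OrtS.NSet (Cfsg.Agent.Lib.Helper15.QPlus F d) m 1 := by
    intro W
    rw [← Cfsg.Agent.Lib.Helper6.OrtS.coe_QPlus]
    exact (Cfsg.Agent.Lib.Helper6.OrtS.mem_NSet_plus_iff'
      (Cfsg.Agent.Lib.Helper15.QPlus F d) m hme W).symm
  have hL : (∀ x : GL (Fin d ⊕ Fin d) F, x ∈ Cfsg.Geo.omegaGL (Cfsg.quadFormPlus d F) →
      (∃ z : F, ((x ^ r : GL (Fin d ⊕ Fin d) F) : Matrix (Fin d ⊕ Fin d) (Fin d ⊕ Fin d) F) = z • (1 : Matrix (Fin d ⊕ Fin d) (Fin d ⊕ Fin d) F)) →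
      (∀ z : F, (x : Matrix (Fin d ⊕ Fin d) (Fin d ⊕ Fin d) F) ≠ z • (1 : Matrix (Fin d ⊕ Fin d) (Fin d ⊕ Fin d) F)) →
      ∃ W : Submodule F (Fin d ⊕ Fin d → F), (Module.finrank F ↥W = m ∧ (∀ u ∈ W, u ≠ 0 → ∃ v ∈ W, QuadraticMap.polar (Cfsg.quadFormPlus d F) u v ≠ 0) ∧
          ∃ U : Submodule F (Fin d ⊕ Fin d → F), U ≤ W ∧ 2 * Module.finrank F ↥U = m ∧ ∀ u ∈ U, Cfsg.quadFormPlus d F u = 0) ∧
        W.map (Matrix.toLin' (x : Matrix (Fin d ⊕ Fin d) (Fin d ⊕ Fin d) F)) ≤ W) ↔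
      (∀ x : GL (Fin d ⊕ Fin d) F, x ∈ Cfsg.Geo.omegaGL (Cfsg.quadFormPlus d F) →
      (∃ z : F, ((x ^ r : GL (Fin d ⊕ Fin d) F) : Matrix (Fin d ⊕ Fin d) (Fin d ⊕ Fin d) F) = z • (1 : Matrix (Fin d ⊕ Fin d) (Fin d ⊕ Fin d) F)) →
      (∀ z : F, (x : Matrix (Fin d ⊕ Fin d) (Fin d ⊕ Fin d) F) ≠ z • (1 : Matrix (Fin d ⊕ Fin d) (Fin d ⊕ Fin d) F)) →
      ∃ W : Submodule F (Fin d ⊕ Fin d → F),
        W ∈ Cfsg.Agent.Lib.Helper6.OrtS.NSet (Cfsg.Agent.Lib.Helper15.QPlus F d) m 1 ∧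
        W.map (Matrix.toLin' (x : Matrix (Fin d ⊕ Fin d) (Fin d ⊕ Fin d) F)) ≤ W) := by
    constructor
    · intro h x hx hz hns
      obtain ⟨W, hW, hWx⟩ := h x hx hz hns
      exact ⟨W, (hmem W).mp hW, hWx⟩
    · intro h x hx hz hns
      obtain ⟨W, hW, hWx⟩ := h x hx hz hns
      exact ⟨W, (hmem W).mpr hW, hWx⟩
  rw [hL]
  have hN : Nat.card {W : Submodule F (Fin d ⊕ Fin d → F) // (Module.finrank F ↥W = m ∧ (∀ u ∈ W, u ≠ 0 → ∃ v ∈ W, QuadraticMap.polar (Cfsg.quadFormPlus d F) u v ≠ 0) ∧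
          ∃ U : Submodule F (Fin d ⊕ Fin d → F), U ≤ W ∧ 2 * Module.finrank F ↥U = m ∧ ∀ u ∈ U, Cfsg.quadFormPlus d F u = 0)} =
      Nat.card ↥(Cfsg.Agent.Lib.Helper6.OrtS.NSet (Cfsg.Agent.Lib.Helper15.QPlus F d) m 1) :=
    Nat.card_congr (Equiv.subtypeEquivRight hmem)
  rw [hN] at hrΩ
  have hr2le := (Fact.out : r.Prime).two_le
  by_cases hr2 : r = 2
  · subst hr2
    obtain ⟨a, ha⟩ := hme
    have ha2 : m = 2 * a := by omega
    subst ha2
    by_cases hp2 : p = 2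
    · -- `r = p = 2`
      subst hp2
      have hchar : ringChar F = 2 := CharP.ringChar_of_prime_eq_zero Nat.prime_two
        (CharP.cast_eq_zero F 2)
      have hqev : Fintype.card F % 2 = 0 := FiniteField.even_card_of_char_two hchar
      have hcoe : (Cfsg.quadFormPlus d F) = ⇑(Cfsg.Agent.Lib.Helper15.QPlus F d) :=
        (Cfsg.Agent.Lib.Helper6.OrtS.coe_QPlus d).symm
      rw [hcoe, Cfsg.Agent.Lib.Helper6.OrtS.char_two_iff (Cfsg.Agent.Lib.Helper15.QPlus F d)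
        (Cfsg.Agent.Lib.Helper15.nondegenerate_QPlus F d) d (by simp [two_mul]) (by omega) 1
        (Or.inl rfl) (Cfsg.Agent.Lib.Helper6.OrtS.sgnOn_top_QPlus d) a (by omega) (by omega) 1
        (Or.inl rfl), Cfsg.Agent.Lib.Helper6.OrtS.cond_pp d a (by omega), Nat.odd_iff,
        Nat.even_iff]
      constructor
      · intro h
        refine Or.inl ⟨rfl, ?_⟩
        omega
      · rintro (⟨-, h⟩ | ⟨h, -⟩ | ⟨h, -⟩)
        · omega
        · exact absurd rfl h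
        · exact absurd rfl h
    · -- `r = 2`, odd characteristic
      have h2 : (2 : F) ≠ 0 := by
        intro h
        have h1 : ((2 : ℕ) : F) = 0 := by rw [Nat.cast_ofNat]; exact h
        rw [CharP.cast_eq_zero_iff F p 2] at h1
        exact hp2 ((Nat.prime_dvd_prime_iff_eq (Fact.out : p.Prime) Nat.prime_two).mp h1)
      have hchar : ringChar F ≠ 2 := by
        intro h
        apply h2
        have := ringChar.Nat.cast_ringChar (R := F)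
        rw [h] at this
        exact_mod_cast this
      have hqodd : Fintype.card F % 2 = 1 := FiniteField.odd_card_of_char_ne_two hchar
      rw [Cfsg.Agent.Lib.Helper6.OrtS.two_plus_iff h2 d hd a (by omega) hmd 1 (Or.inl rfl),
        Cfsg.Agent.Lib.Helper6.OrtS.arith_two_plus _ d a hqodd]
      constructor
      · intro h
        exact Or.inl ⟨rfl, h⟩
      · rintro (⟨-, h⟩ | ⟨-, h, -⟩ | ⟨-, h, -⟩)
        · exact h
        · omega
        · omega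
  · -- odd `r ≠ p`
    have hrp : r ≠ p := by
      rcases hr with h | h
      · exact absurd h hr2
      · exact h
    have h2r : 2 < r := by omega
    obtain ⟨h1, h2⟩ := Cfsg.Agent.Lib.Helper6.OrtS.odd_plus (F := F) p r hrp hr2 d hd m hme 1
      (Or.inl rfl)
    rw [h1]
    subst hi
    have hipos := Cfsg.Agent.Lib.Helper15.PSub.orderOf_pos_of_ne (F := F) p r hrp
    have hnE := fun hE => h2 hE hrΩ
    have harith := Cfsg.Agent.Lib.Helper6.OrtS.arith_plus d m _ hipos hm hmd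
    constructor
    · intro hcrit
      rcases harith.mp ⟨hcrit, hnE⟩ with ⟨hodd, h⟩ | ⟨hev, h⟩
      · exact Or.inr (Or.inl ⟨hrp, h2r, hodd, h⟩)
      · exact Or.inr (Or.inr ⟨hrp, h2r, hev, h⟩)
    · rintro (⟨h, -⟩ | ⟨-, -, hodd, h⟩ | ⟨-, -, hev, h⟩)
      · exact absurd h hr2
      · exact (harith.mpr (Or.inl ⟨hodd, h⟩)).1
      · exact (harith.mpr (Or.inr ⟨hev, h⟩)).1

end Cfsg.Agent.S5974
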