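import Cfsg.Statements.S5979
import Cfsg.Agent.Lib.Helper10.Kron5
import Cfsg.Agent.Lib.Helper10.Kron6

set_option autoImplicit false
open scoped MatrixGroups
open Cfsg

namespace Cfsg.Agent.S5979

/-- Elements of prime order of PSL_n(q) and the stabilizers of tensor decompositions with factors of different dimensions. Here `T = PSL_n(F)` for a field `F` with `q` elements and `n = a·b` with `2 ≤ a < b`; a tensor decomposition `F^n ≅ F^a ⊗ F^b` is given by a bijection `e` of index sets and a change of basis `P`, and `H` is the subgroup of matrices of determinant 1 in its stabilizer (the conjugate by `P` of the group of Kronecker products `g₁ ⊗ g₂`) — a subgroup of type GL_a(q) ⊗ GL_b(q) (maximality is not assumed); Ω is the set of cosets of `H` in `T`, so an element of `T` of prime order `r` (a matrix `x` of determinant 1 with `x^r` scalar, `x` not scalar) fixes a point of Ω exactly when some conjugate of `x` by a matrix of determinant 1 lies in `H`. Let `r` be a prime dividing the index of `H`. Then every element of `T` of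 order `r` fixes a point of Ω if and only if `r = 2`, `a = 2`, `q` is odd and `(q − 1)_2 ≤ (n)_2` (2-parts). -/
theorem result {F : Type*} [Field F] [Fintype F] {p : ℕ} [Fact p.Prime] [CharP F p] {q : ℕ} (hq : Fintype.card F = q)
    (n a b : ℕ) (hab : n = a * b) (ha : 2 ≤ a) (hlt : a < b) (e : Fin n ≃ Fin a × Fin b) (P : GL (Fin n) F)
    (r : ℕ) [Fact r.Prime]
    (hΩ : r ∣ (Cfsg.Geo.tensorProductSubgroup a b e P).relIndex (Cfsg.Geo.specialLinear (Fin n) F)) :
    (∀ x ∈ Cfsg.Geo.specialLinear (Fin n) F, (∃ z : F, ((x ^ r : GL (Fin n) F) : Matrix (Fin n) (Fin n) F) = z • (1 : Matrix (Fin n) (Fin n) F)) →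
      (∀ z : F, (x : Matrix (Fin n) (Fin n) F) ≠ z • (1 : Matrix (Fin n) (Fin n) F)) →
      ∃ g ∈ Cfsg.Geo.specialLinear (Fin n) F, g⁻¹ * x * g ∈ Cfsg.Geo.tensorProductSubgroup a b e P) ↔
    (r = 2 ∧ a = 2 ∧ Odd q ∧ padicValNat 2 (q - 1) ≤ padicValNat 2 n) := by
  classical
  subst hq
  have hpP := (Fact.out : p.Prime)
  have hrP := (Fact.out : r.Prime)
  have hcharne : (2 : F) ≠ 0 → ringChar F ≠ 2 := by
    intro h2 hch
    apply h2
    have := ringChar.Nat.cast_ringChar (R := F)
    rw [hch] at this
    exact_mod_cast this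
  constructor
  · intro hall
    have bad : ∀ x : GL (Fin n) F, x ∈ Cfsg.Geo.specialLinear (Fin n) F →
        (∃ z : F, ((x ^ r : GL (Fin n) F) : Matrix (Fin n) (Fin n) F) =
          z • (1 : Matrix (Fin n) (Fin n) F)) →
        (∀ z : F, (x : Matrix (Fin n) (Fin n) F) ≠ z • (1 : Matrix (Fin n) (Fin n) F)) →
        ¬ Cfsg.Agent.Lib.Helper10.Kron.KronConj
          (Matrix.toLin' (x : Matrix (Fin n) (Fin n) F)) a b → False := by
      intro x hx h1 h2 h3
      obtain ⟨g, -, hmem⟩ := hall x hx h1 h2
      exact h3 (Cfsg.Agent.Lib.Helper10.Kron.kronConj_of_mem e P x g hmem)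
    by_cases hrp : r = p
    · exfalso
      subst hrp
      obtain ⟨x, hx, h1, h2, h3⟩ :=
        Cfsg.Agent.Lib.Helper10.Kron.exists_bad_char (F := F) (n := n) r a b hab ha hlt
      exact bad x hx h1 h2 h3
    · have hdvd : r ∣ Nat.card (GL (Fin n) F) :=
        (hΩ.trans (Subgroup.relIndex_dvd_card _ _)).trans (Subgroup.card_subgroup_dvd_card _)
      have hile := Cfsg.Agent.Lib.Helper15.PDec.ord_le_of_dvd_card_GL p r hrP hrp hdvd
      by_cases hr2 : r = 2
      · subst hr2
        have h2F : (2 : F) ≠ 0 := by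
          intro h
          have h' : ((2 : ℕ) : F) = 0 := by exact_mod_cast h
          rw [CharP.cast_eq_zero_iff F p] at h'
          exact hrp ((Nat.prime_dvd_prime_iff_eq hpP Nat.prime_two).mp h').symm
        have hoddq : Odd (Fintype.card F) := by
          rw [Nat.odd_iff]
          exact FiniteField.odd_card_of_char_ne_two (hcharne h2F)
        refine ⟨rfl, ?_, hoddq, ?_⟩
        · by_contra ha2
          have ha3 : 3 ≤ a := by omega
          obtain ⟨x, hx, h1, h2, h3⟩ :=
            Cfsg.Agent.Lib.Helper10.Kron.exists_bad_two_two (F := F) (n := n) a b hab ha3 hlt h2F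
          exact bad x hx h1 h2 h3
        · by_contra hlt'
          push Not at hlt'
          obtain ⟨x, hx, h1, h2, h3⟩ :=
            Cfsg.Agent.Lib.Helper10.Kron.exists_bad_two_one (F := F) (n := n) a b hab ha hlt h2F hlt'
          exact bad x hx h1 h2 h3
      · exfalso
        by_cases hrq : r ∣ Fintype.card F - 1
        · obtain ⟨x, hx, h1, h2, h3⟩ :=
            Cfsg.Agent.Lib.Helper10.Kron.exists_bad_split (F := F) (n := n) a b hab ha hlt r hrP hr2 hrq
          exact bad x hx h1 h2 h3
        · obtain ⟨x, hx, h1, h2, h3⟩ :=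
            Cfsg.Agent.Lib.Helper10.Kron.exists_bad_block (F := F) (n := n) p r hrp hrq hile a b hab ha hlt
          exact bad x hx h1 h2 h3
  · rintro ⟨rfl, rfl, hodd, hv⟩
    intro x hx hz hns
    obtain ⟨z, hz⟩ := hz
    have h2F : (2 : F) ≠ 0 := by
      intro h2
      have hk' := FiniteField.even_card_of_char_two
        (CharP.ringChar_of_prime_eq_zero Nat.prime_two h2)
      have := Nat.odd_iff.mp hodd
      omega
    exact Cfsg.Agent.Lib.Helper10.Kron.good_two b (by omega) hab e P h2F hv x hx z hz hns

end Cfsg.Agent.S5979
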