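import Cfsg.Statements.S5981
import Cfsg.Agent.Lib.Helper29.LO7
import Cfsg.Agent.Lib.Helper29.LO15

set_option autoImplicit false
open scoped MatrixGroups
open Cfsg

namespace Cfsg.Agent.S5981

open Cfsg.Agent.Lib.Helper29.LO in
/-- Elements of prime order of PSL_n(q), q odd, and the subgroups of orthogonal type. Here `T = PSL_n(F)` for a field `F` with `q` elements, `q` odd, `n ≥ 3`; `Q` is a non-degenerate quadratic form on `F^n` (of either type when `n` is even) and `H` is the subgroup of matrices of determinant 1 that preserve `Q` up to a scalar — a subgroup of type O^ε_n(q) (maximality is not assumed); Ω is the set of cosets of `H` in `T`, so an element of `T` of prime order `r` (a matrix `x` of determinant 1 with `x^r` scalar, `x` not scalar) fixes a point of Ω exactly when some conjugate of `x` by a matrix of determinant 1 preserves `Q` up to a scalar. Let `r` be a prime dividing the index of `H`, with `(n, r) ≠ (6, 3)`. Then every element of `T` of order `r` fixes a point of Ω if and only if `r = 2`, or `r ∈ {3, 5}`,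 `n = r` and `(q − 1)_r = r` (the `r`-part of `q − 1` is exactly `r`). The case `(n, r) = (6, 3)` is not covered by this statement. -/
theorem result {F : Type*} [Field F] [Fintype F] {p : ℕ} [Fact p.Prime] [CharP F p] {q : ℕ} (hq : Fintype.card F = q)
    (hodd : Odd q) (n : ℕ) (hn : 3 ≤ n) (Q : (Fin n → F) → F) (hQ : Cfsg.Geo.IsNondegenerateQuadraticForm Q)
    (r : ℕ) [Fact r.Prime] (hgap : ¬ (n = 6 ∧ r = 3))
    (hΩ : r ∣ (Cfsg.Geo.quadSimilarityGroup Q).relIndex (Cfsg.Geo.specialLinear (Fin n) F)) :
    (∀ x ∈ Cfsg.Geo.specialLinear (Fin n) F, (∃ z : F, ((x ^ r : GL (Fin n) F) : Matrix (Fin n) (Fin n) F) = z • (1 : Matrix (Fin n) (Fin n) F)) →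
      (∀ z : F, (x : Matrix (Fin n) (Fin n) F) ≠ z • (1 : Matrix (Fin n) (Fin n) F)) →
      ∃ g ∈ Cfsg.Geo.specialLinear (Fin n) F, g⁻¹ * x * g ∈ Cfsg.Geo.quadSimilarityGroup Q) ↔
    (r = 2 ∨ ((r = 3 ∨ r = 5) ∧ n = r ∧ padicValNat r (q - 1) = 1)) := by
  classical
  subst hq
  have h2 : (2 : F) ≠ 0 := two_ne_zero_of_odd hodd
  have hp2 : p ≠ 2 := by
    rintro rfl
    apply h2
    have := CharP.cast_eq_zero F 2
    exact_mod_cast this
  have hq1 : Fintype.card F - 1 ≠ 0 := by
    have := Fintype.one_lt_card (α := F)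
    omega
  constructor
  · intro hall
    by_contra hcon
    rw [not_or] at hcon
    obtain ⟨hr2, hexc⟩ := hcon
    have hbad : Bad Q r := by
      by_cases hrp : r = p
      · subst hrp
        exact bad_caseA hn hQ r hp2
      · by_cases hrq : r ∣ Fintype.card F - 1
        · by_cases h33 : (n = 3 ∧ r = 3) ∨ (n = 5 ∧ r = 5)
          · have hnr : n = r := by
              rcases h33 with ⟨h, h'⟩ | ⟨h, h'⟩ <;> omega
            have hr35 : r = 3 ∨ r = 5 := by
              rcases h33 with ⟨_, h'⟩ | ⟨_, h'⟩
              · exact Or.inl h'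
              · exact Or.inr h'
            have hv : padicValNat r (Fintype.card F - 1) ≠ 1 := fun hv => hexc ⟨hr35, hnr, hv⟩
            have hv1 : 1 ≤ padicValNat r (Fintype.card F - 1) :=
              one_le_padicValNat_of_dvd hq1 hrq
            have hsq : r ^ 2 ∣ Fintype.card F - 1 :=
              (padicValNat_dvd_iff_le hq1).mpr (by omega)
            exact bad_caseB' hn hQ r hr2 hnr hsq
          · exact bad_caseB hn hQ r hr2 hrq hgap (fun h => h33 (Or.inr h))
              (fun h => h33 (Or.inl h))
        · exact bad_caseC p hn hQ hodd r hr2 hrp hrq hΩ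
    obtain ⟨x, hx, hz, hns, hno⟩ := hbad
    obtain ⟨g, -, hg⟩ := hall x hx hz hns
    exact hno g hg
  · rintro (hr2 | ⟨hr35, hnr, hv⟩)
    · subst hr2
      rintro x hx ⟨z, hz⟩ -
      exact good_two (by omega) hQ hodd x hx z hz
    · rintro x hx ⟨z, hz⟩ -
      rcases hr35 with h3 | h5
      · subst h3
        subst hnr
        exact good_exc3 p hQ h2 hv x hx z hz
      · subst h5
        subst hnr
        exact good_exc5 p hQ h2 hv x hx z hz

end Cfsg.Agent.S5981
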