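-- Statement S5983.
import Cfsg.Statements.S5983
import Cfsg.Agent.Lib.Helper29.SpOrth

set_option autoImplicit false
open scoped MatrixGroups
open Cfsg

namespace Cfsg.Agent.S5983

open Cfsg.Agent.Lib.Helper29.SPO in
/-- Elements of prime order of PSp_n(q), q even, and the subgroups of orthogonal type. Here `T = Sp_{2d}(F)` for a field `F` of characteristic 2 with `q` elements (`d ≥ 2`, `(d, q) ≠ (2, 2)`), realised as the invertible matrices preserving the standard alternating form; `Q` is a non-degenerate quadratic form on `F^{2d}` whose polar form is that alternating form, and `H` is the subgroup of `T` preserving `Q` up to a scalar (equivalently preserving `Q`) — a subgroup of type O^±_{2d}(q) (maximality is not assumed); `Q` is of plus type when `F^{2d}` contains a `d`-dimensional subspace on which `Q` vanishes, of minus type otherwise. Ω is the set of cosets of `H` in `T`, so an element of `T` of prime order `r` (`x ∈ T` with `x^r` scalar, `x` not scalar) fixes a point of Ω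 exactly when some `T`-conjugate of `x` preserves `Q`. Let `r` be a prime dividing the index of `H`. Then every element of `T` of order `r` fixes a point of Ω if and only if `r = 2` and either `Q` is of plus type or `d` is odd. -/
theorem result {F : Type*} [Field F] [Fintype F] {p : ℕ} [Fact p.Prime] [CharP F p] {q : ℕ} (hq : Fintype.card F = q)
    (hp : p = 2) (d : ℕ) (hd : 2 ≤ d) (hT : (d, q) ≠ (2, 2)) (Q : (Fin d ⊕ Fin d → F) → F) (hQ : Cfsg.Geo.IsNondegenerateQuadraticForm Q)
    (hQf : ∀ u v, QuadraticMap.polar Q u v = Cfsg.sympForm d F u v)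
    (r : ℕ) [Fact r.Prime]
    (hΩ : r ∣ (Cfsg.Geo.quadSimilarityGroup Q).relIndex (Cfsg.spGL d F)) :
    (∀ x ∈ Cfsg.spGL d F, (∃ z : F, ((x ^ r : GL (Fin d ⊕ Fin d) F) : Matrix (Fin d ⊕ Fin d) (Fin d ⊕ Fin d) F) = z • (1 : Matrix (Fin d ⊕ Fin d) (Fin d ⊕ Fin d) F)) →
      (∀ z : F, (x : Matrix (Fin d ⊕ Fin d) (Fin d ⊕ Fin d) F) ≠ z • (1 : Matrix (Fin d ⊕ Fin d) (Fin d ⊕ Fin d) F)) →
      ∃ g ∈ Cfsg.spGL d F, g⁻¹ * x * g ∈ Cfsg.Geo.quadSimilarityGroup Q) ↔
    (r = 2 ∧ (Cfsg.Geo.IsPlusTypeOn Q ⊤ ∨ Odd d)) := by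
  classical
  subst hp
  have h : QPol Q := ⟨hQ.smul, hQf⟩
  constructor
  · intro H
    have hr2 : r = 2 := by
      by_contra hne
      obtain ⟨x, hxS, hxr, hfpf, hno⟩ := odd_case h hd r hne hΩ
      obtain ⟨g, hg, hconj⟩ := H x hxS ⟨1, by rw [hxr, Units.val_one, one_smul]⟩ (by
        intro z hz
        have hz1 := scalar_eq_one (by omega) x hxS z hz
        rw [hz1, one_smul] at hz
        have h1 := hfpf (Pi.single (Sum.inl ⟨0, by omega⟩) 1) (by rw [hz, Matrix.one_mulVec])
        have h2 := congrFun h1 (Sum.inl ⟨0, by omega⟩)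
        simp at h2)
      exact hno g hg hconj
    refine ⟨hr2, ?_⟩
    subst hr2
    apply plus_or_odd h (by omega)
    intro x hxS hx2 hx1
    exact H x hxS ⟨1, by rw [pow_two, Units.val_mul, hx2, one_smul]⟩ (by
      intro z hz
      have hz1 := scalar_eq_one (by omega) x hxS z hz
      rw [hz1, one_smul] at hz
      exact hx1 hz)
  · rintro ⟨rfl, hcase⟩ x hxS ⟨z, hz⟩ hns
    have hz1 : z = 1 := scalar_eq_one (by omega) (x ^ 2) (Subgroup.pow_mem _ hxS 2) z hz
    have hx2 : (x : Matrix (Fin d ⊕ Fin d) (Fin d ⊕ Fin d) F) * (x : Matrix (Fin d ⊕ Fin d) (Fin d ⊕ Fin d) F) = 1 := by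
      rw [← Units.val_mul, ← pow_two, hz, hz1, one_smul]
    have hx1 : (x : Matrix (Fin d ⊕ Fin d) (Fin d ⊕ Fin d) F) ≠ 1 := by
      intro h1
      exact hns 1 (by rw [h1, one_smul])
    exact conj_of_plus_or_odd h hd hcase x hxS hx2 hx1

end Cfsg.Agent.S5983
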