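import Cfsg.Statements.S5984
import Cfsg.Agent.Lib.Helper19.PSUm

set_option autoImplicit false
open scoped MatrixGroups
open Cfsg

namespace Cfsg.Agent.S5984

open Cfsg.Agent.Lib.Helper19.PSU in
/-- Elements of prime order of PSU_n(q) and the stabilizers of pairs of complementary totally singular subspaces. Here `T = PSU_n(q)` is realised through `SU_n(q)`, the matrices of determinant 1 over the field `F` with `q²` elements preserving the hermitian form `Σ uᵢ vᵢ^q`, with `n ≥ 4` even; `D` is a pair of complementary subspaces of dimension `n/2` on each of which the form vanishes identically, and `H` is the subgroup of `SU_n(q)` fixing or interchanging the two members — a subgroup of type GL_{n/2}(q²).2 (maximality is not assumed). Ω is the set of cosets of `H`, so an element of `T` of prime order `r` (`x ∈ SU_n(q)` with `x^r` scalar, `x` not scalar) fixes a point of Ω exactly when some `SU_n(q)`-conjugate of `x` lies in `H`. Let `r` be a prime dividing the index of `H`. Then every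 element of `T` of order `r` fixes a point of Ω if and only if `r = 2`, `q` is odd and `(q + 1)_2 ≤ (n)_2` (2-parts). -/
theorem result {F : Type*} [Field F] [Fintype F] {p : ℕ} [Fact p.Prime] [CharP F p] {q : ℕ} (hq : Fintype.card F = q ^ 2)
    (n : ℕ) (hn : 4 ≤ n) (he : Even n) (D : Fin 2 → Submodule F (Fin n → F)) (hD : Cfsg.Geo.IsMDecomposition (n / 2) D)
    (hDs : ∀ i, Cfsg.Geo.IsTotallySingularFor (Cfsg.hermForm n F q) (D i))
    (r : ℕ) [Fact r.Prime]
    (hΩ : r ∣ (Cfsg.Geo.decompositionStabilizer D).relIndex (Cfsg.GU n F q ⊓ Cfsg.Geo.specialLinear (Fin n) F)) :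
    (∀ x ∈ Cfsg.GU n F q ⊓ Cfsg.Geo.specialLinear (Fin n) F, (∃ z : F, ((x ^ r : GL (Fin n) F) : Matrix (Fin n) (Fin n) F) = z • (1 : Matrix (Fin n) (Fin n) F)) →
      (∀ z : F, (x : Matrix (Fin n) (Fin n) F) ≠ z • (1 : Matrix (Fin n) (Fin n) F)) →
      ∃ g ∈ Cfsg.GU n F q ⊓ Cfsg.Geo.specialLinear (Fin n) F, g⁻¹ * x * g ∈ Cfsg.Geo.decompositionStabilizer D) ↔
    (r = 2 ∧ Odd q ∧ padicValNat 2 (q + 1) ≤ padicValNat 2 n) := by
  classical
  have hpair : TSPair q (D 0) (D 1) := tspair_of_decomp D (n / 2) hD hDs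
  have hk : Module.finrank F (D 0) = n / 2 := hD.finrank_eq 0
  obtain ⟨k, hk2⟩ := he
  have hkn : n / 2 = k := by omega
  have hrprime : r.Prime := Fact.out
  constructor
  · intro H
    have hrp : r ≠ p := by
      intro h
      obtain ⟨x, hx, hxp, hns, hnc⟩ := exists_unipotent_derangement hq p hn D hpair
      apply hnc
      exact H x hx ⟨1, by rw [Units.val_pow_eq_pow_val, h, hxp, one_smul]⟩ hns
    have hr2 : r = 2 := by
      by_contra hne2
      have hodd : Odd r := hrprime.odd_of_ne_two hne2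
      obtain ⟨l, hl, hdvd⟩ := exists_odd_of_dvd hq p D k hk2 (by omega) hpair (by rw [hk, hkn]) r
        hrprime hrp hΩ
      by_cases hq1 : r ∣ q + 1
      · obtain ⟨x, hx, hxr, hns, hnc⟩ :=
          exists_diag_derangement_odd hq p hn D hpair r hrprime hrp hodd hq1
        exact hnc (H x hx ⟨1, by rw [Units.val_pow_eq_pow_val, hxr, one_smul]⟩ hns)
      · obtain ⟨x, hx, hxr, hns, hnc⟩ :=
          exists_model_derangement hq p hn ⟨k, hk2⟩ D hpair r hrprime hrp hodd (2 * l + 1)
            ⟨l, rfl⟩ (by omega) hdvd hq1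
        exact hnc (H x hx ⟨1, by rw [Units.val_pow_eq_pow_val, hxr, one_smul]⟩ hns)
    have hp2 : p ≠ 2 := by
      rw [← hr2]
      exact fun h => hrp h.symm
    have hqodd : Odd q := by
      rw [← Nat.not_even_iff_odd, even_iff_two_dvd]
      exact not_dvd_q hq p 2 Nat.prime_two (Ne.symm hp2)
    refine ⟨hr2, hqodd, ?_⟩
    by_contra hlt
    push Not at hlt
    obtain ⟨x, hx, ⟨z, hxz⟩, hns, hnc⟩ :=
      exists_diag_derangement_two hq p hp2 hn ⟨k, hk2⟩ D hpair hlt
    exact hnc (H x hx ⟨z, by rw [Units.val_pow_eq_pow_val, hr2, hxz]⟩ hns)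
  · rintro ⟨hr2, hqodd, hle⟩ x hx ⟨z, hz⟩ hns
    rw [Units.val_pow_eq_pow_val, hr2] at hz
    have hp2 : p ≠ 2 := by
      intro h
      obtain ⟨f, _, hf⟩ := FiniteField.card F p
      have h1 : 2 ∣ q ^ 2 := by
        rw [← hq, hf, h]
        exact dvd_pow_self 2 f.ne_zero
      have h2 : 2 ∣ q := Nat.Prime.dvd_of_dvd_pow Nat.prime_two h1
      rw [← even_iff_two_dvd] at h2
      exact (Nat.not_even_iff_odd.mpr hqodd) h2
    have h2F : (2 : F) ≠ 0 := by
      have := cast_ne_zero_of_ne (F := F) p 2 Nat.prime_two (Ne.symm hp2)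
      exact_mod_cast this
    have hxGU : ∀ u v, Cfsg.hermForm n F q ((x : Matrix (Fin n) (Fin n) F).mulVec u)
        ((x : Matrix (Fin n) (Fin n) F).mulVec v) = Cfsg.hermForm n F q u v :=
      (mem_GU_iff x).mp (Subgroup.mem_inf.mp hx).1
    have hxdet : (x : Matrix (Fin n) (Fin n) F).det = 1 :=
      (mem_SL_iff x).mp (Subgroup.mem_inf.mp hx).2
    obtain ⟨E0, E1, hp', hinv0, hinv1⟩ := exists_invariant_pair hq h2F hqodd ⟨k, hk2⟩ (by omega) hle
      (x : Matrix (Fin n) (Fin n) F) hxGU hxdet z hz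
    obtain ⟨g, hg, hg0, hg1⟩ := exists_transfer hq k hk2 (by omega) hpair hp'
    refine ⟨g, hg, ?_⟩
    have e1 := hpair.finrank_left hq
    have e2 := hp'.finrank_left hq
    have e3 := hpair.finrank_eq hq
    have e4 := hp'.finrank_eq hq
    exact conj_mem_stab D E0 E1 (by omega) (by omega) x g hg0 hg1 hinv0 hinv1

end Cfsg.Agent.S5984
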