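-- Statement S5985.
import Cfsg.Statements.S5985
import Cfsg.Agent.Lib.Helper29.NonsingPt

set_option autoImplicit false
open scoped MatrixGroups
open Cfsg

namespace Cfsg.Agent.S5985

open Module Matrix Cfsg.Agent.Lib.Helper13 Cfsg.Agent.Lib.Helper15 Cfsg.Agent.Lib.Helper29.NSP

/-- Elements of prime order of Ω⁺_n(q), q even, with no fixed nonsingular 1-space. -/
theorem result {F : Type*} [Field F] [Fintype F] {p : ℕ} [Fact p.Prime] [CharP F p] {q : ℕ} (hq : Fintype.card F = q)
    (hp : p = 2) (d : ℕ) (hd : 4 ≤ d) (r : ℕ) [Fact r.Prime]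
    (hrΩ : r ∣ Nat.card {W : Submodule F (Fin d ⊕ Fin d → F) // Module.finrank F ↥W = 1 ∧ ∃ v ∈ W, Cfsg.quadFormPlus d F v ≠ 0}) :
    (∀ x : GL (Fin d ⊕ Fin d) F, x ∈ Cfsg.Geo.omegaGL (Cfsg.quadFormPlus d F) →
      (∃ z : F, ((x ^ r : GL (Fin d ⊕ Fin d) F) : Matrix (Fin d ⊕ Fin d) (Fin d ⊕ Fin d) F) = z • (1 : Matrix (Fin d ⊕ Fin d) (Fin d ⊕ Fin d) F)) →
      (∀ z : F, (x : Matrix (Fin d ⊕ Fin d) (Fin d ⊕ Fin d) F) ≠ z • (1 : Matrix (Fin d ⊕ Fin d) (Fin d ⊕ Fin d) F)) →
      ∃ W : Submodule F (Fin d ⊕ Fin d → F), (Module.finrank F ↥W = 1 ∧ ∃ v ∈ W, Cfsg.quadFormPlus d F v ≠ 0) ∧ W.map (Matrix.toLin' (x : Matrix (Fin d ⊕ Fin d) (Fin d ⊕ Fin d) F)) ≤ W) ↔ (r = 2 ∧ Odd d) := by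
  classical
  subst hp
  have hrP : r.Prime := Fact.out
  rw [card_nonsing_points_plus (F := F) d] at hrΩ
  have hsm := quadFormPlus_smul (F := F) d
  constructor
  · intro H
    have hr2 : r = 2 := by
      by_contra hne
      have h1 : r ∣ Fintype.card F ^ d - 1 := by
        rcases (Nat.Prime.dvd_mul hrP).mp hrΩ with h | h
        · exact h
        · exfalso
          have h2 := hrP.dvd_of_dvd_pow h
          obtain ⟨n, hn⟩ := FiniteField.card F 2
          rw [hn.2] at h2
          have h3 := hrP.dvd_of_dvd_pow h2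
          exact hne ((Nat.prime_dvd_prime_iff_eq hrP Nat.prime_two).mp h3)
      haveI : NeZero d := ⟨by omega⟩
      obtain ⟨A, hAr, hAu⟩ := exists_fpf_GL F 2 d r h1
      have htΩ : plusHom d F A ∈ Cfsg.Omega F (Cfsg.quadFormPlus d F) :=
        plusHom_mem_Omega_of_isSquare (by omega) (by intro h; omega) A
          (FiniteField.isSquare_of_char_two (ringChar.eq F 2) _)
      have hpow : ((plusHom d F A : Cfsg.isometryGroup F (Cfsg.quadFormPlus d F)) : GL (Fin d ⊕ Fin d) F) ^ r = 1 := by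
        rw [← SubgroupClass.coe_pow, ← map_pow, hAr, map_one]
        rfl
      obtain ⟨W, ⟨hW1, v, hvW, hv⟩, hWx⟩ := H (plusHom d F A : Cfsg.isometryGroup F (Cfsg.quadFormPlus d F))
        (Subgroup.mem_map.mpr ⟨plusHom d F A, htΩ, rfl⟩)
        ⟨1, by rw [hpow, Units.val_one, one_smul]⟩
        (by
          intro z hz
          rw [plusHom_val, ← fromBlocks_one, fromBlocks_smul, fromBlocks_inj] at hz
          obtain ⟨h11, -, -, h22⟩ := hz
          have h4 : (A : Matrix (Fin d) (Fin d) F)ᵀ * ((A : Matrix (Fin d) (Fin d) F)⁻¹)ᵀ = 1 := by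
            rw [← Matrix.transpose_mul, ← Matrix.coe_units_inv, ← Units.val_mul, inv_mul_cancel,
              Units.val_one, Matrix.transpose_one]
          rw [h22, h11, Matrix.transpose_smul, Matrix.transpose_one, Matrix.smul_mul, Matrix.one_mul,
            smul_smul] at h4
          have h5 : z * z = 1 := by
            have := congrFun (congrFun h4 ⟨0, by omega⟩) ⟨0, by omega⟩
            simpa using this
          have h6 : z = 1 := sq_eq_one_charTwo z (by rw [pow_two, h5])
          rw [h11, h6, one_smul, sub_self] at hAu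
          exact not_isUnit_zero hAu)
      have hfix := fixed_of_invariant (Cfsg.quadFormPlus d F) hsm _
        (oplus_pres (plusHom d F A)) W hW1 v hvW hv hWx
      have h7 : (A : Matrix (Fin d) (Fin d) F) *ᵥ (v ∘ Sum.inl) = v ∘ Sum.inl := by
        have := congrArg (fun w : Fin d ⊕ Fin d → F => w ∘ Sum.inl) hfix
        change (((plusBlockGL A : GL (Fin d ⊕ Fin d) F) : Matrix (Fin d ⊕ Fin d) (Fin d ⊕ Fin d) F) *ᵥ v) ∘ Sum.inl = v ∘ Sum.inl at this
        rw [plusBlockGL_mulVec] at this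
        exact this
      have h8 : v ∘ Sum.inl = 0 := by
        apply eq_zero_of_isUnit_mulVec _ hAu
        rw [Matrix.sub_mulVec, h7, Matrix.one_mulVec, sub_self]
      apply hv
      rw [quadFormPlus_eq_dot, h8, zero_dotProduct]
    refine ⟨hr2, ?_⟩
    subst hr2
    by_contra hodd
    rw [Nat.not_odd_iff_even] at hodd
    obtain ⟨k, hk⟩ := hodd
    have hk2 : 2 * k ≤ d := by omega
    have hMM := altMat_mul_self F d k hk2
    let G : GL (Fin d ⊕ Fin d) F := ⟨altMat F d k hk2, altMat F d k hk2, hMM, hMM⟩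
    have hGmem : G ∈ Cfsg.isometryGroup F (Cfsg.quadFormPlus d F) :=
      (mem_isometryGroup_iff _ G).mpr (altMat_pres F d k hk2)
    let t : Cfsg.isometryGroup F (Cfsg.quadFormPlus d F) := ⟨G, hGmem⟩
    have hrank : (altMat F d k hk2 - 1).rank = 2 * k := altMat_rank F d k hk2
    have ht2 : t ^ 2 = 1 := by
      apply Subtype.ext
      apply Units.ext
      rw [pow_two]
      exact hMM
    have ht1 : t ≠ 1 := by
      intro h
      have h1 : altMat F d k hk2 = 1 := congrArg (fun x : Cfsg.isometryGroup F (Cfsg.quadFormPlus d F) =>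
        ((x : GL (Fin d ⊕ Fin d) F) : Matrix (Fin d ⊕ Fin d) (Fin d ⊕ Fin d) F)) h
      rw [h1, sub_self, Matrix.rank_zero] at hrank
      omega
    have hto : orderOf t = 2 := orderOf_eq_prime ht2 ht1
    have htΩ : t ∈ Cfsg.Omega F (Cfsg.quadFormPlus d F) := by
      rw [oplus_involution_mem_Omega_iff d (by omega) (Or.inr (by omega)) t hto]
      change Even (altMat F d k hk2 - 1).rank
      rw [hrank]
      exact even_two_mul k
    have hlt : ∀ i : Fin d, i.val < 2 * k := fun i => by have := i.2; omega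
    obtain ⟨W, ⟨hW1, v, hvW, hv⟩, hWx⟩ := H G (Subgroup.mem_map.mpr ⟨t, htΩ, rfl⟩)
      ⟨1, by
        rw [pow_two, Units.val_mul, one_smul]
        exact hMM⟩
      (by
        intro z hz
        change altMat F d k hk2 = z • 1 at hz
        let j0 : Fin d := ⟨0, by omega⟩
        have h1 := congrFun (congrArg (fun M : Matrix (Fin d ⊕ Fin d) (Fin d ⊕ Fin d) F =>
          M *ᵥ (Pi.single (Sum.inr (revIdx d k hk2 j0)) (1 : F))) hz) (Sum.inl j0)
        rw [altMat_mulVec_inl, if_pos (hlt j0), Matrix.smul_mulVec, Matrix.one_mulVec] at h1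
        simp at h1)
    have hfix := fixed_of_invariant (Cfsg.quadFormPlus d F) hsm _ (altMat_pres F d k hk2) W hW1 v hvW hv hWx
    change altMat F d k hk2 *ᵥ v = v at hfix
    have h2 : ∀ i : Fin d, v (Sum.inr (revIdx d k hk2 i)) = 0 := by
      intro i
      have := congrFun hfix (Sum.inl i)
      rw [altMat_mulVec_inl, if_pos (hlt i)] at this
      exact left_eq_add.mp this.symm
    have h3 : ∀ j : Fin d, v (Sum.inr j) = 0 := by
      intro j
      have := h2 (revIdx d k hk2 j)
      rwa [revIdx_revIdx] at this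
    apply hv
    unfold Cfsg.quadFormPlus
    apply Finset.sum_eq_zero
    intro i _
    rw [h3, mul_zero]
  · rintro ⟨rfl, hodd⟩ x hx ⟨z, hz⟩ hns
    obtain ⟨t, htΩ, rfl⟩ := Subgroup.mem_map.mp hx
    change (((t : GL (Fin d ⊕ Fin d) F) ^ 2 : GL (Fin d ⊕ Fin d) F) : Matrix (Fin d ⊕ Fin d) (Fin d ⊕ Fin d) F) = z • 1 at hz
    have hQ := nondegenerate_plusQF (F := F) (m := d)
    have hpos : 0 < finrank F (Fin d ⊕ Fin d → F) := by rw [finrank_plus_space]; omega
    obtain ⟨a0, ha0⟩ := exists_norm_one (plusQF d F) hQ hpos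
    have ha0' : Cfsg.quadFormPlus d F a0 = 1 := by rw [← congrFun coe_plusQF a0]; exact ha0
    have hz1 : z = 1 := by
      apply sq_eq_one_charTwo
      have h1 : ((t : GL (Fin d ⊕ Fin d) F) : Matrix (Fin d ⊕ Fin d) (Fin d ⊕ Fin d) F) *ᵥ
          (((t : GL (Fin d ⊕ Fin d) F) : Matrix (Fin d ⊕ Fin d) (Fin d ⊕ Fin d) F) *ᵥ a0) = z • a0 := by
        rw [Matrix.mulVec_mulVec, ← Units.val_mul, ← pow_two]
        change (((t : GL (Fin d ⊕ Fin d) F) ^ 2 : GL (Fin d ⊕ Fin d) F) : Matrix (Fin d ⊕ Fin d) (Fin d ⊕ Fin d) F) *ᵥ a0 = _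
        rw [hz, Matrix.smul_mulVec, Matrix.one_mulVec]
      have h2 := congrArg (Cfsg.quadFormPlus d F) h1
      rw [oplus_pres t, oplus_pres t, hsm, ha0', mul_one] at h2
      exact h2.symm
    have htt : t * t = 1 := by
      apply Subtype.ext
      apply Units.ext
      have : (((t : GL (Fin d ⊕ Fin d) F) ^ 2 : GL (Fin d ⊕ Fin d) F) : Matrix (Fin d ⊕ Fin d) (Fin d ⊕ Fin d) F) = 1 := by
        rw [hz, hz1, one_smul]
      rw [pow_two] at this
      exact this
    let τ := plusEquiv F d t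
    have hτ : τ * τ = 1 := by rw [← map_mul, htt, map_one]
    rcases exists_fixed_norm_one_or (plusQF d F) hQ d finrank_plus_space τ hτ with ⟨a, ha, hfix⟩ | ⟨hrank, halt⟩
    · have ha' : Cfsg.quadFormPlus d F a ≠ 0 := by
        rw [← congrFun coe_plusQF a, ha]; exact one_ne_zero
      have ha0 : a ≠ 0 := by
        rintro rfl
        rw [map_zero] at ha
        exact zero_ne_one ha
      exact invariant_of_fixed _ _ a ha' ha0 hfix
    · exfalso
      have h1 := ((invol_rank_facts (plusQF d F) hQ τ hτ).2.2 (fun x => by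
        unfold QuadraticMap.polar
        rw [add_sub_cancel, halt x, isoGroup_map, sub_self, sub_zero])).1
      rw [hrank] at h1
      exact (Nat.not_even_iff_odd.mpr hodd) h1

end Cfsg.Agent.S5985
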