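-- Statement S5986.
import Cfsg.Statements.S5986
import Cfsg.Agent.Lib.Helper29.NonsingMinus

set_option autoImplicit false
open scoped MatrixGroups
open Cfsg

namespace Cfsg.Agent.S5986

open Module Matrix QuadraticMap Cfsg.Agent.Lib.Helper13 Cfsg.Agent.Lib.Helper15 Cfsg.Agent.Lib.Helper29.NSP
  Cfsg.Agent.Lib.Helper29.NSM

/-- Elements of prime order of Ω⁻_n(q), q even, with no fixed nonsingular 1-space. Here `T = PΩ⁻_n(F)`, `n = 2d ≥ 8`, realised through `Ω⁻_n(q)`, the commutator subgroup of the isometry group of `Q = Σ_{i<d−1} xᵢyᵢ + z₁² + a z₁z₂ + b z₂²` with `z₁² + a z₁z₂ + b z₂²` anisotropic, over the field `F` with `q` elements; an element of `T` of prime order `r` is an element `x` of `Ω⁻_n(q)` with `x^r` scalar and `x` not scalar; `q` is even (so the centre is trivial). Let Ω be the set of 1-dimensional subspaces spanned by a vector `v` with `Q(v) ≠ 0`, and let `r` be a prime dividing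 their number. Then every element of `T` of order `r` fixes some nonsingular 1-space if and only if `r = 2`. -/
theorem result {F : Type*} [Field F] [Fintype F] {p : ℕ} [Fact p.Prime] [CharP F p] {q : ℕ} (hq : Fintype.card F = q)
    (hp : p = 2) (d : ℕ) (hd : 4 ≤ d) (a b : F) (hab : ∀ x y : F, x ^ 2 + a * x * y + b * y ^ 2 = 0 → x = 0 ∧ y = 0) (r : ℕ) [Fact r.Prime]
    (hrΩ : r ∣ Nat.card {W : Submodule F ((Fin (d - 1) ⊕ Fin (d - 1)) ⊕ Fin 2 → F) // Module.finrank F ↥W = 1 ∧ ∃ v ∈ W, Cfsg.quadFormMinus (d - 1) F a b v ≠ 0}) :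
    (∀ x : GL ((Fin (d - 1) ⊕ Fin (d - 1)) ⊕ Fin 2) F, x ∈ Cfsg.Geo.omegaGL (Cfsg.quadFormMinus (d - 1) F a b) →
      (∃ z : F, ((x ^ r : GL ((Fin (d - 1) ⊕ Fin (d - 1)) ⊕ Fin 2) F) : Matrix ((Fin (d - 1) ⊕ Fin (d - 1)) ⊕ Fin 2) ((Fin (d - 1) ⊕ Fin (d - 1)) ⊕ Fin 2) F) = z • (1 : Matrix ((Fin (d - 1) ⊕ Fin (d - 1)) ⊕ Fin 2) ((Fin (d - 1) ⊕ Fin (d - 1)) ⊕ Fin 2) F)) →
      (∀ z : F, (x : Matrix ((Fin (d - 1) ⊕ Fin (d - 1)) ⊕ Fin 2) ((Fin (d - 1) ⊕ Fin (d - 1)) ⊕ Fin 2) F) ≠ z • (1 : Matrix ((Fin (d - 1) ⊕ Fin (d - 1)) ⊕ Fin 2) ((Fin (d - 1) ⊕ Fin (d - 1)) ⊕ Fin 2) F)) →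
      ∃ W : Submodule F ((Fin (d - 1) ⊕ Fin (d - 1)) ⊕ Fin 2 → F), (Module.finrank F ↥W = 1 ∧ ∃ v ∈ W, Cfsg.quadFormMinus (d - 1) F a b v ≠ 0) ∧ W.map (Matrix.toLin' (x : Matrix ((Fin (d - 1) ⊕ Fin (d - 1)) ⊕ Fin 2) ((Fin (d - 1) ⊕ Fin (d - 1)) ⊕ Fin 2) F)) ≤ W) ↔ r = 2 := by
  classical
  subst hp
  have hrP : r.Prime := Fact.out
  generalize hk : d - 1 = k at *
  have hk3 : 3 ≤ k := by omega
  rw [card_nonsing_points_minus k a b hab (by omega)] at hrΩ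
  have hsm := quadFormMinus_smul (F := F) k a b
  have hQ := nondegenerate_Qgen k (binForm a b) (nondegenerate_binForm a b hab)
  have hfin : finrank F ((Fin k ⊕ Fin k) ⊕ Fin 2 → F) = 2 * k + 2 := minus_finrank k
  have hpos : 0 < finrank F ((Fin k ⊕ Fin k) ⊕ Fin 2 → F) := by rw [hfin]; omega
  let E := isoEquiv (Cfsg.quadFormMinus k F a b) (Qgen k (binForm a b)) (minus_hfun k a b)
  obtain ⟨a0, ha0⟩ := exists_norm_one (Qgen k (binForm a b)) hQ hpos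
  have ha00 : a0 ≠ 0 := by
    rintro rfl
    rw [map_zero] at ha0
    exact zero_ne_one ha0
  constructor
  · intro H
    by_contra hne
    have h1 : r ∣ Fintype.card F ^ (k + 1) + 1 := by
      rcases (Nat.Prime.dvd_mul hrP).mp hrΩ with h | h
      · exfalso
        have h2 := hrP.dvd_of_dvd_pow h
        obtain ⟨n, hn⟩ := FiniteField.card F 2
        rw [hn.2] at h2
        have h3 := hrP.dvd_of_dvd_pow h2
        exact hne ((Nat.prime_dvd_prime_iff_eq hrP Nat.prime_two).mp h3)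
      · exact h
    obtain ⟨τ, hτr, hfpf⟩ := exists_fpf_minus k a b hab r hne h1
    have hodd : Odd r := hrP.odd_of_ne_two hne
    have hgen : reflGen (Qgen k (binForm a b)) = ⊤ :=
      reflGen_eq_top_of_card _ hQ (Or.inr (by
        rw [Fintype.card_sum, Fintype.card_sum, Fintype.card_fin, Fintype.card_fin]; omega))
    have hτc : τ ∈ commutator (isoGroup (Qgen k (binForm a b))) :=
      mem_commutator_of_pow_odd _ hQ hpos hgen τ r hodd hτr
    let t := E.symm τ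
    have htΩ : t ∈ Cfsg.Omega F (Cfsg.quadFormMinus k F a b) := by
      change t ∈ commutator (Cfsg.isometryGroup F (Cfsg.quadFormMinus k F a b))
      rw [mem_commutator_iff_of_equiv E t, E.apply_symm_apply]
      exact hτc
    have hX : ∀ v, ((t : GL ((Fin k ⊕ Fin k) ⊕ Fin 2) F) : Matrix ((Fin k ⊕ Fin k) ⊕ Fin 2) ((Fin k ⊕ Fin k) ⊕ Fin 2) F) *ᵥ v = τ.1 v :=
      fun v => isoEquiv_symm_mulVec _ _ _ τ v
    have hpow : (t : GL ((Fin k ⊕ Fin k) ⊕ Fin 2) F) ^ r = 1 := by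
      rw [← SubgroupClass.coe_pow, ← map_pow, hτr, map_one]
      rfl
    obtain ⟨W, ⟨hW1, v, hvW, hv⟩, hWx⟩ := H (t : GL ((Fin k ⊕ Fin k) ⊕ Fin 2) F)
      (Subgroup.mem_map.mpr ⟨t, htΩ, rfl⟩)
      ⟨1, by rw [hpow, Units.val_one, one_smul]⟩
      (by
        intro z hz
        have h2 : τ.1 a0 = z • a0 := by
          rw [← hX, hz, Matrix.smul_mulVec, Matrix.one_mulVec]
        have h3 : (Qgen k (binForm a b)) (τ.1 a0) = 1 := by rw [isoGroup_map]; exact ha0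
        rw [h2, QuadraticMap.map_smul, ha0, smul_eq_mul, mul_one] at h3
        have h4 : z = 1 := sq_eq_one_charTwo z (by rw [pow_two]; exact h3)
        rw [h4, one_smul] at h2
        exact ha00 (hfpf a0 h2))
    have hfix := fixed_of_invariant (Cfsg.quadFormMinus k F a b) hsm
      ((t : GL ((Fin k ⊕ Fin k) ⊕ Fin 2) F) : Matrix ((Fin k ⊕ Fin k) ⊕ Fin 2) ((Fin k ⊕ Fin k) ⊕ Fin 2) F)
      (fun v => t.2 v v) W hW1 v hvW hv hWx
    rw [hX] at hfix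
    have h5 := hfpf v hfix
    apply hv
    rw [h5, ← minus_hfun, map_zero]
  · rintro rfl x hx ⟨z, hz⟩ hns
    obtain ⟨t, htΩ, rfl⟩ := Subgroup.mem_map.mp hx
    change (((t : GL ((Fin k ⊕ Fin k) ⊕ Fin 2) F) ^ 2 : GL ((Fin k ⊕ Fin k) ⊕ Fin 2) F) : Matrix ((Fin k ⊕ Fin k) ⊕ Fin 2) ((Fin k ⊕ Fin k) ⊕ Fin 2) F) = z • 1 at hz
    have hpres : ∀ v, Cfsg.quadFormMinus k F a b (((t : GL ((Fin k ⊕ Fin k) ⊕ Fin 2) F) : Matrix ((Fin k ⊕ Fin k) ⊕ Fin 2) ((Fin k ⊕ Fin k) ⊕ Fin 2) F) *ᵥ v) = Cfsg.quadFormMinus k F a b v :=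
      fun v => t.2 v v
    have ha0' : Cfsg.quadFormMinus k F a b a0 = 1 := by rw [← minus_hfun]; exact ha0
    have hz1 : z = 1 := by
      apply sq_eq_one_charTwo
      have h1 : ((t : GL ((Fin k ⊕ Fin k) ⊕ Fin 2) F) : Matrix ((Fin k ⊕ Fin k) ⊕ Fin 2) ((Fin k ⊕ Fin k) ⊕ Fin 2) F) *ᵥ
          (((t : GL ((Fin k ⊕ Fin k) ⊕ Fin 2) F) : Matrix ((Fin k ⊕ Fin k) ⊕ Fin 2) ((Fin k ⊕ Fin k) ⊕ Fin 2) F) *ᵥ a0) = z • a0 := by
        rw [Matrix.mulVec_mulVec, ← Units.val_mul, ← pow_two, hz, Matrix.smul_mulVec, Matrix.one_mulVec]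
      have h2 := congrArg (Cfsg.quadFormMinus k F a b) h1
      rw [hpres, hpres, hsm, ha0', mul_one] at h2
      exact h2.symm
    have htt : t * t = 1 := by
      apply Subtype.ext
      apply Units.ext
      have : (((t : GL ((Fin k ⊕ Fin k) ⊕ Fin 2) F) ^ 2 : GL ((Fin k ⊕ Fin k) ⊕ Fin 2) F) : Matrix ((Fin k ⊕ Fin k) ⊕ Fin 2) ((Fin k ⊕ Fin k) ⊕ Fin 2) F) = 1 := by
        rw [hz, hz1, one_smul]
      rw [pow_two] at this
      exact this
    have hτ : E t * E t = 1 := by rw [← map_mul, htt, map_one]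
    obtain ⟨c, hc, hfix⟩ := exists_fixed_norm_one (Qgen k (binForm a b)) hQ (E t) hτ k
      (minus_ts_finrank_le k a b hab) (by rw [hfin])
    have hc' : Cfsg.quadFormMinus k F a b c ≠ 0 := by
      rw [← minus_hfun, hc]; exact one_ne_zero
    have hc0 : c ≠ 0 := by
      rintro rfl
      rw [map_zero] at hc
      exact zero_ne_one hc
    exact invariant_of_fixed _ _ c hc' hc0 hfix

end Cfsg.Agent.S5986
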