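-- Statement S5988
import Cfsg.Statements.S5988
import Mathlib
import Cfsg.Agent.Lib.Helper6.OrtP2
import Cfsg.Agent.Lib.Helper6.OrtT5

set_option autoImplicit false
open scoped MatrixGroups
open Cfsg

namespace Cfsg.Agent.S5988

/-- Elements of prime order of PΩ⁺_n(q) with no fixed elliptic `m`-space. Here `T = PΩ⁺_n(F)`, `n = 2d ≥ 8`, realised through `Ω⁺_n(q)`, the commutator subgroup of the isometry group of `Q = Σ xᵢyᵢ` over the field `F` with `q` elements; an element of `T` of prime order `r` is an element `x` of `Ω⁺_n(q)` with `x^r` scalar and `x` not scalar; a nondegenerate `m`-space (even `m`) is a subspace on which the polar form of `Q` is nondegenerate; it is hyperbolic if it contains an `m/2`-dimensional subspace on which `Q` vanishes, elliptic otherwise. Let `m` be even with `2 ≤ m < n/2` and let `r` be a prime dividing the number of elliptic `m`-spaces; for `r ≠ p`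 let `i` be the multiplicative order of `q` modulo `r`, `c = i` for `i` even and `c = 2i` for `i` odd, and write `k = n mod c`, `ℓ = m mod i`, `ℓ' = m mod c`, `n' = ⌊n/i⌋`, `m' = ⌊m/i⌋`, `t = (r−1)/i`. Then every element of `T` of order `r` fixes some elliptic `m`-space if and only if one of: (i) `r = 2 ≠ p` and either `n ≡ 0 (mod 4)`, `q ≡ 3 (mod 4)` and `m ≡ 2 (mod 4)`, or `n ≡ 2 (mod 4)` and `q ≢ 1 (mod 8)`; (ii) `r ≠ p` odd, `i` odd, `c ≤ m` and `k > ℓ' > 0`; (iii) `r ≠ p` odd, `i` even, and either `k = 0` and (`n/i` odd, or `ℓ' = 0` and `m/i` odd), or `i ≤ m` and (`k > ℓ' > 0`, or `k = ℓ' > 0` and `(n + m − 2k)/i` odd, or `k > ℓ' = 0` and `m/i` odd). (For `r = p` there is always an element of order `p` fixing no elliptic `m`-space.) -/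
theorem result {F : Type*} [Field F] [Fintype F] {p : ℕ} [Fact p.Prime] [CharP F p] {q : ℕ} (hq : Fintype.card F = q)
    (d m : ℕ) (hd : 4 ≤ d) (hm : 2 ≤ m) (hme : Even m) (hmd : m < d)
    (r : ℕ) [Fact r.Prime]
    (hrΩ : r ∣ Nat.card {W : Submodule F (Fin d ⊕ Fin d → F) // Module.finrank F ↥W = m ∧ Cfsg.Geo.IsNondegenerateOn (QuadraticMap.polar (Cfsg.quadFormPlus d F)) W ∧ ¬ Cfsg.Geo.IsPlusTypeOn (Cfsg.quadFormPlus d F) W})
    (i c : ℕ) (hi : i = orderOf (q : ZMod r)) (hc : c = if Even i then i else 2 * i) :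
    (∀ x : GL (Fin d ⊕ Fin d) F, x ∈ Cfsg.Geo.omegaGL (Cfsg.quadFormPlus d F) →
      (∃ z : F, ((x ^ r : GL (Fin d ⊕ Fin d) F) : Matrix (Fin d ⊕ Fin d) (Fin d ⊕ Fin d) F) = z • (1 : Matrix (Fin d ⊕ Fin d) (Fin d ⊕ Fin d) F)) →
      (∀ z : F, (x : Matrix (Fin d ⊕ Fin d) (Fin d ⊕ Fin d) F) ≠ z • (1 : Matrix (Fin d ⊕ Fin d) (Fin d ⊕ Fin d) F)) →
      ∃ W : Submodule F (Fin d ⊕ Fin d → F), (Module.finrank F ↥W = m ∧ Cfsg.Geo.IsNondegenerateOn (QuadraticMap.polar (Cfsg.quadFormPlus d F)) W ∧ ¬ Cfsg.Geo.IsPlusTypeOn (Cfsg.quadFormPlus d F) W) ∧ W.map (Matrix.toLin' (x : Matrix (Fin d ⊕ Fin d) (Fin d ⊕ Fin d) F)) ≤ W) ↔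
    ((r = 2 ∧ p ≠ 2 ∧ ((Even d ∧ q % 4 = 3 ∧ m % 4 = 2) ∨ (Odd d ∧ q % 8 ≠ 1))) ∨
     (r ≠ p ∧ 2 < r ∧ Odd i ∧ c ≤ m ∧ 0 < m % c ∧ m % c < (2 * d) % c) ∨
     (r ≠ p ∧ 2 < r ∧ Even i ∧
       (((2 * d) % c = 0 ∧ (Odd ((2 * d) / i) ∨ (m % c = 0 ∧ Odd (m / i)))) ∨
        (i ≤ m ∧ ((0 < m % c ∧ m % c < (2 * d) % c) ∨
                  (0 < m % c ∧ m % c = (2 * d) % c ∧ Odd ((2 * d + m - 2 * ((2 * d) % c)) / i)) ∨
                  (m % c = 0 ∧ 0 < (2 * d) % c ∧ Odd (m / i))))))) := by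
  classical
  subst hq
  have hc' : c = Cfsg.Agent.Lib.Helper15.PSpJ.cOf i := hc
  subst hc'
  have hmem : ∀ W : Submodule F (Fin d ⊕ Fin d → F),
      (Module.finrank F ↥W = m ∧
        Cfsg.Geo.IsNondegenerateOn (QuadraticMap.polar (Cfsg.quadFormPlus d F)) W ∧
        ¬ Cfsg.Geo.IsPlusTypeOn (Cfsg.quadFormPlus d F) W) ↔
      W ∈ Cfsg.Agent.Lib.Helper6.OrtS.NSet (Cfsg.Agent.Lib.Helper15.QPlus F d) m (-1) := by
    intro W
    rw [← Cfsg.Agent.Lib.Helper6.OrtS.coe_QPlus]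
    exact (Cfsg.Agent.Lib.Helper6.OrtS.mem_NSet_minus_iff
      (Cfsg.Agent.Lib.Helper15.QPlus F d) m hme W).symm
  have hL : (∀ x : GL (Fin d ⊕ Fin d) F, x ∈ Cfsg.Geo.omegaGL (Cfsg.quadFormPlus d F) →
      (∃ z : F, ((x ^ r : GL (Fin d ⊕ Fin d) F) : Matrix (Fin d ⊕ Fin d) (Fin d ⊕ Fin d) F) = z • (1 : Matrix (Fin d ⊕ Fin d) (Fin d ⊕ Fin d) F)) →
      (∀ z : F, (x : Matrix (Fin d ⊕ Fin d) (Fin d ⊕ Fin d) F) ≠ z • (1 : Matrix (Fin d ⊕ Fin d) (Fin d ⊕ Fin d) F)) →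
      ∃ W : Submodule F (Fin d ⊕ Fin d → F), (Module.finrank F ↥W = m ∧ Cfsg.Geo.IsNondegenerateOn (QuadraticMap.polar (Cfsg.quadFormPlus d F)) W ∧ ¬ Cfsg.Geo.IsPlusTypeOn (Cfsg.quadFormPlus d F) W) ∧ W.map (Matrix.toLin' (x : Matrix (Fin d ⊕ Fin d) (Fin d ⊕ Fin d) F)) ≤ W) ↔
      (∀ x : GL (Fin d ⊕ Fin d) F, x ∈ Cfsg.Geo.omegaGL (Cfsg.quadFormPlus d F) →
      (∃ z : F, ((x ^ r : GL (Fin d ⊕ Fin d) F) : Matrix (Fin d ⊕ Fin d) (Fin d ⊕ Fin d) F) = z • (1 : Matrix (Fin d ⊕ Fin d) (Fin d ⊕ Fin d) F)) →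
      (∀ z : F, (x : Matrix (Fin d ⊕ Fin d) (Fin d ⊕ Fin d) F) ≠ z • (1 : Matrix (Fin d ⊕ Fin d) (Fin d ⊕ Fin d) F)) →
      ∃ W : Submodule F (Fin d ⊕ Fin d → F),
        W ∈ Cfsg.Agent.Lib.Helper6.OrtS.NSet (Cfsg.Agent.Lib.Helper15.QPlus F d) m (-1) ∧
        W.map (Matrix.toLin' (x : Matrix (Fin d ⊕ Fin d) (Fin d ⊕ Fin d) F)) ≤ W) := by
    constructor
    · intro h x hx hz hns
      obtain ⟨W, hW, hWx⟩ := h x hx hz hns
      exact ⟨W, (hmem W).mp hW, hWx⟩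
    · intro h x hx hz hns
      obtain ⟨W, hW, hWx⟩ := h x hx hz hns
      exact ⟨W, (hmem W).mpr hW, hWx⟩
  rw [hL]
  have hN : Nat.card {W : Submodule F (Fin d ⊕ Fin d → F) // Module.finrank F ↥W = m ∧ Cfsg.Geo.IsNondegenerateOn (QuadraticMap.polar (Cfsg.quadFormPlus d F)) W ∧ ¬ Cfsg.Geo.IsPlusTypeOn (Cfsg.quadFormPlus d F) W} =
      Nat.card ↥(Cfsg.Agent.Lib.Helper6.OrtS.NSet (Cfsg.Agent.Lib.Helper15.QPlus F d) m (-1)) :=
    Nat.card_congr (Equiv.subtypeEquivRight hmem)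
  rw [hN] at hrΩ
  have hr2le := (Fact.out : r.Prime).two_le
  by_cases hrp : r = p
  · -- `r = p`: a unipotent derangement
    subst hrp
    obtain ⟨x, hxΩ, hxp, hns, hbad⟩ :=
      Cfsg.Agent.Lib.Helper6.OrtS.exists_derangement_p (F := F) r d hd m hme
    constructor
    · intro h
      exfalso
      obtain ⟨W, hW, hWx⟩ := h x hxΩ ⟨1, by rw [hxp, one_smul]; rfl⟩ hns
      exact hbad W hW hWx
    · rintro (⟨h1, h2, -⟩ | ⟨h1, -⟩ | ⟨h1, -⟩)
      · exact absurd h1 h2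
      · exact absurd rfl h1
      · exact absurd rfl h1
  by_cases hr2 : r = 2
  · -- `r = 2`, odd characteristic
    subst hr2
    have hp2 : p ≠ 2 := fun h => hrp h.symm
    have h2 : (2 : F) ≠ 0 := by
      intro h
      have h1 : ((2 : ℕ) : F) = 0 := by rw [Nat.cast_ofNat]; exact h
      rw [CharP.cast_eq_zero_iff F p 2] at h1
      exact hp2 ((Nat.prime_dvd_prime_iff_eq (Fact.out : p.Prime) Nat.prime_two).mp h1)
    have hchar : ringChar F ≠ 2 := by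
      intro h
      apply h2
      have := ringChar.Nat.cast_ringChar (R := F)
      rw [h] at this
      exact_mod_cast this
    have hqodd : Fintype.card F % 2 = 1 := FiniteField.odd_card_of_char_ne_two hchar
    obtain ⟨a, ha⟩ := hme
    have ha2 : m = 2 * a := by omega
    subst ha2
    rw [Cfsg.Agent.Lib.Helper6.OrtS.two_plus_iff h2 d hd a (by omega) hmd (-1) (Or.inr rfl),
      Cfsg.Agent.Lib.Helper6.OrtS.arith_two_minus _ d a hqodd]
    constructor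
    · intro h
      exact Or.inl ⟨rfl, hp2, h⟩
    · rintro (⟨-, -, h⟩ | ⟨-, h, -⟩ | ⟨-, h, -⟩)
      · exact h
      · omega
      · omega
  · -- odd `r ≠ p`
    have h2r : 2 < r := by omega
    obtain ⟨h1, h2⟩ := Cfsg.Agent.Lib.Helper6.OrtS.odd_plus (F := F) p r hrp hr2 d hd m hme (-1)
      (Or.inr rfl)
    rw [h1]
    subst hi
    have hipos := Cfsg.Agent.Lib.Helper15.PSub.orderOf_pos_of_ne (F := F) p r hrp
    have hnE := fun hE => h2 hE hrΩ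
    have harith := Cfsg.Agent.Lib.Helper6.OrtS.arith_minus d m _ hipos hm hmd
    constructor
    · intro hcrit
      rcases harith.mp ⟨hcrit, hnE⟩ with ⟨hodd, h⟩ | ⟨hev, h⟩
      · exact Or.inr (Or.inl ⟨hrp, h2r, hodd, h⟩)
      · exact Or.inr (Or.inr ⟨hrp, h2r, hev, h⟩)
    · rintro (⟨h, -⟩ | ⟨-, -, hodd, h⟩ | ⟨-, -, hev, h⟩)
      · exact absurd h hr2
      · exact (harith.mpr (Or.inl ⟨hodd, h⟩)).1
      · exact (harith.mpr (Or.inr ⟨hev, h⟩)).1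

end Cfsg.Agent.S5988
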