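import Cfsg.Statements.S5989
import Mathlib
import Cfsg.Agent.Lib.Helper20.OddC8
import Cfsg.Agent.Lib.Helper20.OddC9
-- import your own Cfsg.Agent.* helpers here

set_option autoImplicit false
open scoped MatrixGroups
open Cfsg

namespace Cfsg.Agent.S5989

/-- Elements of prime order of PΩ⁺_n(q), q odd, with no fixed nondegenerate `m`-space of odd dimension. Here `T = PΩ⁺_n(F)`, `n = 2d ≥ 8`, realised through `Ω⁺_n(q)`, the commutator subgroup of the isometry group of `Q = Σ xᵢyᵢ` over the field `F` with `q` elements; an element of `T` of prime order `r` is an element `x` of `Ω⁺_n(q)` with `x^r` scalar and `x` not scalar; `q` and `m` are odd, `1 ≤ m < n/2`. The nondegenerate `m`-spaces (subspaces on which the polar form is nondegenerate) fall into two isometry classes, each an orbit of `T`, and the two actions are equivalent; fix one such space `W₀` and let Ω be the set of nondegenerate `m`-spaces isometric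 to `W₀` (some linear isomorphism preserves `Q`). Let `r` be a prime dividing the size of Ω; for `r ≠ p` let `i` be the multiplicative order of `q` modulo `r`, `c = i` for `i` even and `c = 2i` for `i` odd, and write `k = n mod c`, `ℓ = m mod i`, `ℓ' = m mod c`, `n' = ⌊n/i⌋`, `m' = ⌊m/i⌋`, `t = (r−1)/i`. Then every element of `T` of order `r` fixes a member of Ω if and only if one of: (i) `r = 2`, `n ≡ 2 (mod 4)` and `q ≢ 1 (mod 8)`; (ii) `r ≠ p` odd, `i` odd, `c ≤ m` and `k > ℓ' > 0`; (iii) `r ≠ p` odd, `i` even, and either `k = 0` and `n/i` odd, or `i ≤ m` and `k > ℓ' > 0`. (For `r = p` there is always an element of order `p` fixing no member of Ω.) -/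
theorem result {F : Type*} [Field F] [Fintype F] {p : ℕ} [Fact p.Prime] [CharP F p] {q : ℕ} (hq : Fintype.card F = q)
    (hodd : Odd q) (d m : ℕ) (hd : 4 ≤ d) (hm : Odd m) (hmd : m < d)
    (W₀ : Submodule F (Fin d ⊕ Fin d → F)) (hW₀ : Module.finrank F ↥W₀ = m ∧ Cfsg.Geo.IsNondegenerateOn (QuadraticMap.polar (Cfsg.quadFormPlus d F)) W₀)
    (r : ℕ) [Fact r.Prime]
    (hrΩ : r ∣ Nat.card {W : Submodule F (Fin d ⊕ Fin d → F) // Module.finrank F ↥W = m ∧ Cfsg.Geo.IsNondegenerateOn (QuadraticMap.polar (Cfsg.quadFormPlus d F)) W ∧ Cfsg.Geo.AreIsometricFor (Cfsg.quadFormPlus d F) W W₀})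
    (i c : ℕ) (hi : i = orderOf (q : ZMod r)) (hc : c = if Even i then i else 2 * i) :
    (∀ x : GL (Fin d ⊕ Fin d) F, x ∈ Cfsg.Geo.omegaGL (Cfsg.quadFormPlus d F) →
      (∃ z : F, ((x ^ r : GL (Fin d ⊕ Fin d) F) : Matrix (Fin d ⊕ Fin d) (Fin d ⊕ Fin d) F) = z • (1 : Matrix (Fin d ⊕ Fin d) (Fin d ⊕ Fin d) F)) →
      (∀ z : F, (x : Matrix (Fin d ⊕ Fin d) (Fin d ⊕ Fin d) F) ≠ z • (1 : Matrix (Fin d ⊕ Fin d) (Fin d ⊕ Fin d) F)) →
      ∃ W : Submodule F (Fin d ⊕ Fin d → F), (Module.finrank F ↥W = m ∧ Cfsg.Geo.IsNondegenerateOn (QuadraticMap.polar (Cfsg.quadFormPlus d F)) W ∧ Cfsg.Geo.AreIsometricFor (Cfsg.quadFormPlus d F) W W₀) ∧ W.map (Matrix.toLin' (x : Matrix (Fin d ⊕ Fin d) (Fin d ⊕ Fin d) F)) ≤ W) ↔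
    ((r = 2 ∧ Odd d ∧ q % 8 ≠ 1) ∨
     (r ≠ p ∧ 2 < r ∧ Odd i ∧ c ≤ m ∧ 0 < m % c ∧ m % c < (2 * d) % c) ∨
     (r ≠ p ∧ 2 < r ∧ Even i ∧ (((2 * d) % c = 0 ∧ Odd ((2 * d) / i)) ∨ (i ≤ m ∧ 0 < m % c ∧ m % c < (2 * d) % c)))) := by
  classical
  subst hq
  have hc' : c = Cfsg.Agent.Lib.Helper15.PSpJ.cOf i := hc
  subst hc'
  have h2 : (2 : F) ≠ 0 := Cfsg.Agent.Lib.Helper20.OU.two_ne_zero_of_odd_card hodd
  have hcoe := Cfsg.Agent.Lib.Helper6.OrtS.coe_QPlus (F := F) d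
  -- the class of `W₀`
  have hW₀n : Cfsg.Agent.Lib.Helper15.PSpI.NondegOn
      (QuadraticMap.polarBilin (Cfsg.Agent.Lib.Helper15.QPlus F d)) W₀ := by
    apply (Cfsg.Agent.Lib.Helper6.OrtS.isNondegenerateOn_iff
      (Cfsg.Agent.Lib.Helper15.QPlus F d) W₀).mp
    rw [hcoe]
    exact hW₀.2
  obtain ⟨η, hη, hW₀s⟩ : ∃ η : ℤ, (η = 1 ∨ η = -1) ∧
      Cfsg.Agent.Lib.Helper20.OddC.OddOn (Cfsg.Agent.Lib.Helper15.QPlus F d) W₀ η := by
    rcases Cfsg.Agent.Lib.Helper20.OddC.oddOn_cases (Cfsg.Agent.Lib.Helper15.QPlus F d) h2 hW₀n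
      (by rw [hW₀.1]; exact hm) with h | h
    · exact ⟨1, Or.inl rfl, h⟩
    · exact ⟨-1, Or.inr rfl, h⟩
  have hmem : ∀ W : Submodule F (Fin d ⊕ Fin d → F),
      (Module.finrank F ↥W = m ∧
        Cfsg.Geo.IsNondegenerateOn (QuadraticMap.polar (Cfsg.quadFormPlus d F)) W ∧
        Cfsg.Geo.AreIsometricFor (Cfsg.quadFormPlus d F) W W₀) ↔
      W ∈ Cfsg.Agent.Lib.Helper20.OddC.OSet (Cfsg.Agent.Lib.Helper15.QPlus F d) m η := by
    intro W
    constructor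
    · rintro ⟨h1, h2', ⟨e, he⟩⟩
      have hWn : Cfsg.Agent.Lib.Helper15.PSpI.NondegOn
          (QuadraticMap.polarBilin (Cfsg.Agent.Lib.Helper15.QPlus F d)) W := by
        apply (Cfsg.Agent.Lib.Helper6.OrtS.isNondegenerateOn_iff
          (Cfsg.Agent.Lib.Helper15.QPlus F d) W).mp
        rw [hcoe]
        exact h2'
      refine ⟨h1, hWn, ?_⟩
      refine Cfsg.Agent.Lib.Helper20.OddC.oddOn_of_isometric (Cfsg.Agent.Lib.Helper15.QPlus F d)
        e.symm ?_ hW₀s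
      intro w
      have h3 := he (e.symm w)
      rw [LinearEquiv.apply_symm_apply] at h3
      rw [hcoe]
      exact h3.symm
    · rintro ⟨h1, hWn, hWs⟩
      refine ⟨h1, ?_, ?_⟩
      · rw [← hcoe]
        exact (Cfsg.Agent.Lib.Helper6.OrtS.isNondegenerateOn_iff
          (Cfsg.Agent.Lib.Helper15.QPlus F d) W).mpr hWn
      · obtain ⟨φ, hφ⟩ := Cfsg.Agent.Lib.Helper20.OddC.exists_iso_of_oddOn
          (Cfsg.Agent.Lib.Helper15.QPlus F d) h2 hWn hW₀n m hm h1 hW₀.1 hη hWs hW₀s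
        refine ⟨φ, fun w => ?_⟩
        rw [← hcoe]
        exact hφ w
  have hL : (∀ x : GL (Fin d ⊕ Fin d) F, x ∈ Cfsg.Geo.omegaGL (Cfsg.quadFormPlus d F) →
      (∃ z : F, ((x ^ r : GL (Fin d ⊕ Fin d) F) : Matrix (Fin d ⊕ Fin d) (Fin d ⊕ Fin d) F) = z • (1 : Matrix (Fin d ⊕ Fin d) (Fin d ⊕ Fin d) F)) →
      (∀ z : F, (x : Matrix (Fin d ⊕ Fin d) (Fin d ⊕ Fin d) F) ≠ z • (1 : Matrix (Fin d ⊕ Fin d) (Fin d ⊕ Fin d) F)) →
      ∃ W : Submodule F (Fin d ⊕ Fin d → F), (Module.finrank F ↥W = m ∧ Cfsg.Geo.IsNondegenerateOn (QuadraticMap.polar (Cfsg.quadFormPlus d F)) W ∧ Cfsg.Geo.AreIsometricFor (Cfsg.quadFormPlus d F) W W₀) ∧ W.map (Matrix.toLin' (x : Matrix (Fin d ⊕ Fin d) (Fin d ⊕ Fin d) F)) ≤ W) ↔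
      (∀ x : GL (Fin d ⊕ Fin d) F, x ∈ Cfsg.Geo.omegaGL (Cfsg.quadFormPlus d F) →
      (∃ z : F, ((x ^ r : GL (Fin d ⊕ Fin d) F) : Matrix (Fin d ⊕ Fin d) (Fin d ⊕ Fin d) F) = z • (1 : Matrix (Fin d ⊕ Fin d) (Fin d ⊕ Fin d) F)) →
      (∀ z : F, (x : Matrix (Fin d ⊕ Fin d) (Fin d ⊕ Fin d) F) ≠ z • (1 : Matrix (Fin d ⊕ Fin d) (Fin d ⊕ Fin d) F)) →
      ∃ W : Submodule F (Fin d ⊕ Fin d → F),
        W ∈ Cfsg.Agent.Lib.Helper20.OddC.OSet (Cfsg.Agent.Lib.Helper15.QPlus F d) m η ∧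
        W.map (Matrix.toLin' (x : Matrix (Fin d ⊕ Fin d) (Fin d ⊕ Fin d) F)) ≤ W) := by
    constructor
    · intro h x hx hz hns
      obtain ⟨W, hW, hWx⟩ := h x hx hz hns
      exact ⟨W, (hmem W).mp hW, hWx⟩
    · intro h x hx hz hns
      obtain ⟨W, hW, hWx⟩ := h x hx hz hns
      exact ⟨W, (hmem W).mpr hW, hWx⟩
  rw [hL]
  have hN : Nat.card {W : Submodule F (Fin d ⊕ Fin d → F) // Module.finrank F ↥W = m ∧ Cfsg.Geo.IsNondegenerateOn (QuadraticMap.polar (Cfsg.quadFormPlus d F)) W ∧ Cfsg.Geo.AreIsometricFor (Cfsg.quadFormPlus d F) W W₀} =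
      Nat.card ↥(Cfsg.Agent.Lib.Helper20.OddC.OSet (Cfsg.Agent.Lib.Helper15.QPlus F d) m η) :=
    Nat.card_congr (Equiv.subtypeEquivRight hmem)
  rw [hN] at hrΩ
  have hr2le := (Fact.out : r.Prime).two_le
  have hp2 : p ≠ 2 := by
    rintro rfl
    apply h2
    have h1 : ((2 : ℕ) : F) = 0 := by rw [CharP.cast_eq_zero_iff F 2 2]
    rw [Nat.cast_ofNat] at h1
    exact h1
  by_cases hrp : r = p
  · -- `r = p`: a unipotent derangement
    subst hrp
    obtain ⟨x, hxΩ, hxp, hns, hbad⟩ :=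
      Cfsg.Agent.Lib.Helper20.OddC.exists_derangement_p_odd (F := F) h2 r d hd m hm
    constructor
    · intro h
      exfalso
      obtain ⟨W, hW, hWx⟩ := h x hxΩ ⟨1, by rw [hxp, one_smul]; rfl⟩ hns
      exact hbad W ((hmem W).mpr hW).1 ((hmem W).mpr hW).2.1 hWx
    · rintro (⟨h1, -⟩ | ⟨h1, -⟩ | ⟨h1, -⟩)
      · exact absurd h1 hp2
      · exact absurd rfl h1
      · exact absurd rfl h1
  by_cases hr2 : r = 2
  · -- `r = 2`, odd characteristic
    subst hr2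
    have hqodd : Fintype.card F % 2 = 1 := Nat.odd_iff.mp hodd
    rw [Cfsg.Agent.Lib.Helper20.OddC.two_plus_iff_odd h2 d hd m hm hmd η hη,
      Cfsg.Agent.Lib.Helper20.OddC.not_good_iff _ d hqodd]
    constructor
    · intro h
      exact Or.inl ⟨rfl, h⟩
    · rintro (⟨-, h⟩ | ⟨-, h, -⟩ | ⟨-, h, -⟩)
      · exact h
      · omega
      · omega
  · -- odd `r ≠ p`
    have h2r : 2 < r := by omega
    obtain ⟨h1, hgap⟩ := Cfsg.Agent.Lib.Helper20.OddC.odd_plus_odd (F := F) h2 p r hrp hr2 d hd m hm η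
      hη
    rw [h1]
    subst hi
    have hipos := Cfsg.Agent.Lib.Helper15.PSub.orderOf_pos_of_ne (F := F) p r hrp
    rw [Cfsg.Agent.Lib.Helper20.OddC.critOdd_iff (2 * d) m _ hipos (by omega) 1]
    obtain ⟨i, hi⟩ : ∃ i, i = orderOf ((Fintype.card F : ℕ) : ZMod r) := ⟨_, rfl⟩
    rw [← hi] at hipos hgap ⊢
    have hcpos := Cfsg.Agent.Lib.Helper15.PSpJ.cOf_pos hipos
    have hceven : Even (Cfsg.Agent.Lib.Helper15.PSpJ.cOf i) := by
      unfold Cfsg.Agent.Lib.Helper15.PSpJ.cOf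
      split_ifs with h
      · exact h
      · exact even_two_mul i
    have hmc : 0 < m % Cfsg.Agent.Lib.Helper15.PSpJ.cOf i := by
      rcases Nat.eq_zero_or_pos (m % Cfsg.Agent.Lib.Helper15.PSpJ.cOf i) with h | h
      · exfalso
        have hdvd := Nat.dvd_of_mod_eq_zero h
        obtain ⟨k, hk⟩ := hceven
        obtain ⟨a, ha⟩ := hm
        obtain ⟨b, hb⟩ := hdvd
        rw [hk] at hb
        have : m = 2 * (k * b) := by rw [hb]; ring
        omega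
      · exact h
    have hcle : m % Cfsg.Agent.Lib.Helper15.PSpJ.cOf i < (2 * d) % Cfsg.Agent.Lib.Helper15.PSpJ.cOf i →
        Cfsg.Agent.Lib.Helper15.PSpJ.cOf i ≤ m := by
      intro hlt
      by_contra hcon
      push Not at hcon
      rw [Nat.mod_eq_of_lt hcon] at hlt
      exact hgap hcon hlt hrΩ
    constructor
    · rintro (hA | ⟨hB1, hB2⟩)
      · rcases Nat.even_or_odd i with hev | hod
        · refine Or.inr (Or.inr ⟨hrp, h2r, hev, Or.inr ⟨?_, hmc, hA⟩⟩)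
          have := hcle hA
          unfold Cfsg.Agent.Lib.Helper15.PSpJ.cOf at this
          rw [if_pos hev] at this
          exact this
        · exact Or.inr (Or.inl ⟨hrp, h2r, hod, hcle hA, hmc, hA⟩)
      · have hev : Even i := by
          by_contra hne
          apply hB2
          unfold Cfsg.Agent.Lib.Helper6.OrtS.tau
          rw [if_neg hne]
        refine Or.inr (Or.inr ⟨hrp, h2r, hev, Or.inl ⟨hB1, ?_⟩⟩)
        have hci : Cfsg.Agent.Lib.Helper15.PSpJ.cOf i = i := by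
          unfold Cfsg.Agent.Lib.Helper15.PSpJ.cOf
          rw [if_pos hev]
        rw [hci] at hB2
        by_contra hne
        rw [Nat.not_odd_iff_even] at hne
        apply hB2
        unfold Cfsg.Agent.Lib.Helper6.OrtS.tau
        rw [if_pos hev, hne.neg_one_pow]
    · rintro (⟨h, -⟩ | ⟨-, -, hod, -, -, hA⟩ | ⟨-, -, hev, ⟨hB1, hB2⟩ | ⟨-, -, hA⟩⟩)
      · exact absurd h hr2
      · exact Or.inl hA
      · right
        refine ⟨hB1, ?_⟩
        have hci : Cfsg.Agent.Lib.Helper15.PSpJ.cOf i = i := by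
          unfold Cfsg.Agent.Lib.Helper15.PSpJ.cOf
          rw [if_pos hev]
        rw [hci]
        unfold Cfsg.Agent.Lib.Helper6.OrtS.tau
        rw [if_pos hev, hB2.neg_one_pow]
        norm_num
      · exact Or.inl hA

end Cfsg.Agent.S5989
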