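import Cfsg.Statements.S5990
import Mathlib
import Cfsg.Agent.Lib.Helper21.OrtM6
import Cfsg.Agent.Lib.Helper21.OrtM2
import Cfsg.Agent.Lib.Helper6.OrtU3

set_option autoImplicit false
open scoped MatrixGroups
open Cfsg

namespace Cfsg.Agent.S5990

/-- Elements of prime order of PΩ⁻_n(q) with no fixed elliptic `m`-space. Here `T = PΩ⁻_n(F)`, `n = 2d ≥ 8`, realised through `Ω⁻_n(q)`, the commutator subgroup of the isometry group of `Q = Σ_{i<d−1} xᵢyᵢ + z₁² + a z₁z₂ + b z₂²` with `z₁² + a z₁z₂ + b z₂²` anisotropic, over the field `F` with `q` elements; an element of `T` of prime order `r` is an element `x` of `Ω⁻_n(q)` with `x^r` scalar and `x` not scalar; a nondegenerate `m`-space (even `m`) is a subspace on which the polar form of `Q` is nondegenerate; it is hyperbolic if it contains an `m/2`-dimensional subspace on which `Q` vanishes, elliptic otherwise.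 Let `m` be even with `2 ≤ m ≤ n − 2` (no restriction `m < n/2`: fixing an elliptic `m`-space is the same as fixing its hyperbolic orthogonal complement) and let `r` be a prime dividing the number of elliptic `m`-spaces, with `r = 2` or `r ≠ p`; for `r ≠ p` let `i` be the multiplicative order of `q` modulo `r`, `c = i` for `i` even and `c = 2i` for `i` odd, and write `k = n mod c`, `ℓ = m mod i`, `ℓ' = m mod c`, `n' = ⌊n/i⌋`, `m' = ⌊m/i⌋`, `t = (r−1)/i`. Then every element of `T` of order `r` fixes some elliptic `m`-space if and only if one of: (i) `r = p = 2` and (`n ≡ 0 (mod 4)` or `m ≡ 2 (mod 4)`); (ii) `r = 2 ≠ p` and (`n ≡ 0 (mod 4)`, or `q ≢ 7 (mod 8)`, or `m ≡ 2 (mod 4)`); (iii) `r ≠ p` odd, `i` odd, and `k = 0` or (`c ≤ m` and `k ≥ ℓ' > 0`); (iv) `r ≠ p` odd, `i` even, and either `k = 0` and (`n/i` even, or `ℓ' = 0` and `m/i` odd), or `k > 0`,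 `i ≤ m` and (`k > ℓ' > 0`, or `ℓ' = 0` and `m/i` odd, or `k = ℓ'` and `(n + m − 2k)/i` even). (Odd `r = p` is not covered by this statement.) -/
theorem result {F : Type*} [Field F] [Fintype F] {p : ℕ} [Fact p.Prime] [CharP F p] {q : ℕ} (hq : Fintype.card F = q)
    (d m : ℕ) (hd : 4 ≤ d) (hm : 2 ≤ m) (hme : Even m) (hmn : m + 2 ≤ 2 * d) (a b : F) (hab : ∀ x y : F, x ^ 2 + a * x * y + b * y ^ 2 = 0 → x = 0 ∧ y = 0)
    (r : ℕ) [Fact r.Prime] (hr : r = 2 ∨ r ≠ p)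
    (hrΩ : r ∣ Nat.card {W : Submodule F ((Fin (d - 1) ⊕ Fin (d - 1)) ⊕ Fin 2 → F) // Module.finrank F ↥W = m ∧ Cfsg.Geo.IsNondegenerateOn (QuadraticMap.polar (Cfsg.quadFormMinus (d - 1) F a b)) W ∧ ¬ Cfsg.Geo.IsPlusTypeOn (Cfsg.quadFormMinus (d - 1) F a b) W})
    (i c : ℕ) (hi : i = orderOf (q : ZMod r)) (hc : c = if Even i then i else 2 * i) :
    (∀ x : GL ((Fin (d - 1) ⊕ Fin (d - 1)) ⊕ Fin 2) F, x ∈ Cfsg.Geo.omegaGL (Cfsg.quadFormMinus (d - 1) F a b) →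
      (∃ z : F, ((x ^ r : GL ((Fin (d - 1) ⊕ Fin (d - 1)) ⊕ Fin 2) F) : Matrix ((Fin (d - 1) ⊕ Fin (d - 1)) ⊕ Fin 2) ((Fin (d - 1) ⊕ Fin (d - 1)) ⊕ Fin 2) F) = z • (1 : Matrix ((Fin (d - 1) ⊕ Fin (d - 1)) ⊕ Fin 2) ((Fin (d - 1) ⊕ Fin (d - 1)) ⊕ Fin 2) F)) →
      (∀ z : F, (x : Matrix ((Fin (d - 1) ⊕ Fin (d - 1)) ⊕ Fin 2) ((Fin (d - 1) ⊕ Fin (d - 1)) ⊕ Fin 2) F) ≠ z • (1 : Matrix ((Fin (d - 1) ⊕ Fin (d - 1)) ⊕ Fin 2) ((Fin (d - 1) ⊕ Fin (d - 1)) ⊕ Fin 2) F)) →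
      ∃ W : Submodule F ((Fin (d - 1) ⊕ Fin (d - 1)) ⊕ Fin 2 → F), (Module.finrank F ↥W = m ∧ Cfsg.Geo.IsNondegenerateOn (QuadraticMap.polar (Cfsg.quadFormMinus (d - 1) F a b)) W ∧ ¬ Cfsg.Geo.IsPlusTypeOn (Cfsg.quadFormMinus (d - 1) F a b) W) ∧ W.map (Matrix.toLin' (x : Matrix ((Fin (d - 1) ⊕ Fin (d - 1)) ⊕ Fin 2) ((Fin (d - 1) ⊕ Fin (d - 1)) ⊕ Fin 2) F)) ≤ W) ↔
    ((r = 2 ∧ p = 2 ∧ (Even d ∨ m % 4 = 2)) ∨
     (r = 2 ∧ p ≠ 2 ∧ (Even d ∨ q % 8 ≠ 7 ∨ m % 4 = 2)) ∨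
     (r ≠ p ∧ 2 < r ∧ Odd i ∧ ((2 * d) % c = 0 ∨ (c ≤ m ∧ 0 < m % c ∧ m % c ≤ (2 * d) % c))) ∨
     (r ≠ p ∧ 2 < r ∧ Even i ∧
       (((2 * d) % c = 0 ∧ (Even ((2 * d) / i) ∨ (m % c = 0 ∧ Odd (m / i)))) ∨
        (0 < (2 * d) % c ∧ i ≤ m ∧ ((0 < m % c ∧ m % c < (2 * d) % c) ∨ (m % c = 0 ∧ Odd (m / i)) ∨
                                    (m % c = (2 * d) % c ∧ Even ((2 * d + m - 2 * ((2 * d) % c)) / i))))))) := by
  classical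
  subst hq
  have hc' : c = Cfsg.Agent.Lib.Helper15.PSpJ.cOf i := hc
  subst hc'
  have hmem : ∀ W : Submodule F ((Fin (d - 1) ⊕ Fin (d - 1)) ⊕ Fin 2 → F),
      (Module.finrank F ↥W = m ∧
        Cfsg.Geo.IsNondegenerateOn (QuadraticMap.polar (Cfsg.quadFormMinus (d - 1) F a b)) W ∧
        ¬ Cfsg.Geo.IsPlusTypeOn (Cfsg.quadFormMinus (d - 1) F a b) W) ↔
      W ∈ Cfsg.Agent.Lib.Helper6.OrtS.NSet (Cfsg.Agent.Lib.Helper15.QMinus F (d - 1) a b) m (-1) := by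
    intro W
    rw [← Cfsg.Agent.Lib.Helper21.OrtM.coe_QMinus]
    exact (Cfsg.Agent.Lib.Helper6.OrtS.mem_NSet_minus_iff
      (Cfsg.Agent.Lib.Helper15.QMinus F (d - 1) a b) m hme W).symm
  have hL : (∀ x : GL ((Fin (d - 1) ⊕ Fin (d - 1)) ⊕ Fin 2) F, x ∈ Cfsg.Geo.omegaGL (Cfsg.quadFormMinus (d - 1) F a b) →
      (∃ z : F, ((x ^ r : GL ((Fin (d - 1) ⊕ Fin (d - 1)) ⊕ Fin 2) F) : Matrix ((Fin (d - 1) ⊕ Fin (d - 1)) ⊕ Fin 2) ((Fin (d - 1) ⊕ Fin (d - 1)) ⊕ Fin 2) F) = z • (1 : Matrix ((Fin (d - 1) ⊕ Fin (d - 1)) ⊕ Fin 2) ((Fin (d - 1) ⊕ Fin (d - 1)) ⊕ Fin 2) F)) →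
      (∀ z : F, (x : Matrix ((Fin (d - 1) ⊕ Fin (d - 1)) ⊕ Fin 2) ((Fin (d - 1) ⊕ Fin (d - 1)) ⊕ Fin 2) F) ≠ z • (1 : Matrix ((Fin (d - 1) ⊕ Fin (d - 1)) ⊕ Fin 2) ((Fin (d - 1) ⊕ Fin (d - 1)) ⊕ Fin 2) F)) →
      ∃ W : Submodule F ((Fin (d - 1) ⊕ Fin (d - 1)) ⊕ Fin 2 → F), (Module.finrank F ↥W = m ∧ Cfsg.Geo.IsNondegenerateOn (QuadraticMap.polar (Cfsg.quadFormMinus (d - 1) F a b)) W ∧ ¬ Cfsg.Geo.IsPlusTypeOn (Cfsg.quadFormMinus (d - 1) F a b) W) ∧ W.map (Matrix.toLin' (x : Matrix ((Fin (d - 1) ⊕ Fin (d - 1)) ⊕ Fin 2) ((Fin (d - 1) ⊕ Fin (d - 1)) ⊕ Fin 2) F)) ≤ W) ↔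
      (∀ x : GL ((Fin (d - 1) ⊕ Fin (d - 1)) ⊕ Fin 2) F, x ∈ Cfsg.Geo.omegaGL (Cfsg.quadFormMinus (d - 1) F a b) →
      (∃ z : F, ((x ^ r : GL ((Fin (d - 1) ⊕ Fin (d - 1)) ⊕ Fin 2) F) : Matrix ((Fin (d - 1) ⊕ Fin (d - 1)) ⊕ Fin 2) ((Fin (d - 1) ⊕ Fin (d - 1)) ⊕ Fin 2) F) = z • (1 : Matrix ((Fin (d - 1) ⊕ Fin (d - 1)) ⊕ Fin 2) ((Fin (d - 1) ⊕ Fin (d - 1)) ⊕ Fin 2) F)) →
      (∀ z : F, (x : Matrix ((Fin (d - 1) ⊕ Fin (d - 1)) ⊕ Fin 2) ((Fin (d - 1) ⊕ Fin (d - 1)) ⊕ Fin 2) F) ≠ z • (1 : Matrix ((Fin (d - 1) ⊕ Fin (d - 1)) ⊕ Fin 2) ((Fin (d - 1) ⊕ Fin (d - 1)) ⊕ Fin 2) F)) →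
      ∃ W : Submodule F ((Fin (d - 1) ⊕ Fin (d - 1)) ⊕ Fin 2 → F),
        W ∈ Cfsg.Agent.Lib.Helper6.OrtS.NSet (Cfsg.Agent.Lib.Helper15.QMinus F (d - 1) a b) m (-1) ∧
        W.map (Matrix.toLin' (x : Matrix ((Fin (d - 1) ⊕ Fin (d - 1)) ⊕ Fin 2) ((Fin (d - 1) ⊕ Fin (d - 1)) ⊕ Fin 2) F)) ≤ W) := by
    constructor
    · intro h x hx hz hns
      obtain ⟨W, hW, hWx⟩ := h x hx hz hns
      exact ⟨W, (hmem W).mp hW, hWx⟩
    · intro h x hx hz hns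
      obtain ⟨W, hW, hWx⟩ := h x hx hz hns
      exact ⟨W, (hmem W).mpr hW, hWx⟩
  rw [hL]
  have hN : Nat.card {W : Submodule F ((Fin (d - 1) ⊕ Fin (d - 1)) ⊕ Fin 2 → F) // Module.finrank F ↥W = m ∧ Cfsg.Geo.IsNondegenerateOn (QuadraticMap.polar (Cfsg.quadFormMinus (d - 1) F a b)) W ∧ ¬ Cfsg.Geo.IsPlusTypeOn (Cfsg.quadFormMinus (d - 1) F a b) W} =
      Nat.card ↥(Cfsg.Agent.Lib.Helper6.OrtS.NSet (Cfsg.Agent.Lib.Helper15.QMinus F (d - 1) a b) m (-1)) :=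
    Nat.card_congr (Equiv.subtypeEquivRight hmem)
  rw [hN] at hrΩ
  have hr2le := (Fact.out : r.Prime).two_le
  have hcard : Fintype.card ((Fin (d - 1) ⊕ Fin (d - 1)) ⊕ Fin 2) = 2 * d := by
    simp only [Fintype.card_sum, Fintype.card_fin]
    omega
  by_cases hr2 : r = 2
  · subst hr2
    by_cases hp2 : p = 2
    · -- `r = p = 2`
      subst hp2
      obtain ⟨k, hk⟩ := hme
      have hk2 : m = 2 * k := by omega
      subst hk2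
      have h := Cfsg.Agent.Lib.Helper6.OrtS.char_two_iff (Cfsg.Agent.Lib.Helper15.QMinus F (d - 1) a b)
        (Cfsg.Agent.Lib.Helper21.OrtM.nondegenerate_QMinus (d - 1) a b hab) d hcard (by omega) (-1)
        (Or.inr rfl) (Cfsg.Agent.Lib.Helper21.OrtM.sgnOn_top_QMinus (d - 1) a b hab) k (by omega)
        (by omega) (-1) (Or.inr rfl)
      rw [Cfsg.Agent.Lib.Helper21.OrtM.coe_QMinus] at h
      rw [h, Cfsg.Agent.Lib.Helper6.OrtS.cond_mm d k (by omega) (by omega)]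
      have hodd : Odd k ↔ (2 * k) % 4 = 2 := by
        rw [Nat.odd_iff]
        omega
      rw [hodd]
      constructor
      · intro h'
        exact Or.inl ⟨rfl, rfl, h'⟩
      · rintro (⟨-, -, h'⟩ | ⟨-, h', -⟩ | ⟨h', -⟩ | ⟨h', -⟩)
        · exact h'
        · exact absurd rfl h'
        · exact absurd rfl h'
        · exact absurd rfl h'
    · -- `r = 2`, odd characteristic
      have h2 : (2 : F) ≠ 0 := by
        intro h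
        have h1 : ((2 : ℕ) : F) = 0 := by rw [Nat.cast_ofNat]; exact h
        rw [CharP.cast_eq_zero_iff F p 2] at h1
        exact hp2 ((Nat.prime_dvd_prime_iff_eq (Fact.out : p.Prime) Nat.prime_two).mp h1)
      have hchar : ringChar F ≠ 2 := by
        intro h
        apply h2
        have := ringChar.Nat.cast_ringChar (R := F)
        rw [h] at this
        exact_mod_cast this
      have hqodd : Fintype.card F % 2 = 1 := FiniteField.odd_card_of_char_ne_two hchar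
      have h := Cfsg.Agent.Lib.Helper21.OrtT.two_iff (Cfsg.Agent.Lib.Helper15.QMinus F (d - 1) a b) h2
        (Cfsg.Agent.Lib.Helper21.OrtM.nondegenerate_QMinus (d - 1) a b hab) d hcard (by omega) (-1)
        (Cfsg.Agent.Lib.Helper21.OrtM.sgnOn_top_QMinus (d - 1) a b hab) m hme hm hmn (-1) (Or.inr rfl)
      rw [Cfsg.Agent.Lib.Helper21.OrtM.coe_QMinus] at h
      rw [h, Cfsg.Agent.Lib.Helper21.OrtM.arith_two_mm hqodd d m hme]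
      constructor
      · intro h'
        exact Or.inr (Or.inl ⟨rfl, hp2, h'⟩)
      · rintro (⟨-, h', -⟩ | ⟨-, -, h'⟩ | ⟨-, h', -⟩ | ⟨-, h', -⟩)
        · exact absurd h' hp2
        · exact h'
        · omega
        · omega
  · -- odd `r ≠ p`
    have hrp : r ≠ p := by
      rcases hr with h | h
      · exact absurd h hr2
      · exact h
    have h2r : 2 < r := by omega
    obtain ⟨h1, h2⟩ := Cfsg.Agent.Lib.Helper21.OrtM.odd_minus (F := F) p r hrp hr2 d hd a b hab m hme (-1)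
      (Or.inr rfl)
    rw [h1]
    subst hi
    have hipos := Cfsg.Agent.Lib.Helper15.PSub.orderOf_pos_of_ne (F := F) p r hrp
    have hnE : ¬ Cfsg.Agent.Lib.Helper6.OrtS.Extra (2 * d) (-1) m (-1)
        (orderOf ((Fintype.card F : ℕ) : ZMod r)) := fun hE => h2 hE hrΩ
    have harith := Cfsg.Agent.Lib.Helper21.OrtM.arith_mm d m _ hipos hd hm hmn
    constructor
    · intro hcrit
      rcases harith.mp ⟨hcrit, hnE⟩ with ⟨hodd, h⟩ | ⟨hev, h⟩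
      · exact Or.inr (Or.inr (Or.inl ⟨hrp, h2r, hodd, h⟩))
      · exact Or.inr (Or.inr (Or.inr ⟨hrp, h2r, hev, h⟩))
    · rintro (⟨h, -⟩ | ⟨h, -⟩ | ⟨-, -, hodd, h⟩ | ⟨-, -, hev, h⟩)
      · exact absurd h hr2
      · exact absurd h hr2
      · exact (harith.mpr (Or.inl ⟨hodd, h⟩)).1
      · exact (harith.mpr (Or.inr ⟨hev, h⟩)).1

end Cfsg.Agent.S5990
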