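import Cfsg.Statements.S5991
import Mathlib
import Cfsg.Agent.Lib.Helper10.OrtO6
import Cfsg.Agent.Lib.Helper21.OrtM2
import Cfsg.Agent.Lib.Helper1.OMD9

set_option autoImplicit false
open scoped MatrixGroups
open Cfsg

namespace Cfsg.Agent.S5991

/-- Elements of prime order of PΩ⁻_n(q), q odd, with no fixed nondegenerate `m`-space of odd dimension. Here `T = PΩ⁻_n(F)`, `n = 2d ≥ 8`, realised through `Ω⁻_n(q)`, the commutator subgroup of the isometry group of `Q = Σ_{i<d−1} xᵢyᵢ + z₁² + a z₁z₂ + b z₂²` with `z₁² + a z₁z₂ + b z₂²` anisotropic, over the field `F` with `q` elements; an element of `T` of prime order `r` is an element `x` of `Ω⁻_n(q)` with `x^r` scalar and `x` not scalar; `q` and `m` are odd, `1 ≤ m < n/2`. The nondegenerate `m`-spaces fall into two isometry classes, each an orbit of `T`, with equivalent actions; fix one such space `W₀` and let Ω be the set of nondegenerate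 `m`-spaces isometric to `W₀`. Let `r` be a prime dividing the size of Ω; for `r ≠ p` let `i` be the multiplicative order of `q` modulo `r`, `c = i` for `i` even and `c = 2i` for `i` odd, and write `k = n mod c`, `ℓ = m mod i`, `ℓ' = m mod c`, `n' = ⌊n/i⌋`, `m' = ⌊m/i⌋`, `t = (r−1)/i`. Then every element of `T` of order `r` fixes a member of Ω if and only if one of: (i) `r = 2` and (`n ≡ 0 (mod 4)` or `q ≢ 7 (mod 8)`); (ii) `r ≠ p` odd, `i` odd, and `k = 0` or (`c ≤ m` and `k > ℓ' > 0`); (iii) `r ≠ p` odd, `i` even, and either `k = 0` and `n/i` even, or `k > 0`, `i ≤ m` and `k > ℓ' > 0`. (For `r = p` there is always an element of order `p` fixing no member of Ω.) -/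
theorem result {F : Type*} [Field F] [Fintype F] {p : ℕ} [Fact p.Prime] [CharP F p] {q : ℕ} (hq : Fintype.card F = q)
    (hodd : Odd q) (d m : ℕ) (hd : 4 ≤ d) (hm : Odd m) (hmd : m < d) (a b : F) (hab : ∀ x y : F, x ^ 2 + a * x * y + b * y ^ 2 = 0 → x = 0 ∧ y = 0)
    (W₀ : Submodule F ((Fin (d - 1) ⊕ Fin (d - 1)) ⊕ Fin 2 → F)) (hW₀ : Module.finrank F ↥W₀ = m ∧ Cfsg.Geo.IsNondegenerateOn (QuadraticMap.polar (Cfsg.quadFormMinus (d - 1) F a b)) W₀)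
    (r : ℕ) [Fact r.Prime]
    (hrΩ : r ∣ Nat.card {W : Submodule F ((Fin (d - 1) ⊕ Fin (d - 1)) ⊕ Fin 2 → F) // Module.finrank F ↥W = m ∧ Cfsg.Geo.IsNondegenerateOn (QuadraticMap.polar (Cfsg.quadFormMinus (d - 1) F a b)) W ∧ Cfsg.Geo.AreIsometricFor (Cfsg.quadFormMinus (d - 1) F a b) W W₀})
    (i c : ℕ) (hi : i = orderOf (q : ZMod r)) (hc : c = if Even i then i else 2 * i) :
    (∀ x : GL ((Fin (d - 1) ⊕ Fin (d - 1)) ⊕ Fin 2) F, x ∈ Cfsg.Geo.omegaGL (Cfsg.quadFormMinus (d - 1) F a b) →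
      (∃ z : F, ((x ^ r : GL ((Fin (d - 1) ⊕ Fin (d - 1)) ⊕ Fin 2) F) : Matrix ((Fin (d - 1) ⊕ Fin (d - 1)) ⊕ Fin 2) ((Fin (d - 1) ⊕ Fin (d - 1)) ⊕ Fin 2) F) = z • (1 : Matrix ((Fin (d - 1) ⊕ Fin (d - 1)) ⊕ Fin 2) ((Fin (d - 1) ⊕ Fin (d - 1)) ⊕ Fin 2) F)) →
      (∀ z : F, (x : Matrix ((Fin (d - 1) ⊕ Fin (d - 1)) ⊕ Fin 2) ((Fin (d - 1) ⊕ Fin (d - 1)) ⊕ Fin 2) F) ≠ z • (1 : Matrix ((Fin (d - 1) ⊕ Fin (d - 1)) ⊕ Fin 2) ((Fin (d - 1) ⊕ Fin (d - 1)) ⊕ Fin 2) F)) →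
      ∃ W : Submodule F ((Fin (d - 1) ⊕ Fin (d - 1)) ⊕ Fin 2 → F), (Module.finrank F ↥W = m ∧ Cfsg.Geo.IsNondegenerateOn (QuadraticMap.polar (Cfsg.quadFormMinus (d - 1) F a b)) W ∧ Cfsg.Geo.AreIsometricFor (Cfsg.quadFormMinus (d - 1) F a b) W W₀) ∧ W.map (Matrix.toLin' (x : Matrix ((Fin (d - 1) ⊕ Fin (d - 1)) ⊕ Fin 2) ((Fin (d - 1) ⊕ Fin (d - 1)) ⊕ Fin 2) F)) ≤ W) ↔
    ((r = 2 ∧ (Even d ∨ q % 8 ≠ 7)) ∨
     (r ≠ p ∧ 2 < r ∧ Odd i ∧ ((2 * d) % c = 0 ∨ (c ≤ m ∧ 0 < m % c ∧ m % c < (2 * d) % c))) ∨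
     (r ≠ p ∧ 2 < r ∧ Even i ∧ (((2 * d) % c = 0 ∧ Even ((2 * d) / i)) ∨ (0 < (2 * d) % c ∧ i ≤ m ∧ 0 < m % c ∧ m % c < (2 * d) % c)))) := by
  classical
  subst hq
  have hc' : c = Cfsg.Agent.Lib.Helper15.PSpJ.cOf i := hc
  subst hc'
  have h2 : (2 : F) ≠ 0 := Cfsg.Agent.Lib.Helper20.OU.two_ne_zero_of_odd_card hodd
  have hcoe := Cfsg.Agent.Lib.Helper21.OrtM.coe_QMinus (F := F) (d - 1) a b
  have hQ := Cfsg.Agent.Lib.Helper21.OrtM.nondegenerate_QMinus (F := F) (d - 1) a b hab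
  have hsV := Cfsg.Agent.Lib.Helper21.OrtM.sgnOn_top_QMinus (F := F) (d - 1) a b hab
  have hcard : Fintype.card ((Fin (d - 1) ⊕ Fin (d - 1)) ⊕ Fin 2) = 2 * d := by
    simp only [Fintype.card_sum, Fintype.card_fin]
    omega
  have hW₀n : Cfsg.Agent.Lib.Helper15.PSpI.NondegOn
      (QuadraticMap.polarBilin (Cfsg.Agent.Lib.Helper15.QMinus F (d - 1) a b)) W₀ := by
    apply (Cfsg.Agent.Lib.Helper6.OrtS.isNondegenerateOn_iff
      (Cfsg.Agent.Lib.Helper15.QMinus F (d - 1) a b) W₀).mp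
    rw [hcoe]
    exact hW₀.2
  have hmem : ∀ W : Submodule F ((Fin (d - 1) ⊕ Fin (d - 1)) ⊕ Fin 2 → F),
      (Module.finrank F ↥W = m ∧
        Cfsg.Geo.IsNondegenerateOn (QuadraticMap.polar (Cfsg.quadFormMinus (d - 1) F a b)) W ∧
        Cfsg.Geo.AreIsometricFor (Cfsg.quadFormMinus (d - 1) F a b) W W₀) ↔
      W ∈ Cfsg.Agent.Lib.Helper10.OrtO.OSet (Cfsg.Agent.Lib.Helper15.QMinus F (d - 1) a b) m W₀ := by
    intro W
    constructor
    · rintro ⟨h1, h2', ⟨e, he⟩⟩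
      refine ⟨h1, ?_, ⟨e, fun w => ?_⟩⟩
      · apply (Cfsg.Agent.Lib.Helper6.OrtS.isNondegenerateOn_iff
          (Cfsg.Agent.Lib.Helper15.QMinus F (d - 1) a b) W).mp
        rw [hcoe]
        exact h2'
      · have := he w
        rw [← hcoe] at this
        exact this
    · rintro ⟨h1, hWn, ⟨e, he⟩⟩
      refine ⟨h1, ?_, ⟨e, fun w => ?_⟩⟩
      · rw [← hcoe]
        exact (Cfsg.Agent.Lib.Helper6.OrtS.isNondegenerateOn_iff
          (Cfsg.Agent.Lib.Helper15.QMinus F (d - 1) a b) W).mpr hWn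
      · rw [← hcoe]
        exact he w
  have hL : (∀ x : GL ((Fin (d - 1) ⊕ Fin (d - 1)) ⊕ Fin 2) F, x ∈ Cfsg.Geo.omegaGL (Cfsg.quadFormMinus (d - 1) F a b) →
      (∃ z : F, ((x ^ r : GL ((Fin (d - 1) ⊕ Fin (d - 1)) ⊕ Fin 2) F) : Matrix ((Fin (d - 1) ⊕ Fin (d - 1)) ⊕ Fin 2) ((Fin (d - 1) ⊕ Fin (d - 1)) ⊕ Fin 2) F) = z • (1 : Matrix ((Fin (d - 1) ⊕ Fin (d - 1)) ⊕ Fin 2) ((Fin (d - 1) ⊕ Fin (d - 1)) ⊕ Fin 2) F)) →
      (∀ z : F, (x : Matrix ((Fin (d - 1) ⊕ Fin (d - 1)) ⊕ Fin 2) ((Fin (d - 1) ⊕ Fin (d - 1)) ⊕ Fin 2) F) ≠ z • (1 : Matrix ((Fin (d - 1) ⊕ Fin (d - 1)) ⊕ Fin 2) ((Fin (d - 1) ⊕ Fin (d - 1)) ⊕ Fin 2) F)) →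
      ∃ W : Submodule F ((Fin (d - 1) ⊕ Fin (d - 1)) ⊕ Fin 2 → F), (Module.finrank F ↥W = m ∧ Cfsg.Geo.IsNondegenerateOn (QuadraticMap.polar (Cfsg.quadFormMinus (d - 1) F a b)) W ∧ Cfsg.Geo.AreIsometricFor (Cfsg.quadFormMinus (d - 1) F a b) W W₀) ∧ W.map (Matrix.toLin' (x : Matrix ((Fin (d - 1) ⊕ Fin (d - 1)) ⊕ Fin 2) ((Fin (d - 1) ⊕ Fin (d - 1)) ⊕ Fin 2) F)) ≤ W) ↔
      (∀ x : GL ((Fin (d - 1) ⊕ Fin (d - 1)) ⊕ Fin 2) F, x ∈ Cfsg.Geo.omegaGL (Cfsg.quadFormMinus (d - 1) F a b) →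
      (∃ z : F, ((x ^ r : GL ((Fin (d - 1) ⊕ Fin (d - 1)) ⊕ Fin 2) F) : Matrix ((Fin (d - 1) ⊕ Fin (d - 1)) ⊕ Fin 2) ((Fin (d - 1) ⊕ Fin (d - 1)) ⊕ Fin 2) F) = z • (1 : Matrix ((Fin (d - 1) ⊕ Fin (d - 1)) ⊕ Fin 2) ((Fin (d - 1) ⊕ Fin (d - 1)) ⊕ Fin 2) F)) →
      (∀ z : F, (x : Matrix ((Fin (d - 1) ⊕ Fin (d - 1)) ⊕ Fin 2) ((Fin (d - 1) ⊕ Fin (d - 1)) ⊕ Fin 2) F) ≠ z • (1 : Matrix ((Fin (d - 1) ⊕ Fin (d - 1)) ⊕ Fin 2) ((Fin (d - 1) ⊕ Fin (d - 1)) ⊕ Fin 2) F)) →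
      ∃ W : Submodule F ((Fin (d - 1) ⊕ Fin (d - 1)) ⊕ Fin 2 → F),
        W ∈ Cfsg.Agent.Lib.Helper10.OrtO.OSet (Cfsg.Agent.Lib.Helper15.QMinus F (d - 1) a b) m W₀ ∧
        W.map (Matrix.toLin' (x : Matrix ((Fin (d - 1) ⊕ Fin (d - 1)) ⊕ Fin 2) ((Fin (d - 1) ⊕ Fin (d - 1)) ⊕ Fin 2) F)) ≤ W) := by
    constructor
    · intro h x hx hz hns
      obtain ⟨W, hW, hWx⟩ := h x hx hz hns
      exact ⟨W, (hmem W).mp hW, hWx⟩
    · intro h x hx hz hns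
      obtain ⟨W, hW, hWx⟩ := h x hx hz hns
      exact ⟨W, (hmem W).mpr hW, hWx⟩
  rw [hL]
  have hN : Nat.card {W : Submodule F ((Fin (d - 1) ⊕ Fin (d - 1)) ⊕ Fin 2 → F) // Module.finrank F ↥W = m ∧ Cfsg.Geo.IsNondegenerateOn (QuadraticMap.polar (Cfsg.quadFormMinus (d - 1) F a b)) W ∧ Cfsg.Geo.AreIsometricFor (Cfsg.quadFormMinus (d - 1) F a b) W W₀} =
      Nat.card ↥(Cfsg.Agent.Lib.Helper10.OrtO.OSet (Cfsg.Agent.Lib.Helper15.QMinus F (d - 1) a b) m W₀) :=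
    Nat.card_congr (Equiv.subtypeEquivRight hmem)
  rw [hN] at hrΩ
  have hr2le := (Fact.out : r.Prime).two_le
  have hp2 : p ≠ 2 := by
    rintro rfl
    apply h2
    have h1 : ((2 : ℕ) : F) = 0 := by rw [CharP.cast_eq_zero_iff F 2 2]
    rw [Nat.cast_ofNat] at h1
    exact h1
  by_cases hrp : r = p
  · -- `r = p`: a unipotent derangement
    subst hrp
    obtain ⟨x, hxΩ, hxp, hns, hbad⟩ :=
      Cfsg.Agent.Lib.Helper1.OMD.exists_derangement_p_minus (F := F) h2 r d hd a b hab m hm hmd W₀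
        hW₀.1 hW₀n
    constructor
    · intro h
      exfalso
      obtain ⟨W, hW, hWx⟩ := h x hxΩ ⟨1, by rw [hxp, one_smul]; rfl⟩ hns
      exact hbad W hW hWx
    · rintro (⟨h1, -⟩ | ⟨h1, -⟩ | ⟨h1, -⟩)
      · exact absurd h1 hp2
      · exact absurd rfl h1
      · exact absurd rfl h1
  by_cases hr2 : r = 2
  · -- `r = 2`, odd characteristic
    subst hr2
    have h := Cfsg.Agent.Lib.Helper10.OrtO.two_iffO (Cfsg.Agent.Lib.Helper15.QMinus F (d - 1) a b) h2 hQ d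
      hcard (by omega) (-1) hsV m hm hmd W₀ hW₀.1 hW₀n
    rw [hcoe] at h
    rw [h]
    have hqodd : Fintype.card F % 2 = 1 := Nat.odd_iff.mp hodd
    have hsq2 : IsSquare (2 : F) ↔ (Fintype.card F % 8 = 1 ∨ Fintype.card F % 8 = 7) := by
      rw [FiniteField.isSquare_two_iff]
      omega
    have hdl : Cfsg.Agent.Lib.Helper21.OrtT.dl F = if Fintype.card F % 4 = 3 then (-1 : ℤ) else 1 := by
      unfold Cfsg.Agent.Lib.Helper21.OrtT.dl
      rw [FiniteField.isSquare_neg_one_iff]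
      by_cases h4 : Fintype.card F % 4 = 3
      · rw [if_neg (by simpa using h4), if_pos h4]
      · rw [if_pos h4, if_neg h4]
    rw [hdl, hsq2]
    constructor
    · intro hcond
      left
      refine ⟨rfl, ?_⟩
      by_contra hcon
      push Not at hcon
      obtain ⟨hdo, h8⟩ := hcon
      rw [Nat.not_even_iff_odd] at hdo
      apply hcond
      have h43 : Fintype.card F % 4 = 3 := by omega
      rw [if_pos h43, hdo.neg_one_pow]
      exact ⟨rfl, Or.inr (Or.inr h8)⟩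
    · rintro (⟨-, hcond⟩ | ⟨-, h, -⟩ | ⟨-, h, -⟩)
      · rintro ⟨h1, h3⟩
        by_cases h43 : Fintype.card F % 4 = 3
        · rw [if_pos h43] at h1
          rcases Nat.even_or_odd d with hde | hdo
          · rw [hde.neg_one_pow] at h1
            omega
          · rcases hcond with hde | h8
            · exact (Nat.not_even_iff_odd.mpr hdo) hde
            · rcases h3 with h3 | h3 | h3
              · exact (Nat.not_even_iff_odd.mpr hdo) h3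
              · omega
              · exact h8 h3
        · rw [if_neg h43, one_pow] at h1
          omega
      · omega
      · omega
  · -- odd `r ≠ p`
    have h2r : 2 < r := by omega
    subst hi
    have hipos := Cfsg.Agent.Lib.Helper15.PSub.orderOf_pos_of_ne (F := F) p r hrp
    have hExist : ∀ s, 1 ≤ s → Cfsg.Agent.Lib.Helper15.PSpJ.cOf (orderOf ((Fintype.card F : ℕ) : ZMod r)) * s ≤ 2 * d →
        (Cfsg.Agent.Lib.Helper15.PSpJ.cOf (orderOf ((Fintype.card F : ℕ) : ZMod r)) * s = 2 * d →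
          Cfsg.Agent.Lib.Helper6.OrtS.tau (orderOf ((Fintype.card F : ℕ) : ZMod r)) s = -1) →
        ∃ M : Matrix ((Fin (d - 1) ⊕ Fin (d - 1)) ⊕ Fin 2) ((Fin (d - 1) ⊕ Fin (d - 1)) ⊕ Fin 2) F,
          (∀ v, Cfsg.Agent.Lib.Helper15.QMinus F (d - 1) a b (M.mulVec v) =
            Cfsg.Agent.Lib.Helper15.QMinus F (d - 1) a b v) ∧ M ^ r = 1 ∧
          Module.finrank F (Module.End.eigenspace (Matrix.toLin' M) 1) =
            2 * d - Cfsg.Agent.Lib.Helper15.PSpJ.cOf (orderOf ((Fintype.card F : ℕ) : ZMod r)) * s := by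
      intro s hs1 hsd hfull
      obtain ⟨M, hM1, hM2, hM3⟩ := Cfsg.Agent.Lib.Helper21.OrtM.exists_elt_minus (F := F) p r hr2 hrp d s a b hab
        hs1 hsd hfull
      exact ⟨M, fun v => by
        rw [Cfsg.Agent.Lib.Helper15.QMinus_apply, Cfsg.Agent.Lib.Helper15.QMinus_apply]; exact hM1 v,
        hM2, hM3⟩
    have h := Cfsg.Agent.Lib.Helper10.OrtO.odd_mainO (Cfsg.Agent.Lib.Helper15.QMinus F (d - 1) a b) h2 p r hrp hr2
      hQ (2 * d) hcard (even_two_mul d) (by omega) (Or.inr (by omega)) (-1) hsV hExist m hm (by omega)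
      W₀ hW₀.1 hW₀n hrΩ
    rw [hcoe] at h
    rw [h]
    obtain ⟨i, hi⟩ : ∃ i, i = orderOf ((Fintype.card F : ℕ) : ZMod r) := ⟨_, rfl⟩
    rw [← hi] at hipos ⊢
    have hcpos := Cfsg.Agent.Lib.Helper15.PSpJ.cOf_pos hipos
    have hceven : Even (Cfsg.Agent.Lib.Helper15.PSpJ.cOf i) := by
      unfold Cfsg.Agent.Lib.Helper15.PSpJ.cOf
      split_ifs with h
      · exact h
      · exact even_two_mul i
    have hmc : 0 < m % Cfsg.Agent.Lib.Helper15.PSpJ.cOf i := by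
      rcases Nat.eq_zero_or_pos (m % Cfsg.Agent.Lib.Helper15.PSpJ.cOf i) with h | h
      · exfalso
        have hdvd := Nat.dvd_of_mod_eq_zero h
        obtain ⟨k, hk⟩ := hceven
        obtain ⟨a', ha'⟩ := hm
        obtain ⟨b', hb'⟩ := hdvd
        rw [hk] at hb'
        have : m = 2 * (k * b') := by rw [hb']; ring
        omega
      · exact h
    constructor
    · rintro (⟨hA1, hA2⟩ | ⟨hB1, hB2⟩)
      · rcases Nat.even_or_odd i with hev | hod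
        · refine Or.inr (Or.inr ⟨hrp, h2r, hev, Or.inl ⟨hA1, ?_⟩⟩)
          have hci : Cfsg.Agent.Lib.Helper15.PSpJ.cOf i = i := by
            unfold Cfsg.Agent.Lib.Helper15.PSpJ.cOf
            rw [if_pos hev]
          rw [hci] at hA2
          by_contra hne
          rw [Nat.not_even_iff_odd] at hne
          apply hA2
          unfold Cfsg.Agent.Lib.Helper6.OrtS.tau
          rw [if_pos hev, hne.neg_one_pow]
        · exact Or.inr (Or.inl ⟨hrp, h2r, hod, Or.inl hA1⟩)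
      · rcases Nat.even_or_odd i with hev | hod
        · refine Or.inr (Or.inr ⟨hrp, h2r, hev, Or.inr ⟨by omega, ?_, hmc, hB2⟩⟩)
          unfold Cfsg.Agent.Lib.Helper15.PSpJ.cOf at hB1
          rw [if_pos hev] at hB1
          exact hB1
        · exact Or.inr (Or.inl ⟨hrp, h2r, hod, Or.inr ⟨hB1, hmc, hB2⟩⟩)
    · rintro (⟨h, -⟩ | ⟨-, -, hod, hA | ⟨hB1, -, hB2⟩⟩ | ⟨-, -, hev, ⟨hA1, hA2⟩ | ⟨-, hB1, -, hB2⟩⟩)
      · exact absurd h hr2
      · left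
        refine ⟨hA, ?_⟩
        unfold Cfsg.Agent.Lib.Helper6.OrtS.tau
        rw [if_neg (Nat.not_even_iff_odd.mpr hod)]
        norm_num
      · exact Or.inr ⟨hB1, hB2⟩
      · left
        refine ⟨hA1, ?_⟩
        have hci : Cfsg.Agent.Lib.Helper15.PSpJ.cOf i = i := by
          unfold Cfsg.Agent.Lib.Helper15.PSpJ.cOf
          rw [if_pos hev]
        rw [hci]
        unfold Cfsg.Agent.Lib.Helper6.OrtS.tau
        rw [if_pos hev, hA2.neg_one_pow]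
        norm_num
      · right
        refine ⟨?_, hB2⟩
        unfold Cfsg.Agent.Lib.Helper15.PSpJ.cOf
        rw [if_pos hev]
        exact hB1

end Cfsg.Agent.S5991
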