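import Cfsg.Statements.S5993
import Cfsg.Agent.Lib.Helper3.OrthUni6

set_option autoImplicit false
open scoped MatrixGroups
open Cfsg

namespace Cfsg.Agent.S5993

/-- Elements of prime order of Ω_n(q), nq odd, with no fixed elliptic `m`-space. Here `T = Ω_n(F)`, `n = 2d+1 ≥ 7`, `q` odd, realised as the commutator subgroup of the isometry group of `Q = x₀² + Σ xᵢyᵢ` over the field `F` with `q` elements (trivial centre, so its elements of prime order `r` are used directly); a nondegenerate `m`-space (even `m`) is a subspace on which the polar form of `Q` is nondegenerate; it is hyperbolic if it contains an `m/2`-dimensional subspace on which `Q` vanishes, elliptic otherwise. Let `m` be even with `2 ≤ m ≤ n − 1` (no restriction `m < n/2`) and let `r` be a prime dividing the number of elliptic `m`-spaces; for `r ≠ p` let `i` be the multiplicative order of `q` modulo `r`, `c = i` for `i` even and `c = 2i` for `i` odd,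 and write `k = n mod c`, `ℓ' = m mod c`. Then every element of `T` of order `r` fixes some elliptic `m`-space if and only if `r = 2`, or `r ≠ p` is odd and one of: (i) `i` odd, `c ≤ m` and `k > ℓ' > 0`; (ii) `i` even, `i ≤ m`, `k > ℓ'`, and `m/i` odd whenever `ℓ' = 0`. (For `r = p` there is always an element of order `p` fixing no elliptic `m`-space.) -/
theorem result {F : Type*} [Field F] [Fintype F] {p : ℕ} [Fact p.Prime] [CharP F p] {q : ℕ} (hq : Fintype.card F = q) (hqodd : Odd q)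
    (d m : ℕ) (hd : 3 ≤ d) (hm : 2 ≤ m) (hme : Even m) (hmn : m ≤ 2 * d)
    (r : ℕ) [Fact r.Prime]
    (hrΩ : r ∣ Nat.card {W : Submodule F (Unit ⊕ (Fin d ⊕ Fin d) → F) // Module.finrank F ↥W = m ∧ Cfsg.Geo.IsNondegenerateOn (QuadraticMap.polar (Cfsg.quadFormOdd d F)) W ∧ ¬ Cfsg.Geo.IsPlusTypeOn (Cfsg.quadFormOdd d F) W})
    (i c : ℕ) (hi : i = orderOf (q : ZMod r)) (hc : c = if Even i then i else 2 * i) :
    (∀ x : GL (Unit ⊕ (Fin d ⊕ Fin d)) F, x ∈ Cfsg.Geo.omegaGL (Cfsg.quadFormOdd d F) → orderOf x = r →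
      ∃ W : Submodule F (Unit ⊕ (Fin d ⊕ Fin d) → F), (Module.finrank F ↥W = m ∧ Cfsg.Geo.IsNondegenerateOn (QuadraticMap.polar (Cfsg.quadFormOdd d F)) W ∧ ¬ Cfsg.Geo.IsPlusTypeOn (Cfsg.quadFormOdd d F) W) ∧ W.map (Matrix.toLin' (x : Matrix (Unit ⊕ (Fin d ⊕ Fin d)) (Unit ⊕ (Fin d ⊕ Fin d)) F)) ≤ W) ↔
    (r = 2 ∨
     (r ≠ p ∧ 2 < r ∧ Odd i ∧ c ≤ m ∧ 0 < m % c ∧ m % c < (2 * d + 1) % c) ∨
     (r ≠ p ∧ 2 < r ∧ Even i ∧ i ≤ m ∧ m % c < (2 * d + 1) % c ∧ (0 < m % c ∨ Odd (m / i)))) := by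
  classical
  have hQe : ⇑(Cfsg.Agent.Lib.Helper6.QOdd F d) = Cfsg.quadFormOdd d F :=
    funext (Cfsg.Agent.Lib.Helper6.QOdd_apply F d)
  rw [← hQe] at hrΩ ⊢
  have hp2 : p ≠ 2 := by
    rintro rfl
    obtain ⟨f, _, hf⟩ := FiniteField.card F 2
    rw [hq] at hf
    rw [hf] at hqodd
    exact (Nat.not_even_iff_odd.mpr hqodd) (Nat.even_pow.mpr ⟨even_two, f.ne_zero⟩)
  have h2 : (2 : F) ≠ 0 := by
    intro h
    have h' : ((2 : ℕ) : F) = 0 := by exact_mod_cast h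
    rw [CharP.cast_eq_zero_iff F p 2] at h'
    exact hp2 ((Nat.prime_dvd_prime_iff_eq Fact.out Nat.prime_two).mp h')
  have hNS : ∀ W : Submodule F (Unit ⊕ (Fin d ⊕ Fin d) → F),
      W ∈ Cfsg.Agent.Lib.Helper6.OrtS.NSet (Cfsg.Agent.Lib.Helper6.QOdd F d) m (-1) ↔
      (Module.finrank F ↥W = m ∧
        Cfsg.Geo.IsNondegenerateOn (QuadraticMap.polar ⇑(Cfsg.Agent.Lib.Helper6.QOdd F d)) W ∧
        ¬ Cfsg.Geo.IsPlusTypeOn ⇑(Cfsg.Agent.Lib.Helper6.QOdd F d) W) :=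
    fun W => Cfsg.Agent.Lib.Helper6.OrtS.mem_NSet_minus_iff (Cfsg.Agent.Lib.Helper6.QOdd F d) m hme W
  by_cases hr2 : r = 2
  · refine iff_of_true ?_ (Or.inl hr2)
    intro x hxΩ hord
    obtain ⟨g, -, hgx⟩ := Subgroup.mem_map.mp hxΩ
    have hxI : ∀ v, Cfsg.Agent.Lib.Helper6.QOdd F d
        ((x : Matrix (Unit ⊕ (Fin d ⊕ Fin d)) (Unit ⊕ (Fin d ⊕ Fin d)) F).mulVec v) =
        Cfsg.Agent.Lib.Helper6.QOdd F d v := by
      rw [← hgx]
      exact (Cfsg.Agent.Lib.Helper6.OmegaAut.mem_isometryGroup_iff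
        (Cfsg.Agent.Lib.Helper6.QOdd F d) g.1).mp g.2
    have hxx : x ^ 2 = 1 := by
      rw [← hr2, ← hord]; exact pow_orderOf_eq_one x
    have hMM : (x : Matrix (Unit ⊕ (Fin d ⊕ Fin d)) (Unit ⊕ (Fin d ⊕ Fin d)) F) *
        (x : Matrix (Unit ⊕ (Fin d ⊕ Fin d)) (Unit ⊕ (Fin d ⊕ Fin d)) F) = 1 := by
      rw [← Units.val_mul, ← sq, hxx]; rfl
    have hfr : Module.finrank F (Unit ⊕ (Fin d ⊕ Fin d) → F) = 2 * d + 1 := by
      rw [Module.finrank_fintype_fun_eq_card]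
      simp
      omega
    obtain ⟨W, hWf, hWn, hWs, hWy⟩ := Cfsg.Agent.Lib.Helper3.Orth.involution_fixes
      (Cfsg.Agent.Lib.Helper6.QOdd F d) h2
      (Cfsg.Agent.Lib.Helper6.OrtS.nondegOn_top_of _
        (Cfsg.Agent.Lib.Helper6.nondegenerate_QOdd F h2 d))
      (Matrix.toLin' (x : Matrix (Unit ⊕ (Fin d ⊕ Fin d)) (Unit ⊕ (Fin d ⊕ Fin d)) F))
      (fun v => by rw [Matrix.toLin'_apply]; exact hxI v)
      (fun v => by
        rw [Matrix.toLin'_apply, Matrix.toLin'_apply, Matrix.mulVec_mulVec, hMM,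
          Matrix.one_mulVec])
      (by rw [hfr]; exact ⟨d, rfl⟩) (by rw [hfr]; omega) m hme hm (by rw [hfr]; omega) (-1)
      (Or.inr rfl)
    exact ⟨W, (hNS W).mp ⟨hWf, hWn, hWs⟩, hWy⟩
  · have hr2' : 2 < r := by
      have := (Fact.out : r.Prime).two_le
      omega
    by_cases hrp : r = p
    · apply iff_of_false
      · intro h
        obtain ⟨x, hxΩ, hxo, hxW⟩ :=
          Cfsg.Agent.Lib.Helper3.Orth.exists_unipotent_plus (F := F) h2 p d (by omega)
        obtain ⟨W, hW, hWx⟩ := h x hxΩ (hxo.trans hrp.symm)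
        have hW' := (hNS W).mpr hW
        have hplus := hxW W hWx hW'.2.1 (by rw [hW'.1]; exact hme)
        obtain ⟨n, hn⟩ := hme
        exact (Cfsg.Agent.Lib.Helper3.Orth.sgnOn_neg_one_iff (Cfsg.Agent.Lib.Helper6.QOdd F d) W
          hW'.2.1 n (by rw [hW'.1]; omega)).mp hW'.2.2 hplus
      · rintro (h | h | h)
        · exact hr2 h
        · exact h.1 hrp
        · exact h.1 hrp
    · subst hq
      subst hi
      have hrΩ' : r ∣ Nat.card
          (Cfsg.Agent.Lib.Helper6.OrtS.NSet (Cfsg.Agent.Lib.Helper6.QOdd F d) m (-1)) := by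
        rw [Nat.card_congr (Equiv.subtypeEquivRight hNS)]
        exact hrΩ
      have hmain := Cfsg.Agent.Lib.Helper3.Orth.odd_main h2 p r hr2 hrp d m (by omega) hm hme hmn
        (-1) (Or.inr rfl) hrΩ'
      rw [← Cfsg.Agent.Lib.Helper3.Orth.rhs_minus_iff r p _ c d m hr2' hrp hc, ← hmain]
      constructor
      · intro h x hx ho
        obtain ⟨W, hW, hWx⟩ := h x hx ho
        exact ⟨W, (hNS W).mpr hW, hWx⟩
      · intro h x hx ho
        obtain ⟨W, hW, hWx⟩ := h x hx ho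
        exact ⟨W, (hNS W).mp hW, hWx⟩

end Cfsg.Agent.S5993
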