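import Cfsg.Statements.S5994
import Cfsg.Agent.Lib.Helper20.OUMinus
import Cfsg.Agent.Lib.Helper20.OUChar
import Cfsg.Agent.Lib.Helper20.OUFinal2
import Cfsg.Agent.Lib.Helper20.OUComb2

set_option autoImplicit false
open scoped MatrixGroups
open Cfsg

namespace Cfsg.Agent.S5994

/-- A necessary condition for every element of order p of PΩ⁻_n(q), q odd, to fix an elliptic `m`-space. Here `T = PΩ⁻_n(F)`, `n = 2d ≥ 8`, realised through `Ω⁻_n(q)`, the commutator subgroup of the isometry group of `Q = Σ_{i<d−1} xᵢyᵢ + z₁² + a z₁z₂ + b z₂²` with `z₁² + a z₁z₂ + b z₂²` anisotropic, over the field `F` with `q` elements; an element of `T` of prime order `r` is an element `x` of `Ω⁻_n(q)` with `x^r` scalar and `x` not scalar; `q` is odd; a nondegenerate `m`-space (even `m`) is a subspace on which the polar form of `Q` is nondegenerate; it is hyperbolic if it contains an `m/2`-dimensional subspace on which `Q` vanishes, elliptic otherwise. Let `m` be even with `2 ≤ m ≤ n − 2` and suppose `p` divides the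 number of elliptic `m`-spaces. If every element of `T` of order `p` fixes some elliptic `m`-space, then `n ≡ m (mod 4)` and every partition of `n` into parts of size at most `p` in which every even part has even multiplicity contains (as a sub-multiset) a partition of `m` in which every even part has even multiplicity. -/
theorem result {F : Type*} [Field F] [Fintype F] {p : ℕ} [Fact p.Prime] [CharP F p] {q : ℕ} (hq : Fintype.card F = q) (hqodd : Odd q)
    (d m : ℕ) (hd : 4 ≤ d) (hm : 2 ≤ m) (hme : Even m) (hmn : m + 2 ≤ 2 * d) (a b : F) (hab : ∀ x y : F, x ^ 2 + a * x * y + b * y ^ 2 = 0 → x = 0 ∧ y = 0)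
    (hpΩ : p ∣ Nat.card {W : Submodule F ((Fin (d - 1) ⊕ Fin (d - 1)) ⊕ Fin 2 → F) // Module.finrank F ↥W = m ∧ Cfsg.Geo.IsNondegenerateOn (QuadraticMap.polar (Cfsg.quadFormMinus (d - 1) F a b)) W ∧ ¬ Cfsg.Geo.IsPlusTypeOn (Cfsg.quadFormMinus (d - 1) F a b) W}) :
    (∀ x : GL ((Fin (d - 1) ⊕ Fin (d - 1)) ⊕ Fin 2) F, x ∈ Cfsg.Geo.omegaGL (Cfsg.quadFormMinus (d - 1) F a b) →
      (∃ z : F, ((x ^ p : GL ((Fin (d - 1) ⊕ Fin (d - 1)) ⊕ Fin 2) F) : Matrix ((Fin (d - 1) ⊕ Fin (d - 1)) ⊕ Fin 2) ((Fin (d - 1) ⊕ Fin (d - 1)) ⊕ Fin 2) F) = z • (1 : Matrix ((Fin (d - 1) ⊕ Fin (d - 1)) ⊕ Fin 2) ((Fin (d - 1) ⊕ Fin (d - 1)) ⊕ Fin 2) F)) →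
      (∀ z : F, (x : Matrix ((Fin (d - 1) ⊕ Fin (d - 1)) ⊕ Fin 2) ((Fin (d - 1) ⊕ Fin (d - 1)) ⊕ Fin 2) F) ≠ z • (1 : Matrix ((Fin (d - 1) ⊕ Fin (d - 1)) ⊕ Fin 2) ((Fin (d - 1) ⊕ Fin (d - 1)) ⊕ Fin 2) F)) →
      ∃ W : Submodule F ((Fin (d - 1) ⊕ Fin (d - 1)) ⊕ Fin 2 → F), (Module.finrank F ↥W = m ∧ Cfsg.Geo.IsNondegenerateOn (QuadraticMap.polar (Cfsg.quadFormMinus (d - 1) F a b)) W ∧ ¬ Cfsg.Geo.IsPlusTypeOn (Cfsg.quadFormMinus (d - 1) F a b) W) ∧ W.map (Matrix.toLin' (x : Matrix ((Fin (d - 1) ⊕ Fin (d - 1)) ⊕ Fin 2) ((Fin (d - 1) ⊕ Fin (d - 1)) ⊕ Fin 2) F)) ≤ W) →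
    ((2 * d) % 4 = m % 4 ∧ (∀ μ : Multiset ℕ, (∀ e ∈ μ, 0 < e ∧ e ≤ p) → (∀ e : ℕ, Even e → Even (μ.count e)) → μ.sum = 2 * d →
        ∃ ν : Multiset ℕ, ν ≤ μ ∧ ν.sum = m ∧ ∀ e : ℕ, Even e → Even (ν.count e))) := by
  classical
  intro h
  have hpp : p.Prime := Fact.out
  have h2 : (2 : F) ≠ 0 := Cfsg.Agent.Lib.Helper20.OU.two_ne_zero_of_odd_card (by rw [hq]; exact hqodd)
  have hp3 : 3 ≤ p := by
    have hp2 : p ≠ 2 := by
      rintro rfl
      apply h2
      have := CharP.cast_eq_zero F 2
      exact_mod_cast this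
    have := hpp.two_le
    omega
  have hpodd : Odd p := hpp.odd_of_ne_two (by omega)
  obtain ⟨k, hk⟩ : ∃ k, d = k + 1 := ⟨d - 1, by omega⟩
  subst hk
  have hk1 : k + 1 - 1 = k := by omega
  rw [hk1] at h hpΩ
  have hne : Nonempty ((Fin k ⊕ Fin k) ⊕ Fin 2) := ⟨Sum.inr 0⟩
  have hcardI : Fintype.card ((Fin k ⊕ Fin k) ⊕ Fin 2) = 2 * (k + 1) := by
    rw [Fintype.card_sum, Fintype.card_sum, Fintype.card_fin, Fintype.card_fin]
    ring
  -- the elements and their invariant subspaces
  have key : ∀ μ : Multiset ℕ, (∀ e ∈ μ, 0 < e ∧ e ≤ p) → (∀ e : ℕ, Even e → Even (μ.count e)) →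
      μ.sum = 2 * (k + 1) → (∃ b ∈ μ, Odd b) → (∃ b ∈ μ, 1 < b) →
      ∃ y : GL ((Fin k ⊕ Fin k) ⊕ Fin 2) F,
        y ∈ Cfsg.isometryGroup F ⇑(Cfsg.Agent.Lib.Helper20.OU.minusQF k F a b) ∧
        (∀ j, Cfsg.Agent.Lib.Helper14.kd (Matrix.toLin'
          (y : Matrix ((Fin k ⊕ Fin k) ⊕ Fin 2) ((Fin k ⊕ Fin k) ⊕ Fin 2) F) - 1) j =
            Cfsg.Agent.Lib.Helper14.JType.kappa μ j) ∧
        ∃ W : Submodule F ((Fin k ⊕ Fin k) ⊕ Fin 2 → F), Module.finrank F ↥W = m ∧
          Cfsg.Geo.IsNondegenerateOn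
            (QuadraticMap.polar ⇑(Cfsg.Agent.Lib.Helper20.OU.minusQF k F a b)) W ∧
          ¬ Cfsg.Geo.IsPlusTypeOn (Cfsg.quadFormMinus k F a b) W ∧
          W.map (Matrix.toLin'
            (y : Matrix ((Fin k ⊕ Fin k) ⊕ Fin 2) ((Fin k ⊕ Fin k) ⊕ Fin 2) F)) ≤ W := by
    intro μ hμ hμev hsum hodd hbig
    obtain ⟨y, hyΩ, hkd⟩ := Cfsg.Agent.Lib.Helper20.OU.exists_unipotent_minus h2 a b hab k μ
      (fun e he => (hμ e he).1) hμev (by rw [hsum]; ring) hodd
    have hcard : μ.sum = Fintype.card ((Fin k ⊕ Fin k) ⊕ Fin 2) := by rw [hsum, hcardI]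
    have hfin : Module.finrank F ((Fin k ⊕ Fin k) ⊕ Fin 2 → F) = μ.sum := by
      rw [hcard, Module.finrank_fintype_fun_eq_card]
    have hNp : (Matrix.toLin'
        (y : Matrix ((Fin k ⊕ Fin k) ⊕ Fin 2) ((Fin k ⊕ Fin k) ⊕ Fin 2) F) - 1) ^ p = 0 :=
      Cfsg.Agent.Lib.Helper20.OU.pow_eq_zero_of_kd _ μ hfin hkd p (fun b hb => (hμ b hb).2)
    have hyp : y ^ p = 1 := Cfsg.Agent.Lib.Helper20.OU.pow_char_eq_one p y hNp
    have hns := Cfsg.Agent.Lib.Helper20.OU.not_scalar_of_kd y μ hkd ⟨p, hNp⟩ hbig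
    obtain ⟨W, ⟨hWm, hWnd, hWell⟩, hWinv⟩ := h y hyΩ
      ⟨1, by rw [hyp, Units.val_one, one_smul]⟩ hns
    have hyiso : y ∈ Cfsg.isometryGroup F ⇑(Cfsg.Agent.Lib.Helper20.OU.minusQF k F a b) := by
      rw [Cfsg.Agent.Lib.Helper20.OU.coe_minusQF]
      obtain ⟨x, -, rfl⟩ := Subgroup.mem_map.1 hyΩ
      exact x.2
    exact ⟨y, hyiso, hkd, W, hWm,
      by rw [Cfsg.Agent.Lib.Helper20.OU.coe_minusQF]; exact hWnd, hWell, hWinv⟩
  -- the partition statement for types with an odd part
  have hpartodd : ∀ μ : Multiset ℕ, (∀ e ∈ μ, 0 < e ∧ e ≤ p) →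
      (∀ e : ℕ, Even e → Even (μ.count e)) → μ.sum = 2 * (k + 1) → (∃ b ∈ μ, Odd b) →
      (∃ b ∈ μ, 1 < b) →
      ∃ ν : Multiset ℕ, ν ≤ μ ∧ ν.sum = m ∧ ∀ e : ℕ, Even e → Even (ν.count e) := by
    intro μ hμ hμev hsum hodd hbig
    obtain ⟨y, hyiso, hkd, W, hWm, hWnd, -, hWinv⟩ := key μ hμ hμev hsum hodd hbig
    have hμ0 : (0 : ℕ) ∉ μ := fun h0 => absurd (hμ 0 h0).1 (lt_irrefl 0)
    obtain ⟨ν, hνμ, hνsum, hνev⟩ := Cfsg.Agent.Lib.Helper20.OU.exists_sub_partition h2
      (Cfsg.Agent.Lib.Helper20.OU.minusQF k F a b) y hyiso μ hμ0 (by rw [hsum, hcardI]) hkd W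
      hWnd hWinv
    exact ⟨ν, hνμ, by rw [hνsum, hWm], hνev⟩
  refine ⟨?_, ?_⟩
  · -- the congruence
    rcases Nat.even_or_odd (k + 1) with hde | hdo
    · -- type `(3, 1, 2^(d-2))`
      obtain ⟨ν, hνμ, hνsum, hνev⟩ := hpartodd
        ((3 ::ₘ ({1} : Multiset ℕ)) + Multiset.replicate (k - 1) 2)
        (by
          intro e he
          rw [Multiset.mem_add, Multiset.mem_cons, Multiset.mem_singleton] at he
          rcases he with (rfl | rfl) | he
          · exact ⟨by omega, by omega⟩
          · exact ⟨by omega, by omega⟩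
          · rw [Multiset.eq_of_mem_replicate he]
            exact ⟨by omega, by omega⟩)
        (by
          intro e he
          rw [Multiset.count_add, Multiset.count_cons, Multiset.count_singleton,
            Multiset.count_replicate]
          have h1 : e ≠ 1 := by
            rintro rfl
            exact absurd he (by decide)
          have h3 : e ≠ 3 := by
            rintro rfl
            exact absurd he (by decide)
          rw [if_neg h1, if_neg h3]
          split_ifs
          · rcases hde with ⟨t, ht⟩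
            exact ⟨t - 1, by omega⟩
          · exact Even.zero)
        (by
          rw [Multiset.sum_add, Multiset.sum_cons, Multiset.sum_singleton, Multiset.sum_replicate,
            smul_eq_mul]
          omega)
        ⟨3, by simp, by decide⟩ ⟨3, by simp, by omega⟩
      obtain ⟨σ, hσ, hsumσ, -⟩ := Cfsg.Agent.Lib.Helper20.OU.exists_split_two ν
        (3 ::ₘ ({1} : Multiset ℕ)) (k - 1) (by simp) hνμ
      obtain ⟨t, ht⟩ := hνev 2 (by decide)
      obtain ⟨s, hs⟩ := hme
      rcases hde with ⟨r, hr⟩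
      rcases Cfsg.Agent.Lib.Helper20.OU.sum_le_three_one σ hσ with h0 | h0 | h0 | h0 <;>
        rw [h0] at hsumσ <;> omega
    · -- type `(1, 1, 2^(d-1))`
      have hμ₂ : ∀ e ∈ (Multiset.replicate 2 1 + Multiset.replicate k 2 : Multiset ℕ),
          0 < e ∧ e ≤ p := by
        intro e he
        rw [Multiset.mem_add] at he
        rcases he with he | he
        · rw [Multiset.eq_of_mem_replicate he]
          exact ⟨by omega, by omega⟩
        · rw [Multiset.eq_of_mem_replicate he]
          exact ⟨by omega, by omega⟩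
      have hk0 : 0 < k := by omega
      obtain ⟨y, hyiso, hkd, W, hWm, hWnd, hWell, hWinv⟩ := key
        (Multiset.replicate 2 1 + Multiset.replicate k 2) hμ₂
        (by
          intro e he
          rw [Multiset.count_add, Multiset.count_replicate, Multiset.count_replicate]
          have h1 : (1 : ℕ) ≠ e := by
            rintro rfl
            exact absurd he (by decide)
          rw [if_neg h1, zero_add]
          split_ifs
          · rcases hdo with ⟨t, ht⟩
            exact ⟨t, by omega⟩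
          · exact Even.zero)
        (by
          rw [Multiset.sum_add, Multiset.sum_replicate, Multiset.sum_replicate, smul_eq_mul,
            smul_eq_mul]
          ring)
        ⟨1, by simp, by decide⟩
        ⟨2, by
          rw [Multiset.mem_add]
          right
          exact Multiset.mem_replicate.2 ⟨by omega, rfl⟩, by omega⟩
      have hμ0 : (0 : ℕ) ∉ (Multiset.replicate 2 1 + Multiset.replicate k 2 : Multiset ℕ) :=
        fun h0 => absurd (hμ₂ 0 h0).1 (lt_irrefl 0)
      have hsum₂ : (Multiset.replicate 2 1 + Multiset.replicate k 2 : Multiset ℕ).sum =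
          Fintype.card ((Fin k ⊕ Fin k) ⊕ Fin 2) := by
        rw [hcardI, Multiset.sum_add, Multiset.sum_replicate, Multiset.sum_replicate, smul_eq_mul,
          smul_eq_mul]
        ring
      obtain ⟨ν, hνμ, hνsum, hνev, hrank⟩ :=
        Cfsg.Agent.Lib.Helper20.OU.exists_sub_partition_rank h2
          (Cfsg.Agent.Lib.Helper20.OU.minusQF k F a b) y hyiso _ hμ0 hsum₂ hkd W hWnd hWinv
      obtain ⟨σ, hσ, hsumσ, hcardσ⟩ := Cfsg.Agent.Lib.Helper20.OU.exists_split_two ν
        (Multiset.replicate 2 1) k (by simp) hνμ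
      obtain ⟨c, hc2, rfl⟩ := Multiset.le_replicate_iff.1 hσ
      rw [Multiset.sum_replicate, smul_eq_mul, mul_one] at hsumσ
      rw [Multiset.card_replicate] at hcardσ
      obtain ⟨t, ht⟩ := hνev 2 (by decide)
      obtain ⟨s, hs⟩ := hme
      rcases hdo with ⟨r, hr⟩
      rw [hWm] at hνsum hrank
      have hc : c = 0 ∨ c = 2 := by omega
      rcases hc with rfl | rfl
      · -- then `W` would be of plus type
        exfalso
        apply hWell
        set L := Matrix.toLin'
          (y : Matrix ((Fin k ⊕ Fin k) ⊕ Fin 2) ((Fin k ⊕ Fin k) ⊕ Fin 2) F) with hL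
        have hfin : Module.finrank F ((Fin k ⊕ Fin k) ⊕ Fin 2 → F) =
            (Multiset.replicate 2 1 + Multiset.replicate k 2 : Multiset ℕ).sum := by
          rw [hsum₂, Module.finrank_fintype_fun_eq_card]
        have hsq : (L - 1) ^ 2 = 0 :=
          Cfsg.Agent.Lib.Helper20.OU.pow_eq_zero_of_kd _ _ hfin hkd 2 (by
            intro b' hb'
            rw [Multiset.mem_add] at hb'
            rcases hb' with hb' | hb'
            · rw [Multiset.eq_of_mem_replicate hb']
              omega
            · rw [Multiset.eq_of_mem_replicate hb'])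
        have hLQ : ∀ v, Cfsg.Agent.Lib.Helper20.OU.minusQF k F a b (L v) =
            Cfsg.Agent.Lib.Helper20.OU.minusQF k F a b v := by
          intro v
          rw [hL, Matrix.toLin'_apply]
          exact hyiso v v
        refine ⟨W.map (L - 1), ?_, ?_, ?_⟩
        · intro x hx
          obtain ⟨w, hw, rfl⟩ := Submodule.mem_map.1 hx
          rw [LinearMap.sub_apply, Module.End.one_apply]
          exact W.sub_mem (hWinv (Submodule.mem_map_of_mem hw)) hw
        · intro x hx
          obtain ⟨w, hw, rfl⟩ := Submodule.mem_map.1 hx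
          rw [← Cfsg.Agent.Lib.Helper20.OU.coe_minusQF]
          exact Cfsg.Agent.Lib.Helper20.OU.Q_sub_one_eq_zero h2 _ L hLQ hsq w
        · rw [hWm]
          omega
      · omega
  · -- the partition statement
    intro μ hμ hμev hsum
    by_cases hall : ∀ b ∈ μ, b ≤ 1
    · have h1 : ∀ b ∈ μ, b = 1 := fun b hb => by
        have := hμ b hb
        have := hall b hb
        omega
      have h3 := Multiset.eq_replicate_card.mpr h1
      have h4 : Multiset.card μ = 2 * (k + 1) := by
        have h5 := hsum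
        rw [h3, Multiset.sum_replicate, smul_eq_mul, mul_one] at h5
        exact h5
      rw [h4] at h3
      refine ⟨Multiset.replicate m 1, ?_, by simp, ?_⟩
      · rw [h3]
        exact (Multiset.replicate_le_replicate 1).mpr (by omega)
      · intro e he
        have : e ≠ 1 := by
          rintro rfl
          exact absurd he (by decide)
        rw [Multiset.count_replicate, if_neg (Ne.symm this)]
        exact Even.zero
    · push Not at hall
      by_cases hodd : ∃ b ∈ μ, Odd b
      · exact hpartodd μ hμ hμev hsum hodd hall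
      · -- all parts are even
        push Not at hodd
        have hall_even : ∀ x ∈ μ, Even x := fun x hx => Nat.not_odd_iff_even.1 (hodd x hx)
        obtain ⟨e, heμ, -⟩ := hall
        have hee : Even e := hall_even e heμ
        have he2 : 2 ≤ e := by
          have := (hμ e heμ).1
          rcases hee with ⟨t, ht⟩
          omega
        obtain ⟨μ', rfl⟩ := Multiset.exists_cons_of_mem heμ
        have hc := hμev e hee
        rw [Multiset.count_cons_self] at hc
        have hpos' : 0 < μ'.count e := by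
          rcases Nat.eq_zero_or_pos (μ'.count e) with h0 | h0
          · rw [h0] at hc
            exact absurd hc (by decide)
          · exact h0
        obtain ⟨μ'', rfl⟩ := Multiset.exists_cons_of_mem (Multiset.count_pos.1 hpos')
        have hμ''even : ∀ x ∈ μ'', Even x := fun x hx =>
          hall_even x (Multiset.mem_cons_of_mem (Multiset.mem_cons_of_mem hx))
        have hep : e + 1 ≤ p := by
          have := (hμ e heμ).2
          rcases hee with ⟨t, ht⟩
          rcases hpodd with ⟨s, hs⟩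
          omega
        obtain ⟨ν', hν'μ, hν'sum, hν'ev⟩ := hpartodd ((e + 1) ::ₘ (e - 1) ::ₘ μ'')
          (by
            intro x hx
            rw [Multiset.mem_cons, Multiset.mem_cons] at hx
            rcases hx with rfl | rfl | hx
            · exact ⟨by omega, hep⟩
            · exact ⟨by omega, by omega⟩
            · exact hμ x (Multiset.mem_cons_of_mem (Multiset.mem_cons_of_mem hx)))
          (by
            intro j hj
            have hj1 : j ≠ e + 1 := by
              rintro rfl
              rcases hee with ⟨t, ht⟩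
              rcases hj with ⟨s, hs⟩
              omega
            have hj2 : j ≠ e - 1 := by
              rintro rfl
              rcases hee with ⟨t, ht⟩
              rcases hj with ⟨s, hs⟩
              omega
            rw [Multiset.count_cons_of_ne hj1, Multiset.count_cons_of_ne hj2]
            have := hμev j hj
            by_cases hje : j = e
            · subst hje
              rw [Multiset.count_cons_self, Multiset.count_cons_self] at this
              rcases this with ⟨t, ht⟩
              exact ⟨t - 1, by omega⟩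
            · rwa [Multiset.count_cons_of_ne hje, Multiset.count_cons_of_ne hje] at this)
          (by
            rw [Multiset.sum_cons, Multiset.sum_cons] at hsum ⊢
            omega)
          ⟨e + 1, Multiset.mem_cons_self _ _, hee.add_one⟩
          ⟨e + 1, Multiset.mem_cons_self _ _, by omega⟩
        obtain ⟨ν, hνμ, hνsum, hνev⟩ := Cfsg.Agent.Lib.Helper20.OU.detour μ'' ν' e hee he2
          hμ''even hν'μ (by rw [hν'sum]; exact hme) hν'ev
        exact ⟨ν, hνμ, by rw [hνsum, hν'sum], hνev⟩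

end Cfsg.Agent.S5994
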