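import Cfsg.Statements.S5995
import Cfsg.Agent.Lib.Helper20.OUOdd
import Cfsg.Agent.Lib.Helper20.OUChar
import Cfsg.Agent.Lib.Helper20.OUComb

set_option autoImplicit false
open scoped MatrixGroups
open Cfsg

namespace Cfsg.Agent.S5995

/-- A necessary condition for every element of order p of Ω_n(q), nq odd, to fix a hyperbolic `m`-space. Here `T = Ω_n(F)`, `n = 2d+1 ≥ 7`, `q` odd, realised as the commutator subgroup of the isometry group of `Q = x₀² + Σ xᵢyᵢ` over the field `F` with `q` elements (trivial centre, so its elements of prime order `r` are used directly); a nondegenerate `m`-space (even `m`) is a subspace on which the polar form of `Q` is nondegenerate; it is hyperbolic if it contains an `m/2`-dimensional subspace on which `Q` vanishes, elliptic otherwise. Let `m` be even with `2 ≤ m ≤ n − 1` and suppose `p` divides the number of hyperbolic `m`-spaces. If every element of `T` of order `p` fixes some hyperbolic `m`-space, then `m ≡ 0 (mod 4)` and every partition of `n` into parts of size at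 most `p` in which every even part has even multiplicity contains (as a sub-multiset) a partition of `m` in which every even part has even multiplicity. -/
theorem result {F : Type*} [Field F] [Fintype F] {p : ℕ} [Fact p.Prime] [CharP F p] {q : ℕ} (hq : Fintype.card F = q) (hqodd : Odd q)
    (d m : ℕ) (hd : 3 ≤ d) (hm : 2 ≤ m) (hme : Even m) (hmn : m ≤ 2 * d)
    (hpΩ : p ∣ Nat.card {W : Submodule F (Unit ⊕ (Fin d ⊕ Fin d) → F) // Module.finrank F ↥W = m ∧ Cfsg.Geo.IsNondegenerateOn (QuadraticMap.polar (Cfsg.quadFormOdd d F)) W ∧ Cfsg.Geo.IsPlusTypeOn (Cfsg.quadFormOdd d F) W}) :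
    (∀ x : GL (Unit ⊕ (Fin d ⊕ Fin d)) F, x ∈ Cfsg.Geo.omegaGL (Cfsg.quadFormOdd d F) → orderOf x = p →
      ∃ W : Submodule F (Unit ⊕ (Fin d ⊕ Fin d) → F), (Module.finrank F ↥W = m ∧ Cfsg.Geo.IsNondegenerateOn (QuadraticMap.polar (Cfsg.quadFormOdd d F)) W ∧ Cfsg.Geo.IsPlusTypeOn (Cfsg.quadFormOdd d F) W) ∧ W.map (Matrix.toLin' (x : Matrix (Unit ⊕ (Fin d ⊕ Fin d)) (Unit ⊕ (Fin d ⊕ Fin d)) F)) ≤ W) →
    (m % 4 = 0 ∧ (∀ μ : Multiset ℕ, (∀ e ∈ μ, 0 < e ∧ e ≤ p) → (∀ e : ℕ, Even e → Even (μ.count e)) → μ.sum = 2 * d + 1 →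
        ∃ ν : Multiset ℕ, ν ≤ μ ∧ ν.sum = m ∧ ∀ e : ℕ, Even e → Even (ν.count e))) := by
  classical
  intro h
  have hpp : p.Prime := Fact.out
  have h2 : (2 : F) ≠ 0 := Cfsg.Agent.Lib.Helper20.OU.two_ne_zero_of_odd_card (by rw [hq]; exact hqodd)
  have hp3 : 3 ≤ p := by
    have hp2 : p ≠ 2 := by
      rintro rfl
      apply h2
      have := CharP.cast_eq_zero F 2
      exact_mod_cast this
    have := hpp.two_le
    omega
  -- the partition statement
  have hpart : ∀ μ : Multiset ℕ, (∀ e ∈ μ, 0 < e ∧ e ≤ p) → (∀ e : ℕ, Even e → Even (μ.count e)) →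
      μ.sum = 2 * d + 1 →
      ∃ ν : Multiset ℕ, ν ≤ μ ∧ ν.sum = m ∧ ∀ e : ℕ, Even e → Even (ν.count e) := by
    intro μ hμ hμev hsum
    by_cases hall : ∀ b ∈ μ, b ≤ 1
    · have h1 : ∀ b ∈ μ, b = 1 := fun b hb => by
        have := hμ b hb
        have := hall b hb
        omega
      have h3 := Multiset.eq_replicate_card.mpr h1
      have h4 : Multiset.card μ = 2 * d + 1 := by
        have h5 := hsum
        rw [h3, Multiset.sum_replicate, smul_eq_mul, mul_one] at h5
        exact h5
      rw [h4] at h3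
      refine ⟨Multiset.replicate m 1, ?_, by simp, ?_⟩
      · rw [h3]
        exact (Multiset.replicate_le_replicate 1).mpr (by omega)
      · intro e he
        have : e ≠ 1 := by
          rintro rfl
          exact absurd he (by decide)
        rw [Multiset.count_replicate, if_neg (Ne.symm this)]
        exact Even.zero
    · push Not at hall
      obtain ⟨b₀, hb₀, hb₀1⟩ := hall
      obtain ⟨y, hyΩ, hk⟩ := Cfsg.Agent.Lib.Helper20.OU.exists_unipotent_odd h2 d μ
        (fun e he => (hμ e he).1) hμev hsum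
      have hne : Nonempty (Unit ⊕ (Fin d ⊕ Fin d)) := ⟨Sum.inl ()⟩
      have hcard : μ.sum = Fintype.card (Unit ⊕ (Fin d ⊕ Fin d)) := by
        rw [hsum, Fintype.card_sum, Fintype.card_sum, Fintype.card_fin, Fintype.card_unit]
        ring
      have hfin : Module.finrank F (Unit ⊕ (Fin d ⊕ Fin d) → F) = μ.sum := by
        rw [hcard, Module.finrank_fintype_fun_eq_card]
      have hNp : (Matrix.toLin' (y : Matrix (Unit ⊕ (Fin d ⊕ Fin d)) (Unit ⊕ (Fin d ⊕ Fin d)) F) - 1) ^ p = 0 :=
        Cfsg.Agent.Lib.Helper20.OU.pow_eq_zero_of_kd _ μ hfin hk p (fun b hb => (hμ b hb).2)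
      have hyp : y ^ p = 1 := Cfsg.Agent.Lib.Helper20.OU.pow_char_eq_one p y hNp
      have hns := Cfsg.Agent.Lib.Helper20.OU.not_scalar_of_kd y μ hk ⟨p, hNp⟩ ⟨b₀, hb₀, hb₀1⟩
      have hy1 : y ≠ 1 := by
        intro h1
        apply hns 1
        rw [h1, Units.val_one, one_smul]
      have hord : orderOf y = p := orderOf_eq_prime hyp hy1
      obtain ⟨W, ⟨hWm, hWnd, -⟩, hWinv⟩ := h y hyΩ hord
      have hyiso : y ∈ Cfsg.isometryGroup F ⇑(Cfsg.Agent.Lib.Helper20.OU.oddQF d F) := by
        rw [Cfsg.Agent.Lib.Helper20.OU.coe_oddQF]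
        obtain ⟨x, -, rfl⟩ := Subgroup.mem_map.1 hyΩ
        exact x.2
      have hμ0 : (0 : ℕ) ∉ μ := fun h0 => absurd (hμ 0 h0).1 (lt_irrefl 0)
      obtain ⟨ν, hνμ, hνsum, hνev⟩ := Cfsg.Agent.Lib.Helper20.OU.exists_sub_partition h2
        (Cfsg.Agent.Lib.Helper20.OU.oddQF d F) y hyiso μ hμ0 hcard hk W
        (by rw [Cfsg.Agent.Lib.Helper20.OU.coe_oddQF]; exact hWnd) hWinv
      exact ⟨ν, hνμ, by rw [hνsum, hWm], hνev⟩
  refine ⟨?_, hpart⟩
  -- `m ≡ 0 (mod 4)` from special Jordan types
  rcases Nat.even_or_odd d with hde | hdo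
  · -- type `(2^d, 1)`
    obtain ⟨ν, hνμ, hνsum, hνev⟩ := hpart (({1} : Multiset ℕ) + Multiset.replicate d 2)
      (by
        intro e he
        rw [Multiset.mem_add, Multiset.mem_singleton] at he
        rcases he with rfl | he
        · exact ⟨by omega, by omega⟩
        · rw [Multiset.eq_of_mem_replicate he]
          exact ⟨by omega, by omega⟩)
      (by
        intro e he
        rw [Multiset.count_add, Multiset.count_singleton, Multiset.count_replicate]
        have : e ≠ 1 := by
          rintro rfl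
          exact absurd he (by decide)
        rw [if_neg this, zero_add]
        split_ifs
        · exact hde
        · exact Even.zero)
      (by
        rw [Multiset.sum_add, Multiset.sum_singleton, Multiset.sum_replicate, smul_eq_mul]
        ring)
    obtain ⟨σ, hσ, hsumσ, -⟩ := Cfsg.Agent.Lib.Helper20.OU.exists_split_two ν {1} d
      (by simp) hνμ
    obtain ⟨t, ht⟩ := hνev 2 (by decide)
    obtain ⟨s, hs⟩ := hme
    rcases Multiset.le_singleton.1 hσ with h0 | h1
    · rw [h0, Multiset.sum_zero] at hsumσ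
      omega
    · rw [h1, Multiset.sum_singleton] at hsumσ
      omega
  · -- type `(2^(d-1), 3)`
    obtain ⟨ν, hνμ, hνsum, hνev⟩ := hpart (({3} : Multiset ℕ) + Multiset.replicate (d - 1) 2)
      (by
        intro e he
        rw [Multiset.mem_add, Multiset.mem_singleton] at he
        rcases he with rfl | he
        · exact ⟨by omega, by omega⟩
        · rw [Multiset.eq_of_mem_replicate he]
          exact ⟨by omega, by omega⟩)
      (by
        intro e he
        rw [Multiset.count_add, Multiset.count_singleton, Multiset.count_replicate]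
        have : e ≠ 3 := by
          rintro rfl
          exact absurd he (by decide)
        rw [if_neg this, zero_add]
        split_ifs
        · rcases hdo with ⟨t, ht⟩
          exact ⟨t, by omega⟩
        · exact Even.zero)
      (by
        rw [Multiset.sum_add, Multiset.sum_singleton, Multiset.sum_replicate, smul_eq_mul]
        omega)
    obtain ⟨σ, hσ, hsumσ, -⟩ := Cfsg.Agent.Lib.Helper20.OU.exists_split_two ν {3} (d - 1)
      (by simp) hνμ
    obtain ⟨t, ht⟩ := hνev 2 (by decide)
    obtain ⟨s, hs⟩ := hme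
    rcases Multiset.le_singleton.1 hσ with h0 | h1
    · rw [h0, Multiset.sum_zero] at hsumσ
      omega
    · rw [h1, Multiset.sum_singleton] at hsumσ
      omega

end Cfsg.Agent.S5995
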