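import Cfsg.Statements.S5996
import Cfsg.Agent.Lib.Helper20.OUPlus
import Cfsg.Agent.Lib.Helper20.OUChar

set_option autoImplicit false
open scoped MatrixGroups
open Cfsg

namespace Cfsg.Agent.S5996

/-- A necessary condition for every element of order p of PΩ⁺_n(q), q odd, to fix a hyperbolic `m`-space. Here `T = PΩ⁺_n(F)`, `n = 2d ≥ 8`, realised through `Ω⁺_n(q)`, the commutator subgroup of the isometry group of `Q = Σ xᵢyᵢ` over the field `F` with `q` elements; an element of `T` of prime order `r` is an element `x` of `Ω⁺_n(q)` with `x^r` scalar and `x` not scalar; `q` is odd; a nondegenerate `m`-space (even `m`) is a subspace on which the polar form of `Q` is nondegenerate; it is hyperbolic if it contains an `m/2`-dimensional subspace on which `Q` vanishes, elliptic otherwise. Let `m` be even with `2 ≤ m < n/2` and suppose `p` divides the number of hyperbolic `m`-spaces. If every element of `T` of order `p` fixes some hyperbolic `m`-space,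 then every partition of `n` into parts of size at most `p` in which every even part has even multiplicity contains (as a sub-multiset) a partition of `m` in which every even part has even multiplicity. -/
theorem result {F : Type*} [Field F] [Fintype F] {p : ℕ} [Fact p.Prime] [CharP F p] {q : ℕ} (hq : Fintype.card F = q) (hqodd : Odd q)
    (d m : ℕ) (hd : 4 ≤ d) (hm : 2 ≤ m) (hme : Even m) (hmd : m < d)
    (hpΩ : p ∣ Nat.card {W : Submodule F (Fin d ⊕ Fin d → F) // Module.finrank F ↥W = m ∧ Cfsg.Geo.IsNondegenerateOn (QuadraticMap.polar (Cfsg.quadFormPlus d F)) W ∧ Cfsg.Geo.IsPlusTypeOn (Cfsg.quadFormPlus d F) W}) :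
    (∀ x : GL (Fin d ⊕ Fin d) F, x ∈ Cfsg.Geo.omegaGL (Cfsg.quadFormPlus d F) →
      (∃ z : F, ((x ^ p : GL (Fin d ⊕ Fin d) F) : Matrix (Fin d ⊕ Fin d) (Fin d ⊕ Fin d) F) = z • (1 : Matrix (Fin d ⊕ Fin d) (Fin d ⊕ Fin d) F)) →
      (∀ z : F, (x : Matrix (Fin d ⊕ Fin d) (Fin d ⊕ Fin d) F) ≠ z • (1 : Matrix (Fin d ⊕ Fin d) (Fin d ⊕ Fin d) F)) →
      ∃ W : Submodule F (Fin d ⊕ Fin d → F), (Module.finrank F ↥W = m ∧ Cfsg.Geo.IsNondegenerateOn (QuadraticMap.polar (Cfsg.quadFormPlus d F)) W ∧ Cfsg.Geo.IsPlusTypeOn (Cfsg.quadFormPlus d F) W) ∧ W.map (Matrix.toLin' (x : Matrix (Fin d ⊕ Fin d) (Fin d ⊕ Fin d) F)) ≤ W) →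
    (∀ μ : Multiset ℕ, (∀ e ∈ μ, 0 < e ∧ e ≤ p) → (∀ e : ℕ, Even e → Even (μ.count e)) → μ.sum = 2 * d →
        ∃ ν : Multiset ℕ, ν ≤ μ ∧ ν.sum = m ∧ ∀ e : ℕ, Even e → Even (ν.count e)) := by
  classical
  intro h μ hμ hμev hsum
  have hpp : p.Prime := Fact.out
  have h2 : (2 : F) ≠ 0 := Cfsg.Agent.Lib.Helper20.OU.two_ne_zero_of_odd_card (by rw [hq]; exact hqodd)
  by_cases hall : ∀ b ∈ μ, b ≤ 1
  · have h1 : ∀ b ∈ μ, b = 1 := fun b hb => by
      have := hμ b hb
      have := hall b hb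
      omega
    have h3 := Multiset.eq_replicate_card.mpr h1
    have h4 : Multiset.card μ = 2 * d := by
      have h5 := hsum
      rw [h3, Multiset.sum_replicate, smul_eq_mul, mul_one] at h5
      exact h5
    rw [h4] at h3
    refine ⟨Multiset.replicate m 1, ?_, by simp, ?_⟩
    · rw [h3]
      exact (Multiset.replicate_le_replicate 1).mpr (by omega)
    · intro e he
      have : e ≠ 1 := by
        rintro rfl
        exact absurd he (by decide)
      rw [Multiset.count_replicate, if_neg (Ne.symm this)]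
      exact Even.zero
  · push Not at hall
    obtain ⟨b₀, hb₀, hb₀1⟩ := hall
    obtain ⟨y, hyΩ, hk⟩ := Cfsg.Agent.Lib.Helper20.OU.exists_unipotent_plus h2 d μ
      (fun e he => (hμ e he).1) hμev hsum
    have hne : Nonempty (Fin d ⊕ Fin d) := ⟨Sum.inl ⟨0, by omega⟩⟩
    have hfin : Module.finrank F (Fin d ⊕ Fin d → F) = μ.sum := by
      rw [hsum, Module.finrank_fintype_fun_eq_card, Fintype.card_sum, Fintype.card_fin]
      ring
    have hNp : (Matrix.toLin' (y : Matrix (Fin d ⊕ Fin d) (Fin d ⊕ Fin d) F) - 1) ^ p = 0 :=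
      Cfsg.Agent.Lib.Helper20.OU.pow_eq_zero_of_kd _ μ hfin hk p (fun b hb => (hμ b hb).2)
    have hyp : y ^ p = 1 := Cfsg.Agent.Lib.Helper20.OU.pow_char_eq_one p y hNp
    have hns := Cfsg.Agent.Lib.Helper20.OU.not_scalar_of_kd y μ hk ⟨p, hNp⟩ ⟨b₀, hb₀, hb₀1⟩
    obtain ⟨W, ⟨hWm, hWnd, -⟩, hWinv⟩ := h y hyΩ
      ⟨1, by rw [hyp, Units.val_one, one_smul]⟩ hns
    have hyiso : y ∈ Cfsg.isometryGroup F ⇑(Cfsg.Agent.Lib.Helper15.plusQF d F) := by
      rw [Cfsg.Agent.Lib.Helper15.coe_plusQF]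
      obtain ⟨x, -, rfl⟩ := Subgroup.mem_map.1 hyΩ
      exact x.2
    have hcard : μ.sum = Fintype.card (Fin d ⊕ Fin d) := by
      rw [hsum, Fintype.card_sum, Fintype.card_fin]
      ring
    have hμ0 : (0 : ℕ) ∉ μ := fun h0 => absurd (hμ 0 h0).1 (lt_irrefl 0)
    obtain ⟨ν, hνμ, hνsum, hνev⟩ := Cfsg.Agent.Lib.Helper20.OU.exists_sub_partition h2
      (Cfsg.Agent.Lib.Helper15.plusQF d F) y hyiso μ hμ0 hcard hk W
      (by rw [Cfsg.Agent.Lib.Helper15.coe_plusQF]; exact hWnd) hWinv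
    exact ⟨ν, hνμ, by rw [hνsum, hWm], hνev⟩

end Cfsg.Agent.S5996
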