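-- Statement S5997.
import Cfsg.Statements.S5997
import Cfsg.Agent.Lib.Helper29.SLTwoConj

set_option autoImplicit false
open scoped MatrixGroups
open Cfsg

namespace Cfsg.Agent.S5997

/-- Elements of prime order of PSL_2(p) and the normalizer of a quaternion subgroup. Here `T = PSL_2(F)` for the field `F` with `p` elements, `p ≥ 5` prime; `R` is a subgroup of GL_2(F) isomorphic to the quaternion group of order 8 (an absolutely irreducible 2-group of symplectic type), and `H` is the subgroup of matrices of determinant 1 normalizing `R` — a subgroup of type 2^{1+2}.O₂⁻(2), isomorphic modulo scalars to A₄ or S₄ (maximality is not assumed). Ω is the set of cosets of `H` in `T`, so an element of `T` of prime order `r` (a matrix `x` of determinant 1 with `x^r` scalar, `x` not scalar) fixes a point of Ω exactly when some conjugate of `x` by a matrix of determinant 1 normalizes `R`. Let `r` be a prime dividing the index of `H`. Then every element of `T` of order `r` fixes a point of Ω if and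 only if `r = 2` or `r = 3`. -/
theorem result {F : Type*} [Field F] [Fintype F] {p : ℕ} [Fact p.Prime] [CharP F p] (hF : Fintype.card F = p) (hp : 5 ≤ p)
    (R : Subgroup (GL (Fin 2) F)) (hR : Nonempty (↥R ≃* QuaternionGroup 2))
    (r : ℕ) [Fact r.Prime]
    (hΩ : r ∣ (Cfsg.Geo.subgroupNormalizer R).relIndex (Cfsg.Geo.specialLinear (Fin 2) F)) :
    (∀ x ∈ Cfsg.Geo.specialLinear (Fin 2) F, (∃ z : F, ((x ^ r : GL (Fin 2) F) : Matrix (Fin 2) (Fin 2) F) = z • (1 : Matrix (Fin 2) (Fin 2) F)) →
      (∀ z : F, (x : Matrix (Fin 2) (Fin 2) F) ≠ z • (1 : Matrix (Fin 2) (Fin 2) F)) →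
      ∃ g ∈ Cfsg.Geo.specialLinear (Fin 2) F, g⁻¹ * x * g ∈ Cfsg.Geo.subgroupNormalizer R) ↔ (r = 2 ∨ r = 3) := by
  classical
  have hpP := (Fact.out : p.Prime)
  have h2 : (2 : F) ≠ 0 := by
    intro h
    have h' : ((2 : ℕ) : F) = 0 := by exact_mod_cast h
    rw [CharP.cast_eq_zero_iff F p] at h'
    have := Nat.le_of_dvd (by norm_num) h'
    omega
  have h3 : (3 : F) ≠ 0 := by
    intro h
    have h' : ((3 : ℕ) : F) = 0 := by exact_mod_cast h
    rw [CharP.cast_eq_zero_iff F p] at h'
    have := Nat.le_of_dvd (by norm_num) h'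
    omega
  have hoddF : Fintype.card F % 2 = 1 := by
    rw [hF]
    rcases hpP.eq_two_or_odd with h | h
    · omega
    · exact h
  obtain ⟨e⟩ := hR
  have hcard : Nat.card R = 8 := by
    rw [Nat.card_congr e.toEquiv, Nat.card_eq_fintype_card, QuaternionGroup.card]
  have hRfin : Finite R := Nat.finite_of_card_ne_zero (by rw [hcard]; norm_num)
  obtain ⟨i, j, hi, hj, hII, hJJ, hJI, hIJne, hgen⟩ := Helper29.SLTwo.quat_facts R e
  have hIns : ∀ z : F, (i : Matrix (Fin 2) (Fin 2) F) ≠ z • (1 : Matrix (Fin 2) (Fin 2) F) := by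
    intro z hz
    apply hIJne
    rw [hz, Matrix.smul_mul, Matrix.mul_smul, one_mul, mul_one]
  have hJns : ∀ z : F, (j : Matrix (Fin 2) (Fin 2) F) ≠ z • (1 : Matrix (Fin 2) (Fin 2) F) := by
    intro z hz
    apply hIJne
    rw [hz, Matrix.smul_mul, Matrix.mul_smul, one_mul, mul_one]
  obtain ⟨hItr, hIdet⟩ := Helper29.SLTwo.tr_det_of_quadratic (i : Matrix (Fin 2) (Fin 2) F) 0 1
    (by rw [hII, zero_smul, one_smul, zero_sub]) hIns
  obtain ⟨hJtr, hJdet⟩ := Helper29.SLTwo.tr_det_of_quadratic (j : Matrix (Fin 2) (Fin 2) F) 0 1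
    (by rw [hJJ, zero_smul, one_smul, zero_sub]) hJns
  have hRN : R ≤ Cfsg.Geo.subgroupNormalizer R := Subgroup.le_normalizer
  have hnegval : ((i * i : GL (Fin 2) F) : Matrix (Fin 2) (Fin 2) F) = -1 := by
    rw [Units.val_mul, hII]
  constructor
  · intro hall
    by_contra hr
    push Not at hr
    obtain ⟨hr2, hr3⟩ := hr
    have hrP := (Fact.out : r.Prime)
    have hr5 : 5 ≤ r := by
      by_contra hlt
      push Not at hlt
      have := hrP.two_le
      interval_cases r
      · exact hr2 rfl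
      · exact hr3 rfl
      · exact absurd hrP (by norm_num)
    have hdiv : r ∣ Nat.card ↥(Cfsg.Geo.specialLinear (Fin 2) F) :=
      dvd_trans hΩ (Subgroup.relIndex_dvd_card _ _)
    obtain ⟨⟨x, hx⟩, hxo⟩ := exists_prime_orderOf_dvd_card' r hdiv
    have hxo' : orderOf x = r := by
      rw [← hxo]; exact (Subgroup.orderOf_coe (⟨x, hx⟩ : ↥(Cfsg.Geo.specialLinear (Fin 2) F)))
    have hxr : x ^ r = 1 := by rw [← hxo', pow_orderOf_eq_one]
    have hxdet : (x : Matrix (Fin 2) (Fin 2) F).det = 1 := (Helper29.SLTwo.mem_sl_iff x).mp hx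
    have hxns : ∀ z : F, (x : Matrix (Fin 2) (Fin 2) F) ≠ z • (1 : Matrix (Fin 2) (Fin 2) F) := by
      intro z hz
      have hz2 : z * z = 1 := by
        have := hxdet
        rw [hz, Matrix.det_smul, Matrix.det_one, Fintype.card_fin, mul_one, pow_two] at this
        exact this
      have hx2 : x ^ 2 = 1 := by
        apply Units.ext
        rw [Units.val_pow_eq_pow_val, pow_two, hz, Matrix.smul_mul, one_mul, smul_smul, hz2, one_smul,
          Units.val_one]
      have := orderOf_dvd_of_pow_eq_one hx2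
      rw [hxo'] at this
      have := Nat.le_of_dvd (by norm_num) this
      omega
    obtain ⟨g, hg, hmem⟩ := hall x hx ⟨1, by rw [hxr, Units.val_one, one_smul]⟩ hxns
    have hyr : (g⁻¹ * x * g) ^ r = 1 := by
      have : ∀ n : ℕ, (g⁻¹ * x * g) ^ n = g⁻¹ * x ^ n * g := by
        intro n
        induction n with
        | zero => simp
        | succ n ih => rw [pow_succ, ih, pow_succ]; group
      rw [this, hxr]; group
    have hyns : ∀ z : F, ((g⁻¹ * x * g : GL (Fin 2) F) : Matrix (Fin 2) (Fin 2) F)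
        ≠ z • (1 : Matrix (Fin 2) (Fin 2) F) := by
      intro z hz
      apply hxns z
      have hxe : x = g * (g⁻¹ * x * g) * g⁻¹ := by group
      rw [hxe, Units.val_mul, Units.val_mul, hz, Matrix.mul_smul, mul_one, Matrix.smul_mul, Units.mul_inv]
    have hneg1 : (i * i : GL (Fin 2) F) ≠ 1 := by
      intro h
      have h' := congrArg (fun t : GL (Fin 2) F => (t : Matrix (Fin 2) (Fin 2) F) 0 0) h
      simp only [hnegval, Units.val_one, Matrix.neg_apply, Matrix.one_apply_eq] at h'
      apply h2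
      linear_combination (-1 : F) * h'
    have hnegc : (g⁻¹ * x * g) * (i * i) = (i * i) * (g⁻¹ * x * g) := by
      apply Units.ext
      rw [Units.val_mul, Units.val_mul (i * i), hnegval, mul_neg, mul_one, neg_mul, one_mul]
    have hcent := Helper29.SLTwo.centralizes_of_pow R hcard (i * i) (R.mul_mem hi hi) hneg1
      (g⁻¹ * x * g) hnegc hmem r hr5 hyr
    have hci := congrArg (fun t : GL (Fin 2) F => (t : Matrix (Fin 2) (Fin 2) F)) (hcent i hi)
    have hcj := congrArg (fun t : GL (Fin 2) F => (t : Matrix (Fin 2) (Fin 2) F)) (hcent j hj)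
    simp only [Units.val_mul] at hci hcj
    rw [← Units.val_mul, ← Units.val_mul] at hci hcj
    exact hIJne (Helper29.SLTwo.comm_of_comm_nonscalar _ _ _ hyns hci.symm hcj.symm)
  · -- the normalising element of order 6
    obtain ⟨u, hutr, hudet, huI, huJ⟩ := Helper29.SLTwo.exists_order_six h2
      (i : Matrix (Fin 2) (Fin 2) F) (j : Matrix (Fin 2) (Fin 2) F) hII hJJ hJI hItr hJtr
    have hui : u * i * u⁻¹ = j := by
      rw [mul_inv_eq_iff_eq_mul]
      exact Units.ext huI
    have huj : u * j * u⁻¹ = i * j := by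
      rw [mul_inv_eq_iff_eq_mul]
      apply Units.ext
      rw [Units.val_mul, Units.val_mul, Units.val_mul]
      exact huJ
    have huN : u ∈ Cfsg.Geo.subgroupNormalizer R :=
      Helper29.SLTwo.quat_normalizer R i j hgen u (hui ▸ hj) (huj ▸ R.mul_mem hi hj)
    have hnuN : (i * i) * u ∈ Cfsg.Geo.subgroupNormalizer R :=
      (Cfsg.Geo.subgroupNormalizer R).mul_mem (hRN (R.mul_mem hi hi)) huN
    have hnuval : (((i * i) * u : GL (Fin 2) F) : Matrix (Fin 2) (Fin 2) F)
        = -(u : Matrix (Fin 2) (Fin 2) F) := by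
      rw [Units.val_mul, hnegval, neg_mul, one_mul]
    have h4 : (4 : F) ≠ 0 := by
      have : (4 : F) = 2 * 2 := by norm_num
      rw [this]; exact mul_ne_zero h2 h2
    rintro (rfl | rfl)
    · -- r = 2
      intro x hx hz hns
      obtain ⟨z, hz⟩ := hz
      have hxdet : (x : Matrix (Fin 2) (Fin 2) F).det = 1 := (Helper29.SLTwo.mem_sl_iff x).mp hx
      rw [Units.val_pow_eq_pow_val, pow_two] at hz
      obtain ⟨hxtr, -⟩ := Helper29.SLTwo.tr_det_of_quadratic (x : Matrix (Fin 2) (Fin 2) F) 0 (-z)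
        (by rw [hz, zero_smul, neg_smul, zero_sub, neg_neg]) hns
      obtain ⟨g, hg, hgx⟩ := Helper29.SLTwo.exists_sl_conj hoddF h2 x i hxdet hIdet 0 hxtr hItr
        (by rw [zero_pow (by norm_num)]; exact fun h => h4 h.symm)
      exact ⟨g, hg, hgx ▸ hRN hi⟩
    · -- r = 3
      intro x hx hz hns
      obtain ⟨z, hz⟩ := hz
      have hxdet : (x : Matrix (Fin 2) (Fin 2) F).det = 1 := (Helper29.SLTwo.mem_sl_iff x).mp hx
      rw [Units.val_pow_eq_pow_val, pow_succ, pow_two] at hz
      have hXX := Helper29.SLTwo.ch2 (x : Matrix (Fin 2) (Fin 2) F)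
      rw [hxdet, one_smul] at hXX
      have h3' : z • (1 : Matrix (Fin 2) (Fin 2) F)
          = (x : Matrix (Fin 2) (Fin 2) F).trace • ((x : Matrix (Fin 2) (Fin 2) F).trace •
              (x : Matrix (Fin 2) (Fin 2) F) - 1) - (x : Matrix (Fin 2) (Fin 2) F) := by
        rw [← hz, hXX, sub_mul, Matrix.smul_mul, hXX, one_mul]
      have h5 : ((x : Matrix (Fin 2) (Fin 2) F).trace * (x : Matrix (Fin 2) (Fin 2) F).trace - 1)
            • (x : Matrix (Fin 2) (Fin 2) F)
          = (z + (x : Matrix (Fin 2) (Fin 2) F).trace) • (1 : Matrix (Fin 2) (Fin 2) F) := by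
        linear_combination (norm := module) (-1 : F) • h3'
      have hττ : (x : Matrix (Fin 2) (Fin 2) F).trace * (x : Matrix (Fin 2) (Fin 2) F).trace = 1 := by
        by_contra hne
        have hne' : (x : Matrix (Fin 2) (Fin 2) F).trace * (x : Matrix (Fin 2) (Fin 2) F).trace - 1 ≠ 0 :=
          sub_ne_zero.mpr hne
        apply hns (((x : Matrix (Fin 2) (Fin 2) F).trace * (x : Matrix (Fin 2) (Fin 2) F).trace - 1)⁻¹
          * (z + (x : Matrix (Fin 2) (Fin 2) F).trace))
        rw [mul_smul, ← h5, inv_smul_smul₀ hne']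
      have hτ4 : ∀ τ : F, τ * τ = 1 → τ ^ 2 ≠ 4 := by
        intro τ hτ h
        apply h3
        rw [pow_two, hτ] at h
        linear_combination (-1 : F) * h
      rcases mul_self_eq_one_iff.mp hττ with h1 | h1
      · obtain ⟨g, hg, hgx⟩ := Helper29.SLTwo.exists_sl_conj hoddF h2 x u hxdet hudet 1 h1 hutr
          (hτ4 1 (by ring))
        exact ⟨g, hg, hgx ▸ huN⟩
      · obtain ⟨g, hg, hgx⟩ := Helper29.SLTwo.exists_sl_conj hoddF h2 x ((i * i) * u) hxdet
          (by rw [hnuval, Matrix.det_neg, Fintype.card_fin, hudet]; norm_num) (-1) h1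
          (by rw [hnuval, Matrix.trace_neg, hutr]) (hτ4 (-1) (by ring))
        exact ⟨g, hg, hgx ▸ hnuN⟩

end Cfsg.Agent.S5997
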