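-- Statement S5998
import Cfsg.Statements.S5998
import Mathlib
import Cfsg.Agent.Lib.Helper6.Heis3G

set_option autoImplicit false
open scoped MatrixGroups
open Cfsg

namespace Cfsg.Agent.S5998

/-- Elements of prime order of PSL_3(p), p ≡ 1 (mod 3), and the normalizer of an extraspecial subgroup of order 27. Here `T = PSL_3(F)` for the field `F` with `p` elements, `p` a prime with `p ≡ 1 (mod 3)`; `R` is a non-abelian subgroup of GL_3(F) of order 27 and exponent 3 (an extraspecial group 3^{1+2}, acting absolutely irreducibly), and `H` is the subgroup of matrices of determinant 1 normalizing `R` — a subgroup of type 3^{1+2}.Sp₂(3) (maximality is not assumed). Ω is the set of cosets of `H` in `T`, so an element of `T` of prime order `r` (a matrix `x` of determinant 1 with `x^r` scalar, `x` not scalar) fixes a point of Ω exactly when some conjugate of `x` by a matrix of determinant 1 normalizes `R`. Let `r` be a prime dividing the index of `H`. Then every element of `T` of order `r` fixes a point of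 Ω if and only if `r = 2`, or `r = 3` and `p ≡ 1 (mod 9)`. -/
theorem result {F : Type*} [Field F] [Fintype F] {p : ℕ} [Fact p.Prime] [CharP F p] (hF : Fintype.card F = p) (hp3 : p % 3 = 1)
    (R : Subgroup (GL (Fin 3) F)) (hR : Nat.card R = 27) (hRe : Monoid.exponent R = 3) (hRna : ¬ IsMulCommutative R)
    (r : ℕ) [Fact r.Prime]
    (hΩ : r ∣ (Cfsg.Geo.subgroupNormalizer R).relIndex (Cfsg.Geo.specialLinear (Fin 3) F)) :
    (∀ x ∈ Cfsg.Geo.specialLinear (Fin 3) F, (∃ z : F, ((x ^ r : GL (Fin 3) F) : Matrix (Fin 3) (Fin 3) F) = z • (1 : Matrix (Fin 3) (Fin 3) F)) →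
      (∀ z : F, (x : Matrix (Fin 3) (Fin 3) F) ≠ z • (1 : Matrix (Fin 3) (Fin 3) F)) →
      ∃ g ∈ Cfsg.Geo.specialLinear (Fin 3) F, g⁻¹ * x * g ∈ Cfsg.Geo.subgroupNormalizer R) ↔ (r = 2 ∨ (r = 3 ∧ p % 9 = 1)) := by
  classical
  have hpP := (Fact.out : p.Prime)
  have hrP := (Fact.out : r.Prime)
  have hp7 : 7 ≤ p := by
    have h2 := hpP.two_le
    by_contra hlt
    push Not at hlt
    interval_cases p <;> first | omega | exact absurd hpP (by norm_num)
  have hnat : ∀ k : ℕ, 0 < k → k < 7 → ((k : ℕ) : F) ≠ 0 := by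
    intro k hk0 hk7 h
    rw [CharP.cast_eq_zero_iff F p] at h
    have := Nat.le_of_dvd hk0 h
    omega
  have h3F : (3 : F) ≠ 0 := by
    have := hnat 3 (by norm_num) (by norm_num)
    exact_mod_cast this
  obtain ⟨γ₀, hγ₀⟩ : ∃ γ : F, γ ^ 2 + γ + 1 = 0 := by
    apply Lib.Helper6.Heis3.exists_gamma
    rw [hF]
    omega
  -- elements of R
  have hRe' : ∀ u ∈ R, u ^ 3 = 1 := by
    intro u hu
    have := Monoid.pow_exponent_eq_one (⟨u, hu⟩ : R)
    rw [hRe] at this
    exact congrArg Subtype.val this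
  obtain ⟨x₀, y₀, hx₀, hy₀, hxy₀⟩ : ∃ x y : GL (Fin 3) F, x ∈ R ∧ y ∈ R ∧ x * y ≠ y * x := by
    by_contra hcon
    push Not at hcon
    apply hRna
    rw [isMulCommutative_iff]
    intro a b
    apply Subtype.ext
    exact hcon a b a.2 b.2
  obtain ⟨γ, hγ, g, hRg⟩ := Lib.Helper6.Heis3.struct γ₀ hγ₀ h3F R hR hRe' x₀ y₀ hx₀ hy₀ hxy₀
  have hcard0 := Lib.Helper6.Heis3.card_R0_of_map γ hγ g R hR hRg
  constructor
  · intro hall
    by_cases hr2 : r = 2
    · left; exact hr2
    by_cases hr3 : r = 3
    · by_cases h9 : p % 9 = 1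
      · right; exact ⟨hr3, h9⟩
      · exfalso
        subst hr3
        -- 81 divides the order of SL_3(p)
        have hRN : R ≤ Cfsg.Geo.subgroupNormalizer R := Subgroup.le_normalizer
        have hRSL : R ≤ Cfsg.Geo.specialLinear (Fin 3) F := by
          rw [hRg]
          rintro _ ⟨u, hu, rfl⟩
          have hu' := Lib.Helper6.Heis3.R0_le_sl γ hγ hu
          show (MulAut.conj g) u ∈ Cfsg.Geo.specialLinear (Fin 3) F
          rw [MulAut.conj_apply]
          unfold Cfsg.Geo.specialLinear at hu' ⊢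
          rw [MonoidHom.mem_ker] at hu' ⊢
          rw [map_mul, map_mul, hu', map_inv]
          simp
        have h27 : 27 ∣ Nat.card ((Cfsg.Geo.subgroupNormalizer R).subgroupOf (Cfsg.Geo.specialLinear (Fin 3) F)) := by
          have h1 : R.subgroupOf (Cfsg.Geo.specialLinear (Fin 3) F) ≤
              (Cfsg.Geo.subgroupNormalizer R).subgroupOf (Cfsg.Geo.specialLinear (Fin 3) F) :=
            Subgroup.subgroupOf_mono _ hRN
          have h2 : Nat.card (R.subgroupOf (Cfsg.Geo.specialLinear (Fin 3) F)) = 27 := by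
            rw [Nat.card_congr (Subgroup.subgroupOfEquivOfLe hRSL).toEquiv, hR]
          rw [← h2]
          exact Subgroup.card_dvd_of_le h1
        have hidx := Subgroup.index_mul_card ((Cfsg.Geo.subgroupNormalizer R).subgroupOf (Cfsg.Geo.specialLinear (Fin 3) F))
        have h81 : 81 ∣ Nat.card (Cfsg.Geo.specialLinear (Fin 3) F) := by
          rw [← hidx]
          have : (81 : ℕ) = 3 * 27 := by norm_num
          rw [this]
          exact Nat.mul_dvd_mul hΩ h27
        rw [Lib.Helper6.Heis3.card_sl3 (p - 1) (by rw [hF]; omega)] at h81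
        exact Lib.Helper6.Heis3.not_81_dvd (p - 1) (by omega) h81
    · exfalso
      have hr5 : 5 ≤ r := by
        have h2 := hrP.two_le
        by_contra hlt
        push Not at hlt
        interval_cases r
        · exact hr2 rfl
        · exact hr3 rfl
        · norm_num at hrP
      have hdvd : r ∣ Nat.card (Cfsg.Geo.specialLinear (Fin 3) F) :=
        dvd_trans hΩ (Subgroup.relIndex_dvd_card _ _)
      obtain ⟨x', hx'⟩ := exists_prime_orderOf_dvd_card' r hdvd
      have hxr : (x' : GL (Fin 3) F) ^ r = 1 := by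
        have := pow_orderOf_eq_one x'
        rw [hx'] at this
        exact congrArg Subtype.val this
      have hx1 : (x' : GL (Fin 3) F) ≠ 1 := by
        intro h
        have : x' = 1 := Subtype.ext h
        rw [this, orderOf_one] at hx'
        omega
      have hns : ∀ z : F, ((x' : GL (Fin 3) F) : Matrix (Fin 3) (Fin 3) F) ≠ z • (1 : Matrix (Fin 3) (Fin 3) F) := by
        intro z hz
        have hd := (Lib.Helper6.Heis3.mem_sl_iff (x' : GL (Fin 3) F)).mp x'.2
        rw [hz, Matrix.det_smul, Matrix.det_one, mul_one] at hd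
        simp only [Fintype.card_fin] at hd
        have hx3 : (x' : GL (Fin 3) F) ^ 3 = 1 := by
          apply Units.ext
          rw [Units.val_pow_eq_pow_val, hz, smul_pow, one_pow, hd, one_smul, Units.val_one]
        have h1 : orderOf (x' : GL (Fin 3) F) ∣ 3 := orderOf_dvd_of_pow_eq_one hx3
        have h2 : orderOf (x' : GL (Fin 3) F) ∣ r := orderOf_dvd_of_pow_eq_one hxr
        have h3 : orderOf (x' : GL (Fin 3) F) ∣ Nat.gcd 3 r := Nat.dvd_gcd h1 h2
        have h4 : Nat.gcd 3 r = 1 := by
          rw [← Nat.coprime_iff_gcd_eq_one, Nat.coprime_primes Nat.prime_three hrP]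
          omega
        rw [h4, Nat.dvd_one, orderOf_eq_one_iff] at h3
        exact hx1 h3
      obtain ⟨h, hh, hn⟩ := hall (x' : GL (Fin 3) F) x'.2 ⟨1, by rw [hxr, Units.val_one, one_smul]⟩ hns
      rw [hRg] at hn
      have hnr : (h⁻¹ * (x' : GL (Fin 3) F) * h) ^ r = 1 := by
        have := Lib.Helper6.Heis3.conj_pow h⁻¹ (x' : GL (Fin 3) F) r
        rw [inv_inv] at this
        rw [this, hxr]; group
      obtain ⟨s, hs⟩ := Lib.Helper6.Heis3.scalar_of_pow γ hγ h3F g hcard0 _ hn r hr5 hnr
      apply hns s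
      have : (x' : GL (Fin 3) F) = h * (h⁻¹ * (x' : GL (Fin 3) F) * h) * h⁻¹ := by group
      rw [this, Units.val_mul, Units.val_mul, hs, Matrix.mul_smul, Matrix.smul_mul, mul_one, ← Units.val_mul,
        mul_inv_cancel, Units.val_one]
  · rintro (hr2 | ⟨hr3, -⟩)
    · subst hr2
      intro x hx ⟨z, hz⟩ hns
      rw [hRg]
      exact Lib.Helper6.Heis3.exists_conj_sq p hp7 γ hγ g x hx z hz hns
    · subst hr3
      intro x hx ⟨z, hz⟩ hns
      rw [hRg]
      exact Lib.Helper6.Heis3.exists_conj_cube p hp7 γ hγ g x hx z hz hns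

end Cfsg.Agent.S5998
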