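-- Statement S5999
import Cfsg.Statements.S5999
import Mathlib
import Cfsg.Agent.Lib.Helper6.HeisU3

set_option autoImplicit false
open scoped MatrixGroups
open Cfsg

namespace Cfsg.Agent.S5999

/-- Elements of prime order of PSU_3(p), p ≡ 2 (mod 3), and the normalizer of an extraspecial subgroup of order 27. Here `T = PSU_3(p)` for a prime `p ≥ 5` with `p ≡ 2 (mod 3)`, realised through `SU_3(p)`, the matrices of determinant 1 over the field `F` with `p²` elements preserving the hermitian form `Σ uᵢvᵢ^p`; `R` is a non-abelian subgroup of order 27 and exponent 3 of the full unitary group of that form (an extraspecial group 3^{1+2}, acting absolutely irreducibly), and `H` is the subgroup of `SU_3(p)` normalizing `R` — a subgroup of type 3^{1+2}.Sp₂(3) (maximality is not assumed). Ω is the set of cosets of `H`, so an element of `T` of prime order `r` (`x ∈ SU_3(p)` with `x^r` scalar, `x` not scalar) fixes a point of Ω exactly when some `SU_3(p)`-conjugate of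 `x` normalizes `R`. Let `r` be a prime dividing the index of `H`. Then every element of `T` of order `r` fixes a point of Ω if and only if `r = 2`, or `r = 3` and `p ≡ 8 (mod 9)`. -/
theorem result {F : Type*} [Field F] [Fintype F] {p : ℕ} [Fact p.Prime] [CharP F p] (hF : Fintype.card F = p ^ 2) (hp : 5 ≤ p) (hp3 : p % 3 = 2)
    (R : Subgroup (GL (Fin 3) F)) (hRU : R ≤ Cfsg.GU 3 F p) (hR : Nat.card R = 27) (hRe : Monoid.exponent R = 3) (hRna : ¬ IsMulCommutative R)
    (r : ℕ) [Fact r.Prime]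
    (hΩ : r ∣ (Cfsg.Geo.subgroupNormalizer R).relIndex (Cfsg.GU 3 F p ⊓ Cfsg.Geo.specialLinear (Fin 3) F)) :
    (∀ x ∈ Cfsg.GU 3 F p ⊓ Cfsg.Geo.specialLinear (Fin 3) F, (∃ z : F, ((x ^ r : GL (Fin 3) F) : Matrix (Fin 3) (Fin 3) F) = z • (1 : Matrix (Fin 3) (Fin 3) F)) →
      (∀ z : F, (x : Matrix (Fin 3) (Fin 3) F) ≠ z • (1 : Matrix (Fin 3) (Fin 3) F)) →
      ∃ g ∈ Cfsg.GU 3 F p ⊓ Cfsg.Geo.specialLinear (Fin 3) F, g⁻¹ * x * g ∈ Cfsg.Geo.subgroupNormalizer R) ↔ (r = 2 ∨ (r = 3 ∧ p % 9 = 8)) := by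
  classical
  have hpP := (Fact.out : p.Prime)
  have hrP := (Fact.out : r.Prime)
  have h3dvd : 3 ∣ p + 1 := by omega
  have hnat : ∀ k : ℕ, 0 < k → k < 5 → ((k : ℕ) : F) ≠ 0 := by
    intro k hk0 hk7 h
    rw [CharP.cast_eq_zero_iff F p] at h
    have := Nat.le_of_dvd hk0 h
    omega
  have h3F : (3 : F) ≠ 0 := by
    have := hnat 3 (by norm_num) (by norm_num)
    exact_mod_cast this
  obtain ⟨γ₀, hγ₀⟩ : ∃ γ : F, γ ^ 2 + γ + 1 = 0 := by
    apply Lib.Helper6.Heis3.exists_gamma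
    rw [hF]
    obtain ⟨k, rfl⟩ : ∃ k, p = 3 * k + 2 := ⟨p / 3, by omega⟩
    refine ⟨3 * k ^ 2 + 4 * k + 1, ?_⟩
    have : (3 * k + 2) ^ 2 = 3 * (3 * k ^ 2 + 4 * k + 1) + 1 := by ring
    omega
  have hRe' : ∀ u ∈ R, u ^ 3 = 1 := by
    intro u hu
    have := Monoid.pow_exponent_eq_one (⟨u, hu⟩ : R)
    rw [hRe] at this
    exact congrArg Subtype.val this
  obtain ⟨x₀, y₀, hx₀, hy₀, hxy₀⟩ : ∃ x y : GL (Fin 3) F, x ∈ R ∧ y ∈ R ∧ x * y ≠ y * x := by
    by_contra hcon
    push Not at hcon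
    apply hRna
    rw [isMulCommutative_iff]
    intro a b
    apply Subtype.ext
    exact hcon a b a.2 b.2
  obtain ⟨γ, hγ, g₀, hRg₀⟩ := Lib.Helper6.Heis3.struct γ₀ hγ₀ h3F R hR hRe' x₀ y₀ hx₀ hy₀ hxy₀
  obtain ⟨g, hgU, hgg₀⟩ := Lib.Helper6.HeisU.exists_unitary_conj hF γ hγ h3F h3dvd g₀ (by rw [← hRg₀]; exact hRU)
  have hRg : R = (Lib.Helper6.Heis3.R0 γ hγ).map (MulAut.conj g).toMonoidHom := by rw [hgg₀]; exact hRg₀
  have hcard0 := Lib.Helper6.Heis3.card_R0_of_map γ hγ g R hR hRg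
  constructor
  · intro hall
    by_cases hr2 : r = 2
    · left; exact hr2
    by_cases hr3 : r = 3
    · by_cases h9 : p % 9 = 8
      · right; exact ⟨hr3, h9⟩
      · exfalso
        subst hr3
        have hRN : R ≤ Cfsg.Geo.subgroupNormalizer R := Subgroup.le_normalizer
        have hRSL : R ≤ Cfsg.Geo.specialLinear (Fin 3) F := by
          rw [hRg]
          rintro _ ⟨u, hu, rfl⟩
          have hu' := Lib.Helper6.Heis3.R0_le_sl γ hγ hu
          show (MulAut.conj g) u ∈ Cfsg.Geo.specialLinear (Fin 3) F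
          rw [MulAut.conj_apply]
          unfold Cfsg.Geo.specialLinear at hu' ⊢
          rw [MonoidHom.mem_ker] at hu' ⊢
          rw [map_mul, map_mul, hu', map_inv]
          simp
        have hRS : R ≤ Cfsg.GU 3 F p ⊓ Cfsg.Geo.specialLinear (Fin 3) F := le_inf hRU hRSL
        have h27 : 27 ∣ Nat.card ((Cfsg.Geo.subgroupNormalizer R).subgroupOf (Cfsg.GU 3 F p ⊓ Cfsg.Geo.specialLinear (Fin 3) F)) := by
          have h1 : R.subgroupOf (Cfsg.GU 3 F p ⊓ Cfsg.Geo.specialLinear (Fin 3) F) ≤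
              (Cfsg.Geo.subgroupNormalizer R).subgroupOf (Cfsg.GU 3 F p ⊓ Cfsg.Geo.specialLinear (Fin 3) F) :=
            Subgroup.subgroupOf_mono _ hRN
          have h2 : Nat.card (R.subgroupOf (Cfsg.GU 3 F p ⊓ Cfsg.Geo.specialLinear (Fin 3) F)) = 27 := by
            rw [Nat.card_congr (Subgroup.subgroupOfEquivOfLe hRS).toEquiv, hR]
          rw [← h2]
          exact Subgroup.card_dvd_of_le h1
        have hidx := Subgroup.index_mul_card ((Cfsg.Geo.subgroupNormalizer R).subgroupOf (Cfsg.GU 3 F p ⊓ Cfsg.Geo.specialLinear (Fin 3) F))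
        have h81 : 81 ∣ Nat.card (Cfsg.GU 3 F p ⊓ Cfsg.Geo.specialLinear (Fin 3) F : Subgroup (GL (Fin 3) F)) := by
          rw [← hidx]
          have : (81 : ℕ) = 3 * 27 := by norm_num
          rw [this]
          exact Nat.mul_dvd_mul hΩ h27
        have hc := Lib.Helper6.HeisU.card_SUg (F := F) hF
        have hc' : Nat.card (Cfsg.GU 3 F p ⊓ Cfsg.Geo.specialLinear (Fin 3) F : Subgroup (GL (Fin 3) F)) =
            p ^ 3 * ((p ^ 2 - 1) * (p ^ 3 + 1)) := by
          have : (p + 1) * Nat.card (Cfsg.GU 3 F p ⊓ Cfsg.Geo.specialLinear (Fin 3) F : Subgroup (GL (Fin 3) F)) =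
              (p + 1) * (p ^ 3 * ((p ^ 2 - 1) * (p ^ 3 + 1))) := by
            rw [hc]; ring
          exact Nat.eq_of_mul_eq_mul_left (by omega) this
        rw [hc'] at h81
        exact Lib.Helper6.HeisU.not_81_dvd_su (by omega) h81
    · exfalso
      have hr5 : 5 ≤ r := by
        have h2 := hrP.two_le
        by_contra hlt
        push Not at hlt
        interval_cases r
        · exact hr2 rfl
        · exact hr3 rfl
        · norm_num at hrP
      have hdvd : r ∣ Nat.card (Cfsg.GU 3 F p ⊓ Cfsg.Geo.specialLinear (Fin 3) F : Subgroup (GL (Fin 3) F)) :=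
        dvd_trans hΩ (Subgroup.relIndex_dvd_card _ _)
      obtain ⟨x', hx'⟩ := exists_prime_orderOf_dvd_card' r hdvd
      have hxr : (x' : GL (Fin 3) F) ^ r = 1 := by
        have := pow_orderOf_eq_one x'
        rw [hx'] at this
        exact congrArg Subtype.val this
      have hx1 : (x' : GL (Fin 3) F) ≠ 1 := by
        intro h
        have : x' = 1 := Subtype.ext h
        rw [this, orderOf_one] at hx'
        omega
      have hns : ∀ z : F, ((x' : GL (Fin 3) F) : Matrix (Fin 3) (Fin 3) F) ≠ z • (1 : Matrix (Fin 3) (Fin 3) F) := by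
        intro z hz
        have hd := (Lib.Helper6.Heis3.mem_sl_iff (x' : GL (Fin 3) F)).mp x'.2.2
        rw [hz, Matrix.det_smul, Matrix.det_one, mul_one] at hd
        simp only [Fintype.card_fin] at hd
        have hx3 : (x' : GL (Fin 3) F) ^ 3 = 1 := by
          apply Units.ext
          rw [Units.val_pow_eq_pow_val, hz, smul_pow, one_pow, hd, one_smul, Units.val_one]
        have h1 : orderOf (x' : GL (Fin 3) F) ∣ 3 := orderOf_dvd_of_pow_eq_one hx3
        have h2 : orderOf (x' : GL (Fin 3) F) ∣ r := orderOf_dvd_of_pow_eq_one hxr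
        have h3 : orderOf (x' : GL (Fin 3) F) ∣ Nat.gcd 3 r := Nat.dvd_gcd h1 h2
        have h4 : Nat.gcd 3 r = 1 := by
          rw [← Nat.coprime_iff_gcd_eq_one, Nat.coprime_primes Nat.prime_three hrP]
          omega
        rw [h4, Nat.dvd_one, orderOf_eq_one_iff] at h3
        exact hx1 h3
      obtain ⟨h, hh, hn⟩ := hall (x' : GL (Fin 3) F) x'.2 ⟨1, by rw [hxr, Units.val_one, one_smul]⟩ hns
      rw [hRg] at hn
      have hnr : (h⁻¹ * (x' : GL (Fin 3) F) * h) ^ r = 1 := by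
        have := Lib.Helper6.Heis3.conj_pow h⁻¹ (x' : GL (Fin 3) F) r
        rw [inv_inv] at this
        rw [this, hxr]; group
      obtain ⟨s, hs⟩ := Lib.Helper6.Heis3.scalar_of_pow γ hγ h3F g hcard0 _ hn r hr5 hnr
      apply hns s
      have : (x' : GL (Fin 3) F) = h * (h⁻¹ * (x' : GL (Fin 3) F) * h) * h⁻¹ := by group
      rw [this, Units.val_mul, Units.val_mul, hs, Matrix.mul_smul, Matrix.smul_mul, mul_one, ← Units.val_mul,
        mul_inv_cancel, Units.val_one]
  · rintro (hr2 | ⟨hr3, -⟩)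
    · subst hr2
      intro x hx ⟨z, hz⟩ hns
      rw [hRg]
      exact Lib.Helper6.HeisU.exists_conj_sq hF hp hp3 γ hγ g x hgU hx z hz hns
    · subst hr3
      intro x hx ⟨z, hz⟩ hns
      rw [hRg]
      exact Lib.Helper6.HeisU.exists_conj_cube hF hp hp3 γ hγ g x hgU hx z hz hns

end Cfsg.Agent.S5999
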