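import Cfsg.Statements.S6000
import Cfsg.Agent.Lib.Helper22.ES64P

set_option autoImplicit false
open scoped MatrixGroups
open Cfsg

namespace Cfsg.Agent.S6000

open Cfsg.Agent.Lib.Helper22.ES64 in
theorem order_of_mod_five (p : ℕ) (h : p % 5 = 2 ∨ p % 5 = 3) : orderOf (p : ZMod 5) = 4 := by
  rw [← ZMod.natCast_mod p 5]
  rcases h with h | h <;> rw [h]
  · rw [orderOf_eq_iff (by norm_num)]
    decide
  · rw [orderOf_eq_iff (by norm_num)]
    decide

/-- Elements of prime order of PSL_4(p), p ≡ 1 (mod 4), and the normalizer of a 2-group of symplectic type of order 2⁶. Here `T = PSL_4(F)` for the field `F` with `p` elements, `p` a prime with `p ≡ 1 (mod 4)`; `R` is an absolutely irreducible subgroup of GL_4(F) of order 2⁶ that is a 2-group of symplectic type of exponent 4 with centre of order 4 (the central product of the scalars of order 4 with an extraspecial group 2^{1+4}), and `H` is the subgroup of matrices of determinant 1 normalizing `R` — a subgroup of type 2⁴.Sp₄(2) (maximality is not assumed). Ω is the set of cosets of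 `H` in `T`, so an element of `T` of prime order `r` (a matrix `x` of determinant 1 with `x^r` scalar, `x` not scalar) fixes a point of Ω exactly when some conjugate of `x` by a matrix of determinant 1 normalizes `R`. Let `r` be a prime dividing the index of `H`. Then every element of `T` of order `r` fixes a point of Ω if and only if `r = 2`, or `r = 3` and `p ≡ 2 (mod 3)`, or `r = 5` and `p ≡ ±2 (mod 5)` (`p` has multiplicative order 4 modulo 5). -/
theorem result {F : Type*} [Field F] [Fintype F] {p : ℕ} [Fact p.Prime] [CharP F p] (hF : Fintype.card F = p) (hp4 : p % 4 = 1)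
    (R : Subgroup (GL (Fin 4) F)) (hR : Cfsg.Geo.IsLinearSymplecticTypeData 2 R) (hR6 : Nat.card R = 2 ^ 6)
    (r : ℕ) [Fact r.Prime]
    (hΩ : r ∣ (Cfsg.Geo.subgroupNormalizer R).relIndex (Cfsg.Geo.specialLinear (Fin 4) F)) :
    (∀ x ∈ Cfsg.Geo.specialLinear (Fin 4) F, (∃ z : F, ((x ^ r : GL (Fin 4) F) : Matrix (Fin 4) (Fin 4) F) = z • (1 : Matrix (Fin 4) (Fin 4) F)) →
      (∀ z : F, (x : Matrix (Fin 4) (Fin 4) F) ≠ z • (1 : Matrix (Fin 4) (Fin 4) F)) →
      ∃ g ∈ Cfsg.Geo.specialLinear (Fin 4) F, g⁻¹ * x * g ∈ Cfsg.Geo.subgroupNormalizer R) ↔ (r = 2 ∨ (r = 3 ∧ p % 3 = 2) ∨ (r = 5 ∧ orderOf (p : ZMod 5) = 4)) := by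
  classical
  obtain ⟨ζ, hd⟩ := Cfsg.Agent.Lib.Helper22.ES64.data_of_hyp R hR hR6
  obtain ⟨zg, gd⟩ := Cfsg.Agent.Lib.Helper22.ES64.gdata_of_data hd
  obtain ⟨a₁, b₁, a₂, b₂, B⟩ := Cfsg.Agent.Lib.Helper22.ES64.exists_basis gd
  have hp : 4 < p := Cfsg.Agent.Lib.Helper22.ES64.four_lt_of_mod_four p hp4
  have hpp : p.Prime := Fact.out
  have hrp : r.Prime := Fact.out
  unfold Cfsg.Geo.subgroupNormalizer at hΩ ⊢
  constructor
  · intro hall
    by_cases h2 : r = 2
    · left; exact h2
    by_cases h3 : r = 3
    · right; left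
      refine ⟨h3, ?_⟩
      subst h3
      by_contra hne
      have h30 : p % 3 ≠ 0 := by
        intro h0
        have h1 : 3 ∣ p := Nat.dvd_of_mod_eq_zero h0
        have := (Nat.prime_dvd_prime_iff_eq (by norm_num) hpp).mp h1
        omega
      have h31 : p % 3 = 1 := by omega
      exact gd.three_false p hF hp4 h31 hall
    by_cases h5 : r = 5
    · right; right
      refine ⟨h5, ?_⟩
      subst h5
      by_contra hne
      by_cases hp5 : p = 5
      · subst hp5
        exact gd.char_five_false hall
      · have h50 : p % 5 ≠ 0 := by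
          intro h0
          have h1 : 5 ∣ p := Nat.dvd_of_mod_eq_zero h0
          have := (Nat.prime_dvd_prime_iff_eq (by norm_num) hpp).mp h1
          omega
        have h51 : p % 5 = 1 ∨ p % 5 = 4 := by
          by_contra hcon
          apply hne
          apply order_of_mod_five
          omega
        exact gd.five_false p hp4 h51 hall
    · exfalso
      have hr7 : 7 ≤ r := by
        have h2le := hrp.two_le
        by_contra hcon
        push Not at hcon
        interval_cases r
        · exact h2 rfl
        · exact h3 rfl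
        · exact absurd hrp (by decide)
        · exact h5 rfl
        · exact absurd hrp (by decide)
      exact gd.large_prime_false r hr7 hΩ hall
  · rintro (rfl | ⟨rfl, hp3⟩ | ⟨rfl, hp5⟩)
    · intro x hx ⟨z, hz⟩ _
      exact B.conj_two p hp4 x hx z hz
    · intro x hx ⟨z, hz⟩ _
      exact B.conj_three p hF hp4 hp3 x hx z hz
    · intro x hx ⟨z, hz⟩ _
      exact B.conj_five p hF hp4 hp5 x hx z hz

end Cfsg.Agent.S6000
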